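-- Statement S0040: Sylow subgroups of Frobenius complements are cyclic or generalized quaternion.
import Mathlib
import Cfsg.Statements.S0040
import Cfsg.Agent.S0016
import Cfsg.Agent.Lib.Helper95.FrobCompl

set_option autoImplicit false
open Cfsg

namespace Cfsg.Agent.S0040

/-- A finite `p`-group without two independent commuting elements of order `p` has at most one
subgroup of order `p`. -/
lemma unique_of_no_rank_two {Q : Type*} [Group Q] [Finite Q] (p : ℕ) [Fact p.Prime]
    (hQ : IsPGroup p Q)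
    (hno : ∀ x z : Q, x * z = z * x → x ^ p = 1 → z ^ p = 1 →
      (∀ i j : ℕ, x ^ i * z ^ j = 1 → p ∣ i ∧ p ∣ j) → False) :
    ∀ A B : Subgroup Q, Nat.card A = p → Nat.card B = p → A = B := by
  have hp : p.Prime := Fact.out
  intro A B hA hB
  by_contra hAB
  have hnt : Nontrivial Q := by
    by_contra h
    rw [not_nontrivial_iff_subsingleton] at h
    have h1 : Nat.card A ≤ 1 := Finite.card_le_one_iff_subsingleton.mpr inferInstance
    rw [hA] at h1
    exact absurd h1 (by have := hp.two_le; omega)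
  have hcn : Nontrivial (Subgroup.center Q) := hQ.center_nontrivial
  have hcp : IsPGroup p (Subgroup.center Q) := hQ.to_subgroup _
  have hdvd : p ∣ Nat.card (Subgroup.center Q) := by
    obtain ⟨k, hk⟩ := IsPGroup.iff_card.mp hcp
    rw [hk]
    have hk0 : k ≠ 0 := by
      rintro rfl
      rw [pow_zero] at hk
      have h1 := Finite.one_lt_card (α := Subgroup.center Q)
      omega
    exact dvd_pow_self p hk0
  obtain ⟨z0, hz0⟩ := exists_prime_orderOf_dvd_card' p hdvd
  have hzc : (z0 : Q) ∈ Subgroup.center Q := z0.2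
  have hzo : orderOf (z0 : Q) = p := by rw [Subgroup.orderOf_coe, hz0]
  generalize (z0 : Q) = z at hzc hzo
  have hzp : z ^ p = 1 := by
    rw [← hzo]
    exact pow_orderOf_eq_one z
  obtain ⟨X, hX, hXz⟩ : ∃ X : Subgroup Q, Nat.card X = p ∧ X ≠ Subgroup.zpowers z := by
    by_cases h : A = Subgroup.zpowers z
    · exact ⟨B, hB, fun h' => hAB (h.trans h'.symm)⟩
    · exact ⟨A, hA, h⟩
  have hXne : X ≠ ⊥ := by
    intro h
    rw [h, Subgroup.card_bot] at hX
    exact hp.one_lt.ne hX
  obtain ⟨x, hxX, hx1⟩ : ∃ x : Q, x ∈ X ∧ x ≠ 1 := by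
    obtain ⟨x, hx⟩ := (Subgroup.ne_bot_iff_exists_ne_one).mp hXne
    exact ⟨(x : Q), x.2, fun h => hx (Subtype.ext h)⟩
  have hxp : x ^ p = 1 := by
    have h1 : (⟨x, hxX⟩ : X) ^ Nat.card X = 1 := pow_card_eq_one'
    rw [hX] at h1
    exact congrArg Subtype.val h1
  have hxo : orderOf x = p := orderOf_eq_prime hxp hx1
  have hXx : Subgroup.zpowers x = X :=
    Subgroup.eq_of_le_of_card_ge (Subgroup.zpowers_le.mpr hxX) (by rw [Nat.card_zpowers, hxo, hX])
  apply hno x z (Subgroup.mem_center_iff.mp hzc x) hxp hzp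
  intro i j hij
  have hpi : p ∣ i := by
    by_contra hpi
    apply hXz
    rw [← hXx]
    apply Subgroup.eq_of_le_of_card_ge
    · rw [Subgroup.zpowers_le]
      obtain ⟨m, -, hm⟩ := Nat.exists_mul_mod_eq_one_of_coprime
        ((Nat.Prime.coprime_iff_not_dvd hp).mpr hpi).symm hp.one_lt
      have h1 : x = (x ^ i) ^ m := by
        rw [← pow_mul, pow_eq_pow_mod (i * m) hxp, hm, pow_one]
      have h2 : x ^ i = (z ^ j)⁻¹ := eq_inv_of_mul_eq_one_left hij
      rw [h1, h2]
      exact pow_mem (inv_mem (pow_mem (Subgroup.mem_zpowers z) j)) m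
    · rw [Nat.card_zpowers, Nat.card_zpowers, hxo, hzo]
  refine ⟨hpi, ?_⟩
  obtain ⟨i', rfl⟩ := hpi
  rw [pow_mul, hxp, one_pow, one_mul] at hij
  rw [← hzo]
  exact orderOf_dvd_of_pow_eq_one hij

/-- Sylow subgroups of Frobenius complements: if H complements a nontrivial normal subgroup K and every nonidentity element of H has trivial centraliser in K, then each Sylow subgroup of H is cyclic or isomorphic to a generalized quaternion group. -/
theorem result {G : Type*} [Group G] [Finite G] (K H : Subgroup G) [K.Normal]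
    (hc : Subgroup.IsComplement' K H) (hK : K ≠ ⊥) (hfpf : ∀ h ∈ H, h ≠ 1 → K ⊓ Subgroup.centralizer {h} = ⊥)
    (p : ℕ) [Fact p.Prime] (P : Sylow p H) :
    IsCyclic P ∨ ∃ n : ℕ, Nonempty (P ≃* QuaternionGroup (2 ^ n)) := by
  have huniq : ∀ A B : Subgroup ↥(P : Subgroup ↥H), Nat.card A = p → Nat.card B = p → A = B := by
    apply unique_of_no_rank_two p P.isPGroup'
    intro x z hxz hxp hzp hind
    apply Cfsg.Agent.Lib.Helper95.FrobCompl.no_rank_two K hK p (((x : ↥H) : G)) (((z : ↥H) : G))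
    · exact congrArg (fun t : ↥(P : Subgroup ↥H) => ((t : ↥H) : G)) hxz
    · exact congrArg (fun t : ↥(P : Subgroup ↥H) => ((t : ↥H) : G)) hxp
    · exact congrArg (fun t : ↥(P : Subgroup ↥H) => ((t : ↥H) : G)) hzp
    · intro i j hij k hk hcomm
      have hne : (((x ^ i * z ^ j : ↥(P : Subgroup ↥H)) : ↥H) : G) ≠ 1 := by
        intro h
        apply hij
        apply hind i j
        apply Subtype.ext
        apply Subtype.ext
        exact h
      have hH : (((x ^ i * z ^ j : ↥(P : Subgroup ↥H)) : ↥H) : G) ∈ H :=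
        ((x ^ i * z ^ j : ↥(P : Subgroup ↥H)) : ↥H).2
      have h1 := hfpf _ hH hne
      have h2 : k ∈ K ⊓ Subgroup.centralizer {(((x ^ i * z ^ j : ↥(P : Subgroup ↥H)) : ↥H) : G)} := by
        refine Subgroup.mem_inf.mpr ⟨hk, ?_⟩
        rw [Subgroup.mem_centralizer_singleton_iff]
        exact hcomm.symm
      rw [h1, Subgroup.mem_bot] at h2
      exact h2
  rcases Cfsg.Agent.S0016.result (G := ↥(P : Subgroup ↥H)) p P.isPGroup' huniq with h | ⟨_, h⟩
  · exact Or.inl h
  · exact Or.inr h

end Cfsg.Agent.S0040
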