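import Mathlib
import Cfsg.Statements.S4207
import Cfsg.Agent.Lib.Helper70.Frattini

set_option autoImplicit false
open Cfsg

namespace Cfsg.Agent.S4207

open Cfsg.Agent.Lib.Helper70 in
/-- Let `P` be a group of order `p^n` whose Frattini subgroup has index `p^r`. Then any group of automorphisms of `P` each of which induces the identity on the Frattini quotient has order dividing `p^(r(n-r))`; in particular it is a `p`-group. -/
theorem result {P : Type*} [Group P] [Finite P] {p n r : ℕ} [Fact p.Prime] (hP : Nat.card P = p ^ n) (hr : (frattini P).index = p ^ r) (A : Subgroup (MulAut P)) (hA : ∀ α ∈ A, ∀ x : P, α x * x⁻¹ ∈ frattini P) : Nat.card A ∣ p ^ (r * (n - r)) := by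
  have hp : p.Prime := Fact.out
  -- order of the Frattini subgroup
  have hmul : Nat.card (frattini P) * p ^ r = p ^ n := by
    rw [← hr, ← hP]
    exact (frattini P).card_mul_index
  have hrn : r ≤ n := by
    have h1 : p ^ r ∣ p ^ n := Dvd.intro_left _ hmul
    exact (Nat.pow_dvd_pow_iff_le_right hp.one_lt).mp h1
  have hΦ : Nat.card (frattini P) = p ^ (n - r) := by
    have h1 : p ^ (n - r) * p ^ r = p ^ n := by
      rw [← pow_add]
      congr 1
      omega
    exact Nat.eq_of_mul_eq_mul_right (pow_pos hp.pos r) (hmul.trans h1.symm)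
  -- generators of the Frattini quotient
  have hQ : Nat.card (P ⧸ frattini P) ∣ p ^ r := by
    rw [← hr]
    exact dvd_of_eq rfl
  obtain ⟨g, hg⟩ := exists_gen p r (P ⧸ frattini P) hQ
  -- the action on tuples over `g`
  let Ω := {f : Fin r → P // ∀ i, (QuotientGroup.mk (f i) : P ⧸ frattini P) = g i}
  have hmk : ∀ α ∈ A, ∀ x : P, (QuotientGroup.mk (α x) : P ⧸ frattini P) = QuotientGroup.mk x := by
    intro α hα x
    rw [QuotientGroup.eq_iff_div_mem, div_eq_mul_inv]
    exact hA α hα x
  let _ : MulAction A Ω :=
    { smul := fun α f => ⟨fun i => (α : MulAut P) (f.1 i), fun i => by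
        rw [hmk α.1 α.2]
        exact f.2 i⟩
      one_smul := fun f => Subtype.ext (funext fun i => rfl)
      mul_smul := fun α β f => Subtype.ext (funext fun i => rfl) }
  have hfree : ∀ f : Ω, MulAction.stabilizer A f = ⊥ := by
    intro f
    rw [eq_bot_iff]
    intro α hα
    rw [MulAction.mem_stabilizer_iff] at hα
    have h1 : ∀ i, (α : MulAut P) (f.1 i) = f.1 i := fun i => congrFun (congrArg Subtype.val hα) i
    have hgen : Subgroup.closure (Set.range f.1) = ⊤ := closure_eq_top_of_mk g hg f.1 f.2
    have h2 : ((α : MulAut P) : P ≃* P).toMonoidHom = MonoidHom.id P := by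
      apply MonoidHom.eq_of_eqOn_dense hgen
      rintro _ ⟨i, rfl⟩
      exact h1 i
    rw [Subgroup.mem_bot]
    apply Subtype.ext
    ext x
    exact congrArg (fun φ : P →* P => φ x) h2
  have hdvd := card_dvd_of_free hfree
  have hcard : Nat.card Ω = p ^ (r * (n - r)) := by
    rw [card_fiber (frattini P) r g, hΦ, ← pow_mul, mul_comm]
  rw [← hcard]
  exact hdvd

end Cfsg.Agent.S4207
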