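import Mathlib
import Cfsg.Statements.S4238
import Cfsg.Agent.S4207
import Cfsg.Agent.Lib.Helper54.Frobenius
import Cfsg.Agent.Lib.Helper55.Cores
import Cfsg.Agent.Lib.Helper63.PLength
import Cfsg.Agent.Lib.Helper70.FrattiniQuot
import Cfsg.Agent.Lib.Helper1.Hall

set_option autoImplicit false
open Cfsg

namespace Cfsg.Agent.S4238

open Cfsg.Agent.Lib.Helper54

universe u

/-- The property required of a section. -/
def PropE (p : ℕ) (K : Type*) [Group K] : Prop :=
  Cfsg.pPrimeCore p K = ⊥ → ∃ k : K, orderOf k = Monoid.exponent K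

/-- The property for all sections of a group. -/
def SecE (p : ℕ) (G : Type*) [Group G] : Prop :=
  ∀ (H : Subgroup G) (N : Subgroup H) [N.Normal], PropE p (H ⧸ N)

theorem propE_of_equiv {p : ℕ} {K K' : Type*} [Group K] [Group K'] [Finite K]
    (e : K ≃* K') (h : PropE p K) : PropE p K' := by
  intro hK'
  have hK : Cfsg.pPrimeCore p K = ⊥ := by
    have h1 : ((Cfsg.pPrimeCore p K).map e.toMonoidHom).Normal :=
      Subgroup.Normal.map inferInstance _ e.surjective
    have h2 : (Nat.card ((Cfsg.pPrimeCore p K).map e.toMonoidHom)).Coprime p := by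
      rw [Subgroup.card_map_of_injective (f := e.toMonoidHom) e.injective]
      exact Cfsg.Agent.Lib.Helper55.pPrimeCore_coprime p K
    have h3 := Cfsg.Agent.Lib.Helper63.le_pPrimeCore' h1 h2
    rw [hK', le_bot_iff] at h3
    exact (Subgroup.map_eq_bot_iff_of_injective _ (f := e.toMonoidHom) e.injective).mp h3
  obtain ⟨k, hk⟩ := h hK
  refine ⟨e k, ?_⟩
  rw [MulEquiv.orderOf_eq, hk]
  exact Monoid.exponent_eq_of_mulEquiv e

theorem exists_orderOf_eq_exponent_of_pgroup {p : ℕ} [Fact p.Prime] {K : Type*} [Group K]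
    [Finite K] (hK : IsPGroup p K) : ∃ k : K, orderOf k = Monoid.exponent K := by
  have hp : p.Prime := Fact.out
  obtain ⟨x, hx⟩ := Finite.exists_max (fun k : K => orderOf k)
  refine ⟨x, ?_⟩
  apply Nat.dvd_antisymm (Monoid.order_dvd_exponent x)
  apply Monoid.exponent_dvd_of_forall_pow_eq_one
  intro y
  apply orderOf_dvd_iff_pow_eq_one.mp
  obtain ⟨a, ha⟩ := (IsPGroup.iff_orderOf.mp hK) x
  obtain ⟨b, hb⟩ := (IsPGroup.iff_orderOf.mp hK) y
  have hle := hx y
  rw [ha, hb] at hle ⊢
  exact pow_dvd_pow p ((Nat.pow_le_pow_iff_right hp.one_lt).mp hle)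

theorem forward {G : Type u} [Group G] [Finite G] (p : ℕ) [Fact p.Prime]
    (h : Cfsg.HasNormalPComplement p G) (H : Subgroup G) (N : Subgroup H) [N.Normal] :
    PropE p (H ⧸ N) := by
  intro hcore
  have hp : p.Prime := Fact.out
  obtain ⟨M, hM⟩ := hasNormalPComplement_iff.mp h
  obtain ⟨hn, hcop, k, hk⟩ := hM.subgroupOf H
  have h1 : ((M.subgroupOf H).map (QuotientGroup.mk' N)).Normal :=
    Subgroup.Normal.map hn _ (QuotientGroup.mk'_surjective N)
  have h2 : (Nat.card ((M.subgroupOf H).map (QuotientGroup.mk' N))).Coprime p :=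
    Nat.Coprime.coprime_dvd_left (Subgroup.card_map_dvd _ (QuotientGroup.mk' N)) hcop
  have h3 := Cfsg.Agent.Lib.Helper63.le_pPrimeCore' h1 h2
  rw [hcore, le_bot_iff] at h3
  have h4 : ((M.subgroupOf H).map (QuotientGroup.mk' N)).index ∣ p ^ k := by
    rw [← hk]
    exact Subgroup.index_map_dvd _ (QuotientGroup.mk'_surjective N)
  rw [h3, Subgroup.index_bot] at h4
  obtain ⟨j, -, hj⟩ := (Nat.dvd_prime_pow hp).mp h4
  exact exists_orderOf_eq_exponent_of_pgroup (IsPGroup.of_card hj)

theorem secE_subgroup {p : ℕ} {G : Type u} [Group G] [Finite G] (h : SecE p G) (L : Subgroup G) :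
    SecE p ↥L := by
  intro H₁ N₁ hN₁
  obtain ⟨e, he⟩ : ∃ e : ↥H₁ ≃* ↥(H₁.map L.subtype),
      e = H₁.equivMapOfInjective L.subtype L.subtype_injective := ⟨_, rfl⟩
  have hn : (N₁.map e.toMonoidHom).Normal := Subgroup.Normal.map hN₁ _ e.surjective
  have h1 := h (H₁.map L.subtype) (N₁.map e.toMonoidHom)
  exact propE_of_equiv (QuotientGroup.congr N₁ (N₁.map e.toMonoidHom) e rfl).symm h1

theorem secE_quotient {p : ℕ} {G : Type u} [Group G] [Finite G] (h : SecE p G) (N : Subgroup G)
    [N.Normal] : SecE p (G ⧸ N) := by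
  intro H₁ N₁ hN₁
  obtain ⟨ψ, hψ⟩ : ∃ ψ : ↥(H₁.comap (QuotientGroup.mk' N)) →* ↥H₁ ⧸ N₁,
      ψ = (QuotientGroup.mk' N₁).comp ((QuotientGroup.mk' N).subgroupComap H₁) := ⟨_, rfl⟩
  have hsurj : Function.Surjective ψ := by
    rw [hψ]
    exact (QuotientGroup.mk'_surjective N₁).comp
      (MonoidHom.subgroupComap_surjective_of_surjective _ _ (QuotientGroup.mk'_surjective N))
  have h1 := h (H₁.comap (QuotientGroup.mk' N)) ψ.ker
  exact propE_of_equiv (QuotientGroup.quotientKerEquivOfSurjective ψ hsurj) h1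

theorem secE_top {p : ℕ} {G : Type u} [Group G] [Finite G] (h : SecE p G) : PropE p G := by
  have h1 := h (⊤ : Subgroup G) (⊥ : Subgroup ↥(⊤ : Subgroup G))
  exact propE_of_equiv (QuotientGroup.quotientBot.trans Subgroup.topEquiv) h1

theorem lift_pcompl {G : Type u} [Group G] [Finite G] {p : ℕ} (N : Subgroup G)
    [N.Normal] (hN : (Nat.card N).Coprime p)
    (h : ∃ M : Subgroup (G ⧸ N), IsNormalPComplement p M) :
    ∃ M : Subgroup G, IsNormalPComplement p M := by
  obtain ⟨M, hMn, hMc, k, hk⟩ := h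
  refine ⟨M.comap (QuotientGroup.mk' N), hMn.comap _, ?_, k, ?_⟩
  · rw [Cfsg.Agent.Lib.Helper1.card_comap_mk']
    exact Nat.Coprime.mul_left hMc hN
  · rw [Subgroup.index_comap_of_surjective _ (QuotientGroup.mk'_surjective N)]
    exact hk


/-- If `G / F` has a normal `p`-complement, then `p'`-elements centralize normal `p`-subgroups
modulo `F`. -/
theorem comm_mem_of_quot {G : Type u} [Group G] [Finite G] {p : ℕ} [Fact p.Prime]
    (F Q : Subgroup G) [hFn : F.Normal] [hQn : Q.Normal] (hQ : IsPGroup p Q)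
    (M : Subgroup (G ⧸ F)) (hM : IsNormalPComplement p M) (x : G) (hx : (orderOf x).Coprime p) :
    ∀ q ∈ Q, x * q * x⁻¹ * q⁻¹ ∈ F := by
  intro q hq
  have hMn : M.Normal := hM.1
  have hxM : QuotientGroup.mk' F x ∈ M := by
    apply hM.mem_of_coprime
    exact Nat.Coprime.coprime_dvd_left (orderOf_map_dvd _ x) hx
  have h1 : QuotientGroup.mk' F (x * q * x⁻¹ * q⁻¹) ∈ M := by
    have e : QuotientGroup.mk' F (x * q * x⁻¹ * q⁻¹)
        = QuotientGroup.mk' F x * (QuotientGroup.mk' F q * (QuotientGroup.mk' F x)⁻¹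
          * (QuotientGroup.mk' F q)⁻¹) := by
      rw [map_mul, map_mul, map_mul, map_inv, map_inv]
      group
    rw [e]
    exact M.mul_mem hxM (hMn.conj_mem _ (M.inv_mem hxM) _)
  have h2 : QuotientGroup.mk' F (x * q * x⁻¹ * q⁻¹) ∈ Q.map (QuotientGroup.mk' F) :=
    ⟨x * q * x⁻¹ * q⁻¹, Q.mul_mem (hQn.conj_mem q hq x) (Q.inv_mem hq), rfl⟩
  have h3 : M ⊓ Q.map (QuotientGroup.mk' F) = ⊥ := by
    apply disjoint_iff.mp
    apply Subgroup.disjoint_of_coprime_natCard
    obtain ⟨n, hn⟩ := IsPGroup.iff_card.mp hQ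
    have h5 : Nat.card (Q.map (QuotientGroup.mk' F)) ∣ p ^ n := by
      rw [← hn]
      exact Subgroup.card_map_dvd _ _
    have hp : p.Prime := Fact.out
    obtain ⟨j, -, hj⟩ := (Nat.dvd_prime_pow hp).mp h5
    rw [hj]
    exact Nat.Coprime.pow_right j hM.2.1
  have h4 : QuotientGroup.mk' F (x * q * x⁻¹ * q⁻¹) = 1 := by
    have h5 : QuotientGroup.mk' F (x * q * x⁻¹ * q⁻¹) ∈ M ⊓ Q.map (QuotientGroup.mk' F) :=
      ⟨h1, h2⟩
    rw [h3] at h5
    exact Subgroup.mem_bot.mp h5
  exact (QuotientGroup.eq_one_iff _).mp h4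

/-- The automorphisms acting trivially on the Frattini quotient. -/
def frattiniKer (P : Type*) [Group P] : Subgroup (MulAut P) where
  carrier := {α | ∀ q, α q * q⁻¹ ∈ frattini P}
  mul_mem' := by
    intro α β hα hβ q
    have e : (α * β) q * q⁻¹ = α (β q * q⁻¹) * (α q * q⁻¹) := by
      rw [MulAut.mul_apply, map_mul, map_inv]
      group
    rw [e]
    have h := (frattini_characteristic (G := P)).fixed α
    have h2 := hβ q
    rw [← h] at h2
    exact Subgroup.mul_mem _ h2 (hα q)
  one_mem' := by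
    intro q
    simp
  inv_mem' := by
    intro α hα q
    have e : α⁻¹ q * q⁻¹ = (α (α⁻¹ q) * (α⁻¹ q)⁻¹)⁻¹ := by
      rw [MulAut.apply_inv_self]
      group
    rw [e]
    exact Subgroup.inv_mem _ (hα _)

/-- A `p'`-automorphism of a `p`-group acting trivially on the Frattini quotient is trivial. -/
theorem eq_one_of_frattiniKer {P : Type*} [Group P] [Finite P] {p : ℕ} [Fact p.Prime]
    (hP : IsPGroup p P) (α : MulAut P) (hα : α ∈ frattiniKer P) (m : ℕ) (hm : m.Coprime p)
    (hαm : α ^ m = 1) : α = 1 := by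
  obtain ⟨n, hn⟩ := IsPGroup.iff_card.mp hP
  obtain ⟨r, hr⟩ := hP.index (frattini P)
  have hB := Cfsg.Agent.S4207.result hn hr (frattiniKer P) (fun β hβ q => hβ q)
  have h1 : orderOf α ∣ p ^ (r * (n - r)) := by
    have h2 : orderOf (⟨α, hα⟩ : frattiniKer P) ∣ Nat.card (frattiniKer P) := orderOf_dvd_natCard _
    have h3 : orderOf (⟨α, hα⟩ : frattiniKer P) = orderOf α := Subgroup.orderOf_mk α hα
    rw [h3] at h2
    exact h2.trans hB
  have h2 : orderOf α ∣ m := orderOf_dvd_of_pow_eq_one hαm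
  have h3 : orderOf α = 1 := by
    have h4 := Nat.dvd_gcd h2 h1
    have h5 : Nat.gcd m (p ^ (r * (n - r))) = 1 := Nat.Coprime.pow_right _ hm
    rw [h5] at h4
    exact Nat.dvd_one.mp h4
  exact orderOf_eq_one_iff.mp h3



/-- The inductive step: a group all of whose proper subgroups and proper quotients have
normal `p`-complements, and which satisfies the element-order condition, has a normal
`p`-complement. -/
theorem step {G : Type u} [Group G] [Finite G] (p : ℕ) [Fact p.Prime]
    (hsub : ∀ L : Subgroup G, L ≠ ⊤ → ∃ M : Subgroup L, IsNormalPComplement p M)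
    (hquot : ∀ (N : Subgroup G) [N.Normal], N ≠ ⊥ →
      ∃ M : Subgroup (G ⧸ N), IsNormalPComplement p M)
    (hE : PropE p G) : ∃ M : Subgroup G, IsNormalPComplement p M := by
  by_contra hnot
  have hp : p.Prime := Fact.out
  have hcore : Cfsg.pPrimeCore p G = ⊥ := by
    by_contra hne
    exact hnot (lift_pcompl (Cfsg.pPrimeCore p G)
      (Cfsg.Agent.Lib.Helper55.pPrimeCore_coprime p G) (hquot _ hne))
  obtain ⟨k, hk⟩ := hE hcore
  have hF : ¬ FrobeniusCondition p G :=
    fun hF => hnot (exists_isNormalPComplement_of_frobeniusCondition hF)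
  unfold FrobeniusCondition at hF
  push Not at hF
  obtain ⟨Q, hQ, x, hxN, hxp, hxC⟩ := hF
  have htop : Q ⊔ Subgroup.zpowers x = ⊤ := by
    by_contra hne
    obtain ⟨M, hM⟩ := hsub _ hne
    have hF' : FrobeniusCondition p ↥(Q ⊔ Subgroup.zpowers x) :=
      exists_isNormalPComplement_iff_frobeniusCondition.mp ⟨M, hM⟩
    have hxL : x ∈ Q ⊔ Subgroup.zpowers x :=
      (le_sup_right : Subgroup.zpowers x ≤ _) (Subgroup.mem_zpowers x)
    have h1 := hF' (Q.subgroupOf (Q ⊔ Subgroup.zpowers x)) hQ.comap_subtype ⟨x, hxL⟩ (by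
      rw [Subgroup.mem_normalizer_iff]
      intro y
      rw [Subgroup.mem_subgroupOf, Subgroup.mem_subgroupOf]
      exact (Subgroup.mem_normalizer_iff.mp hxN) y) (by
      rw [Subgroup.orderOf_mk]
      exact hxp)
    apply hxC
    rw [Subgroup.mem_centralizer_iff]
    intro q hq
    have hqL : q ∈ Q ⊔ Subgroup.zpowers x := (le_sup_left : Q ≤ _) hq
    have h2 := (Subgroup.mem_centralizer_iff.mp h1) ⟨q, hqL⟩ (Subgroup.mem_subgroupOf.mpr hq)
    exact congrArg Subtype.val h2
  have hQn : Q.Normal := by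
    rw [← Subgroup.normalizer_eq_top_iff, eq_top_iff, ← htop]
    apply sup_le Subgroup.le_normalizer
    rw [Subgroup.zpowers_le]
    exact hxN
  obtain ⟨n, hn⟩ := IsPGroup.iff_card.mp hQ
  have hcopQx : (Nat.card Q).Coprime (orderOf x) := by
    rw [hn]
    exact Nat.Coprime.pow_left n (Nat.Coprime.symm hxp)
  have hinf : Q ⊓ Subgroup.zpowers x = ⊥ := by
    apply disjoint_iff.mp
    apply Subgroup.disjoint_of_coprime_natCard
    rw [Nat.card_zpowers]
    exact hcopQx
  have hcardG : Nat.card G = Nat.card Q * orderOf x := by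
    have h1 := Cfsg.Agent.Lib.Helper1.card_sup_mul_card_inf Q (Subgroup.zpowers x)
    rw [htop, hinf, Subgroup.card_top, Subgroup.card_bot, mul_one, Nat.card_zpowers] at h1
    exact h1
  -- `x` does not centralize `Q`, in terms of the automorphism
  have hconj1 : (MulAut.conjNormal x : MulAut ↥Q) ≠ 1 := by
    intro h
    apply hxC
    rw [Subgroup.mem_centralizer_iff]
    intro q hq
    have h1 : (MulAut.conjNormal x : MulAut ↥Q) ⟨q, hq⟩ = ⟨q, hq⟩ := by
      rw [h, MulAut.one_apply]
    have h2 := congrArg Subtype.val h1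
    rw [MulAut.conjNormal_apply] at h2
    have h3 : x * q * x⁻¹ = q := h2
    calc q * x = (x * q * x⁻¹) * x := by rw [h3]
      _ = x * q := by group
  have hconjpow : (MulAut.conjNormal x : MulAut ↥Q) ^ orderOf x = 1 := by
    rw [← map_pow, pow_orderOf_eq_one, map_one]
  -- (e) the Frattini subgroup of `Q` is trivial
  have hfr : frattini ↥Q = ⊥ := by
    by_contra hne
    have hFn : ((frattini ↥Q).map Q.subtype).Normal := inferInstance
    have hFne : (frattini ↥Q).map Q.subtype ≠ ⊥ := by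
      intro h
      exact hne ((Subgroup.map_eq_bot_iff_of_injective _ Q.subtype_injective).mp h)
    obtain ⟨M, hM⟩ := hquot ((frattini ↥Q).map Q.subtype) hFne
    have hcm := comm_mem_of_quot ((frattini ↥Q).map Q.subtype) Q hQ M hM x hxp
    apply hconj1
    apply eq_one_of_frattiniKer hQ _ _ (orderOf x) hxp hconjpow
    intro q
    obtain ⟨z, hz, hzeq⟩ := hcm q q.2
    have hzq : z = MulAut.conjNormal x q * q⁻¹ := by
      apply Subtype.ext
      rw [Subgroup.coe_mul, Subgroup.coe_inv, MulAut.conjNormal_apply]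
      exact hzeq
    rw [← hzq]
    exact hz
  have hfq := Cfsg.Agent.Lib.Helper70.frattini_quot_props hQ
  have hQexp : ∀ q ∈ Q, q ^ p = 1 := by
    intro q hq
    have h1 := hfq.1 (QuotientGroup.mk (⟨q, hq⟩ : ↥Q))
    rw [← QuotientGroup.mk_pow, QuotientGroup.eq_one_iff, hfr, Subgroup.mem_bot] at h1
    have h2 := congrArg Subtype.val h1
    rw [Subgroup.coe_pow] at h2
    exact h2
  have hQcomm : ∀ a ∈ Q, ∀ b ∈ Q, a * b = b * a := by
    intro a ha b hb
    have h1 := hfq.2 (QuotientGroup.mk (⟨a, ha⟩ : ↥Q)) (QuotientGroup.mk (⟨b, hb⟩ : ↥Q))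
    rw [← QuotientGroup.mk_mul, ← QuotientGroup.mk_mul, QuotientGroup.eq, hfr,
      Subgroup.mem_bot] at h1
    have h2 := congrArg Subtype.val h1
    have h3 : (a * b)⁻¹ * (b * a) = 1 := h2
    have h4 := inv_mul_eq_one.mp h3
    exact h4
  -- `Q` is nontrivial
  have hQne : Q ≠ ⊥ := by
    intro h
    apply hxC
    rw [Subgroup.mem_centralizer_iff]
    intro q hq
    rw [SetLike.mem_coe, h, Subgroup.mem_bot] at hq
    rw [hq, one_mul, mul_one]
  have hn0 : n ≠ 0 := by
    rintro rfl
    rw [pow_zero] at hn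
    exact hQne (Subgroup.card_eq_one.mp hn)
  have hn'pos : 0 < orderOf x := orderOf_pos x
  -- the order of `k`
  have hcq : Nat.card (G ⧸ Q) = orderOf x := by
    have h1 := Subgroup.card_eq_card_quotient_mul_card_subgroup Q
    rw [hcardG, mul_comm] at h1
    exact (Nat.eq_of_mul_eq_mul_right Nat.card_pos h1).symm
  have hkQ : k ^ orderOf x ∈ Q := by
    have h1 : (QuotientGroup.mk' Q k) ^ orderOf x = 1 := by
      rw [← hcq]
      exact pow_card_eq_one'
    rw [← map_pow] at h1
    exact (QuotientGroup.eq_one_iff _).mp h1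
  have hkpn : k ^ (orderOf x * p) = 1 := by
    rw [pow_mul]
    exact hQexp _ hkQ
  have hpdvd : p ∣ orderOf k := by
    rw [hk]
    have hpG : p ∣ Nat.card G := by
      rw [hcardG, hn]
      exact Dvd.dvd.mul_right (dvd_pow_self p hn0) _
    obtain ⟨g, hg⟩ := exists_prime_orderOf_dvd_card' p hpG
    rw [← hg]
    exact Monoid.order_dvd_exponent g
  have hn'dvd : orderOf x ∣ orderOf k := by
    rw [hk]
    exact Monoid.order_dvd_exponent x
  have hord : orderOf k = orderOf x * p := by
    apply Nat.dvd_antisymm (orderOf_dvd_of_pow_eq_one hkpn)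
    exact Nat.Coprime.mul_dvd_of_dvd_of_dvd hxp hn'dvd hpdvd
  obtain ⟨u, hu⟩ : ∃ u, u = k ^ orderOf x := ⟨_, rfl⟩
  obtain ⟨y, hy⟩ : ∃ y, y = k ^ p := ⟨_, rfl⟩
  have hu1 : u ≠ 1 := by
    intro h
    rw [hu] at h
    have h1 := orderOf_dvd_of_pow_eq_one h
    rw [hord] at h1
    have h2 : orderOf x * p ∣ orderOf x * 1 := by rwa [mul_one]
    have h3 : p ∣ 1 := Nat.dvd_of_mul_dvd_mul_left hn'pos h2
    exact hp.one_lt.ne' (Nat.dvd_one.mp h3)
  have huQ : u ∈ Q := hu ▸ hkQ
  have huy : u * y = y * u := by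
    rw [hu, hy, ← pow_add, ← pow_add, add_comm]
  have hyord : orderOf y = orderOf x := by
    rw [hy, orderOf_pow_of_dvd hp.ne_zero (hord ▸ dvd_mul_left p (orderOf x)), hord]
    exact Nat.mul_div_cancel _ hp.pos
  have hytop : Q ⊔ Subgroup.zpowers y = ⊤ := by
    have hinf' : Q ⊓ Subgroup.zpowers y = ⊥ := by
      apply disjoint_iff.mp
      apply Subgroup.disjoint_of_coprime_natCard
      rw [Nat.card_zpowers, hyord]
      exact hcopQx
    have h1 := Cfsg.Agent.Lib.Helper1.card_sup_mul_card_inf Q (Subgroup.zpowers y)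
    rw [hinf', Subgroup.card_bot, mul_one, Nat.card_zpowers, hyord, ← hcardG] at h1
    exact (Subgroup.card_eq_iff_eq_top _).mp h1
  obtain ⟨Z, hZ⟩ : ∃ Z : Subgroup G, Z = Q ⊓ Subgroup.centralizer {y} := ⟨_, rfl⟩
  have hZc : ∀ z ∈ Z, ∀ g : G, g * z = z * g := by
    intro z hz g
    rw [hZ] at hz
    have hle : Q ⊔ Subgroup.zpowers y ≤ Subgroup.centralizer {z} := by
      apply sup_le
      · intro q hq
        rw [Subgroup.mem_centralizer_singleton_iff]
        exact hQcomm q hq z hz.1
      · rw [Subgroup.zpowers_le, Subgroup.mem_centralizer_singleton_iff]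
        exact (Subgroup.mem_centralizer_singleton_iff.mp hz.2).symm
    rw [hytop] at hle
    exact Subgroup.mem_centralizer_singleton_iff.mp (hle (Subgroup.mem_top g))
  have hZn : Z.Normal := ⟨fun z hz g => by
    rw [hZc z hz g, mul_inv_cancel_right]
    exact hz⟩
  have huZ : u ∈ Z := by
    rw [hZ]
    exact ⟨huQ, Subgroup.mem_centralizer_singleton_iff.mpr huy⟩
  have hZne : Z ≠ ⊥ := by
    intro h
    rw [h] at huZ
    exact hu1 (Subgroup.mem_bot.mp huZ)
  obtain ⟨M, hM⟩ := hquot Z hZne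
  have hyp : (orderOf y).Coprime p := by
    rw [hyord]
    exact hxp
  have hcm := comm_mem_of_quot Z Q hQ M hM y hyp
  -- `y` centralizes `Q`
  have hyQ : ∀ q ∈ Q, y * q = q * y := by
    intro q hq
    obtain ⟨d, hd⟩ : ∃ d, d = y * q * y⁻¹ * q⁻¹ := ⟨_, rfl⟩
    have hdZ : d ∈ Z := hd ▸ hcm q hq
    have hdQ : d ∈ Q := by
      rw [hZ] at hdZ
      exact hdZ.1
    have hconj : y * q * y⁻¹ = d * q := by
      rw [hd]
      group
    have hpow : ∀ j : ℕ, y ^ j * q * (y ^ j)⁻¹ = d ^ j * q := by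
      intro j
      induction j with
      | zero => simp
      | succ j ih =>
        have e : y ^ (j + 1) * q * (y ^ (j + 1))⁻¹ = y * (y ^ j * q * (y ^ j)⁻¹) * y⁻¹ := by
          rw [pow_succ']
          group
        rw [e, ih]
        have e2 : y * (d ^ j * q) * y⁻¹ = (y * d ^ j) * q * y⁻¹ := by group
        rw [e2, hZc (d ^ j) (Subgroup.pow_mem _ hdZ j) y]
        have e3 : d ^ j * y * q * y⁻¹ = d ^ j * (y * q * y⁻¹) := by group
        rw [e3, hconj, pow_succ]
        group
    have h1 := hpow (orderOf y)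
    rw [pow_orderOf_eq_one, one_mul, inv_one, mul_one] at h1
    have hd1 : d ^ orderOf y = 1 := by
      have h2 : d ^ orderOf y * q = 1 * q := by rw [one_mul]; exact h1.symm
      exact mul_right_cancel h2
    have hd2 : d ^ p = 1 := hQexp d hdQ
    have hd3 : orderOf d = 1 := by
      have h4 := Nat.dvd_gcd (orderOf_dvd_of_pow_eq_one hd1) (orderOf_dvd_of_pow_eq_one hd2)
      have h5 : Nat.gcd (orderOf y) p = 1 := hyp
      rw [h5] at h4
      exact Nat.dvd_one.mp h4
    have hd4 : d = 1 := orderOf_eq_one_iff.mp hd3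
    rw [hd4, one_mul] at hconj
    calc y * q = (y * q * y⁻¹) * y := by group
      _ = q * y := by rw [hconj]
  -- `y` is central, so `zpowers y` is a normal `p`-complement
  have hycent : ∀ g : G, g * y = y * g := by
    intro g
    have hle : Q ⊔ Subgroup.zpowers y ≤ Subgroup.centralizer {y} := by
      apply sup_le
      · intro q hq
        rw [Subgroup.mem_centralizer_singleton_iff]
        exact (hyQ q hq).symm
      · rw [Subgroup.zpowers_le, Subgroup.mem_centralizer_singleton_iff]
    rw [hytop] at hle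
    exact Subgroup.mem_centralizer_singleton_iff.mp (hle (Subgroup.mem_top g))
  apply hnot
  refine ⟨Subgroup.zpowers y, ?_, ?_, n, ?_⟩
  · constructor
    intro z hz g
    obtain ⟨j, rfl⟩ := Subgroup.mem_zpowers_iff.mp hz
    have h1 : g * y ^ j * g⁻¹ = y ^ j := by
      have h2 : Commute g y := hycent g
      have h3 : g * y ^ j = y ^ j * g := (h2.zpow_right j)
      rw [h3, mul_inv_cancel_right]
    rw [h1]
    exact hz
  · rw [Nat.card_zpowers]
    exact hyp
  · have h1 := Subgroup.card_mul_index (Subgroup.zpowers y)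
    rw [Nat.card_zpowers, hyord, hcardG, mul_comm] at h1
    rw [← hn]
    exact Nat.eq_of_mul_eq_mul_right hn'pos h1


theorem backward_aux (p : ℕ) [Fact p.Prime] : ∀ (n : ℕ) (G : Type u) [Group G] [Finite G],
    Nat.card G = n → SecE p G → ∃ M : Subgroup G, IsNormalPComplement p M := by
  intro n
  induction n using Nat.strong_induction_on with
  | _ n ih =>
    intro G _ _ hn hE
    apply step p
    · intro L hL
      have hlt : Nat.card L < n := by
        rw [← hn, ← Subgroup.card_top (G := G)]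
        exact Cfsg.Agent.Lib.Helper1.card_lt_card_of_lt (lt_top_iff_ne_top.mpr hL)
      exact ih (Nat.card L) hlt ↥L rfl (secE_subgroup hE L)
    · intro N hN hne
      have hlt : Nat.card (G ⧸ N) < n := by
        have h1 := Subgroup.card_eq_card_quotient_mul_card_subgroup N
        have h2 : 1 < Nat.card N := by
          have h3 : Nat.card N ≠ 1 := fun h => hne (Subgroup.card_eq_one.mp h)
          have h4 : 0 < Nat.card N := Nat.card_pos
          omega
        have h5 : 0 < Nat.card (G ⧸ N) := Nat.card_pos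
        rw [← hn, h1]
        nlinarith
      exact ih (Nat.card (G ⧸ N)) hlt (G ⧸ N) rfl (secE_quotient hE N)
    · exact secE_top hE

/-- Let G be a finite group and p a prime. Then G has a normal p-complement if and only if every section K = H/N of G (N a normal subgroup of a subgroup H) whose largest normal subgroup of order prime to p is trivial contains an element whose order equals the exponent of K. -/
theorem result {G : Type*} [Group G] [Finite G] (p : ℕ) [Fact p.Prime] :
    Cfsg.HasNormalPComplement p G ↔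
      ∀ (H : Subgroup G) (N : Subgroup H) [N.Normal], Cfsg.pPrimeCore p (H ⧸ N) = ⊥ →
        ∃ k : H ⧸ N, orderOf k = Monoid.exponent (H ⧸ N) := by
  constructor
  · intro h H N _
    exact forward p h H N
  · intro h
    exact hasNormalPComplement_iff.mpr (backward_aux p _ G rfl (fun H N _ => h H N))

end Cfsg.Agent.S4238
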