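import Mathlib
import Cfsg.Statements.S0039
import Cfsg.Agent.Lib.Helper1.Basic

set_option autoImplicit false
open Cfsg

namespace Cfsg.Agent.S0039

open Cfsg.Agent.Lib.Helper1 Pointwise in
/-- In a finite group that is a semidirect product of a normal subgroup K by a nontrivial subgroup H, H is a Frobenius complement exactly when each nonidentity element of H acts without nonidentity fixed points on K by conjugation. -/
theorem result {G : Type*} [Group G] [Finite G] (K H : Subgroup G) [K.Normal]
    (hc : Subgroup.IsComplement' K H) (hK : K ≠ ⊥) (hH : H ≠ ⊥) :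
    Cfsg.IsFrobeniusComplement H ↔ ∀ h ∈ H, h ≠ 1 → K ⊓ Subgroup.centralizer {h} = ⊥ := by
  have hdisj : ∀ x : G, x ∈ K → x ∈ H → x = 1 := by
    intro x hxK hxH
    have := hc.disjoint
    rw [Subgroup.disjoint_def] at this
    exact this hxK hxH
  constructor
  · rintro ⟨-, -, hF⟩ h hh hh1
    rw [eq_bot_iff]
    intro k hk
    rw [Subgroup.mem_bot]
    by_contra hk1
    have hkH : k ∉ H := fun hkH => hk1 (hdisj k (Subgroup.mem_inf.mp hk).1 hkH)
    have h1 := hF k hkH
    have hcomm : h * k = k * h := by
      have : k ∈ Subgroup.centralizer {h} := (Subgroup.mem_inf.mp hk).2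
      rw [Subgroup.mem_centralizer_iff] at this
      exact this h (Set.mem_singleton h)
    have h2 : h ∈ H ⊓ (MulAut.conj k • H) := by
      refine Subgroup.mem_inf.mpr ⟨hh, ?_⟩
      rw [mem_conj_smul]
      have : k⁻¹ * h * k = h := by rw [mul_assoc, hcomm]; group
      rw [this]; exact hh
    rw [h1] at h2
    exact hh1 (Subgroup.mem_bot.mp h2)
  · intro hfpf
    refine ⟨hH, ?_, ?_⟩
    · intro htop
      apply hK
      rw [eq_bot_iff]
      intro x hx
      rw [Subgroup.mem_bot]
      exact hdisj x hx (by rw [htop]; exact Subgroup.mem_top x)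
    · intro g hg
      obtain ⟨k, hk, h', hh', rfl⟩ := exists_mul_of_isComplement' hc g
      rw [conj_mul_smul_eq H k h' hh']
      have hk1 : k ≠ 1 := by
        rintro rfl
        apply hg
        simpa using hh'
      rw [eq_bot_iff]
      intro x hx12
      obtain ⟨hx1, hx2⟩ := Subgroup.mem_inf.mp hx12
      rw [Subgroup.mem_bot]
      by_contra hx
      have hx2' : k⁻¹ * x * k ∈ H := (mem_conj_smul H k x).mp hx2
      have h3 : x * (k⁻¹ * x * k)⁻¹ ∈ K := by
        have h4 : x * k⁻¹ * x⁻¹ ∈ K := Subgroup.Normal.conj_mem inferInstance _ (K.inv_mem hk) x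
        have h5 := K.mul_mem h4 hk
        have : x * (k⁻¹ * x * k)⁻¹ = x * k⁻¹ * x⁻¹ * k := by group
        rw [this]; exact h5
      have h4 : x * (k⁻¹ * x * k)⁻¹ ∈ H := H.mul_mem hx1 (H.inv_mem hx2')
      have h5 := hdisj _ h3 h4
      have h6 : x * k = k * x := by
        have h7 : x = k⁻¹ * x * k := mul_inv_eq_one.mp h5
        calc x * k = k * (k⁻¹ * x * k) := by group
          _ = k * x := by rw [← h7]
      have h7 : k ∈ K ⊓ Subgroup.centralizer {x} := by
        refine Subgroup.mem_inf.mpr ⟨hk, ?_⟩
        rw [Subgroup.mem_centralizer_iff]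
        intro y hy
        rw [Set.mem_singleton_iff] at hy
        rw [hy]; exact h6
      rw [hfpf x hx1 hx] at h7
      exact hk1 (Subgroup.mem_bot.mp h7)

end Cfsg.Agent.S0039
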