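import Mathlib
import Cfsg.Statements.S0031

set_option autoImplicit false
open Cfsg

namespace Cfsg.Agent.S0031

/-- A fixed-point-free automorphism of a finite group maps some Sylow p-subgroup to itself. -/
theorem result {G : Type*} [Group G] [Finite G] (φ : G ≃* G)
    (hφ : MonoidHom.FixedPointFree (φ : G →* G)) (p : ℕ) [Fact p.Prime] :
    ∃ P : Sylow p G, (P : Subgroup G).map (φ : G →* G) = P := by
  obtain ⟨P⟩ : Nonempty (Sylow p G) := inferInstance
  let φ' : MulAut G := φ
  obtain ⟨g, hg⟩ := MulAction.exists_smul_eq G (φ' • P) P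
  obtain ⟨x, hx⟩ := hφ.commutatorMap_surjective g
  have hx' : x / φ x = g := hx
  have hmem : ∀ z : G, z ∈ (P : Subgroup G) ↔ φ.symm (g⁻¹ * z * g) ∈ (P : Subgroup G) := by
    intro z
    have h1 : z ∈ (P : Subgroup G) ↔ z ∈ ((g • (φ' • P) : Sylow p G) : Subgroup G) := by rw [hg]
    rw [h1, Sylow.smul_def, Sylow.pointwise_smul_def, Sylow.pointwise_smul_def,
      Subgroup.mem_pointwise_smul_iff_inv_smul_mem, Subgroup.mem_pointwise_smul_iff_inv_smul_mem]
    simp [MulAut.smul_def, φ', mul_assoc]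
  refine ⟨x⁻¹ • P, ?_⟩
  ext z
  rw [Subgroup.mem_map]
  simp only [Sylow.smul_def, Sylow.pointwise_smul_def, Subgroup.mem_pointwise_smul_iff_inv_smul_mem]
  constructor
  · rintro ⟨w, hw, rfl⟩
    simp only [MulAut.smul_def, map_inv, MulAut.conj_apply, inv_inv, MonoidHom.coe_coe] at hw ⊢
    rw [hmem]
    have : φ.symm (g⁻¹ * (x * φ w * x⁻¹) * g) = x * w * x⁻¹ := by
      rw [← hx']
      apply φ.injective
      simp [div_eq_mul_inv, mul_assoc]
    rw [this]
    exact hw
  · intro hz
    refine ⟨φ.symm z, ?_, by simp⟩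
    simp only [MulAut.smul_def, map_inv, MulAut.conj_apply, inv_inv] at hz ⊢
    rw [hmem] at hz
    have : φ.symm (g⁻¹ * (x * z * x⁻¹) * g) = x * φ.symm z * x⁻¹ := by
      rw [← hx']
      apply φ.injective
      simp [div_eq_mul_inv, mul_assoc]
    rw [this] at hz
    exact hz

end Cfsg.Agent.S0031
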