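import Mathlib
import Cfsg.Statements.S0033
import Cfsg.Agent.S0108
import Cfsg.Agent.Lib.Helper91.ThompsonFpf2

set_option autoImplicit false
open Cfsg

namespace Cfsg.Agent.S0033

theorem mulEquiv_pow_apply {G : Type*} [Group G] (φ : G ≃* G) (n : ℕ) (x : G) :
    (φ ^ n) x = (⇑φ)^[n] x := by
  induction n generalizing x with
  | zero => rfl
  | succ n ih =>
    rw [pow_succ, Function.iterate_succ_apply, ← ih]
    rfl

/-- Thompson's theorem, endomorphism form: a finite group with a fixed-point-free endomorphism
whose `p`-th iterate is the identity (`p` prime) is nilpotent. -/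
theorem fpf_nilpotent_of_iterate {G : Type*} [Group G] [Finite G] (φ : G →* G)
    (hφ : MonoidHom.FixedPointFree φ) {p : ℕ} (hp : p.Prime) (hφp : (⇑φ)^[p] = _root_.id) :
    Group.IsNilpotent G :=
  Lib.Helper91.fpf_nilpotent
    (fun _ _ _ _ _ hr P h1 h2 => (Cfsg.Agent.S0108.result hr P).mpr ⟨h1, h2⟩)
    φ hφ hp hφp

/-- Thompson's Theorem on fixed-point-free automorphisms: a finite group with an automorphism of prime order fixing only the identity is nilpotent. -/
theorem result {G : Type*} [Group G] [Finite G] (φ : G ≃* G)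
    (hφ : MonoidHom.FixedPointFree (φ : G →* G)) (p : ℕ) (hp : p.Prime) (hord : orderOf φ = p) :
    Group.IsNilpotent G := by
  have hφp : (⇑(φ : G →* G))^[p] = _root_.id := by
    funext x
    have h1 : φ ^ p = 1 := by rw [← hord]; exact pow_orderOf_eq_one φ
    have h2 := mulEquiv_pow_apply φ p x
    rw [h1] at h2
    exact h2.symm
  exact fpf_nilpotent_of_iterate (φ : G →* G) hφ hp hφp

end Cfsg.Agent.S0033
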