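import Mathlib
import Cfsg.Statements.S0042
import Cfsg.Agent.S0035
import Cfsg.Agent.S0033

set_option autoImplicit false
open Cfsg

namespace Cfsg.Agent.S0042

open Pointwise in
/-- If `N` is the Frobenius kernel (as a normal subgroup) of the Frobenius complement `H`,
then `N` is nilpotent (Thompson). -/
theorem kernel_nilpotent {G : Type*} [Group G] [Finite G] (H : Subgroup G)
    (hH : Cfsg.IsFrobeniusComplement H) (N : Subgroup G)
    (hNk : (N : Set G) = Cfsg.frobeniusKernel H) [hNn : N.Normal] : Group.IsNilpotent N := by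
  obtain ⟨hHbot, hHtop, hfrob⟩ := hH
  have hcard : Nat.card H ≠ 1 := fun h => hHbot (Subgroup.eq_bot_of_card_eq H h)
  obtain ⟨q, hq, hqdvd⟩ := Nat.exists_prime_and_dvd hcard
  have : Fact q.Prime := ⟨hq⟩
  obtain ⟨h, hh⟩ := exists_prime_orderOf_dvd_card' q hqdvd
  have hhG : orderOf (h : G) = q := by rw [Subgroup.orderOf_coe]; exact hh
  have hφ : MonoidHom.FixedPointFree (MulAut.conjNormal (H := N) (h : G)).toMonoidHom := by
    intro n hn
    by_contra hn1
    have hnG : ((h : G) * n * (h : G)⁻¹ : G) = n := congrArg Subtype.val hn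
    have hnk : (n : G) ∈ Cfsg.frobeniusKernel H := by rw [← hNk]; exact n.2
    have hn1' : (n : G) ≠ 1 := fun h' => hn1 (Subtype.ext h')
    have hnot : ∀ g : G, (n : G) ∉ MulAut.conj g • H := by
      rcases hnk with h' | h'
      · exact absurd h' hn1'
      · exact h'
    have hnH : (n : G) ∉ H := by
      have h1 := hnot 1
      simpa using h1
    have hbot := hfrob (n : G) hnH
    have hmem : (h : G) ∈ H ⊓ (MulAut.conj (n : G) • H) := by
      refine Subgroup.mem_inf.mpr ⟨h.2, ?_⟩
      rw [Subgroup.mem_pointwise_smul_iff_inv_smul_mem]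
      have h2 : (MulAut.conj (n : G))⁻¹ • (h : G) = h := by
        simp only [MulAut.smul_def, MulAut.conj_inv_apply]
        calc (n : G)⁻¹ * h * n = (n : G)⁻¹ * ((h : G) * n * (h : G)⁻¹) * h := by group
          _ = h := by rw [hnG]; group
      rw [h2]
      exact h.2
    rw [hbot, Subgroup.mem_bot] at hmem
    rw [hmem, orderOf_one] at hhG
    exact hq.one_lt.ne hhG
  have hφq : (⇑(MulAut.conjNormal (H := N) (h : G)).toMonoidHom)^[q] = _root_.id := by
    funext n
    have h1 : (MulAut.conjNormal (H := N) (h : G)) ^ q = 1 := by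
      rw [← map_pow, ← hhG, pow_orderOf_eq_one, map_one]
    have h2 := Cfsg.Agent.S0033.mulEquiv_pow_apply (MulAut.conjNormal (H := N) (h : G)) q n
    rw [h1] at h2
    exact h2.symm
  exact Cfsg.Agent.S0033.fpf_nilpotent_of_iterate _ hφ hq hφq

/-- In a finite Frobenius group, the Frobenius kernel is (the carrier of) a normal subgroup which is nilpotent. -/
theorem result {G : Type*} [Group G] [Finite G] (H : Subgroup G) (hH : Cfsg.IsFrobeniusComplement H) :
    ∃ N : Subgroup G, (N : Set G) = Cfsg.frobeniusKernel H ∧ N.Normal ∧ Group.IsNilpotent N := by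
  obtain ⟨N, hNk, hNn, -⟩ := Cfsg.Agent.S0035.result H hH
  exact ⟨N, hNk, hNn, kernel_nilpotent H hH N hNk⟩

end Cfsg.Agent.S0042
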