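import Cfsg.Statements.S4282
import Mathlib
import Cfsg.Agent.Lib.Helper32.HHComm
import Cfsg.Agent.Lib.Helper32.HHFourier
import Cfsg.Agent.Lib.Helper32.HHCrit
import Cfsg.Agent.Lib.Helper32.HHqPow

set_option autoImplicit false
open Cfsg

namespace Cfsg.Agent.S4282

open Module Cfsg.Agent.Lib.Helper32

theorem arith2 (P d c : ℕ) (hb : P * c + 1 ≤ P + d ^ 2) (hdc : d ≤ c) (hd2 : 2 ≤ d) :
    P ≤ d + 1 := by
  by_contra h
  push Not at h
  have h1 : P * d ≤ P * c := Nat.mul_le_mul_left P hdc
  zify at hb hdc hd2 h h1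
  nlinarith [mul_pos (show (0:ℤ) < (d:ℤ) - 1 by linarith) (show (0:ℤ) < (P:ℤ) - d - 1 by linarith)]

theorem arith3 (P d c s : ℕ) (h1 : d ^ 2 ≤ s * c) (hb : P * c + 1 ≤ P + d ^ 2) (hdc : d ≤ c)
    (hd2 : 2 ≤ d) (hPd : P ≤ d + 1) : P ≤ s + 1 := by
  by_contra h
  push Not at h
  have h2 : s * c ≤ (P - 2) * c := Nat.mul_le_mul_right c (by omega)
  have h3 : (P - 2) * c + 2 * c = P * c := by
    rw [← Nat.add_mul]; congr 1; omega
  nlinarith

theorem arith4 (P d c s : ℕ) (h1 : d ^ 2 ≤ s * c) (hs : s + 1 = P) (hb : P * c + 1 ≤ P + d ^ 2)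
    (hdc : d ≤ c) (hPd : P ≤ d + 1) : d + 1 = P := by
  have h2 : s * c + c = P * c := by rw [← hs]; ring
  have h3 : c + 1 ≤ P := by nlinarith
  omega

/-- A critical case behind the Hall–Higman theorem. Let p ≠ q be primes and G a finite group generated by a normal q-subgroup Q and a cyclic p-subgroup generated by x, such that the centralizer of every non-identity element of that cyclic subgroup is its product with the centre of G. Let K be an algebraically closed field of characteristic p and ρ a faithful representation of G on a nonzero finite-dimensional K-space whose restriction to Q is irreducible. If s is the least exponent with (ρ(x) − 1)^s = 0, then |⟨x⟩| − 1 ≤ s ≤ |⟨x⟩|; and if s = |⟨x⟩| − 1 then |⟨x⟩| − 1 is a power of q and Q is non-abelian. -/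
theorem result {G : Type*} [Group G] [Finite G] (p q : ℕ) [Fact p.Prime] [Fact q.Prime] (hpq : p ≠ q) (Q : Subgroup G) [Q.Normal] (hQ : IsPGroup q Q) (x : G) (hx : IsPGroup p (Subgroup.zpowers x)) (hgen : Q ⊔ Subgroup.zpowers x = ⊤) (hC : ∀ y ∈ Subgroup.zpowers x, y ≠ 1 → Subgroup.centralizer ({y} : Set G) = Subgroup.zpowers x ⊔ Subgroup.center G) {K : Type*} [Field K] [IsAlgClosed K] [CharP K p] {V : Type*} [AddCommGroup V] [Module K V] [FiniteDimensional K V] [Nontrivial V] (ρ : Representation K G V) (hfaith : Function.Injective ρ) (hirr : ∀ W : Submodule K V, (∀ g ∈ Q, Submodule.map (ρ g) W ≤ W) → W = ⊥ ∨ W = ⊤) (s : ℕ) (hs : (ρ x - 1) ^ s = 0) (hmin : ∀ k < s, (ρ x - 1) ^ k ≠ 0) : Nat.card (Subgroup.zpowers x) - 1 ≤ s ∧ s ≤ Nat.card (Subgroup.zpowers x) ∧ (s = Nat.card (Subgroup.zpowers x) - 1 → (∃ b : ℕ, Nat.card (Subgroup.zpowers x) - 1 = q ^ b) ∧ ¬ IsMulCommutative Q) := by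
  classical
  have hPdef : Nat.card (Subgroup.zpowers x) = Nat.card (Subgroup.zpowers x) := rfl
  obtain ⟨n, hn⟩ := IsPGroup.iff_card.1 hx
  have hP1 : 1 ≤ Nat.card (Subgroup.zpowers x) := Nat.card_pos
  have hdpos : 0 < finrank K V := Module.finrank_pos
  have hxP : x ^ (p ^ n) = 1 := by
    rw [← hn]; exact pow_card_sub_eq_one _ (Subgroup.mem_zpowers x)
  -- s ≥ 1
  have hs1 : 1 ≤ s := by
    by_contra h0
    have hs0 : s = 0 := by omega
    rw [hs0, pow_zero] at hs
    exact one_ne_zero hs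
  -- s ≤ P
  have hsP : s ≤ Nat.card (Subgroup.zpowers x) := by
    by_contra hlt
    push Not at hlt
    apply hmin _ hlt
    haveI : CharP (Module.End K V) p :=
      charP_of_injective_algebraMap (algebraMap K (Module.End K V)).injective p
    haveI : ExpChar (Module.End K V) p := ExpChar.prime Fact.out
    rw [hn, sub_pow_expChar_pow_of_commute p n (Commute.one_right _), one_pow, ← map_pow, hxP,
      map_one, sub_self]
  -- s ≤ d
  have hsd : s ≤ finrank K V := by
    by_contra hlt
    push Not at hlt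
    apply hmin _ hlt
    have h1 : LinearMap.ker ((ρ x - 1) ^ s) = LinearMap.ker ((ρ x - 1) ^ finrank K V) :=
      Module.End.ker_pow_eq_ker_pow_finrank_of_le (le_of_lt hlt)
    rw [hs] at h1
    apply LinearMap.ker_eq_top.1
    rw [← h1]; exact LinearMap.ker_zero
  have hL1 := sq_finrank_le_mul_finrank_commSub s (ρ x - 1) hs
  have hcs : commSub (ρ x - 1) = commSub (ρ x) := by
    ext φ
    rw [mem_commSub, mem_commSub, sub_mul, mul_sub, one_mul, mul_one]
    constructor
    · intro h; exact sub_left_injective h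
    · intro h; rw [h]
  rw [hcs] at hL1
  have hbound := crit_commSub_bound ρ Q hpq hQ x hx hgen hC hfaith hirr
  have hdc : finrank K V ≤ finrank K (commSub (ρ x)) := by
    have h1 : finrank K V * finrank K V ≤ finrank K V * finrank K (commSub (ρ x)) := by
      rw [← sq]
      exact le_trans hL1 (Nat.mul_le_mul_right _ hsd)
    exact Nat.le_of_mul_le_mul_left h1 hdpos
  have hirr' : ∀ W : Submodule K V, (∀ h : Q, W.map ((ρ.comp Q.subtype) h) ≤ W) →
      W = ⊥ ∨ W = ⊤ := fun W hW => hirr W (fun g hg => hW ⟨g, hg⟩)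
  by_cases hd1 : finrank K V = 1
  · -- then `x = 1`
    obtain ⟨v, hv0, hv⟩ := finrank_eq_one_iff'.1 hd1
    obtain ⟨c, hc⟩ := hv (ρ x v)
    have hscal : ρ x = c • (1 : Module.End K V) := by
      apply LinearMap.ext
      intro w
      obtain ⟨c', rfl⟩ := hv w
      rw [map_smul, ← hc]
      show c' • c • v = c • c' • v
      rw [smul_comm]
    have hx1 : x = 1 := by
      apply hfaith
      rw [rho_eq_one_of_scalar ρ x n hxP c hscal, map_one]
    have hPone : Nat.card (Subgroup.zpowers x) = 1 := by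
      rw [hx1, Subgroup.zpowers_one_eq_bot, Subgroup.card_bot]
    refine ⟨by omega, by omega, ?_⟩
    intro hs'
    omega
  · have hd2 : 2 ≤ finrank K V := by omega
    have hPd := arith2 _ _ _ hbound hdc hd2
    have hPs := arith3 _ _ _ s hL1 hbound hdc hd2 hPd
    refine ⟨by omega, hsP, ?_⟩
    intro hsP1
    have hdP := arith4 _ _ _ s hL1 (by omega) hbound hdc hPd
    constructor
    · obtain ⟨b, hb⟩ := finrank_eq_prime_pow_of_irr (K := K) q (Nat.card Q)
        (ρ.comp Q.subtype) le_rfl hQ hirr'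
      exact ⟨b, by rw [← hb]; omega⟩
    · intro hcomm
      apply hd1
      apply finrank_eq_one_of_comm (ρ.comp Q.subtype) hirr'
      intro g h
      rw [← map_mul, ← map_mul, hcomm.is_comm.comm g h]

end Cfsg.Agent.S4282
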