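import Mathlib
import Cfsg.Statements.S0165
import Cfsg.Agent.Lib.Helper78.BlockOrth
import Cfsg.Agent.Lib.Helper77.IdemCalc
import Cfsg.Agent.Lib.Helper79.ClassMult
import Cfsg.Agent.Lib.Helper3.CharCore

set_option autoImplicit false
open Cfsg
open scoped ComplexConjugate

namespace Cfsg.Agent.S0165

open Cfsg.Agent.Lib.Helper16 Cfsg.Agent.Lib.Helper77 Cfsg.Agent.Lib.Helper81

/-- A natural number `p > 1` lies in some maximal ideal of the ring of algebraic integers. -/
theorem exists_maximal_ideal_natCast_mem (p : ℕ) (hp : 1 < p) :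
    ∃ M : Ideal (integralClosure ℤ ℂ), M.IsMaximal ∧ ((p : ℕ) : integralClosure ℤ ℂ) ∈ M := by
  have hne : Ideal.span {((p : ℕ) : integralClosure ℤ ℂ)} ≠ ⊤ := by
    rw [Ne, Ideal.span_singleton_eq_top]
    intro hu
    obtain ⟨u, hu⟩ := hu.exists_right_inv
    have h1 : ((1 : ℕ) : ℂ) = ((p : ℕ) : ℂ) * (u : ℂ) := by
      have := congrArg (integralClosure ℤ ℂ).val hu
      rw [map_mul, map_natCast, map_one] at this
      rw [Nat.cast_one]
      exact this.symm
    have h2 := Cfsg.Agent.Lib.Helper79.nat_dvd_of_eq_mul_isIntegral 1 p (by omega) (u : ℂ) u.2 h1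
    have := Nat.le_of_dvd Nat.one_pos h2
    omega
  obtain ⟨M, hM, hle⟩ := Ideal.exists_le_maximal _ hne
  exact ⟨M, hM, hle (Ideal.subset_span rfl)⟩

/-- A character of `p`-defect zero is alone in its `p`-block. -/
theorem blockOf_eq_singleton {G : Type*} [Group G] [Fintype G] {p : ℕ} {M : Ideal Cfsg.AlgInt}
    (hM : Cfsg.IsPModular p M) (χ : Cfsg.IrrCharacter G)
    (h : ¬ p ∣ Nat.card G / Cfsg.charDegree (χ : G → ℂ)) :
    Cfsg.blockOf M (χ : G → ℂ) = {χ} := by
  have hprime := isPrime_of_isPModular hM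
  apply Set.Subset.antisymm
  · apply blockOf_subset_of_memLocalRing hprime {χ} ?_ (Set.mem_singleton χ)
    intro g
    have h1 : Cfsg.blockCoeff {χ} g =
        (Nat.card G : ℂ)⁻¹ * ((χ : G → ℂ) 1 * conj ((χ : G → ℂ) g)) := by
      unfold Cfsg.blockCoeff
      rw [finsum_mem_singleton]
    rw [h1]
    obtain ⟨h1', hpos, hdvd⟩ := Cfsg.Agent.Lib.Helper79.irr_charDegree χ.2
    obtain ⟨k, hk⟩ := hdvd
    have hk' : Nat.card G / Cfsg.charDegree (χ : G → ℂ) = k := by
      rw [hk, Nat.mul_div_cancel_left k hpos]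
    rw [hk'] at h
    have hk0 : (k : ℂ) ≠ 0 := by
      intro h0
      have : k = 0 := by exact_mod_cast h0
      rw [this] at h
      exact h (dvd_zero p)
    have hd0 : (Cfsg.charDegree (χ : G → ℂ) : ℂ) ≠ 0 := by exact_mod_cast hpos.ne'
    have h2 : (Nat.card G : ℂ)⁻¹ * ((χ : G → ℂ) 1 * conj ((χ : G → ℂ) g)) =
        (k : ℂ)⁻¹ * conj ((χ : G → ℂ) g) := by
      rw [hk, h1']
      push_cast
      field_simp
    rw [h2]
    apply memLocalRing_mul hprime (memLocalRing_inv_natCast hM h)
    have hint : IsIntegral ℤ (conj ((χ : G → ℂ) g)) := by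
      rw [← irr_inv]
      exact Cfsg.Agent.Lib.Helper79.irr_isIntegral χ.2 g⁻¹
    exact memLocalRing_of_algInt hprime ⟨_, hint⟩
  · rw [Set.singleton_subset_iff]
    exact mem_blockOf_self hprime χ

/-- If p ^ n is the exact power of the prime p dividing the order of a finite group and p ^ n divides the degree of an irreducible complex representation, then its character vanishes at every element of order divisible by p. -/
theorem result {G : Type*} [Group G] [Finite G] {V : Type*} [AddCommGroup V] [Module ℂ V] [FiniteDimensional ℂ V] (ρ : Representation ℂ G V) [ρ.IsIrreducible] (p n : ℕ) (hp : p.Prime) (hn : p ^ n ∣ Nat.card G) (hn' : ¬ p ^ (n + 1) ∣ Nat.card G) (hdeg : p ^ n ∣ Module.finrank ℂ V) (x : G) (hx : p ∣ orderOf x) : ρ.character x = 0 := by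
  classical
  have := Fintype.ofFinite G
  have hirr : Cfsg.IsIrrCharacter G ρ.character :=
    Cfsg.Agent.Lib.Helper3.isIrrCharacter_character ρ
  let χ : Cfsg.IrrCharacter G := ⟨ρ.character, hirr⟩
  obtain ⟨h1, hpos, hdvd⟩ := Cfsg.Agent.Lib.Helper79.irr_charDegree hirr
  have hdegeq : Cfsg.charDegree ρ.character = Module.finrank ℂ V := by
    unfold Cfsg.charDegree
    rw [Representation.char_one]
    simp
  have hnd : ¬ p ∣ Nat.card G / Cfsg.charDegree (χ : G → ℂ) := by
    intro hcon
    apply hn'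
    have h2 : Cfsg.charDegree ρ.character * (Nat.card G / Cfsg.charDegree ρ.character) =
        Nat.card G := Nat.mul_div_cancel' hdvd
    rw [← h2, pow_succ]
    exact Nat.mul_dvd_mul (hdegeq ▸ hdeg) hcon
  obtain ⟨M, hMmax, hpM⟩ := exists_maximal_ideal_natCast_mem p hp.one_lt
  have hM : Cfsg.IsPModular p M := ⟨hp, hMmax, hpM⟩
  have hfact : Fact p.Prime := ⟨hp⟩
  have hB := blockOf_eq_singleton hM χ hnd
  have horth := Cfsg.Agent.Lib.Helper78.block_orth_regular_singular hM
    (Cfsg.blockOf M (χ : G → ℂ)) (isPBlock_blockOf χ) (u := 1) (g := x⁻¹)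
    (by rw [orderOf_one]; exact hp.not_dvd_one) (by rw [orderOf_inv]; exact hx)
  rw [hB, finsum_mem_singleton, inv_inv] at horth
  rcases mul_eq_zero.1 horth with h0 | h0
  · exact absurd h0 (irr_one_ne_zero χ)
  · exact h0

end Cfsg.Agent.S0165
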