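import Mathlib
import Cfsg.Agent.Lib.Helper1.SZInternal
import Cfsg.Statements.S0030

namespace Cfsg.Agent.S0030

open Cfsg.Agent.Lib.Helper1 in
theorem result {G : Type*} [Group G] [Finite G] (A K : Subgroup G) (hAK : A ≤ Subgroup.normalizer (K : Set G))
    (hcop : (Nat.card A).Coprime (Nat.card K)) (hsolv : Group.IsSolvable A ∨ Group.IsSolvable K)
    (X Y : Subgroup G) (hX : X ≤ K) (hY : Y ≤ K) (hXA : A ≤ Subgroup.normalizer (X : Set G)) (hYA : A ≤ Subgroup.normalizer (Y : Set G))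
    (hXY : ∀ k ∈ K, ∃ x ∈ X, ∃ y ∈ Y, k = x * y) (k : G) (hk : k ∈ K ⊓ Subgroup.centralizer (A : Set G)) :
    ∃ x ∈ X ⊓ Subgroup.centralizer (A : Set G), ∃ y ∈ Y ⊓ Subgroup.centralizer (A : Set G), k = x * y := by
  obtain ⟨x₀, hx₀, y₀, hy₀, hk0⟩ := hXY k hk.1
  have hAD : A ≤ Subgroup.normalizer ((X ⊓ Y : Subgroup G) : Set G) := by
    intro a ha
    rw [Subgroup.mem_normalizer_iff]
    intro h
    have h1 := Subgroup.mem_normalizer_iff.mp (hXA ha) h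
    have h2 := Subgroup.mem_normalizer_iff.mp (hYA ha) h
    simp only [Subgroup.mem_inf]
    rw [h1, h2]
  have hcopD : (Nat.card A).Coprime (Nat.card (X ⊓ Y : Subgroup G)) :=
    hcop.coprime_dvd_right (Subgroup.card_dvd_of_le (inf_le_left.trans hX))
  have hsolvD : Group.IsSolvable A ∨ Group.IsSolvable (X ⊓ Y : Subgroup G) :=
    hsolv.imp id (fun h => isSolvable_of_le (inf_le_left.trans hX) h)
  have hfix : ∀ a ∈ A, x₀⁻¹ * a * x₀ * a⁻¹ ∈ X ⊓ Y := by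
    intro a ha
    have hax : a * x₀ * a⁻¹ ∈ X := (Subgroup.mem_normalizer_iff.mp (hXA ha) x₀).1 hx₀
    have hay : a * y₀ * a⁻¹ ∈ Y := (Subgroup.mem_normalizer_iff.mp (hYA ha) y₀).1 hy₀
    have hka : a * k * a⁻¹ = k := by
      have := Subgroup.mem_centralizer_iff.mp hk.2 a ha
      rw [this]; group
    refine ⟨?_, ?_⟩
    · have : x₀⁻¹ * a * x₀ * a⁻¹ = x₀⁻¹ * (a * x₀ * a⁻¹) := by group
      rw [this]; exact X.mul_mem (X.inv_mem hx₀) hax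
    · have : x₀⁻¹ * a * x₀ * a⁻¹ = y₀ * (a * y₀ * a⁻¹)⁻¹ := by
        rw [hk0] at hka
        have h3 : a * x₀ * a⁻¹ = x₀ * y₀ * (a * y₀ * a⁻¹)⁻¹ := by
          rw [← hka]; group
        calc x₀⁻¹ * a * x₀ * a⁻¹ = x₀⁻¹ * (a * x₀ * a⁻¹) := by group
          _ = x₀⁻¹ * (x₀ * y₀ * (a * y₀ * a⁻¹)⁻¹) := by rw [h3]
          _ = _ := by group
      rw [this]; exact Y.mul_mem hy₀ (Y.inv_mem hay)
  obtain ⟨d, hd, hc⟩ := exists_mul_mem_centralizer A (X ⊓ Y) hAD hcopD hsolvD x₀ hfix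
  refine ⟨x₀ * d, ⟨X.mul_mem hx₀ hd.1, hc⟩, d⁻¹ * y₀, ⟨Y.mul_mem (Y.inv_mem hd.2) hy₀, ?_⟩, ?_⟩
  · have : d⁻¹ * y₀ = (x₀ * d)⁻¹ * k := by rw [hk0]; group
    rw [this]; exact Subgroup.mul_mem _ (Subgroup.inv_mem _ hc) hk.2
  · rw [hk0]; group

end Cfsg.Agent.S0030
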