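import Mathlib
import Cfsg.Agent.S1324
import Cfsg.Statements.S1282

namespace Cfsg.Agent.S1282

open Cfsg.Agent.Lib.Helper1 Cfsg.Agent.Lib.Helper91 in
theorem result {G : Type*} [Group G] [Finite G] (p : ℕ) [Fact p.Prime] (A : Subgroup G) (hA : Cfsg.IsElementaryAbelian p A) (hA3 : p ^ 3 ≤ Nat.card ↥A) (q : ℕ) [Fact q.Prime] (hqp : q ≠ p) (Q₁ Q₂ : Subgroup G) (h₁ : IsPGroup q ↥Q₁) (h₂ : IsPGroup q ↥Q₂) (hA₁ : A ≤ Subgroup.normalizer (Q₁ : Set G)) (hA₂ : A ≤ Subgroup.normalizer (Q₂ : Set G)) (hD₁ : Q₁ ⊓ Q₂ ≠ Q₁) (hD₂ : Q₁ ⊓ Q₂ ≠ Q₂) : ∃ a ∈ A, a ≠ 1 ∧ ¬ (Subgroup.normalizer ((Q₁ ⊓ Q₂ : Subgroup G) : Set G) ⊓ Q₁ ⊓ Subgroup.centralizer {a} ≤ Q₁ ⊓ Q₂) ∧ ¬ (Subgroup.normalizer ((Q₁ ⊓ Q₂ : Subgroup G) : Set G) ⊓ Q₂ ⊓ Subgroup.centralizer {a} ≤ Q₁ ⊓ Q₂) := by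
  have hp : p.Prime := Fact.out
  have hq : q.Prime := Fact.out
  have hcomm : ∀ x ∈ A, ∀ y ∈ A, x * y = y * x := by
    intro x hx y hy
    have := hA.1.is_comm.comm (⟨x, hx⟩ : A) ⟨y, hy⟩
    exact congrArg Subtype.val this
  have hAD : A ≤ Subgroup.normalizer ((Q₁ ⊓ Q₂ : Subgroup G) : Set G) := by
    intro a ha
    rw [Subgroup.mem_normalizer_iff]
    intro h
    have h1 := Subgroup.mem_normalizer_iff.mp (hA₁ ha) h
    have h2 := Subgroup.mem_normalizer_iff.mp (hA₂ ha) h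
    simp only [Subgroup.mem_inf]
    rw [h1, h2]
  have key : ∀ Q : Subgroup G, IsPGroup q Q → A ≤ Subgroup.normalizer (Q : Set G) →
      Q₁ ⊓ Q₂ ≤ Q → Q₁ ⊓ Q₂ ≠ Q →
      ∃ B : Subgroup G, B ≤ A ∧ B.relIndex A ≤ p ∧
        ¬ (Subgroup.normalizer ((Q₁ ⊓ Q₂ : Subgroup G) : Set G) ⊓ Q ⊓
          Subgroup.centralizer (B : Set G) ≤ Q₁ ⊓ Q₂) := by
    intro Q hQ hAQ hDQ hne
    have hNp : ¬ p ∣ Nat.card
        (Subgroup.normalizer ((Q₁ ⊓ Q₂ : Subgroup G) : Set G) ⊓ Q : Subgroup G) := by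
      intro h
      have h1 : p ∣ Nat.card Q := h.trans (Subgroup.card_dvd_of_le inf_le_right)
      obtain ⟨k, hk⟩ := hQ.exists_card_eq
      rw [hk] at h1
      exact hqp ((Nat.prime_dvd_prime_iff_eq hp hq).mp (hp.dvd_of_dvd_pow h1)).symm
    have hAN : A ≤ Subgroup.normalizer
        ((Subgroup.normalizer ((Q₁ ⊓ Q₂ : Subgroup G) : Set G) ⊓ Q : Subgroup G) : Set G) := by
      rw [Subgroup.le_normalizer_iff]
      intro a ha n hn
      refine Subgroup.mem_inf.mpr ⟨?_, (Subgroup.le_normalizer_iff.mp hAQ) a ha n hn.2⟩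
      exact Subgroup.mul_mem _ (Subgroup.mul_mem _ (hAD ha) hn.1) (Subgroup.inv_mem _ (hAD ha))
    have hgen := Cfsg.Agent.S1324.result p A _ hA
      (le_trans (Nat.pow_le_pow_right hp.pos (by norm_num)) hA3) hNp hAN
    by_contra hcon
    push Not at hcon
    have hND : Subgroup.normalizer ((Q₁ ⊓ Q₂ : Subgroup G) : Set G) ⊓ Q ≤ Q₁ ⊓ Q₂ := by
      rw [hgen]
      exact iSup_le fun B => hcon B.1 B.2.1 B.2.2
    have hlt : Q₁ ⊓ Q₂ < Q := lt_of_le_of_ne hDQ hne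
    have hnil : Group.IsNilpotent Q := hQ.isNilpotent
    have hnc : NormalizerCondition Q := Group.normalizerCondition_of_isNilpotent
    have hlt' : (Q₁ ⊓ Q₂).subgroupOf Q < ⊤ := by
      rw [lt_top_iff_ne_top, Ne, Subgroup.subgroupOf_eq_top]
      exact not_le_of_gt hlt
    obtain ⟨x, hxn, hxD⟩ := SetLike.exists_of_lt (hnc _ hlt')
    rw [← Subgroup.subgroupOf_normalizer_eq hDQ] at hxn
    exact hxD (hND ⟨hxn, x.2⟩)
  obtain ⟨B₁, hB₁A, hB₁i, hB₁⟩ := key Q₁ h₁ hA₁ inf_le_left hD₁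
  obtain ⟨B₂, hB₂A, hB₂i, hB₂⟩ := key Q₂ h₂ hA₂ inf_le_right hD₂
  have hne : B₁ ⊓ B₂ ≠ ⊥ := by
    intro hbot
    have hB₂n : B₂ ≤ Subgroup.normalizer (B₁ : Set G) := by
      refine le_trans ?_ (Subgroup.centralizer_le_normalizer _)
      intro b hb
      rw [Subgroup.mem_centralizer_iff]
      intro c hc
      exact hcomm c (hB₁A hc) b (hB₂A hb)
    have h1 := card_sup_mul_card_inf_of_le_normalizer B₁ B₂ hB₂n
    rw [hbot, Subgroup.card_bot, mul_one] at h1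
    have h2 : Nat.card (B₁ ⊔ B₂ : Subgroup G) ≤ Nat.card A :=
      Subgroup.card_le_of_le (sup_le hB₁A hB₂A)
    have h3 := card_eq_card_mul_relIndex hB₁A
    have h4 := card_eq_card_mul_relIndex hB₂A
    have h5 : Nat.card A ≤ Nat.card B₁ * p := by
      rw [h3]; exact Nat.mul_le_mul_left _ hB₁i
    have h6 : Nat.card A ≤ Nat.card B₂ * p := by
      rw [h4]; exact Nat.mul_le_mul_left _ hB₂i
    have h7 : Nat.card A * Nat.card A ≤ Nat.card A * p ^ 2 := by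
      calc Nat.card A * Nat.card A ≤ (Nat.card B₁ * p) * (Nat.card B₂ * p) :=
            Nat.mul_le_mul h5 h6
        _ = (Nat.card B₁ * Nat.card B₂) * p ^ 2 := by ring
        _ ≤ Nat.card A * p ^ 2 := Nat.mul_le_mul_right _ (h1 ▸ h2)
    have h8 : Nat.card A ≤ p ^ 2 := Nat.le_of_mul_le_mul_left h7 Nat.card_pos
    have h9 : p ^ 2 < p ^ 3 := Nat.pow_lt_pow_right hp.one_lt (by norm_num)
    omega
  obtain ⟨⟨a, ha⟩, ha1⟩ := (Subgroup.ne_bot_iff_exists_ne_one).mp hne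
  refine ⟨a, hB₁A ha.1, fun h => ha1 (Subtype.ext h), ?_, ?_⟩
  · intro hle
    apply hB₁
    refine le_trans (inf_le_inf_left _ (Subgroup.centralizer_le ?_)) hle
    rw [Set.singleton_subset_iff]
    exact ha.1
  · intro hle
    apply hB₂
    refine le_trans (inf_le_inf_left _ (Subgroup.centralizer_le ?_)) hle
    rw [Set.singleton_subset_iff]
    exact ha.2

end Cfsg.Agent.S1282
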