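import Mathlib
import Cfsg.Agent.Lib.Helper61.Norm
import Cfsg.Agent.Lib.Helper61.CoprimeAb
import Cfsg.Agent.Lib.Helper61.AbGen
import Cfsg.Agent.Lib.Helper90.Conj
import Cfsg.Agent.Lib.Helper1.Tools
import Cfsg.Agent.Lib.Helper1.SZInternal
import Cfsg.Agent.S0024
import Cfsg.Agent.S0025
import Cfsg.Agent.S0030
import Cfsg.Agent.S1282
import Cfsg.Statements.S1283

set_option autoImplicit false

namespace Cfsg.Agent.S1283

open Cfsg.Agent.Lib.Helper61

/-- A product of a solvable subgroup and a solvable subgroup it normalizes is solvable. -/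
theorem isSolvable_sup {G : Type*} [Group G] (D H : Subgroup G)
    (hHD : H ≤ Subgroup.normalizer (D : Set G)) (hH : Group.IsSolvable H)
    (hD : Group.IsSolvable D) : Group.IsSolvable ↥(D ⊔ H) := by
  have hKD : D ⊔ H ≤ Subgroup.normalizer (D : Set G) := sup_le Subgroup.le_normalizer hHD
  have hDn : (D.subgroupOf (D ⊔ H)).Normal :=
    (Subgroup.normal_subgroupOf_iff_le_normalizer le_sup_left).mpr hKD
  have hD' : Group.IsSolvable (D.subgroupOf (D ⊔ H)) :=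
    Group.isSolvable_of_surjective
      (f := (Subgroup.subgroupOfEquivOfLe (le_sup_left : D ≤ D ⊔ H)).symm.toMonoidHom)
      (MulEquiv.surjective _)
  have hφ : Function.Surjective ((QuotientGroup.mk' (D.subgroupOf (D ⊔ H))).comp
      (Subgroup.inclusion (le_sup_right : H ≤ D ⊔ H))) := by
    intro z
    obtain ⟨k, rfl⟩ := QuotientGroup.mk'_surjective _ z
    obtain ⟨d, hd, h, hh, hkd⟩ := exists_mul_of_mem_sup_of_le_normalizer hHD k.2
    refine ⟨⟨h, hh⟩, ?_⟩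
    have hdK : d ∈ D ⊔ H := (le_sup_left : D ≤ D ⊔ H) hd
    have hhK : h ∈ D ⊔ H := (le_sup_right : H ≤ D ⊔ H) hh
    have hk : k = (⟨d, hdK⟩ : ↥(D ⊔ H)) * ⟨h, hhK⟩ := Subtype.ext hkd
    rw [hk, map_mul]
    have h1 : QuotientGroup.mk' (D.subgroupOf (D ⊔ H)) (⟨d, hdK⟩ : ↥(D ⊔ H)) = 1 :=
      (QuotientGroup.eq_one_iff _).mpr (Subgroup.mem_subgroupOf.mpr hd)
    rw [h1, one_mul]
    rfl
  have hq : Group.IsSolvable (↥(D ⊔ H) ⧸ D.subgroupOf (D ⊔ H)) := Group.isSolvable_of_surjective hφ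
  exact Group.isSolvable_of_ker_le_range (D.subgroupOf (D ⊔ H)).subtype
    (QuotientGroup.mk' (D.subgroupOf (D ⊔ H)))
    (by rw [QuotientGroup.ker_mk', Subgroup.range_subtype])

theorem map_conj_map_conj {G : Type*} [Group G] (U : Subgroup G) (x y : G) :
    (U.map (MulAut.conj x).toMonoidHom).map (MulAut.conj y).toMonoidHom =
      U.map (MulAut.conj (y * x)).toMonoidHom := by
  ext z
  rw [Cfsg.Agent.Lib.Helper90.mem_map_conj_iff, Cfsg.Agent.Lib.Helper90.mem_map_conj_iff,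
    Cfsg.Agent.Lib.Helper90.mem_map_conj_iff]
  have e : x⁻¹ * (y⁻¹ * z * y) * x = (y * x)⁻¹ * z * (y * x) := by group
  rw [e]

/-- Maximal `q`-members of the signalizer family. -/
def IsMaxQ {G : Type*} [Group G] (p : ℕ) (A : Subgroup G) (θ : G → Subgroup G) (q : ℕ)
    (Q : Subgroup G) : Prop :=
  Q ∈ Cfsg.signalizerFamily p A θ ∧ IsPGroup q ↥Q ∧
    ∀ R ∈ Cfsg.signalizerFamily p A θ, IsPGroup q ↥R → Q ≤ R → R = Q

theorem fam_sub {G : Type*} [Group G] {p : ℕ} {A : Subgroup G} {θ : G → Subgroup G}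
    {U V : Subgroup G} (hU : U ∈ Cfsg.signalizerFamily p A θ) (hVU : V ≤ U)
    (hAV : A ≤ Subgroup.normalizer (V : Set G)) : V ∈ Cfsg.signalizerFamily p A θ := by
  obtain ⟨hs, hp, hinv, hθ⟩ := hU
  refine ⟨Cfsg.Agent.Lib.Helper1.isSolvable_of_le hVU hs,
    fun h => hp (h.trans (Subgroup.card_dvd_of_le hVU)),
    fun b hb u hu => (Subgroup.le_normalizer_iff.mp hAV) b hb u hu,
    fun a ha ha1 => (inf_le_inf_right _ hVU).trans (hθ a ha ha1)⟩

theorem fam_conj {G : Type*} [Group G] {p : ℕ} {A : Subgroup G} {θ : G → Subgroup G}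
    {U : Subgroup G} (hU : U ∈ Cfsg.signalizerFamily p A θ) (c : G)
    (hcθ : ∀ a ∈ A, a ≠ 1 → c ∈ θ a) (hcA : ∀ a ∈ A, a * c = c * a) :
    U.map (MulAut.conj c).toMonoidHom ∈ Cfsg.signalizerFamily p A θ := by
  obtain ⟨hs, hp, hinv, hθ⟩ := hU
  refine ⟨?_, ?_, ?_, ?_⟩
  · exact Group.isSolvable_of_surjective
      (f := (U.equivMapOfInjective _ (MulAut.conj c).injective).toMonoidHom) (MulEquiv.surjective _)
  · rw [Subgroup.card_map_of_injective (MulAut.conj c).injective]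
    exact hp
  · intro b hb x hx
    rw [Cfsg.Agent.Lib.Helper90.mem_map_conj_iff] at hx ⊢
    have h1 := hinv b hb _ hx
    have hbc : b * c = c * b := hcA b hb
    have e : c⁻¹ * (b * x * b⁻¹) * c = b * (c⁻¹ * x * c) * b⁻¹ := by
      have hbc' : c⁻¹ * b = b * c⁻¹ := by
        rw [inv_mul_eq_iff_eq_mul, ← mul_assoc, ← hbc, mul_assoc, mul_inv_cancel, mul_one]
      have hbc'' : b⁻¹ * c = c * b⁻¹ := by
        rw [inv_mul_eq_iff_eq_mul, ← mul_assoc, hbc, mul_assoc, mul_inv_cancel, mul_one]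
      calc c⁻¹ * (b * x * b⁻¹) * c = (c⁻¹ * b) * x * (b⁻¹ * c) := by group
        _ = (b * c⁻¹) * x * (c * b⁻¹) := by rw [hbc', hbc'']
        _ = b * (c⁻¹ * x * c) * b⁻¹ := by group
    rw [e]; exact h1
  · intro a ha ha1 x hx
    obtain ⟨hx1, hx2⟩ := Subgroup.mem_inf.mp hx
    rw [Cfsg.Agent.Lib.Helper90.mem_map_conj_iff] at hx1
    have hac : a * c = c * a := hcA a ha
    have hx2' : a * x = x * a := (Subgroup.mem_centralizer_iff.mp hx2) a rfl
    have h3 : c⁻¹ * x * c ∈ Subgroup.centralizer ({a} : Set G) := by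
      rw [Subgroup.mem_centralizer_iff]
      intro h hh
      rw [Set.mem_singleton_iff] at hh
      subst hh
      have hac' : h * c⁻¹ = c⁻¹ * h := by
        rw [eq_inv_mul_iff_mul_eq, ← mul_assoc, ← hac, mul_assoc, mul_inv_cancel, mul_one]
      calc h * (c⁻¹ * x * c) = (h * c⁻¹) * x * c := by group
        _ = c⁻¹ * (h * x) * c := by rw [hac']; group
        _ = c⁻¹ * (x * h) * c := by rw [hx2']
        _ = c⁻¹ * x * (h * c) := by group
        _ = c⁻¹ * x * (c * h) := by rw [hac]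
        _ = c⁻¹ * x * c * h := by group
    have h4 : c⁻¹ * x * c ∈ θ a := hθ a ha ha1 (Subgroup.mem_inf.mpr ⟨hx1, h3⟩)
    have hc := hcθ a ha ha1
    have e : x = c * (c⁻¹ * x * c) * c⁻¹ := by group
    rw [e]
    exact (θ a).mul_mem ((θ a).mul_mem hc h4) ((θ a).inv_mem hc)

theorem maxQ_conj {G : Type*} [Group G] {p : ℕ} {A : Subgroup G} {θ : G → Subgroup G} {q : ℕ}
    {Q : Subgroup G} (hQ : IsMaxQ p A θ q Q) (c : G)
    (hcθ : ∀ a ∈ A, a ≠ 1 → c ∈ θ a) (hcA : ∀ a ∈ A, a * c = c * a) :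
    IsMaxQ p A θ q (Q.map (MulAut.conj c).toMonoidHom) := by
  obtain ⟨hF, hq, hmax⟩ := hQ
  refine ⟨fam_conj hF c hcθ hcA, hq.map _, ?_⟩
  intro R hR hRq hle
  have hcθ' : ∀ a ∈ A, a ≠ 1 → c⁻¹ ∈ θ a := fun a ha ha1 => (θ a).inv_mem (hcθ a ha ha1)
  have hcA' : ∀ a ∈ A, a * c⁻¹ = c⁻¹ * a := by
    intro a ha
    have := hcA a ha
    rw [eq_inv_mul_iff_mul_eq, ← mul_assoc, ← this, mul_assoc, mul_inv_cancel, mul_one]
  have h1 := hmax (R.map (MulAut.conj c⁻¹).toMonoidHom) (fam_conj hR c⁻¹ hcθ' hcA') (hRq.map _) (by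
    intro x hx
    rw [Cfsg.Agent.Lib.Helper90.mem_map_conj_iff]
    apply hle
    rw [Cfsg.Agent.Lib.Helper90.mem_map_conj_iff]
    have e : c⁻¹ * (c⁻¹⁻¹ * x * c⁻¹) * c = x := by group
    rw [e]; exact hx)
  rw [← h1, map_conj_map_conj]
  have e : c * c⁻¹ = 1 := mul_inv_cancel c
  rw [e]
  ext x
  rw [Cfsg.Agent.Lib.Helper90.mem_map_conj_iff]
  simp

theorem exists_maxQ {G : Type*} [Group G] [Finite G] {p : ℕ} {A : Subgroup G} {θ : G → Subgroup G}
    {q : ℕ} {U : Subgroup G} (hU : U ∈ Cfsg.signalizerFamily p A θ) (hUq : IsPGroup q ↥U) :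
    ∃ R : Subgroup G, U ≤ R ∧ IsMaxQ p A θ q R := by
  obtain ⟨V, hUV, hVmax⟩ := Set.Finite.exists_le_maximal
    (s := {V : Subgroup G | V ∈ Cfsg.signalizerFamily p A θ ∧ IsPGroup q ↥V}) (Set.toFinite _)
    (show U ∈ {V : Subgroup G | V ∈ Cfsg.signalizerFamily p A θ ∧ IsPGroup q ↥V} from ⟨hU, hUq⟩)
  refine ⟨V, hUV, hVmax.prop.1, hVmax.prop.2, ?_⟩
  intro R hR hRq hle
  exact le_antisymm (hVmax.le_of_ge ⟨hR, hRq⟩ hle) hle

theorem result {G : Type*} [Group G] [Finite G] (p : ℕ) [Fact p.Prime] (A : Subgroup G) (hA : Cfsg.IsElementaryAbelian p A) (hA3 : p ^ 3 ≤ Nat.card ↥A) (θ : G → Subgroup G) (hθ : Cfsg.IsSolvableSignalizerFunctor p A θ) (q : ℕ) [Fact q.Prime] (hq : ∃ a ∈ A, a ≠ 1 ∧ q ∣ Nat.card ↥(θ a)) (Q₁ Q₂ : Subgroup G) (hQ₁W : Q₁ ∈ Cfsg.signalizerFamily p A θ) (hQ₁q : IsPGroup q ↥Q₁) (hQ₁max : ∀ R ∈ Cfsg.signalizerFamily p A θ, IsPGroup q ↥R → Q₁ ≤ R → R = Q₁) (hQ₂W : Q₂ ∈ Cfsg.signalizerFamily p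 A θ) (hQ₂q : IsPGroup q ↥Q₂) (hQ₂max : ∀ R ∈ Cfsg.signalizerFamily p A θ, IsPGroup q ↥R → Q₂ ≤ R → R = Q₂) : ∃ c ∈ Cfsg.signalizerInf A θ, Q₁.map (MulAut.conj c).toMonoidHom = Q₂ := by
  obtain ⟨⟨h1, h2, h3, h4⟩, hsolv⟩ := hθ
  have hp : p.Prime := Fact.out
  have hq' : q.Prime := Fact.out
  have hcommA : ∀ x ∈ A, ∀ y ∈ A, x * y = y * x := by
    intro x hx y hy
    have := hA.1.is_comm.comm (⟨x, hx⟩ : A) ⟨y, hy⟩
    exact congrArg Subtype.val this
  have hApg : IsPGroup p A := by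
    intro x
    exact ⟨1, Subtype.ext (by rw [pow_one]; exact hA.2 x x.2)⟩
  have hC₀θ : ∀ c ∈ Cfsg.signalizerInf A θ, ∀ a ∈ A, a ≠ 1 → c ∈ θ a := by
    intro c hc a ha ha1
    exact (Subgroup.mem_iInf.mp hc) ⟨a, ha, ha1⟩
  have hC₀A : ∀ c ∈ Cfsg.signalizerInf A θ, ∀ a ∈ A, a * c = c * a := by
    intro c hc a ha
    by_cases ha1 : a = 1
    · rw [ha1, one_mul, mul_one]
    · have := h1 a ha ha1 (hC₀θ c hc a ha ha1)
      exact (Subgroup.mem_centralizer_iff.mp this) a rfl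
  have main : ∀ m : ℕ, ∀ Q₁ Q₂ : Subgroup G, IsMaxQ p A θ q Q₁ → IsMaxQ p A θ q Q₂ →
      Nat.card G - Nat.card (Q₁ ⊓ Q₂ : Subgroup G) = m →
      ∃ c ∈ Cfsg.signalizerInf A θ, Q₁.map (MulAut.conj c).toMonoidHom = Q₂ := by
    intro m
    induction m using Nat.strong_induction_on with
    | _ m ih =>
      intro Q₁ Q₂ hM₁ hM₂ hm
      obtain ⟨hF₁, hq₁, hmax₁⟩ := hM₁
      obtain ⟨hF₂, hq₂, hmax₂⟩ := hM₂
      by_cases hD₁ : Q₁ ⊓ Q₂ = Q₁
      · have h12 : Q₁ ≤ Q₂ := inf_eq_left.mp hD₁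
        have := hmax₁ Q₂ hF₂ hq₂ h12
        refine ⟨1, Subgroup.one_mem _, ?_⟩
        rw [this]
        ext x
        rw [Cfsg.Agent.Lib.Helper90.mem_map_conj_iff]
        simp
      by_cases hD₂ : Q₁ ⊓ Q₂ = Q₂
      · have h21 : Q₂ ≤ Q₁ := inf_eq_right.mp hD₂
        have := hmax₂ Q₁ hF₁ hq₁ h21
        refine ⟨1, Subgroup.one_mem _, ?_⟩
        rw [this]
        ext x
        rw [Cfsg.Agent.Lib.Helper90.mem_map_conj_iff]
        simp
      -- notation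
      obtain ⟨D, hDdef⟩ : ∃ D : Subgroup G, D = Q₁ ⊓ Q₂ := ⟨_, rfl⟩
      rw [← hDdef] at hD₁ hD₂ hm
      have hDQ₁ : D ≤ Q₁ := hDdef ▸ inf_le_left
      have hDQ₂ : D ≤ Q₂ := hDdef ▸ inf_le_right
      have hAQ₁ : A ≤ Subgroup.normalizer (Q₁ : Set G) :=
        Subgroup.le_normalizer_iff.mpr hF₁.2.2.1
      have hAQ₂ : A ≤ Subgroup.normalizer (Q₂ : Set G) :=
        Subgroup.le_normalizer_iff.mpr hF₂.2.2.1
      have hAD : A ≤ Subgroup.normalizer (D : Set G) := by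
        rw [hDdef]
        exact (le_inf hAQ₁ hAQ₂).trans (normalizer_inf_le_normalizer_inf Q₁ Q₂)
      have hDF : D ∈ Cfsg.signalizerFamily p A θ := fam_sub hF₁ hDQ₁ hAD
      -- q ≠ p
      have hqp : q ≠ p := by
        intro h
        have hne : Q₁ ≠ ⊥ := by
          intro hb
          apply hD₁
          rw [hb]
          exact le_bot_iff.mp (hb ▸ hDQ₁)
        obtain ⟨k, hk⟩ := hq₁.exists_card_eq
        have hk0 : k ≠ 0 := by
          intro h0
          rw [h0, pow_zero] at hk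
          exact hne (Subgroup.eq_bot_of_card_eq Q₁ hk)
        apply hF₁.2.1
        rw [hk, ← h]
        exact dvd_pow_self q hk0
      obtain ⟨a, ha, ha1, hE₁, hE₂⟩ := Cfsg.Agent.S1282.result p A hA hA3 q hqp Q₁ Q₂ hq₁ hq₂
        hAQ₁ hAQ₂ (hDdef ▸ hD₁) (hDdef ▸ hD₂)
      rw [← hDdef] at hE₁ hE₂
      -- the group K = D (θ a ∩ N(D))
      obtain ⟨H, hHdef⟩ : ∃ H : Subgroup G, H = θ a ⊓ Subgroup.normalizer (D : Set G) := ⟨_, rfl⟩
      have hHD : H ≤ Subgroup.normalizer (D : Set G) := hHdef ▸ inf_le_right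
      have hHθ : H ≤ θ a := hHdef ▸ inf_le_left
      have hAθ : A ≤ Subgroup.normalizer ((θ a : Subgroup G) : Set G) :=
        Subgroup.le_normalizer_iff.mpr (fun b hb x hx => h3 a ha ha1 b hb x hx)
      have hAND : A ≤ Subgroup.normalizer ((Subgroup.normalizer (D : Set G) : Subgroup G) : Set G) :=
        hAD.trans Subgroup.le_normalizer
      have hAH : A ≤ Subgroup.normalizer (H : Set G) := by
        rw [hHdef]
        exact (le_inf hAθ hAND).trans (normalizer_inf_le_normalizer_inf _ _)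
      obtain ⟨K, hKdef⟩ : ∃ K : Subgroup G, K = D ⊔ H := ⟨_, rfl⟩
      have hDK : D ≤ K := hKdef ▸ le_sup_left
      have hHK : H ≤ K := hKdef ▸ le_sup_right
      have hAK : A ≤ Subgroup.normalizer (K : Set G) := by
        rw [hKdef]
        exact (le_inf hAD hAH).trans (normalizer_inf_le_normalizer_sup _ _)
      have hHsolv : Group.IsSolvable H :=
        Cfsg.Agent.Lib.Helper1.isSolvable_of_le hHθ (hsolv a ha ha1)
      have hKsolv : Group.IsSolvable K := by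
        rw [hKdef]; exact isSolvable_sup D H hHD hHsolv hDF.1
      have hKp : ¬ p ∣ Nat.card K := by
        intro hdvd
        have hprod := Cfsg.Agent.Lib.Helper91.card_sup_mul_card_inf_of_le_normalizer D H hHD
        rw [← hKdef] at hprod
        have h5 : p ∣ Nat.card D * Nat.card H := by
          rw [← hprod]; exact Dvd.dvd.mul_right hdvd _
        rcases (Nat.Prime.dvd_mul hp).mp h5 with h | h
        · exact hDF.2.1 h
        · exact h2 a ha ha1 (h.trans (Subgroup.card_dvd_of_le hHθ))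
      have hcopK : ∀ B : Subgroup G, B ≤ A → (Nat.card B).Coprime (Nat.card K) := by
        intro B hB
        obtain ⟨k, hk⟩ := (hApg.to_le hB).exists_card_eq
        rw [hk]
        exact Nat.Coprime.pow_left k ((Nat.Prime.coprime_iff_not_dvd hp).mpr hKp)
      have hKF : K ∈ Cfsg.signalizerFamily p A θ := by
        refine ⟨hKsolv, hKp, fun b hb u hu => (Subgroup.le_normalizer_iff.mp hAK) b hb u hu, ?_⟩
        intro b hb hb1 k hk
        obtain ⟨hkK, hkb⟩ := Subgroup.mem_inf.mp hk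
        have hzA : Subgroup.zpowers b ≤ A := by rw [Subgroup.zpowers_le]; exact hb
        have hkb' : k ∈ Subgroup.centralizer ((Subgroup.zpowers b : Subgroup G) : Set G) :=
          centralizer_singleton_le_centralizer_zpowers b hkb
        obtain ⟨x, hx, y, hy, hkxy⟩ := Cfsg.Agent.S0030.result (Subgroup.zpowers b) K
          (hzA.trans hAK) (hcopK _ hzA) (Or.inr hKsolv) D H hDK hHK (hzA.trans hAD) (hzA.trans hAH)
          (fun k hk => by
            rw [hKdef] at hk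
            exact exists_mul_of_mem_sup_of_le_normalizer hHD hk)
          k (Subgroup.mem_inf.mpr ⟨hkK, hkb'⟩)
        have hcz : ∀ z : G, z ∈ Subgroup.centralizer ((Subgroup.zpowers b : Subgroup G) : Set G) →
            z ∈ Subgroup.centralizer ({b} : Set G) := by
          intro z hz
          rw [Subgroup.mem_centralizer_iff] at hz ⊢
          intro h hh
          rw [Set.mem_singleton_iff] at hh
          subst hh
          exact hz h (Subgroup.mem_zpowers h)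
        have hxθ : x ∈ θ b :=
          hDF.2.2.2 b hb hb1 (Subgroup.mem_inf.mpr ⟨(Subgroup.mem_inf.mp hx).1,
            hcz x (Subgroup.mem_inf.mp hx).2⟩)
        have hyθ : y ∈ θ b :=
          h4 a ha ha1 b hb hb1 (Subgroup.mem_inf.mpr ⟨hHθ (Subgroup.mem_inf.mp hy).1,
            hcz y (Subgroup.mem_inf.mp hy).2⟩)
        rw [hkxy]
        exact (θ b).mul_mem hxθ hyθ
      -- E_i ≤ K
      have hEK : ∀ Q : Subgroup G, Q ∈ Cfsg.signalizerFamily p A θ →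
          Subgroup.normalizer (D : Set G) ⊓ Q ⊓ Subgroup.centralizer {a} ≤ Q ⊓ K := by
        intro Q hQF x hx
        obtain ⟨hx12, hx3⟩ := Subgroup.mem_inf.mp hx
        obtain ⟨hx1, hx2⟩ := Subgroup.mem_inf.mp hx12
        refine Subgroup.mem_inf.mpr ⟨hx2, hHK ?_⟩
        rw [hHdef]
        exact Subgroup.mem_inf.mpr ⟨hQF.2.2.2 a ha ha1 (Subgroup.mem_inf.mpr ⟨hx2, hx3⟩), hx1⟩
      -- invariant Sylow subgroups of K
      have hsyl : ∀ Q : Subgroup G, Q ∈ Cfsg.signalizerFamily p A θ → IsPGroup q ↥Q →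
          ∃ P : Sylow q K, Q ⊓ K ≤ (P : Subgroup K).map K.subtype ∧
            A ≤ Subgroup.normalizer ((P : Subgroup K).map K.subtype : Set G) := by
        intro Q hQF hQq
        have hAQ : A ≤ Subgroup.normalizer (Q : Set G) := Subgroup.le_normalizer_iff.mpr hQF.2.2.1
        exact Cfsg.Agent.S0025.result A K hAK (hcopK A le_rfl) (Or.inr hKsolv) q (Q ⊓ K) inf_le_right
          (hQq.to_le inf_le_left) ((le_inf hAQ hAK).trans (normalizer_inf_le_normalizer_inf _ _))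
      obtain ⟨S₁, hS₁, hAS₁⟩ := hsyl Q₁ hF₁ hq₁
      obtain ⟨S₂, hS₂, hAS₂⟩ := hsyl Q₂ hF₂ hq₂
      obtain ⟨c, hcA, hcS⟩ := Cfsg.Agent.S0024.result A K hAK (hcopK A le_rfl) (Or.inr hKsolv) q
        S₁ S₂ hAS₁ hAS₂
      have hcC₀ : (c : G) ∈ Cfsg.signalizerInf A θ := by
        refine Subgroup.mem_iInf.mpr ?_
        rintro ⟨b, hb, hb1⟩
        apply hKF.2.2.2 b hb hb1
        refine Subgroup.mem_inf.mpr ⟨c.2, ?_⟩
        rw [Subgroup.mem_centralizer_iff]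
        intro h hh
        rw [Set.mem_singleton_iff] at hh
        subst hh
        exact (Subgroup.mem_centralizer_iff.mp hcA) h hb
      have hS₁F : (S₁ : Subgroup K).map K.subtype ∈ Cfsg.signalizerFamily p A θ :=
        fam_sub hKF (Subgroup.map_subtype_le _) hAS₁
      have hS₂F : (S₂ : Subgroup K).map K.subtype ∈ Cfsg.signalizerFamily p A θ :=
        fam_sub hKF (Subgroup.map_subtype_le _) hAS₂
      obtain ⟨R₁, hSR₁, hR₁⟩ := exists_maxQ hS₁F (S₁.2.map _)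
      obtain ⟨R₂, hSR₂, hR₂⟩ := exists_maxQ hS₂F (S₂.2.map _)
      -- S₂ ≤ R₁^c
      have hS₂R₁ : (S₂ : Subgroup K).map K.subtype ≤ R₁.map (MulAut.conj (c : G)).toMonoidHom := by
        rintro _ ⟨y, hy, rfl⟩
        have hy' : y ∈ ((MulAut.conj c • S₁ : Sylow q K) : Subgroup K) := by rw [hcS]; exact hy
        rw [Sylow.pointwise_smul_def, Subgroup.mem_pointwise_smul_iff_inv_smul_mem] at hy'
        rw [Cfsg.Agent.Lib.Helper90.mem_map_conj_iff]
        apply hSR₁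
        refine ⟨_, hy', ?_⟩
        simp [MulAut.smul_def]
      -- strictness helper
      have hlt : ∀ X Q : Subgroup G, Q ∈ Cfsg.signalizerFamily p A θ → D ≤ X →
          Q ⊓ K ≤ X → ¬ (Subgroup.normalizer (D : Set G) ⊓ Q ⊓ Subgroup.centralizer {a} ≤ D) →
          Nat.card G - Nat.card X < m := by
        intro X Q hQF hDX hQX hE
        have hne : D ≠ X := by
          intro h
          apply hE
          have h8 := (hEK Q hQF).trans hQX
          rw [← h] at h8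
          exact h8
        have h6 := Cfsg.Agent.Lib.Helper1.card_lt_card_of_lt (lt_of_le_of_ne hDX hne)
        have h7 : Nat.card X ≤ Nat.card G := Subgroup.card_le_card_group X
        omega
      have hR₁c : IsMaxQ p A θ q (R₁.map (MulAut.conj (c : G)).toMonoidHom) :=
        maxQ_conj hR₁ (c : G) (hC₀θ _ hcC₀) (hC₀A _ hcC₀)
      -- three applications of the induction hypothesis
      obtain ⟨c₁, hc₁, e₁⟩ := ih _ (hlt (Q₁ ⊓ R₁) Q₁ hF₁ (le_inf hDQ₁ ((le_inf hDQ₁ hDK : D ≤ Q₁ ⊓ K).trans (hS₁.trans hSR₁)))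
        (le_inf inf_le_left (hS₁.trans hSR₁)) hE₁) Q₁ R₁ ⟨hF₁, hq₁, hmax₁⟩ hR₁ rfl
      obtain ⟨c₂, hc₂, e₂⟩ := ih _ (hlt (R₁.map (MulAut.conj (c : G)).toMonoidHom ⊓ R₂) Q₂ hF₂
        (le_inf ((le_inf hDQ₂ hDK : D ≤ Q₂ ⊓ K).trans (hS₂.trans hS₂R₁))
          ((le_inf hDQ₂ hDK : D ≤ Q₂ ⊓ K).trans (hS₂.trans hSR₂)))
        (le_inf (hS₂.trans hS₂R₁) (hS₂.trans hSR₂)) hE₂)
        (R₁.map (MulAut.conj (c : G)).toMonoidHom) R₂ hR₁c hR₂ rfl
      obtain ⟨c₃, hc₃, e₃⟩ := ih _ (hlt (R₂ ⊓ Q₂) Q₂ hF₂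
        (le_inf ((le_inf hDQ₂ hDK : D ≤ Q₂ ⊓ K).trans (hS₂.trans hSR₂)) hDQ₂)
        (le_inf (hS₂.trans hSR₂) inf_le_left) hE₂) R₂ Q₂ hR₂ ⟨hF₂, hq₂, hmax₂⟩ rfl
      refine ⟨c₃ * (c₂ * ((c : G) * c₁)), ?_, ?_⟩
      · exact Subgroup.mul_mem _ hc₃ (Subgroup.mul_mem _ hc₂ (Subgroup.mul_mem _ hcC₀ hc₁))
      · rw [← map_conj_map_conj, ← map_conj_map_conj, ← map_conj_map_conj, e₁, e₂, e₃]
  exact main _ Q₁ Q₂ ⟨hQ₁W, hQ₁q, hQ₁max⟩ ⟨hQ₂W, hQ₂q, hQ₂max⟩ rfl

end Cfsg.Agent.S1283
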