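import Cfsg.Statements.S4354

set_option autoImplicit false
open Cfsg

namespace Cfsg.Agent.S4354

variable {G : Type*} [Group G] [Finite G]

/-- The relative index in a normal subgroup divides the index. -/
theorem relIndex_dvd_index_normal (H A : Subgroup G) [A.Normal] : H.relIndex A ∣ H.index := by
  have key : H.relIndex (H ⊔ A) = H.relIndex A := by
    have a1 : (H ⊓ A).relIndex H * H.relIndex (H ⊔ A) = (H ⊓ A).relIndex (H ⊔ A) :=
      Subgroup.relIndex_mul_relIndex _ _ _ inf_le_left le_sup_left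
    have a2 : (H ⊓ A).relIndex A * A.relIndex (H ⊔ A) = (H ⊓ A).relIndex (H ⊔ A) :=
      Subgroup.relIndex_mul_relIndex _ _ _ inf_le_right le_sup_right
    rw [Subgroup.inf_relIndex_left] at a1
    rw [Subgroup.inf_relIndex_right, Subgroup.relIndex_sup_right] at a2
    have hne : A.relIndex H ≠ 0 := by
      have : (A.subgroupOf H).index ≠ 0 := Subgroup.index_ne_zero_of_finite
      exact this
    have : A.relIndex H * H.relIndex (H ⊔ A) = A.relIndex H * H.relIndex A := by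
      rw [a1, ← a2, mul_comm]
    exact Nat.eq_of_mul_eq_mul_left (Nat.pos_of_ne_zero hne) this
  rw [← key]
  exact Subgroup.relIndex_dvd_index_of_le le_sup_left

/-- The class-size condition passes to a normal subgroup. -/
theorem inherit_sub (p : ℕ) [Fact p.Prime] (N : Subgroup G) [N.Normal]
    (h : ∀ x : G, (∃ k : ℕ, orderOf x = p ^ k) →
      ¬ p ∣ (Subgroup.centralizer ({x} : Set G)).index) :
    ∀ x : N, (∃ k : ℕ, orderOf x = p ^ k) →
      ¬ p ∣ (Subgroup.centralizer ({x} : Set N)).index := by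
  intro x hx hdvd
  have hx' : ∃ k, orderOf (x : G) = p ^ k := by
    obtain ⟨k, hk⟩ := hx
    exact ⟨k, by rw [Subgroup.orderOf_coe]; exact hk⟩
  apply h x hx'
  have e : Subgroup.centralizer ({x} : Set N) =
      (Subgroup.centralizer ({(x : G)} : Set G)).subgroupOf N := by
    ext y
    rw [Subgroup.mem_subgroupOf, Subgroup.mem_centralizer_iff, Subgroup.mem_centralizer_iff]
    constructor
    · intro hy z hz
      rw [Set.mem_singleton_iff] at hz
      subst hz
      have := hy x rfl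
      exact congrArg Subtype.val this
    · intro hy z hz
      rw [Set.mem_singleton_iff] at hz
      subst hz
      exact Subtype.ext (hy (z : G) rfl)
  rw [e] at hdvd
  exact hdvd.trans (relIndex_dvd_index_normal _ N)

/-- The class-size condition passes to a quotient. -/
theorem inherit_quot (p : ℕ) [Fact p.Prime] (N : Subgroup G) [N.Normal]
    (h : ∀ x : G, (∃ k : ℕ, orderOf x = p ^ k) →
      ¬ p ∣ (Subgroup.centralizer ({x} : Set G)).index) :
    ∀ x : G ⧸ N, (∃ k : ℕ, orderOf x = p ^ k) →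
      ¬ p ∣ (Subgroup.centralizer ({x} : Set (G ⧸ N))).index := by
  intro x hx hdvd
  obtain ⟨k, hk⟩ := hx
  have hz : IsPGroup p (Subgroup.zpowers x) :=
    IsPGroup.of_card (n := k) (by rw [Nat.card_zpowers, hk])
  obtain ⟨Q, hQ⟩ := hz.exists_le_sylow
  obtain ⟨P, rfl⟩ := Sylow.mapSurjective_surjective (QuotientGroup.mk'_surjective N) p Q
  have hxQ : x ∈ ((P.mapSurjective (QuotientGroup.mk'_surjective N) : Sylow p (G ⧸ N)) :
      Subgroup (G ⧸ N)) := hQ (Subgroup.mem_zpowers x)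
  rw [Sylow.coe_mapSurjective] at hxQ
  obtain ⟨y, hyP, rfl⟩ := hxQ
  obtain ⟨j, hj⟩ := (IsPGroup.iff_orderOf.mp P.isPGroup') ⟨y, hyP⟩
  have hy : ∃ j, orderOf y = p ^ j := ⟨j, by rw [← hj, Subgroup.orderOf_mk]⟩
  apply h y hy
  have hle : (Subgroup.centralizer ({y} : Set G)).map (QuotientGroup.mk' N) ≤
      Subgroup.centralizer ({(QuotientGroup.mk' N y)} : Set (G ⧸ N)) := by
    rintro _ ⟨c, hc, rfl⟩
    have hc : c ∈ Subgroup.centralizer ({y} : Set G) := hc
    rw [Subgroup.mem_centralizer_iff] at hc ⊢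
    intro z hz
    rw [Set.mem_singleton_iff] at hz
    subst hz
    rw [← map_mul, ← map_mul, hc y rfl]
  exact (hdvd.trans (Subgroup.index_dvd_of_le hle)).trans
    (Subgroup.index_map_dvd _ (QuotientGroup.mk'_surjective N))

omit [Finite G] in
/-- If `g ^ m` and `g ^ n` lie in a subgroup for coprime `m`, `n`, then so does `g`. -/
theorem mem_of_pow_mem_of_coprime (Z : Subgroup G) (g : G) (m n : ℕ) (hmn : Nat.Coprime m n)
    (hm : g ^ m ∈ Z) (hn : g ^ n ∈ Z) : g ∈ Z := by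
  have h1 := Nat.gcd_eq_gcd_ab m n
  rw [hmn] at h1
  have h2 : g = (g ^ m) ^ (Nat.gcdA m n) * (g ^ n) ^ (Nat.gcdB m n) := by
    rw [← zpow_natCast, ← zpow_natCast, ← zpow_mul, ← zpow_mul, ← zpow_add, ← h1]
    simp
  rw [h2]
  exact Z.mul_mem (Z.zpow_mem hm _) (Z.zpow_mem hn _)

/-- Step 1: a `p`-element normalizing an abelian Sylow subgroup `A` of the normal subgroup `N`
and having class size prime to `p` centralizes `A`. -/
theorem step1 (p : ℕ) [Fact p.Prime] (N : Subgroup G) [N.Normal] (A : Subgroup G) (hAN : A ≤ N)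
    (hAp : IsPGroup p A) (hAab : ∀ a ∈ A, ∀ b ∈ A, a * b = b * a) (hAidx : ¬ p ∣ A.relIndex N)
    (x : G) (k : ℕ) (hxk : x ^ (p ^ k) = 1) (hxA : ∀ a, a ∈ A ↔ x * a * x⁻¹ ∈ A)
    (hxC : ¬ p ∣ (Subgroup.centralizer ({x} : Set G)).index) :
    ∀ a ∈ A, x * a = a * x := by
  have hA' : IsPGroup p (A.subgroupOf N) :=
    hAp.of_equiv (Subgroup.subgroupOfEquivOfLe hAN).symm
  have hcard : ¬ p ∣ Nat.card (N ⧸ (Subgroup.centralizer ({x} : Set G)).subgroupOf N) :=
    fun hd => hxC (hd.trans (relIndex_dvd_index_normal _ N))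
  obtain ⟨q, hq⟩ := hA'.nonempty_fixed_point_of_prime_not_dvd_card
    (N ⧸ (Subgroup.centralizer ({x} : Set G)).subgroupOf N) hcard
  obtain ⟨n, rfl⟩ := QuotientGroup.mk_surjective q
  -- y = n x n⁻¹ centralizes A
  have hy : ∀ a ∈ A, Commute ((n : G) * x * (n : G)⁻¹) a := by
    intro a ha
    have h1 := hq ⟨⟨a, hAN ha⟩, by rw [Subgroup.mem_subgroupOf]; exact ha⟩
    have h1' : (QuotientGroup.mk ((⟨a, hAN ha⟩ : N) * n) :
        N ⧸ (Subgroup.centralizer ({x} : Set G)).subgroupOf N) = QuotientGroup.mk n := h1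
    have h2 := QuotientGroup.eq.mp h1'
    rw [Subgroup.mem_subgroupOf, Subgroup.mem_centralizer_iff] at h2
    have h3 := h2 x rfl
    have h4 : Commute x ((n : G)⁻¹ * a⁻¹ * n) := by
      have : x * ((n : G)⁻¹ * a⁻¹ * n) = ((n : G)⁻¹ * a⁻¹ * n) * x := by
        simpa [mul_assoc] using h3
      exact this
    have h5 := (Commute.conj_iff (n : G)).mpr h4
    have h6 : (n : G) * ((n : G)⁻¹ * a⁻¹ * n) * (n : G)⁻¹ = a⁻¹ := by group
    rw [h6] at h5
    exact (Commute.inv_right_iff).mp h5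
  set y := (n : G) * x * (n : G)⁻¹ with hydef
  set c := x⁻¹ * y with hcdef
  have hcN : c ∈ N := by
    have h1 : x⁻¹ * (n : G) * x⁻¹⁻¹ ∈ N := ‹N.Normal›.conj_mem _ n.2 _
    have h2 : c = (x⁻¹ * (n : G) * x⁻¹⁻¹) * (n : G)⁻¹ := by
      rw [hcdef, hydef]; group
    rw [h2]
    exact N.mul_mem h1 (N.inv_mem n.2)
  have hxinv : ∀ a ∈ A, x⁻¹ * a * x ∈ A := by
    intro a ha
    rw [hxA]
    have : x * (x⁻¹ * a * x) * x⁻¹ = a := by group
    rw [this]; exact ha
  have hca : ∀ a ∈ A, c * a * c⁻¹ = x⁻¹ * a * x := by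
    intro a ha
    have h1 : y * a * y⁻¹ = a := by
      rw [(hy a ha).eq]; group
    calc c * a * c⁻¹ = x⁻¹ * (y * a * y⁻¹) * x := by rw [hcdef]; group
      _ = x⁻¹ * a * x := by rw [h1]
  have hpow : ∀ j : ℕ, ∀ a ∈ A, c ^ j * a * (c ^ j)⁻¹ = (x ^ j)⁻¹ * a * x ^ j ∧
      (x ^ j)⁻¹ * a * x ^ j ∈ A := by
    intro j
    induction j with
    | zero => intro a ha; simpa using ha
    | succ j ih =>
      intro a ha
      obtain ⟨e1, m1⟩ := ih a ha
      have e2 := hca _ m1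
      have e3 : (x ^ (j + 1))⁻¹ * a * x ^ (j + 1) = x⁻¹ * ((x ^ j)⁻¹ * a * x ^ j) * x := by
        rw [pow_succ]; group
      constructor
      · rw [e3, ← e2, ← e1, pow_succ']; group
      · rw [e3]; exact hxinv _ m1
  -- c normalizes A
  have hcnorm : c ∈ Subgroup.normalizer (A : Set G) := by
    rw [Subgroup.mem_normalizer_iff]
    intro h
    constructor
    · intro hh
      rw [hca h hh]; exact hxinv h hh
    · intro hh
      have h1 := hca (x * (c * h * c⁻¹) * x⁻¹) ((hxA _).mp hh)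
      have h2 : x⁻¹ * (x * (c * h * c⁻¹) * x⁻¹) * x = c * h * c⁻¹ := by group
      rw [h2] at h1
      have h3 : x * (c * h * c⁻¹) * x⁻¹ = h := by
        have := congrArg (fun t => c⁻¹ * t * c) h1
        simpa [mul_assoc] using this
      rw [← h3]; exact (hxA _).mp hh
  set M₁ := N ⊓ Subgroup.normalizer (A : Set G) with hM₁
  have hcM : c ∈ M₁ := ⟨hcN, hcnorm⟩
  have hAM : A ≤ M₁ := le_inf hAN Subgroup.le_normalizer
  have hnormal : (A.subgroupOf M₁).Normal :=
    (Subgroup.normal_subgroupOf_iff_le_normalizer hAM).mpr inf_le_right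
  have hm : ¬ p ∣ A.relIndex M₁ := by
    intro hd
    apply hAidx
    rw [← Subgroup.relIndex_mul_relIndex A M₁ N hAM inf_le_left]
    exact hd.mul_right _
  have hcm : c ^ (A.relIndex M₁) ∈ A := by
    have h1 := Subgroup.pow_index_mem (A.subgroupOf M₁) (⟨c, hcM⟩ : M₁)
    rw [Subgroup.mem_subgroupOf] at h1
    have h2 : c ^ (A.subgroupOf M₁).index ∈ A := by simpa using h1
    exact h2
  -- both powers centralize A
  have hZ1 : c ^ (A.relIndex M₁) ∈ Subgroup.centralizer (A : Set G) := by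
    rw [Subgroup.mem_centralizer_iff]
    intro a ha
    exact hAab a ha _ hcm
  have hZ2 : c ^ (p ^ k) ∈ Subgroup.centralizer (A : Set G) := by
    rw [Subgroup.mem_centralizer_iff]
    intro a ha
    have h1 := (hpow (p ^ k) a ha).1
    rw [hxk] at h1
    have h2 : c ^ p ^ k * a * (c ^ p ^ k)⁻¹ = a := by simpa using h1
    have := congrArg (fun t => t * c ^ p ^ k) h2
    simpa [mul_assoc] using this.symm
  have hcop : Nat.Coprime (A.relIndex M₁) (p ^ k) :=
    Nat.Coprime.pow_right k ((Nat.Prime.coprime_iff_not_dvd (Fact.out : p.Prime)).mpr hm).symm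
  have hcZ : c ∈ Subgroup.centralizer (A : Set G) :=
    mem_of_pow_mem_of_coprime _ c _ _ hcop hZ1 hZ2
  intro a ha
  rw [Subgroup.mem_centralizer_iff] at hcZ
  have h1 := hca a ha
  have h2 : c * a * c⁻¹ = a := by
    rw [← hcZ a ha]; group
  rw [h2] at h1
  have := congrArg (fun t => x * t) h1
  simpa [mul_assoc] using this

/-- Step 1 for a `p`-subgroup `R` and `A = R ⊓ N`. -/
theorem step1' (p : ℕ) [Fact p.Prime] (N : Subgroup G) [N.Normal] (R : Subgroup G)
    (hR : IsPGroup p R)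
    (hAab : ∀ a ∈ R ⊓ N, ∀ b ∈ R ⊓ N, a * b = b * a) (hAidx : ¬ p ∣ (R ⊓ N).relIndex N)
    (h : ∀ x : G, (∃ k : ℕ, orderOf x = p ^ k) →
      ¬ p ∣ (Subgroup.centralizer ({x} : Set G)).index) :
    ∀ r ∈ R, ∀ a ∈ R ⊓ N, r * a = a * r := by
  intro r hr
  obtain ⟨k, hk⟩ := (IsPGroup.iff_orderOf.mp hR) ⟨r, hr⟩
  have hk' : orderOf r = p ^ k := by rw [← hk, Subgroup.orderOf_mk]
  apply step1 p N (R ⊓ N) inf_le_right hR.to_inf_left hAab hAidx r k
    (by rw [← hk']; exact pow_orderOf_eq_one r) ?_ (h r ⟨k, hk'⟩)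
  intro a
  simp only [Subgroup.mem_inf]
  constructor
  · rintro ⟨h1, h2⟩
    exact ⟨R.mul_mem (R.mul_mem hr h1) (R.inv_mem hr), ‹N.Normal›.conj_mem a h2 r⟩
  · rintro ⟨h1, h2⟩
    refine ⟨?_, ?_⟩
    · have := R.mul_mem (R.mul_mem (R.inv_mem hr) h1) hr
      simpa [mul_assoc] using this
    · have := ‹N.Normal›.conj_mem _ h2 r⁻¹
      simpa [mul_assoc] using this

omit [Finite G] in
/-- The subgroup of elements centralizing `A` whose commutator with `x` lies in `A`. -/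
def commSub (A : Subgroup G) (x : G) : Subgroup G where
  carrier := {g | (∀ a ∈ A, g * a = a * g) ∧ x * g * x⁻¹ * g⁻¹ ∈ A}
  mul_mem' := by
    rintro g h ⟨hg1, hg2⟩ ⟨hh1, hh2⟩
    refine ⟨fun a ha => by rw [mul_assoc, hh1 a ha, ← mul_assoc, hg1 a ha, mul_assoc], ?_⟩
    have e : x * (g * h) * x⁻¹ * (g * h)⁻¹ =
        (x * g * x⁻¹ * g⁻¹) * (g * (x * h * x⁻¹ * h⁻¹) * g⁻¹) := by group
    rw [e]
    have : g * (x * h * x⁻¹ * h⁻¹) * g⁻¹ = x * h * x⁻¹ * h⁻¹ := by rw [hg1 _ hh2]; group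
    rw [this]; exact A.mul_mem hg2 hh2
  one_mem' := ⟨fun a _ => by simp, by simp⟩
  inv_mem' := by
    rintro g ⟨hg1, hg2⟩
    refine ⟨fun a ha => ?_, ?_⟩
    · have := hg1 a ha
      calc g⁻¹ * a = g⁻¹ * (a * g) * g⁻¹ := by group
        _ = g⁻¹ * (g * a) * g⁻¹ := by rw [this]
        _ = a * g⁻¹ := by group
    · have e : x * g⁻¹ * x⁻¹ * g⁻¹⁻¹ = g⁻¹ * (x * g * x⁻¹ * g⁻¹)⁻¹ * g := by group
      rw [e]
      have h3 := hg1 _ (A.inv_mem hg2)
      have : g⁻¹ * (x * g * x⁻¹ * g⁻¹)⁻¹ * g = (x * g * x⁻¹ * g⁻¹)⁻¹ := by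
        rw [mul_assoc, ← h3]; group
      rw [this]; exact A.inv_mem hg2

omit [Finite G] in
/-- The commutator map `g ↦ [x, g]` on `commSub A x`. -/
def commHom (A : Subgroup G) (x : G) : commSub A x →* A where
  toFun g := ⟨x * g * x⁻¹ * (g : G)⁻¹, g.2.2⟩
  map_one' := by ext; simp
  map_mul' := by
    rintro ⟨g, hg1, hg2⟩ ⟨h, hh1, hh2⟩
    apply Subtype.ext
    show x * (g * h) * x⁻¹ * (g * h)⁻¹ = (x * g * x⁻¹ * g⁻¹) * (x * h * x⁻¹ * h⁻¹)
    have e : x * (g * h) * x⁻¹ * (g * h)⁻¹ =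
        (x * g * x⁻¹ * g⁻¹) * (g * (x * h * x⁻¹ * h⁻¹) * g⁻¹) := by group
    rw [e]
    have : g * (x * h * x⁻¹ * h⁻¹) * g⁻¹ = x * h * x⁻¹ * h⁻¹ := by rw [hg1 _ hh2]; group
    rw [this]

/-- Main step: Sylow subgroups of `G` are abelian when those of `N` and `G ⧸ N` are. -/
theorem sylow_comm (p : ℕ) [Fact p.Prime] (N : Subgroup G) [N.Normal]
    (h : ∀ x : G, (∃ k : ℕ, orderOf x = p ^ k) →
      ¬ p ∣ (Subgroup.centralizer ({x} : Set G)).index)
    (hN : ∀ Q : Sylow p N, IsMulCommutative Q)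
    (hQ : ∀ Q : Sylow p (G ⧸ N), IsMulCommutative Q)
    (P : Sylow p G) : ∀ x ∈ P, ∀ y ∈ P, x * y = y * x := by
  have hAp : IsPGroup p ((P : Subgroup G) ⊓ N : Subgroup G) := P.isPGroup'.to_inf_left
  have hAab : ∀ a ∈ (P : Subgroup G) ⊓ N, ∀ b ∈ (P : Subgroup G) ⊓ N, a * b = b * a := by
    intro a ha b hb
    have hp' : IsPGroup p (((P : Subgroup G) ⊓ N).subgroupOf N) :=
      hAp.of_equiv (Subgroup.subgroupOfEquivOfLe inf_le_right).symm
    obtain ⟨S, hS⟩ := hp'.exists_le_sylow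
    have hS' := hN S
    have ha' : (⟨a, ha.2⟩ : N) ∈ S := hS (by rw [Subgroup.mem_subgroupOf]; exact ha)
    have hb' : (⟨b, hb.2⟩ : N) ∈ S := hS (by rw [Subgroup.mem_subgroupOf]; exact hb)
    have h1 := (isMulCommutative_iff.mp hS') ⟨_, ha'⟩ ⟨_, hb'⟩
    have h2 := congrArg (fun t : S => ((t : N) : G)) h1
    exact h2
  have hAidx : ¬ p ∣ ((P : Subgroup G) ⊓ N).relIndex N := by
    rw [Subgroup.inf_relIndex_right]
    intro hd
    exact P.not_dvd_index (hd.trans (relIndex_dvd_index_normal _ N))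
  have hcomm : ∀ u ∈ P, ∀ v ∈ P, u * v * u⁻¹ * v⁻¹ ∈ N := by
    intro u hu v hv
    have hp' : IsPGroup p ((P : Subgroup G).map (QuotientGroup.mk' N)) := P.isPGroup'.map _
    obtain ⟨S, hS⟩ := hp'.exists_le_sylow
    have hS' := hQ S
    have hu' : (QuotientGroup.mk' N u) ∈ S := hS ⟨u, hu, rfl⟩
    have hv' : (QuotientGroup.mk' N v) ∈ S := hS ⟨v, hv, rfl⟩
    have h1 := (isMulCommutative_iff.mp hS') ⟨_, hu'⟩ ⟨_, hv'⟩
    have h3 : QuotientGroup.mk' N u * QuotientGroup.mk' N v =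
        QuotientGroup.mk' N v * QuotientGroup.mk' N u := congrArg Subtype.val h1
    rw [← QuotientGroup.ker_mk' N, MonoidHom.mem_ker, map_mul, map_mul, map_mul, map_inv,
      map_inv, h3]
    group
  have hP1 := step1' p N P P.isPGroup' hAab hAidx h
  intro x hx y hy
  obtain ⟨kx, hkx⟩ := (IsPGroup.iff_orderOf.mp P.isPGroup') ⟨x, hx⟩
  have hxord : orderOf x = p ^ kx := by rw [← hkx, Subgroup.orderOf_mk]
  have hAC : (P : Subgroup G) ⊓ N ≤ Subgroup.centralizer ({x} : Set G) := by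
    intro a ha
    rw [Subgroup.mem_centralizer_iff]
    intro z hz
    rw [Set.mem_singleton_iff] at hz
    subst hz
    exact hP1 z hx a ha
  have hp'' : IsPGroup p (((P : Subgroup G) ⊓ N).subgroupOf
      (Subgroup.centralizer ({x} : Set G))) :=
    hAp.of_equiv (Subgroup.subgroupOfEquivOfLe hAC).symm
  obtain ⟨P', hP'⟩ := hp''.exists_le_sylow
  set R := (P' : Subgroup (Subgroup.centralizer ({x} : Set G))).map
    (Subgroup.centralizer ({x} : Set G)).subtype with hRdef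
  have hRC : R ≤ Subgroup.centralizer ({x} : Set G) := Subgroup.map_subtype_le _
  have hRp : IsPGroup p R := P'.isPGroup'.map _
  have hAR : (P : Subgroup G) ⊓ N ≤ R := by
    intro a ha
    exact ⟨⟨a, hAC ha⟩, hP' (by rw [Subgroup.mem_subgroupOf]; exact ha), rfl⟩
  have hRidx : ¬ p ∣ R.index := by
    rw [← Subgroup.relIndex_mul_index hRC]
    intro hd
    rcases (Nat.Prime.dvd_mul Fact.out).mp hd with h1 | h1
    · have e : R.relIndex (Subgroup.centralizer ({x} : Set G)) =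
          (P' : Subgroup (Subgroup.centralizer ({x} : Set G))).index := by
        rw [Subgroup.relIndex, hRdef]
        congr 1
        exact Subgroup.comap_map_eq_self_of_injective Subtype.coe_injective _
      rw [e] at h1
      exact P'.not_dvd_index h1
    · exact h x ⟨_, hxord⟩ h1
  have hRN : R ⊓ N = (P : Subgroup G) ⊓ N := by
    apply le_antisymm
    · have hle : (P : Subgroup G) ⊓ N ≤ R ⊓ N := le_inf hAR inf_le_right
      have hBp : IsPGroup p (R ⊓ N : Subgroup G) := hRp.to_inf_left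
      have h1 : ¬ p ∣ ((P : Subgroup G) ⊓ N).relIndex (R ⊓ N) := by
        intro hd
        apply hAidx
        rw [← Subgroup.relIndex_mul_relIndex _ (R ⊓ N) N hle inf_le_right]
        exact hd.mul_right _
      have h2 : ((P : Subgroup G) ⊓ N).relIndex (R ⊓ N) ∣ Nat.card (R ⊓ N : Subgroup G) :=
        Subgroup.relIndex_dvd_card _ _
      obtain ⟨j, hj⟩ := IsPGroup.iff_card.mp hBp
      rw [hj] at h2
      obtain ⟨i, -, hi'⟩ := (Nat.dvd_prime_pow Fact.out).mp h2
      rw [hi'] at h1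
      have hi0 : i = 0 := by
        by_contra hne
        exact h1 (dvd_pow_self p hne)
      rw [hi0, pow_zero] at hi'
      exact Subgroup.relIndex_eq_one.mp hi'
    · exact le_inf hAR inf_le_right
  have hR1 := step1' p N R hRp (by rw [hRN]; exact hAab) (by rw [hRN]; exact hAidx) h
  rw [hRN] at hR1
  have hyW : y ∈ commSub ((P : Subgroup G) ⊓ N) x :=
    ⟨fun a ha => hP1 y hy a ha,
      ⟨Subgroup.mul_mem _ (Subgroup.mul_mem _ (Subgroup.mul_mem _ hx hy) (Subgroup.inv_mem _ hx))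
        (Subgroup.inv_mem _ hy), hcomm x hx y hy⟩⟩
  have hRW : R ≤ commSub ((P : Subgroup G) ⊓ N) x := by
    intro r hr
    refine ⟨fun a ha => hR1 r hr a ha, ?_⟩
    have hrc := hRC hr
    rw [Subgroup.mem_centralizer_iff] at hrc
    have h1 : x * r * x⁻¹ * r⁻¹ = 1 := by
      rw [hrc x rfl]; group
    rw [h1]; exact Subgroup.one_mem _
  have hker : (commHom ((P : Subgroup G) ⊓ N) x).ker = ⊤ := by
    rw [← Subgroup.index_eq_one]
    have h1 : (commHom ((P : Subgroup G) ⊓ N) x).ker.index ∣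
        Nat.card ((P : Subgroup G) ⊓ N : Subgroup G) := by
      rw [Subgroup.index_ker]; exact Subgroup.card_subgroup_dvd_card _
    obtain ⟨j, hj⟩ := IsPGroup.iff_card.mp hAp
    rw [hj] at h1
    obtain ⟨i, -, hi'⟩ := (Nat.dvd_prime_pow Fact.out).mp h1
    have h2 : ¬ p ∣ (commHom ((P : Subgroup G) ⊓ N) x).ker.index := by
      intro hd
      apply hRidx
      have h3 : (R.subgroupOf (commSub ((P : Subgroup G) ⊓ N) x)) ≤
          (commHom ((P : Subgroup G) ⊓ N) x).ker := by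
        intro r hr
        rw [Subgroup.mem_subgroupOf] at hr
        rw [MonoidHom.mem_ker]
        apply Subtype.ext
        have hrc := hRC hr
        rw [Subgroup.mem_centralizer_iff] at hrc
        show x * (r : G) * x⁻¹ * (r : G)⁻¹ = 1
        rw [hrc x rfl]; group
      exact (hd.trans (Subgroup.index_dvd_of_le h3)).trans
        (Subgroup.relIndex_dvd_index_of_le hRW)
    rw [hi'] at h2 ⊢
    have hi0 : i = 0 := by
      by_contra hne
      exact h2 (dvd_pow_self p hne)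
    rw [hi0, pow_zero]
  have h4 : (⟨y, hyW⟩ : commSub ((P : Subgroup G) ⊓ N) x) ∈
      (commHom ((P : Subgroup G) ⊓ N) x).ker := by rw [hker]; trivial
  rw [MonoidHom.mem_ker] at h4
  have h5 : x * y * x⁻¹ * y⁻¹ = 1 := congrArg Subtype.val h4
  have h6 := congrArg (fun t => t * y * x) h5
  simpa [mul_assoc] using h6

/-- Let G be a finite group and p a prime such that the Sylow p-subgroups of G are non-abelian while every element of p-power order has conjugacy class size prime to p, and suppose no nontrivial proper normal subgroup N of G has this property and no quotient G/N by such an N has it. Then G is simple. -/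
theorem result {G : Type*} [Group G] [Finite G]
    (p : ℕ) [Fact p.Prime] (h : ((∃ P : Sylow p G, ¬ IsMulCommutative P) ∧ ∀ x : G, (∃ k : ℕ, orderOf x = p ^ k) → ¬ p ∣ (Subgroup.centralizer ({x} : Set G)).index))
    (hmin : ∀ (N : Subgroup G) [N.Normal], N ≠ ⊥ → N ≠ ⊤ →
      ¬ ((∃ P : Sylow p N, ¬ IsMulCommutative P) ∧ ∀ x : N, (∃ k : ℕ, orderOf x = p ^ k) → ¬ p ∣ (Subgroup.centralizer ({x} : Set N)).index) ∧
      ¬ ((∃ P : Sylow p (G ⧸ N), ¬ IsMulCommutative P) ∧ ∀ x : (G ⧸ N), (∃ k : ℕ, orderOf x = p ^ k) → ¬ p ∣ (Subgroup.centralizer ({x} : Set (G ⧸ N))).index)) :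
    IsSimpleGroup G := by
  obtain ⟨⟨P0, hP0⟩, hcl⟩ := h
  have hnt : Nontrivial G := by
    by_contra hcon
    rw [not_nontrivial_iff_subsingleton] at hcon
    apply hP0
    exact ⟨⟨fun a b => Subsingleton.elim _ _⟩⟩
  refine ⟨fun N hNn => ?_⟩
  by_contra hcon
  push Not at hcon
  obtain ⟨hbot, htop⟩ := hcon
  obtain ⟨h1, h2⟩ := hmin N hbot htop
  have hN : ∀ Q : Sylow p N, IsMulCommutative Q := by
    intro Q
    by_contra hQ
    exact h1 ⟨⟨Q, hQ⟩, inherit_sub p N hcl⟩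
  have hQ : ∀ Q : Sylow p (G ⧸ N), IsMulCommutative Q := by
    intro Q
    by_contra hQ
    exact h2 ⟨⟨Q, hQ⟩, inherit_quot p N hcl⟩
  apply hP0
  rw [isMulCommutative_iff]
  rintro ⟨a, ha⟩ ⟨b, hb⟩
  exact Subtype.ext (sylow_comm p N hcl hN hQ P0 a ha b hb)

end Cfsg.Agent.S4354
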