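import Cfsg.Statements.S1458
import Mathlib
import Cfsg.Agent.Lib.Helper10.ZJe
import Cfsg.Agent.S0017
import Cfsg.Agent.Lib.Helper22.PComp

set_option autoImplicit false
open Cfsg

namespace Cfsg.Agent.S1458

open Cfsg.Agent.Lib in
/-- A `2`-subgroup of a group of odd order is trivial. -/
theorem eq_bot_of_two_group_of_odd {H : Type*} [Group H] [Finite H] (hodd : Odd (Nat.card H))
    (Q : Subgroup H) (hQ : IsPGroup 2 Q) : Q = ⊥ := by
  haveI : Fact (Nat.Prime 2) := ⟨Nat.prime_two⟩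
  obtain ⟨n, hn⟩ := IsPGroup.exists_card_eq hQ
  have hdvd : Nat.card Q ∣ Nat.card H := Subgroup.card_subgroup_dvd_card Q
  have hoddQ : Odd (Nat.card Q) := hodd.of_dvd_nat hdvd
  rw [hn] at hoddQ
  have hn0 : n = 0 := by
    by_contra h
    have : Even (2 ^ n) := (Nat.even_pow.mpr ⟨even_two, h⟩)
    exact (Nat.not_even_iff_odd.mpr hoddQ) this
  rw [hn0, pow_zero] at hn
  exact Subgroup.card_eq_one.mp hn

/-- Let G be a solvable group of odd order, p a prime and S a Sylow p-subgroup of G. Then the subgroup generated by the centre of the Thompson subgroup of S and O_{p'}(G) is normal in G. -/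
theorem result {G : Type*} [Group G] [Finite G] [Group.IsSolvable G] (hodd : Odd (Nat.card G)) (p : ℕ) [Fact p.Prime] (S : Sylow p G) :
    (Cfsg.centerThompsonOf p (S : Subgroup G) ⊔ Cfsg.pPrimeCore p G).Normal := by
  classical
  have hpp : p.Prime := Fact.out
  by_cases hp : p = 2
  · subst hp
    have hS : (S : Subgroup G) = ⊥ := eq_bot_of_two_group_of_odd hodd _ S.2
    have hZ : Cfsg.centerThompsonOf 2 (S : Subgroup G) = ⊥ := by
      rw [eq_bot_iff]
      refine (inf_le_left.trans (Cfsg.Agent.Lib.Helper11.thompsonSubgroupOf_le 2 _)).trans ?_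
      rw [hS]
    rw [hZ, bot_sup_eq]
    exact Cfsg.Agent.Lib.Helper22.pPrimeCore_normal' 2 G
  · obtain ⟨N, hN⟩ : ∃ N : Subgroup G, N = Cfsg.pPrimeCore p G := ⟨_, rfl⟩
    rw [← hN]
    haveI hNn : N.Normal := hN ▸ Cfsg.Agent.Lib.Helper22.pPrimeCore_normal' p G
    have hNc : (Nat.card N).Coprime p := hN ▸ Cfsg.Agent.Lib.Helper22.card_pPrimeCore_coprime p G
    have hsurj : Function.Surjective (QuotientGroup.mk' N) := QuotientGroup.mk'_surjective N
    have hoddq : Odd (Nat.card (G ⧸ N)) := hodd.of_dvd_nat (Subgroup.card_quotient_dvd_card N)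
    have h2 : Cfsg.Agent.Lib.Helper11.TwoAb (⊤ : Subgroup (G ⧸ N)) := by
      intro Q _ hQ2 u hu v hv
      have hQ := eq_bot_of_two_group_of_odd hoddq Q hQ2
      rw [hQ, Subgroup.mem_bot] at hu hv
      rw [hu, hv]
    have hns : Cfsg.Agent.Lib.Helper11.NoSL2 p (⊤ : Subgroup (G ⧸ N)) :=
      Cfsg.Agent.Lib.Helper11.noSL2_of_twoAb hp h2
    have hO : Cfsg.pPrimeCore p (G ⧸ N) = ⊥ := by
      subst hN
      exact Cfsg.Agent.Lib.Helper22.pPrimeCore_quotient_eq_bot p G
    have hc := Cfsg.Agent.S0017.result (G := G ⧸ N) p hO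
    have hZn := Cfsg.Agent.Lib.Helper10.ZJe.zje_normal_noSL2 hp (Nat.card (G ⧸ N)) (G ⧸ N) le_rfl
      hns hc (S.mapSurjective hsurj)
    rw [Sylow.coe_mapSurjective] at hZn
    have hinj : Set.InjOn (QuotientGroup.mk' N) ((S : Subgroup G) : Set G) := by
      intro x hx y hy hxy
      have h1 : x⁻¹ * y ∈ N := QuotientGroup.eq.mp hxy
      have h3 : (orderOf (x⁻¹ * y)).Coprime p :=
        Nat.Coprime.coprime_dvd_left (Subgroup.orderOf_dvd_natCard N h1) hNc
      have h4 : x⁻¹ * y = 1 :=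
        Cfsg.Agent.Lib.Helper34.eq_one_of_mem_pgroup_of_coprime S.2
          ((S : Subgroup G).mul_mem ((S : Subgroup G).inv_mem hx) hy) h3
      exact inv_mul_eq_one.mp h4
    have hmap : Cfsg.centerThompsonOf p ((S : Subgroup G).map (QuotientGroup.mk' N)) =
        (Cfsg.centerThompsonOf p (S : Subgroup G)).map (QuotientGroup.mk' N) := by
      have := Cfsg.Agent.Lib.Helper11.xOf_map_of_injOn
        (Cfsg.Agent.Lib.Helper38.NPCMax.charFunctor_zjE p hp) (QuotientGroup.mk' N)
        (S : Subgroup G) hinj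
      rwa [Cfsg.Agent.Lib.Helper38.NPCMax.jOf_zjE, Cfsg.Agent.Lib.Helper38.NPCMax.jOf_zjE] at this
    rw [hmap] at hZn
    have hfin := hZn.comap (QuotientGroup.mk' N)
    rw [Subgroup.comap_map_eq, QuotientGroup.ker_mk'] at hfin
    exact hfin

end Cfsg.Agent.S1458
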