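import Mathlib
import Cfsg.Statements.S1469
import Cfsg.Agent.Lib.Helper54.Puig2
import Cfsg.Agent.S1468
import Cfsg.Agent.Lib.Helper11.ZJ
import Cfsg.Agent.Lib.Lead.ZJFact
import Cfsg.Agent.Lib.Helper22.PLocal
import Cfsg.Agent.Lib.Helper34.CoreAux

set_option autoImplicit false
open Cfsg

namespace Cfsg.Agent.S1469

open Cfsg.Agent.Lib.Helper54 Cfsg.Agent.S1468

universe u

/-- If `O_{p'}(G) = 1` and `O_p(G) = 1` in a solvable group, the group is trivial. -/
theorem eq_one_of_cores_eq_bot {G : Type u} [Group G] [Finite G] [Group.IsSolvable G]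
    (p : ℕ) [Fact p.Prime] (hO : Cfsg.pPrimeCore p G = ⊥) (hne : Cfsg.pCore p G = ⊥) (g : G) :
    g = 1 := by
  have hC := centralizer_le_of_pCore_inf_le p hO (Cfsg.pCore p G) inf_le_left
  have : g ∈ Subgroup.centralizer (Cfsg.pCore p G : Set G) := by
    rw [Subgroup.mem_centralizer_iff]
    intro x hx
    rw [hne, SetLike.mem_coe, Subgroup.mem_bot] at hx
    rw [hx, one_mul, mul_one]
  have h2 := hC this
  rw [hne, Subgroup.mem_bot] at h2
  exact h2

/-- Puig's theorem when `O_{p'}(G) = 1`: `Z(L(S))` is normal in `G`. -/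
theorem part2 {G : Type u} [Group G] [Finite G] [Group.IsSolvable G] (hodd : Odd (Nat.card G))
    (p : ℕ) [Fact p.Prime] (hp : p ≠ 2) (hO : Cfsg.pPrimeCore p G = ⊥) (S : Sylow p G) :
    (ZIn (S : Subgroup G)).Normal := by
  by_cases hne : Cfsg.pCore p G = ⊥
  · refine ⟨fun n hn g => ?_⟩
    rw [eq_one_of_cores_eq_bot p hO hne g]
    simpa using hn
  set T : Subgroup G := Cfsg.pCore p G with hT
  have hTS : T ≤ (S : Subgroup G) := Cfsg.Agent.Lib.Helper55.pCore_le_sylow S
  have hTp : IsPGroup p T := Cfsg.Agent.Lib.Helper55.pCore_isPGroup p G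
  obtain ⟨k, hk⟩ := exists_stable T
  have hLT : LIn T = seqIn T (2 * k + 1) := ((hk k le_rfl).2).symm
  have hLTn : (LIn T).Normal := by
    rw [hLT]
    exact seqIn_normal T _
  have hCLT : Subgroup.centralizer (LIn T : Set G) ≤ LIn T := by
    rw [hLT]
    have := seqIn_normal T (2 * k + 1)
    exact centralizer_le_of_pCore_inf_le p hO (seqIn T (2 * k + 1))
      (seqIn_pCore_selfCentralizing p hne (2 * k + 1) (Nat.succ_pos _))
  have hLTS : LIn T ≤ LIn (S : Subgroup G) :=
    iInf_mono (fun n => (chain hodd p hp hO hne S n).2)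
  set ZT : Subgroup G := LIn T ⊓ Subgroup.centralizer (LIn T : Set G) with hZT
  have hZTn : ZT.Normal := by
    have : (Subgroup.centralizer (LIn T : Set G)).Normal := Subgroup.normal_centralizer
    exact Subgroup.normal_inf_normal _ _
  have hZTab : IsMulCommutative ZT := by
    rw [Cfsg.Agent.Lib.Helper54.isMulCommutative_iff]
    intro x hx y hy
    exact (Subgroup.mem_centralizer_iff.mp (Subgroup.mem_inf.mp hx).2 y
      (Subgroup.mem_inf.mp hy).1).symm
  have hZ_le : ZIn (S : Subgroup G) ≤ ZT := by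
    intro z hz
    have hzC : z ∈ Subgroup.centralizer (LIn T : Set G) :=
      Subgroup.centralizer_le hLTS (Subgroup.mem_inf.mp hz).2
    exact Subgroup.mem_inf.mpr ⟨hCLT hzC, hzC⟩
  have hZT_S : ZT ≤ (S : Subgroup G) := inf_le_left.trans ((LIn_le T).trans hTS)
  have hZT_Ls : ZT ≤ LsIn (S : Subgroup G) := by
    rw [← stepIn_LIn]
    refine le_stepIn hZT_S hZTab ?_
    rw [Subgroup.normalizer_eq_top]
    exact le_top
  have hZTp : IsPGroup p ZT := hTp.to_le (inf_le_left.trans (LIn_le T))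
  set K : Subgroup G := Subgroup.centralizer (ZT : Set G) with hK
  have hKn : K.Normal := Subgroup.normal_centralizer
  set D : Subgroup G := (Cfsg.pCore p (G ⧸ K)).comap (QuotientGroup.mk' K) with hD
  have hDn : D.Normal := Subgroup.Normal.comap inferInstance _
  have hLS_D : LIn (S : Subgroup G) ≤ D := by
    rw [← stepIn_LsIn]
    apply sSup_le
    rintro A ⟨hAS, hAc, hXA⟩ a ha
    exact quad_mk_centralizer_mem_pCore hodd p hp ZT hZTp a
      (quad_of_abelian_normalized hAc (hZT_Ls.trans hXA) ha)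
  set S₁ : Subgroup G := (S : Subgroup G) ⊓ D with hS₁
  have hLS1 : LIn S₁ = LIn (S : Subgroup G) :=
    LIn_eq_of_le inf_le_left (le_inf (LIn_le _) hLS_D)
  have hN1 : Subgroup.normalizer (S₁ : Set G) ≤
      Subgroup.normalizer (ZIn (S : Subgroup G) : Set G) := by
    intro g hg
    have h1 := mem_normalizer_ZIn hg
    unfold ZIn at h1 ⊢
    rw [hLS1] at h1
    exact h1
  have hKN : K ≤ Subgroup.normalizer (ZIn (S : Subgroup G) : Set G) := by
    intro g hg
    apply mem_normalizer_of_conj_mem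
    intro z hz
    have h1 : z * g = g * z := Subgroup.mem_centralizer_iff.mp hg z (hZ_le hz)
    rw [← h1, mul_inv_cancel_right]
    exact hz
  have hfr : Subgroup.normalizer (S₁ : Set G) ⊔ D = ⊤ :=
    Cfsg.Agent.Lib.Helper11.frattini_inf S D
  have hDle : D ≤ K ⊔ S₁ := by
    intro d hd
    have hsurj := QuotientGroup.mk'_surjective K
    have h1 : Cfsg.pCore p (G ⧸ K) ≤ (Sylow.mapSurjective hsurj S : Subgroup (G ⧸ K)) :=
      Cfsg.Agent.Lib.Helper55.pCore_le_sylow _
    have h2 := h1 hd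
    rw [Sylow.coe_mapSurjective] at h2
    obtain ⟨s, hs, hsd⟩ := h2
    have hsD : s ∈ D := by
      show QuotientGroup.mk' K s ∈ Cfsg.pCore p (G ⧸ K)
      rw [hsd]
      exact hd
    have hk' : s⁻¹ * d ∈ K := QuotientGroup.eq.mp hsd
    have hds : d = s * (s⁻¹ * d) := by group
    rw [hds]
    exact Subgroup.mul_mem _ (Subgroup.mem_sup_right ⟨hs, hsD⟩) (Subgroup.mem_sup_left hk')
  have htop : Subgroup.normalizer (ZIn (S : Subgroup G) : Set G) = ⊤ := by
    rw [eq_top_iff, ← hfr]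
    apply sup_le hN1
    exact hDle.trans (sup_le hKN (Subgroup.le_normalizer.trans hN1))
  exact Subgroup.normalizer_eq_top_iff.mp htop

/-- Puig's theorem: `G = O_{p'}(G) N_G(Z(L(S)))`. -/
theorem part1 {G : Type u} [Group G] [Finite G] [Group.IsSolvable G] (hodd : Odd (Nat.card G))
    (p : ℕ) [Fact p.Prime] (hp : p ≠ 2) (S : Sylow p G) :
    Cfsg.pPrimeCore p G ⊔ Subgroup.normalizer (ZIn (S : Subgroup G) : Set G) = ⊤ := by
  have hKc : (Nat.card (Cfsg.pPrimeCore p G)).Coprime p :=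
    Cfsg.Agent.Lib.Helper34.card_pPrimeCore_coprime p G
  have hPK : (S : Subgroup G) ⊓ (QuotientGroup.mk' (Cfsg.pPrimeCore p G)).ker = ⊥ := by
    rw [QuotientGroup.ker_mk']
    exact Cfsg.Agent.Lib.Lead.pGroup_inf_coprime_eq_bot S.isPGroup' hKc
  have hinj : ∀ x ∈ (S : Subgroup G), ∀ y ∈ (S : Subgroup G),
      QuotientGroup.mk' (Cfsg.pPrimeCore p G) x = QuotientGroup.mk' (Cfsg.pPrimeCore p G) y →
        x = y :=
    fun x hx y hy hxy => Cfsg.Agent.Lib.Lead.eq_of_map_eq_of_inf_ker _ _ hPK hx hy hxy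
  have hsurj := QuotientGroup.mk'_surjective (Cfsg.pPrimeCore p G)
  have hodd' : Odd (Nat.card (G ⧸ Cfsg.pPrimeCore p G)) :=
    Odd.of_dvd_nat hodd (Subgroup.card_quotient_dvd_card _)
  have h2 := part2 hodd' p hp (Cfsg.Agent.Lib.Helper63.pPrimeCore_quotient_eq_bot p G)
    (Sylow.mapSurjective hsurj S)
  rw [Sylow.coe_mapSurjective, ← map_ZIn _ hinj] at h2
  have hZp : IsPGroup p (ZIn (S : Subgroup G)) := S.isPGroup'.to_le (ZIn_le _)
  have hN := Cfsg.Agent.Lib.Helper22.normalizer_map_mk_of_coprime (Cfsg.pPrimeCore p G) hKc _ hZp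
  rw [Subgroup.normalizer_eq_top_iff.mpr h2] at hN
  have h1 := Subgroup.comap_map_eq (QuotientGroup.mk' (Cfsg.pPrimeCore p G))
    (Subgroup.normalizer (ZIn (S : Subgroup G) : Set G))
  rw [hN, Subgroup.comap_top, QuotientGroup.ker_mk'] at h1
  rw [sup_comm]
  exact h1.symm

theorem main {G : Type u} [Group G] [Finite G] [Group.IsSolvable G] (hodd : Odd (Nat.card G))
    (p : ℕ) [Fact p.Prime] (hp : p ≠ 2) (S : Sylow p G) :
    Cfsg.pPrimeCore p G ⊔ Subgroup.normalizer ((((Subgroup.center ↥(Cfsg.puigSubgroup ↥(S : Subgroup G))).map (Cfsg.puigSubgroup ↥(S : Subgroup G)).subtype).map (S : Subgroup G).subtype : Subgroup G) : Set G) = ⊤ ∧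
      (Cfsg.pPrimeCore p G = ⊥ → (((Subgroup.center ↥(Cfsg.puigSubgroup ↥(S : Subgroup G))).map (Cfsg.puigSubgroup ↥(S : Subgroup G)).subtype).map (S : Subgroup G).subtype).Normal) := by
  rw [ZIn_eq_map]
  exact ⟨part1 hodd p hp S, fun hO => part2 hodd p hp hO S⟩

/-- Let p be an odd prime, G a solvable group of odd order and S a Sylow p-subgroup, and let Z be the centre of the Puig subgroup L(S), viewed inside G. Then G is generated by O_{p'}(G) and N_G(Z); and if O_{p'}(G) = 1 then Z is normal in G. -/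
theorem result {G : Type*} [Group G] [Finite G] [Group.IsSolvable G] (hodd : Odd (Nat.card G)) (p : ℕ) [Fact p.Prime] (hp : p ≠ 2) (S : Sylow p G) :
    Cfsg.pPrimeCore p G ⊔ Subgroup.normalizer ((((Subgroup.center ↥(Cfsg.puigSubgroup ↥(S : Subgroup G))).map (Cfsg.puigSubgroup ↥(S : Subgroup G)).subtype).map (S : Subgroup G).subtype : Subgroup G) : Set G) = ⊤ ∧
      (Cfsg.pPrimeCore p G = ⊥ → (((Subgroup.center ↥(Cfsg.puigSubgroup ↥(S : Subgroup G))).map (Cfsg.puigSubgroup ↥(S : Subgroup G)).subtype).map (S : Subgroup G).subtype).Normal) := by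
  exact main hodd p hp S

end Cfsg.Agent.S1469
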