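import Cfsg.Statements.S0636
import Mathlib
import Cfsg.Agent.S0016
import Cfsg.Agent.Lib.Helper38.PChain
import Cfsg.Agent.Lib.Helper38.AlperinRel

set_option autoImplicit false
open Cfsg

namespace Cfsg.Agent.S0636

/-- For odd p, every non-cyclic normal subgroup of a p-group contains a normal elementary abelian subgroup of the whole group of order p². -/
theorem result {R : Type*} [Group R] [Finite R] {p : ℕ} [Fact p.Prime] (hp : p ≠ 2) (hR : IsPGroup p R) (S : Subgroup R) [S.Normal] (hS : ¬ IsCyclic S) : ∃ A : Subgroup R, A ≤ S ∧ A.Normal ∧ Cfsg.IsElementaryAbelian p A ∧ Nat.card A = p ^ 2 := by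
  have hpp : p.Prime := Fact.out
  have hSn : S.Normal := inferInstance
  have hbot : (⊥ : Subgroup R) ∈ {B : Subgroup R | B.Normal ∧ IsMulCommutative B ∧
      (∀ b ∈ B, b ^ p = 1) ∧ B ≤ S} := by
    refine ⟨inferInstance, ⟨⟨fun a b => Subtype.ext ?_⟩⟩, ?_, bot_le⟩
    · rw [Subgroup.coe_mul, Subgroup.coe_mul, Subgroup.mem_bot.mp a.2, Subgroup.mem_bot.mp b.2]
    · intro b hb
      rw [Subgroup.mem_bot.mp hb, one_pow]
  obtain ⟨E₀, -, hE₀max⟩ := Set.Finite.exists_le_maximal
    (s := {B : Subgroup R | B.Normal ∧ IsMulCommutative B ∧ (∀ b ∈ B, b ^ p = 1) ∧ B ≤ S})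
    (Set.toFinite _) hbot
  obtain ⟨⟨hE₀n, hE₀c, hE₀e, hE₀S⟩, hE₀m⟩ := hE₀max
  obtain ⟨m, hm⟩ := (hR.to_subgroup E₀).exists_card_eq
  by_cases hm2 : 2 ≤ m
  · have h2 : p ^ 2 ≤ Nat.card E₀ := by
      rw [hm]
      exact Nat.pow_le_pow_right hpp.pos hm2
    obtain ⟨B, hBn, hBE, hBc, -⟩ :=
      Cfsg.Agent.Lib.Helper38.exists_normal_card_centralizer hR E₀ 2 h2
    refine ⟨B, hBE.trans hE₀S, hBn, ⟨⟨⟨fun a b => Subtype.ext ?_⟩⟩, fun b hb => hE₀e b (hBE hb)⟩,
      hBc⟩
    show (a : R) * (b : R) = (b : R) * (a : R)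
    exact congrArg Subtype.val (mul_comm' (⟨a, hBE a.2⟩ : E₀) ⟨b, hBE b.2⟩)
  · exfalso
    have hm1 : m ≤ 1 := by omega
    have hcent : Subgroup.centralizer (E₀ : Set R) = ⊤ := by
      have h1 := Cfsg.Agent.Lib.Helper38.index_centralizer_le hR E₀ m hm
      have h2 : m * (m - 1) / 2 = 0 := by
        interval_cases m <;> simp
      rw [h2, pow_zero] at h1
      have h3 : (Subgroup.centralizer (E₀ : Set R)).index = 1 :=
        le_antisymm h1 (Nat.pos_of_ne_zero Subgroup.index_ne_zero_of_finite)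
      exact Subgroup.index_eq_one.mp h3
    have hAlp : ∀ x ∈ S, x ^ p = 1 → x ∈ E₀ := by
      intro x hx hxp
      refine Cfsg.Agent.Lib.Helper38.main_rel hR 1 (by rw [pow_one]; exact hp) S E₀ hE₀c
        (by simpa using hE₀e) ?_ _ S hSn hE₀S (by rw [hcent]; exact le_top) le_rfl le_rfl x hx
        (by simpa using hxp)
      intro B hBn hBc hBe hEB hBS
      exact le_antisymm (hE₀m ⟨hBn, hBc, by simpa using hBe, hBS⟩ hEB) hEB
    have huniq : ∀ U W : Subgroup S, Nat.card U = p → Nat.card W = p → U = W := by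
      have key : ∀ U : Subgroup S, Nat.card U = p → U.map S.subtype = E₀ := by
        intro U hU
        apply Subgroup.eq_of_le_of_card_ge
        · rintro _ ⟨u, hu, rfl⟩
          apply hAlp _ u.2
          have h1 : orderOf u ∣ p := by
            rw [← hU]
            exact Subgroup.orderOf_dvd_natCard U hu
          have h2 := orderOf_dvd_iff_pow_eq_one.mp h1
          have h3 := congrArg Subtype.val h2
          rwa [Subgroup.coe_pow, Subgroup.coe_one] at h3
        · rw [Subgroup.card_map_of_injective S.subtype_injective, hU, hm]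
          calc p ^ m ≤ p ^ 1 := Nat.pow_le_pow_right hpp.pos hm1
            _ = p := pow_one p
      intro U W hU hW
      apply Subgroup.map_injective S.subtype_injective
      rw [key U hU, key W hW]
    rcases Cfsg.Agent.S0016.result p (hR.to_subgroup S) huniq with h | ⟨h2, _⟩
    · exact hS h
    · exact hp h2

end Cfsg.Agent.S0636
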