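import Mathlib
import Cfsg.Statements.S0639
import Cfsg.Agent.Lib.Helper4.TwoRank
import Cfsg.Agent.Lib.Helper11.Replacement
import Cfsg.Agent.S0636
import Cfsg.Agent.S0637

set_option autoImplicit false
open Cfsg
open scoped commutatorElement

namespace Cfsg.Agent.S0639

universe u

theorem isCyclic_quot_of_surj {A B : Type*} [Group A] [Group B] (f : A →* B)
    (hf : Function.Surjective f) (K : Subgroup A) [K.Normal] (hK : f.ker = K) [IsCyclic B] :
    IsCyclic (A ⧸ K) := by
  subst hK
  exact isCyclic_of_surjective (QuotientGroup.quotientKerEquivOfSurjective f hf).symm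
    (QuotientGroup.quotientKerEquivOfSurjective f hf).symm.surjective

/-- A central element of order `p` in a nontrivial normal subgroup of a `p`-group. -/
theorem exists_central_order_p {p : ℕ} [Fact p.Prime] {R : Type*} [Group R] [Finite R]
    (hR : IsPGroup p R) (D : Subgroup R) [D.Normal] (hD : D ≠ ⊥) :
    ∃ w ∈ D, w ∈ Subgroup.center R ∧ orderOf w = p := by
  obtain ⟨z, hzT, hz1, hzZ⟩ := Cfsg.Agent.Lib.Helper4.exists_central_of_normal hR D hD
  obtain ⟨k, hk⟩ := (IsPGroup.iff_orderOf.mp hR) z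
  have hk0 : k ≠ 0 := by
    rintro rfl
    rw [pow_zero, orderOf_eq_one_iff] at hk
    exact hz1 hk
  exact ⟨z ^ (orderOf z / p), D.pow_mem hzT _, Subgroup.pow_mem _ hzZ _,
    orderOf_pow_orderOf_div (orderOf_pos z).ne' (hk ▸ dvd_pow_self p hk0)⟩

/-- The case where the derived subgroup lies in a central subgroup of order `p`. -/
theorem caseA {p : ℕ} [Fact p.Prime] (hp : 3 < p) {R : Type u} [Group R] [Finite R]
    (hR : IsPGroup p R) (hO : Nat.card (omegaOne p (⊤ : Subgroup R)) ≤ p ^ 2)
    (z : R) (hzc : z ∈ Subgroup.center R) (hzo : orderOf z = p)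
    (hRZ : commutator R ≤ Subgroup.zpowers z) : IsMetacyclic R := by
  classical
  have hp' : p.Prime := Fact.out
  have hzp : z ^ p = 1 := by rw [← hzo]; exact pow_orderOf_eq_one z
  -- an element `a` of maximal order with `z ∈ ⟨a⟩`
  obtain ⟨a, haS, hamax⟩ := Set.exists_max_image {a : R | z ∈ Subgroup.zpowers a} orderOf
    (Set.toFinite _) ⟨z, Subgroup.mem_zpowers z⟩
  have hZa : Subgroup.zpowers z ≤ Subgroup.zpowers a := Subgroup.zpowers_le.mpr haS
  have hcomN : commutator R ≤ Subgroup.zpowers a := hRZ.trans hZa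
  have hcen : ∀ x y : R, ⁅x, y⁆ ∈ Subgroup.zpowers z := by
    intro x y
    apply hRZ
    rw [commutator_def]
    exact Subgroup.commutator_mem_commutator (Subgroup.mem_top x) (Subgroup.mem_top y)
  haveI hNn : (Subgroup.zpowers a).Normal := by
    constructor
    intro n hn x
    have h1 : x * n * x⁻¹ = ⁅x, n⁆ * n := by rw [commutatorElement_def]; group
    rw [h1]
    exact Subgroup.mul_mem _ (hZa (hcen x n)) hn
  refine ⟨Subgroup.zpowers a, hNn, inferInstance, ?_⟩
  by_contra hnc
  have hnc' : ¬ IsCyclic (⊤ : Subgroup (R ⧸ Subgroup.zpowers a)) := by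
    intro hc
    exact hnc (isCyclic_of_surjective
      (Subgroup.topEquiv : (⊤ : Subgroup (R ⧸ Subgroup.zpowers a)) ≃* (R ⧸ Subgroup.zpowers a))
      Subgroup.topEquiv.surjective)
  obtain ⟨E, -, -, hEel, hEc⟩ := Cfsg.Agent.S0636.result (p := p) (by omega)
    (hR.to_quotient (Subgroup.zpowers a)) (⊤ : Subgroup (R ⧸ Subgroup.zpowers a)) hnc'
  -- every element of `E` is the image of an element of `Ω₁(R)`
  have hEW : E ≤ (omegaOne p (⊤ : Subgroup R)).map (QuotientGroup.mk' (Subgroup.zpowers a)) := by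
    intro y hy
    obtain ⟨x, rfl⟩ := QuotientGroup.mk'_surjective (Subgroup.zpowers a) y
    have hyp := hEel.2 _ hy
    rw [← map_pow] at hyp
    have hxp : x ^ p ∈ Subgroup.zpowers a := (QuotientGroup.eq_one_iff _).mp hyp
    obtain ⟨s, hs⟩ := Subgroup.mem_zpowers_iff.mp hxp
    by_cases hps : (p : ℤ) ∣ s
    · obtain ⟨s', rfl⟩ := hps
      -- x' = x * a^(-s') has order dividing p
      have hzc' : ∀ w : R, ⁅a ^ (-s'), x⁆ * w = w * ⁅a ^ (-s'), x⁆ := by
        intro w
        obtain ⟨j, hj⟩ := Subgroup.mem_zpowers_iff.mp (hcen (a ^ (-s')) x)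
        rw [← hj]
        have := Subgroup.zpow_mem _ hzc j
        rw [Subgroup.mem_center_iff] at this
        exact (this w).symm
      have hzpow : ⁅a ^ (-s'), x⁆ ^ p = 1 := by
        obtain ⟨j, hj⟩ := Subgroup.mem_zpowers_iff.mp (hcen (a ^ (-s')) x)
        rw [← hj, ← zpow_natCast, ← zpow_mul, mul_comm, zpow_mul, zpow_natCast, hzp, one_zpow]
      have h1 := Cfsg.Agent.Lib.Helper11.mul_pow_class_two x (a ^ (-s')) ⁅a ^ (-s'), x⁆
        (by rw [commutatorElement_def]; group) (hzc' x) (hzc' _) p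
      have h2 : ⁅a ^ (-s'), x⁆ ^ (p.choose 2) = 1 := by
        obtain ⟨m, hm⟩ := hp'.dvd_choose_self (k := 2) (by norm_num) (by omega)
        rw [hm, pow_mul, hzpow, one_pow]
      have h3 : (a ^ (-s')) ^ p = (x ^ p)⁻¹ := by
        rw [← hs, ← zpow_natCast, ← zpow_mul, ← zpow_neg]
        congr 1
        ring
      have h4 : (x * a ^ (-s')) ^ p = 1 := by
        rw [h1, h2, h3]; group
      refine ⟨x * a ^ (-s'), Subgroup.subset_closure ⟨Subgroup.mem_top _, h4⟩, ?_⟩
      rw [map_mul]
      have : (QuotientGroup.mk' (Subgroup.zpowers a)) (a ^ (-s')) = 1 :=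
        (QuotientGroup.eq_one_iff _).mpr (Subgroup.zpow_mem_zpowers a _)
      rw [this, mul_one]
    · -- `p ∤ s`: then `x ∈ ⟨a⟩`
      obtain ⟨k, hk⟩ := (IsPGroup.iff_orderOf.mp hR) a
      have hcop : IsCoprime ((p : ℤ) ^ k) s :=
        ((Nat.prime_iff_prime_int.mp hp').irreducible.coprime_iff_not_dvd.mpr hps).pow_left
      obtain ⟨u, v, huv⟩ := hcop
      have hapk : a ^ ((p : ℤ) ^ k) = 1 := by
        have : ((p : ℤ) ^ k) = ((p ^ k : ℕ) : ℤ) := by push_cast; rfl
        rw [this, zpow_natCast, ← hk, pow_orderOf_eq_one]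
      have ha : a = (x ^ p) ^ v := by
        have h1 : a = a ^ (u * (p : ℤ) ^ k + v * s) := by rw [huv, zpow_one]
        rw [h1, zpow_add, mul_comm u, zpow_mul, hapk, one_zpow, one_mul, mul_comm v, zpow_mul, hs]
      have hax : Subgroup.zpowers a ≤ Subgroup.zpowers x := by
        rw [Subgroup.zpowers_le, ha]
        exact Subgroup.zpow_mem _ (Subgroup.pow_mem _ (Subgroup.mem_zpowers x) p) v
      have hxS : z ∈ Subgroup.zpowers x := hax haS
      have hle := hamax x hxS
      have heq : Subgroup.zpowers a = Subgroup.zpowers x := by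
        apply Subgroup.eq_of_le_of_card_ge hax
        rw [Nat.card_zpowers, Nat.card_zpowers]
        exact hle
      have hxa : x ∈ Subgroup.zpowers a := heq ▸ Subgroup.mem_zpowers x
      have : (QuotientGroup.mk' (Subgroup.zpowers a)) x = 1 := (QuotientGroup.eq_one_iff _).mpr hxa
      rw [this]
      exact Subgroup.one_mem _
  -- counting
  have h1 := Subgroup.card_le_of_le hEW
  have hZW : Subgroup.zpowers z ≤ omegaOne p (⊤ : Subgroup R) := by
    rw [Subgroup.zpowers_le]
    exact Subgroup.subset_closure ⟨Subgroup.mem_top _, hzp⟩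
  have h2 := Cfsg.Agent.S0637.card_of_surj
    ((QuotientGroup.mk' (Subgroup.zpowers a)).subgroupMap (omegaOne p (⊤ : Subgroup R)))
    (MonoidHom.subgroupMap_surjective _ _) _ rfl
  have h3 : p ≤ Nat.card (((QuotientGroup.mk' (Subgroup.zpowers a)).subgroupMap
      (omegaOne p (⊤ : Subgroup R))).ker) := by
    have hle : (Subgroup.zpowers z).subgroupOf (omegaOne p (⊤ : Subgroup R))
        ≤ ((QuotientGroup.mk' (Subgroup.zpowers a)).subgroupMap
          (omegaOne p (⊤ : Subgroup R))).ker := by
      intro w hw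
      rw [Subgroup.mem_subgroupOf] at hw
      rw [MonoidHom.mem_ker]
      apply Subtype.ext
      exact (QuotientGroup.eq_one_iff (w : R)).mpr (hZa hw)
    have h4 := Subgroup.card_le_of_le hle
    rw [Nat.card_congr (Subgroup.subgroupOfEquivOfLe hZW).toEquiv, Nat.card_zpowers, hzo] at h4
    exact h4
  have h5 : Nat.card ↥((omegaOne p (⊤ : Subgroup R)).map
      (QuotientGroup.mk' (Subgroup.zpowers a))) * p ≤ p ^ 2 := by
    calc _ ≤ Nat.card ↥((omegaOne p (⊤ : Subgroup R)).map
          (QuotientGroup.mk' (Subgroup.zpowers a))) * Nat.card (((QuotientGroup.mk'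
          (Subgroup.zpowers a)).subgroupMap (omegaOne p (⊤ : Subgroup R))).ker) :=
          Nat.mul_le_mul_left _ h3
      _ = Nat.card (omegaOne p (⊤ : Subgroup R)) := h2.symm
      _ ≤ p ^ 2 := hO
  rw [hEc] at h1
  have h6 : p ^ 2 * p ≤ p ^ 2 := (Nat.mul_le_mul_right p h1).trans h5
  have h7 : 0 < p ^ 2 := by positivity
  nlinarith [hp'.two_le]

/-- The inductive step: lifting through a central subgroup of order `p` inside the derived
subgroup, when the derived subgroup is larger. -/
theorem caseB {p : ℕ} [Fact p.Prime] {R : Type u} [Group R] [Finite R] (hR : IsPGroup p R)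
    (w : R) (hwc : w ∈ Subgroup.center R) (hwo : orderOf w = p)
    [hTn : (Subgroup.zpowers w).Normal] (hTR : Subgroup.zpowers w ≤ commutator R)
    (hne : commutator R ≠ Subgroup.zpowers w)
    (hQ : IsMetacyclic (R ⧸ Subgroup.zpowers w)) : IsMetacyclic R := by
  classical
  have hp' : p.Prime := Fact.out
  have hwp : w ^ p = 1 := by rw [← hwo]; exact pow_orderOf_eq_one w
  have hw1 : w ≠ 1 := by
    intro h
    rw [h, orderOf_one] at hwo
    exact hp'.one_lt.ne hwo
  -- elements of `T` are central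
  have hTcen : ∀ t ∈ Subgroup.zpowers w, ∀ x : R, t * x = x * t := by
    intro t ht x
    obtain ⟨j, rfl⟩ := Subgroup.mem_zpowers_iff.mp ht
    have := Subgroup.zpow_mem _ hwc j
    rw [Subgroup.mem_center_iff] at this
    exact (this x).symm
  obtain ⟨Nb, hNbn, hNbc, hQc⟩ := hQ
  haveI := hNbn
  haveI hNn : (Nb.comap (QuotientGroup.mk' (Subgroup.zpowers w))).Normal := hNbn.comap _
  -- `R / N` is cyclic
  haveI hRN : IsCyclic (R ⧸ Nb.comap (QuotientGroup.mk' (Subgroup.zpowers w))) := by
    apply isCyclic_quot_of_surj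
      ((QuotientGroup.mk' Nb).comp (QuotientGroup.mk' (Subgroup.zpowers w)))
      ((QuotientGroup.mk'_surjective Nb).comp (QuotientGroup.mk'_surjective _))
    ext x
    rw [MonoidHom.mem_ker, Subgroup.mem_comap, MonoidHom.comp_apply]
    exact QuotientGroup.eq_one_iff _
  -- a generator of `N` modulo `T`
  obtain ⟨⟨ab, hab⟩, hgen⟩ := hNbc.exists_generator
  obtain ⟨a, rfl⟩ := QuotientGroup.mk'_surjective (Subgroup.zpowers w) ab
  have haN : a ∈ Nb.comap (QuotientGroup.mk' (Subgroup.zpowers w)) := hab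
  have hNa : ∀ n ∈ Nb.comap (QuotientGroup.mk' (Subgroup.zpowers w)),
      ∃ k : ℤ, ∃ t ∈ Subgroup.zpowers w, n = a ^ k * t := by
    intro n hn
    obtain ⟨k, hk⟩ := Subgroup.mem_zpowers_iff.mp (hgen ⟨_, hn⟩)
    have hk' : (QuotientGroup.mk' (Subgroup.zpowers w)) (a ^ k)
        = (QuotientGroup.mk' (Subgroup.zpowers w)) n := by
      have := congrArg Subtype.val hk
      simpa using this
    have hmem : (a ^ k)⁻¹ * n ∈ Subgroup.zpowers w := QuotientGroup.eq.mp hk'
    exact ⟨k, _, hmem, by group⟩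
  by_cases hTa : Subgroup.zpowers w ≤ Subgroup.zpowers a
  · have hNeq : Nb.comap (QuotientGroup.mk' (Subgroup.zpowers w)) = Subgroup.zpowers a := by
      apply le_antisymm
      · intro n hn
        obtain ⟨k, t, ht, rfl⟩ := hNa n hn
        exact Subgroup.mul_mem _ (Subgroup.zpow_mem_zpowers a k) (hTa ht)
      · exact Subgroup.zpowers_le.mpr haN
    refine ⟨Nb.comap (QuotientGroup.mk' (Subgroup.zpowers w)), hNn, ?_, hRN⟩
    rw [hNeq]
    infer_instance
  · exfalso
    -- `T ∩ ⟨a⟩ = 1`
    have hTa' : ∀ t ∈ Subgroup.zpowers w, t ∈ Subgroup.zpowers a → t = 1 := by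
      intro t ht hta
      by_contra ht1
      apply hTa
      have hto : orderOf t = p := by
        have h1 : t ^ p = 1 := by
          obtain ⟨j, rfl⟩ := Subgroup.mem_zpowers_iff.mp ht
          rw [← zpow_natCast, ← zpow_mul, mul_comm, zpow_mul, zpow_natCast, hwp, one_zpow]
        exact orderOf_eq_prime h1 ht1
      have heq : Subgroup.zpowers t = Subgroup.zpowers w := by
        apply Subgroup.eq_of_le_of_card_ge (Subgroup.zpowers_le.mpr ht)
        rw [Nat.card_zpowers, Nat.card_zpowers, hto, hwo]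
      rw [← heq]
      exact Subgroup.zpowers_le.mpr hta
    -- a generator of `R / N`
    obtain ⟨gb, hgb⟩ := IsCyclic.exists_monoid_generator
      (α := R ⧸ Nb.comap (QuotientGroup.mk' (Subgroup.zpowers w)))
    obtain ⟨g, rfl⟩ := QuotientGroup.mk'_surjective _ gb
    have hRg : ∀ x : R, ∃ m : ℕ, ∃ n ∈ Nb.comap (QuotientGroup.mk' (Subgroup.zpowers w)),
        x = n * g ^ m := by
      intro x
      obtain ⟨m, hm⟩ := (Submonoid.mem_powers_iff _ _).mp
        (hgb ((QuotientGroup.mk' (Nb.comap (QuotientGroup.mk' (Subgroup.zpowers w)))) x))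
      rw [← map_pow] at hm
      have hmem : (g ^ m)⁻¹ * x ∈ Nb.comap (QuotientGroup.mk' (Subgroup.zpowers w)) :=
        QuotientGroup.eq.mp hm
      have hmem' : x * (g ^ m)⁻¹ ∈ Nb.comap (QuotientGroup.mk' (Subgroup.zpowers w)) := by
        have := hNn.conj_mem _ hmem (g ^ m)
        have e : g ^ m * ((g ^ m)⁻¹ * x) * (g ^ m)⁻¹ = x * (g ^ m)⁻¹ := by group
        rwa [e] at this
      exact ⟨m, _, hmem', by group⟩
    -- the action of `g` on `a`
    have hga : g⁻¹ * a * g ∈ Nb.comap (QuotientGroup.mk' (Subgroup.zpowers w)) := by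
      have := hNn.conj_mem _ haN g⁻¹
      simpa using this
    obtain ⟨i, t₁, ht₁, hi⟩ := hNa _ hga
    have ht₁c : ∀ x : R, t₁ * x = x * t₁ := hTcen t₁ ht₁
    have hat : Commute (a ^ (i - 1)) t₁ := (ht₁c _).symm
    obtain ⟨d, hd⟩ : ∃ d, d = a ^ (i - 1) * t₁ := ⟨_, rfl⟩
    -- `g⁻¹ d g = d ^ i`
    have hdg : g⁻¹ * d * g = d ^ i := by
      have h1 : g⁻¹ * a ^ (i - 1) * g = (g⁻¹ * a * g) ^ (i - 1) := by
        have := map_zpow (MulAut.conj g⁻¹).toMonoidHom a (i - 1)
        simpa [MulAut.conj_apply] using this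
      have hc2 : Commute (a ^ i) t₁ := (ht₁c _).symm
      calc g⁻¹ * d * g = (g⁻¹ * a ^ (i - 1) * g) * t₁ := by
            rw [hd]
            have := ht₁c g
            calc g⁻¹ * (a ^ (i - 1) * t₁) * g = g⁻¹ * a ^ (i - 1) * (t₁ * g) := by group
              _ = g⁻¹ * a ^ (i - 1) * (g * t₁) := by rw [this]
              _ = g⁻¹ * a ^ (i - 1) * g * t₁ := by group
        _ = (a ^ i * t₁) ^ (i - 1) * t₁ := by rw [h1, hi]
        _ = (a ^ i) ^ (i - 1) * t₁ ^ (i - 1) * t₁ := by rw [hc2.mul_zpow]
        _ = (a ^ (i - 1)) ^ i * t₁ ^ i := by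
            rw [← zpow_mul, ← zpow_mul, mul_comm i (i - 1), mul_assoc, ← zpow_add_one]
            congr 2
            ring
        _ = d ^ i := by rw [hd, hat.mul_zpow]
    -- `d` commutes with `N`
    have hda : Commute d a := by
      rw [hd]
      exact ((Commute.refl a).zpow_left (i - 1)).mul_left (ht₁c a)
    have hdN : ∀ n ∈ Nb.comap (QuotientGroup.mk' (Subgroup.zpowers w)), n⁻¹ * d * n = d := by
      intro n hn
      obtain ⟨k, t, ht, rfl⟩ := hNa n hn
      have h1 : Commute d (a ^ k * t) := (hda.zpow_right k).mul_right (hTcen t ht d).symm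
      rw [mul_assoc, h1.eq]; group
    -- `⟨d⟩` is normal
    have hDconj : ∀ x : R, ∀ y ∈ Subgroup.zpowers d, x⁻¹ * y * x ∈ Subgroup.zpowers d := by
      have hg : ∀ m : ℕ, ∀ y ∈ Subgroup.zpowers d, (g ^ m)⁻¹ * y * g ^ m ∈ Subgroup.zpowers d := by
        intro m
        induction m with
        | zero => intro y hy; simpa using hy
        | succ m ih =>
          intro y hy
          have h1 := ih y hy
          obtain ⟨j, hj⟩ := Subgroup.mem_zpowers_iff.mp h1
          have h2 : (g ^ (m + 1))⁻¹ * y * g ^ (m + 1) = g⁻¹ * ((g ^ m)⁻¹ * y * g ^ m) * g := by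
            rw [pow_succ]; group
          rw [h2, ← hj]
          have h3 : g⁻¹ * d ^ j * g = (g⁻¹ * d * g) ^ j := by
            have := map_zpow (MulAut.conj g⁻¹).toMonoidHom d j
            simpa [MulAut.conj_apply] using this
          rw [h3, hdg]
          exact Subgroup.zpow_mem _ (Subgroup.zpow_mem_zpowers d i) j
      intro x y hy
      obtain ⟨m, n, hn, rfl⟩ := hRg x
      obtain ⟨j, rfl⟩ := Subgroup.mem_zpowers_iff.mp hy
      have h1 : n⁻¹ * d ^ j * n = d ^ j := by
        have h3 : n⁻¹ * d ^ j * n = (n⁻¹ * d * n) ^ j := by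
          have := map_zpow (MulAut.conj n⁻¹).toMonoidHom d j
          simpa [MulAut.conj_apply] using this
        rw [h3, hdN n hn]
      have h2 : (n * g ^ m)⁻¹ * d ^ j * (n * g ^ m) = (g ^ m)⁻¹ * (n⁻¹ * d ^ j * n) * g ^ m := by
        group
      rw [h2, h1]
      exact hg m _ (Subgroup.zpow_mem_zpowers d j)
    haveI hDn : (Subgroup.zpowers d).Normal := by
      constructor
      intro y hy x
      have := hDconj x⁻¹ y hy
      simpa using this
    -- the quotient by `⟨d⟩` is commutative
    have hAG : Commute ((QuotientGroup.mk' (Subgroup.zpowers d)) a)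
        ((QuotientGroup.mk' (Subgroup.zpowers d)) g) := by
      have h1 : (a * g)⁻¹ * (g * a) ∈ Subgroup.zpowers d := by
        have e : (a * g)⁻¹ * (g * a) = (a⁻¹ * (g⁻¹ * a * g))⁻¹ := by group
        have e2 : a⁻¹ * (g⁻¹ * a * g) = d := by
          rw [hi, hd, ← mul_assoc, ← zpow_neg_one, ← zpow_add]
          congr 2
          ring
        rw [e, e2]
        exact Subgroup.inv_mem _ (Subgroup.mem_zpowers d)
      have h2 := QuotientGroup.eq.mpr h1
      show (QuotientGroup.mk' (Subgroup.zpowers d)) a * (QuotientGroup.mk' (Subgroup.zpowers d)) g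
        = (QuotientGroup.mk' (Subgroup.zpowers d)) g * (QuotientGroup.mk' (Subgroup.zpowers d)) a
      rw [← map_mul, ← map_mul]
      exact h2
    have hTQ : ∀ t ∈ Subgroup.zpowers w, ∀ q : R ⧸ Subgroup.zpowers d,
        Commute ((QuotientGroup.mk' (Subgroup.zpowers d)) t) q := by
      intro t ht q
      obtain ⟨x, rfl⟩ := QuotientGroup.mk'_surjective _ q
      show _ * _ = _ * _
      rw [← map_mul, ← map_mul, hTcen t ht x]
    have hcommQ : ∀ x y : R, Commute ((QuotientGroup.mk' (Subgroup.zpowers d)) x)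
        ((QuotientGroup.mk' (Subgroup.zpowers d)) y) := by
      intro x y
      obtain ⟨m, n, hn, rfl⟩ := hRg x
      obtain ⟨k, t, ht, rfl⟩ := hNa n hn
      obtain ⟨m', n', hn', rfl⟩ := hRg y
      obtain ⟨k', t', ht', rfl⟩ := hNa n' hn'
      simp only [map_mul, map_zpow, map_pow]
      have hAA := Commute.refl ((QuotientGroup.mk' (Subgroup.zpowers d)) a)
      have hGG := Commute.refl ((QuotientGroup.mk' (Subgroup.zpowers d)) g)
      apply Commute.mul_left
      · apply Commute.mul_left
        · apply Commute.mul_right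
          · apply Commute.mul_right
            · exact (hAA.zpow_left k).zpow_right k'
            · exact (hTQ t' ht' _).symm
          · exact (hAG.zpow_left k).pow_right m'
        · exact hTQ t ht _
      · apply Commute.mul_right
        · apply Commute.mul_right
          · exact (hAG.symm.pow_left m).zpow_right k'
          · exact (hTQ t' ht' _).symm
        · exact (hGG.pow_left m).pow_right m'
    have hcomD : commutator R ≤ Subgroup.zpowers d := by
      rw [commutator_def, Subgroup.commutator_le]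
      intro x _ y _
      apply (QuotientGroup.eq_one_iff _).mp
      show (QuotientGroup.mk' (Subgroup.zpowers d)) ⁅x, y⁆ = 1
      rw [map_commutatorElement]
      exact commutatorElement_eq_one_iff_commute.mpr (hcommQ x y)
    -- `T ≤ ⟨d⟩` forces `d ∈ T`
    obtain ⟨s, hs⟩ := Subgroup.mem_zpowers_iff.mp (hcomD (hTR (Subgroup.mem_zpowers w)))
    rw [hd, hat.mul_zpow] at hs
    have h1 : (a ^ (i - 1)) ^ s = 1 := by
      apply hTa'
      · have : (a ^ (i - 1)) ^ s = w * (t₁ ^ s)⁻¹ := by rw [← hs]; group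
        rw [this]
        exact Subgroup.mul_mem _ (Subgroup.mem_zpowers w)
          (Subgroup.inv_mem _ (Subgroup.zpow_mem _ ht₁ s))
      · rw [← zpow_mul]
        exact Subgroup.zpow_mem_zpowers a _
    rw [h1, one_mul] at hs
    have hps : ¬ (p : ℤ) ∣ s := by
      rintro ⟨s', rfl⟩
      have ht₁p : t₁ ^ p = 1 := by
        obtain ⟨j, rfl⟩ := Subgroup.mem_zpowers_iff.mp ht₁
        rw [← zpow_natCast, ← zpow_mul, mul_comm, zpow_mul, zpow_natCast, hwp, one_zpow]
      rw [zpow_mul, zpow_natCast, ht₁p, one_zpow] at hs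
      exact hw1 hs.symm
    have h2 : a ^ (i - 1) = 1 := by
      obtain ⟨k, hk⟩ := (IsPGroup.iff_orderOf.mp hR) (a ^ (i - 1))
      have h3 : (orderOf (a ^ (i - 1)) : ℤ) ∣ s := orderOf_dvd_iff_zpow_eq_one.mpr h1
      rcases k with _ | k
      · rw [pow_zero, orderOf_eq_one_iff] at hk
        exact hk
      · exfalso
        apply hps
        rw [hk] at h3
        have h4 : (p : ℤ) ∣ ((p ^ (k + 1) : ℕ) : ℤ) := by
          push_cast
          exact dvd_pow_self _ (Nat.succ_ne_zero k)
        exact h4.trans h3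
    have hdT : d ∈ Subgroup.zpowers w := by
      rw [hd, h2, one_mul]; exact ht₁
    exact hne (le_antisymm (hcomD.trans (Subgroup.zpowers_le.mpr hdT)) hTR)

theorem main {p : ℕ} [Fact p.Prime] (hp : 3 < p) : ∀ n : ℕ, ∀ (R : Type u) [Group R] [Finite R],
    Nat.card R = n → IsPGroup p R → Nat.card (omegaOne p (⊤ : Subgroup R)) ≤ p ^ 2 →
    IsMetacyclic R := by
  intro n
  induction n using Nat.strong_induction_on with
  | _ n ih =>
    intro R _ _ hn hR hO
    have hp' : p.Prime := Fact.out
    by_cases hcyc : IsCyclic R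
    · haveI : Subsingleton (R ⧸ (⊤ : Subgroup R)) := QuotientGroup.subsingleton_quotient_top
      refine ⟨⊤, inferInstance, ?_, inferInstance⟩
      exact isCyclic_of_surjective
        (Subgroup.topEquiv : (⊤ : Subgroup R) ≃* R).symm Subgroup.topEquiv.symm.surjective
    · by_cases hcomm : commutator R = ⊥
      · have htop : (⊤ : Subgroup R) ≠ ⊥ := by
          intro h
          apply hcyc
          haveI : Subsingleton R :=
            Subgroup.subsingleton_iff.mp (subsingleton_of_bot_eq_top h.symm)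
          infer_instance
        obtain ⟨z, -, hzc, hzo⟩ := exists_central_order_p hR (⊤ : Subgroup R) htop
        exact caseA hp hR hO z hzc hzo (hcomm ▸ bot_le)
      · obtain ⟨w, hwC, hwc, hwo⟩ := exists_central_order_p hR (commutator R) hcomm
        by_cases hT : commutator R = Subgroup.zpowers w
        · exact caseA hp hR hO w hwc hwo hT.le
        · haveI hTn : (Subgroup.zpowers w).Normal :=
            Cfsg.Agent.Lib.Helper4.zpowers_normal_of_central hwc
          have hT1c : Nat.card (Subgroup.zpowers w) = p := by rw [Nat.card_zpowers, hwo]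
          have hlt : Nat.card (R ⧸ Subgroup.zpowers w) < n := by
            have h1 := Subgroup.card_eq_card_quotient_mul_card_subgroup (Subgroup.zpowers w)
            rw [hT1c, hn] at h1
            have hpos : 0 < Nat.card (R ⧸ Subgroup.zpowers w) := Nat.card_pos
            nlinarith [hp'.two_le]
          exact caseB hR w hwc hwo (Subgroup.zpowers_le.mpr hwC) hT
            (ih _ hlt (R ⧸ Subgroup.zpowers w) rfl (hR.to_quotient _)
              (Cfsg.Agent.S0637.result hp hR hO (Subgroup.zpowers w)))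

/-- Huppert's criterion: for p greater than 3, a p-group whose elements of order dividing p generate a subgroup of order at most p² is metacyclic. -/
theorem result {R : Type*} [Group R] [Finite R] {p : ℕ} [Fact p.Prime] (hp : 3 < p) (hR : IsPGroup p R) (hO : Nat.card ↥(Cfsg.omegaOne p (⊤ : Subgroup R)) ≤ p ^ 2) : Cfsg.IsMetacyclic R := by
  exact main hp _ R rfl hR hO

end Cfsg.Agent.S0639
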