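-- Statement S3866: commutator map of a cyclic extension of an abelian normal subgroup.
import Mathlib
import Cfsg.Statements.S3866

set_option autoImplicit false
open Cfsg

namespace Cfsg.Agent.S3866

/-- Let A be a commutative normal subgroup of the finite group G with G generated by A and an element x. Then a ↦ x a x⁻¹ a⁻¹ is a surjective homomorphism from A onto the commutator subgroup of G whose kernel is the centralizer of x in A; in particular the commutator subgroup has order equal to the index in A of that centralizer. -/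
theorem result {G : Type*} [Group G] [Finite G] (A : Subgroup G) [A.Normal] (hA : IsMulCommutative A) (x : G) (hgen : A ⊔ Subgroup.zpowers x = ⊤) : (∀ a ∈ A, x * a * x⁻¹ * a⁻¹ ∈ commutator G) ∧ (∀ c ∈ commutator G, ∃ a ∈ A, x * a * x⁻¹ * a⁻¹ = c) ∧ (∀ a ∈ A, ∀ b ∈ A, x * (a * b) * x⁻¹ * (a * b)⁻¹ = (x * a * x⁻¹ * a⁻¹) * (x * b * x⁻¹ * b⁻¹)) ∧ Nat.card (commutator G) * Nat.card ↥(A ⊓ Subgroup.centralizer ({x} : Set G)) = Nat.card A := by
  have hAn : A.Normal := inferInstance
  have comm : ∀ a ∈ A, ∀ b ∈ A, a * b = b * a := fun a ha b hb => setLike_mul_comm ha hb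
  have hxA : ∀ a ∈ A, x * a * x⁻¹ ∈ A := fun a ha => hAn.conj_mem a ha x
  have hxA' : ∀ a ∈ A, x⁻¹ * a * x ∈ A := fun a ha => hAn.conj_mem' a ha x
  have hphiA : ∀ a ∈ A, x * a * x⁻¹ * a⁻¹ ∈ A := fun a ha => A.mul_mem (hxA a ha) (A.inv_mem ha)
  have hmul : ∀ a ∈ A, ∀ b ∈ A, x * (a * b) * x⁻¹ * (a * b)⁻¹
      = (x * a * x⁻¹ * a⁻¹) * (x * b * x⁻¹ * b⁻¹) := by
    intro a ha b hb
    have h1 := comm (x * b * x⁻¹ * b⁻¹) (hphiA b hb) a⁻¹ (A.inv_mem ha)
    calc x * (a * b) * x⁻¹ * (a * b)⁻¹ = x * a * x⁻¹ * ((x * b * x⁻¹ * b⁻¹) * a⁻¹) := by group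
      _ = x * a * x⁻¹ * (a⁻¹ * (x * b * x⁻¹ * b⁻¹)) := by rw [h1]
      _ = (x * a * x⁻¹ * a⁻¹) * (x * b * x⁻¹ * b⁻¹) := by group
  have h1 : ∀ a ∈ A, x * a * x⁻¹ * a⁻¹ ∈ commutator G := by
    intro a _
    rw [commutator_def, ← commutatorElement_def]
    exact Subgroup.commutator_mem_commutator (Subgroup.mem_top x) (Subgroup.mem_top a)
  -- the homomorphism
  let φ : A →* G :=
    { toFun := fun a => x * (a : G) * x⁻¹ * (a : G)⁻¹
      map_one' := by simp
      map_mul' := fun a b => hmul a a.2 b b.2 }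
  have hφ : ∀ a : A, φ a = x * (a : G) * x⁻¹ * (a : G)⁻¹ := fun _ => rfl
  have hKA : φ.range ≤ A := by
    rintro _ ⟨a, rfl⟩
    exact hphiA a a.2
  have hKmem : ∀ k, k ∈ φ.range ↔ ∃ a ∈ A, x * a * x⁻¹ * a⁻¹ = k := by
    intro k
    constructor
    · rintro ⟨a, rfl⟩
      exact ⟨a, a.2, rfl⟩
    · rintro ⟨a, ha, rfl⟩
      exact ⟨⟨a, ha⟩, rfl⟩
  -- conjugation by x and x⁻¹ preserves the range
  have hx1 : ∀ k ∈ φ.range, x * k * x⁻¹ ∈ φ.range := by
    intro k hk
    obtain ⟨a, ha, rfl⟩ := (hKmem k).1 hk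
    refine (hKmem _).2 ⟨x * a * x⁻¹, hxA a ha, ?_⟩
    group
  have hx2 : ∀ k ∈ φ.range, x⁻¹ * k * x ∈ φ.range := by
    intro k hk
    obtain ⟨a, ha, rfl⟩ := (hKmem k).1 hk
    refine (hKmem _).2 ⟨x⁻¹ * a * x, hxA' a ha, ?_⟩
    group
  have hnorm : φ.range.Normal := by
    rw [← Subgroup.normalizer_eq_top_iff, eq_top_iff, ← hgen, sup_le_iff]
    constructor
    · intro a ha
      rw [Subgroup.mem_normalizer_iff]
      intro k
      constructor
      · intro hk
        have : a * k * a⁻¹ = k := by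
          rw [comm a ha k (hKA hk)]; group
        rw [this]; exact hk
      · intro hk
        have h3 := comm a⁻¹ (A.inv_mem ha) (a * k * a⁻¹) (hKA hk)
        have : k = a * k * a⁻¹ := by
          calc k = a⁻¹ * (a * k * a⁻¹) * a := by group
            _ = (a * k * a⁻¹) * a⁻¹ * a := by rw [h3]
            _ = a * k * a⁻¹ := by group
        rw [this]; exact hk
    · rw [Subgroup.zpowers_le, Subgroup.mem_normalizer_iff]
      intro k
      constructor
      · exact hx1 k
      · intro hk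
        have := hx2 _ hk
        have e : x⁻¹ * (x * k * x⁻¹) * x = k := by group
        rwa [e] at this
  have hcomm : commutator G ≤ φ.range := by
    have := hnorm
    apply Subgroup.Normal.quotient_commutative_iff_commutator_le.mp
    rw [isMulCommutative_iff]
    intro q₁ q₂
    obtain ⟨g₁, rfl⟩ := QuotientGroup.mk'_surjective φ.range q₁
    obtain ⟨g₂, rfl⟩ := QuotientGroup.mk'_surjective φ.range q₂
    have hg₁ : g₁ ∈ A ⊔ Subgroup.zpowers x := hgen ▸ Subgroup.mem_top g₁
    have hg₂ : g₂ ∈ A ⊔ Subgroup.zpowers x := hgen ▸ Subgroup.mem_top g₂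
    rw [Subgroup.mem_sup_of_normal_left] at hg₁ hg₂
    obtain ⟨a, ha, z₁, hz₁, rfl⟩ := hg₁
    obtain ⟨b, hb, z₂, hz₂, rfl⟩ := hg₂
    obtain ⟨m, rfl⟩ := Subgroup.mem_zpowers_iff.1 hz₁
    obtain ⟨n, rfl⟩ := Subgroup.mem_zpowers_iff.1 hz₂
    set π := QuotientGroup.mk' φ.range with hπ
    have hab : Commute (π a) (π b) := by
      unfold Commute SemiconjBy
      rw [← map_mul, ← map_mul, comm a ha b hb]
    have haX : ∀ c ∈ A, Commute (π c) (π x) := by
      intro c hc
      have hmem : x * c * x⁻¹ * c⁻¹ ∈ φ.range := (hKmem _).2 ⟨c, hc, rfl⟩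
      have h4 : π (x * c * x⁻¹ * c⁻¹) = 1 := by
        rw [hπ, QuotientGroup.mk'_apply, QuotientGroup.eq_one_iff]; exact hmem
      have h5 : π x * π c = π c * π x := by
        have : π x * π c * (π x)⁻¹ * (π c)⁻¹ = 1 := by
          rw [← h4]; simp [map_mul, map_inv]
        calc π x * π c = (π x * π c * (π x)⁻¹ * (π c)⁻¹) * π c * π x := by group
          _ = π c * π x := by rw [this]; group
      exact h5.symm
    have key : Commute (π a * π x ^ m) (π b * π x ^ n) :=
      Commute.mul_left (Commute.mul_right hab ((haX a ha).zpow_right n))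
        (Commute.mul_right ((haX b hb).symm.zpow_left m) ((Commute.refl (π x)).zpow_zpow m n))
    have := key.eq
    simpa [map_mul, map_zpow] using this
  have h2 : ∀ c ∈ commutator G, ∃ a ∈ A, x * a * x⁻¹ * a⁻¹ = c :=
    fun c hc => (hKmem c).1 (hcomm hc)
  refine ⟨h1, h2, hmul, ?_⟩
  have hrange : φ.range = commutator G := by
    apply le_antisymm
    · rintro _ ⟨a, rfl⟩
      exact h1 a a.2
    · exact hcomm
  have hker : φ.ker = (A ⊓ Subgroup.centralizer ({x} : Set G)).subgroupOf A := by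
    ext a
    rw [MonoidHom.mem_ker, hφ, Subgroup.mem_subgroupOf, Subgroup.mem_inf,
      Subgroup.mem_centralizer_iff]
    constructor
    · intro h
      refine ⟨a.2, ?_⟩
      intro y hy
      rw [Set.mem_singleton_iff] at hy
      subst hy
      calc y * (a : G) = (y * (a : G) * y⁻¹ * (a : G)⁻¹) * (a : G) * y := by group
        _ = (a : G) * y := by rw [h]; group
    · rintro ⟨_, h⟩
      have := h x rfl
      rw [this]; group
  have hc1 : Nat.card φ.ker * Nat.card φ.range = Nat.card A := by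
    rw [← Subgroup.index_ker]
    exact Subgroup.card_mul_index φ.ker
  have hc2 : Nat.card φ.ker = Nat.card ↥(A ⊓ Subgroup.centralizer ({x} : Set G)) := by
    rw [hker]
    exact Nat.card_congr (Subgroup.subgroupOfEquivOfLe inf_le_left).toEquiv
  rw [← hrange, ← hc2, mul_comm]
  exact hc1

end Cfsg.Agent.S3866
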