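-- Statement S3879: metacyclic p-group (p odd): |G : Z(G)| = |G'|^2.
import Mathlib
import Cfsg.Statements.S3879
import Cfsg.Agent.S3866

set_option autoImplicit false
open Cfsg

namespace Cfsg.Agent.S3879

theorem order_lemma {p : ℕ} (hp : p.Prime) (hp2 : p ≠ 2) (n d : ℕ) (hd : n ≠ 0 → p ∣ d) :
    orderOf (((1 + d : ℕ)) : ZMod (p ^ n)) = p ^ n / Nat.gcd (p ^ n) d := by
  have hpos : 0 < p ^ n := pow_pos hp.pos n
  by_cases h : p ^ n ∣ d
  · have h1 : (((1 + d : ℕ)) : ZMod (p ^ n)) = 1 := by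
      have : ((d : ℕ) : ZMod (p ^ n)) = 0 := (ZMod.natCast_eq_zero_iff d (p ^ n)).2 h
      push_cast
      rw [this, add_zero]
    rw [h1, orderOf_one, Nat.gcd_eq_left h, Nat.div_self hpos]
  · have hn0 : n ≠ 0 := by
      rintro rfl
      exact h (by simp)
    have hd := hd hn0
    have hd0 : d ≠ 0 := by
      rintro rfl
      exact h (dvd_zero _)
    obtain ⟨s, u, hu, hdu⟩ := Nat.exists_eq_pow_mul_and_not_dvd hd0 p hp.ne_one
    have hs1 : s ≠ 0 := by
      rintro rfl
      rw [pow_zero, one_mul] at hdu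
      exact hu (hdu ▸ hd)
    have hsn : s < n := by
      by_contra hcon
      push Not at hcon
      exact h (hdu ▸ Dvd.dvd.mul_right (pow_dvd_pow p hcon) u)
    obtain ⟨m, rfl⟩ : ∃ m, n = m + s := ⟨n - s, by omega⟩
    have h3 : 3 ≤ p := by
      have := hp.two_le
      omega
    have hpm : s + 2 ≤ p * s := by
      have : 3 * s ≤ p * s := Nat.mul_le_mul_right s h3
      omega
    have hu' : ¬ ((p : ℤ) ∣ (u : ℤ)) := by
      intro hh
      exact hu (Int.natCast_dvd_natCast.1 hh)
    have key := ZMod.orderOf_one_add_mul_prime_pow hp s hs1 hpm (u : ℤ) hu' m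
    have hcast : (((1 + d : ℕ)) : ZMod (p ^ (m + s)))
        = 1 + (p : ZMod (p ^ (m + s))) ^ s * ((u : ℤ) : ZMod (p ^ (m + s))) := by
      rw [hdu]
      push_cast
      rfl
    rw [hcast, key]
    have hg : Nat.gcd (p ^ (m + s)) d = p ^ s := by
      rw [hdu, pow_add, mul_comm (p ^ m) (p ^ s), Nat.gcd_mul_left]
      have : Nat.Coprime (p ^ m) u :=
        Nat.Coprime.pow_left m ((Nat.Prime.coprime_iff_not_dvd hp).2 hu)
      rw [this, mul_one]
    rw [hg, pow_add, Nat.mul_div_cancel _ (pow_pos hp.pos s)]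

/-- Let p be an odd prime and G a finite metacyclic p-group (G has a cyclic normal subgroup with cyclic quotient). Then the index of the center of G is the square of the order of the derived subgroup: |G : Z(G)| = |G'|². -/
theorem result {G : Type*} [Group G] [Finite G] {p : ℕ} [Fact p.Prime] (hp : p ≠ 2) (hG : IsPGroup p G) (hmc : Cfsg.IsMetacyclic G) : (Subgroup.center G).index = Nat.card ↥(commutator G) ^ 2 := by
  have hpp : p.Prime := Fact.out
  obtain ⟨N, hNn, hNc, hQc⟩ := hmc
  obtain ⟨⟨a, haN⟩, ha⟩ := hNc.exists_generator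
  have hN_eq : ∀ x ∈ N, ∃ k : ℤ, a ^ k = x := by
    intro x hx
    obtain ⟨k, hk⟩ := Subgroup.mem_zpowers_iff.1 (ha ⟨x, hx⟩)
    exact ⟨k, by simpa using congrArg Subtype.val hk⟩
  obtain ⟨q, hq⟩ := hQc.exists_generator
  obtain ⟨b, rfl⟩ := QuotientGroup.mk_surjective q
  have hdec : ∀ g : G, ∃ k : ℤ, ∃ n ∈ N, g = b ^ k * n := by
    intro g
    obtain ⟨k, hk⟩ := Subgroup.mem_zpowers_iff.1 (hq (g : G ⧸ N))
    have h1 : (b ^ k)⁻¹ * g ∈ N := by
      rw [← QuotientGroup.eq, ← hk]
      rfl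
    exact ⟨k, _, h1, by group⟩
  have hgenN : N ⊔ Subgroup.zpowers b = ⊤ := by
    rw [eq_top_iff]
    intro g _
    obtain ⟨k, n, hn, rfl⟩ := hdec g
    exact Subgroup.mul_mem _ (Subgroup.mem_sup_right (Subgroup.zpow_mem_zpowers b k))
      (Subgroup.mem_sup_left hn)
  have hNcomm' : ∀ x ∈ N, ∀ y ∈ N, x * y = y * x := by
    intro x hx y hy
    obtain ⟨i, rfl⟩ := hN_eq x hx
    obtain ⟨j, rfl⟩ := hN_eq y hy
    exact ((Commute.refl a).zpow_zpow i j).eq
  have hNcomm : IsMulCommutative N := ⟨⟨fun x y => Subtype.ext (hNcomm' x x.2 y y.2)⟩⟩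
  have R1 := Cfsg.Agent.S3866.result N hNcomm b hgenN
  set K := Subgroup.centralizer (N : Set G) with hK
  have hNK : N ≤ K := by
    intro x hx
    rw [hK, Subgroup.mem_centralizer_iff]
    intro y hy
    exact hNcomm' y hy x hx
  have hgenK : K ⊔ Subgroup.zpowers b = ⊤ :=
    top_le_iff.1 (hgenN ▸ sup_le_sup_right hNK _)
  have hKN : ∀ x ∈ K, ∀ n ∈ N, Commute x n := by
    intro x hx n hn
    rw [hK, Subgroup.mem_centralizer_iff] at hx
    exact (hx n hn).symm
  have hKcomm' : ∀ x ∈ K, ∀ y ∈ K, x * y = y * x := by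
    intro x hx y hy
    obtain ⟨i, n, hn, rfl⟩ := hdec x
    obtain ⟨j, m, hm, rfl⟩ := hdec y
    have hbi : b ^ i ∈ K := by
      have := K.mul_mem hx (K.inv_mem (hNK hn))
      simpa using this
    have hbj : b ^ j ∈ K := by
      have := K.mul_mem hy (K.inv_mem (hNK hm))
      simpa using this
    have c1 : Commute (b ^ i) (b ^ j) := (Commute.refl b).zpow_zpow i j
    have c2 : Commute (b ^ i) m := hKN _ hbi m hm
    have c3 : Commute n (b ^ j) := (hKN _ hbj n hn).symm
    have c4 : Commute n m := hNcomm' n hn m hm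
    exact (Commute.mul_left (Commute.mul_right c1 c2) (Commute.mul_right c3 c4)).eq
  have hKcomm : IsMulCommutative K := ⟨⟨fun x y => Subtype.ext (hKcomm' x x.2 y y.2)⟩⟩
  have R2 := Cfsg.Agent.S3866.result K hKcomm b hgenK
  -- center
  have hZ : K ⊓ Subgroup.centralizer ({b} : Set G) = Subgroup.center G := by
    ext z
    rw [Subgroup.mem_inf, Subgroup.mem_center_iff]
    constructor
    · rintro ⟨hzK, hzb⟩ g
      rw [Subgroup.mem_centralizer_iff] at hzb
      obtain ⟨k, n, hn, rfl⟩ := hdec g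
      have c1 : Commute b z := hzb b rfl
      have c2 : Commute n z := (hKN z hzK n hn).symm
      exact (Commute.mul_left (c1.zpow_left k) c2).eq
    · intro hz
      refine ⟨?_, ?_⟩
      · rw [hK, Subgroup.mem_centralizer_iff]
        intro n _
        exact hz n
      · rw [Subgroup.mem_centralizer_iff]
        intro h hh
        rw [Set.mem_singleton_iff] at hh
        rw [hh]
        exact hz b
  have hcardK : Nat.card (commutator G) * Nat.card (Subgroup.center G) = Nat.card K := by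
    have := R2.2.2.2
    rwa [hZ] at this
  have hZK : Subgroup.center G ≤ K := hZ ▸ inf_le_left
  -- the exponent
  have hapos : 0 < orderOf a := orderOf_pos a
  obtain ⟨d, hd⟩ : ∃ d : ℕ, b * a * b⁻¹ = a ^ (1 + d) := by
    obtain ⟨k, hk⟩ := hN_eq (b * a * b⁻¹) (hNn.conj_mem a haN b)
    have hk' : a ^ (k % (orderOf a : ℤ)) = a ^ k := zpow_mod_orderOf a k
    have hnn : 0 ≤ k % (orderOf a : ℤ) := Int.emod_nonneg _ (by exact_mod_cast hapos.ne')
    refine ⟨(k % (orderOf a : ℤ)).toNat + (orderOf a - 1), ?_⟩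
    have e1 : 1 + ((k % (orderOf a : ℤ)).toNat + (orderOf a - 1))
        = (k % (orderOf a : ℤ)).toNat + orderOf a := by omega
    rw [e1, pow_add, pow_orderOf_eq_one, mul_one, ← hk, ← hk', ← zpow_natCast,
      Int.toNat_of_nonneg hnn]
  have hconj : ∀ t : ℕ, b ^ t * a * (b ^ t)⁻¹ = a ^ ((1 + d) ^ t) := by
    intro t
    induction t with
    | zero => simp
    | succ t ih =>
      have : b ^ (t + 1) * a * (b ^ (t + 1))⁻¹ = b * (b ^ t * a * (b ^ t)⁻¹) * b⁻¹ := by
        rw [pow_succ']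
        group
      rw [this, ih, ← conj_pow, hd, ← pow_mul, ← pow_succ']
  obtain ⟨n, hn⟩ : ∃ n, orderOf a = p ^ n := by
    obtain ⟨k, hk⟩ := hG a
    obtain ⟨n, _, hn⟩ := (Nat.dvd_prime_pow hpp).1 (orderOf_dvd_of_pow_eq_one hk)
    exact ⟨n, hn⟩
  have hiff : ∀ t : ℕ, ((b : G ⧸ K)) ^ t = 1 ↔ (((1 + d : ℕ)) : ZMod (p ^ n)) ^ t = 1 := by
    intro t
    have e1 : ((b : G ⧸ K)) ^ t = ((b ^ t : G) : G ⧸ K) := rfl
    rw [e1, QuotientGroup.eq_one_iff]
    have e2 : b ^ t ∈ K ↔ a ^ ((1 + d) ^ t) = a := by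
      constructor
      · intro h
        have := hKN _ h a haN
        rw [← hconj t, this.eq]
        group
      · intro h
        have hc : Commute (b ^ t) a := by
          have h2 := hconj t
          rw [h] at h2
          have : b ^ t * a = a * b ^ t := by
            calc b ^ t * a = b ^ t * a * (b ^ t)⁻¹ * b ^ t := by group
              _ = a * b ^ t := by rw [h2]
          exact this
        rw [hK, Subgroup.mem_centralizer_iff]
        intro x hx
        obtain ⟨k, rfl⟩ := hN_eq x hx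
        exact (hc.zpow_right k).eq.symm
    rw [e2]
    have e3 : a ^ ((1 + d) ^ t) = a ↔ (1 + d) ^ t ≡ 1 [MOD orderOf a] := by
      conv_lhs => rhs; rw [← pow_one a]
      exact pow_eq_pow_iff_modEq
    rw [e3, hn, ← ZMod.natCast_eq_natCast_iff]
    push_cast
    rfl
  have hord : orderOf ((b : G ⧸ K)) = orderOf ((((1 + d : ℕ)) : ZMod (p ^ n))) :=
    orderOf_eq_orderOf_iff.2 hiff
  have hpd : n ≠ 0 → p ∣ d := by
    intro hn0
    obtain ⟨k, hk⟩ := hG b
    have h1 : ((b : G ⧸ K)) ^ (p ^ k) = 1 := by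
      have e1 : ((b : G ⧸ K)) ^ (p ^ k) = ((b ^ (p ^ k) : G) : G ⧸ K) := rfl
      rw [e1, hk]
      rfl
    have h2 := (hiff (p ^ k)).1 h1
    have h3 := congrArg (ZMod.castHom (dvd_pow_self p hn0) (ZMod p)) h2
    rw [map_pow, map_natCast, map_one, ZMod.pow_card_pow] at h3
    rw [← ZMod.natCast_eq_zero_iff]
    push_cast at h3
    simpa using h3
  have hidx : K.index = p ^ n / Nat.gcd (p ^ n) d := by
    rw [← order_lemma hpp hp n d hpd, ← hord]
    have htop : Subgroup.zpowers ((b : G ⧸ K)) = ⊤ := by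
      rw [eq_top_iff]
      intro x _
      obtain ⟨g, rfl⟩ := QuotientGroup.mk_surjective x
      obtain ⟨k, m, hm, rfl⟩ := hdec g
      rw [Subgroup.mem_zpowers_iff]
      refine ⟨k, ?_⟩
      have e1 : ((b ^ k * m : G) : G ⧸ K) = ((b ^ k : G) : G ⧸ K) := by
        rw [QuotientGroup.eq]
        have : (b ^ k * m)⁻¹ * b ^ k = m⁻¹ := by group
        rw [this]
        exact K.inv_mem (hNK hm)
      rw [e1]
      rfl
    rw [Subgroup.index_eq_card, ← Nat.card_zpowers, htop, Subgroup.card_top]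
  have hcomm : commutator G = Subgroup.zpowers (a ^ d) := by
    have hform : ∀ k : ℤ, b * a ^ k * b⁻¹ * (a ^ k)⁻¹ = (a ^ d) ^ k := by
      intro k
      rw [← conj_zpow, hd, ← zpow_natCast a (1 + d), ← zpow_natCast a d, ← zpow_mul, ← zpow_mul,
        ← zpow_neg, ← zpow_add]
      congr 1
      push_cast
      ring
    ext c
    constructor
    · intro hc
      obtain ⟨x, hx, rfl⟩ := R1.2.1 c hc
      obtain ⟨k, rfl⟩ := hN_eq x hx
      rw [hform k]
      exact Subgroup.zpow_mem_zpowers _ k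
    · intro hc
      obtain ⟨k, rfl⟩ := Subgroup.mem_zpowers_iff.1 hc
      rw [← hform k]
      exact R1.1 _ (N.zpow_mem haN k)
  have hcard : Nat.card (commutator G) = p ^ n / Nat.gcd (p ^ n) d := by
    rw [hcomm, Nat.card_zpowers, orderOf_pow, hn]
  have hrel : Nat.card (Subgroup.center G) * (Subgroup.center G).relIndex K = Nat.card K := by
    have h1 := Subgroup.card_mul_index ((Subgroup.center G).subgroupOf K)
    have h2 : Nat.card ((Subgroup.center G).subgroupOf K) = Nat.card (Subgroup.center G) :=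
      Nat.card_congr (Subgroup.subgroupOfEquivOfLe hZK).toEquiv
    rw [h2] at h1
    exact h1
  have hZpos : 0 < Nat.card (Subgroup.center G) := Nat.card_pos
  have hrel2 : (Subgroup.center G).relIndex K = Nat.card (commutator G) := by
    have : Nat.card (Subgroup.center G) * (Subgroup.center G).relIndex K
        = Nat.card (Subgroup.center G) * Nat.card (commutator G) := by
      rw [hrel, ← hcardK, mul_comm]
    exact Nat.eq_of_mul_eq_mul_left hZpos this
  rw [← Subgroup.relIndex_mul_index hZK, hrel2, hidx, hcard, pow_two]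

end Cfsg.Agent.S3879
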