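-- Statement S3882: power subgroups and class sizes in metacyclic p-groups (p odd).
import Mathlib
import Cfsg.Statements.S3882
import Cfsg.Agent.Lib.Helper68.Metacyclic3

set_option autoImplicit false
open Cfsg

namespace Cfsg.Agent.S3882

open Cfsg.Agent.Lib.Helper68

/-- Let p be an odd prime and G a finite metacyclic p-group (G has a cyclic normal subgroup with cyclic quotient). Suppose |G'| = p^n and 0 ≤ s ≤ n. Then an element g lies in the subgroup generated by the p^s-th powers if and only if its conjugacy class has at most p^(n−s) elements; in particular the subgroup generated by the p^n-th powers is the center of G. -/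
theorem result {G : Type*} [Group G] [Finite G] {p : ℕ} [Fact p.Prime] (hp : p ≠ 2) (hG : IsPGroup p G) (hmc : Cfsg.IsMetacyclic G) (n : ℕ) (hGn : Nat.card ↥(commutator G) = p ^ n) (s : ℕ) (hs : s ≤ n) (g : G) :
    (g ∈ Subgroup.closure {x : G | ∃ y : G, y ^ p ^ s = x} ↔ (Subgroup.centralizer ({g} : Set G)).index ≤ p ^ (n - s)) ∧
      Subgroup.closure {x : G | ∃ y : G, y ^ p ^ n = x} = Subgroup.center G := by
  have hpp : p.Prime := Fact.out
  obtain ⟨a, b, m, J, d, e, h⟩ := exists_MC hG hmc
  have hn : n = m - e := by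
    have := h.card_commutator hpp
    rw [hGn] at this
    exact Nat.pow_right_injective hpp.two_le this
  subst hn
  have key : ∀ (s : ℕ) (_ : s ≤ m - e) (g : G),
      g ∈ Subgroup.closure {x : G | ∃ y : G, y ^ p ^ s = x}
        ↔ (Subgroup.centralizer ({g} : Set G)).index ≤ p ^ (m - e - s) := by
    intro s hs g
    rw [h.mem_closure_pow_iff hpp hp]
    constructor
    · rintro ⟨i, j, rfl⟩
      rw [h.index_centralizer_le_iff hpp hp hs]
      exact ⟨Dvd.intro _ rfl, Dvd.intro _ rfl⟩
    · intro hle
      obtain ⟨i, j, rfl⟩ := h.hdec g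
      obtain ⟨⟨i', rfl⟩, ⟨j', rfl⟩⟩ := (h.index_centralizer_le_iff hpp hp hs i j).1 hle
      exact ⟨i', j', rfl⟩
  refine ⟨key s hs g, ?_⟩
  ext z
  rw [key (m - e) le_rfl z, Nat.sub_self, pow_zero, Subgroup.mem_center_iff]
  constructor
  · intro hz
    have h1 : (Subgroup.centralizer ({z} : Set G)).index = 1 :=
      le_antisymm hz (Nat.one_le_iff_ne_zero.2 Subgroup.index_ne_zero_of_finite)
    have h2 := Subgroup.index_eq_one.1 h1
    intro g
    have : g ∈ Subgroup.centralizer ({z} : Set G) := h2 ▸ Subgroup.mem_top g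
    rw [Subgroup.mem_centralizer_iff] at this
    exact (this z rfl).symm
  · intro hz
    have : Subgroup.centralizer ({z} : Set G) = ⊤ := by
      rw [eq_top_iff]
      intro g _
      rw [Subgroup.mem_centralizer_iff]
      intro x hx
      rw [Set.mem_singleton_iff] at hx
      rw [hx]
      exact (hz g).symm
    rw [this, Subgroup.index_top]

end Cfsg.Agent.S3882
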