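import Mathlib
import Cfsg.Statements.S1447
import Cfsg.Agent.Lib.Helper54.MetaCoprime
import Cfsg.Agent.Lib.Helper1.CoprimeAbelian
import Cfsg.Agent.Lib.Helper87.MetaCyc
import Cfsg.Agent.S0638

set_option autoImplicit false
open Cfsg

namespace Cfsg.Agent.S1447

open scoped commutatorElement
open Cfsg.Agent.Lib.Helper54 Cfsg.Agent.Lib.Helper1

/-- In a metacyclic `p`-group (`p` odd), a subgroup `K` meeting a nontrivial subgroup `C`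
trivially is cyclic: otherwise `K` would contain all elements of order `p`. -/
theorem cyclic_of_inf_eq_bot.{u} {G : Type u} [Group G] [Finite G] {p : ℕ} [Fact p.Prime]
    (hp2 : p ≠ 2) {R K C : Subgroup G} (hR : IsPGroup p R) (hRm : Cfsg.IsMetacyclic ↥R)
    (hKR : K ≤ R) (hCR : C ≤ R) (hKC : K ⊓ C = ⊥) (hC : C ≠ ⊥) : IsCyclic ↥K := by
  have hp : p.Prime := Fact.out
  by_contra hnc
  have hK : IsPGroup p K := hR.to_le hKR
  have hKm := isMetacyclic_of_le hp2 hR hRm hKR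
  obtain ⟨hel, hcard⟩ := Cfsg.Agent.S0638.result hp2 hK hKm hnc
  have hbound := (Cfsg.Agent.Lib.Helper87.metacyclic_omega hR hp2 hRm).2.2.2
  have hpow : ∀ a : ↥(Cfsg.omegaOne p (⊤ : Subgroup ↥K)),
      (⟨((a : ↥K) : G), hKR (a : ↥K).2⟩ : ↥R) ^ p = 1 := by
    intro a
    apply Subtype.ext
    have h1 := hel.2 (a : ↥K) a.2
    have h2 : (((a : ↥K) ^ p : ↥K) : G) = ((1 : ↥K) : G) := congrArg Subtype.val h1
    exact h2
  have hinj : Function.Injective (fun a : ↥(Cfsg.omegaOne p (⊤ : Subgroup ↥K)) =>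
      (⟨⟨((a : ↥K) : G), hKR (a : ↥K).2⟩, hpow a⟩ : {x : ↥R // x ^ p = 1})) := by
    intro a b hab
    have h1 : ((a : ↥K) : G) = ((b : ↥K) : G) :=
      congrArg (fun t : {x : ↥R // x ^ p = 1} => ((t : ↥R) : G)) hab
    exact Subtype.ext (Subtype.ext h1)
  have hbij := hinj.bijective_of_nat_card_le (by rw [hcard]; exact hbound)
  -- an element of order `p` in `C`
  obtain ⟨⟨x, hxC⟩, hx1⟩ := (Subgroup.ne_bot_iff_exists_ne_one).1 hC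
  have hx1' : x ≠ 1 := fun h => hx1 (Subtype.ext h)
  have hex : ∃ n : ℕ, x ^ p ^ n = 1 := by
    obtain ⟨k, hk⟩ := hR ⟨x, hCR hxC⟩
    exact ⟨k, congrArg Subtype.val hk⟩
  classical
  have hn0 : Nat.find hex ≠ 0 := by
    intro h0
    have h1 := Nat.find_spec hex
    rw [h0, pow_zero, pow_one] at h1
    exact hx1' h1
  obtain ⟨n, hn⟩ := Nat.exists_eq_succ_of_ne_zero hn0
  have hc1 : x ^ p ^ n ≠ 1 := by
    intro h1
    have := Nat.find_min' hex h1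
    omega
  have hcp : (x ^ p ^ n) ^ p = 1 := by
    have h1 := Nat.find_spec hex
    rw [hn, pow_succ, pow_mul] at h1
    exact h1
  have hcC : x ^ p ^ n ∈ C := C.pow_mem hxC _
  obtain ⟨a, ha⟩ := hbij.2 ⟨⟨x ^ p ^ n, hCR hcC⟩, Subtype.ext hcp⟩
  have h2 : ((a : ↥K) : G) = x ^ p ^ n :=
    congrArg (fun t : {x : ↥R // x ^ p = 1} => ((t : ↥R) : G)) ha
  have h3 : x ^ p ^ n ∈ K ⊓ C := Subgroup.mem_inf.2 ⟨h2 ▸ (a : ↥K).2, hcC⟩
  rw [hKC, Subgroup.mem_bot] at h3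
  exact hc1 h3

theorem main.{u} {G : Type u} [Group G] [Finite G] (p : ℕ) [Fact p.Prime] (hp : p ≠ 2)
    (R A : Subgroup G) (hR : IsPGroup p R) (hRm : Cfsg.IsMetacyclic R)
    (hA : (A ≤ Subgroup.normalizer (R : Set G))) (hcop : (Nat.card A).Coprime p) :
    IsMulCommutative ↥⁅R, A⁆ ∧ ⁅R, A⁆ ⊔ (R ⊓ Subgroup.centralizer (A : Set G)) = R ∧
      ⁅R, A⁆ ⊓ (R ⊓ Subgroup.centralizer (A : Set G)) = ⊥ ∧
      (¬ IsMulCommutative R → ¬ A ≤ Subgroup.centralizer (R : Set G) →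
        ⁅R, A⁆ ≠ ⊥ ∧ IsCyclic ↥⁅R, A⁆ ∧ (R ⊓ Subgroup.centralizer (A : Set G)) ≠ ⊥ ∧
          IsCyclic ↥(R ⊓ Subgroup.centralizer (A : Set G)) ∧ ⁅R, R⁆ ≤ ⁅R, A⁆) := by
  have hcopR : (Nat.card A).Coprime (Nat.card R) := by
    obtain ⟨r, hr⟩ := hR.exists_card_eq
    rw [hr]
    exact Nat.Coprime.pow_right r hcop
  have hsolv : Group.IsSolvable ↥R := by
    have := hR.isNilpotent
    exact IsNilpotent.to_isSolvable
  have hKR : ⁅R, A⁆ ≤ R := commutator_le_of_le_normalizer hA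
  have hAK : A ≤ Subgroup.normalizer ((⁅R, A⁆ : Subgroup G) : Set G) :=
    le_normalizer_commutator_right R A
  have hRK : R ≤ Subgroup.normalizer ((⁅R, A⁆ : Subgroup G) : Set G) :=
    le_normalizer_commutator_left R A
  have hK : IsPGroup p ↥⁅R, A⁆ := hR.to_le hKR
  have hKm : Cfsg.IsMetacyclic ↥⁅R, A⁆ := isMetacyclic_of_le hp hR hRm hKR
  have hKK : ⁅⁅R, A⁆, A⁆ = ⁅R, A⁆ := coprime_commutator_commutator A R hA hcopR (Or.inr hsolv)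
  have hab := metacyclic_coprime_commutative hp ⁅R, A⁆ A hK hKm hAK hcop hKK
  have hsup := coprime_commutator_sup_centralizer A R hA hcopR (Or.inr hsolv)
  have habI : IsMulCommutative ↥⁅R, A⁆ := ⟨⟨fun a b => Subtype.ext (hab a.1 a.2 b.1 b.2)⟩⟩
  have hcopK : (Nat.card A).Coprime (Nat.card ↥⁅R, A⁆) :=
    Nat.Coprime.coprime_dvd_right (Subgroup.card_dvd_of_le hKR) hcopR
  have hinf0 := abelian_centralizer_inf_commutator A ⁅R, A⁆ hAK hcopK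
  rw [hKK] at hinf0
  have hinf : ⁅R, A⁆ ⊓ (R ⊓ Subgroup.centralizer (A : Set G)) = ⊥ := by
    rw [eq_bot_iff]
    intro x hx
    rw [← hinf0]
    exact Subgroup.mem_inf.2 ⟨Subgroup.mem_inf.2 ⟨(Subgroup.mem_inf.1 hx).1,
      (Subgroup.mem_inf.1 (Subgroup.mem_inf.1 hx).2).2⟩, (Subgroup.mem_inf.1 hx).1⟩
  refine ⟨habI, hsup, hinf, ?_⟩
  intro hna hAC
  have hK1 : ⁅R, A⁆ ≠ ⊥ := by
    intro h1
    rw [Subgroup.commutator_eq_bot_iff_le_centralizer] at h1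
    exact hAC (Subgroup.le_centralizer_iff.1 h1)
  have hC1 : R ⊓ Subgroup.centralizer (A : Set G) ≠ ⊥ := by
    intro h1
    rw [h1, sup_bot_eq] at hsup
    apply hna
    refine ⟨⟨fun a b => Subtype.ext (hab a.1 ?_ b.1 ?_)⟩⟩
    · rw [hsup]
      exact a.2
    · rw [hsup]
      exact b.2
  have hcycK := cyclic_of_inf_eq_bot hp hR hRm hKR inf_le_left hinf hC1
  have hcycC := cyclic_of_inf_eq_bot hp hR hRm
    (inf_le_left : R ⊓ Subgroup.centralizer (A : Set G) ≤ R) hKR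
    (by rw [inf_comm]; exact hinf) hK1
  refine ⟨hK1, hcycK, hC1, hcycC, ?_⟩
  rw [Subgroup.commutator_le]
  intro x hx y hy
  have hCn : R ⊓ Subgroup.centralizer (A : Set G) ≤
      Subgroup.normalizer ((⁅R, A⁆ : Subgroup G) : Set G) := inf_le_left.trans hRK
  have hx' : x ∈ ((⁅R, A⁆ ⊔ (R ⊓ Subgroup.centralizer (A : Set G)) : Subgroup G) : Set G) := by
    rw [hsup]
    exact hx
  have hy' : y ∈ ((⁅R, A⁆ ⊔ (R ⊓ Subgroup.centralizer (A : Set G)) : Subgroup G) : Set G) := by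
    rw [hsup]
    exact hy
  rw [Subgroup.coe_mul_of_right_le_normalizer_left _ _ hCn] at hx' hy'
  obtain ⟨k₁, hk₁, c₁, hc₁, rfl⟩ := Set.mem_mul.1 hx'
  obtain ⟨k₂, hk₂, c₂, hc₂, rfl⟩ := Set.mem_mul.1 hy'
  have hcc : c₁ * c₂ = c₂ * c₁ := by
    have h1 := (IsCyclic.commGroup (α := ↥(R ⊓ Subgroup.centralizer (A : Set G)))).mul_comm
      ⟨c₁, hc₁⟩ ⟨c₂, hc₂⟩
    exact congrArg Subtype.val h1
  have hn₁ := Subgroup.mem_normalizer_iff.1 (hCn hc₁)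
  have hn₂ := Subgroup.mem_normalizer_iff.1 (hCn hc₂)
  have e : ⁅k₁ * c₁, k₂ * c₂⁆ = k₁ * (c₁ * k₂ * c₁⁻¹) * (c₂ * k₁⁻¹ * c₂⁻¹) * k₂⁻¹ := by
    have h2 : c₂ * c₁⁻¹ = c₁⁻¹ * c₂ := by
      calc c₂ * c₁⁻¹ = c₁⁻¹ * (c₁ * c₂) * c₁⁻¹ := by group
        _ = c₁⁻¹ * (c₂ * c₁) * c₁⁻¹ := by rw [hcc]
        _ = c₁⁻¹ * c₂ := by group
    calc ⁅k₁ * c₁, k₂ * c₂⁆ = k₁ * c₁ * k₂ * (c₂ * c₁⁻¹) * k₁⁻¹ * c₂⁻¹ * k₂⁻¹ := by
          rw [commutatorElement_def]; group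
      _ = k₁ * c₁ * k₂ * (c₁⁻¹ * c₂) * k₁⁻¹ * c₂⁻¹ * k₂⁻¹ := by rw [h2]
      _ = k₁ * (c₁ * k₂ * c₁⁻¹) * (c₂ * k₁⁻¹ * c₂⁻¹) * k₂⁻¹ := by group
  rw [e]
  exact Subgroup.mul_mem _ (Subgroup.mul_mem _ (Subgroup.mul_mem _ hk₁ ((hn₁ k₂).1 hk₂))
    ((hn₂ k₁⁻¹).1 (Subgroup.inv_mem _ hk₁))) (Subgroup.inv_mem _ hk₂)

/-- Let G be a finite group, p an odd prime, R a metacyclic p-subgroup and A a subgroup of order coprime to p normalizing R. Then [R, A] is abelian; R is generated by [R, A] and R ∩ C_G(A), which meet trivially; and if R is non-abelian and A does not centralize R, then [R, A] and R ∩ C_G(A) are nontrivial cyclic groups and [R, R] ≤ [R, A]. -/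
theorem result {G : Type*} [Group G] [Finite G] (p : ℕ) [Fact p.Prime] (hp : p ≠ 2) (R A : Subgroup G) (hR : IsPGroup p R) (hRm : Cfsg.IsMetacyclic R)
    (hA : (A ≤ Subgroup.normalizer (R : Set G))) (hcop : (Nat.card A).Coprime p) :
    IsMulCommutative ↥⁅R, A⁆ ∧ ⁅R, A⁆ ⊔ (R ⊓ Subgroup.centralizer (A : Set G)) = R ∧ ⁅R, A⁆ ⊓ (R ⊓ Subgroup.centralizer (A : Set G)) = ⊥ ∧
      (¬ IsMulCommutative R → ¬ A ≤ Subgroup.centralizer (R : Set G) →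
        ⁅R, A⁆ ≠ ⊥ ∧ IsCyclic ↥⁅R, A⁆ ∧ (R ⊓ Subgroup.centralizer (A : Set G)) ≠ ⊥ ∧ IsCyclic ↥(R ⊓ Subgroup.centralizer (A : Set G)) ∧ ⁅R, R⁆ ≤ ⁅R, A⁆) := by
  exact main p hp R A hR hRm hA hcop

end Cfsg.Agent.S1447
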