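-- Statement S1448: rank-two p-group R = [R, A] with A an odd p'-group of operators.
import Cfsg.Statements.S1448
import Cfsg.Agent.Lib.Helper11.R2C6
import Cfsg.Agent.S1447
import Cfsg.Agent.Lib.Helper1.RankTwoLin

set_option autoImplicit false
open Cfsg

namespace Cfsg.Agent.S1448

open scoped commutatorElement

theorem arith48 (n : ℕ) (hodd : Odd n) (hc3 : n.Coprime 3) (h48 : n ∣ 48) : n = 1 := by
  have hle := Nat.le_of_dvd (by norm_num) h48
  interval_cases n <;> first | rfl | (exfalso; revert hodd hc3 h48; decide)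

theorem p_gt_three {G : Type*} [Group G] [Finite G] (p : ℕ) [Fact p.Prime] (hp : p ≠ 2)
    (R A : Subgroup G) (hR : IsPGroup p R) (hR1 : R ≠ ⊥) (hr : Cfsg.PRankLE p 2 R)
    (hA : (A ≤ Subgroup.normalizer (R : Set G))) (hcop : (Nat.card A).Coprime p)
    (hAodd : Odd (Nat.card A)) (hRA : ⁅R, A⁆ = R) : 3 < p := by
  have hpp : p.Prime := Fact.out
  by_contra hcon
  have hp3 : p = 3 := by
    have := hpp.two_le
    omega
  subst hp3
  obtain ⟨φ, hφ⟩ := Cfsg.Agent.Lib.Helper1.exists_linearization hp R A hR hr hA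
  have hAC : A ≤ Subgroup.centralizer (R : Set G) := by
    intro a ha
    have h1 : φ ⟨a, ha⟩ = 1 := by
      have hd1 : orderOf (φ ⟨a, ha⟩) ∣ Nat.card A :=
        (orderOf_map_dvd φ _).trans (orderOf_dvd_natCard _)
      have hd2 : orderOf (φ ⟨a, ha⟩) ∣ Nat.card (GL (Fin 2) (ZMod 3)) := orderOf_dvd_natCard _
      rw [Cfsg.Agent.Lib.Helper5.GL2.card_GL2, ZMod.card] at hd2
      have hodd : Odd (orderOf (φ ⟨a, ha⟩)) := Odd.of_dvd_nat hAodd hd1
      have hc3 : (orderOf (φ ⟨a, ha⟩)).Coprime 3 := Nat.Coprime.coprime_dvd_left hd1 hcop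
      have h48 : orderOf (φ ⟨a, ha⟩) ∣ 48 := by
        have e : (3 + 1) * (3 * (3 - 1) ^ 2) = 48 := by norm_num
        rw [e] at hd2
        exact hd2
      exact orderOf_eq_one_iff.mp (arith48 _ hodd hc3 h48)
    have h2 : (orderOf (a : G)).Coprime 3 := by
      have h3 := orderOf_dvd_natCard (⟨a, ha⟩ : A)
      rw [Subgroup.orderOf_mk] at h3
      exact Nat.Coprime.coprime_dvd_left h3 hcop
    exact hφ ⟨a, ha⟩ h1 h2
  apply hR1
  rw [← hRA, Subgroup.commutator_comm]
  exact Subgroup.commutator_eq_bot_iff_le_centralizer.mpr hAC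

/-- Let G be a finite group, p an odd prime, R a nontrivial p-subgroup with no elementary abelian subgroup of order p ^ 3, and A a subgroup of odd order coprime to p normalizing R with [R, A] = R. Then 3 < p, and either R is abelian or R is generated by two elementwise-commuting subgroups R₁, R₂ with R₁ non-abelian of order p ^ 3 and exponent p, R₂ cyclic, and the elements of R₂ of order dividing p generating exactly [R₁, R₁]. -/
theorem result {G : Type*} [Group G] [Finite G] (p : ℕ) [Fact p.Prime] (hp : p ≠ 2) (R A : Subgroup G) (hR : IsPGroup p R) (hR1 : R ≠ ⊥) (hr : Cfsg.PRankLE p 2 R)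
    (hA : (A ≤ Subgroup.normalizer (R : Set G))) (hcop : (Nat.card A).Coprime p) (hAodd : Odd (Nat.card A)) (hRA : ⁅R, A⁆ = R) :
    3 < p ∧ (IsMulCommutative R ∨ ∃ R₁ R₂ : Subgroup G, R₁ ⊔ R₂ = R ∧ (∀ a ∈ R₁, ∀ b ∈ R₂, a * b = b * a) ∧
        ¬ IsMulCommutative R₁ ∧ Nat.card R₁ = p ^ 3 ∧ Monoid.exponent R₁ = p ∧ IsCyclic R₂ ∧
        Subgroup.closure {x : G | x ∈ R₂ ∧ x ^ p = 1} = ⁅R₁, R₁⁆) := by
  have hpp : p.Prime := Fact.out
  have hp3 : 3 < p := p_gt_three p hp R A hR hR1 hr hA hcop hAodd hRA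
  refine ⟨hp3, ?_⟩
  obtain ⟨ψ, hψdef⟩ : ∃ ψ : A →* MulAut R,
      ψ = (Subgroup.normalizerMonoidHom R).comp (Subgroup.inclusion hA) := ⟨_, rfl⟩
  have hψ : ∀ (a : A) (r : R), ((ψ a r : R) : G) = a * r * (a : G)⁻¹ := by
    intro a r
    rw [hψdef]
    rfl
  have hcore := Cfsg.Agent.Lib.Helper11.R2C.core (P := ↥R) hp3 hR
    (fun B hB hB' => hr B ⟨⟨fun a b => Subtype.ext (hB a a.2 b b.2)⟩⟩ hB')
    (fun hm a b => by
      have h1 := (Cfsg.Agent.S1447.result p hp R A hR hm hA hcop).1
      rw [hRA] at h1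
      exact h1.is_comm.comm a b)
    {σ | ∃ a : A, σ = ψ a}
    (by
      rintro σ ⟨a, rfl⟩
      exact Odd.of_dvd_nat hAodd ((orderOf_map_dvd ψ a).trans (orderOf_dvd_natCard a)))
    (by
      intro T hT
      have hle : ⁅R, A⁆ ≤ T.map R.subtype := by
        rw [Subgroup.commutator_le]
        intro r hr' a ha
        have h1 := hT (ψ ⟨a, ha⟩) ⟨⟨a, ha⟩, rfl⟩ ⟨r, hr'⟩
        have h2 := T.inv_mem h1
        refine ⟨_, h2, ?_⟩
        rw [commutatorElement_def]
        simp only [Subgroup.coe_subtype, Subgroup.coe_inv, Subgroup.coe_mul, hψ]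
        group
      rw [hRA] at hle
      rw [eq_top_iff]
      intro g _
      obtain ⟨t, ht, hte⟩ := hle g.2
      have : t = g := Subtype.ext hte
      rw [← this]
      exact ht)
  rcases hcore with hab | ⟨Z, E, hsup, hnc, hcard, hexp, hcyc, hcomm, hZ⟩
  · left
    exact ⟨⟨fun a b => hab a b⟩⟩
  · right
    refine ⟨E.map R.subtype, (Subgroup.centralizer (E : Set R)).map R.subtype, ?_, ?_, ?_, ?_,
      ?_, ?_, ?_⟩
    · rw [← Subgroup.map_sup, hsup, ← MonoidHom.range_eq_map, Subgroup.range_subtype]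
    · rintro _ ⟨e, he, rfl⟩ _ ⟨c, hc, rfl⟩
      exact (congrArg Subtype.val (Subgroup.mem_centralizer_iff.mp hc e he))
    · intro hcm
      apply hnc
      intro a ha b hb
      have h1 := hcm.is_comm.comm ⟨R.subtype a, Subgroup.mem_map_of_mem _ ha⟩
        ⟨R.subtype b, Subgroup.mem_map_of_mem _ hb⟩
      have h2 := congrArg Subtype.val h1
      exact Subtype.ext h2
    · rw [Subgroup.card_map_of_injective (Subgroup.subtype_injective R), hcard]
    · have hdvd : Monoid.exponent ↥(E.map R.subtype) ∣ p := by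
        apply Monoid.exponent_dvd_of_forall_pow_eq_one
        rintro ⟨g, e, he, rfl⟩
        apply Subtype.ext
        have h1 := (hexp e).mpr he
        have h2 := congrArg Subtype.val h1
        simpa using h2
      rcases (Nat.dvd_prime hpp).mp hdvd with h1 | h1
      · exfalso
        rw [Monoid.exp_eq_one_iff] at h1
        have h2 : Nat.card ↥(E.map R.subtype) = 1 := Nat.card_unique
        rw [Subgroup.card_map_of_injective (Subgroup.subtype_injective R), hcard] at h2
        have : 1 < p ^ 3 := Nat.one_lt_pow (by norm_num) hpp.one_lt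
        omega
      · exact h1
    · exact isCyclic_of_surjective
        (Subgroup.equivMapOfInjective (Subgroup.centralizer (E : Set R)) R.subtype
          (Subgroup.subtype_injective R))
        (Subgroup.equivMapOfInjective (Subgroup.centralizer (E : Set R)) R.subtype
          (Subgroup.subtype_injective R)).surjective
    · rw [← Subgroup.map_commutator, hcomm]
      have hset : {x : G | x ∈ (Subgroup.centralizer (E : Set R)).map R.subtype ∧ x ^ p = 1}
          = ((Z.map R.subtype : Subgroup G) : Set G) := by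
        ext x
        constructor
        · rintro ⟨⟨c, hc, rfl⟩, hx⟩
          have h1 : c ^ p = 1 := Subtype.ext (by simpa using hx)
          exact ⟨c, (hZ c).mpr ⟨(hexp c).mp h1, hc⟩, rfl⟩
        · rintro ⟨z, hz, rfl⟩
          have h1 := (hZ z).mp hz
          refine ⟨⟨z, h1.2, rfl⟩, ?_⟩
          have h2 := (hexp z).mpr h1.1
          have h3 := congrArg Subtype.val h2
          simpa using h3
      rw [hset, Subgroup.closure_eq]

end Cfsg.Agent.S1448
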