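import Cfsg.Statements.S1428
import Cfsg.Agent.Lib.Helper95.BG.S1428Core
import Cfsg.Agent.S1403
import Cfsg.Agent.S1404
import Cfsg.Agent.S1405
import Cfsg.Agent.S1407
import Cfsg.Agent.S1408
import Cfsg.Agent.S1409
import Cfsg.Agent.S1411
import Cfsg.Agent.S1414
import Cfsg.Agent.S1416
import Cfsg.Agent.S1417
import Cfsg.Agent.S1418
import Cfsg.Agent.S1420
import Cfsg.Agent.S1422
import Cfsg.Agent.S1423
import Cfsg.Agent.S1424

set_option autoImplicit false
open Cfsg

namespace Cfsg.Agent.S1428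

/-- Let G be a minimal simple group of odd order, M a maximal subgroup, E a complement to M_σ in M, p ∈ τ₁(M), P ≤ E a subgroup of order p, and R a subgroup of prime order of E ∩ C_G(P). Then M_σ ∩ C_G(P) ≤ M_σ ∩ C_G(R). -/
theorem result {G : Type*} [Group G] [Finite G] (hG : Cfsg.IsMinSimpleOddOrder G)
    (M : Subgroup G) (hM : IsCoatom M) (E : Subgroup G) (hE : Cfsg.IsComplIn E (Cfsg.sigmaCore M) M) (p : ℕ) (hp : p ∈ Cfsg.tau1 M) (P : Subgroup G) (hPE : P ≤ E) (hP : Nat.card P = p)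
    (R : Subgroup G) (hRE : R ≤ E ⊓ Subgroup.centralizer (P : Set G)) (hR : (Nat.card R).Prime) :
    Cfsg.sigmaCore M ⊓ Subgroup.centralizer (P : Set G) ≤ Cfsg.sigmaCore M ⊓ Subgroup.centralizer (R : Set G) := by
  exact Cfsg.Agent.Lib.Helper95.BG28.s1428_core hG (Cfsg.Agent.S1403.result hG)
    (Cfsg.Agent.S1404.result hG) (Cfsg.Agent.S1405.result hG) (Cfsg.Agent.S1407.result hG)
    (Cfsg.Agent.S1408.result hG) (Cfsg.Agent.S1409.result hG) (Cfsg.Agent.S1411.result hG)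
    (Cfsg.Agent.S1414.result hG) (Cfsg.Agent.S1416.result hG) (Cfsg.Agent.S1417.result hG)
    (Cfsg.Agent.S1418.result hG) (Cfsg.Agent.S1420.result hG) (Cfsg.Agent.S1422.result hG)
    (Cfsg.Agent.S1423.result hG) (Cfsg.Agent.S1424.result hG) M hM E hE p hp P hPE hP R hRE hR

end Cfsg.Agent.S1428
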