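import Mathlib
import Cfsg.Statements.S1378
import Cfsg.Agent.S1350
import Cfsg.Agent.S1403
import Cfsg.Agent.S1404
import Cfsg.Agent.S1405
import Cfsg.Agent.S1408
import Cfsg.Agent.S1409
import Cfsg.Agent.S1414
import Cfsg.Agent.S1415
import Cfsg.Agent.S1417
import Cfsg.Agent.S1423
import Cfsg.Agent.S1426
import Cfsg.Agent.S1427
import Cfsg.Agent.S1428
import Cfsg.Agent.Lib.Helper83.BG.SigmaPartition

set_option autoImplicit false
open Cfsg

namespace Cfsg.Agent.S1378

/-- Let G be a minimal simple group of odd order. Then every prime dividing the order of G belongs to σ(M) for some maximal subgroup M, and if σ(M) and σ(N) have a prime in common for maximal subgroups M, N then N is conjugate to M; so the sets σ(M_i) over representatives of the conjugacy classes of maximal subgroups partition the prime divisors of #G. -/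
theorem result {G : Type*} [Group G] [Finite G] (hG : Cfsg.IsMinSimpleOddOrder G) :
    (∀ p : ℕ, p.Prime → p ∣ Nat.card G → ∃ M : Subgroup G, IsCoatom M ∧ p ∈ Cfsg.sigma M) ∧
      ∀ M N : Subgroup G, IsCoatom M → IsCoatom N → (Cfsg.sigma M ∩ Cfsg.sigma N).Nonempty → ∃ g : G, N = M.map (MulAut.conj g).toMonoidHom := by
  exact Cfsg.Agent.Lib.Helper83.BG.s1378_core_free hG (Cfsg.Agent.S1350.result hG)
    (Cfsg.Agent.S1403.result hG) (Cfsg.Agent.S1404.result hG) (Cfsg.Agent.S1405.result hG)
    (Cfsg.Agent.S1408.result hG) (Cfsg.Agent.S1409.result hG) (Cfsg.Agent.S1414.result hG)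
    (Cfsg.Agent.S1415.result hG) (Cfsg.Agent.S1417.result hG) (Cfsg.Agent.S1423.result hG)
    (Cfsg.Agent.S1426.result hG) (Cfsg.Agent.S1427.result hG) (Cfsg.Agent.S1428.result hG)

end Cfsg.Agent.S1378
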