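import Cfsg.Statements.S1446
import Cfsg.Agent.Lib.Helper97.FrobFormula
import Cfsg.Agent.Lib.Helper97.FrobCentral

set_option autoImplicit false
open Cfsg

namespace Cfsg.Agent.S1446

/-- Let X be a finite group with subgroups K, R, M such that: K and R are nontrivial, K ∩ R = 1, R normalizes K, no non-identity element of R centralizes a non-identity element of K, K ⊔ R is solvable of odd order; M is nilpotent and nontrivial, normalized by K and by R, with order coprime to that of K ⊔ R, M ∩ C(K) = 1, and M ∩ C(x) = M ∩ C(R) for all non-identity x ∈ R. Then R has prime order p, #M = #(M ∩ C(R)) ^ p, and if M ∩ C(R) is cyclic then [K, K] centralizes M. -/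
theorem result {X : Type*} [Group X] [Finite X] (K R M : Subgroup X) (hK1 : K ≠ ⊥) (hR1 : R ≠ ⊥) (hKR : K ⊓ R = ⊥)
    (hRK : R ≤ Subgroup.normalizer (K : Set X)) (hfrob : ∀ r ∈ R, r ≠ 1 → K ⊓ Subgroup.centralizer ({r} : Set X) = ⊥)
    (hsolv : Group.IsSolvable ↥(K ⊔ R)) (hodd : Odd (Nat.card ↥(K ⊔ R)))
    (hM1 : M ≠ ⊥) (hMn : Group.IsNilpotent M) (hKM : K ≤ Subgroup.normalizer (M : Set X)) (hRM : R ≤ Subgroup.normalizer (M : Set X))
    (hcop : (Nat.card ↥(K ⊔ R)).Coprime (Nat.card M)) (hCK : M ⊓ Subgroup.centralizer (K : Set X) = ⊥)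
    (hpr : ∀ x ∈ R, x ≠ 1 → M ⊓ Subgroup.centralizer ({x} : Set X) = M ⊓ Subgroup.centralizer (R : Set X)) :
    (Nat.card R).Prime ∧ Nat.card M = Nat.card ↥(M ⊓ Subgroup.centralizer (R : Set X)) ^ Nat.card R ∧
      (IsCyclic ↥(M ⊓ Subgroup.centralizer (R : Set X)) → ⁅K, K⁆ ≤ Subgroup.centralizer (M : Set X)) := by
  classical
  have hUn : ∀ e ∈ R, ∀ u ∈ K, e * u * e⁻¹ ∈ K :=
    fun e he u hu => (Subgroup.mem_normalizer_iff.mp (hRK he) u).mp hu
  have hfpf : ∀ e ∈ R, e ≠ 1 → ∀ u ∈ K, e * u = u * e → u = 1 := by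
    intro e he he1 u hu heu
    have h1 : u ∈ K ⊓ Subgroup.centralizer ({e} : Set X) := by
      refine Subgroup.mem_inf.mpr ⟨hu, ?_⟩
      rw [Subgroup.mem_centralizer_iff]
      intro h hh
      rw [Set.mem_singleton_iff] at hh
      rw [hh]
      exact heu
    rw [hfrob e he he1] at h1
    exact Subgroup.mem_bot.mp h1
  have hnil : Group.IsNilpotent K :=
    Cfsg.Agent.Lib.Helper97.FrobFormula.nilpotent_of_fpf K R hR1 hUn hfpf
  have hsolvM : Group.IsSolvable M := inferInstance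
  have hform : ∀ R₀ : Subgroup X, R₀ ≤ R →
      Nat.card M = Nat.card ↥(M ⊓ Subgroup.centralizer (R₀ : Set X)) ^ Nat.card R₀ := by
    intro R₀ hR₀
    have hle : K ⊔ R₀ ≤ K ⊔ R := sup_le_sup_left hR₀ K
    have hGM : K ⊔ R₀ ≤ Subgroup.normalizer (M : Set X) := hle.trans (sup_le hKM hRM)
    have hcop' : Nat.Coprime (Nat.card M) (Nat.card ↥(K ⊔ R₀)) :=
      (Nat.Coprime.coprime_dvd_left (Subgroup.card_dvd_of_le hle) hcop).symm
    have h1 := Cfsg.Agent.Lib.Helper97.FrobFormula.frob_formula K R₀ M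
      (fun e he => hUn e (hR₀ he)) (fun e he => hfpf e (hR₀ he)) hnil hGM hsolvM hcop'
    have h2 : M ⊓ Subgroup.centralizer ((K ⊔ R₀ : Subgroup X) : Set X) = ⊥ := by
      rw [eq_bot_iff, ← hCK]
      exact inf_le_inf le_rfl (Subgroup.centralizer_le (le_sup_left : K ≤ K ⊔ R₀))
    rw [h2, hCK, Subgroup.card_bot, one_pow, one_mul, mul_one] at h1
    exact h1
  -- an element of prime order in `R`
  have hnon : Nontrivial ↥R := (Subgroup.nontrivial_iff_ne_bot R).mpr hR1
  have hcardR : 1 < Nat.card ↥R := Finite.one_lt_card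
  obtain ⟨p, hp, hpdvd⟩ := Nat.exists_prime_and_dvd hcardR.ne'
  have hpF : Fact p.Prime := ⟨hp⟩
  obtain ⟨e, he⟩ := exists_prime_orderOf_dvd_card' (G := ↥R) p hpdvd
  have hord : orderOf (e : X) = p := by
    rw [← he]
    exact Subgroup.orderOf_coe e
  have hx1 : (e : X) ≠ 1 := by
    intro h
    rw [h, orderOf_one] at hord
    exact hp.one_lt.ne hord
  have hxp : (e : X) ^ p = 1 := by
    rw [← hord]
    exact pow_orderOf_eq_one _
  have hzx : Subgroup.zpowers (e : X) ≤ R := Subgroup.zpowers_le.mpr e.2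
  have hcx : M ⊓ Subgroup.centralizer ((Subgroup.zpowers (e : X) : Subgroup X) : Set X) =
      M ⊓ Subgroup.centralizer (R : Set X) := by
    rw [← hpr e e.2 hx1]
    congr 1
    apply le_antisymm
    · exact Subgroup.centralizer_le (Set.singleton_subset_iff.mpr (Subgroup.mem_zpowers _))
    · exact Cfsg.Agent.Lib.Helper61.centralizer_singleton_le_centralizer_zpowers _
  have hcardx : Nat.card (Subgroup.zpowers (e : X)) = p := by
    rw [Nat.card_zpowers, hord]
  have h1 := hform (Subgroup.zpowers (e : X)) hzx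
  rw [hcx, hcardx] at h1
  have h2 := hform R le_rfl
  have hc2 : 2 ≤ Nat.card ↥(M ⊓ Subgroup.centralizer (R : Set X)) := by
    by_contra hlt
    have hpos : 0 < Nat.card ↥(M ⊓ Subgroup.centralizer (R : Set X)) := Nat.card_pos
    have hc1 : Nat.card ↥(M ⊓ Subgroup.centralizer (R : Set X)) = 1 := by omega
    rw [hc1, one_pow] at h2
    exact hM1 (Subgroup.card_eq_one.mp h2)
  have hRp : Nat.card R = p := Nat.pow_right_injective hc2 (h2.symm.trans h1)
  refine ⟨by rw [hRp]; exact hp, h2, ?_⟩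
  intro hcyc
  have hRx : ∀ y ∈ R, y ∈ Subgroup.zpowers (e : X) := by
    have h3 : Subgroup.zpowers (e : X) = R :=
      Subgroup.eq_of_le_of_card_ge hzx (by rw [hcardx, hRp])
    intro y hy
    rw [h3]
    exact hy
  exact Cfsg.Agent.Lib.Helper97.FrobCentral.frob_comm_centralizes_aux K R M (e : X) e.2 hp hxp hRx
    hUn (hfpf e e.2 hx1) hnil hsolvM hcop hcyc (Nat.card M) M le_rfl le_rfl (sup_le hKM hRM)

end Cfsg.Agent.S1446
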