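import Mathlib
import Cfsg.Statements.S1430
import Cfsg.Agent.S1350
import Cfsg.Agent.S1403
import Cfsg.Agent.S1404
import Cfsg.Agent.S1405
import Cfsg.Agent.S1407
import Cfsg.Agent.S1408
import Cfsg.Agent.S1409
import Cfsg.Agent.S1414
import Cfsg.Agent.S1415
import Cfsg.Agent.S1416
import Cfsg.Agent.S1417
import Cfsg.Agent.S1418
import Cfsg.Agent.S1419
import Cfsg.Agent.S1420
import Cfsg.Agent.S1422
import Cfsg.Agent.S1423
import Cfsg.Agent.S1424
import Cfsg.Agent.S1425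
import Cfsg.Agent.S1426
import Cfsg.Agent.S1427
import Cfsg.Agent.S1428
import Cfsg.Agent.Lib.Helper2.BG.S1430Closed
import Cfsg.Agent.Lib.Helper34.BG.Tau13Asym

set_option autoImplicit false
open Cfsg

namespace Cfsg.Agent.S1430

/-- Let G be a minimal simple group of odd order, M a maximal subgroup, K ≠ 1 a Hall κ(M)-subgroup of M and K* = M_σ ∩ C_G(K). Then M_σ ∩ C_G(k) = K* for every non-identity k ∈ K; there is an abelian subgroup U of M, a Hall subgroup of M for the primes outside κ(M) ∪ σ(M), normalized by K with U ∩ C_G(k) = 1 for all non-identity k ∈ K; and for every subgroup X ≤ K of prime order, M ∩ N_G(X) = M ∩ N_G(K) = K ⊔ K*, and X ≤ M*_σ for every maximal subgroup M* containing N_G(X). -/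
theorem result {G : Type*} [Group G] [Finite G] (hG : Cfsg.IsMinSimpleOddOrder G)
    (M : Subgroup G) (hM : IsCoatom M) (K : Subgroup G) (hK : Cfsg.IsPiHallOf (Cfsg.kappa M) K M) (hK1 : K ≠ ⊥) :
    (∀ k ∈ K, k ≠ 1 → Cfsg.sigmaCore M ⊓ Subgroup.centralizer ({k} : Set G) = (Cfsg.sigmaCore M ⊓ Subgroup.centralizer (K : Set G))) ∧
      (∃ U : Subgroup G, IsMulCommutative U ∧ Cfsg.IsPiHallOf {q | q.Prime ∧ q ∉ Cfsg.kappa M ∧ q ∉ Cfsg.sigma M} U M ∧
        K ≤ Subgroup.normalizer (U : Set G) ∧ ∀ k ∈ K, k ≠ 1 → U ⊓ Subgroup.centralizer ({k} : Set G) = ⊥) ∧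
      ∀ X : Subgroup G, X ≤ K → (Nat.card X).Prime →
        M ⊓ Subgroup.normalizer (X : Set G) = K ⊔ (Cfsg.sigmaCore M ⊓ Subgroup.centralizer (K : Set G)) ∧ M ⊓ Subgroup.normalizer (K : Set G) = K ⊔ (Cfsg.sigmaCore M ⊓ Subgroup.centralizer (K : Set G)) ∧
        ∀ Mstar : Subgroup G, IsCoatom Mstar → Subgroup.normalizer (X : Set G) ≤ Mstar → X ≤ Cfsg.sigmaCore Mstar := by
  exact Cfsg.Agent.Lib.Helper2.BG30.s1430_of_asym hG
    (Cfsg.Agent.S1350.result hG) (Cfsg.Agent.S1403.result hG) (Cfsg.Agent.S1404.result hG) (Cfsg.Agent.S1405.result hG) (Cfsg.Agent.S1407.result hG) (Cfsg.Agent.S1408.result hG) (Cfsg.Agent.S1409.result hG) (Cfsg.Agent.S1414.result hG) (Cfsg.Agent.S1415.result hG) (Cfsg.Agent.S1416.result hG) (Cfsg.Agent.S1417.result hG) (Cfsg.Agent.S1418.result hG) (Cfsg.Agent.S1419.result hG) (Cfsg.Agent.S1420.result hG) (Cfsg.Agent.S1422.result hG) (Cfsg.Agent.S1423.result hG) (Cfsg.Agent.S1424.result hG) (Cfsg.Agent.S1425.result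 hG) (Cfsg.Agent.S1426.result hG) (Cfsg.Agent.S1427.result hG) (Cfsg.Agent.S1428.result hG)
    (Cfsg.Agent.Lib.Helper34.BG.asymProp hG (Cfsg.Agent.S1350.result hG) (Cfsg.Agent.S1403.result hG) (Cfsg.Agent.S1404.result hG) (Cfsg.Agent.S1405.result hG) (Cfsg.Agent.S1407.result hG) (Cfsg.Agent.S1408.result hG) (Cfsg.Agent.S1414.result hG) (Cfsg.Agent.S1423.result hG) (Cfsg.Agent.S1428.result hG)) M hM K hK hK1

end Cfsg.Agent.S1430
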