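-- Statement S1425 (BG Lemma 12.14): helper74. Final file; needs S1350, S1403, S1414, S1416, S1417, S1424 on main.
import Mathlib
import Cfsg.Statements.S1425
import Cfsg.Agent.S1350
import Cfsg.Agent.S1403
import Cfsg.Agent.S1414
import Cfsg.Agent.S1416
import Cfsg.Agent.S1417
import Cfsg.Agent.S1424
import Cfsg.Agent.Lib.Helper74.BG.S1425Core

set_option autoImplicit false
open Cfsg

namespace Cfsg.Agent.S1425

/-- Let G be a minimal simple group of odd order, M a maximal subgroup and Y a nontrivial subgroup of G all of whose prime divisors lie in σ(M). Then gYg⁻¹ ≤ M_σ for some g ∈ G. -/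
theorem result {G : Type*} [Group G] [Finite G] (hG : Cfsg.IsMinSimpleOddOrder G)
    (M : Subgroup G) (hM : IsCoatom M) (Y : Subgroup G) (hY1 : Y ≠ ⊥) (hY : ∀ p : ℕ, p.Prime → p ∣ Nat.card Y → p ∈ Cfsg.sigma M) :
    ∃ g : G, Y.map (MulAut.conj g).toMonoidHom ≤ Cfsg.sigmaCore M :=
  Cfsg.Agent.Lib.Helper74.BG.s1425_core hG (Cfsg.Agent.S1350.result hG) (Cfsg.Agent.S1403.result hG) (Cfsg.Agent.S1414.result hG) (Cfsg.Agent.S1416.result hG) (Cfsg.Agent.S1417.result hG) (Cfsg.Agent.S1424.result hG)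
    M hM Y hY1 hY

end Cfsg.Agent.S1425
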