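import Cfsg.Statements.S1432
import Cfsg.Agent.Lib.Helper67.BG.S1432Core
import Cfsg.Agent.S1350
import Cfsg.Agent.S1405
import Cfsg.Agent.S1417
import Cfsg.Agent.S1418
import Cfsg.Agent.S1420
import Cfsg.Agent.S1422
import Cfsg.Agent.S1430
import Cfsg.Agent.S1431

set_option autoImplicit false

namespace Cfsg.Agent.S1432

theorem result {G : Type*} [Group G] [Finite G] (hG : Cfsg.IsMinSimpleOddOrder G)
    (M : Subgroup G) (hM : IsCoatom M) (x : G) (hx : x ∈ Cfsg.sigmaCore M) (hx1 : x ≠ 1) (x' : G) (hx' : x' ∈ M ⊓ Subgroup.centralizer ({x} : Set G)) (hx'1 : x' ≠ 1)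
    (hσ : ∀ p : ℕ, p.Prime → p ∣ orderOf x' → p ∉ Cfsg.sigma M) :
    ((∀ p : ℕ, p.Prime → p ∣ orderOf x' → p ∈ Cfsg.kappa M) ∧ Subgroup.centralizer ({x} : Set G) ≤ M) ∨
      ((∀ p : ℕ, p.Prime → p ∣ orderOf x' → p ∈ Cfsg.tau2 M) ∧
        (∃ L : Subgroup G, IsCoatom L ∧ ∀ p : ℕ, p.Prime → p ∣ orderOf x' → p ∈ Cfsg.sigma L) ∧
        (Subgroup.centralizer ({x'} : Set G) ≤ M ∧ ∀ L : Subgroup G, IsCoatom L → Subgroup.centralizer ({x'} : Set G) ≤ L → L = M)) :=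
  Cfsg.Agent.Lib.Helper67.BG.s1432_core hG (Cfsg.Agent.S1350.result hG) (Cfsg.Agent.S1405.result hG)
    (Cfsg.Agent.S1417.result hG) (Cfsg.Agent.S1418.result hG) (Cfsg.Agent.S1420.result hG)
    (Cfsg.Agent.S1422.result hG) (Cfsg.Agent.S1430.result hG) (Cfsg.Agent.S1431.result hG)
    M hM x hx hx1 x' hx' hx'1 hσ

end Cfsg.Agent.S1432
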