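import Mathlib
import Cfsg.Statements.S1477
import Cfsg.Agent.Lib.Helper73.NilpotentCenter

set_option autoImplicit false
open Cfsg

namespace Cfsg.Agent.S1477

open Cfsg.Agent.Lib.Helper73

theorem comm_of_coprime {G : Type*} [Group G] [Finite G] {C : Subgroup G}
    (hC : Group.IsNilpotent C) {x y : G} (hx : x ∈ C) (hy : y ∈ C)
    (h : Nat.Coprime (orderOf x) (orderOf y)) : x * y = y * x := by
  haveI := hC
  have h1 := commute_of_coprime_orderOf (G := C) ⟨x, hx⟩ ⟨y, hy⟩
    (by rwa [Subgroup.orderOf_mk, Subgroup.orderOf_mk])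
  exact congrArg Subtype.val h1

theorem central_elt {G : Type*} [Group G] [Finite G] {H : Subgroup G}
    (hH : Group.IsNilpotent H) (r : ℕ) [Fact r.Prime] (hr : r ∣ Nat.card H) :
    ∃ z ∈ H, z ≠ 1 ∧ orderOf z = r ∧ ∀ h ∈ H, h * z = z * h := by
  haveI := hH
  obtain ⟨z, hz, hzo⟩ := exists_center_orderOf_eq_prime (N := H) r hr
  have hzo' : orderOf (z : G) = r := by rwa [Subgroup.orderOf_coe]
  refine ⟨z.1, z.2, ?_, hzo', fun h hh => ?_⟩
  · intro h1
    rw [h1, orderOf_one] at hzo'
    exact (Fact.out : r.Prime).one_lt.ne hzo'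
  · have h1 := Subgroup.mem_center_iff.1 hz ⟨h, hh⟩
    exact congrArg Subtype.val h1

theorem cent_eq {G : Type*} [Group G] (hCN : Cfsg.IsCNGroup G) {H : Subgroup G}
    (hmax : ∀ L : Subgroup G, Group.IsNilpotent L → H ≤ L → L = H)
    {z : G} (hz1 : z ≠ 1) (hz : ∀ h ∈ H, h * z = z * h) :
    Subgroup.centralizer ({z} : Set G) = H :=
  hmax _ (hCN z hz1) (fun h hh => Subgroup.mem_centralizer_singleton_iff.2 (hz h hh))

theorem le_of_parts {G : Type*} [Group G] [Finite G] (L M : Subgroup G) (p : ℕ) [Fact p.Prime]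
    (h1 : ∀ y ∈ L, (orderOf y).Coprime p → y ∈ M)
    (h2 : ∀ y ∈ L, (∃ k, orderOf y = p ^ k) → y ∈ M) : L ≤ M := by
  rw [← Subgroup.subgroupOf_eq_top]
  apply eq_top_of_forall_sylow_le
  intro s _
  obtain ⟨S⟩ : Nonempty (Sylow s L) := inferInstance
  refine ⟨S, ?_⟩
  intro y hy
  rw [Subgroup.mem_subgroupOf]
  obtain ⟨k, hk⟩ := (IsPGroup.iff_orderOf.mp S.isPGroup') ⟨y, hy⟩
  have hk' : orderOf (y : G) = s ^ k := by
    rw [← hk, Subgroup.orderOf_mk, Subgroup.orderOf_coe]
  by_cases hs : s = p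
  · subst hs; exact h2 y y.2 ⟨k, hk'⟩
  · apply h1 y y.2
    rw [hk']
    exact Nat.Coprime.pow_left k ((Nat.coprime_primes Fact.out Fact.out).2 hs)

theorem exists_other_prime {G : Type*} [Group G] [Finite G] {H : Subgroup G} (p : ℕ)
    [Fact p.Prime] (hpg : ¬ IsPGroup p H) : ∃ q : ℕ, q.Prime ∧ q ≠ p ∧ q ∣ Nat.card H := by
  by_contra hcon
  push Not at hcon
  apply hpg
  have hne : Nat.card H ≠ 0 := Nat.card_pos.ne'
  have h1 := Nat.eq_prime_pow_of_unique_prime_dvd hne (p := p)
    (fun {d} hd hdvd => by by_contra h; exact hcon d hd h hdvd)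
  exact IsPGroup.of_card h1

theorem sylow_le {G : Type*} [Group G] [Finite G] (hCN : Cfsg.IsCNGroup G) {H : Subgroup G}
    (hH : Group.IsNilpotent H)
    (hmax : ∀ L : Subgroup G, Group.IsNilpotent L → H ≤ L → L = H) (p : ℕ) [Fact p.Prime]
    (hp : p ∣ Nat.card H) : ∃ S : Sylow p G, (S : Subgroup G) ≤ H := by
  by_cases hpg : IsPGroup p H
  · obtain ⟨S, hS⟩ := hpg.exists_le_sylow
    have hSn : Group.IsNilpotent (S : Subgroup G) := S.isPGroup'.isNilpotent
    exact ⟨S, (hmax _ hSn hS).le⟩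
  · obtain ⟨q, hq, hqp, hqH⟩ := exists_other_prime p hpg
    haveI : Fact q.Prime := ⟨hq⟩
    obtain ⟨zq, hzqH, hzq1, hzqo, hzqc⟩ := central_elt hH q hqH
    obtain ⟨zp, hzpH, hzp1, hzpo, hzpc⟩ := central_elt hH p hp
    have hCq := cent_eq hCN hmax hzq1 hzqc
    have hCp := cent_eq hCN hmax hzp1 hzpc
    have hpgz : IsPGroup p (Subgroup.zpowers zp) := by
      apply IsPGroup.of_card (n := 1)
      rw [Nat.card_zpowers, hzpo, pow_one]
    obtain ⟨S, hS⟩ := hpgz.exists_le_sylow
    have hzpS : zp ∈ (S : Subgroup G) := hS (Subgroup.mem_zpowers zp)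
    haveI : Nontrivial (S : Subgroup G) :=
      ⟨⟨⟨zp, hzpS⟩, 1, fun h => hzp1 (congrArg Subtype.val h)⟩⟩
    haveI hcent := S.isPGroup'.center_nontrivial
    obtain ⟨t, ht⟩ := exists_ne (1 : Subgroup.center (S : Subgroup G))
    have htc : ∀ s ∈ (S : Subgroup G), s * ((t : ↥(S : Subgroup G)) : G)
        = ((t : ↥(S : Subgroup G)) : G) * s := by
      intro s hs
      have h1 := Subgroup.mem_center_iff.1 t.2 ⟨s, hs⟩
      exact congrArg Subtype.val h1
    have ht1 : ((t : ↥(S : Subgroup G)) : G) ≠ 1 := by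
      intro h
      apply ht
      apply Subtype.ext
      apply Subtype.ext
      exact h
    have htH : ((t : ↥(S : Subgroup G)) : G) ∈ H := by
      rw [← hCp, Subgroup.mem_centralizer_singleton_iff]
      exact (htc zp hzpS).symm
    have hnil := hCN _ ht1
    refine ⟨S, fun s hs => ?_⟩
    rw [← hCq, Subgroup.mem_centralizer_singleton_iff]
    have hsC : s ∈ Subgroup.centralizer ({((t : ↥(S : Subgroup G)) : G)} : Set G) :=
      Subgroup.mem_centralizer_singleton_iff.2 (htc s hs)
    have hzqC : zq ∈ Subgroup.centralizer ({((t : ↥(S : Subgroup G)) : G)} : Set G) :=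
      Subgroup.mem_centralizer_singleton_iff.2 (hzqc _ htH).symm
    apply comm_of_coprime hnil hsC hzqC
    obtain ⟨k, hk⟩ := (IsPGroup.iff_orderOf.mp S.isPGroup') ⟨s, hs⟩
    rw [Subgroup.orderOf_mk] at hk
    rw [hk, hzqo]
    exact Nat.Coprime.pow_left k ((Nat.coprime_primes Fact.out hq).2 (Ne.symm hqp))

theorem prime_power_elt {G : Type*} [Group G] [Finite G] {x : G} (hx1 : x ≠ 1) :
    ∃ (p : ℕ) (k : ℕ), p.Prime ∧ orderOf (x ^ k) = p := by
  have h1 : orderOf x ≠ 1 := fun h => hx1 (orderOf_eq_one_iff.1 h)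
  obtain ⟨p, hp, hpx⟩ := Nat.exists_prime_and_dvd h1
  exact ⟨p, orderOf x / p, hp, orderOf_pow_orderOf_div (orderOf_pos x).ne' hpx⟩

theorem conj_comm {G : Type*} [Group G] {g a b : G} (h : a * b = b * a) :
    (g * a * g⁻¹) * (g * b * g⁻¹) = (g * b * g⁻¹) * (g * a * g⁻¹) := by
  have e1 : (g * a * g⁻¹) * (g * b * g⁻¹) = g * (a * b) * g⁻¹ := by group
  have e2 : (g * b * g⁻¹) * (g * a * g⁻¹) = g * (b * a) * g⁻¹ := by group
  rw [e1, e2, h]

theorem orderOf_conj' {G : Type*} [Group G] (g a : G) : orderOf (g * a * g⁻¹) = orderOf a := by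
  have := MulEquiv.orderOf_eq (MulAut.conj g) a
  rwa [MulAut.conj_apply] at this

/-- Let G be a finite group in which every non-identity element has nilpotent centralizer, and H a nilpotent subgroup not properly contained in any nilpotent subgroup. Then the order of H is coprime to its index; if the order of H is not a prime power then H ∩ gHg⁻¹ = 1 whenever gHg⁻¹ ≠ H; and if H ∩ gHg⁻¹ = 1 whenever gHg⁻¹ ≠ H, then C_G(x) ≤ H for every non-identity x ∈ H. -/
theorem result {G : Type*} [Group G] [Finite G] (hCN : Cfsg.IsCNGroup G) (H : Subgroup G) (hH : Group.IsNilpotent H)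
    (hmax : ∀ L : Subgroup G, Group.IsNilpotent L → H ≤ L → L = H) :
    (Nat.card H).Coprime H.index ∧
      (¬ IsPrimePow (Nat.card H) → Nat.card H ≠ 1 → ∀ g : G, H.map (MulAut.conj g).toMonoidHom ≠ H → H ⊓ H.map (MulAut.conj g).toMonoidHom = ⊥) ∧
      ((∀ g : G, H.map (MulAut.conj g).toMonoidHom ≠ H → H ⊓ H.map (MulAut.conj g).toMonoidHom = ⊥) → ∀ x ∈ H, x ≠ 1 → Subgroup.centralizer ({x} : Set G) ≤ H) := by
  have hHall : (Nat.card H).Coprime H.index := by
    by_contra hnc
    obtain ⟨p, hp, hp1, hp2⟩ := Nat.Prime.not_coprime_iff_dvd.1 hnc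
    haveI : Fact p.Prime := ⟨hp⟩
    obtain ⟨S, hS⟩ := sylow_le hCN hH hmax p hp1
    exact S.not_dvd_index (hp2.trans (Subgroup.index_dvd_of_le hS))
  refine ⟨hHall, ?_, ?_⟩
  · intro hnpp hne1 g hg
    by_contra hne
    obtain ⟨x, hx, hx1⟩ : ∃ x ∈ H ⊓ H.map (MulAut.conj g).toMonoidHom, x ≠ 1 := by
      by_contra hcon
      push Not at hcon
      exact hne ((Subgroup.eq_bot_iff_forall _).2 hcon)
    obtain ⟨p, k, hp, hxo⟩ := prime_power_elt hx1
    haveI : Fact p.Prime := ⟨hp⟩
    have hx'H : x ^ k ∈ H := H.pow_mem hx.1 _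
    have hx'Hg : x ^ k ∈ H.map (MulAut.conj g).toMonoidHom := Subgroup.pow_mem _ hx.2 _
    have hx'1 : x ^ k ≠ 1 := by
      intro h
      rw [h, orderOf_one] at hxo
      exact hp.one_lt.ne hxo
    have hpH : p ∣ Nat.card H := by
      rw [← hxo]; exact Subgroup.orderOf_dvd_natCard _ hx'H
    have hpg : ¬ IsPGroup p H := by
      intro hpg
      obtain ⟨n, hn⟩ := IsPGroup.iff_card.1 hpg
      apply hnpp
      rw [hn]
      refine hp.isPrimePow.pow ?_
      rintro rfl
      exact hne1 (by rw [hn, pow_zero])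
    obtain ⟨q, hq, hqp, hqH⟩ := exists_other_prime p hpg
    haveI : Fact q.Prime := ⟨hq⟩
    obtain ⟨zq, hzqH, hzq1, hzqo, hzqc⟩ := central_elt hH q hqH
    obtain ⟨zp, hzpH, hzp1, hzpo, hzpc⟩ := central_elt hH p hpH
    have hCq := cent_eq hCN hmax hzq1 hzqc
    have hCp := cent_eq hCN hmax hzp1 hzpc
    obtain ⟨h0, hh0, hh0x⟩ := hx'Hg
    have hh0x' : g * h0 * g⁻¹ = x ^ k := by
      rw [← hh0x]; simp [MulAut.conj_apply]
    have hnil := hCN (x ^ k) hx'1
    have hzqC : zq ∈ Subgroup.centralizer ({x ^ k} : Set G) :=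
      Subgroup.mem_centralizer_singleton_iff.2 (hzqc _ hx'H).symm
    have hzpC : zp ∈ Subgroup.centralizer ({x ^ k} : Set G) :=
      Subgroup.mem_centralizer_singleton_iff.2 (hzpc _ hx'H).symm
    have hz'q : g * zq * g⁻¹ ∈ Subgroup.centralizer ({x ^ k} : Set G) := by
      rw [Subgroup.mem_centralizer_singleton_iff, ← hh0x']
      exact conj_comm (hzqc h0 hh0).symm
    have hz'p : g * zp * g⁻¹ ∈ Subgroup.centralizer ({x ^ k} : Set G) := by
      rw [Subgroup.mem_centralizer_singleton_iff, ← hh0x']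
      exact conj_comm (hzpc h0 hh0).symm
    have hcop : Nat.Coprime p q := (Nat.coprime_primes hp hq).2 (Ne.symm hqp)
    have e1 : zp * (g * zq * g⁻¹) = (g * zq * g⁻¹) * zp :=
      comm_of_coprime hnil hzpC hz'q (by rw [hzpo, orderOf_conj', hzqo]; exact hcop)
    have e2 : zq * (g * zp * g⁻¹) = (g * zp * g⁻¹) * zq :=
      comm_of_coprime hnil hzqC hz'p (by rw [hzqo, orderOf_conj', hzpo]; exact hcop.symm)
    have hz'pH : g * zp * g⁻¹ ∈ H := by
      rw [← hCq, Subgroup.mem_centralizer_singleton_iff]; exact e2.symm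
    have hz'qH : g * zq * g⁻¹ ∈ H := by
      rw [← hCp, Subgroup.mem_centralizer_singleton_iff]; exact e1.symm
    have hback : ∀ (y z : G), y * (g * z * g⁻¹) = (g * z * g⁻¹) * y →
        (g⁻¹ * y * g) * z = z * (g⁻¹ * y * g) := by
      intro y z hyz
      have e3 : (g⁻¹ * y * g) * z = g⁻¹ * (y * (g * z * g⁻¹)) * g := by group
      have e4 : z * (g⁻¹ * y * g) = g⁻¹ * ((g * z * g⁻¹) * y) * g := by group
      rw [e3, e4, hyz]
    have hle : H ≤ H.map (MulAut.conj g).toMonoidHom := by
      apply le_of_parts H _ p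
      · intro y hy hyo
        have hc : y * (g * zp * g⁻¹) = (g * zp * g⁻¹) * y :=
          comm_of_coprime hH hy hz'pH (by rw [orderOf_conj', hzpo]; exact hyo)
        have hmem : g⁻¹ * y * g ∈ H := by
          rw [← hCp, Subgroup.mem_centralizer_singleton_iff]
          exact hback y zp hc
        exact ⟨g⁻¹ * y * g, hmem, by simp [MulAut.conj_apply, mul_assoc]⟩
      · rintro y hy ⟨j, hj⟩
        have hc : y * (g * zq * g⁻¹) = (g * zq * g⁻¹) * y :=
          comm_of_coprime hH hy hz'qH (by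
            rw [orderOf_conj', hzqo, hj]; exact Nat.Coprime.pow_left j hcop)
        have hmem : g⁻¹ * y * g ∈ H := by
          rw [← hCq, Subgroup.mem_centralizer_singleton_iff]
          exact hback y zq hc
        exact ⟨g⁻¹ * y * g, hmem, by simp [MulAut.conj_apply, mul_assoc]⟩
    have hnilg : Group.IsNilpotent (H.map (MulAut.conj g).toMonoidHom) := by
      haveI := hH
      exact Group.nilpotent_of_mulEquiv
        (H.equivMapOfInjective _ (MulAut.conj g).injective)
    exact hg (hmax _ hnilg hle)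
  · intro hTI x hxH hx1
    obtain ⟨p, k, hp, hxo⟩ := prime_power_elt hx1
    haveI : Fact p.Prime := ⟨hp⟩
    have hx'H : x ^ k ∈ H := H.pow_mem hxH _
    have hx'1 : x ^ k ≠ 1 := by
      intro h
      rw [h, orderOf_one] at hxo
      exact hp.one_lt.ne hxo
    have hcent : Subgroup.centralizer ({x} : Set G) ≤ Subgroup.centralizer ({x ^ k} : Set G) := by
      intro c hc
      rw [Subgroup.mem_centralizer_singleton_iff] at hc ⊢
      exact ((Commute.pow_right (show Commute c x from hc) k)).eq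
    refine hcent.trans ?_
    have hpH : p ∣ Nat.card H := by
      rw [← hxo]; exact Subgroup.orderOf_dvd_natCard _ hx'H
    obtain ⟨zp, hzpH, hzp1, hzpo, hzpc⟩ := central_elt hH p hpH
    have hCp := cent_eq hCN hmax hzp1 hzpc
    have hnil := hCN (x ^ k) hx'1
    have hzpC : zp ∈ Subgroup.centralizer ({x ^ k} : Set G) :=
      Subgroup.mem_centralizer_singleton_iff.2 (hzpc _ hx'H).symm
    apply le_of_parts _ H p
    · intro c hc hco
      rw [← hCp, Subgroup.mem_centralizer_singleton_iff]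
      exact comm_of_coprime hnil hc hzpC (by rw [hzpo]; exact hco)
    · rintro c hc ⟨j, hj⟩
      by_cases hpg : IsPGroup p H
      · have hcx : c * x ^ k = x ^ k * c := Subgroup.mem_centralizer_singleton_iff.1 hc
        have hcN : H.map (MulAut.conj c).toMonoidHom = H := by
          by_contra hne
          have h1 := hTI c hne
          have hx'mem : x ^ k ∈ H ⊓ H.map (MulAut.conj c).toMonoidHom := by
            refine ⟨hx'H, ⟨x ^ k, hx'H, ?_⟩⟩
            simp only [MulEquiv.coe_toMonoidHom, MulAut.conj_apply]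
            rw [hcx, mul_inv_cancel_right]
          rw [h1] at hx'mem
          exact hx'1 (Subgroup.mem_bot.1 hx'mem)
        have hcnorm : c ∈ Subgroup.normalizer (H : Set G) := by
          rw [Subgroup.mem_normalizer_iff]
          intro h
          constructor
          · intro hh
            have : c * h * c⁻¹ ∈ H.map (MulAut.conj c).toMonoidHom :=
              ⟨h, hh, by simp [MulAut.conj_apply]⟩
            rwa [hcN] at this
          · intro hh
            rw [← hcN] at hh
            obtain ⟨h', hh', e⟩ := hh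
            simp only [MulEquiv.coe_toMonoidHom, MulAut.conj_apply] at e
            have : h' = h := by
              have e' := congrArg (fun t => c⁻¹ * t * c) e
              simpa [mul_assoc] using e'
            rw [← this]; exact hh'
        have hcz : Subgroup.zpowers c ≤ Subgroup.normalizer (H : Set G) := by
          rw [Subgroup.zpowers_le]; exact hcnorm
        have hpgc : IsPGroup p (Subgroup.zpowers c) := by
          apply IsPGroup.of_card (n := j)
          rw [Nat.card_zpowers, hj]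
        have hsup : IsPGroup p (Subgroup.zpowers c ⊔ H : Subgroup G) :=
          hpgc.to_sup_of_normal_right' hpg hcz
        obtain ⟨S, hSH⟩ := sylow_le hCN hH hmax p hpH
        have hHS : H = S := S.is_maximal' hpg hSH
        have h3 : Subgroup.zpowers c ⊔ H = S := S.is_maximal' hsup (hSH.trans le_sup_right)
        rw [hHS, ← h3]
        exact (le_sup_left : Subgroup.zpowers c ≤ _) (Subgroup.mem_zpowers c)
      · obtain ⟨q, hq, hqp, hqH⟩ := exists_other_prime p hpg
        haveI : Fact q.Prime := ⟨hq⟩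
        obtain ⟨zq, hzqH, hzq1, hzqo, hzqc⟩ := central_elt hH q hqH
        have hCq := cent_eq hCN hmax hzq1 hzqc
        have hzqC : zq ∈ Subgroup.centralizer ({x ^ k} : Set G) :=
          Subgroup.mem_centralizer_singleton_iff.2 (hzqc _ hx'H).symm
        rw [← hCq, Subgroup.mem_centralizer_singleton_iff]
        exact comm_of_coprime hnil hc hzqC (by
          rw [hj, hzqo]
          exact Nat.Coprime.pow_left j ((Nat.coprime_primes hp hq).2 (Ne.symm hqp)))

end Cfsg.Agent.S1477
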