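import Mathlib
import Cfsg.Statements.S0041
import Cfsg.Agent.Lib.Helper91.FpfCyclic

set_option autoImplicit false
open Cfsg

namespace Cfsg.Agent.S0041

/-- A group acting on a nontrivial abelian group so that no nonidentity element has a nonidentity fixed point is cyclic, provided it is abelian or its order is a product of two (possibly equal) primes. -/
theorem result {G : Type*} [Group G] [Finite G] (A V : Subgroup G) [IsMulCommutative V]
    (hV : V ≠ ⊥) (hAV : A ≤ Subgroup.normalizer (V : Set G)) (hfpf : ∀ a ∈ A, a ≠ 1 → V ⊓ Subgroup.centralizer {a} = ⊥)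
    (hA : IsMulCommutative A ∨ ∃ p q : ℕ, p.Prime ∧ q.Prime ∧ Nat.card A = p * q) : IsCyclic A := by
  classical
  let _ : CommGroup V := { (inferInstance : Group V) with mul_comm := fun a b => mul_comm' a b }
  let φ : A →* MulAut V :=
    { toFun := fun a =>
        { toFun := fun v => ⟨(a : G) * v * (a : G)⁻¹,
            (Subgroup.mem_normalizer_iff.mp (hAV a.2) _).mp v.2⟩
          invFun := fun v => ⟨(a : G)⁻¹ * v * (a : G),
            (Subgroup.mem_normalizer_iff''.mp (hAV a.2) _).mp v.2⟩
          left_inv := fun v => Subtype.ext (by simp [mul_assoc])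
          right_inv := fun v => Subtype.ext (by simp [mul_assoc])
          map_mul' := fun v w => Subtype.ext (by simp [mul_assoc]) }
      map_one' := by ext v; simp
      map_mul' := fun a b => by ext v; simp [mul_assoc] }
  have hVnt : Nontrivial V := (Subgroup.nontrivial_iff_ne_bot V).mpr hV
  have hfpf' : ∀ a : A, a ≠ 1 → ∀ v : V, φ a v = v → v = 1 := by
    intro a ha v hv
    have h1 : (a : G) * v * (a : G)⁻¹ = v := congrArg Subtype.val hv
    have h2 : (v : G) ∈ V ⊓ Subgroup.centralizer {(a : G)} := by
      refine ⟨v.2, ?_⟩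
      change (v : G) ∈ Subgroup.centralizer {(a : G)}
      rw [Subgroup.mem_centralizer_iff]
      intro h hh
      rw [Set.mem_singleton_iff] at hh
      subst hh
      calc (a : G) * v = ((a : G) * v * (a : G)⁻¹) * a := by group
        _ = v * a := by rw [h1]
    rw [hfpf a a.2 (fun h => ha (Subtype.ext h))] at h2
    exact Subtype.ext (Subgroup.mem_bot.mp h2)
  exact Cfsg.Agent.Lib.Helper91.fpf_isCyclic φ hfpf' (hA.imp (fun h => h.is_comm.comm) id)

end Cfsg.Agent.S0041
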