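import Mathlib
import Cfsg.Statements.S1433
import Cfsg.Agent.S1350
import Cfsg.Agent.S1375
import Cfsg.Agent.S1378
import Cfsg.Agent.Lib.Helper27.BG.S1433Core

set_option autoImplicit false
open Cfsg

namespace Cfsg.Agent.S1433

/-- Let G be a minimal simple group of odd order, M and N maximal subgroups, x ∈ M_σ and y ∈ N_σ distinct non-identity elements. Then the cosets x R(x) and y R(y) are disjoint. -/
theorem result {G : Type*} [Group G] [Finite G] (hG : Cfsg.IsMinSimpleOddOrder G)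
    (M N : Subgroup G) (hM : IsCoatom M) (hN : IsCoatom N) (x y : G) (hx : x ∈ Cfsg.sigmaCore M) (hy : y ∈ Cfsg.sigmaCore N)
    (hx1 : x ≠ 1) (hy1 : y ≠ 1) (hxy : x ≠ y) :
    ∀ r ∈ Cfsg.supportR M x, ∀ s ∈ Cfsg.supportR N y, x * r ≠ y * s := by
  exact Cfsg.Agent.Lib.Helper27.BG.s1433_core hG (Cfsg.Agent.S1350.result hG)
    (Cfsg.Agent.S1375.result hG) (Cfsg.Agent.S1378.result hG) M N hM hN x y hx hy hx1 hy1 hxy

end Cfsg.Agent.S1433
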