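import Cfsg.Statements.S0602
import Mathlib
import Cfsg.Agent.Lib.Helper10.ElemAb

set_option autoImplicit false
open Cfsg

namespace Cfsg.Agent.S0602

/-- The Thompson subgroup is characteristic, and nontrivial as soon as p divides the group order. -/
theorem result {G : Type*} [Group G] [Finite G] {p : ℕ} [Fact p.Prime] : (Cfsg.thompsonSubgroup p G).Characteristic ∧ (p ∣ Nat.card G → Cfsg.thompsonSubgroup p G ≠ ⊥) := by
  constructor
  · rw [Subgroup.characteristic_iff_map_le]
    intro ϕ
    rw [Subgroup.map_le_iff_le_comap]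
    refine sSup_le ?_
    intro A hA
    rw [← Subgroup.map_le_iff_le_comap]
    apply le_sSup
    refine ⟨Cfsg.Agent.Lib.Helper10.isElementaryAbelian_map _ hA.1, fun B hB => ?_⟩
    rw [Subgroup.card_map_of_injective ϕ.injective]
    exact hA.2 B hB
  · intro hp
    obtain ⟨x, hx⟩ := exists_prime_orderOf_dvd_card' p hp
    obtain ⟨A, hA⟩ := Cfsg.Agent.Lib.Helper10.exists_mem_maxElementaryAbelianSubgroups (G := G) p
    intro hbot
    have hxp : x ^ p = 1 := by rw [← hx]; exact pow_orderOf_eq_one x
    have h1 := hA.2 _ (Cfsg.Agent.Lib.Helper10.isElementaryAbelian_zpowers hxp)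
    rw [Nat.card_zpowers, hx] at h1
    have hAle : A ≤ ⊥ := hbot ▸ Cfsg.Agent.Lib.Helper10.le_thompsonSubgroup hA
    have h2 : Nat.card A = 1 := by rw [le_bot_iff.1 hAle]; simp
    have := (Fact.out : p.Prime).one_lt
    omega

end Cfsg.Agent.S0602
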