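import Cfsg.Statements.S2638

set_option autoImplicit false
open Cfsg
open scoped MatrixGroups

namespace Cfsg.Agent.S2638

open Polynomial Module Matrix

section aux
variable {F : Type*} [Field F] [Fintype F]

/-- A monic divisor of `X^r - 1` not dividing `X - 1` is irreducible of degree `n` when the
order of `q` modulo `r` is `n` and the degree is at most `n`. -/
theorem irr_of_order {p q : ℕ} [Fact p.Prime] [CharP F p] (hF : Fintype.card F = q) {n r : ℕ}
    (hr : r.Prime) (hrp : r ≠ p) (hi : orderOf (q : ZMod r) = n) (μ : F[X])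
    (hμ0 : μ ≠ 0) (hdvd : μ ∣ X ^ r - 1) (hnd : ¬ μ ∣ X - 1) (hdeg : μ.natDegree ≤ n) :
    Irreducible μ ∧ μ.natDegree = n := by
  classical
  have : Fact r.Prime := ⟨hr⟩
  have hrF : ∀ (K : Type _) [Field K] [CharP K p], (r : K) ≠ 0 := by
    intro K _ _ h0
    have h1 := (CharP.cast_eq_zero_iff K p r).mp h0
    rcases (Nat.prime_dvd_prime_iff_eq (Fact.out : p.Prime) hr).mp h1 with h2
    exact hrp h2.symm
  obtain ⟨Ψ, hΨ⟩ : ∃ Ψ : F[X], Ψ = ∑ i ∈ Finset.range r, X ^ i := ⟨_, rfl⟩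
  have hfac : (X - 1) * Ψ = X ^ r - 1 := by rw [hΨ]; exact mul_geom_sum X r
  have hnc : ¬ IsCoprime μ Ψ := fun h => hnd (h.dvd_of_dvd_mul_right (hfac ▸ hdvd))
  have hgcd : ¬ IsUnit (EuclideanDomain.gcd μ Ψ) := fun h =>
    hnc (EuclideanDomain.gcd_isUnit_iff.mp h)
  have hgcd0 : EuclideanDomain.gcd μ Ψ ≠ 0 := fun h =>
    hμ0 (EuclideanDomain.gcd_eq_zero_iff.mp h).1
  obtain ⟨g, hg, hgd⟩ := WfDvdMonoid.exists_irreducible_factor hgcd hgcd0
  have hgμ : g ∣ μ := hgd.trans (EuclideanDomain.gcd_dvd_left μ Ψ)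
  have hgΨ : g ∣ Ψ := hgd.trans (EuclideanDomain.gcd_dvd_right μ Ψ)
  have : Fact (Irreducible g) := ⟨hg⟩
  have hg0 : g ≠ 0 := hg.ne_zero
  obtain ⟨ζ, hζ⟩ : ∃ ζ : AdjoinRoot g, ζ = AdjoinRoot.root g := ⟨_, rfl⟩
  have : CharP (AdjoinRoot g) p :=
    charP_of_injective_algebraMap (algebraMap F (AdjoinRoot g)).injective p
  have hζΨ : ∑ i ∈ Finset.range r, ζ ^ i = 0 := by
    have h1 : aeval ζ Ψ = 0 := by
      rw [hζ, AdjoinRoot.aeval_eq, AdjoinRoot.mk_eq_zero]
      exact hgΨ
    rw [hΨ] at h1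
    simpa using h1
  have hζr : ζ ^ r = 1 := by
    have h1 : aeval ζ (X ^ r - 1 : F[X]) = 0 := by
      rw [hζ, AdjoinRoot.aeval_eq, AdjoinRoot.mk_eq_zero]
      exact hgμ.trans hdvd
    simpa [sub_eq_zero] using h1
  have hζ1 : ζ ≠ 1 := by
    intro h1
    rw [h1] at hζΨ
    simp only [one_pow, Finset.sum_const, Finset.card_range, nsmul_eq_mul, mul_one] at hζΨ
    exact hrF (AdjoinRoot g) hζΨ
  have hζ0 : ζ ≠ 0 := by
    intro h0
    rw [h0, zero_pow hr.ne_zero] at hζr
    exact zero_ne_one hζr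
  have hord : orderOf ζ = r := orderOf_eq_prime hζr hζ1
  have : Module.Finite F (AdjoinRoot g) := (AdjoinRoot.powerBasis hg0).finite
  have : Finite (AdjoinRoot g) := Module.finite_of_finite F
  have hcard : Nat.card (AdjoinRoot g) = q ^ g.natDegree := by
    rw [Module.natCard_eq_pow_finrank (K := F), (AdjoinRoot.powerBasis hg0).finrank,
      AdjoinRoot.powerBasis_dim, Nat.card_eq_fintype_card, hF]
  have hdvd2 : r ∣ q ^ g.natDegree - 1 := by
    have h1 : orderOf (Units.mk0 ζ hζ0) ∣ Nat.card (AdjoinRoot g)ˣ := orderOf_dvd_natCard _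
    rw [← orderOf_units, Units.val_mk0, hord, Nat.card_units, hcard] at h1
    exact h1
  have hq1 : 1 ≤ q ^ g.natDegree := by
    have hq : 0 < q := by rw [← hF]; exact Fintype.card_pos
    exact Nat.one_le_pow _ _ hq
  have hpow : (q : ZMod r) ^ g.natDegree = 1 := by
    have h1 : ((q ^ g.natDegree - 1 : ℕ) : ZMod r) = 0 :=
      (ZMod.natCast_eq_zero_iff _ _).mpr hdvd2
    rw [Nat.cast_sub hq1, Nat.cast_pow, Nat.cast_one, sub_eq_zero] at h1
    exact h1
  have hnd2 : n ∣ g.natDegree := by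
    rw [← hi]
    exact orderOf_dvd_of_pow_eq_one hpow
  have hgpos : 0 < g.natDegree := hg.natDegree_pos
  have hgle : g.natDegree ≤ μ.natDegree := natDegree_le_of_dvd hgμ hμ0
  have hnle : n ≤ g.natDegree := Nat.le_of_dvd hgpos hnd2
  have hdeq : g.natDegree = μ.natDegree := by omega
  refine ⟨?_, by omega⟩
  obtain ⟨c, hc⟩ := hgμ
  have hc0 : c ≠ 0 := by
    rintro rfl
    rw [mul_zero] at hc
    exact hμ0 hc
  have hcdeg : c.natDegree = 0 := by
    have h1 := natDegree_mul hg0 hc0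
    rw [← hc] at h1
    omega
  have hcu : IsUnit c := by
    rw [eq_C_of_natDegree_eq_zero hcdeg] at hc0 ⊢
    exact isUnit_C.mpr (isUnit_iff_ne_zero.mpr (fun h => hc0 (by rw [h, C_0])))
  rw [hc]
  exact (irreducible_mul_isUnit hcu).mpr hg

/-- The commutant of a matrix whose minimal polynomial is irreducible of full degree. -/
theorem commutant {n : ℕ} (hn : 1 ≤ n) (M : Matrix (Fin n) (Fin n) F)
    [Fact (Irreducible (minpoly F M))] (hdeg : (minpoly F M).natDegree = n) :
    ∃ φ : AdjoinRoot (minpoly F M) →ₐ[F] Matrix (Fin n) (Fin n) F,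
      φ (AdjoinRoot.root (minpoly F M)) = M ∧ ∀ T, Commute T M → ∃ a, φ a = T := by
  classical
  have hμ0 : minpoly F M ≠ 0 := (Fact.out : Irreducible (minpoly F M)).ne_zero
  let φ : AdjoinRoot (minpoly F M) →ₐ[F] Matrix (Fin n) (Fin n) F :=
    Ideal.Quotient.liftₐ (Ideal.span {minpoly F M}) (aeval M) (by
      intro a ha
      obtain ⟨c, rfl⟩ := Ideal.mem_span_singleton.mp ha
      rw [map_mul, minpoly.aeval, zero_mul])
  have hφmk : ∀ f : F[X], φ (AdjoinRoot.mk (minpoly F M) f) = aeval M f := fun f => rfl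
  have hφroot : φ (AdjoinRoot.root (minpoly F M)) = M := by
    rw [AdjoinRoot.root, hφmk, aeval_X]
  have : Module.Finite F (AdjoinRoot (minpoly F M)) := (AdjoinRoot.powerBasis hμ0).finite
  have hfr : finrank F (AdjoinRoot (minpoly F M)) = finrank F (Fin n → F) := by
    rw [(AdjoinRoot.powerBasis hμ0).finrank, AdjoinRoot.powerBasis_dim, hdeg,
      Module.finrank_fintype_fun_eq_card, Fintype.card_fin]
  obtain ⟨v₀, hv₀⟩ : ∃ v₀ : Fin n → F, v₀ ≠ 0 :=
    ⟨Pi.single ⟨0, hn⟩ 1, fun h => by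
      have := congrFun h ⟨0, hn⟩
      simp at this⟩
  let ψ : AdjoinRoot (minpoly F M) →ₗ[F] (Fin n → F) :=
    { toFun := fun a => φ a *ᵥ v₀
      map_add' := by
        intro a b
        rw [map_add, Matrix.add_mulVec]
      map_smul' := by
        intro c a
        rw [map_smul, Matrix.smul_mulVec, RingHom.id_apply] }
  have hψ : ∀ a, ψ a = φ a *ᵥ v₀ := fun _ => rfl
  have hψinj : Function.Injective ψ := by
    rw [← LinearMap.ker_eq_bot, LinearMap.ker_eq_bot']
    intro a ha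
    by_contra ha0
    apply hv₀
    have h1 : φ a⁻¹ *ᵥ (φ a *ᵥ v₀) = 0 := by
      rw [← hψ, ha, Matrix.mulVec_zero]
    rw [Matrix.mulVec_mulVec, ← map_mul, inv_mul_cancel₀ ha0, map_one, Matrix.one_mulVec] at h1
    exact h1
  have hψsurj : Function.Surjective ψ :=
    (LinearMap.injective_iff_surjective_of_finrank_eq_finrank hfr).mp hψinj
  refine ⟨φ, hφroot, ?_⟩
  intro T hT
  have hcomm : ∀ a, T * φ a = φ a * T := by
    intro a
    obtain ⟨f, rfl⟩ := AdjoinRoot.mk_surjective a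
    rw [hφmk, aeval_eq_sum_range]
    exact Commute.sum_right _ _ _ (fun i _ => (hT.pow_right i).smul_right _)
  obtain ⟨a₀, ha₀⟩ := hψsurj (T *ᵥ v₀)
  refine ⟨a₀, ?_⟩
  have hall : ∀ v, φ a₀ *ᵥ v = T *ᵥ v := by
    intro v
    obtain ⟨b, rfl⟩ := hψsurj v
    rw [hψ, Matrix.mulVec_mulVec, Matrix.mulVec_mulVec, hcomm, ← map_mul, mul_comm, map_mul,
      ← Matrix.mulVec_mulVec, ← Matrix.mulVec_mulVec, ← hψ a₀, ha₀]
  ext i j
  have h1 := congrFun (hall (Pi.single j 1)) i
  rw [Matrix.mulVec_single_one, Matrix.mulVec_single_one] at h1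
  exact h1

end aux

/-- If an element x of GL_n(q), n ≥ 1, has prime order r and the multiplicative order of q modulo r is n (r is a primitive prime divisor of q^n − 1, so x acts irreducibly), then the centraliser of x in GL_n(q) is cyclic of order q^n − 1 (the multiplicative group of the field with q^n elements, a Singer cycle). -/
theorem result {F : Type*} [Field F] [Fintype F] {p q : ℕ} [Fact p.Prime] [CharP F p] (hF : Fintype.card F = q) {n r : ℕ} (hn : 1 ≤ n) (hr : r.Prime) (hrp : r ≠ p) (hi : orderOf (q : ZMod r) = n) (x : GL (Fin n) F) (hx : orderOf x = r) : IsCyclic ↥(Subgroup.centralizer ({x} : Set (GL (Fin n) F))) ∧ Nat.card ↥(Subgroup.centralizer ({x} : Set (GL (Fin n) F))) = q ^ n - 1 := by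
  classical
  obtain ⟨M, hM⟩ : ∃ M : Matrix (Fin n) (Fin n) F, M = (x : Matrix (Fin n) (Fin n) F) := ⟨_, rfl⟩
  have hMr : M ^ r = 1 := by
    have h1 : x ^ r = 1 := by rw [← hx]; exact pow_orderOf_eq_one x
    have h2 := congrArg (fun u : GL (Fin n) F => (u : Matrix (Fin n) (Fin n) F)) h1
    simpa [hM] using h2
  have hM1 : M ≠ 1 := by
    intro h1
    have h2 : x = 1 := Units.ext (by rw [← hM, h1]; rfl)
    rw [h2, orderOf_one] at hx
    exact hr.one_lt.ne hx
  have hint : IsIntegral F M := Matrix.isIntegral M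
  have hμ0 : minpoly F M ≠ 0 := minpoly.ne_zero hint
  have hdvd : minpoly F M ∣ X ^ r - 1 := by
    apply minpoly.dvd
    simp [hMr]
  have hnd : ¬ minpoly F M ∣ X - 1 := by
    intro h
    have h1 : aeval M (X - 1 : F[X]) = 0 :=
      aeval_eq_zero_of_dvd_aeval_eq_zero h (minpoly.aeval F M)
    apply hM1
    simpa [sub_eq_zero] using h1
  have hdeg : (minpoly F M).natDegree ≤ n := by
    have h1 := natDegree_le_of_dvd (Matrix.minpoly_dvd_charpoly M) (Matrix.charpoly_monic M).ne_zero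
    rw [Matrix.charpoly_natDegree_eq_dim, Fintype.card_fin] at h1
    exact h1
  obtain ⟨hirr, hdeq⟩ := irr_of_order hF hr hrp hi (minpoly F M) hμ0 hdvd hnd hdeg
  have : Fact (Irreducible (minpoly F M)) := ⟨hirr⟩
  obtain ⟨φ, hφroot, hφsurj⟩ := commutant hn M hdeq
  have : NeZero n := ⟨by omega⟩
  have hφinj : Function.Injective φ := φ.toRingHom.injective
  have : Module.Finite F (AdjoinRoot (minpoly F M)) := (AdjoinRoot.powerBasis hμ0).finite
  have : Finite (AdjoinRoot (minpoly F M)) := Module.finite_of_finite F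
  have hcard : Nat.card (AdjoinRoot (minpoly F M)) = q ^ n := by
    rw [Module.natCard_eq_pow_finrank (K := F), (AdjoinRoot.powerBasis hμ0).finrank,
      AdjoinRoot.powerBasis_dim, Nat.card_eq_fintype_card, hF, hdeq]
  let Φ0 : (AdjoinRoot (minpoly F M))ˣ →* GL (Fin n) F := Units.map (φ : _ →* _)
  have hΦ0 : ∀ u, ((Φ0 u : GL (Fin n) F) : Matrix (Fin n) (Fin n) F) = φ u := fun _ => rfl
  have hmem : ∀ u, Φ0 u ∈ Subgroup.centralizer ({x} : Set (GL (Fin n) F)) := by
    intro u
    rw [Subgroup.mem_centralizer_iff]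
    intro h hh
    rw [Set.mem_singleton_iff] at hh
    subst hh
    apply Units.ext
    rw [Units.val_mul, Units.val_mul, hΦ0, ← hM]
    calc M * φ u = φ (AdjoinRoot.root (minpoly F M)) * φ u := by rw [hφroot]
      _ = φ (AdjoinRoot.root (minpoly F M) * u) := (map_mul φ _ _).symm
      _ = φ (u * AdjoinRoot.root (minpoly F M)) := by rw [mul_comm]
      _ = φ u * φ (AdjoinRoot.root (minpoly F M)) := map_mul φ _ _
      _ = φ u * M := by rw [hφroot]
  let Φ : (AdjoinRoot (minpoly F M))ˣ →* ↥(Subgroup.centralizer ({x} : Set (GL (Fin n) F))) :=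
    Φ0.codRestrict _ hmem
  have hΦinj : Function.Injective Φ := by
    intro u u' h
    have h1 : Φ0 u = Φ0 u' := congrArg Subtype.val h
    have h2 : φ u = φ u' := by rw [← hΦ0, ← hΦ0, h1]
    exact Units.ext (hφinj h2)
  have hΦsurj : Function.Surjective Φ := by
    intro g
    have hg := Subgroup.mem_centralizer_iff.mp g.2 x (Set.mem_singleton x)
    have hcom : Commute ((g : GL (Fin n) F) : Matrix (Fin n) (Fin n) F) M := by
      have h1 := congrArg (fun u : GL (Fin n) F => (u : Matrix (Fin n) (Fin n) F)) hg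
      simp only [Units.val_mul] at h1
      rw [hM]
      exact h1.symm
    obtain ⟨a, ha⟩ := hφsurj _ hcom
    have ha0 : a ≠ 0 := by
      rintro rfl
      rw [map_zero] at ha
      have h1 : ((g : GL (Fin n) F) : Matrix (Fin n) (Fin n) F)
          * (((g : GL (Fin n) F)⁻¹ : GL (Fin n) F) : Matrix (Fin n) (Fin n) F) = 1 := by
        rw [← Units.val_mul, mul_inv_cancel, Units.val_one]
      rw [← ha, zero_mul] at h1
      have h2 := congrFun (congrFun h1 ⟨0, hn⟩) ⟨0, hn⟩
      simp at h2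
    refine ⟨Units.mk0 a ha0, ?_⟩
    apply Subtype.ext
    apply Units.ext
    show φ a = _
    exact ha
  constructor
  · exact isCyclic_of_surjective Φ hΦsurj
  · rw [← Nat.card_congr (Equiv.ofBijective Φ ⟨hΦinj, hΦsurj⟩), Nat.card_units, hcard]

end Cfsg.Agent.S2638
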