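import Cfsg.Statements.S2822
import Cfsg.Agent.Lib.Helper47.PRedSub

set_option autoImplicit false
open Cfsg

namespace Cfsg.Agent.S2822

open scoped Pointwise
open Cfsg.Agent.Lib.Helper47

/-- If `L ⊔ C(Y) = M ⊔ C(Y)` with `Y ≤ L ⊓ M` normalized by `M` and `p`-reduced for `M`,
then `Y` is `p`-reduced for `L` (ambient form). -/
theorem pReduced_transfer {H : Type*} [Group H] {p : ℕ} (L M Y : Subgroup H)
    (hYL : Y ≤ L)
    (hMY : M ≤ Subgroup.normalizer (Y : Set H))
    (hEA : Cfsg.IsElementaryAbelian p Y)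
    (hMred : ∀ D : Subgroup H, D ≤ M → M ≤ Subgroup.normalizer (D : Set H) →
        (∀ d ∈ D, ∃ k : ℕ, d ^ (p ^ k) ∈ Subgroup.centralizer (Y : Set H)) →
          D ≤ Subgroup.centralizer (Y : Set H))
    (heq : L ⊔ Subgroup.centralizer (Y : Set H) = M ⊔ Subgroup.centralizer (Y : Set H)) :
    Cfsg.IsPReducedNormal p (Y.subgroupOf L) := by
  have hCN : Subgroup.centralizer (Y : Set H) ≤ Subgroup.normalizer (Y : Set H) :=
    Subgroup.centralizer_le_normalizer _
  have hLY : L ≤ Subgroup.normalizer (Y : Set H) := by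
    have : L ≤ M ⊔ Subgroup.centralizer (Y : Set H) := heq ▸ le_sup_left
    exact this.trans (sup_le hMY hCN)
  have hNC := normalizer_le_normalizer_centralizer Y
  rw [isPReducedNormal_subgroupOf_iff p hYL]
  refine ⟨hLY, hEA, ?_⟩
  intro D hDL hLD hDp
  -- D₂ = (D ⊔ C) ⊓ M
  have hLn : L ≤ Subgroup.normalizer ((D ⊔ Subgroup.centralizer (Y : Set H) : Subgroup H) : Set H) :=
    (le_inf hLD (hLY.trans hNC)).trans (Subgroup.normalizer_inf_normalizer_le_normalizer_sup _ _)
  have hCn : Subgroup.centralizer (Y : Set H) ≤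
      Subgroup.normalizer ((D ⊔ Subgroup.centralizer (Y : Set H) : Subgroup H) : Set H) :=
    le_sup_right.trans Subgroup.le_normalizer
  have hMn : M ≤ Subgroup.normalizer ((D ⊔ Subgroup.centralizer (Y : Set H) : Subgroup H) : Set H) := by
    have : M ≤ L ⊔ Subgroup.centralizer (Y : Set H) := heq ▸ le_sup_left
    exact this.trans (sup_le hLn hCn)
  have hMn2 : M ≤ Subgroup.normalizer (((D ⊔ Subgroup.centralizer (Y : Set H)) ⊓ M : Subgroup H) : Set H) :=
    (le_inf hMn Subgroup.le_normalizer).trans Subgroup.inf_normalizer_le_normalizer_inf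
  have hDC : D ≤ Subgroup.normalizer ((Subgroup.centralizer (Y : Set H) : Subgroup H) : Set H) :=
    (hDL.trans hLY).trans hNC
  have hD₂ : (D ⊔ Subgroup.centralizer (Y : Set H)) ⊓ M ≤ Subgroup.centralizer (Y : Set H) := by
    apply hMred _ inf_le_right hMn2
    rintro x ⟨hx, -⟩
    have hx' : x ∈ ((D ⊔ Subgroup.centralizer (Y : Set H) : Subgroup H) : Set H) := hx
    rw [Subgroup.coe_mul_of_left_le_normalizer_right _ _ hDC] at hx'
    obtain ⟨d, hd, c, hc, rfl⟩ := hx'
    obtain ⟨k, hk⟩ := hDp d hd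
    obtain ⟨c', hc', hpow⟩ := exists_pow_mul_eq (hDC hd) hc (p ^ k)
    refine ⟨k, ?_⟩
    show (d * c) ^ p ^ k ∈ Subgroup.centralizer (Y : Set H)
    rw [hpow]
    exact Subgroup.mul_mem _ hk hc'
  intro d hd
  have hdm : d ∈ ((M ⊔ Subgroup.centralizer (Y : Set H) : Subgroup H) : Set H) := by
    have : d ∈ L ⊔ Subgroup.centralizer (Y : Set H) := (le_sup_left : L ≤ _) (hDL hd)
    rw [heq] at this
    exact this
  rw [Subgroup.coe_mul_of_left_le_normalizer_right _ _ (hMY.trans hNC)] at hdm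
  obtain ⟨m, hm, c, hc, hmc⟩ := hdm
  have hm2 : m ∈ (D ⊔ Subgroup.centralizer (Y : Set H)) ⊓ M := by
    refine ⟨?_, hm⟩
    have e : m = d * c⁻¹ := by
      have hmc' : m * c = d := hmc
      rw [← hmc']; group
    rw [e]
    exact Subgroup.mul_mem _ ((le_sup_left : D ≤ _) hd) ((le_sup_right : Subgroup.centralizer (Y : Set H) ≤ _) (Subgroup.inv_mem _ hc))
  have hmc' : m * c = d := hmc
  rw [← hmc']
  exact Subgroup.mul_mem _ (hD₂ hm2) hc

/-- Let H be a finite group, p a prime, T a Sylow p-subgroup, and L, M subgroups of characteristic p containing T, with largest p-reduced normal subgroups Y_L, Y_M. If L·C_H(Y_M) = M·C_H(Y_M), then Y_M ≤ Y_L. -/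
theorem result {H : Type*} [Group H] [Finite H] {p : ℕ} [Fact p.Prime] (T : Sylow p H) (L M : Subgroup H) (hTL : (T : Subgroup H) ≤ L) (hTM : (T : Subgroup H) ≤ M) (hL : Subgroup.centralizer (Cfsg.pCore p ↥L : Set ↥L) ≤ Cfsg.pCore p ↥L) (hM : Subgroup.centralizer (Cfsg.pCore p ↥M : Set ↥M) ≤ Cfsg.pCore p ↥M) : L ⊔ Subgroup.centralizer (((Cfsg.largestPReducedOf p M) : Subgroup H) : Set H) = M ⊔ Subgroup.centralizer (((Cfsg.largestPReducedOf p M) : Subgroup H) : Set H) → (Cfsg.largestPReducedOf p M) ≤ (Cfsg.largestPReducedOf p L) := by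
  intro heq
  obtain ⟨hMY, hEA, hMred⟩ := largestPReducedOf_spec p M
  have hYL : Cfsg.largestPReducedOf p M ≤ L :=
    ((largestPReducedOf_le_pCoreOf p M).trans (pCoreOf_le_sylow T hTM)).trans hTL
  exact le_largestPReducedOf hYL (pReduced_transfer L M _ hYL hMY hEA hMred heq)

end Cfsg.Agent.S2822
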