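import Cfsg.Statements.S2802
import Cfsg.Agent.Lib.Helper47.NClosure

set_option autoImplicit false
open Cfsg

namespace Cfsg.Agent.S2802

open Cfsg.Agent.Lib.Helper47

/-- Let L be a finite group and p a prime with C_L(O_p(L)) ≤ O_p(L), T a Sylow p-subgroup of L and R a subgroup with T ≤ R. If X is a p-reduced normal subgroup of R (normal in R, elementary abelian, O_p(R/C_R(X)) = 1), then the normal closure of X in L is a p-reduced normal subgroup of L. -/
theorem result {L : Type*} [Group L] [Finite L] {p : ℕ} [Fact p.Prime] (hchar : Subgroup.centralizer (Cfsg.pCore p L : Set L) ≤ Cfsg.pCore p L) (T : Sylow p L) (R : Subgroup L) (hTR : (T : Subgroup L) ≤ R) (X : Subgroup ↥R) (hX : Cfsg.IsPReducedNormal p X) : Cfsg.IsPReducedNormal p (Subgroup.normalClosure ((X.map R.subtype : Subgroup L) : Set L)) := by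
  have hle : X.map R.subtype ≤ R := by
    rintro _ ⟨x, -, rfl⟩; exact x.2
  have e : (X.map R.subtype).subgroupOf R = X :=
    Subgroup.comap_map_eq_self_of_injective R.subtype_injective X
  have hX' : Cfsg.IsPReducedNormal p ((X.map R.subtype).subgroupOf R) := by
    rw [e]; exact hX
  exact isPReducedNormal_normalClosure hchar T hTR hle hX'

end Cfsg.Agent.S2802
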