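import Cfsg.Statements.S2821
import Cfsg.Agent.Lib.Helper47.ZL

set_option autoImplicit false
open Cfsg

namespace Cfsg.Agent.S2821

open Cfsg.Agent.Lib.Helper47

/-- Let H be a finite group, p a prime, T a Sylow p-subgroup and L a subgroup of characteristic p containing T; let Y_L be the largest p-reduced normal subgroup of L (the join of the normal elementary abelian p-subgroups V of L with O_p(L/C_L(V)) = 1). Then T₀ := C_T(Y_L) is a Sylow p-subgroup of C_H(Y_L); moreover O_p(L) ≤ T₀ ≤ C_L(Y_L) and Ω₁(Z(T)) ≤ Z_L ≤ Y_L ≤ Ω₁(Z(O_p(L))), where Z_L is generated by the Ω₁(Z(S)) over the Sylow p-subgroups S of L. -/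
theorem result {H : Type*} [Group H] [Finite H] {p : ℕ} [Fact p.Prime] (T : Sylow p H) (L : Subgroup H) (hTL : (T : Subgroup H) ≤ L) (hL : Subgroup.centralizer (Cfsg.pCore p ↥L : Set ↥L) ≤ Cfsg.pCore p ↥L) (T₀ : Subgroup H) (hT₀ : T₀ = (T : Subgroup H) ⊓ Subgroup.centralizer (((Cfsg.largestPReducedOf p L) : Subgroup H) : Set H)) : (∃ P : Sylow p ↥(Subgroup.centralizer (((Cfsg.largestPReducedOf p L) : Subgroup H) : Set H)), (P : Subgroup ↥(Subgroup.centralizer (((Cfsg.largestPReducedOf p L) : Subgroup H) : Set H))) = T₀.subgroupOf (Subgroup.centralizer (((Cfsg.largestPReducedOf p L) : Subgroup H) : Set H))) ∧ (Cfsg.pCoreOf p L) ≤ T₀ ∧ T₀ ≤ L ⊓ Subgroup.centralizer (((Cfsg.largestPReducedOf p L) : Subgroup H) : Set H) ∧ (Cfsg.omegaOne p ((T : Subgroup H) ⊓ Subgroup.centralizer (((T : Subgroup H) : Subgroup H) : Set H))) ≤ Cfsg.sylowCenterClosure p L ∧ Cfsg.sylowCenterClosure p L ≤ (Cfsg.largestPReducedOf p L) ∧ (Cfsg.largestPReducedOf p L) ≤ (Cfsg.omegaOne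 p ((Cfsg.pCoreOf p L) ⊓ Subgroup.centralizer (((Cfsg.pCoreOf p L) : Subgroup H) : Set H))) := by
  subst hT₀
  obtain ⟨hLY, hYel, -⟩ := largestPReducedOf_spec p L
  have hOT : Cfsg.pCoreOf p L ≤ (T : Subgroup H) := pCoreOf_le_sylow T hTL
  have hOC := pCoreOf_le_centralizer_largestPReducedOf p L
  refine ⟨?_, le_inf hOT hOC, inf_le_inf_right _ hTL, ?_, ?_, ?_⟩
  · have hTN : (T : Subgroup H) ≤ Subgroup.normalizer
        ((Subgroup.centralizer ((Cfsg.largestPReducedOf p L : Subgroup H) : Set H) : Subgroup H) : Set H) :=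
      (hTL.trans hLY).trans (normalizer_le_normalizer_centralizer _)
    obtain ⟨P, hP⟩ := exists_sylow_subgroupOf_of_le_normalizer T _ hTN
    refine ⟨P, ?_⟩
    rw [hP, Subgroup.inf_subgroupOf_right]
  · have e : ((T.subtype hTL : Sylow p L) : Subgroup L).map L.subtype = (T : Subgroup H) := by
      rw [Sylow.coe_subtype, Subgroup.subgroupOf_map_subtype, inf_of_le_left hTL]
    have h := omegaOne_sylow_le_sylowCenterClosure p L (T.subtype hTL)
    rw [e] at h
    exact h
  · exact le_largestPReducedOf (sylowCenterClosure_le p L) (isPReducedNormal_sylowCenterClosure L hL)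
  · intro y hy
    apply Subgroup.subset_closure
    rw [isElementaryAbelian_iff] at hYel
    exact ⟨Subgroup.mem_inf.mpr ⟨largestPReducedOf_le_pCoreOf p L hy,
      (Subgroup.le_centralizer_iff.mp hOC) hy⟩, hYel.2 y hy⟩

end Cfsg.Agent.S2821
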