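import Mathlib
import Cfsg.Statements.S0190

set_option autoImplicit false
open Cfsg

namespace Cfsg.Agent.S0190

/-- For a transitive action of a finite group on X, the permutation character g ↦ (number of fixed points of g) is the function induced from the principal character of the stabilizer of any point. -/
theorem result {G : Type*} [Group G] [Fintype G] (X : Type*) [MulAction G X] [Finite X] [MulAction.IsPretransitive G X] (x : X) : (fun g : G => (Nat.card (MulAction.fixedBy X g) : ℂ)) = Cfsg.indFun (MulAction.stabilizer G x) (fun _ => 1) := by
  classical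
  have : Fintype X := Fintype.ofFinite X
  funext g
  have hext : ∀ z : G, Cfsg.extendByZero (MulAction.stabilizer G x) (fun _ => (1 : ℂ)) z =
      if z ∈ MulAction.stabilizer G x then 1 else 0 := by
    intro z
    unfold Cfsg.extendByZero
    by_cases hz : z ∈ MulAction.stabilizer G x
    · rw [if_pos hz]
      exact Function.Injective.extend_apply Subtype.val_injective
        (fun _ : MulAction.stabilizer G x => (1 : ℂ)) 0 ⟨z, hz⟩
    · rw [if_neg hz, Function.extend_apply']
      · rfl
      · rintro ⟨a, ha⟩; exact hz (ha ▸ a.2)
  show (Nat.card (MulAction.fixedBy X g) : ℂ) = (Nat.card (MulAction.stabilizer G x) : ℂ)⁻¹ *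
    ∑ y : G, Cfsg.extendByZero (MulAction.stabilizer G x) (fun _ => 1) (y⁻¹ * g * y)
  simp_rw [hext]
  rw [Finset.sum_boole]
  have hfib : ∀ z : X, (Finset.univ.filter (fun y : G => y • x = z)).card =
      Nat.card (MulAction.stabilizer G x) := by
    intro z
    obtain ⟨y0, hy0⟩ := MulAction.exists_smul_eq G x z
    rw [← Nat.card_eq_finsetCard]
    symm
    refine Nat.card_congr ?_
    refine
      { toFun := fun s => ⟨y0 * s.1, by
          simp [mul_smul, MulAction.mem_stabilizer_iff.mp s.2, hy0]⟩
        invFun := fun y => ⟨y0⁻¹ * y.1, by
          have hy : y.1 • x = z := (Finset.mem_filter.mp y.2).2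
          rw [MulAction.mem_stabilizer_iff, mul_smul, hy, ← hy0, inv_smul_smul]⟩
        left_inv := fun s => by simp
        right_inv := fun y => by simp }
  have hcount : (Finset.univ.filter (fun y : G => y⁻¹ * g * y ∈ MulAction.stabilizer G x)).card =
      Nat.card (MulAction.stabilizer G x) * Nat.card (MulAction.fixedBy X g) := by
    have h1 : (Finset.univ.filter (fun y : G => y⁻¹ * g * y ∈ MulAction.stabilizer G x)) =
        Finset.univ.filter (fun y : G => g • (y • x) = y • x) := by
      ext y
      simp only [Finset.mem_filter, Finset.mem_univ, true_and, MulAction.mem_stabilizer_iff,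
        mul_smul]
      rw [inv_smul_eq_iff]
    rw [h1, Finset.card_eq_sum_card_fiberwise (f := fun y : G => y • x)
      (t := Finset.univ.filter (fun z : X => g • z = z))]
    · have hz : ∀ z ∈ Finset.univ.filter (fun z : X => g • z = z),
          (Finset.filter (fun y : G => y • x = z)
            (Finset.univ.filter (fun y : G => g • (y • x) = y • x))).card =
          Nat.card (MulAction.stabilizer G x) := by
        intro z hz
        rw [← hfib z]
        congr 1
        ext y
        simp only [Finset.mem_filter, Finset.mem_univ, true_and] at hz ⊢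
        constructor
        · exact fun h => h.2
        · intro h; exact ⟨by rw [h]; exact hz, h⟩
      rw [Finset.sum_congr rfl hz, Finset.sum_const, smul_eq_mul, mul_comm]
      congr 1
      rw [← Nat.card_eq_finsetCard]
      refine Nat.card_congr (Equiv.subtypeEquivRight ?_)
      intro z
      simp [MulAction.mem_fixedBy]
    · intro y hy
      simp only [Finset.coe_filter, Finset.mem_univ, true_and, Set.mem_ofPred_eq] at hy ⊢
      exact hy
  have hne : (Nat.card (MulAction.stabilizer G x) : ℂ) ≠ 0 := by
    exact_mod_cast Nat.card_pos.ne'
  rw [hcount]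
  push_cast
  rw [← mul_assoc, inv_mul_cancel₀ hne, one_mul]

end Cfsg.Agent.S0190
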