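-- Statement S0753: proof by helper13.
import Cfsg.Statements.S0753
-- import your own Cfsg.Agent.* helpers here

set_option autoImplicit false
open Cfsg

namespace Cfsg.Agent.S0753

/-- If σ is a ring endomorphism of the field F other than the identity and B is a σ-sesquilinear conjugate-symmetric form with B v v = 0 for every v, then B = 0. -/
theorem result {F V : Type*} [Field F] [AddCommGroup V] [Module F V] (σ : F →+* F) (hσ : σ ≠ RingHom.id F) (B : V →ₛₗ[σ] V →ₗ[F] F) (hS : B.IsSymm) (h0 : ∀ v : V, B v v = 0) : B = 0 := by
  have hsymm : ∀ x y, σ (B x y) = B y x := fun x y => hS.eq x y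
  have hadd : ∀ u v : V, B u v + B v u = 0 := by
    intro u v
    have h := h0 (u + v)
    simp only [map_add, LinearMap.add_apply, h0, zero_add, add_zero] at h
    linear_combination h
  have key : ∀ u v : V, B u v = 0 := by
    intro u v
    by_contra hne
    apply hσ
    ext a
    simp only [RingHom.id_apply]
    have h1 : B u (a • v) = a * B u v := by simp
    have h2 : B (a • v) u = σ a * B v u := by simp
    have h3 := hadd u (a • v)
    have h4 := hadd u v
    rw [h1, h2] at h3
    have h5 : B v u = - B u v := by linear_combination h4
    rw [h5] at h3
    have h6 : (a - σ a) * B u v = 0 := by linear_combination h3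
    rcases mul_eq_zero.mp h6 with h | h
    · exact (sub_eq_zero.mp h).symm
    · exact absurd h hne
  ext u v
  simp [key]

end Cfsg.Agent.S0753
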