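import Mathlib
import Cfsg.Statements.S0794
import Cfsg.Agent.Lib.Helper14.Isom
import Cfsg.Agent.S0793

set_option autoImplicit false
open Cfsg
open scoped commutatorElement

namespace Cfsg.Agent.S0794

open Matrix Cfsg.Agent.Lib.Helper14

/-- For q odd, n ≥ 5 and Q with non-degenerate polar form: an isometry whose matrix is a Siegel transformation T_(u,v)(c) (u, v singular and orthogonal) is a commutator in the isometry group, so lies in Ω. -/
theorem result {F : Type*} [Field F] [Fintype F] (h2 : (2 : F) ≠ 0) {n : ℕ} (hn : 5 ≤ n) (Q : QuadraticForm F (Fin n → F)) (hQ : (QuadraticMap.polarBilin Q).Nondegenerate) (u v : Fin n → F) (hu : Q u = 0) (hv : Q v = 0) (huv : QuadraticMap.polar ⇑Q u v = 0) (c : F) (g : ↥(Cfsg.isometryGroup F ⇑Q)) (hg : ((g : Matrix.GeneralLinearGroup (Fin n) F) : Matrix (Fin n) (Fin n) F) = Cfsg.siegelMatrix ⇑Q u v c) : g ∈ commutatorSet ↥(Cfsg.isometryGroup F ⇑Q) ∧ g ∈ Cfsg.Omega F ⇑Q := by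
  suffices hcomm : g ∈ commutatorSet ↥(Cfsg.isometryGroup F ⇑Q) by
    refine ⟨hcomm, ?_⟩
    obtain ⟨a, b, rfl⟩ := hcomm
    exact Subgroup.commutator_mem_commutator (Subgroup.mem_top _) (Subgroup.mem_top _)
  obtain ⟨hpres, hfix, hadd⟩ := Cfsg.Agent.S0793.result Q u v hu hv huv
  by_cases hdep : u ∈ Submodule.span F {v}
  · -- dependent case: the Siegel matrix is the identity
    obtain ⟨a, rfl⟩ := Submodule.mem_span_singleton.mp hdep
    have h1 : Cfsg.siegelMatrix ⇑Q (a • v) v c = 1 := by
      rw [ext_iff_mulVec]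
      intro x
      rw [siegelMatrix_mulVec, QuadraticMap.polar_smul_left, one_mulVec, smul_smul, smul_eq_mul]
      have e : c * QuadraticMap.polar (⇑Q) v x * a = c * (a * QuadraticMap.polar (⇑Q) v x) := by
        ring
      rw [e, add_sub_cancel_right]
    have hg1 : g = 1 := by
      apply isom_ext
      rw [hg, h1]; rfl
    rw [hg1]
    exact ⟨1, 1, by simp⟩
  · -- independent case
    obtain ⟨φ, hφu, hφv⟩ := Submodule.exists_dual_map_eq_bot_of_notMem hdep inferInstance
    have hφv' : φ v = 0 := by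
      have : φ v ∈ (Submodule.span F {v}).map φ :=
        Submodule.mem_map_of_mem (Submodule.mem_span_singleton_self v)
      rw [hφv] at this
      simpa using this
    set B := QuadraticMap.polarBilin Q with hB
    set w : Fin n → F := (LinearMap.BilinForm.toDual B hQ).symm ((φ u)⁻¹ • φ) with hw
    have hwx : ∀ x, QuadraticMap.polar ⇑Q w x = (φ u)⁻¹ * φ x := by
      intro x
      have := LinearMap.BilinForm.apply_toDual_symm_apply (B := B) (hB := hQ) ((φ u)⁻¹ • φ) x
      rw [LinearMap.smul_apply, smul_eq_mul] at this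
      exact this
    have hwu : QuadraticMap.polar ⇑Q w u = 1 := by rw [hwx, inv_mul_cancel₀ hφu]
    have hwv : QuadraticMap.polar ⇑Q w v = 0 := by rw [hwx, hφv', mul_zero]
    set u' : Fin n → F := w - Q w • u with hu'
    have hQu' : Q u' = 0 := by
      rw [hu', quad_sub_smul, hu, hwu]; ring
    have huu : QuadraticMap.polar ⇑Q u u = 0 := by
      rw [QuadraticMap.polar_self, hu, smul_zero]
    have hu'u : QuadraticMap.polar ⇑Q u' u = 1 := by
      rw [hu', QuadraticMap.polar_sub_left, QuadraticMap.polar_smul_left, huu, hwu]; simp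
    have hu'v : QuadraticMap.polar ⇑Q u' v = 0 := by
      rw [hu', QuadraticMap.polar_sub_left, QuadraticMap.polar_smul_left, huv, hwv]; simp
    have huu' : QuadraticMap.polar ⇑Q u u' = 1 := by rw [QuadraticMap.polar_comm]; exact hu'u
    -- the hyperbolic rotation
    set H : Matrix (Fin n) (Fin n) F :=
      1 + vecMulVec u (Cfsg.polarVec ⇑Q u') - (2 : F)⁻¹ • vecMulVec u' (Cfsg.polarVec ⇑Q u)
      with hH
    have hHx : ∀ x, H *ᵥ x = x + QuadraticMap.polar ⇑Q u' x • u
        - ((2 : F)⁻¹ * QuadraticMap.polar ⇑Q u x) • u' := by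
      intro x
      rw [hH, sub_mulVec, add_mulVec, one_mulVec, smul_mulVec, vecMulVec_mulVec, vecMulVec_mulVec,
        polarVec_dotProduct, polarVec_dotProduct]
      simp only [op_smul_eq_smul, smul_smul]
    have h22 : (2 : F)⁻¹ + (2 : F)⁻¹ = 1 := by
      rw [← two_mul, mul_inv_cancel₀ h2]
    have hHiso : ∀ x, Q (H *ᵥ x) = Q x := by
      intro x
      rw [hHx, quad_add_smul_sub_smul, hu, hQu', huu',
        QuadraticMap.polar_comm (⇑Q) x u, QuadraticMap.polar_comm (⇑Q) x u']
      linear_combination (-(QuadraticMap.polar (⇑Q) u' x * QuadraticMap.polar (⇑Q) u x)) * h22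
    have hHu : H *ᵥ u = (2 : F) • u := by
      rw [hHx, hu'u, huu, two_smul]; simp
    have hHv : H *ᵥ v = v := by
      rw [hHx, hu'v, huv]; simp
    -- the group elements
    set h : ↥(Cfsg.isometryGroup F ⇑Q) := mkIsom Q hQ H hHiso with hh
    have key : g * g * h = h * g := by
      apply isom_ext
      simp only [Subgroup.coe_mul, Units.val_mul, hg, hh, mkIsom_coe]
      rw [siegel_conj Q H hHiso, hHu, hHv, siegel_smul_left, hadd, two_mul]
    refine ⟨h, g, ?_⟩
    rw [commutatorElement_def, ← key]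
    group

end Cfsg.Agent.S0794
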