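import Mathlib
import Cfsg.Statements.S0264
import Cfsg.Agent.Lib.Helper5.SLGen
import Cfsg.Agent.Lib.Helper5.CardSL

set_option autoImplicit false
open Cfsg

namespace Cfsg.Agent.S0264

open Matrix Matrix.SpecialLinearGroup
open scoped commutatorElement

/-- A diagonal matrix conjugates a transvection to a transvection. -/
theorem diag_mul_transvection {ι : Type*} [Fintype ι] [DecidableEq ι] {F : Type*} [Field F]
    {i j : ι} (hij : i ≠ j) (a b : F) :
    (Matrix.diagonal (fun k => if k = i then a else 1) : Matrix ι ι F) * Matrix.transvection i j b
      = Matrix.transvection i j (a * b) * Matrix.diagonal (fun k => if k = i then a else 1) := by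
  ext k l
  rw [Matrix.diagonal_mul, Matrix.mul_diagonal]
  simp only [Cfsg.Agent.Lib.Helper5.transvection_apply_entry]
  by_cases hki : k = i
  · subst hki
    by_cases hlj : l = j
    · subst hlj
      simp [hij, hij.symm]
    · have : ¬ j = l := fun h => hlj h.symm
      by_cases hlk : l = k
      · subst hlk
        simp [this]
      · have : ¬ k = l := fun h => hlk h.symm
        simp [hlj, hlk, this]
  · have h1 : ¬ i = k := fun h => hki h.symm
    by_cases hlk : k = l
    · subst hlk
      simp [hki, h1]
    · simp [hki, h1, hlk]

/-- With a scalar `a ≠ 0, 1` every transvection is a commutator in `GL`. -/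
theorem transvection_mem_commutator_GL {ι : Type*} [Fintype ι] [DecidableEq ι] {F : Type*}
    [Field F] {a : F} (ha0 : a ≠ 0) (ha1 : a ≠ 1) {i j : ι} (hij : i ≠ j) (c : F) :
    toGL (transvection hij c) ∈ commutator (GL ι F) := by
  have hdet : (Matrix.diagonal (fun k => if k = i then a else 1) : Matrix ι ι F).det ≠ 0 := by
    rw [Matrix.det_diagonal]
    rw [Finset.prod_ne_zero_iff]
    intro k _
    split_ifs
    · exact ha0
    · exact one_ne_zero
  let D : GL ι F := Matrix.GeneralLinearGroup.mkOfDetNeZero _ hdet
  have ha1' : a - 1 ≠ 0 := sub_ne_zero_of_ne ha1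
  set b : F := c / (a - 1) with hb
  have hcomm : D * toGL (transvection hij b) = toGL (transvection hij (a * b)) * D := by
    apply Units.ext
    exact diag_mul_transvection hij a b
  have key : ⁅D, toGL (transvection hij b)⁆ = toGL (transvection hij c) := by
    rw [commutatorElement_def, hcomm, mul_assoc _ D, mul_inv_cancel, mul_one, ← map_inv,
      ← map_mul, transvection_inv, ← transvection_add]
    congr 2
    rw [hb]
    field_simp
    ring
  rw [← key]
  exact Subgroup.commutator_mem_commutator (Subgroup.mem_top _) (Subgroup.mem_top _)

/-- GL_n(F)' = SL_n(F) (as the kernel of det), for every field F and every n, except n = 2 over the field of two elements. -/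
theorem result {F : Type*} [Field F] (n : ℕ) (h : n = 2 → ∃ a : F, a ≠ 0 ∧ a ≠ 1) : commutator (Matrix.GeneralLinearGroup (Fin n) F) = (Matrix.GeneralLinearGroup.det : Matrix.GeneralLinearGroup (Fin n) F →* Fˣ).ker := by
  apply le_antisymm
  · exact Abelianization.commutator_subset_ker _
  · rw [← Cfsg.Agent.Lib.Helper5.toGL_range_eq_ker_det]
    rintro _ ⟨g, rfl⟩
    rcases Nat.lt_or_ge n 2 with hn | hn
    · -- SL is trivial
      have hsub : Subsingleton (Matrix.SpecialLinearGroup (Fin n) F) := by
        interval_cases n
        · infer_instance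
        · infer_instance
      rw [Subsingleton.elim g 1, map_one]
      exact Subgroup.one_mem _
    · haveI : Nontrivial (Fin n) := Fin.nontrivial_iff_two_le.2 hn
      refine Cfsg.Agent.Lib.Helper5.transvection_induction
        (fun g => toGL g ∈ commutator (GL (Fin n) F)) ?_ ?_ g
      · intro i j hij c
        rcases Nat.lt_or_ge n 3 with hn3 | hn3
        · have hn2 : n = 2 := by omega
          obtain ⟨a, ha0, ha1⟩ := h hn2
          exact transvection_mem_commutator_GL ha0 ha1 hij c
        · have h3 : 3 ≤ Fintype.card (Fin n) := by simpa using hn3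
          obtain ⟨k, hki, hkj⟩ := Cfsg.Agent.Lib.Helper5.exists_third h3 i j
          have hc := Cfsg.Agent.Lib.Helper5.transvection_commutator hij hki.symm hkj (1 : F) c
          rw [one_mul] at hc
          rw [← hc, map_commutatorElement]
          exact Subgroup.commutator_mem_commutator (Subgroup.mem_top _) (Subgroup.mem_top _)
      · intro A B hA hB
        rw [map_mul]
        exact mul_mem hA hB

end Cfsg.Agent.S0264
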