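import Cfsg.Statements.S0856
import Cfsg.Agent.Lib.Helper75.CharDecomp
import Cfsg.Agent.Lib.Helper75.CharInd
import Cfsg.Agent.Lib.Helper80.CharOps
import Cfsg.Agent.Lib.Helper80.CharKer

set_option autoImplicit false
open Cfsg
open scoped ComplexConjugate

namespace Cfsg.Agent.S0856

open Cfsg.Agent.Lib

theorem ext_mul_res {G : Type*} [Group G] (N : Subgroup G) (φ : N → ℂ) (χ : G → ℂ) (y : G) :
    Cfsg.extendByZero N (φ * fun n : N => χ n) y = Cfsg.extendByZero N φ y * χ y := by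
  by_cases hy : y ∈ N
  · rw [Helper75.extendByZero_mem N _ hy, Helper75.extendByZero_mem N _ hy]; rfl
  · rw [Helper75.extendByZero_not_mem N _ hy, Helper75.extendByZero_not_mem N _ hy, zero_mul]

/-- induction of a product with a restricted class function -/
theorem indFun_mul_res {G : Type*} [Group G] [Fintype G] (N : Subgroup G) (φ : N → ℂ)
    (χ : G → ℂ) (hχ : Cfsg.IsClassFunction G χ) :
    Cfsg.indFun N (φ * fun n : N => χ n) = Cfsg.indFun N φ * χ := by
  funext g
  simp only [Pi.mul_apply]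
  unfold Cfsg.indFun
  rw [mul_assoc, Finset.sum_mul]
  congr 1
  refine Finset.sum_congr rfl fun x _ => ?_
  rw [ext_mul_res]
  congr 1
  have := hχ g x⁻¹
  rwa [inv_inv] at this

/-- the induced function of an invariant function, restricted back -/
theorem indFun_invariant {G : Type*} [Group G] [Fintype G] (N : Subgroup G) [hN : N.Normal]
    (φ : N → ℂ)
    (hφinv : ∀ (g : G) (n : N), φ ⟨g * n * g⁻¹, hN.conj_mem (n : G) n.2 g⟩ = φ n) (n : N) :
    Cfsg.indFun N φ n = (N.index : ℂ) * φ n := by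
  unfold Cfsg.indFun
  have hx : ∀ x : G, Cfsg.extendByZero N φ (x⁻¹ * n * x) = φ n := by
    intro x
    have hmem : x⁻¹ * (n : G) * x ∈ N := by
      have := hN.conj_mem (n : G) n.2 x⁻¹
      rwa [inv_inv] at this
    rw [Helper75.extendByZero_mem N φ hmem]
    have e : (⟨x⁻¹ * n * x, hmem⟩ : N) =
        ⟨x⁻¹ * n * x⁻¹⁻¹, hN.conj_mem (n : G) n.2 x⁻¹⟩ := Subtype.ext (by
        show x⁻¹ * (n : G) * x = x⁻¹ * (n : G) * x⁻¹⁻¹
        rw [inv_inv])
    rw [e]; exact hφinv x⁻¹ n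
  rw [Finset.sum_congr rfl (fun x _ => hx x), Finset.sum_const, Finset.card_univ, nsmul_eq_mul,
    ← mul_assoc]
  congr 1
  rw [← Nat.card_eq_fintype_card, ← Subgroup.card_mul_index N]
  have h0 : (Nat.card N : ℂ) ≠ 0 := Nat.cast_ne_zero.mpr Nat.card_pos.ne'
  push_cast
  rw [← mul_assoc, inv_mul_cancel₀ h0, one_mul]

theorem classInner_smul_right {G : Type*} [Group G] [Fintype G] (c : ℂ) (f h : G → ℂ) :
    Cfsg.classInner f (c • h) = conj c * Cfsg.classInner f h := by
  rw [Helper75.classInner_conj_symm, Helper75.classInner_smul_left, map_mul,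
    ← Helper75.classInner_conj_symm]

theorem classInner_sum_right {G : Type*} [Group G] [Fintype G] {ι : Type*} (s : Finset ι)
    (f : G → ℂ) (h : ι → G → ℂ) :
    Cfsg.classInner f (∑ i ∈ s, h i) = ∑ i ∈ s, Cfsg.classInner f (h i) := by
  rw [Helper75.classInner_conj_symm, Helper75.classInner_sum_left, map_sum]
  refine Finset.sum_congr rfl fun i _ => ?_
  rw [← Helper75.classInner_conj_symm]

/-- norm of the induced character of an invariant irreducible character -/
theorem classInner_ind_self {G : Type*} [Group G] [Fintype G] (N : Subgroup G) [hN : N.Normal]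
    [Fintype N] (φ : N → ℂ) (hφ : Cfsg.IsIrrCharacter N φ)
    (hφinv : ∀ (g : G) (n : N), φ ⟨g * n * g⁻¹, hN.conj_mem (n : G) n.2 g⟩ = φ n) :
    Cfsg.classInner (Cfsg.indFun N φ) (Cfsg.indFun N φ) = (N.index : ℂ) := by
  rw [Helper80.frobenius_reciprocity N φ (Cfsg.indFun N φ) (Helper80.isClassFunction_indFun N φ)]
  have : (fun h : N => Cfsg.indFun N φ h) = (N.index : ℂ) • φ := by
    funext n; rw [indFun_invariant N φ hφinv n]; rfl
  rw [this, classInner_smul_right, Complex.conj_natCast, Helper3.classInner_irr_self hφ, mul_one]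

theorem classInner_self_ne_zero {G : Type*} [Group G] [Fintype G] (ψ : G → ℂ) (h1 : ψ 1 ≠ 0) :
    Cfsg.classInner ψ ψ ≠ 0 := by
  unfold Cfsg.classInner
  have h0 : (Nat.card G : ℂ) ≠ 0 := Nat.cast_ne_zero.mpr Nat.card_pos.ne'
  refine mul_ne_zero (inv_ne_zero h0) ?_
  have hterm : ∀ g : G, ψ g * conj (ψ g) = ((‖ψ g‖ ^ 2 : ℝ) : ℂ) := by
    intro g
    rw [Complex.mul_conj, Complex.normSq_eq_norm_sq]
  rw [Finset.sum_congr rfl (fun g _ => hterm g), ← Complex.ofReal_sum]
  intro h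
  have h2 : ∑ g : G, ‖ψ g‖ ^ 2 = 0 := by exact_mod_cast h
  have h3 := (Finset.sum_eq_zero_iff_of_nonneg (fun g _ => sq_nonneg ‖ψ g‖)).mp h2 1
    (Finset.mem_univ _)
  have h4 : ‖ψ 1‖ = 0 := by simpa using h3
  exact h1 (norm_eq_zero.mp h4)

/-- Let N be a normal subgroup of the finite group G and φ, ϑ irreducible characters of N that are invariant under conjugation by G, such that the pointwise product φ * ϑ is irreducible and ϑ is the restriction of an irreducible character χ of G. Then multiplication by χ is a bijection from the set of irreducible characters of G having nonzero inner product with the function induced from φ onto the set of those having nonzero inner product with the function induced from φ * ϑ. -/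
theorem result {G : Type*} [Group G] [Fintype G] (N : Subgroup G) [hN : N.Normal] (φ ϑ : N → ℂ) (hφ : Cfsg.IsIrrCharacter N φ) (hϑ : Cfsg.IsIrrCharacter N ϑ) (hφinv : ∀ (g : G) (n : N), φ ⟨g * n * g⁻¹, hN.conj_mem (n : G) n.2 g⟩ = φ n) (hϑinv : ∀ (g : G) (n : N), ϑ ⟨g * n * g⁻¹, hN.conj_mem (n : G) n.2 g⟩ = ϑ n) (hprod : Cfsg.IsIrrCharacter N (φ * ϑ)) (χ : G → ℂ) (hχ : Cfsg.IsIrrCharacter G χ) (hext : ∀ n : N, χ n = ϑ n) : Set.BijOn (fun β : G → ℂ => β * χ) {β : G → ℂ | Cfsg.IsIrrCharacter G β ∧ Cfsg.classInner (Cfsg.indFun N φ) β ≠ 0} {ψ : G → ℂ | Cfsg.IsIrrCharacter G ψ ∧ Cfsg.classInner (Cfsg.indFun N (φ * ϑ)) ψ ≠ 0} := by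
  classical
  have : Fintype N := Fintype.ofFinite _
  have : Fintype (Cfsg.IrrCharacter G) := Fintype.ofFinite _
  have hχc : Cfsg.IsCharacter G χ := Helper80.isCharacter_of_isIrrCharacter hχ
  have hχcf : Cfsg.IsClassFunction G χ := fun g h => Helper80.char_conj_eq hχc g h
  have hϑeq : ϑ = fun n : N => χ n := by funext n; exact (hext n).symm
  have hprodinv : ∀ (g : G) (n : N),
      (φ * ϑ) ⟨g * n * g⁻¹, hN.conj_mem (n : G) n.2 g⟩ = (φ * ϑ) n := by
    intro g n
    simp only [Pi.mul_apply]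
    rw [hφinv g n, hϑinv g n]
  have hΨ : Cfsg.indFun N (φ * ϑ) = Cfsg.indFun N φ * χ := by
    rw [hϑeq]; exact indFun_mul_res N φ χ hχcf
  have hnorm1 := classInner_ind_self N φ hφ hφinv
  have hnorm2 := classInner_ind_self N (φ * ϑ) hprod hprodinv
  have hφc : Cfsg.IsCharacter N φ := Helper80.isCharacter_of_isIrrCharacter hφ
  have hindc : Cfsg.IsCharacter G (Cfsg.indFun N φ) := Helper80.isCharacter_indFun N hφc
  obtain ⟨e, he, hexp⟩ := Helper80.character_expansion hindc
  -- the inner products of the products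
  have ha : ∀ β β' : Cfsg.IrrCharacter G, ∃ m : ℕ,
      Cfsg.classInner ((β : G → ℂ) * χ) ((β' : G → ℂ) * χ) = m := by
    intro β β'
    exact Helper80.classInner_nat
      (Helper80.isCharacter_mul (Helper80.isCharacter_of_isIrrCharacter β.2) hχc)
      (Helper80.isCharacter_mul (Helper80.isCharacter_of_isIrrCharacter β'.2) hχc)
  choose a ha using ha
  have haself : ∀ β : Cfsg.IrrCharacter G, 1 ≤ a β β := by
    intro β
    have h1 : ((β : G → ℂ) * χ) 1 ≠ 0 := by
      simp only [Pi.mul_apply]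
      exact mul_ne_zero (Helper80.char_one_ne_zero β.2) (Helper80.char_one_ne_zero hχ)
    have h2 := classInner_self_ne_zero _ h1
    rw [ha] at h2
    have : a β β ≠ 0 := fun h => h2 (by rw [h]; simp)
    omega
  -- expansions
  have hΨexp : Cfsg.indFun N (φ * ϑ) =
      ∑ β : Cfsg.IrrCharacter G, (e β : ℂ) • ((β : G → ℂ) * χ) := by
    rw [hΨ]
    conv_lhs => rw [hexp]
    rw [Finset.sum_mul]
    refine Finset.sum_congr rfl fun β _ => ?_
    rw [smul_mul_assoc]
  have hΨinner : ∀ f : G → ℂ, Cfsg.classInner (Cfsg.indFun N (φ * ϑ)) f =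
      ∑ β : Cfsg.IrrCharacter G, (e β : ℂ) * Cfsg.classInner ((β : G → ℂ) * χ) f := by
    intro f
    rw [hΨexp, Helper75.classInner_sum_left]
    refine Finset.sum_congr rfl fun β _ => ?_
    rw [Helper75.classInner_smul_left]
  -- the two norm computations
  have hB : ∑ β : Cfsg.IrrCharacter G, e β * e β = N.index := by
    have h := hnorm1
    conv_lhs at h => rw [hexp]
    rw [Helper80.classInner_sum_irr] at h
    have : ((∑ β : Cfsg.IrrCharacter G, e β * e β : ℕ) : ℂ) = (N.index : ℂ) := by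
      rw [← h]; push_cast
      refine Finset.sum_congr rfl fun β _ => ?_
      rw [Complex.conj_natCast]
    exact_mod_cast this
  have hA : ∑ β : Cfsg.IrrCharacter G, ∑ β' : Cfsg.IrrCharacter G, e β * e β' * a β β'
      = N.index := by
    have h := hnorm2
    rw [hΨinner] at h
    have : ((∑ β : Cfsg.IrrCharacter G, ∑ β' : Cfsg.IrrCharacter G, e β * e β' * a β β' : ℕ) : ℂ)
        = (N.index : ℂ) := by
      rw [← h]; push_cast
      refine Finset.sum_congr rfl fun β _ => ?_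
      rw [hΨexp, classInner_sum_right, Finset.mul_sum]
      refine Finset.sum_congr rfl fun β' _ => ?_
      rw [classInner_smul_right, Complex.conj_natCast, ha]
      ring
    exact_mod_cast this
  -- the combinatorial core
  have hcore : ∀ β β' : Cfsg.IrrCharacter G,
      e β * e β' * a β β' = if β = β' then e β * e β' else 0 := by
    have hle : ∀ x ∈ (Finset.univ : Finset (Cfsg.IrrCharacter G × Cfsg.IrrCharacter G)),
        (if x.1 = x.2 then e x.1 * e x.2 else 0) ≤ e x.1 * e x.2 * a x.1 x.2 := by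
      intro x _
      by_cases hx : x.1 = x.2
      · rw [if_pos hx]
        have := haself x.1
        rw [← hx]
        exact Nat.le_mul_of_pos_right _ (by omega)
      · rw [if_neg hx]; exact Nat.zero_le _
    have hsumeq : ∑ x : Cfsg.IrrCharacter G × Cfsg.IrrCharacter G,
        (if x.1 = x.2 then e x.1 * e x.2 else 0) =
        ∑ x : Cfsg.IrrCharacter G × Cfsg.IrrCharacter G, e x.1 * e x.2 * a x.1 x.2 := by
      rw [Fintype.sum_prod_type, Fintype.sum_prod_type]
      rw [hA, ← hB]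
      refine Finset.sum_congr rfl fun β _ => ?_
      simp
    have h := (Finset.sum_eq_sum_iff_of_le hle).mp hsumeq
    intro β β'
    exact (h (β, β') (Finset.mem_univ _)).symm
  have hone : ∀ β : Cfsg.IrrCharacter G, e β ≠ 0 → a β β = 1 := by
    intro β hβ
    have h := hcore β β
    rw [if_pos rfl] at h
    have hpos : 0 < e β * e β := Nat.mul_pos (Nat.pos_of_ne_zero hβ) (Nat.pos_of_ne_zero hβ)
    exact Nat.eq_of_mul_eq_mul_left hpos (by rw [h, mul_one])
  have hzero : ∀ β β' : Cfsg.IrrCharacter G, e β ≠ 0 → e β' ≠ 0 → β ≠ β' → a β β' = 0 := by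
    intro β β' hβ hβ' hne
    have h := hcore β β'
    rw [if_neg hne] at h
    rcases Nat.mul_eq_zero.mp h with h | h
    · rcases Nat.mul_eq_zero.mp h with h | h
      · exact absurd h hβ
      · exact absurd h hβ'
    · exact h
  have hirr : ∀ β : Cfsg.IrrCharacter G, e β ≠ 0 → Cfsg.IsIrrCharacter G ((β : G → ℂ) * χ) := by
    intro β hβ
    apply Helper80.isIrrCharacter_of_classInner_eq_one
      (Helper80.isCharacter_mul (Helper80.isCharacter_of_isIrrCharacter β.2) hχc)
    rw [ha, hone β hβ]; simp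
  have hemem : ∀ β : Cfsg.IrrCharacter G,
      Cfsg.classInner (Cfsg.indFun N φ) (β : G → ℂ) ≠ 0 ↔ e β ≠ 0 := by
    intro β
    rw [he β]
    exact Nat.cast_ne_zero
  refine ⟨?_, ?_, ?_⟩
  · -- MapsTo
    rintro β ⟨hβ, hβe⟩
    have hβe' : e ⟨β, hβ⟩ ≠ 0 := (hemem ⟨β, hβ⟩).mp hβe
    refine ⟨hirr ⟨β, hβ⟩ hβe', ?_⟩
    show Cfsg.classInner (Cfsg.indFun N (φ * ϑ)) (β * χ) ≠ 0
    rw [hΨinner]
    have hsum : ∑ β' : Cfsg.IrrCharacter G,
        (e β' : ℂ) * Cfsg.classInner ((β' : G → ℂ) * χ) (β * χ) =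
        ((∑ β' : Cfsg.IrrCharacter G, e β' * a β' ⟨β, hβ⟩ : ℕ) : ℂ) := by
      push_cast
      refine Finset.sum_congr rfl fun β' _ => ?_
      rw [← ha]
    rw [hsum]
    have hle : e ⟨β, hβ⟩ * a ⟨β, hβ⟩ ⟨β, hβ⟩ ≤
        ∑ β' : Cfsg.IrrCharacter G, e β' * a β' ⟨β, hβ⟩ :=
      Finset.single_le_sum (f := fun β' : Cfsg.IrrCharacter G => e β' * a β' ⟨β, hβ⟩)
        (fun _ _ => Nat.zero_le _) (Finset.mem_univ _)
    rw [hone _ hβe', mul_one] at hle
    have : (∑ β' : Cfsg.IrrCharacter G, e β' * a β' ⟨β, hβ⟩) ≠ 0 := by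
      have := Nat.pos_of_ne_zero hβe'
      omega
    exact_mod_cast this
  · -- InjOn
    rintro β₁ ⟨hβ₁, hβ₁e⟩ β₂ ⟨hβ₂, hβ₂e⟩ heq
    have h1 : e ⟨β₁, hβ₁⟩ ≠ 0 := (hemem ⟨β₁, hβ₁⟩).mp hβ₁e
    have h2 : e ⟨β₂, hβ₂⟩ ≠ 0 := (hemem ⟨β₂, hβ₂⟩).mp hβ₂e
    by_contra hne
    have hne' : (⟨β₁, hβ₁⟩ : Cfsg.IrrCharacter G) ≠ ⟨β₂, hβ₂⟩ := fun h => hne (congrArg Subtype.val h)
    have hz := hzero _ _ h1 h2 hne'
    have ho := hone _ h1
    have e1 := ha ⟨β₁, hβ₁⟩ ⟨β₁, hβ₁⟩
    have e2 := ha ⟨β₁, hβ₁⟩ ⟨β₂, hβ₂⟩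
    simp only at heq
    simp only at e1 e2
    rw [← heq, e1, ho, hz] at e2
    simp at e2
  · -- SurjOn
    rintro ψ ⟨hψ, hψe⟩
    rw [hΨinner] at hψe
    obtain ⟨β, -, hβ⟩ := Finset.exists_ne_zero_of_sum_ne_zero hψe
    have hβe : e β ≠ 0 := by
      intro h; apply hβ; rw [h]; simp
    have hβψ : Cfsg.classInner ((β : G → ℂ) * χ) ψ ≠ 0 := by
      intro h; apply hβ; rw [h, mul_zero]
    refine ⟨(β : G → ℂ), ⟨β.2, (hemem β).mpr hβe⟩, ?_⟩
    by_contra hne
    exact hβψ (Helper3.classInner_irr_ne (hirr β hβe) hψ hne)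

end Cfsg.Agent.S0856
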