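import Cfsg.Statements.S0868
import Cfsg.Agent.S0856
import Cfsg.Agent.Lib.Helper3.CharCore
import Cfsg.Agent.Lib.Helper80.CharOps
import Cfsg.Agent.Lib.Helper80.CharKer

set_option autoImplicit false
open Cfsg
open scoped ComplexConjugate

namespace Cfsg.Agent.S0868

open Cfsg.Agent.Lib

/-- the average of a representation over a subgroup -/
theorem averageMap_eq {G : Type*} [Group G] (N : Subgroup G) [Fintype N] {V : Type*}
    [AddCommGroup V] [Module ℂ V] (ρ : Representation ℂ G V)
    [Invertible (Fintype.card N : ℂ)] :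
    Representation.averageMap (ρ.comp N.subtype) = (Nat.card N : ℂ)⁻¹ • ∑ n : N, ρ (n : G) := by
  simp [Representation.averageMap, GroupAlgebra.average, map_sum, Nat.card_eq_fintype_card]

/-- Averaging a character over the cosets of a normal subgroup gives a character
(the character of the space of fixed points of the subgroup). -/
theorem isCharacter_cosetAvg {G : Type*} [Group G] (N : Subgroup G) [N.Normal]
    [Fintype N] {F : G → ℂ} (hF : Cfsg.IsCharacter G F) :
    Cfsg.IsCharacter G (fun g => (Nat.card N : ℂ)⁻¹ * ∑ n : N, F ((n : G) * g)) := by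
  obtain ⟨m, ρ, rfl⟩ := hF
  have hinv : Invertible (Fintype.card N : ℂ) :=
    invertibleOfNonzero (Nat.cast_ne_zero.mpr Fintype.card_ne_zero)
  have key : ∀ g, (Representation.toInvariants ρ N).character g =
      (Nat.card N : ℂ)⁻¹ * ∑ n : N, ρ.character ((n : G) * g) := by
    intro g
    have hproj := Representation.isProj_averageMap (ρ.comp N.subtype)
    have hf : ∀ x, (Representation.averageMap (ρ.comp N.subtype) ∘ₗ ρ g) x ∈
        Representation.invariants (ρ.comp N.subtype) := fun x => hproj.map_mem _
    have h1 := LinearMap.trace_restrict_eq_of_forall_mem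
      (Representation.invariants (ρ.comp N.subtype))
      (Representation.averageMap (ρ.comp N.subtype) ∘ₗ ρ g) hf
    have h2 : (Representation.averageMap (ρ.comp N.subtype) ∘ₗ ρ g).restrict (fun x _ => hf x) =
        Representation.toInvariants ρ N g := by
      apply LinearMap.ext
      intro w
      apply Subtype.ext
      have hw : ρ g w ∈ Representation.invariants (ρ.comp N.subtype) :=
        Representation.le_comap_invariants ρ N g w.2
      have := hproj.map_id _ hw
      simpa using this
    unfold Representation.character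
    rw [← h2, h1, averageMap_eq, ← Module.End.mul_eq_comp, smul_mul_assoc, map_smul, smul_eq_mul,
      Finset.sum_mul, map_sum]
    congr 1
    refine Finset.sum_congr rfl fun n _ => ?_
    rw [map_mul ρ (n : G) g]
  have := Helper3.isCharacter_character (Representation.toInvariants ρ N)
  have hfun : (Representation.toInvariants ρ N).character =
      fun g => (Nat.card N : ℂ)⁻¹ * ∑ n : N, ρ.character ((n : G) * g) := funext key
  rw [hfun] at this
  exact this

/-- if the trivial character of a normal subgroup is a constituent of the restriction of an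
irreducible character, the subgroup acts trivially -/
theorem translate_of_constituent {G : Type*} [Group G] (N : Subgroup G) [N.Normal] [Fintype N]
    {β : G → ℂ} (hβ : Cfsg.IsIrrCharacter G β) (hne : ∑ n : N, β n ≠ 0) (n : N) (g : G) :
    β ((n : G) * g) = β g := by
  obtain ⟨m, ρ, hirr, rfl⟩ := hβ
  have := hirr
  have hinv : Invertible (Nat.card N : ℂ) :=
    invertibleOfNonzero (Nat.cast_ne_zero.mpr Nat.card_pos.ne')
  let Sub : Subrepresentation ρ := ⟨Representation.invariants (ρ.comp N.subtype),
    fun g v hv => Representation.le_comap_invariants ρ N g hv⟩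
  have htop : Sub = ⊤ := by
    refine (eq_bot_or_eq_top Sub).resolve_left fun hbot => hne ?_
    have h1 := Representation.card_inv_mul_sum_char_eq_finrank (ρ.comp N.subtype)
    have h2 : Representation.invariants (ρ.comp N.subtype) = ⊥ :=
      congrArg Subrepresentation.toSubmodule hbot
    rw [h2, finrank_bot] at h1
    have h3 : (Nat.card N : ℂ)⁻¹ ≠ 0 :=
      inv_ne_zero (Nat.cast_ne_zero.mpr Nat.card_pos.ne')
    have h4 : ∑ g : N, Representation.character (ρ.comp N.subtype) g = 0 := by
      simpa using h1
    exact h4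
  have hfix : ∀ v : Fin m → ℂ, ρ (n : G) v = v := by
    intro v
    have hv : v ∈ Sub.toSubmodule := by rw [htop]; trivial
    exact hv n
  have hid : ρ (n : G) = 1 := LinearMap.ext hfix
  unfold Representation.character
  rw [map_mul, hid, one_mul]

/-- a character of degree zero vanishes -/
theorem char_eq_zero_of_one {G : Type*} [Group G] [Finite G] {η : G → ℂ}
    (hη : Cfsg.IsCharacter G η) (h1 : η 1 = 0) : η = 0 := by
  funext g
  have h := Helper80.norm_char_le_charDegree hη g
  have hd : Cfsg.charDegree η = 0 := by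
    unfold Cfsg.charDegree
    rw [h1]; simp
  rw [hd] at h
  have : ‖η g‖ = 0 := le_antisymm (by exact_mod_cast h) (norm_nonneg _)
  simpa using this

/-- the coset average of `χ * conj χ` is identically one when `χ` restricts irreducibly -/
theorem avg_self {G : Type*} [Group G] [Fintype G] (N : Subgroup G) [N.Normal] [Fintype N]
    (χ : G → ℂ) (hχ : Cfsg.IsIrrCharacter G χ)
    (hχN : Cfsg.IsIrrCharacter N (fun n : N => χ n)) :
    (fun g => (Nat.card N : ℂ)⁻¹ * ∑ n : N, χ ((n : G) * g) * conj (χ ((n : G) * g))) =
      fun _ => 1 := by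
  classical
  have : Fintype (Cfsg.IrrCharacter G) := Fintype.ofFinite _
  have hχc : Cfsg.IsCharacter G χ := Helper80.isCharacter_of_isIrrCharacter hχ
  have hFc : Cfsg.IsCharacter G (χ * fun g => conj (χ g)) :=
    Helper80.isCharacter_mul hχc (Helper80.isCharacter_conj hχc)
  have hηc := isCharacter_cosetAvg N hFc
  simp only [Pi.mul_apply] at hηc
  set η : G → ℂ := fun g => (Nat.card N : ℂ)⁻¹ * ∑ n : N, χ ((n : G) * g) * conj (χ ((n : G) * g))
    with hηdef
  have hη1 : η 1 = 1 := by
    have h := Helper3.classInner_irr_self hχN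
    unfold Cfsg.classInner at h
    simp only [hηdef, mul_one]
    exact h
  have hinner : Cfsg.classInner η (fun _ => 1) = 1 := by
    have h := Helper3.classInner_irr_self hχ
    unfold Cfsg.classInner at h ⊢
    simp only [hηdef, map_one, mul_one]
    rw [← Finset.mul_sum, Finset.sum_comm]
    have hshift : ∀ n : N, ∑ g : G, χ ((n : G) * g) * conj (χ ((n : G) * g)) =
        ∑ g : G, χ g * conj (χ g) := by
      intro n
      exact Fintype.sum_equiv (Equiv.mulLeft (n : G)) _ _ (fun g => rfl)
    rw [Finset.sum_congr rfl (fun n _ => hshift n), Finset.sum_const, Finset.card_univ,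
      nsmul_eq_mul, ← Nat.card_eq_fintype_card]
    have hN0 : (Nat.card N : ℂ) ≠ 0 := Nat.cast_ne_zero.mpr Nat.card_pos.ne'
    rw [← mul_assoc (Nat.card N : ℂ)⁻¹, inv_mul_cancel₀ hN0, one_mul]
    exact h
  apply Helper80.eq_of_constituent_of_degree_le hηc Helper80.isIrrCharacter_one
  · rw [hinner]; exact one_ne_zero
  · unfold Cfsg.charDegree
    rw [hη1]

/-- If χ ∈ Irr(G) restricts irreducibly to the normal subgroup N and ψ ∈ Irr(G), then the coset averages η(g) = (1/[N:1]) Σ_{x∈Ng} ψ(x)·conj χ(x) form an irreducible character of G when ψ_N contains χ_N, vanish identically otherwise, and are identically 1 when ψ = χ. -/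
theorem result {G : Type*} [Group G] [Fintype G] (N : Subgroup G) [N.Normal] [Fintype N] (χ : G → ℂ) (hχ : Cfsg.IsIrrCharacter G χ) (hχN : Cfsg.IsIrrCharacter N (fun n : N => χ n)) (ψ : G → ℂ) (hψ : Cfsg.IsIrrCharacter G ψ) (η : G → ℂ) (hη : η = fun g => (Nat.card N : ℂ)⁻¹ * ∑ n : N, ψ ((n : G) * g) * conj (χ ((n : G) * g))) : (Cfsg.classInner (fun n : N => ψ n) (fun n : N => χ n) ≠ 0 → Cfsg.IsIrrCharacter G η) ∧ (Cfsg.classInner (fun n : N => ψ n) (fun n : N => χ n) = 0 → η = 0) ∧ (ψ = χ → η = fun _ => 1) := by
  classical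
  have hχc : Cfsg.IsCharacter G χ := Helper80.isCharacter_of_isIrrCharacter hχ
  have hψc : Cfsg.IsCharacter G ψ := Helper80.isCharacter_of_isIrrCharacter hψ
  have hFc : Cfsg.IsCharacter G (ψ * fun g => conj (χ g)) :=
    Helper80.isCharacter_mul hψc (Helper80.isCharacter_conj hχc)
  have hηc := isCharacter_cosetAvg N hFc
  simp only [Pi.mul_apply] at hηc
  rw [← hη] at hηc
  have hη1 : η 1 = Cfsg.classInner (fun n : N => ψ n) (fun n : N => χ n) := by
    unfold Cfsg.classInner
    rw [hη]
    simp only [mul_one]
  refine ⟨?_, ?_, ?_⟩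
  · intro hne
    have hχcf : Cfsg.IsClassFunction G χ := fun g h => Helper80.char_conj_eq hχc g h
    have hψcf : Cfsg.IsClassFunction G ψ := fun g h => Helper80.char_conj_eq hψc g h
    have hN := (inferInstance : N.Normal)
    have hϑinv : ∀ (g : G) (n : N),
        (fun n : N => χ n) ⟨g * n * g⁻¹, hN.conj_mem (n : G) n.2 g⟩ = (fun n : N => χ n) n := by
      intro g n
      exact hχcf (n : G) g
    have h1irr : Cfsg.IsIrrCharacter N (fun _ : N => (1 : ℂ)) := Helper80.isIrrCharacter_one
    have hmul : ((fun _ : N => (1 : ℂ)) * fun n : N => χ n) = fun n : N => χ n := by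
      funext n; simp
    have hbij := Cfsg.Agent.S0856.result N (fun _ : N => (1 : ℂ)) (fun n : N => χ n) h1irr hχN
      (fun _ _ => rfl) hϑinv (by rw [hmul]; exact hχN) χ hχ (fun _ => rfl)
    rw [hmul] at hbij
    have hψmem : ψ ∈ {ψ : G → ℂ | Cfsg.IsIrrCharacter G ψ ∧
        Cfsg.classInner (Cfsg.indFun N (fun n : N => χ n)) ψ ≠ 0} := by
      refine ⟨hψ, ?_⟩
      rw [Helper80.frobenius_reciprocity N _ ψ hψcf, Helper75.classInner_conj_symm]
      simpa using hne
    obtain ⟨β, ⟨hβ, hβ1⟩, hβψ⟩ := hbij.surjOn hψmem
    have hβcf : Cfsg.IsClassFunction G β := fun g h =>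
      Helper80.char_conj_eq (Helper80.isCharacter_of_isIrrCharacter hβ) g h
    rw [Helper80.frobenius_reciprocity N _ β hβcf] at hβ1
    have hsum : ∑ n : N, β n ≠ 0 := by
      intro h0
      apply hβ1
      unfold Cfsg.classInner
      simp only [one_mul]
      rw [← map_sum, h0, map_zero, mul_zero]
    have htr := translate_of_constituent N hβ hsum
    have hself := avg_self N χ hχ hχN
    have : η = β := by
      rw [hη]
      funext g
      have hg := congrFun hself g
      rw [← hβψ]
      simp only [Pi.mul_apply]
      have hterm : ∀ n : N, β ((n : G) * g) * χ ((n : G) * g) * conj (χ ((n : G) * g)) =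
          β g * (χ ((n : G) * g) * conj (χ ((n : G) * g))) := by
        intro n; rw [htr n g, mul_assoc]
      rw [Finset.sum_congr rfl (fun n _ => hterm n), ← Finset.mul_sum, mul_left_comm, hg, mul_one]
    rw [this]; exact hβ
  · intro h0
    rw [h0] at hη1
    exact char_eq_zero_of_one hηc hη1
  · intro heq
    subst heq
    rw [hη]
    exact avg_self N ψ hψ hχN

end Cfsg.Agent.S0868
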