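import Cfsg.Statements.S0862
import Cfsg.Agent.S0856
import Cfsg.Agent.S0868
import Cfsg.Agent.Lib.Helper15.DetChar
import Cfsg.Agent.Lib.Helper15.LinIrr

set_option autoImplicit false
open Cfsg
open scoped ComplexConjugate

namespace Cfsg.Agent.S0862

open Cfsg.Agent.Lib Cfsg.Agent.Lib.Helper15

/-- Gallagher: an irreducible character `χ'` extending the restriction to `N` of an irreducible
`η` (with irreducible restriction) is `β * η` for a character `β` of degree one trivial on `N`. -/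
theorem gallagher_ext {G : Type*} [Group G] [Finite G] (N : Subgroup G) [hN : N.Normal]
    (η : G → ℂ) (hη : Cfsg.IsIrrCharacter G η)
    (hηN : Cfsg.IsIrrCharacter N (fun n : N => η n))
    (χ' : G → ℂ) (hχ' : Cfsg.IsIrrCharacter G χ') (hres : ∀ n : N, χ' n = η n) :
    ∃ β : G → ℂ, Cfsg.IsCharacter G β ∧ β 1 = 1 ∧ (∀ n : N, β n = 1) ∧ χ' = β * η := by
  classical
  have := Fintype.ofFinite G
  have : Fintype N := Fintype.ofFinite _
  have hηc : Cfsg.IsCharacter G η := Helper80.isCharacter_of_isIrrCharacter hη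
  have hχ'c : Cfsg.IsCharacter G χ' := Helper80.isCharacter_of_isIrrCharacter hχ'
  have hηcf : Cfsg.IsClassFunction G η := fun g h => Helper80.char_conj_eq hηc g h
  have hχ'cf : Cfsg.IsClassFunction G χ' := fun g h => Helper80.char_conj_eq hχ'c g h
  have hϑinv : ∀ (g : G) (n : N),
      (fun n : N => η n) ⟨g * n * g⁻¹, hN.conj_mem (n : G) n.2 g⟩ = (fun n : N => η n) n := by
    intro g n
    exact hηcf (n : G) g
  have h1irr : Cfsg.IsIrrCharacter N (fun _ : N => (1 : ℂ)) := Helper80.isIrrCharacter_one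
  have hmul : ((fun _ : N => (1 : ℂ)) * fun n : N => η n) = fun n : N => η n := by
    funext n; simp
  have hbij := Cfsg.Agent.S0856.result N (fun _ : N => (1 : ℂ)) (fun n : N => η n) h1irr hηN
    (fun _ _ => rfl) hϑinv (by rw [hmul]; exact hηN) η hη (fun _ => rfl)
  rw [hmul] at hbij
  have hmem : χ' ∈ {ψ : G → ℂ | Cfsg.IsIrrCharacter G ψ ∧
      Cfsg.classInner (Cfsg.indFun N (fun n : N => η n)) ψ ≠ 0} := by
    refine ⟨hχ', ?_⟩
    rw [Helper80.frobenius_reciprocity N _ χ' hχ'cf]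
    have : (fun h : N => χ' h) = fun n : N => η n := funext hres
    rw [this, Helper3.classInner_irr_self hηN]
    exact one_ne_zero
  obtain ⟨β, ⟨hβ, hβ1⟩, hβχ⟩ := hbij.surjOn hmem
  have hβc : Cfsg.IsCharacter G β := Helper80.isCharacter_of_isIrrCharacter hβ
  have hβcf : Cfsg.IsClassFunction G β := fun g h => Helper80.char_conj_eq hβc g h
  rw [Helper80.frobenius_reciprocity N _ β hβcf] at hβ1
  have hsum : ∑ n : N, β n ≠ 0 := by
    intro h0
    apply hβ1
    unfold Cfsg.classInner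
    simp only [one_mul]
    rw [← map_sum, h0, map_zero, mul_zero]
  have htr := Cfsg.Agent.S0868.translate_of_constituent N hβ hsum
  have hη1 : η 1 ≠ 0 := Helper80.char_one_ne_zero hη
  have hβone : β 1 = 1 := by
    have h1 := congrFun hβχ 1
    simp only [Pi.mul_apply] at h1
    have h2 := hres 1
    simp only [Subgroup.coe_one] at h2
    rw [h2] at h1
    have : (β 1 - 1) * η 1 = 0 := by rw [sub_mul, h1, one_mul, sub_self]
    rcases mul_eq_zero.mp this with h | h
    · exact sub_eq_zero.mp h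
    · exact absurd h hη1
  refine ⟨β, hβc, hβone, ?_, hβχ.symm⟩
  intro n
  have := htr n 1
  rw [mul_one] at this
  rw [this, hβone]

/-- If an irreducible character ϑ of a normal subgroup N extends to G and ϑ(1) is coprime to [G:N], then for every linear character μ of G extending det ϑ there is exactly one extension χ of ϑ to G with det χ = μ. -/
theorem result {G : Type*} [Group G] [Finite G] (N : Subgroup G) [N.Normal] (ϑ : N → ℂ) (hϑ : Cfsg.IsIrrCharacter N ϑ) (d : ℕ) (hd : ϑ 1 = d) (hcop : Nat.Coprime N.index d) (hext : ∃ η : G → ℂ, Cfsg.IsIrrCharacter G η ∧ (∀ n : N, η n = ϑ n)) (μ : G → ℂ) (hμ : Cfsg.IsCharacter G μ ∧ μ 1 = 1) (hμN : ∀ n : N, μ n = Cfsg.detChar ϑ n) : ∃! χ : G → ℂ, Cfsg.IsIrrCharacter G χ ∧ (∀ n : N, χ n = ϑ n) ∧ Cfsg.detChar χ = μ := by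
  classical
  obtain ⟨η, hη, hηϑ⟩ := hext
  have hηc : Cfsg.IsCharacter G η := Helper80.isCharacter_of_isIrrCharacter hη
  have hresη : (fun n : N => η n) = ϑ := funext hηϑ
  have hηN : Cfsg.IsIrrCharacter N (fun n : N => η n) := by rw [hresη]; exact hϑ
  have hηd : η 1 = d := by
    have := hηϑ 1
    simp only [Subgroup.coe_one] at this
    rw [this, hd]
  -- determinants
  have hdetres : ∀ n : N, Cfsg.detChar η n = Cfsg.detChar ϑ n := by
    intro n
    have := congrFun (detChar_res N hηc) n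
    rw [hresη] at this
    exact this.symm
  set fμ : G →* ℂˣ := linCharHom hμ.1 hμ.2 with hfμ
  set fδ : G →* ℂˣ := detCharHom η with hfδ
  set ν : G →* ℂˣ := fμ * fδ⁻¹ with hν
  have hνN : ∀ n : N, ν n = 1 := by
    intro n
    rw [hν, MonoidHom.mul_apply, MonoidHom.inv_apply, mul_inv_eq_one]
    apply Units.ext
    rw [hfμ, hfδ, linCharHom_apply, detCharHom_apply, hμN n, hdetres n]
  set m := N.index with hm
  have hpowN : ∀ (f : G →* ℂˣ), (∀ n : N, f n = 1) → ∀ g, f g ^ m = 1 := by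
    intro f hf g
    rw [← map_pow]
    have hmem : g ^ m ∈ N := Subgroup.pow_index_mem N g
    exact hf ⟨g ^ m, hmem⟩
  -- Bezout
  have hbez : (d : ℤ) * Int.gcdB m d + (m : ℤ) * Int.gcdA m d = 1 := by
    have h := Int.gcd_eq_gcd_ab (m : ℤ) (d : ℤ)
    have h1 : Int.gcd (m : ℤ) (d : ℤ) = 1 := by
      rw [Int.gcd_natCast_natCast]; exact hcop
    rw [h1] at h
    push_cast at h
    linarith
  set a : ℤ := Int.gcdB m d with ha
  set b : ℤ := Int.gcdA m d with hb
  have hkey : ∀ (u : ℂˣ), u ^ m = 1 → u = (u ^ d) ^ a := by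
    intro u hu
    calc u = u ^ (1 : ℤ) := (zpow_one u).symm
      _ = u ^ ((d : ℤ) * a + (m : ℤ) * b) := by rw [hbez]
      _ = (u ^ (d : ℤ)) ^ a * (u ^ (m : ℤ)) ^ b := by rw [zpow_add, zpow_mul, zpow_mul]
      _ = (u ^ d) ^ a := by rw [zpow_natCast, zpow_natCast, hu, one_zpow, mul_one]
  set β : G →* ℂˣ := (zpowGroupHom a).comp ν with hβ
  have hβval : ∀ g, β g = (ν g) ^ a := fun g => rfl
  have hβd : ∀ g, (β g) ^ d = ν g := by
    intro g
    rw [hβval, ← zpow_natCast, ← zpow_mul, mul_comm, zpow_mul, zpow_natCast]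
    exact (hkey (ν g) (hpowN ν hνN g)).symm
  have hβc : Cfsg.IsCharacter G (fun g => ((β g : ℂˣ) : ℂ)) := isCharacter_of_hom β
  have hβ1 : (fun g => ((β g : ℂˣ) : ℂ)) 1 = 1 := by simp
  have hdetη0 : ∀ g, Cfsg.detChar η g ≠ 0 := detChar_ne_zero η
  have hνval : ∀ g, ((ν g : ℂˣ) : ℂ) = μ g * (Cfsg.detChar η g)⁻¹ := by
    intro g
    rw [hν, MonoidHom.mul_apply, MonoidHom.inv_apply, Units.val_mul, Units.val_inv_eq_inv_val,
      hfμ, hfδ, linCharHom_apply, detCharHom_apply]
  refine ⟨(fun g => ((β g : ℂˣ) : ℂ)) * η, ⟨?_, ?_, ?_⟩, ?_⟩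
  · exact isIrrCharacter_lin_mul hβc hβ1 hη
  · intro n
    simp only [Pi.mul_apply]
    rw [hβval, hνN n, one_zpow, Units.val_one, one_mul, hηϑ n]
  · rw [detChar_lin_mul hβc hβ1 hηc d hηd]
    funext g
    rw [← Units.val_pow_eq_pow_val, hβd g, hνval g, mul_assoc, inv_mul_cancel₀ (hdetη0 g), mul_one]
  · rintro χ' ⟨hχ', hres, hdet⟩
    obtain ⟨β', hβ'c, hβ'1, hβ'N, hχ'eq⟩ := gallagher_ext N η hη hηN χ' hχ'
      (fun n => (hres n).trans (hηϑ n).symm)
    set f' : G →* ℂˣ := linCharHom hβ'c hβ'1 with hf'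
    have hf'N : ∀ n : N, f' n = 1 := by
      intro n
      apply Units.ext
      rw [hf', linCharHom_apply, hβ'N n, Units.val_one]
    have hf'd : ∀ g, (f' g) ^ d = ν g := by
      intro g
      apply Units.ext
      rw [Units.val_pow_eq_pow_val, hf', linCharHom_apply, hνval g]
      have h1 := congrFun hdet g
      rw [hχ'eq, detChar_lin_mul hβ'c hβ'1 hηc d hηd] at h1
      simp only at h1
      rw [← h1, mul_assoc, mul_inv_cancel₀ (hdetη0 g), mul_one]
    have hf'β : ∀ g, f' g = β g := by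
      intro g
      rw [hβval, ← hf'd g]
      exact hkey (f' g) (hpowN f' hf'N g)
    rw [hχ'eq]
    congr 1
    funext g
    rw [← hf'β g, hf', linCharHom_apply]

end Cfsg.Agent.S0862
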