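import Cfsg.Statements.S0865
import Cfsg.Agent.Lib.Helper15.LinChar
import Cfsg.Agent.Lib.Helper15.TransferInv

set_option autoImplicit false
open Cfsg

namespace Cfsg.Agent.S0865

open Cfsg.Agent.Lib.Helper15

/-- Let N be a normal subgroup of the finite group G and λ a character of N of degree 1, invariant under conjugation by G, whose order (under pointwise multiplication) is coprime to the index of N. Then there is a character μ of G of degree 1 restricting to λ with the same order as λ, and μ is the only degree-1 character of G restricting to λ whose order is coprime to the index of N. -/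
theorem result {G : Type*} [Group G] [Finite G] (N : Subgroup G) [hN : N.Normal] (lam : N → ℂ) (hlam : Cfsg.IsCharacter N lam ∧ lam 1 = 1) (hinv : ∀ (g : G) (n : N), lam ⟨g * n * g⁻¹, hN.conj_mem (n : G) n.2 g⟩ = lam n) (hcop : Nat.Coprime N.index (orderOf lam)) : ∃ μ : G → ℂ, (Cfsg.IsCharacter G μ ∧ μ 1 = 1 ∧ (∀ n : N, μ n = lam n) ∧ orderOf μ = orderOf lam) ∧ ∀ μ' : G → ℂ, Cfsg.IsCharacter G μ' ∧ μ' 1 = 1 → (∀ n : N, μ' n = lam n) → Nat.Coprime N.index (orderOf μ') → μ' = μ := by
  classical
  set f : N →* ℂˣ := linCharHom hlam.1 hlam.2 with hf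
  have hfv : ∀ n, ((f n : ℂˣ) : ℂ) = lam n := fun n => rfl
  set r := orderOf lam with hr
  set m := N.index with hm
  have hlr : ∀ n, lam n ^ r = 1 := by
    intro n
    have := congrFun (pow_orderOf_eq_one lam) n
    simpa using this
  have hfr : ∀ n, f n ^ r = 1 := by
    intro n
    apply Units.ext
    rw [Units.val_pow_eq_pow_val, hfv, hlr]
    rfl
  -- the exponent a
  obtain ⟨a, ha⟩ : ∃ a : ℕ, ∀ x : ℂˣ, x ^ r = 1 → x ^ (m * a) = x := by
    by_cases hr1 : r = 1
    · refine ⟨0, fun x hx => ?_⟩
      rw [hr1, pow_one] at hx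
      rw [hx]; simp
    · have hr0 : 1 < r := by
        rcases Nat.lt_or_ge 1 r with h | h
        · exact h
        · exfalso
          have hr00 : r = 0 := by omega
          -- lam has finite order
          have hpow : lam ^ Nat.card N = 1 := by
            funext n
            rw [Pi.pow_apply, ← hfv, ← Units.val_pow_eq_pow_val, ← map_pow, pow_card_eq_one']
            simp
          have hdvd : r ∣ Nat.card N := orderOf_dvd_of_pow_eq_one hpow
          rw [hr00] at hdvd
          have : Nat.card N = 0 := Nat.eq_zero_of_zero_dvd hdvd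
          exact (Nat.card_pos (α := N)).ne' this
      obtain ⟨a, -, ha⟩ := Nat.exists_mul_mod_eq_one_of_coprime hcop hr0
      refine ⟨a, fun x hx => ?_⟩
      rw [← Nat.div_add_mod (m * a) r, ha, pow_add, pow_mul, hx, one_pow, one_mul, pow_one]
  have hinv' : ∀ (g : G) (n : G) (hn : n ∈ N),
      f ⟨g * n * g⁻¹, (le_refl N) (hN.conj_mem n hn g)⟩ = f ⟨n, (le_refl N) hn⟩ := by
    intro g n hn
    apply Units.ext
    exact hinv g ⟨n, hn⟩
  set T : G →* ℂˣ := MonoidHom.transfer f with hT
  have hTN : ∀ n : N, T (n : G) = f n ^ m := by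
    intro n
    exact transfer_of_invariant (le_refl N) f hinv' n.1 n.2
  have hTr : ∀ g : G, T g ^ r = 1 := fun g => transfer_pow_eq_one f r hfr g
  set μh : G →* ℂˣ := T ^ a with hμh
  have hμhN : ∀ n : N, μh (n : G) = f n := by
    intro n
    rw [hμh, MonoidHom.pow_apply, hTN, ← pow_mul]
    exact ha _ (hfr n)
  have hμr : ∀ g : G, μh g ^ r = 1 := by
    intro g
    rw [hμh, MonoidHom.pow_apply, ← pow_mul, mul_comm, pow_mul, hTr, one_pow]
  have hμord : orderOf (fun g => ((μh g : ℂˣ) : ℂ)) = r := by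
    apply Nat.dvd_antisymm
    · apply orderOf_dvd_of_pow_eq_one
      funext g
      rw [Pi.pow_apply, ← Units.val_pow_eq_pow_val, hμr]
      rfl
    · rw [hr]
      apply orderOf_dvd_of_pow_eq_one
      funext n
      have := congrFun (pow_orderOf_eq_one (fun g => ((μh g : ℂˣ) : ℂ))) (n : G)
      rw [Pi.pow_apply] at this ⊢
      rw [← hfv, ← hμhN]
      exact this
  refine ⟨fun g => ((μh g : ℂˣ) : ℂ), ⟨isCharacter_of_hom μh, by simp, ?_, hμord⟩, ?_⟩
  · intro n
    show ((μh (n : G) : ℂˣ) : ℂ) = lam n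
    rw [hμhN, hfv]
  · intro μ' h' hres' hcop'
    funext g
    set f' : G →* ℂˣ := linCharHom h'.1 h'.2 with hf'
    have hf'v : ∀ g, ((f' g : ℂˣ) : ℂ) = μ' g := fun g => rfl
    show μ' g = ((μh g : ℂˣ) : ℂ)
    rw [← hf'v]
    congr 1
    have hgm : g ^ m ∈ N := N.pow_index_mem g
    have e1 : (f' g / μh g) ^ m = 1 := by
      rw [div_pow, ← map_pow, ← map_pow, div_eq_one]
      have h1 : f' (g ^ m) = f ⟨g ^ m, hgm⟩ := by
        apply Units.ext
        rw [hf'v, hfv]
        exact hres' ⟨g ^ m, hgm⟩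
      rw [h1]
      exact (hμhN ⟨g ^ m, hgm⟩).symm
    have e2 : (f' g / μh g) ^ (r * orderOf μ') = 1 := by
      rw [div_pow, div_eq_one]
      have h1 : f' g ^ (r * orderOf μ') = 1 := by
        rw [mul_comm, pow_mul]
        have : f' g ^ orderOf μ' = 1 := by
          apply Units.ext
          rw [Units.val_pow_eq_pow_val, hf'v]
          have := congrFun (pow_orderOf_eq_one μ') g
          simpa using this
        rw [this, one_pow]
      have h2 : μh g ^ (r * orderOf μ') = 1 := by
        rw [pow_mul, hμr, one_pow]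
      rw [h1, h2]
    have hc : Nat.Coprime m (r * orderOf μ') := Nat.Coprime.mul_right hcop hcop'
    have := pow_gcd_eq_one.mpr ⟨e1, e2⟩
    rw [Nat.Coprime.gcd_eq_one hc, pow_one] at this
    exact div_eq_one.mp this

end Cfsg.Agent.S0865
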