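-- Statement S4035: if p divides no p-regular class size then G = P × H.
import Cfsg.Statements.S4035

set_option autoImplicit false
open Cfsg

namespace Cfsg.Agent.S4035

open MulAction

/-- Burnside's lemma for a transitive action: the fixed-point numbers sum to the group order. -/
lemma burnside1 {G Ω : Type*} [Group G] [Fintype G] [MulAction G Ω] [Fintype Ω]
    [IsPretransitive G Ω] [Nonempty Ω] :
    ∑ g : G, Nat.card (fixedBy Ω g) = Fintype.card G := by
  classical
  let _ : Fintype (Quotient (orbitRel G Ω)) := Fintype.ofFinite _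
  have h := sum_card_fixedBy_eq_card_orbits_mul_card_group G Ω
  have h1 : Fintype.card (Quotient (orbitRel G Ω)) = 1 := by
    have hs : Subsingleton (Quotient (orbitRel G Ω)) :=
      (pretransitive_iff_subsingleton_quotient G Ω).mp inferInstance
    have hne : Nonempty (Quotient (orbitRel G Ω)) := ⟨Quotient.mk _ (Classical.arbitrary Ω)⟩
    exact le_antisymm (Fintype.card_le_one_iff_subsingleton.mpr hs) Fintype.card_pos
  simp only [Nat.card_eq_fintype_card]
  rw [h, h1, one_mul]

/-- The size of a conjugacy class is the index of the centraliser. -/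
lemma ncard_carrier_eq_index {G : Type*} [Group G] (x : G) :
    (ConjClasses.mk x).carrier.ncard = (Subgroup.centralizer ({x} : Set G)).index := by
  have h1 : (stabilizer (ConjAct G) x).index = (orbit (ConjAct G) x).ncard :=
    MulAction.index_stabilizer (ConjAct G) x
  have h2 : (Subgroup.comap (ConjAct.toConjAct (G := G)).toMonoidHom
      (stabilizer (ConjAct G) x)).index = (stabilizer (ConjAct G) x).index :=
    Subgroup.index_comap_of_surjective _ (ConjAct.toConjAct (G := G)).surjective
  calc (ConjClasses.mk x).carrier.ncard = (orbit (ConjAct G) x).ncard := by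
        rw [ConjAct.orbit_eq_carrier_conjClasses]
    _ = (stabilizer (ConjAct G) x).index := h1.symm
    _ = _ := h2.symm
    _ = (Subgroup.centralizer ({x} : Set G)).index :=
        (congrArg Subgroup.index (Subgroup.centralizer_eq_comap_stabilizer x)).symm

/-- A `p`-element of a subgroup of index prime to `p` lies in a Sylow `p`-subgroup of the whole
group contained in that subgroup. -/
lemma exists_sylow_le {G : Type*} [Group G] [Finite G] {p : ℕ} [Fact p.Prime] (C : Subgroup G)
    (hC : ¬ p ∣ C.index) (u : G) (huC : u ∈ C) (hu : ∃ k, orderOf u = p ^ k) :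
    ∃ Q : Sylow p G, u ∈ Q ∧ (Q : Subgroup G) ≤ C := by
  obtain ⟨k, hk⟩ := hu
  have hR0 : IsPGroup p (Subgroup.zpowers u) := IsPGroup.of_card (n := k) (by rw [Nat.card_zpowers, hk])
  have hR : IsPGroup p ((Subgroup.zpowers u).subgroupOf C) := hR0.comap_subtype
  obtain ⟨Q₀, hQ₀⟩ := hR.exists_le_sylow
  have hcard : Nat.card ((Q₀ : Subgroup C).map C.subtype) = p ^ (Nat.card G).factorization p := by
    rw [Subgroup.card_map_of_injective C.subtype_injective, Q₀.card_eq_multiplicity]
    congr 1
    have hidx : C.index ≠ 0 := Subgroup.index_ne_zero_of_finite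
    rw [← Subgroup.card_mul_index C, Nat.factorization_mul Nat.card_pos.ne' hidx,
      Finsupp.add_apply, Nat.factorization_eq_zero_of_not_dvd hC, add_zero]
  refine ⟨Sylow.ofCard _ hcard, ?_, ?_⟩
  · change u ∈ (Q₀ : Subgroup C).map C.subtype
    refine ⟨⟨u, huC⟩, hQ₀ ?_, rfl⟩
    rw [Subgroup.mem_subgroupOf]
    exact Subgroup.mem_zpowers u
  · change (Q₀ : Subgroup C).map C.subtype ≤ C
    exact Subgroup.map_subtype_le _

/-- Every element is the product of commuting powers of itself, one of `p`-power order and one of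
order prime to `p`. -/
lemma exists_decomp {G : Type*} [Group G] [Finite G] (p : ℕ) [Fact p.Prime] (y : G) :
    ∃ u z : G, u * z = y ∧ Commute u z ∧ (∃ k, orderOf u = p ^ k) ∧ (orderOf z).Coprime p := by
  have hp : p.Prime := Fact.out
  obtain ⟨k, m, hm, hn⟩ := Nat.exists_eq_pow_mul_and_not_dvd (orderOf_pos y).ne' p hp.ne_one
  have hcop : Nat.Coprime (p ^ k) m := Nat.Coprime.pow_left _ ((Nat.Prime.coprime_iff_not_dvd hp).mpr hm)
  have hb := Nat.gcd_eq_gcd_ab (p ^ k) m
  rw [hcop.gcd_eq_one] at hb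
  refine ⟨y ^ ((m : ℤ) * Nat.gcdB (p ^ k) m), y ^ (((p ^ k : ℕ) : ℤ) * Nat.gcdA (p ^ k) m),
    ?_, Commute.zpow_zpow_self y _ _, ?_, ?_⟩
  · rw [← zpow_add, add_comm, ← hb]
    simp
  · have h1 : (y ^ ((m : ℤ) * Nat.gcdB (p ^ k) m)) ^ (p ^ k) = 1 := by
      rw [← zpow_natCast, ← zpow_mul]
      have h2 : (m : ℤ) * Nat.gcdB (p ^ k) m * ((p ^ k : ℕ) : ℤ)
          = ((orderOf y : ℕ) : ℤ) * Nat.gcdB (p ^ k) m := by
        rw [hn]
        push_cast
        ring
      rw [h2, zpow_mul, zpow_natCast, pow_orderOf_eq_one, one_zpow]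
    obtain ⟨j, -, hj⟩ := (Nat.dvd_prime_pow hp).mp (orderOf_dvd_of_pow_eq_one h1)
    exact ⟨j, hj⟩
  · have h1 : (y ^ (((p ^ k : ℕ) : ℤ) * Nat.gcdA (p ^ k) m)) ^ m = 1 := by
      rw [← zpow_natCast, ← zpow_mul]
      have h2 : ((p ^ k : ℕ) : ℤ) * Nat.gcdA (p ^ k) m * (m : ℤ)
          = ((orderOf y : ℕ) : ℤ) * Nat.gcdA (p ^ k) m := by
        rw [hn]
        push_cast
        ring
      rw [h2, zpow_mul, zpow_natCast, pow_orderOf_eq_one, one_zpow]
    exact Nat.Coprime.coprime_dvd_left (orderOf_dvd_of_pow_eq_one h1)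
      ((Nat.Prime.coprime_iff_not_dvd hp).mpr hm).symm

/-- Let G be a finite group and p a prime such that p divides the size of no conjugacy class of p-regular elements (elements of order prime to p). Then G is the internal direct product of a Sylow p-subgroup P and a normal subgroup H of order prime to p: P is normal, P ⊓ H = 1 and PH = G. -/
theorem result {G : Type*} [Group G] [Finite G] {p : ℕ} [Fact p.Prime]
    (h : ∀ x : G, (orderOf x).Coprime p → ¬ p ∣ (ConjClasses.mk x).carrier.ncard) (P : Sylow p G) :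
    (P : Subgroup G).Normal ∧ ∃ H : Subgroup G, H.Normal ∧ ¬ p ∣ Nat.card H ∧
      (P : Subgroup G) ⊓ H = ⊥ ∧ (P : Subgroup G) ⊔ H = ⊤ := by
  classical
  have hp : p.Prime := Fact.out
  -- every element normalises some Sylow `p`-subgroup
  have hfix : ∀ y : G, ∃ Q : Sylow p G, y • Q = Q := by
    intro y
    obtain ⟨u, z, rfl, hcomm, hu, hz⟩ := exists_decomp p y
    have hC : ¬ p ∣ (Subgroup.centralizer ({z} : Set G)).index := by
      rw [← ncard_carrier_eq_index]
      exact h z hz
    have huC : u ∈ Subgroup.centralizer ({z} : Set G) := by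
      rw [Subgroup.mem_centralizer_singleton_iff]
      exact hcomm.eq
    obtain ⟨Q, huQ, hQC⟩ := exists_sylow_le _ hC u huC hu
    refine ⟨Q, ?_⟩
    rw [Sylow.smul_eq_iff_mem_normalizer]
    apply Subgroup.mul_mem
    · exact Subgroup.le_normalizer huQ
    · apply Subgroup.centralizer_le_normalizer
      rw [Subgroup.mem_centralizer_iff]
      intro a ha
      have h1 := hQC ha
      rw [Subgroup.mem_centralizer_singleton_iff] at h1
      exact h1
  -- hence the Sylow `p`-subgroup is unique
  have hsub : Subsingleton (Sylow p G) := by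
    let _ : Fintype G := Fintype.ofFinite G
    let _ : Fintype (Sylow p G) := Fintype.ofFinite _
    have hB := burnside1 (G := G) (Ω := Sylow p G)
    by_contra hns
    rw [not_subsingleton_iff_nontrivial] at hns
    have h1 : ∀ g : G, 1 ≤ Nat.card (fixedBy (Sylow p G) g) := fun g => by
      obtain ⟨Q, hQ⟩ := hfix g
      have : Nonempty (fixedBy (Sylow p G) g) := ⟨⟨Q, hQ⟩⟩
      exact Nat.card_pos
    have h2 : 2 ≤ Nat.card (fixedBy (Sylow p G) (1 : G)) := by
      obtain ⟨Q1, Q2, hne⟩ := exists_pair_ne (Sylow p G)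
      have : Nontrivial (fixedBy (Sylow p G) (1 : G)) :=
        ⟨⟨⟨Q1, one_smul _ _⟩, ⟨Q2, one_smul _ _⟩, fun h => hne (congrArg Subtype.val h)⟩⟩
      exact Finite.one_lt_card
    have h3 : Fintype.card G < ∑ g : G, Nat.card (fixedBy (Sylow p G) g) := by
      calc Fintype.card G = ∑ _g : G, 1 := by simp
        _ < ∑ g : G, Nat.card (fixedBy (Sylow p G) g) :=
          Finset.sum_lt_sum (fun g _ => h1 g) ⟨1, Finset.mem_univ _, h2⟩
    omega
  have hPn : (P : Subgroup G).Normal := Sylow.normal_of_subsingleton P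
  refine ⟨hPn, ?_⟩
  -- a complement by Schur–Zassenhaus
  obtain ⟨H, hH⟩ := Subgroup.exists_right_complement'_of_coprime (N := (P : Subgroup G))
    P.card_coprime_index
  have hHcard : Nat.card H = (P : Subgroup G).index := hH.symm.index_eq_card.symm
  have hHp : ¬ p ∣ Nat.card H := by
    rw [hHcard]
    exact P.not_dvd_index
  -- `H` centralises `P`
  have hHC : ∀ x ∈ H, ∀ a ∈ (P : Subgroup G), a * x = x * a := by
    intro x hx a ha
    have hxo : (orderOf x).Coprime p :=
      Nat.Coprime.coprime_dvd_left (Subgroup.orderOf_dvd_natCard H hx)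
        ((Nat.Prime.coprime_iff_not_dvd hp).mpr hHp).symm
    have hC : ¬ p ∣ (Subgroup.centralizer ({x} : Set G)).index := by
      rw [← ncard_carrier_eq_index]
      exact h x hxo
    obtain ⟨Q, -, hQC⟩ := exists_sylow_le _ hC 1 (one_mem _) ⟨0, by simp⟩
    have hQP : Q = P := Subsingleton.elim _ _
    rw [hQP] at hQC
    have h1 := hQC ha
    rw [Subgroup.mem_centralizer_singleton_iff] at h1
    exact h1
  refine ⟨H, ⟨fun x hx g => ?_⟩, hHp, disjoint_iff.mp hH.disjoint, hH.sup_eq_top⟩
  obtain ⟨⟨⟨a, ha⟩, ⟨b, hb⟩⟩, rfl⟩ := hH.2 g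
  have h1 : a * b * x * (a * b)⁻¹ = b * x * b⁻¹ := by
    have h2 : a * (b * x * b⁻¹) = (b * x * b⁻¹) * a :=
      hHC _ (H.mul_mem (H.mul_mem hb hx) (H.inv_mem hb)) a ha
    calc a * b * x * (a * b)⁻¹ = a * (b * x * b⁻¹) * a⁻¹ := by group
      _ = (b * x * b⁻¹) * a * a⁻¹ := by rw [h2]
      _ = b * x * b⁻¹ := by group
  change a * b * x * (a * b)⁻¹ ∈ H
  rw [h1]
  exact H.mul_mem (H.mul_mem hb hx) (H.inv_mem hb)

end Cfsg.Agent.S4035
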