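import Mathlib
import Cfsg.Statements.S4425
import Cfsg.Agent.Lib.Helper76.PRegChar

set_option autoImplicit false
open Cfsg

namespace Cfsg.Agent.S4425

open Cfsg.Agent.Lib.Helper16 Cfsg.Agent.Lib.Helper26 Cfsg.Agent.Lib.Helper76

/-- Let χ be an irreducible character of the finite group G, p a prime, p^a the p-part of the order of G and p^b the p-part of the degree χ(1). Let χ̃ be the class function equal to p^a · χ on p-regular elements and zero on p-singular elements. Then p^(−b) · χ̃ is a generalized character of G, while p^(−(b+1)) · χ̃ is not. -/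
theorem result {G : Type*} [Group G] [Finite G] (p : ℕ) [Fact p.Prime] (χ : Cfsg.IrrCharacter G) : Cfsg.IsGeneralizedCharacter G (fun x : G => if p ∣ orderOf x then (0 : ℂ) else ((p ^ ((Nat.card G).factorization p - (Cfsg.charDegree (χ : G → ℂ)).factorization p) : ℕ) : ℂ) * (χ : G → ℂ) x) ∧ ¬ Cfsg.IsGeneralizedCharacter G (fun x : G => if p ∣ orderOf x then (0 : ℂ) else ((p ^ (Nat.card G).factorization p : ℕ) : ℂ) / ((p ^ ((Cfsg.charDegree (χ : G → ℂ)).factorization p + 1) : ℕ) : ℂ) * (χ : G → ℂ) x) := by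
  classical
  refine ⟨isGen_pRegular p χ, ?_⟩
  intro hgen
  have hp : p.Prime := Fact.out
  have hp0 : (p : ℂ) ≠ 0 := by exact_mod_cast hp.ne_zero
  have : Fintype G := Fintype.ofFinite G
  obtain ⟨P⟩ : Nonempty (Sylow p G) := inferInstance
  have : Fintype (P : Subgroup G) := Fintype.ofFinite _
  have : Finite (Cfsg.IrrCharacter (P : Subgroup G)) := Cfsg.Agent.Lib.Helper81.irr_finite _
  have : Fintype (Cfsg.IrrCharacter (P : Subgroup G)) := Fintype.ofFinite _
  obtain ⟨h1, hpos, hdvd⟩ := Cfsg.Agent.Lib.Helper79.irr_charDegree χ.2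
  set d := Cfsg.charDegree (χ : G → ℂ) with hd
  set a := (Nat.card G).factorization p with ha
  set b := d.factorization p with hb
  set d' := d / p ^ b with hd'
  have hdd : p ^ b * d' = d := Nat.ordProj_mul_ordCompl_eq_self d p
  have hpd : ¬ p ∣ d' := Nat.not_dvd_ordCompl hp hpos.ne'
  have hPcard : Nat.card (P : Subgroup G) = p ^ a := P.card_eq_multiplicity
  set θ : G → ℂ := fun x : G => if p ∣ orderOf x then (0 : ℂ) else
    ((p ^ a : ℕ) : ℂ) / ((p ^ (b + 1) : ℕ) : ℂ) * (χ : G → ℂ) x with hθ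
  -- restriction to P
  have hres : Cfsg.IsGeneralizedCharacter (P : Subgroup G) (fun u : (P : Subgroup G) => θ u) := by
    obtain ⟨χ₁, χ₂, h₁, h₂, he⟩ := hgen
    refine ⟨fun u => χ₁ u, fun u => χ₂ u, Cfsg.Agent.Lib.Helper75.isCharacter_res _ h₁,
      Cfsg.Agent.Lib.Helper75.isCharacter_res _ h₂, ?_⟩
    funext u
    have := congrFun he (u : G)
    simpa using this
  have hone : Cfsg.IsGeneralizedCharacter (P : Subgroup G) (fun _ : (P : Subgroup G) => (1 : ℂ)) :=
    isGen_of_irr Cfsg.Agent.Lib.Helper81.isIrrCharacter_one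
  obtain ⟨z, hz⟩ := classInner_gen_int hres hone
  have hsum : ∑ u : (P : Subgroup G), θ u * (starRingEnd ℂ) (1 : ℂ) = θ 1 := by
    rw [Finset.sum_eq_single (1 : (P : Subgroup G))]
    · simp
    · intro u _ hu
      have hu' : p ∣ orderOf (u : G) := by
        obtain ⟨j, hj⟩ := (IsPGroup.iff_orderOf.mp P.2) u
        rw [Subgroup.orderOf_coe, hj]
        have hj0 : j ≠ 0 := by
          rintro rfl
          rw [pow_zero, orderOf_eq_one_iff] at hj
          exact hu hj
        exact dvd_pow_self p hj0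
      simp only [hθ]
      rw [if_pos hu', zero_mul]
    · intro h; exact absurd (Finset.mem_univ _) h
  have hθ1 : θ 1 = (p : ℂ) ^ a * (d' : ℂ) / (p : ℂ) := by
    simp only [hθ]
    rw [if_neg (by rw [orderOf_one]; exact hp.one_lt.ne' ∘ Nat.dvd_one.mp), h1, ← hdd]
    push_cast
    field_simp
    ring
  unfold Cfsg.classInner at hz
  rw [hsum, hθ1, hPcard] at hz
  have h2 : (d' : ℂ) = (p : ℂ) * (z : ℂ) := by
    rw [← hz]
    push_cast
    field_simp
  have h3 : (d' : ℤ) = (p : ℤ) * z := by exact_mod_cast h2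
  exact hpd (Int.natCast_dvd_natCast.mp ⟨z, h3⟩)

end Cfsg.Agent.S4425
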