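import Cfsg.Statements.S0188
import Cfsg.Agent.Lib.Helper74.CharSums
import Cfsg.Agent.Lib.Helper75.CharDecomp

set_option autoImplicit false
open Cfsg

namespace Cfsg.Agent.S0188

open Cfsg.Agent.Lib.Helper3 Cfsg.Agent.Lib.Helper74 Cfsg.Agent.Lib.Helper75
open scoped ComplexConjugate

/-- The product of two characters is a character of the direct product. -/
theorem isCharacter_prod {G : Type*} [Group G] {H : Type*} [Group H] {φ : G → ℂ} {ψ : H → ℂ}
    (hφ : Cfsg.IsCharacter G φ) (hψ : Cfsg.IsCharacter H ψ) :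
    Cfsg.IsCharacter (G × H) (fun x => φ x.1 * ψ x.2) := by
  obtain ⟨n, ρ, rfl⟩ := hφ
  obtain ⟨m, σ, rfl⟩ := hψ
  have h := isCharacter_character
    (Representation.tprod (ρ.comp (MonoidHom.fst G H)) (σ.comp (MonoidHom.snd G H)))
  rw [Representation.char_tensor] at h
  exact h

/-- The inner product of two product functions. -/
theorem classInner_prod {G : Type*} [Group G] [Fintype G] {H : Type*} [Group H] [Fintype H]
    (φ φ' : G → ℂ) (ψ ψ' : H → ℂ) :
    Cfsg.classInner (fun x : G × H => φ x.1 * ψ x.2) (fun x : G × H => φ' x.1 * ψ' x.2)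
      = Cfsg.classInner φ φ' * Cfsg.classInner ψ ψ' := by
  unfold Cfsg.classInner
  rw [Fintype.sum_prod_type, Nat.card_prod]
  push_cast
  rw [mul_inv]
  have h1 : ∑ x : G, ∑ y : H, φ x * ψ y * conj (φ' x * ψ' y)
      = (∑ x : G, φ x * conj (φ' x)) * (∑ y : H, ψ y * conj (ψ' y)) := by
    rw [Finset.sum_mul_sum]
    refine Finset.sum_congr rfl (fun x _ => Finset.sum_congr rfl (fun y _ => ?_))
    rw [map_mul]
    ring
  rw [h1]
  ring

/-- The product of two irreducible characters is an irreducible character. -/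
theorem isIrrCharacter_prod {G : Type*} [Group G] [Finite G] {H : Type*} [Group H] [Finite H]
    {φ : G → ℂ} {ψ : H → ℂ} (hφ : Cfsg.IsIrrCharacter G φ) (hψ : Cfsg.IsIrrCharacter H ψ) :
    Cfsg.IsIrrCharacter (G × H) (fun x => φ x.1 * ψ x.2) := by
  classical
  have := Fintype.ofFinite G
  have := Fintype.ofFinite H
  have := Fintype.ofFinite (Cfsg.IrrCharacter (G × H))
  apply isIrrCharacter_of_classInner_self
    (isCharacter_prod (isCharacter_of_irr hφ) (isCharacter_of_irr hψ))
  rw [classInner_prod, classInner_irr_self hφ, classInner_irr_self hψ, mul_one]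

/-- The irreducible characters of a direct product are the products of irreducible
characters of the factors. -/
theorem result {G : Type*} [Group G] [Finite G] {H : Type*} [Group H] [Finite H] (θ : G × H → ℂ) : Cfsg.IsIrrCharacter (G × H) θ ↔ ∃ (φ : G → ℂ) (ψ : H → ℂ), Cfsg.IsIrrCharacter G φ ∧ Cfsg.IsIrrCharacter H ψ ∧ θ = fun x => φ x.1 * ψ x.2 := by
  classical
  have := Fintype.ofFinite G
  have := Fintype.ofFinite H
  have := Fintype.ofFinite (Cfsg.IrrCharacter G)
  have := Fintype.ofFinite (Cfsg.IrrCharacter H)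
  have := Fintype.ofFinite (Cfsg.IrrCharacter (G × H))
  constructor
  · intro hθ
    set F : Cfsg.IrrCharacter G × Cfsg.IrrCharacter H → Cfsg.IrrCharacter (G × H) :=
      fun q => ⟨fun x => (q.1 : G → ℂ) x.1 * (q.2 : H → ℂ) x.2, isIrrCharacter_prod q.1.2 q.2.2⟩
      with hF
    have hFinj : Function.Injective F := by
      intro q q' hq
      have h1 : Cfsg.classInner (fun x : G × H => (q.1 : G → ℂ) x.1 * (q.2 : H → ℂ) x.2)
          (fun x : G × H => (q'.1 : G → ℂ) x.1 * (q'.2 : H → ℂ) x.2) = 1 := by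
        have h2 := congrArg (fun θ : Cfsg.IrrCharacter (G × H) => (θ : G × H → ℂ)) hq
        simp only [hF] at h2
        rw [← h2]
        exact classInner_irr_self (F q).2
      rw [classInner_prod] at h1
      have ha : q.1 = q'.1 := by
        by_contra hne
        rw [classInner_irr_ne q.1.2 q'.1.2 (fun h => hne (Subtype.ext h)), zero_mul] at h1
        exact zero_ne_one h1
      have hb : q.2 = q'.2 := by
        by_contra hne
        rw [classInner_irr_ne q.2.2 q'.2.2 (fun h => hne (Subtype.ext h)), mul_zero] at h1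
        exact zero_ne_one h1
      exact Prod.ext ha hb
    -- sum of squares over the image
    have hS : ∑ θ ∈ Finset.univ.image F, (θ : G × H → ℂ) 1 * (θ : G × H → ℂ) 1
        = (Nat.card G : ℂ) * (Nat.card H : ℂ) := by
      rw [Finset.sum_image (fun a _ b _ h => hFinj h), Fintype.sum_prod_type]
      rw [← sum_irr_degree_sq (G := G), ← sum_irr_degree_sq (G := H), Finset.sum_mul_sum]
      refine Finset.sum_congr rfl (fun a _ => Finset.sum_congr rfl (fun b _ => ?_))
      simp only [hF]
      change (a : G → ℂ) 1 * (b : H → ℂ) 1 * ((a : G → ℂ) 1 * (b : H → ℂ) 1) = _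
      ring
    have hT : ∑ θ : Cfsg.IrrCharacter (G × H), (θ : G × H → ℂ) 1 * (θ : G × H → ℂ) 1
        = (Nat.card G : ℂ) * (Nat.card H : ℂ) := by
      rw [sum_irr_degree_sq, Nat.card_prod]
      push_cast
      rfl
    have hcompl : ∑ θ ∈ (Finset.univ.image F)ᶜ, (θ : G × H → ℂ) 1 * (θ : G × H → ℂ) 1 = 0 := by
      have := Finset.sum_add_sum_compl (Finset.univ.image F)
        (fun θ : Cfsg.IrrCharacter (G × H) => (θ : G × H → ℂ) 1 * (θ : G × H → ℂ) 1)
      rw [hS, hT] at this
      exact left_eq_add.mp this.symm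
    have hcomplN : ∑ θ ∈ (Finset.univ.image F)ᶜ,
        Cfsg.charDegree (θ : G × H → ℂ) * Cfsg.charDegree (θ : G × H → ℂ) = 0 := by
      have h3 : ((∑ θ ∈ (Finset.univ.image F)ᶜ,
          Cfsg.charDegree (θ : G × H → ℂ) * Cfsg.charDegree (θ : G × H → ℂ) : ℕ) : ℂ) = 0 := by
        rw [← hcompl]
        push_cast
        exact Finset.sum_congr rfl (fun θ _ => by rw [(irr_charDegree θ).2])
      exact_mod_cast h3
    have hmem : (⟨θ, hθ⟩ : Cfsg.IrrCharacter (G × H)) ∈ Finset.univ.image F := by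
      by_contra hnot
      have h4 := (Finset.sum_eq_zero_iff.1 hcomplN) ⟨θ, hθ⟩ (Finset.mem_compl.2 hnot)
      have h5 := (irr_charDegree (⟨θ, hθ⟩ : Cfsg.IrrCharacter (G × H))).1
      have h6 : 0 < Cfsg.charDegree θ * Cfsg.charDegree θ := Nat.mul_pos h5 h5
      exact absurd h4 h6.ne'
    obtain ⟨q, -, hq⟩ := Finset.mem_image.1 hmem
    refine ⟨q.1, q.2, q.1.2, q.2.2, ?_⟩
    have := congrArg (fun θ : Cfsg.IrrCharacter (G × H) => (θ : G × H → ℂ)) hq
    exact this.symm
  · rintro ⟨φ, ψ, hφ, hψ, rfl⟩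
    exact isIrrCharacter_prod hφ hψ

end Cfsg.Agent.S0188
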