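import Mathlib
import Cfsg.Statements.S0912
import Cfsg.Agent.Lib.Helper77.NormalP
import Cfsg.Agent.Lib.Helper84.PCoreBasic

set_option autoImplicit false
open Cfsg

namespace Cfsg.Agent.S0912

open Cfsg.Agent.Lib.Helper77 Cfsg.Agent.Lib.Helper16

/-- Let B be a block of the finite group G relative to a maximal ideal M of the algebraic integers containing the prime p. Every defect group of B contains the largest normal p-subgroup O_p(G). -/
theorem result {G : Type*} [Group G] [Finite G] (p : ℕ) [Fact p.Prime] (M : Ideal Cfsg.AlgInt) (hM : Cfsg.IsPModular p M) (B : Set (Cfsg.IrrCharacter G)) (hB : Cfsg.IsPBlock M B) (D : Subgroup G) (hD : Cfsg.IsDefectGroup p M B D) : Cfsg.pCore p G ≤ D := by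
  classical
  have := Fintype.ofFinite G
  have hMp := isPrime_of_isPModular hM
  obtain ⟨g, hg, P, rfl⟩ := hD
  have hN : (Cfsg.pCore p G).Normal := Subgroup.sSup_normal _ (fun _ hK => hK.1)
  have hPG : IsPGroup p (Cfsg.pCore p G) := Cfsg.Agent.Lib.Helper84.pCore_isPGroup p G
  have hgC : g ∈ Subgroup.centralizer ((Cfsg.pCore p G : Subgroup G) : Set G) := by
    by_contra hcon
    have h0 := blockCoeff_eq_zero_of_not_mem_centralizer hM (Cfsg.pCore p G) hPG B hB g hcon
    exact hg.2.1 (h0 ▸ memLocalIdeal_zero hMp)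
  have hle : Cfsg.pCore p G ≤ Subgroup.centralizer ({g} : Set G) := by
    intro x hx
    rw [Subgroup.mem_centralizer_iff]
    intro y hy
    rw [Set.mem_singleton_iff] at hy
    subst hy
    exact ((Subgroup.mem_centralizer_iff.mp hgC) x hx).symm
  have hN' : ((Cfsg.pCore p G).subgroupOf (Subgroup.centralizer ({g} : Set G))).Normal :=
    inferInstance
  have hp' : IsPGroup p ((Cfsg.pCore p G).subgroupOf (Subgroup.centralizer ({g} : Set G))) :=
    hPG.comap_subtype
  have h1 := Cfsg.Agent.Lib.Helper84.normal_pgroup_le_sylow hN' hp' P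
  intro x hx
  exact ⟨⟨x, hle hx⟩, h1 (by simpa [Subgroup.mem_subgroupOf] using hx), rfl⟩

end Cfsg.Agent.S0912
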