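import Mathlib
import Cfsg.Statements.S0917
import Cfsg.Agent.Lib.Helper16.Induced

set_option autoImplicit false
open Cfsg

namespace Cfsg.Agent.S0917

open Cfsg.Agent.Lib.Helper16

/-- Let H be a subgroup of the finite group G, p a prime and M a maximal ideal of the algebraic integers containing p. If the block b of H induces the block B of G relative to M, then every defect group of b (a subgroup of H, viewed in G) is contained in some defect group of B. -/
theorem result {G : Type*} [Group G] [Finite G] (p : ℕ) [Fact p.Prime] (M : Ideal Cfsg.AlgInt) (hM : Cfsg.IsPModular p M) (H : Subgroup G) (b : Set (Cfsg.IrrCharacter H)) (hb : Cfsg.IsPBlock M b) (B : Set (Cfsg.IrrCharacter G)) (hB : Cfsg.IsPBlock M B) (hind : Cfsg.IsInducedBlock M H b B) (D : Subgroup H) (hD : Cfsg.IsDefectGroup p M b D) : ∃ E : Subgroup G, Cfsg.IsDefectGroup p M B E ∧ D.map H.subtype ≤ E := by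
  classical
  have : Fintype G := Fintype.ofFinite G
  have : Fintype H := Fintype.ofFinite H
  have hMp := isPrime_of_isPModular hM
  obtain ⟨ξ0, hξ0⟩ := IsPBlock.nonempty hMp hb
  obtain ⟨χ0, hχ0⟩ := IsPBlock.nonempty hMp hB
  obtain ⟨h0, hh0, P0, rfl⟩ := hD
  -- the central character of `b` does not vanish on the restriction of the idempotent of `B`
  have hA := omega_resFun_sub hMp H (ξ0 : H → ℂ) χ0 (fun g => hind.2.2 ξ0 hξ0 χ0 hχ0 g)
    (isRClass_blockCoeff hMp hB)
  rw [omega_blockCoeff hMp hB χ0, if_pos hχ0] at hA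
  have hne : ¬ Cfsg.MemLocalIdeal M (omega (ξ0 : H → ℂ) (resFun H (Cfsg.blockCoeff B))) := by
    intro hcon
    apply not_memLocalIdeal_one hMp
    have := memLocalIdeal_sub hMp hcon hA
    rwa [sub_sub_cancel] at this
  obtain ⟨l, hl1, hl2⟩ := exists_not_memLocalIdeal_of_omega hMp ξ0
    (isRClass_resFun H (isRClass_blockCoeff hMp hB)) hne
  -- min-max in `H`
  have hDp : IsPGroup p ((P0 : Subgroup (Subgroup.centralizer ({h0} : Set H))).map
      (Subgroup.centralizer ({h0} : Set H)).subtype) := P0.isPGroup'.map _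
  have hh0D : h0 ∈ Subgroup.centralizer
      ((((P0 : Subgroup (Subgroup.centralizer ({h0} : Set H))).map
      (Subgroup.centralizer ({h0} : Set H)).subtype : Subgroup H)) : Set H) := by
    rw [Subgroup.mem_centralizer_iff]
    rintro _ ⟨d, -, rfl⟩
    have := Subgroup.mem_centralizer_iff.mp d.2 h0 (Set.mem_singleton h0)
    exact this.symm
  obtain ⟨c, hc1, hc2⟩ := Cfsg.Agent.Lib.Helper77.exists_isConj_mem_centralizer hM b hb l
    ⟨ξ0, hξ0, hl2⟩ h0 hh0.2.1 _ hDp hh0D
  have hBc : ¬ Cfsg.MemLocalIdeal M (Cfsg.blockCoeff B (c : G)) := by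
    obtain ⟨t, ht⟩ := isConj_iff.mp hc1
    have : (c : G) = (t : G) * (l : G) * (t : G)⁻¹ := by rw [← ht]; simp
    rw [this, Cfsg.Agent.Lib.Helper77.blockCoeff_conj]
    exact hl1
  -- min-max in `G`
  obtain ⟨g0, hg0⟩ := Cfsg.Agent.Lib.Helper77.exists_isDefectClass hMp B hB
  have hQp : IsPGroup p ((((P0 : Subgroup (Subgroup.centralizer ({h0} : Set H))).map
      (Subgroup.centralizer ({h0} : Set H)).subtype).map H.subtype : Subgroup G)) := hDp.map _
  have hcQ : (c : G) ∈ Subgroup.centralizer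
      (((((P0 : Subgroup (Subgroup.centralizer ({h0} : Set H))).map
      (Subgroup.centralizer ({h0} : Set H)).subtype).map H.subtype : Subgroup G)) : Set G) := by
    rw [Subgroup.mem_centralizer_iff]
    rintro _ ⟨d, hd, rfl⟩
    have := Subgroup.mem_centralizer_iff.mp hc2 d hd
    exact congrArg Subtype.val this
  obtain ⟨c', hc'1, hc'2⟩ := Cfsg.Agent.Lib.Helper77.exists_isConj_mem_centralizer hM B hB g0
    ⟨χ0, hχ0, hg0.2.2 χ0 hχ0⟩ (c : G) hBc _ hQp hcQ
  obtain ⟨t, ht⟩ := isConj_iff.mp hc'1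
  have hc'def : Cfsg.IsDefectClass M B c' := ht ▸ Cfsg.Agent.Lib.Helper77.isDefectClass_conj hg0 t
  obtain ⟨Q, hQ⟩ := Cfsg.Agent.Lib.Helper77.exists_sylow_centralizer_ge p _ hQp c'
    (fun r hr => (Subgroup.mem_centralizer_iff.mp hc'2 r hr))
  exact ⟨_, ⟨c', hc'def, Q, rfl⟩, hQ⟩

end Cfsg.Agent.S0917
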