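import Mathlib
import Cfsg.Statements.S0228

set_option autoImplicit false
open Cfsg

namespace Cfsg.Agent.S0228

/-- A group of order 12 in which no involution is central is isomorphic to the alternating group on four letters. -/
theorem result {G : Type*} [Group G] [Finite G] (hG : Nat.card G = 12) (hz : ∀ z : G, orderOf z = 2 → z ∉ Subgroup.center G) : Nonempty (G ≃* alternatingGroup (Fin 4)) := by
  classical
  have h3 : Fact (Nat.Prime 3) := ⟨by norm_num⟩
  have h2 : Fact (Nat.Prime 2) := ⟨by norm_num⟩
  obtain ⟨P, hPcard⟩ := Sylow.exists_subgroup_card_pow_prime (G := G) 3 (n := 1)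
    (by rw [hG]; norm_num)
  obtain ⟨Q, hQcard⟩ := Sylow.exists_subgroup_card_pow_prime (G := G) 2 (n := 2)
    (by rw [hG]; norm_num)
  norm_num at hPcard hQcard
  by_cases hP : P.Normal
  · exfalso
    -- generator of P
    have hPne : P ≠ ⊥ := by
      intro h
      rw [h, Subgroup.card_bot] at hPcard
      omega
    obtain ⟨x, hx1⟩ := (Subgroup.ne_bot_iff_exists_ne_one).1 hPne
    have hx1' : (x : G) ≠ 1 := fun h => hx1 (Subtype.ext h)
    have hzle : Subgroup.zpowers (x : G) ≤ P := by
      rw [Subgroup.zpowers_le]; exact x.2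
    have hox : orderOf (x : G) = 3 := by
      have hd : orderOf (x : G) ∣ 3 := by
        rw [← hPcard, ← Nat.card_zpowers]
        exact Subgroup.card_dvd_of_le hzle
      rcases (Nat.dvd_prime (by norm_num : Nat.Prime 3)).1 hd with h | h
      · exact absurd (orderOf_eq_one_iff.1 h) hx1'
      · exact h
    have hzeq : Subgroup.zpowers (x : G) = P := by
      apply Subgroup.eq_of_le_of_card_ge hzle
      rw [Nat.card_zpowers, hox, hPcard]
    -- K = C_Q(x) is nontrivial
    have hK : Q ⊓ Subgroup.centralizer {(x : G)} ≠ ⊥ := by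
      intro hbot
      have hinj : Function.Injective (fun q : Q => (⟨(q : G) * x * (q : G)⁻¹,
          hP.conj_mem _ x.2 _⟩ : P)) := by
        intro q₁ q₂ h
        have h' : (q₁ : G) * x * (q₁ : G)⁻¹ = (q₂ : G) * x * (q₂ : G)⁻¹ := congrArg Subtype.val h
        have hmem : (q₂ : G)⁻¹ * (q₁ : G) ∈ Q ⊓ Subgroup.centralizer {(x : G)} := by
          refine ⟨Q.mul_mem (Q.inv_mem q₂.2) q₁.2, ?_⟩
          show (q₂ : G)⁻¹ * (q₁ : G) ∈ Subgroup.centralizer {(x : G)}
          rw [Subgroup.mem_centralizer_iff]
          intro y hy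
          rw [Set.mem_singleton_iff] at hy
          subst hy
          have : (x : G) = (q₂ : G)⁻¹ * ((q₁ : G) * x * (q₁ : G)⁻¹) * q₂ := by
            rw [h']; group
          calc (x : G) * ((q₂ : G)⁻¹ * q₁)
              = ((q₂ : G)⁻¹ * ((q₁ : G) * x * (q₁ : G)⁻¹) * q₂) * ((q₂ : G)⁻¹ * q₁) := by
                rw [← this]
            _ = (q₂ : G)⁻¹ * q₁ * x := by group
        rw [hbot, Subgroup.mem_bot] at hmem
        apply Subtype.ext
        have : (q₁ : G) = q₂ := by
          have := congrArg (fun z => (q₂ : G) * z) hmem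
          simpa using this
        exact this
      have := Nat.card_le_card_of_injective _ hinj
      omega
    -- an involution t in K
    have hKdvd : Nat.card ↥(Q ⊓ Subgroup.centralizer {(x : G)}) ∣ 4 := by
      rw [← hQcard]; exact Subgroup.card_dvd_of_le inf_le_left
    have hKne1 : Nat.card ↥(Q ⊓ Subgroup.centralizer {(x : G)}) ≠ 1 := by
      intro h
      exact hK (Subgroup.card_eq_one.1 h)
    have h2K : 2 ∣ Nat.card ↥(Q ⊓ Subgroup.centralizer {(x : G)}) := by
      have hle := Nat.le_of_dvd (by norm_num) hKdvd
      have hpos : 0 < Nat.card ↥(Q ⊓ Subgroup.centralizer {(x : G)}) := Nat.card_pos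
      generalize Nat.card ↥(Q ⊓ Subgroup.centralizer {(x : G)}) = m at *
      interval_cases m <;> simp_all
    obtain ⟨t, ht⟩ := exists_prime_orderOf_dvd_card' 2 h2K
    have ht2 : orderOf (t : G) = 2 := by rw [Subgroup.orderOf_coe]; exact ht
    have htQ : (t : G) ∈ Q := t.2.1
    have htx : (x : G) * t = t * x := by
      have : (t : G) ∈ Subgroup.centralizer {(x : G)} := t.2.2
      rw [Subgroup.mem_centralizer_iff] at this
      exact this x rfl
    -- centralizer of t is everything
    have hPle : P ≤ Subgroup.centralizer {(t : G)} := by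
      intro y hy
      rw [← hzeq] at hy
      obtain ⟨k, rfl⟩ := Subgroup.mem_zpowers_iff.1 hy
      rw [Subgroup.mem_centralizer_iff]
      intro z hz
      rw [Set.mem_singleton_iff] at hz
      subst hz
      have hc : Commute (t : G) (x : G) := htx.symm
      exact (hc.zpow_right k).eq
    have hQle : Q ≤ Subgroup.centralizer {(t : G)} := by
      intro y hy
      rw [Subgroup.mem_centralizer_iff]
      intro z hz
      rw [Set.mem_singleton_iff] at hz
      subst hz
      have hcomm := (IsPGroup.isMulCommutative_of_card_eq_prime_sq (p := 2) (G := Q)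
        (by rw [hQcard]; norm_num)).is_comm.comm
      have := hcomm ⟨t, htQ⟩ ⟨y, hy⟩
      exact congrArg Subtype.val this
    have hd3 : 3 ∣ Nat.card ↥(Subgroup.centralizer {(t : G)}) := by
      rw [← hPcard]; exact Subgroup.card_dvd_of_le hPle
    have hd4 : 4 ∣ Nat.card ↥(Subgroup.centralizer {(t : G)}) := by
      rw [← hQcard]; exact Subgroup.card_dvd_of_le hQle
    have hd12 : Nat.card ↥(Subgroup.centralizer {(t : G)}) ∣ 12 := by
      rw [← hG]; exact Subgroup.card_subgroup_dvd_card _
    have hc12 : Nat.card ↥(Subgroup.centralizer {(t : G)}) = 12 := by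
      have hle := Nat.le_of_dvd (by norm_num) hd12
      generalize Nat.card ↥(Subgroup.centralizer {(t : G)}) = m at *
      interval_cases m <;> omega
    have htop : Subgroup.centralizer {(t : G)} = ⊤ := by
      apply Subgroup.eq_top_of_card_eq
      rw [hc12, hG]
    apply hz t ht2
    rw [Subgroup.mem_center_iff]
    intro g
    have : g ∈ Subgroup.centralizer {(t : G)} := by rw [htop]; exact Subgroup.mem_top g
    rw [Subgroup.mem_centralizer_iff] at this
    exact (this t rfl).symm
  · have hcore : P.normalCore = ⊥ := by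
      have hle : P.normalCore ≤ P := Subgroup.normalCore_le P
      have : Fact (Nat.card P).Prime := ⟨by rw [hPcard]; norm_num⟩
      rcases (P.normalCore.subgroupOf P).eq_bot_or_eq_top_of_prime_card with h | h
      · rw [Subgroup.subgroupOf_eq_bot] at h
        exact (disjoint_of_le_iff_left_eq_bot hle).1 h
      · rw [Subgroup.subgroupOf_eq_top] at h
        exfalso
        apply hP
        have : P.normalCore = P := le_antisymm hle h
        rw [← this]
        infer_instance
    have hker : (MulAction.toPermHom G (G ⧸ P)).ker = ⊥ := by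
      rw [← Subgroup.normalCore_eq_ker]; exact hcore
    have hinj : Function.Injective (MulAction.toPermHom G (G ⧸ P)) :=
      (MonoidHom.ker_eq_bot_iff _).1 hker
    have hcardR : Nat.card (MulAction.toPermHom G (G ⧸ P)).range = 12 := by
      rw [← hG]; exact (Nat.card_congr (MonoidHom.ofInjective hinj).toEquiv).symm
    have hcardQ : Nat.card (G ⧸ P) = 4 := by
      have := Subgroup.card_mul_index P
      rw [hPcard, hG] at this
      unfold Subgroup.index at this
      omega
    have : Fintype (G ⧸ P) := Fintype.ofFinite _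
    have hcardPerm : Nat.card (Equiv.Perm (G ⧸ P)) = 24 := by
      rw [Nat.card_perm, hcardQ]; rfl
    have hidx : (MulAction.toPermHom G (G ⧸ P)).range.index = 2 := by
      have := Subgroup.card_mul_index (MulAction.toPermHom G (G ⧸ P)).range
      rw [hcardR, hcardPerm] at this
      omega
    have hR := Equiv.Perm.eq_alternatingGroup_of_index_eq_two hidx
    have e1 : G ≃* (MulAction.toPermHom G (G ⧸ P)).range := MonoidHom.ofInjective hinj
    have e2 : (MulAction.toPermHom G (G ⧸ P)).range ≃* alternatingGroup (G ⧸ P) :=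
      MulEquiv.subgroupCongr hR
    have e0 : (G ⧸ P) ≃ Fin 4 := Finite.equivFinOfCardEq hcardQ
    exact ⟨(e1.trans e2).trans (Equiv.altCongrHom e0)⟩

end Cfsg.Agent.S0228
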