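import Cfsg.Statements.S1012
import Cfsg.Agent.Lib.Helper17.Small
import Cfsg.Agent.Lib.Helper17.Simple

set_option autoImplicit false
open Cfsg
open Cfsg.Agent.Lib.Helper17

namespace Cfsg.Agent.S1012

/-- A group of order 24 containing no element of order 6 is isomorphic to the symmetric group of degree 4. -/
theorem result {G : Type*} [Group G] [Finite G] (h : Nat.card G = 24) (h6 : ∀ g : G, orderOf g ≠ 6) : Nonempty (G ≃* Equiv.Perm (Fin 4)) := by
  have i2 : Fact (Nat.Prime 2) := ⟨by norm_num⟩
  have i3 : Fact (Nat.Prime 3) := ⟨by norm_num⟩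
  -- an element of order 3 and an element of order 2 cannot commute
  have hno : ∀ x t : G, orderOf x = 3 → orderOf t = 2 → Commute x t → False := by
    intro x t hx ht hc
    have := hc.orderOf_mul_eq_mul_orderOf_of_coprime (by rw [hx, ht]; norm_num)
    rw [hx, ht] at this
    exact h6 _ this
  have hfixcomm : ∀ x t : G, x * t * x⁻¹ = t → Commute x t := by
    intro x t hfix
    have : x * t = t * x := by
      calc x * t = x * t * x⁻¹ * x := by group
        _ = t * x := by rw [hfix]
    exact this
  obtain ⟨x₀, hx₀⟩ := exists_prime_orderOf_dvd_card' (G := G) 3 (by rw [h]; norm_num)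
  have hP : ∀ P : Sylow 3 G, Nat.card (P : Subgroup G) = 3 := by
    intro P
    have := card_sylow_eq_of_card_eq (G := G) 3 1 8 (by rw [h]; norm_num) (by norm_num) P
    simpa using this
  have hc := card_sylow_mem_cands (G := G) 3 1 8 (by rw [h]; norm_num) (by norm_num)
  have hcl : sylowCands 3 8 = [1, 4] := by decide +kernel
  rw [hcl] at hc
  simp only [List.mem_cons, List.not_mem_nil, or_false] at hc
  rcases hc with hc | hc
  · -- a normal Sylow 3-subgroup: its centralizer has even order
    exfalso
    have hsub : Subsingleton (Sylow 3 G) := (Nat.card_eq_one_iff_unique.mp hc).1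
    obtain ⟨P⟩ := (Sylow.nonempty : Nonempty (Sylow 3 G))
    have hn : (P : Subgroup G).Normal := Sylow.normal_of_subsingleton P
    obtain ⟨r1, r2⟩ := relIndex_centralizer_of_card_prime 3 (P : Subgroup G) (hP P)
    have hNtop : Nat.card (Subgroup.normalizer ((P : Subgroup G) : Set G)) = 24 := by
      rw [Subgroup.normalizer_eq_top, Subgroup.card_top, h]
    rw [hNtop] at r2
    have h2c : 2 ∣ Nat.card (Subgroup.centralizer ((P : Subgroup G) : Set G)) := by
      generalize (Subgroup.centralizer ((P : Subgroup G) : Set G)).relIndex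
        (Subgroup.normalizer ((P : Subgroup G) : Set G)) = ri at r1 r2
      generalize Nat.card (Subgroup.centralizer ((P : Subgroup G) : Set G)) = c at r2 ⊢
      have hri : ri ≤ 2 := Nat.le_of_dvd (by norm_num) r1
      interval_cases ri <;> omega
    obtain ⟨t, ht⟩ := exists_prime_orderOf_dvd_card'
      (G := ↥(Subgroup.centralizer ((P : Subgroup G) : Set G))) 2 h2c
    have ht2 : orderOf (t : G) = 2 := by rw [Subgroup.orderOf_coe]; exact ht
    obtain ⟨x, hx⟩ := exists_prime_orderOf_dvd_card' (G := ↥(P : Subgroup G)) 3 (by rw [hP P])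
    have hx3 : orderOf (x : G) = 3 := by rw [Subgroup.orderOf_coe]; exact hx
    have hcomm : Commute (x : G) (t : G) := Subgroup.mem_centralizer_iff.mp t.2 x x.2
    exact hno x t hx3 ht2 hcomm
  · -- four Sylow 3-subgroups: the conjugation action on them is faithful
    have hker : ∀ g : G, g ∈ (MulAction.toPermHom G (Sylow 3 G)).ker → ∀ P : Sylow 3 G,
        g ∈ Subgroup.normalizer ((P : Subgroup G) : Set G) := by
      intro g hg P
      have h0 : MulAction.toPermHom G (Sylow 3 G) g = 1 := hg
      have h1 : g • P = P := by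
        have := congrArg (fun σ : Equiv.Perm (Sylow 3 G) => σ P) h0
        simpa using this
      exact Sylow.smul_eq_iff_mem_normalizer.mp h1
    have hN : ∀ P : Sylow 3 G,
        Nat.card (Subgroup.normalizer ((P : Subgroup G) : Set G)) = 6 := by
      intro P
      have := card_sylow_mul_card_normalizer 3 P
      rw [hc, h] at this
      omega
    have hk3 : ∀ g : G, g ∈ (MulAction.toPermHom G (Sylow 3 G)).ker → orderOf g ≠ 3 := by
      intro g hg ho
      obtain ⟨P, Q, hPQ⟩ : ∃ P Q : Sylow 3 G, P ≠ Q := by
        by_contra hcon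
        push Not at hcon
        have hs : Subsingleton (Sylow 3 G) := ⟨hcon⟩
        have := Finite.card_le_one_iff_subsingleton.mpr hs
        omega
      have hgP := mem_sylow_of_mem_normalizer_of_orderOf 3 P g (hker g hg P) 1
        (by rw [ho, pow_one])
      have hgQ := mem_sylow_of_mem_normalizer_of_orderOf 3 Q g (hker g hg Q) 1
        (by rw [ho, pow_one])
      have hbot := inf_eq_bot_of_sylow_prime 3 P Q (hP P) hPQ
      have hmem : g ∈ (P : Subgroup G) ⊓ (Q : Subgroup G) := ⟨hgP, hgQ⟩
      rw [hbot, Subgroup.mem_bot] at hmem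
      rw [hmem, orderOf_one] at ho
      omega
    have hkbot : (MulAction.toPermHom G (Sylow 3 G)).ker = ⊥ := by
      by_contra hne
      obtain ⟨P⟩ := (Sylow.nonempty : Nonempty (Sylow 3 G))
      have hle : (MulAction.toPermHom G (Sylow 3 G)).ker ≤
          Subgroup.normalizer ((P : Subgroup G) : Set G) := fun g hg => hker g hg P
      have hd6 : Nat.card (MulAction.toPermHom G (Sylow 3 G)).ker ∣ 6 := by
        have := Subgroup.card_dvd_of_le hle
        rwa [hN P] at this
      have h3 : ¬ 3 ∣ Nat.card (MulAction.toPermHom G (Sylow 3 G)).ker := by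
        intro h3
        obtain ⟨y, hy⟩ := exists_prime_orderOf_dvd_card'
          (G := ↥(MulAction.toPermHom G (Sylow 3 G)).ker) 3 h3
        exact hk3 (y : G) y.2 (by rw [Subgroup.orderOf_coe]; exact hy)
      have hne1 : Nat.card (MulAction.toPermHom G (Sylow 3 G)).ker ≠ 1 := by
        intro h1
        exact hne (Subgroup.card_eq_one.mp h1)
      have hk2 : Nat.card (MulAction.toPermHom G (Sylow 3 G)).ker = 2 := by
        have hle6 : Nat.card (MulAction.toPermHom G (Sylow 3 G)).ker ≤ 6 :=
          Nat.le_of_dvd (by norm_num) hd6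
        generalize Nat.card (MulAction.toPermHom G (Sylow 3 G)).ker = k at hd6 h3 hne1 hle6 ⊢
        interval_cases k <;> omega
      have hx₀n : x₀ ∈ Subgroup.normalizer
          (((MulAction.toPermHom G (Sylow 3 G)).ker : Subgroup G) : Set G) := by
        rw [Subgroup.normalizer_eq_top]
        exact Subgroup.mem_top _
      obtain ⟨t, htK, ht1, hfix⟩ := exists_fixed_conj 3 (MulAction.toPermHom G (Sylow 3 G)).ker
        x₀ hx₀n 1 (by rw [pow_one, ← hx₀]; exact pow_orderOf_eq_one _) (by rw [hk2]; decide)
      have ht2 : orderOf t = 2 := by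
        have hd : orderOf t ∣ 2 := by
          have := Subgroup.orderOf_dvd_natCard _ htK
          rwa [hk2] at this
        rcases (Nat.dvd_prime Nat.prime_two).mp hd with h1 | h2
        · exact absurd (orderOf_eq_one_iff.mp h1) ht1
        · exact h2
      exact hno x₀ t hx₀ ht2 (hfixcomm x₀ t hfix)
    have hinj : Function.Injective (MulAction.toPermHom G (Sylow 3 G)) :=
      (MonoidHom.ker_eq_bot_iff _).mp hkbot
    have hbij : Function.Bijective (MulAction.toPermHom G (Sylow 3 G)) := by
      rw [Nat.bijective_iff_injective_and_card]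
      refine ⟨hinj, ?_⟩
      rw [Nat.card_perm, hc, h]
      rfl
    exact ⟨(MulEquiv.ofBijective (MulAction.toPermHom G (Sylow 3 G)) hbij).trans
      (Equiv.permCongrHom (Finite.equivFinOfCardEq hc))⟩

end Cfsg.Agent.S1012
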