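import Cfsg.Statements.S2503
import Cfsg.Agent.Lib.Helper41.SL2Cent

set_option autoImplicit false
open Cfsg

namespace Cfsg.Agent.S2503

open Cfsg.Agent.Lib.Helper41 Matrix

theorem upperU_mul {F : Type*} [Field F] (s t : F) : upperU s * upperU t = upperU (s + t) := by
  apply Subtype.ext
  rw [Matrix.SpecialLinearGroup.coe_mul, upperU_coe, upperU_coe, upperU_coe]
  ext i j
  fin_cases i <;> fin_cases j <;> simp [Matrix.mul_apply, Fin.sum_univ_two, add_comm]

theorem upperU_zero {F : Type*} [Field F] : upperU (0 : F) = 1 := by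
  apply Subtype.ext
  rw [upperU_coe]
  ext i j
  fin_cases i <;> fin_cases j <;> simp

theorem upperU_injective {F : Type*} [Field F] : Function.Injective (upperU (F := F)) := by
  intro s t h
  have h1 := congrArg (fun A : Matrix.SpecialLinearGroup (Fin 2) F => A.1 0 1) h
  simpa [upperU_coe] using h1

/-- the upper unitriangular subgroup -/
def upperB (F : Type*) [Field F] : Subgroup (Matrix.SpecialLinearGroup (Fin 2) F) where
  carrier := {g | ∃ s : F, g = upperU s}
  mul_mem' := by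
    rintro _ _ ⟨s, rfl⟩ ⟨t, rfl⟩
    exact ⟨s + t, upperU_mul s t⟩
  one_mem' := ⟨0, upperU_zero.symm⟩
  inv_mem' := by
    rintro _ ⟨s, rfl⟩
    refine ⟨-s, ?_⟩
    rw [inv_eq_iff_mul_eq_one, upperU_mul, add_neg_cancel, upperU_zero]

theorem mem_upperB {F : Type*} [Field F] (g : Matrix.SpecialLinearGroup (Fin 2) F) :
    g ∈ upperB F ↔ ∃ s : F, g = upperU s := Iff.rfl

/-- in characteristic two an element of order `q + 1` is non-split -/
theorem nonsplit_of_orderOf {F : Type*} [Field F] [Fintype F] (h20 : (2 : F) = 0)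
    (h4 : 4 ≤ Fintype.card F) (W : Matrix.SpecialLinearGroup (Fin 2) F)
    (hW : orderOf W = Fintype.card F + 1) : ∀ l : F, l * l + W.1.trace * l + 1 ≠ 0 := by
  have hneg : (-1 : Matrix (Fin 2) (Fin 2) F) = 1 := by
    have : (-1 : F) = 1 := by linear_combination -h20
    ext i j
    fin_cases i <;> fin_cases j <;> simp [this]
  intro l hl
  have hl' : l * l - W.1.trace * l + 1 = 0 := by
    linear_combination hl - (W.1.trace * l) * h20
  by_cases hl2 : l * l = 1
  · have hl1 : l = 1 := by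
      have : (l + 1) * (l + 1) = 0 := by linear_combination hl2 + (l + 1) * h20
      have := mul_self_eq_zero.mp this
      linear_combination this - h20
    have ht : W.1.trace = 0 := by
      rw [hl1] at hl
      linear_combination hl - h20
    have hc := cayley2_det_one W.det_coe
    rw [ht, zero_smul, zero_sub, hneg] at hc
    have hW2 : W ^ 2 = 1 := by
      apply sl2_pow_eq_one_of_coe
      rw [pow_two, hc]
    have := Nat.le_of_dvd (by norm_num) (orderOf_dvd_of_pow_eq_one hW2)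
    omega
  · have hl0 : l ≠ 0 := by
      rintro rfl
      simp at hl
    have hpow := pow_eq_one_of_split W.det_coe hl' hl2 (Fintype.card F - 1)
      (FiniteField.pow_card_sub_one_eq_one l hl0)
    have hWp : W ^ (Fintype.card F - 1) = 1 := sl2_pow_eq_one_of_coe hpow
    have := Nat.le_of_dvd (by omega) (orderOf_dvd_of_pow_eq_one hWp)
    omega

/-- a companion element of order `q + 1` -/
theorem exists_companion {F : Type*} [Field F] [Fintype F] (h20 : (2 : F) = 0)
    (h4 : 4 ≤ Fintype.card F) :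
    ∃ (W₀ : Matrix.SpecialLinearGroup (Fin 2) F) (τ : F), orderOf W₀ = Fintype.card F + 1 ∧
      W₀.1 = !![0, 1; 1, τ] := by
  have hchar : CharP F 2 := CharTwo.of_one_ne_zero_of_two_eq_zero one_ne_zero h20
  have hfact : Fact (Nat.Prime 2) := ⟨Nat.prime_two⟩
  obtain ⟨W, hW⟩ := exists_sl2_orderOf_card_add_one (F := F) 2
  have hneg : (-1 : Matrix (Fin 2) (Fin 2) F) = 1 := by
    have : (-1 : F) = 1 := by linear_combination -h20
    ext i j
    fin_cases i <;> fin_cases j <;> simp [this]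
  have hWc : W ∉ Subgroup.center (Matrix.SpecialLinearGroup (Fin 2) F) := by
    intro h
    rw [sl2_mem_center_iff, hneg, or_self] at h
    have h1 : W = 1 := Subtype.ext h
    rw [h1, orderOf_one] at hW
    omega
  obtain ⟨P, c, hc, hP⟩ := conj_companion W hWc
  obtain ⟨s, hs⟩ := exists_sqrt_of_two_eq_zero h20 c
  have hs0 : s ≠ 0 := by
    rintro rfl
    rw [mul_zero] at hs
    exact hc hs.symm
  refine ⟨diagD (Units.mk0 s hs0) * (P * W * P⁻¹) * (diagD (Units.mk0 s hs0))⁻¹, W.1.trace, ?_, ?_⟩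
  · have e : diagD (Units.mk0 s hs0) * (P * W * P⁻¹) * (diagD (Units.mk0 s hs0))⁻¹ =
        MulAut.conj (diagD (Units.mk0 s hs0) * P) W := by
      rw [MulAut.conj_apply]
      group
    rw [e]
    have := orderOf_injective (MulAut.conj (diagD (Units.mk0 s hs0) * P)).toMonoidHom
      (MulAut.conj (diagD (Units.mk0 s hs0) * P)).injective W
    rw [← hW, ← this]
    rfl
  · simp only [Matrix.SpecialLinearGroup.coe_mul, Matrix.SpecialLinearGroup.coe_inv] at hP ⊢
    rw [hP, diagD_coe, adjugate_fin_two]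
    have hm1 : (-1 : F) = 1 := by linear_combination -h20
    ext i j
    fin_cases i <;> fin_cases j <;>
      simp only [Matrix.mul_apply, Fin.sum_univ_two] <;> simp
    · field_simp
      rw [← hs]
      linear_combination (s * s) * hm1
    · field_simp
      rw [← hs]
      ring
    · field_simp

/-- `SL₂(2^t) = A B A` -/
theorem sl2_aba {F : Type*} [Field F] [Fintype F] (h20 : (2 : F) = 0) (h4 : 4 ≤ Fintype.card F) :
    ∃ W₀ : Matrix.SpecialLinearGroup (Fin 2) F, orderOf W₀ = Fintype.card F + 1 ∧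
      ∀ g : Matrix.SpecialLinearGroup (Fin 2) F, ∃ a ∈ Subgroup.zpowers W₀, ∃ s : F,
        ∃ c ∈ Subgroup.zpowers W₀, g = a * upperU s * c := by
  classical
  obtain ⟨W₀, τ, hord, hW₀⟩ := exists_companion h20 h4
  refine ⟨W₀, hord, ?_⟩
  have htr : W₀.1.trace = τ := by
    rw [hW₀, Matrix.trace_fin_two]
    simp
  have hno : ∀ l : F, l * l + τ * l + 1 ≠ 0 := by
    rw [← htr]
    exact nonsplit_of_orderOf h20 h4 W₀ hord
  have hneg : (-1 : Matrix (Fin 2) (Fin 2) F) = 1 := by
    have : (-1 : F) = 1 := by linear_combination -h20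
    ext i j
    fin_cases i <;> fin_cases j <;> simp [this]
  have hWc : W₀ ∉ Subgroup.center (Matrix.SpecialLinearGroup (Fin 2) F) := by
    intro h
    rw [sl2_mem_center_iff, hneg, or_self] at h
    have h1 : W₀ = 1 := Subtype.ext h
    rw [h1, orderOf_one] at hord
    omega
  -- the centralizer of `W₀` is the cyclic group it generates
  have hcent : Subgroup.centralizer ({W₀} : Set (Matrix.SpecialLinearGroup (Fin 2) F)) =
      Subgroup.zpowers W₀ := by
    symm
    apply Subgroup.eq_of_le_of_card_ge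
    · rw [Subgroup.zpowers_le, Subgroup.mem_centralizer_iff]
      intro h hh
      rw [Set.mem_singleton_iff] at hh
      rw [hh]
    · rw [card_centralizer_eq_card_conic W₀ hWc, htr, card_conic_nonsplit h20 hno,
        Nat.card_zpowers, hord]
  have hmemA : ∀ p : conic W₀.1.trace, conicElt W₀ p ∈ Subgroup.zpowers W₀ := by
    intro p
    rw [← hcent]
    exact conicElt_mem W₀ p
  have haniso : ∀ a b : F, a * a + τ * a * b + b * b = 0 → a = 0 ∧ b = 0 := by
    intro a b h
    have hb : b = 0 := by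
      by_contra hb
      apply hno (a / b)
      field_simp
      linear_combination h
    rw [hb] at h
    simp at h
    exact ⟨h, hb⟩
  intro g
  have hdet := sl2_det_entries g
  obtain ⟨g00, h00⟩ : ∃ x : F, x = g.1 0 0 := ⟨_, rfl⟩
  obtain ⟨g01, h01⟩ : ∃ x : F, x = g.1 0 1 := ⟨_, rfl⟩
  obtain ⟨g10, h10⟩ : ∃ x : F, x = g.1 1 0 := ⟨_, rfl⟩
  obtain ⟨g11, h11⟩ : ∃ x : F, x = g.1 1 1 := ⟨_, rfl⟩
  rw [← h00, ← h01, ← h10, ← h11] at hdet
  have hg : g.1 = !![g00, g01; g10, g11] := by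
    ext i j
    fin_cases i <;> fin_cases j <;> simp [h00, h01, h10, h11]
  obtain ⟨sa, hsa⟩ := exists_sqrt_of_two_eq_zero h20 (g00 * g00 + τ * g00 * g10 + g10 * g10 - 1)
  obtain ⟨sg, hsg⟩ := exists_sqrt_of_two_eq_zero h20 (g01 * g01 + τ * g01 * g11 + g11 * g11 - 1)
  -- a nonzero vector on which the two forms agree
  have hv : ∃ x₀ y₀ : F, (x₀ ≠ 0 ∨ y₀ ≠ 0) ∧ sa * x₀ + sg * y₀ = 0 := by
    by_cases h : sa = 0 ∧ sg = 0
    · exact ⟨1, 0, Or.inl one_ne_zero, by rw [h.1, h.2]; ring⟩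
    · refine ⟨sg, sa, ?_, by linear_combination (sa * sg) * h20⟩
      by_contra hcon
      push Not at hcon
      exact h ⟨hcon.2, hcon.1⟩
  obtain ⟨x₀, y₀, hne, hlin⟩ := hv
  obtain ⟨c₀, hc₀⟩ : ∃ c₀ : F, c₀ = x₀ * x₀ + τ * x₀ * y₀ + y₀ * y₀ := ⟨_, rfl⟩
  have hc₀0 : c₀ ≠ 0 := by
    intro h0
    rw [h0] at hc₀
    obtain ⟨hx, hy⟩ := haniso x₀ y₀ hc₀.symm
    rcases hne with h | h
    · exact h hx
    · exact h hy
  obtain ⟨t, ht⟩ := exists_sqrt_of_two_eq_zero h20 c₀
  have ht0 : t ≠ 0 := by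
    rintro rfl
    rw [mul_zero] at ht
    exact hc₀0 ht.symm
  obtain ⟨x, hx⟩ : ∃ x : F, x = x₀ / t := ⟨_, rfl⟩
  obtain ⟨y, hy⟩ : ∃ y : F, y = y₀ / t := ⟨_, rfl⟩
  have hQ : x * x + τ * x * y + y * y = 1 := by
    rw [hx, hy]
    field_simp
    linear_combination -hc₀ - ht
  have hlin' : sa * x + sg * y = 0 := by
    rw [hx, hy]
    field_simp
    linear_combination hlin
  have hQ' : (g00 * x + g01 * y) * (g00 * x + g01 * y) +
      τ * (g00 * x + g01 * y) * (g10 * x + g11 * y) +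
      (g10 * x + g11 * y) * (g10 * x + g11 * y) = 1 := by
    have hD : (sa * x + sg * y) * (sa * x + sg * y) =
        (g00 * g00 + τ * g00 * g10 + g10 * g10 - 1) * (x * x) +
        (g01 * g01 + τ * g01 * g11 + g11 * g11 - 1) * (y * y) + (sa * sg * x * y) * 2 := by
      rw [← hsa, ← hsg]
      ring
    rw [hlin', h20] at hD
    linear_combination hQ - hD + (τ * x * y) * hdet +
      (g00 * g01 * x * y + g10 * g11 * x * y + τ * g01 * g10 * x * y) * h20
  have hp : (x, y) ∈ conic W₀.1.trace := by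
    rw [mem_conic, htr]
    exact hQ
  have hp' : (g00 * x + g01 * y, g10 * x + g11 * y) ∈ conic W₀.1.trace := by
    rw [mem_conic, htr]
    exact hQ'
  obtain ⟨a', ha'⟩ : ∃ a' : Matrix.SpecialLinearGroup (Fin 2) F, a' = conicElt W₀ ⟨_, hp⟩ :=
    ⟨_, rfl⟩
  obtain ⟨a, ha⟩ : ∃ a : Matrix.SpecialLinearGroup (Fin 2) F, a = conicElt W₀ ⟨_, hp'⟩ :=
    ⟨_, rfl⟩
  have ha'mem : a' ∈ Subgroup.zpowers W₀ := by rw [ha']; exact hmemA _
  have hamem : a ∈ Subgroup.zpowers W₀ := by rw [ha]; exact hmemA _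
  have ha'coe : a'.1 = !![x, y; y, x + τ * y] := by
    rw [ha', conicElt_coe]
    show scalar (Fin 2) x + y • W₀.1 = _
    rw [hW₀, scalar_eq]
    ext i j
    fin_cases i <;> fin_cases j <;> simp
    ring
  have hacoe0 : a.1 0 0 = g00 * x + g01 * y := by
    rw [ha, conicElt_coe]
    show (scalar (Fin 2) (g00 * x + g01 * y) + (g10 * x + g11 * y) • W₀.1) 0 0 = _
    rw [hW₀, scalar_eq]
    simp
  have hacoe1 : a.1 1 0 = g10 * x + g11 * y := by
    rw [ha, conicElt_coe]
    show (scalar (Fin 2) (g00 * x + g01 * y) + (g10 * x + g11 * y) • W₀.1) 1 0 = _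
    rw [hW₀, scalar_eq]
    simp
  have hcol0 : (g * a').1 0 0 = a.1 0 0 := by
    rw [hacoe0, Matrix.SpecialLinearGroup.coe_mul, hg, ha'coe]
    simp [Matrix.mul_apply, Fin.sum_univ_two]
  have hcol1 : (g * a').1 1 0 = a.1 1 0 := by
    rw [hacoe1, Matrix.SpecialLinearGroup.coe_mul, hg, ha'coe]
    simp [Matrix.mul_apply, Fin.sum_univ_two]
  have hcol : ∀ i : Fin 2, (g * a').1 i 0 = a.1 i 0 := by
    intro i
    fin_cases i
    · exact hcol0
    · exact hcol1
  obtain ⟨h, hh⟩ : ∃ h : Matrix.SpecialLinearGroup (Fin 2) F, h = a⁻¹ * (g * a') := ⟨_, rfl⟩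
  have hcol' : ∀ i : Fin 2, h.1 i 0 = (1 : Matrix (Fin 2) (Fin 2) F) i 0 := by
    intro i
    have e1 : h.1 i 0 = (a⁻¹ * a).1 i 0 := by
      rw [hh, Matrix.SpecialLinearGroup.coe_mul, Matrix.SpecialLinearGroup.coe_mul a⁻¹ a]
      simp only [Matrix.mul_apply, Fin.sum_univ_two, hcol]
    rw [e1, inv_mul_cancel, Matrix.SpecialLinearGroup.coe_one]
  have hh00 : h.1 0 0 = 1 := by simpa using hcol' 0
  have hh10 : h.1 1 0 = 0 := by simpa using hcol' 1
  have hhdet := sl2_det_entries h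
  rw [hh00, hh10] at hhdet
  have hh11 : h.1 1 1 = 1 := by linear_combination hhdet
  have hhU : h = upperU (h.1 0 1) := by
    apply Subtype.ext
    rw [upperU_coe]
    ext i j
    fin_cases i <;> fin_cases j <;> simp [hh00, hh10, hh11]
  refine ⟨a, hamem, h.1 0 1, a'⁻¹, Subgroup.inv_mem _ ha'mem, ?_⟩
  rw [← hhU, hh]
  group

/-- Let F be a finite field with q = 2^t ≥ 4 elements and L = PSL(2,F). Then L has a cyclic subgroup A of order q + 1 and an elementary abelian 2-subgroup B of order q such that L = ABA: every element of L is a product a·b·a' with a, a' ∈ A and b ∈ B. -/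
theorem result {F : Type*} [Field F] [Fintype F]
    (h2 : 2 ∣ Fintype.card F) (h4 : 4 ≤ Fintype.card F) :
    ∃ A B : Subgroup (Matrix.ProjectiveSpecialLinearGroup (Fin 2) F),
      IsCyclic A ∧ Nat.card A = Fintype.card F + 1 ∧ IsMulCommutative B ∧ (∀ b ∈ B, b * b = 1) ∧
        Nat.card B = Fintype.card F ∧
        ∀ g : Matrix.ProjectiveSpecialLinearGroup (Fin 2) F, ∃ a ∈ A, ∃ b ∈ B, ∃ c ∈ A, g = a * b * c := by
  have h20 : (2 : F) = 0 := by
    have h : ringChar F = 2 := FiniteField.even_card_iff_char_two.2 (Nat.even_iff.1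
      (even_iff_two_dvd.mpr h2))
    have := ringChar.Nat.cast_ringChar (R := F)
    rw [h] at this
    exact_mod_cast this
  have hneg : (-1 : Matrix (Fin 2) (Fin 2) F) = 1 := by
    have : (-1 : F) = 1 := by linear_combination -h20
    ext i j
    fin_cases i <;> fin_cases j <;> simp [this]
  have hcenter : Subgroup.center (Matrix.SpecialLinearGroup (Fin 2) F) = ⊥ := by
    rw [eq_bot_iff]
    intro A hA
    rw [sl2_mem_center_iff, hneg, or_self] at hA
    rw [Subgroup.mem_bot]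
    exact Subtype.ext hA
  obtain ⟨e⟩ : Nonempty (Matrix.SpecialLinearGroup (Fin 2) F ≃*
      Matrix.ProjectiveSpecialLinearGroup (Fin 2) F) :=
    ⟨((QuotientGroup.quotientMulEquivOfEq hcenter).trans QuotientGroup.quotientBot).symm⟩
  obtain ⟨W₀, hord, haba⟩ := sl2_aba h20 h4
  refine ⟨(Subgroup.zpowers W₀).map e.toMonoidHom, (upperB F).map e.toMonoidHom, ?_, ?_, ?_, ?_,
    ?_, ?_⟩
  · rw [MonoidHom.map_zpowers]
    infer_instance
  · rw [Subgroup.card_map_of_injective e.injective, Nat.card_zpowers, hord]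
  · refine ⟨⟨?_⟩⟩
    rintro ⟨_, ⟨x, ⟨s, rfl⟩, rfl⟩⟩ ⟨_, ⟨y, ⟨t, rfl⟩, rfl⟩⟩
    apply Subtype.ext
    show e.toMonoidHom (upperU s) * e.toMonoidHom (upperU t) =
      e.toMonoidHom (upperU t) * e.toMonoidHom (upperU s)
    rw [← map_mul, ← map_mul, upperU_mul, upperU_mul, add_comm]
  · rintro _ ⟨x, ⟨s, rfl⟩, rfl⟩
    rw [← map_mul, upperU_mul]
    have : s + s = 0 := by linear_combination s * h20
    rw [this, upperU_zero, map_one]
  · rw [Subgroup.card_map_of_injective e.injective, ← Nat.card_eq_fintype_card]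
    symm
    apply Nat.card_congr
    refine Equiv.ofBijective (fun s : F => (⟨upperU s, ⟨s, rfl⟩⟩ : upperB F)) ⟨?_, ?_⟩
    · intro s t hst
      exact upperU_injective (congrArg Subtype.val hst)
    · rintro ⟨_, ⟨s, rfl⟩⟩
      exact ⟨s, rfl⟩
  · intro g
    obtain ⟨a, ha, s, c, hc, hg⟩ := haba (e.symm g)
    refine ⟨e a, Subgroup.mem_map_of_mem _ ha, e (upperU s),
      Subgroup.mem_map_of_mem _ ⟨s, rfl⟩, e c, Subgroup.mem_map_of_mem _ hc, ?_⟩
    rw [← map_mul, ← map_mul, ← hg, e.apply_symm_apply]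

end Cfsg.Agent.S2503
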