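import Cfsg.Statements.S0799
import Cfsg.Agent.Lib.Helper41.DicksonShapeU
import Cfsg.Agent.Lib.Helper41.DicksonBridge

set_option autoImplicit false
open Cfsg

namespace Cfsg.Agent.S0799

open Cfsg.Agent.Lib.Helper41 in
/-- Dickson's classification of the subgroups of PSL_2(q), q a power of the prime p, d = gcd(2, q − 1): every subgroup H is (a) cyclic or dihedral with k dividing (q+1)/d or (q−1)/d (cyclic of order k, or dihedral of order 2k), (b) isomorphic to a subgroup of the normaliser of a Sylow p-subgroup, (c) isomorphic to A_4, S_4 or A_5, or (d) isomorphic to PSL_2(K) or PGL_2(K) for a finite field K with |K|^m = q. -/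
theorem result {F : Type*} [Field F] [Fintype F] {q : ℕ} (hF : Fintype.card F = q) (p : ℕ) [Fact p.Prime] [CharP F p] (H : Subgroup (Matrix.ProjectiveSpecialLinearGroup (Fin 2) F)) : (∃ k : ℕ, (k ∣ (q + 1) / Nat.gcd 2 (q - 1) ∨ k ∣ (q - 1) / Nat.gcd 2 (q - 1)) ∧ ((IsCyclic H ∧ Nat.card H = k) ∨ Nonempty (H ≃* DihedralGroup k))) ∨ (∃ (P : Sylow p (Matrix.ProjectiveSpecialLinearGroup (Fin 2) F)) (K : Subgroup (Matrix.ProjectiveSpecialLinearGroup (Fin 2) F)), K ≤ Subgroup.normalizer ((P : Subgroup (Matrix.ProjectiveSpecialLinearGroup (Fin 2) F)) : Set (Matrix.ProjectiveSpecialLinearGroup (Fin 2) F)) ∧ Nonempty (H ≃* K)) ∨ Nonempty (H ≃* alternatingGroup (Fin 4)) ∨ Nonempty (H ≃* Equiv.Perm (Fin 4)) ∨ Nonempty (H ≃* alternatingGroup (Fin 5)) ∨ (∃ (K : Type) (_ : Field K) (_ : Fintype K) (m : ℕ), Fintype.card K ^ m = q ∧ (Nonempty (H ≃* Matrix.ProjectiveSpecialLinearGroup (Fin 2) K) ∨ Nonempty (H ≃* Matrix.ProjGenLinGroup (Fin 2) K))) := by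
  classical
  subst hF
  haveI : Fintype H := Fintype.ofFinite H
  have hshape := (dpartOf p H).shape
  unfold DPart.Shape at hshape
  rcases hshape with h | ⟨a, ha, haU, h⟩ | ⟨a, ha, haU, h⟩ | ⟨a, ha, haU, h⟩ | ⟨hc, h⟩ | ⟨hc, h⟩ |
    ⟨hc, h⟩ | ⟨a, b, e, ha, haU, hb, hbU, hle, hcardN, hlt, he, hH, hk⟩
  · -- trivial group
    left
    refine ⟨1, Or.inl (one_dvd _), Or.inl ⟨?_, ?_⟩⟩
    · haveI : Subsingleton H := Fintype.card_le_one_iff_subsingleton.mp (le_of_eq h)
      exact isCyclic_of_subsingleton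
    · rw [Nat.card_eq_fintype_card]
      exact h
  · -- cyclic
    left
    have hle : H ≤ torusOf (a : Matrix.ProjectiveSpecialLinearGroup (Fin 2) F) := by
      have h' : hTorus H a = ⊤ := h
      unfold hTorus at h'
      exact Subgroup.subgroupOf_eq_top.mp h'
    have hcyc := recog_cyclic p H (coe_ne_one ha) haU hle
    exact ⟨Nat.card H, hcyc.2, Or.inl ⟨hcyc.1, rfl⟩⟩
  · -- dihedral
    left
    have hcard : 2 * Nat.card (hTorus H a) = Nat.card H := by
      rw [Nat.card_eq_fintype_card (α := H)]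
      exact h
    obtain ⟨k, hk, hiso⟩ := recog_dihedral p H a ha haU hcard
    exact ⟨k, hk, Or.inr hiso⟩
  · -- Borel
    right; left
    exact recog_borel p H a ha haU h
  · -- A4
    right; right; left
    exact recog_A4 H (by rw [Nat.card_eq_fintype_card]; exact hc) h
  · -- S4
    right; right; right; left
    exact recog_S4 H (by rw [Nat.card_eq_fintype_card]; exact hc) h
  · -- A5
    right; right; right; right; left
    haveI := h
    exact Cfsg.Agent.S0494.result (by rw [Nat.card_eq_fintype_card]; exact hc)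
  · -- Lie type
    right; right; right; right; right
    exact recog_lie H a b e ha haU hb hbU hle hcardN hlt he
      (by rw [Nat.card_eq_fintype_card (α := H)]; exact hH) hk

end Cfsg.Agent.S0799
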