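import Cfsg.Statements.S0802
import Cfsg.Agent.Lib.Helper41.PSL2A4

set_option autoImplicit false
open Cfsg

namespace Cfsg.Agent.S0802

open Cfsg.Agent.Lib.Helper41 in
/-- PSL_2(p^n) has a subgroup isomorphic to A_4 if and only if it is not the case that p = 2 and n is odd. -/
theorem result {F : Type*} [Field F] [Fintype F] (p n : ℕ) [Fact p.Prime] [CharP F p] (hF : Fintype.card F = p ^ n) : (∃ H : Subgroup (Matrix.ProjectiveSpecialLinearGroup (Fin 2) F), Nonempty (H ≃* alternatingGroup (Fin 4))) ↔ ¬ (p = 2 ∧ Odd n) := by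
  classical
  have h3p : Fact (Nat.Prime 3) := ⟨by norm_num⟩
  constructor
  · rintro ⟨H, ⟨e⟩⟩ ⟨hp, hn⟩
    subst hp
    have h2 : (2 : F) = 0 := by
      have h := CharP.cast_eq_zero F 2
      exact_mod_cast h
    obtain ⟨x, y, u, hx, hyx, hx1, hu1, hu2⟩ := alt4_relations
    obtain ⟨f, hf⟩ : ∃ f : alternatingGroup (Fin 4) →*
        Matrix.ProjectiveSpecialLinearGroup (Fin 2) F, Function.Injective f :=
      ⟨H.subtype.comp e.symm.toMonoidHom, H.subtype_injective.comp e.symm.injective⟩
    obtain ⟨b, hb⟩ := exists_root_of_relations_char_two h2 (f x) (f y) (f u)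
      (by rw [← map_mul, hx, map_one]) (by rw [← map_mul, ← map_mul, hyx])
      (by
        intro h
        apply hx1
        apply hf
        rw [h, map_one])
      (by rw [← map_inv, ← map_mul, ← map_mul, hu1, map_mul])
      (by rw [← map_inv, ← map_mul, ← map_mul, hu2])
    have hb0 : b ≠ 0 := by
      rintro rfl
      simp at hb
    have hb1 : b ≠ 1 := by
      rintro rfl
      have h : (1 : F) = 0 := by linear_combination hb - h2
      exact one_ne_zero h
    have hb3 : b ^ 3 = 1 := by linear_combination (b - 1) * hb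
    have ho : orderOf (Units.mk0 b hb0) = 3 := by
      apply orderOf_eq_prime
      · apply Units.ext
        rw [Units.val_pow_eq_pow_val, Units.val_mk0, hb3, Units.val_one]
      · intro h
        apply hb1
        have h' := congrArg Units.val h
        rwa [Units.val_mk0, Units.val_one] at h'
    have hdvd : 3 ∣ Fintype.card Fˣ := by
      rw [← ho]
      exact orderOf_dvd_card
    rw [Fintype.card_units, hF] at hdvd
    obtain ⟨k, rfl⟩ := hn
    have h4 : (2 ^ (2 * k + 1)) % 3 = 2 := by
      rw [pow_succ, pow_mul]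
      simp [Nat.mul_mod, Nat.pow_mod]
    have h5 : 1 ≤ 2 ^ (2 * k + 1) := Nat.one_le_two_pow
    obtain ⟨m, hm⟩ : ∃ m : ℕ, m = 2 ^ (2 * k + 1) := ⟨_, rfl⟩
    rw [← hm] at hdvd h4 h5
    omega
  · intro h
    by_cases hp : p = 2
    · have hn : ¬ Odd n := fun hn => h ⟨hp, hn⟩
      subst hp
      rw [Nat.not_odd_iff_even] at hn
      obtain ⟨k, rfl⟩ := hn
      have h2 : (2 : F) = 0 := by
        have h := CharP.cast_eq_zero F 2
        exact_mod_cast h
      have hdvd : 3 ∣ Fintype.card Fˣ := by
        rw [Fintype.card_units, hF, ← two_mul, pow_mul]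
        have h4 : 4 - 1 ∣ 4 ^ k - 1 := by
          simpa only [one_pow] using Nat.sub_dvd_pow_sub_pow 4 1 k
        exact h4
      obtain ⟨w, hw⟩ := exists_prime_orderOf_dvd_card 3 hdvd
      have hw3 : (w : F) ^ 3 = 1 := by
        rw [← Units.val_pow_eq_pow_val, ← hw, pow_orderOf_eq_one, Units.val_one]
      have hw1 : (w : F) ≠ 1 := by
        intro h1
        have h' : w = 1 := Units.ext h1
        rw [h', orderOf_one] at hw
        omega
      have hω : (w : F) * w + w + 1 = 0 := by
        have h' : ((w : F) - 1) * ((w : F) * w + w + 1) = 0 := by linear_combination hw3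
        rcases mul_eq_zero.mp h' with h'' | h''
        · exact absurd (sub_eq_zero.mp h'') hw1
        · exact h''
      exact psl2_exists_A4_of_two_eq_zero h2 w hω
    · have h2 : (2 : F) ≠ 0 := by
        intro h2
        have h' : ((2 : ℕ) : F) = 0 := by exact_mod_cast h2
        rw [CharP.cast_eq_zero_iff F p] at h'
        exact hp ((Nat.prime_dvd_prime_iff_eq (Fact.out) Nat.prime_two).mp h')
      exact psl2_exists_A4_of_two_ne_zero h2

end Cfsg.Agent.S0802
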