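import Mathlib
import Cfsg.Agent.Lib.Helper5.Tri
import Cfsg.Agent.Lib.Helper5.SL2Tri
import Cfsg.Statements.S0803

set_option autoImplicit false
open Cfsg

namespace Cfsg.Agent.S0803

open Cfsg.Agent.Lib.Helper5 Cfsg.Agent.Lib.Helper5.SL2Tri

/-- In characteristic two, a matrix of determinant one and order dividing 4 has order dividing
2. -/
theorem sq_eq_one_of_pow_four {F : Type*} [Field F] (h2 : (2 : F) = 0)
    (M : Matrix (Fin 2) (Fin 2) F) (hdet : M.det = 1) (h4 : M ^ 4 = 1) : M ^ 2 = 1 := by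
  have hsq : M * M = M.trace • M - 1 := by rw [mul_self_eq, hdet, one_smul]
  set t := M.trace
  have e4 := pow_four_eq M t hsq
  rw [h4] at e4
  have h3 : (t ^ 2) • (M ^ 2) = 0 := by
    rw [pow_two_eq M t hsq]
    have h5 : (t ^ 2) • (t • M - 1)
        = ((t ^ 3 - 2 * t) • M - (t ^ 2 - 1) • 1) - 1 + (2 * t) • M := by module
    rw [h5, ← e4, h2]
    simp
  have hdet2 : (t ^ 2 • M ^ 2).det = t ^ 4 := by
    rw [Matrix.det_smul, Fintype.card_fin, Matrix.det_pow, hdet]
    ring
  rw [h3, Matrix.det_zero] at hdet2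
  have ht : t = 0 := by
    have h6 : t ^ 4 = 0 := hdet2.symm
    exact (pow_eq_zero_iff (by norm_num)).1 h6
  rw [pow_two_eq M t hsq, ht, zero_smul, zero_sub, neg_eq_iff_add_eq_zero,
    ← two_smul F (1 : Matrix (Fin 2) (Fin 2) F), h2, zero_smul]

theorem arith16 : ∀ r < 16, r ^ 2 % 16 = 1 → r % 8 = 1 ∨ r % 8 = 7 := by decide

/-- PSL_2(q) has a subgroup isomorphic to S_4 iff q² ≡ 1 (mod 16). -/
theorem result {F : Type*} [Field F] [Fintype F] {q : ℕ} (hF : Fintype.card F = q) : (∃ H : Subgroup (Matrix.ProjectiveSpecialLinearGroup (Fin 2) F), Nonempty (H ≃* Equiv.Perm (Fin 4))) ↔ q ^ 2 % 16 = 1 := by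
  subst hF
  constructor
  · rintro ⟨H, ⟨e⟩⟩
    -- `|F|` is odd: otherwise there is no element of order 4
    have hodd : Fintype.card F % 2 = 1 := by
      by_contra hev
      have hev' : Even (Fintype.card F) := by rw [Nat.even_iff]; omega
      have h2 : (2 : F) = 0 := two_eq_zero_of_even_card hev'
      let σ : Equiv.Perm (Fin 4) := c[0, 1, 2, 3]
      have hσ4 : σ ^ 4 = 1 := by decide +kernel
      have hσ2 : σ ^ 2 ≠ 1 := by decide +kernel
      obtain ⟨M, hM⟩ := QuotientGroup.mk_surjective ((e.symm σ : H) :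
        Matrix.ProjectiveSpecialLinearGroup (Fin 2) F)
      have hg4 : ((e.symm σ : H) : Matrix.ProjectiveSpecialLinearGroup (Fin 2) F) ^ 4 = 1 := by
        rw [← Subgroup.coe_pow, ← map_pow, hσ4, map_one, Subgroup.coe_one]
      rw [← hM, ← QuotientGroup.mk_pow, QuotientGroup.eq_one_iff,
        center_SL2_eq_bot_of_two_eq_zero h2, Subgroup.mem_bot] at hg4
      have hM4 : (M : Matrix (Fin 2) (Fin 2) F) ^ 4 = 1 := by
        have := congrArg (fun x : Matrix.SpecialLinearGroup (Fin 2) F =>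
          (x : Matrix (Fin 2) (Fin 2) F)) hg4
        simpa using this
      have hM2 := sq_eq_one_of_pow_four h2 _ M.2 hM4
      have hM2' : M ^ 2 = 1 := by
        apply Subtype.ext
        rw [Matrix.SpecialLinearGroup.coe_pow]
        exact hM2
      have hg2 : ((e.symm σ : H) : Matrix.ProjectiveSpecialLinearGroup (Fin 2) F) ^ 2 = 1 := by
        rw [← hM, ← QuotientGroup.mk_pow, hM2']
        rfl
      apply hσ2
      have h5 : (e.symm σ) ^ 2 = 1 := by
        apply Subtype.ext
        rw [Subgroup.coe_pow, hg2, Subgroup.coe_one]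
      rw [← map_pow] at h5
      exact (MulEquiv.map_eq_one_iff e.symm).1 h5
    have h24 : Nat.card H = 24 := by
      rw [Nat.card_congr e.toEquiv, Nat.card_eq_fintype_card, Fintype.card_perm, Fintype.card_fin]
      rfl
    have h1 : Nat.card H ∣ Nat.card (Matrix.ProjectiveSpecialLinearGroup (Fin 2) F) :=
      Subgroup.card_subgroup_dvd_card H
    have h2 := card_PSL_mul_card_center (Fin 2) F
    rw [card_SL2, card_center_SL2_of_two_ne_zero (two_ne_zero_of_odd_card (Nat.odd_iff.2 hodd))]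
      at h2
    have h48 : 16 ∣ Fintype.card F * (Fintype.card F ^ 2 - 1) := by
      rw [← h2]
      rw [h24] at h1
      obtain ⟨c, hc⟩ := h1
      exact ⟨3 * c, by rw [hc]; ring⟩
    have hcop : Nat.Coprime (2 ^ 4) (Fintype.card F) :=
      Nat.Coprime.pow_left 4 (Nat.coprime_two_left.2 (Nat.odd_iff.2 hodd))
    have h16 : 16 ∣ Fintype.card F ^ 2 - 1 := hcop.dvd_of_dvd_mul_left h48
    have hpos : 1 ≤ Fintype.card F ^ 2 := Nat.one_le_pow _ _ Fintype.card_pos
    generalize Fintype.card F ^ 2 = x at h16 hpos ⊢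
    omega
  · intro h16
    have hr : Fintype.card F ^ 2 % 16 = (Fintype.card F % 16) ^ 2 % 16 := Nat.pow_mod _ _ _
    rw [hr] at h16
    have h8 := arith16 (Fintype.card F % 16) (Nat.mod_lt _ (by norm_num)) h16
    have hodd : Fintype.card F % 2 = 1 := by omega
    have hsq : IsSquare (2 : F) := by
      rw [FiniteField.isSquare_two_iff]
      omega
    obtain ⟨s, hs⟩ := hsq
    obtain ⟨a, b, ha, hb, hab, hne⟩ := SL2Tri.exists_pair_four hodd s (by rw [hs, pow_two])
    exact Tri.exists_S4_subgroup a b ha hb hab hne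

end Cfsg.Agent.S0803
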