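import Cfsg.Statements.S0809
import Cfsg.Agent.Lib.Helper41.SL2Quart
import Cfsg.Agent.Lib.Helper41.SL2CentOdd
import Cfsg.Agent.Lib.Helper5.PSL2

set_option autoImplicit false
open Cfsg

namespace Cfsg.Agent.S0809

open Cfsg.Agent.Lib.Helper41

/-- a subgroup of order 4 of `SL₂(q)`, `q` odd, is generated by an element of trace zero -/
theorem order_four_gen {F : Type*} [Field F] [Fintype F] (h2 : (2 : F) ≠ 0)
    (B : Subgroup (Matrix.SpecialLinearGroup (Fin 2) F)) (hB : Nat.card B = 4) :
    ∃ Y ∈ B, Y.1.trace = 0 ∧ B = Subgroup.zpowers Y := by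
  have hex : ∃ Y ∈ B, Y * Y ≠ 1 := by
    by_contra hno
    push Not at hno
    have hle : B ≤ Subgroup.center (Matrix.SpecialLinearGroup (Fin 2) F) := by
      intro t ht
      rw [sl2_mem_center_iff]
      rcases sq_eq_one_cases h2 t (hno t ht) with h | h
      · left
        rw [h]
        rfl
      · right
        rw [h]
        rfl
    have hc := Cfsg.Agent.Lib.Helper5.card_center_SL2_of_two_ne_zero h2
    have := Subgroup.card_le_of_le hle
    omega
  obtain ⟨Y, hYB, hY⟩ := hex
  have hord : orderOf Y ∣ 4 := by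
    have := Subgroup.orderOf_dvd_natCard B hYB
    rwa [hB] at this
  have ho4 : orderOf Y = 4 := by
    have hle : orderOf Y ≤ 4 := Nat.le_of_dvd (by norm_num) hord
    have h1 : orderOf Y ≠ 1 := by
      intro h
      rw [orderOf_eq_one_iff] at h
      apply hY
      rw [h]
      simp
    have h2' : orderOf Y ≠ 2 := by
      intro h
      apply hY
      have := pow_orderOf_eq_one Y
      rw [h, pow_two] at this
      exact this
    have h0 : orderOf Y ≠ 0 := fun h => by
      rw [h] at hord
      simp at hord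
    have h3 : orderOf Y ≠ 3 := fun h => by
      rw [h] at hord
      omega
    omega
  have hY4 : Y * Y * (Y * Y) = 1 := by
    have := pow_orderOf_eq_one Y
    rw [ho4] at this
    rw [← this]
    simp only [pow_succ, pow_zero, one_mul, mul_assoc]
  have hYY : Y * Y = negOne := (sq_eq_one_cases h2 _ hY4).resolve_left hY
  refine ⟨Y, hYB, (sq_eq_negOne_iff Y).mp hYY, ?_⟩
  symm
  apply Subgroup.eq_of_le_of_card_ge
  · rwa [Subgroup.zpowers_le]
  · rw [Nat.card_zpowers, ho4, hB]

/-- conjugation to the element or its inverse preserves the cyclic group -/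
theorem conj_mem_zpowers {G : Type*} [Group G] (X g : G)
    (h : g * X * g⁻¹ = X ∨ g * X * g⁻¹ = X⁻¹) :
    ∀ n ∈ Subgroup.zpowers X, g * n * g⁻¹ ∈ Subgroup.zpowers X := by
  intro n hn
  obtain ⟨k, rfl⟩ := Subgroup.mem_zpowers_iff.mp hn
  rw [← conj_zpow]
  rcases h with h | h
  · rw [h]
    exact Subgroup.zpow_mem_zpowers X k
  · rw [h, inv_zpow, ← zpow_neg]
    exact Subgroup.zpow_mem_zpowers X (-k)

/-- the normalizer of the group generated by a trace-zero element has twice the order of the
centralizer -/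
theorem card_normalizer {F : Type*} [Field F] [Fintype F] (h2 : (2 : F) ≠ 0)
    (X : Matrix.SpecialLinearGroup (Fin 2) F) (hX0 : X.1.trace = 0) :
    Nat.card (Subgroup.normalizer
      (Subgroup.zpowers X : Set (Matrix.SpecialLinearGroup (Fin 2) F))) =
      2 * Nat.card (conic (0 : F)) := by
  have h4 : (4 : F) ≠ 0 := by
    have : (4 : F) = 2 * 2 := by norm_num
    rw [this]
    exact mul_ne_zero h2 h2
  have hτ : X.1.trace * X.1.trace ≠ 4 := by
    rw [hX0, mul_zero]
    exact fun h => h4 h.symm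
  have hXX : X * X = negOne := (sq_eq_negOne_iff X).mpr hX0
  have hXi : X⁻¹ ≠ X := by
    intro h
    apply negOne_ne_one h2
    rw [← hXX]
    nth_rewrite 1 [← h]
    group
  have hXi0 : (X⁻¹).1.trace = 0 := by
    rw [← sq_eq_negOne_iff]
    have : X⁻¹ * X⁻¹ = (X * X)⁻¹ := by group
    rw [this, hXX]
    exact inv_eq_of_mul_eq_one_left negOne_mul_self
  obtain ⟨w, hw⟩ := conj_of_trace_zero h2 X X⁻¹ hX0 hXi0
  -- description of the normalizer
  have hN : ∀ g : Matrix.SpecialLinearGroup (Fin 2) F,
      g ∈ Subgroup.normalizer (Subgroup.zpowers X : Set (Matrix.SpecialLinearGroup (Fin 2) F)) ↔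
        (g * X * g⁻¹ = X ∨ g * X * g⁻¹ = X⁻¹) := by
    intro g
    constructor
    · intro hg
      have hmem : g * X * g⁻¹ ∈ Subgroup.zpowers X :=
        (Subgroup.mem_normalizer_iff.mp hg X).mp (Subgroup.mem_zpowers X)
      obtain ⟨k, hk⟩ := Subgroup.mem_zpowers_iff.mp hmem
      apply regular_conj_cases h2 X (g * X * g⁻¹) hτ
      · rw [trace_conj]
      · rw [← hk]
        exact ((Commute.refl X).zpow_left k).eq
    · intro h
      exact Subgroup.mem_normalizer_fintype (conj_mem_zpowers X g h)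
  have hC : ∀ g : Matrix.SpecialLinearGroup (Fin 2) F,
      g ∈ Subgroup.centralizer ({X} : Set (Matrix.SpecialLinearGroup (Fin 2) F)) ↔
        g * X * g⁻¹ = X := by
    intro g
    rw [Subgroup.mem_centralizer_singleton_iff]
    constructor
    · intro h
      rw [h]
      group
    · intro h
      nth_rewrite 2 [← h]
      group
  have hCN : Subgroup.centralizer ({X} : Set (Matrix.SpecialLinearGroup (Fin 2) F)) ≤
      Subgroup.normalizer (Subgroup.zpowers X : Set (Matrix.SpecialLinearGroup (Fin 2) F)) := by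
    intro g hg
    rw [hN]
    left
    exact (hC g).mp hg
  have hidx : ((Subgroup.centralizer ({X} : Set (Matrix.SpecialLinearGroup (Fin 2) F))).subgroupOf
      (Subgroup.normalizer
        (Subgroup.zpowers X : Set (Matrix.SpecialLinearGroup (Fin 2) F)))).index = 2 := by
    rw [Subgroup.index_eq_two_iff]
    refine ⟨⟨w, (hN w).mpr (Or.inr hw)⟩, ?_⟩
    rintro ⟨b, hb⟩
    rw [Subgroup.mem_subgroupOf, Subgroup.mem_subgroupOf]
    simp only [Subgroup.coe_mul]
    rw [hC, hC]
    have e : b * w * X * (b * w)⁻¹ = b * (w * X * w⁻¹) * b⁻¹ := by group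
    rw [e, hw]
    rcases (hN b).mp hb with h | h
    · right
      refine ⟨h, ?_⟩
      intro h'
      apply hXi
      have : b * X⁻¹ * b⁻¹ = (b * X * b⁻¹)⁻¹ := by group
      rw [this, h] at h'
      exact h'
    · left
      refine ⟨?_, ?_⟩
      · have : b * X⁻¹ * b⁻¹ = (b * X * b⁻¹)⁻¹ := by group
        rw [this, h, inv_inv]
      · rw [h]
        exact hXi
  have hcard := Subgroup.index_mul_card
    ((Subgroup.centralizer ({X} : Set (Matrix.SpecialLinearGroup (Fin 2) F))).subgroupOf
      (Subgroup.normalizer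
        (Subgroup.zpowers X : Set (Matrix.SpecialLinearGroup (Fin 2) F))))
  rw [hidx, Nat.card_congr (Subgroup.subgroupOfEquivOfLe hCN).toEquiv,
    card_centralizer_eq_card_conic X (not_mem_center_of_trace h2 X hτ), hX0] at hcard
  exact hcard.symm

/-- an involution of `PSL₂(q)`, `q` odd, lifts to an element of trace zero -/
theorem trace_of_involution {F : Type*} [Field F] [Fintype F] (h2 : (2 : F) ≠ 0)
    (U : Matrix.SpecialLinearGroup (Fin 2) F)
    (h : orderOf (QuotientGroup.mk U : Matrix.ProjectiveSpecialLinearGroup (Fin 2) F) = 2) :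
    U.1.trace = 0 := by
  rw [psl2_orderOf_of_two_ne_zero h2] at h
  have h1 : U ^ 2 ≠ 1 := by
    intro h'
    rw [h', orderOf_one] at h
    omega
  have h4 : (U ^ 2) * (U ^ 2) = 1 := by
    have := pow_orderOf_eq_one (U ^ 2)
    rw [h, pow_two] at this
    exact this
  rw [← sq_eq_negOne_iff, ← pow_two]
  exact (sq_eq_one_cases h2 _ h4).resolve_left h1

/-- In SL_2(q), q odd: any two subgroups of order 4 are conjugate, and the normaliser of a subgroup of order 4 has order 2(q − 1) if q ≡ 1 (mod 4) and 2(q + 1) if q ≡ 3 (mod 4); consequently all involutions of PSL_2(q) are conjugate. -/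
theorem result {F : Type*} [Field F] [Fintype F] {q : ℕ} (hF : Fintype.card F = q) (hodd : Odd q) (A : Subgroup (Matrix.SpecialLinearGroup (Fin 2) F)) (hA : Nat.card A = 4) : (∀ B : Subgroup (Matrix.SpecialLinearGroup (Fin 2) F), Nat.card B = 4 → ∃ g : Matrix.SpecialLinearGroup (Fin 2) F, B = A.map (MulAut.conj g).toMonoidHom) ∧ (q % 4 = 1 → Nat.card ↥(Subgroup.normalizer (A : Set (Matrix.SpecialLinearGroup (Fin 2) F))) = 2 * (q - 1)) ∧ (q % 4 = 3 → Nat.card ↥(Subgroup.normalizer (A : Set (Matrix.SpecialLinearGroup (Fin 2) F))) = 2 * (q + 1)) ∧ (∀ x y : Matrix.ProjectiveSpecialLinearGroup (Fin 2) F, orderOf x = 2 → orderOf y = 2 → IsConj x y) := by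
  subst hF
  have h2 : (2 : F) ≠ 0 := Cfsg.Agent.Lib.Helper5.two_ne_zero_of_odd_card hodd
  obtain ⟨X, hXA, hX0, hAX⟩ := order_four_gen h2 A hA
  refine ⟨?_, ?_, ?_, ?_⟩
  · intro B hB
    obtain ⟨Y, hYB, hY0, hBY⟩ := order_four_gen h2 B hB
    obtain ⟨P, hP⟩ := conj_of_trace_zero h2 X Y hX0 hY0
    refine ⟨P, ?_⟩
    rw [hBY, hAX, MonoidHom.map_zpowers]
    congr 1
    rw [← hP]
    rfl
  · intro hq
    rw [hAX, card_normalizer h2 X hX0]
    have hsq : IsSquare (-1 : F) := by
      rw [FiniteField.isSquare_neg_one_iff]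
      omega
    obtain ⟨l, hl⟩ := hsq
    rw [card_conic_split' (τ := 0) (l := l)]
    · linear_combination -hl
    · rw [← hl]
      intro h
      apply h2
      linear_combination -h
  · intro hq
    rw [hAX, card_normalizer h2 X hX0]
    have hsq : ¬ IsSquare (-1 : F) := by
      rw [FiniteField.isSquare_neg_one_iff]
      omega
    rw [card_conic_nonsplit' h2]
    intro a ha
    apply hsq
    exact ⟨a, by linear_combination -ha⟩
  · intro x y hx hy
    obtain ⟨U, rfl⟩ := QuotientGroup.mk_surjective x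
    obtain ⟨V, rfl⟩ := QuotientGroup.mk_surjective y
    have hU := trace_of_involution h2 U hx
    have hV := trace_of_involution h2 V hy
    obtain ⟨P, hP⟩ := conj_of_trace_zero h2 U V hU hV
    rw [isConj_iff]
    refine ⟨QuotientGroup.mk P, ?_⟩
    rw [← hP]
    rfl

end Cfsg.Agent.S0809
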