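import Cfsg.Statements.S0939
import Cfsg.Agent.Lib.Helper78.PrincipalVal
import Cfsg.Agent.Lib.Helper16.PRegular
import Cfsg.Agent.Lib.Helper16.NormalKer
import Cfsg.Agent.Lib.Helper80.CharKer

set_option autoImplicit false
open Cfsg

namespace Cfsg.Agent.S0939

/-- Let G be a finite group with a normal p-complement (the largest normal subgroup O_p'(G) of order prime to p has p-power index). Then, relative to any maximal ideal M of the algebraic integers containing p, the principal block of G is the set of irreducible characters χ with χ n = χ 1 for every n ∈ O_p'(G). -/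
theorem result {G : Type*} [Group G] [Finite G] (p : ℕ) [Fact p.Prime] (M : Ideal Cfsg.AlgInt) (hM : Cfsg.IsPModular p M) (hnc : ∃ k : ℕ, (Cfsg.pPrimeCore p G).index = p ^ k) : Cfsg.principalBlock M G = {χ : Cfsg.IrrCharacter G | ∀ n ∈ Cfsg.pPrimeCore p G, (χ : G → ℂ) n = (χ : G → ℂ) 1} := by
  classical
  have := Fintype.ofFinite G
  have hp : p.Prime := hM.1
  have hPr := Cfsg.Agent.Lib.Helper16.isPrime_of_isPModular hM
  obtain ⟨k, hk⟩ := hnc
  have hN := Cfsg.Agent.Lib.Helper75.pPrimeCore_normal' p G
  ext χ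
  constructor
  · intro hχ n hn
    exact Cfsg.Agent.Lib.Helper78.principalBlock_ker p M hM χ hχ n hn
  · intro hχ
    have h0 := Cfsg.Agent.Lib.Helper16.sameBlock_of_pRegular hM
      (Cfsg.Agent.Lib.Helper77.trivIrr G) χ ?_
    · exact h0
    · intro g hg
      have hgN : g ∈ Cfsg.pPrimeCore p G :=
        Cfsg.Agent.Lib.Helper16.mem_of_pRegular_of_index hp _ hk hg
      have h1 := hχ g hgN
      have hne : (χ : G → ℂ) 1 ≠ 0 := Cfsg.Agent.Lib.Helper80.char_one_ne_zero χ.2
      have h2 : Cfsg.centralChar (Cfsg.Agent.Lib.Helper77.trivIrr G : G → ℂ) g -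
          Cfsg.centralChar (χ : G → ℂ) g = 0 := by
        unfold Cfsg.centralChar
        rw [h1, Cfsg.Agent.Lib.Helper77.trivIrr_apply, Cfsg.Agent.Lib.Helper77.trivIrr_apply]
        field_simp
        ring
      rw [h2]
      exact Cfsg.Agent.Lib.Helper16.memLocalIdeal_zero hPr

end Cfsg.Agent.S0939
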