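import Cfsg.Statements.S0947
import Cfsg.Agent.Lib.Helper78.SectionNorm
import Cfsg.Agent.S0939
import Cfsg.Agent.Lib.Helper16.NormalKer
import Cfsg.Agent.Lib.Helper77.Osima

set_option autoImplicit false
open Cfsg

namespace Cfsg.Agent.S0947

/-- Let z ≠ 1 be a p-element of the finite group G with centralizer H, and fix a maximal ideal M of the algebraic integers containing p. (i) For every y ∈ H of order prime to p, the sum over ζ in the principal block of G of |ζ (z * y)|² equals the sum over χ in the principal block of H of |χ y|². (ii) If moreover H has a normal p-complement (its largest normal subgroup of order prime to p has p-power index), that common value is the largest power of p dividing the order of H. -/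
theorem result {G : Type*} [Group G] [Finite G] (p : ℕ) [Fact p.Prime] (M : Ideal Cfsg.AlgInt) (hM : Cfsg.IsPModular p M) (z : G) (hz : ∃ k : ℕ, orderOf z = p ^ k) (hz1 : z ≠ 1) (y : Subgroup.centralizer ({z} : Set G)) (hy : ¬ p ∣ orderOf y) : (∑ᶠ ζ ∈ Cfsg.principalBlock M G, ‖(ζ : G → ℂ) (z * (y : G))‖ ^ 2 = ∑ᶠ χ ∈ Cfsg.principalBlock M (Subgroup.centralizer ({z} : Set G)), ‖(χ : Subgroup.centralizer ({z} : Set G) → ℂ) y‖ ^ 2) ∧ ((∃ k : ℕ, (Cfsg.pPrimeCore p (Subgroup.centralizer ({z} : Set G))).index = p ^ k) → ∑ᶠ ζ ∈ Cfsg.principalBlock M G, ‖(ζ : G → ℂ) (z * (y : G))‖ ^ 2 = ((p ^ (Nat.card (Subgroup.centralizer ({z} : Set G))).factorization p : ℕ) : ℝ)) := by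
  classical
  have hp : p.Prime := hM.1
  have hPr := Cfsg.Agent.Lib.Helper16.isPrime_of_isPModular hM
  let _ := Fintype.ofFinite (Subgroup.centralizer ({z} : Set G))
  have := Cfsg.Agent.Lib.Helper81.irr_finite (G := G)
  have := Fintype.ofFinite (Cfsg.IrrCharacter G)
  have := Cfsg.Agent.Lib.Helper81.irr_finite (G := Subgroup.centralizer ({z} : Set G))
  have := Fintype.ofFinite (Cfsg.IrrCharacter (Subgroup.centralizer ({z} : Set G)))
  have key := Cfsg.Agent.Lib.Helper78.section_norm p M hM z hz y hy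
  have hreal : ∀ {α : Type _} [Fintype α] (s : Set α) (f : α → ℝ),
      ∑ᶠ a ∈ s, f a = ∑ a, if a ∈ s then f a else 0 := by
    intro α _ s f
    rw [finsum_mem_def, finsum_eq_sum_of_fintype]
    apply Finset.sum_congr rfl
    intro a _
    by_cases ha : a ∈ s <;> simp [ha]
  have hL : ((∑ᶠ ζ ∈ Cfsg.principalBlock M G, ‖(ζ : G → ℂ) (z * (y : G))‖ ^ 2 : ℝ) : ℂ) =
      ∑ᶠ ζ ∈ Cfsg.principalBlock M G,
        (ζ : G → ℂ) (z * (y : G)) * starRingEnd ℂ ((ζ : G → ℂ) (z * (y : G))) := by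
    rw [Cfsg.Agent.Lib.Helper16.finsum_mem_eq_sum_ite, hreal]
    push_cast
    refine Finset.sum_congr rfl fun ζ _ => ?_
    split_ifs
    · rw [Complex.mul_conj']
      push_cast
      rfl
    · rfl
  have hR : ∀ c : Subgroup.centralizer ({z} : Set G),
      ((∑ᶠ χ ∈ Cfsg.principalBlock M (Subgroup.centralizer ({z} : Set G)),
        ‖(χ : Subgroup.centralizer ({z} : Set G) → ℂ) c‖ ^ 2 : ℝ) : ℂ) =
      ∑ᶠ χ ∈ Cfsg.principalBlock M (Subgroup.centralizer ({z} : Set G)),
        (χ : Subgroup.centralizer ({z} : Set G) → ℂ) c *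
          (χ : Subgroup.centralizer ({z} : Set G) → ℂ) c⁻¹ := by
    intro c
    rw [Cfsg.Agent.Lib.Helper16.finsum_mem_eq_sum_ite, hreal]
    push_cast
    refine Finset.sum_congr rfl fun ζ _ => ?_
    split_ifs
    · rw [Cfsg.Agent.Lib.Helper81.irr_inv, Complex.mul_conj']
      push_cast
      rfl
    · rfl
  have hi : ∑ᶠ ζ ∈ Cfsg.principalBlock M G, ‖(ζ : G → ℂ) (z * (y : G))‖ ^ 2 =
      ∑ᶠ χ ∈ Cfsg.principalBlock M (Subgroup.centralizer ({z} : Set G)),
        ‖(χ : Subgroup.centralizer ({z} : Set G) → ℂ) y‖ ^ 2 := by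
    apply Complex.ofReal_injective
    rw [hL, hR, key]
  refine ⟨hi, ?_⟩
  rintro ⟨k, hk⟩
  rw [hi]
  have hNn : (Cfsg.pPrimeCore p (Subgroup.centralizer ({z} : Set G))).Normal :=
    Cfsg.Agent.Lib.Helper75.pPrimeCore_normal' p _
  have hb := Cfsg.Agent.S0939.result (G := Subgroup.centralizer ({z} : Set G)) p M hM ⟨k, hk⟩
  have hb₀ : Cfsg.IsPBlock M (Cfsg.principalBlock M (Subgroup.centralizer ({z} : Set G))) :=
    Cfsg.Agent.Lib.Helper77.isPBlock_principalBlock M
  have hker : ∀ ξ ∈ Cfsg.principalBlock M (Subgroup.centralizer ({z} : Set G)),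
      ∀ n ∈ Cfsg.pPrimeCore p (Subgroup.centralizer ({z} : Set G)),
        (ξ : Subgroup.centralizer ({z} : Set G) → ℂ) n =
          (ξ : Subgroup.centralizer ({z} : Set G) → ℂ) 1 := by
    intro ξ hξ
    rw [hb] at hξ
    exact hξ
  have hyN : y ∈ Cfsg.pPrimeCore p (Subgroup.centralizer ({z} : Set G)) :=
    Cfsg.Agent.Lib.Helper16.mem_of_pRegular_of_index hp _ hk hy
  -- the sum of squares of degrees
  obtain ⟨S, hS⟩ : ∃ S : ℂ, S = ∑ᶠ ξ ∈ Cfsg.principalBlock M (Subgroup.centralizer ({z} : Set G)),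
      (ξ : Subgroup.centralizer ({z} : Set G) → ℂ) 1 *
        starRingEnd ℂ ((ξ : Subgroup.centralizer ({z} : Set G) → ℂ) 1) := ⟨_, rfl⟩
  have hcoef : ∀ g : Subgroup.centralizer ({z} : Set G),
      Cfsg.blockCoeff (Cfsg.principalBlock M (Subgroup.centralizer ({z} : Set G))) g =
        if g ∈ Cfsg.pPrimeCore p (Subgroup.centralizer ({z} : Set G)) then
          (Nat.card (Subgroup.centralizer ({z} : Set G)) : ℂ)⁻¹ * S else 0 := by
    intro g
    by_cases hg : g ∈ Cfsg.pPrimeCore p (Subgroup.centralizer ({z} : Set G))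
    · rw [if_pos hg, hS]
      unfold Cfsg.blockCoeff
      congr 1
      refine finsum_mem_congr rfl fun ξ hξ => ?_
      rw [hker ξ hξ g hg]
    · rw [if_neg hg]
      apply Cfsg.Agent.Lib.Helper77.blockCoeff_eq_zero_of_singular hM _ hb₀
      by_contra hreg
      exact hg (Cfsg.Agent.Lib.Helper16.mem_of_pRegular_of_index hp _ hk hreg)
  have hom := Cfsg.Agent.Lib.Helper16.omega_blockCoeff hPr hb₀
    (Cfsg.Agent.Lib.Helper77.trivIrr (Subgroup.centralizer ({z} : Set G)))
  rw [if_pos (Cfsg.Agent.Lib.Helper77.trivIrr_mem_principalBlock hPr)] at hom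
  unfold Cfsg.Agent.Lib.Helper16.omega at hom
  simp only [Cfsg.Agent.Lib.Helper77.trivIrr_apply, mul_one, div_one] at hom
  rw [Finset.sum_congr rfl (fun g _ => hcoef g), ← Finset.sum_filter, Finset.sum_const,
    nsmul_eq_mul] at hom
  have hcardN : (Finset.univ.filter (fun g : Subgroup.centralizer ({z} : Set G) =>
      g ∈ Cfsg.pPrimeCore p (Subgroup.centralizer ({z} : Set G)))).card =
      Nat.card (Cfsg.pPrimeCore p (Subgroup.centralizer ({z} : Set G))) := by
    rw [Nat.card_eq_fintype_card, Fintype.card_subtype]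
  rw [hcardN] at hom
  have hmul : Nat.card (Cfsg.pPrimeCore p (Subgroup.centralizer ({z} : Set G))) * p ^ k =
      Nat.card (Subgroup.centralizer ({z} : Set G)) := by
    rw [← hk]
    exact Subgroup.card_mul_index _
  have hN0 : Nat.card (Cfsg.pPrimeCore p (Subgroup.centralizer ({z} : Set G))) ≠ 0 :=
    Nat.card_pos.ne'
  have hSval : S = (p : ℂ) ^ k := by
    have hN0' : (Nat.card (Cfsg.pPrimeCore p (Subgroup.centralizer ({z} : Set G))) : ℂ) ≠ 0 := by
      exact_mod_cast hN0
    have hp0 : (p : ℂ) ^ k ≠ 0 := pow_ne_zero _ (by exact_mod_cast hp.ne_zero)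
    rw [← hmul] at hom
    push_cast at hom
    field_simp at hom
    linear_combination hom
  have hfac : (Nat.card (Subgroup.centralizer ({z} : Set G))).factorization p = k := by
    rw [← hmul, Nat.factorization_mul hN0 (pow_ne_zero _ hp.ne_zero), Finsupp.add_apply,
      Nat.factorization_eq_zero_of_not_dvd
        (Cfsg.Agent.Lib.Helper75.pPrimeCore_not_dvd p hp _),
      hp.factorization_pow, Finsupp.single_eq_same, zero_add]
  rw [hfac]
  apply Complex.ofReal_injective
  rw [hR y]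
  have e1 : ∑ᶠ χ ∈ Cfsg.principalBlock M (Subgroup.centralizer ({z} : Set G)),
        (χ : Subgroup.centralizer ({z} : Set G) → ℂ) y *
          (χ : Subgroup.centralizer ({z} : Set G) → ℂ) y⁻¹ = S := by
    rw [hS]
    refine finsum_mem_congr rfl fun ξ hξ => ?_
    rw [Cfsg.Agent.Lib.Helper81.irr_inv, hker ξ hξ y hyN]
  rw [e1, hSval]
  push_cast
  rfl

end Cfsg.Agent.S0947
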