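import Cfsg.Statements.S2800
import Cfsg.Agent.Lib.Helper34.ThompsonPC
import Cfsg.Agent.Lib.Helper34.JAb
import Cfsg.Agent.Lib.Helper34.EvenEndgame

set_option autoImplicit false
open Cfsg

namespace Cfsg.Agent.S2800

/-- Let S be a Sylow p-subgroup of the finite group G and J(S) the subgroup generated by the abelian subgroups of S of largest order. Suppose p is odd, or the symmetric group of degree 4 is not involved in G. If both C_G(Z(S)) and N_G(J(S)) have normal p-complements, then G has a normal p-complement. -/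
theorem result {G : Type*} [Group G] [Finite G] {p : ℕ} [Fact p.Prime] (S : Sylow p G) (h : p ≠ 2 ∨ ¬ Cfsg.Involves (Equiv.Perm (Fin 4)) G) (hC : Cfsg.HasNormalPComplement p ↥(Subgroup.centralizer (((S : Subgroup G) ⊓ Subgroup.centralizer ((S : Subgroup G) : Set G) : Subgroup G) : Set G))) (hN : Cfsg.HasNormalPComplement p ↥(Subgroup.normalizer ((Cfsg.thompsonSubgroupAOf (S : Subgroup G)) : Set G))) : Cfsg.HasNormalPComplement p G := by
  have hJ := Cfsg.Agent.Lib.Helper34.thompsonLike_ab p
  have hyp : Cfsg.Agent.Lib.Helper34.ThHyp p (fun (S : Type _) [Group S] => Cfsg.thompsonSubgroupA S)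
      (S : Subgroup G) :=
    ⟨(Cfsg.Agent.Lib.Helper34.ifc_iff_hnpc _).mpr hN, (Cfsg.Agent.Lib.Helper34.ifc_iff_hnpc _).mpr hC⟩
  by_cases hp2 : p = 2
  · subst hp2
    have hS4 : ¬ Cfsg.Involves (Equiv.Perm (Fin 4)) G := by
      rcases h with h | h
      · exact absurd rfl h
      · exact h
    exact Cfsg.Agent.Lib.Helper34.thompson_general hJ
      (fun (X : Type _) [Group X] => ¬ Cfsg.Involves (Equiv.Perm (Fin 4)) X)
      (fun X _ M hX hM => hX (Cfsg.Agent.Lib.Helper34.involves_of_subgroup M hM))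
      (fun X _ N _ hX hN => hX (Cfsg.Agent.Lib.Helper34.involves_of_quotient N hN))
      (fun X _ _ hX _ _ _ _ _ hE => hX hE.involves_S4) (Nat.card G) G rfl hS4 S hyp
  · exact Cfsg.Agent.Lib.Helper34.thompson_odd hJ hp2 S hyp

end Cfsg.Agent.S2800
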