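import Mathlib
import Cfsg.Statements.S1140

set_option autoImplicit false
open Cfsg

namespace Cfsg.Agent.S1140

/-- The combination map from coefficient families to additive endomorphisms. -/
noncomputable def comb {F : Type*} [Field F] [Fintype F] (c : (F ≃+* F) → F) : F →+ F :=
  haveI : Finite (F ≃+* F) := DFunLike.finite _
  letI : Fintype (F ≃+* F) := Fintype.ofFinite _
  { toFun := fun x => ∑ σ, c σ * σ x
    map_zero' := by simp
    map_add' := by intro x y; simp [mul_add, Finset.sum_add_distrib] }

theorem comb_apply {F : Type*} [Field F] [Fintype F] [Fintype (F ≃+* F)] (c : (F ≃+* F) → F) (x : F) :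
    comb c x = ∑ σ, c σ * σ x := by
  unfold comb
  simp only [AddMonoidHom.coe_mk, ZeroHom.coe_mk]
  congr!

/-- For a finite field `F` of characteristic 2, the automorphisms of `F`, viewed as additive maps `F → F`, are linearly independent over `F` (acting on values) every additive endomorphism of `F` is an `F`-linear combination of them, and every biadditive map `F → F → F` is an `F`-combination of the maps `(x, y) ↦ σ(x) τ(y)`. -/
theorem result {F : Type*} [Field F] [Fintype F] [CharP F 2] :
    LinearIndependent F (fun σ : F ≃+* F => ((σ : F →+* F) : F → F)) ∧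
      (∀ f : F →+ F, ∃ (s : Finset (F ≃+* F)) (c : (F ≃+* F) → F), ∀ x : F, f x = ∑ σ ∈ s, c σ * σ x) ∧
      ∀ B : F →+ F →+ F, ∃ (s : Finset ((F ≃+* F) × (F ≃+* F))) (c : (F ≃+* F) × (F ≃+* F) → F),
        ∀ x y : F, B x y = ∑ p ∈ s, c p * (p.1 x * p.2 y) := by
  classical
  let _ : Algebra (ZMod 2) F := ZMod.algebra F 2
  have : Finite (F ≃+* F) := DFunLike.finite _
  have : Finite (F →+ F) := DFunLike.finite _
  let _ : Fintype (F ≃+* F) := Fintype.ofFinite _
  have hLI : LinearIndependent F (fun σ : F ≃+* F => ((σ : F →+* F) : F → F)) := by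
    have h := linearIndependent_monoidHom F F
    have hinj : Function.Injective (fun σ : F ≃+* F => ((σ : F →+* F) : F →* F)) := by
      intro σ τ h
      ext x
      exact DFunLike.congr_fun h x
    exact h.comp _ hinj
  -- cardinalities
  have hcardF : Nat.card F = 2 ^ Module.finrank (ZMod 2) F := by
    rw [Module.natCard_eq_pow_finrank (K := ZMod 2) (V := F), Nat.card_zmod]
  let e : (F ≃+* F) ≃ (F ≃ₐ[ZMod 2] F) :=
    { toFun := fun σ => AlgEquiv.ofRingEquiv (f := σ) (fun x => by
        have : (σ : F →+* F).comp (algebraMap (ZMod 2) F) = algebraMap (ZMod 2) F := Subsingleton.elim _ _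
        exact RingHom.congr_fun this x)
      invFun := fun σ => σ.toRingEquiv
      left_inv := fun σ => by ext x; rfl
      right_inv := fun σ => by ext x; rfl }
  have hcardAut : Nat.card (F ≃+* F) = Module.finrank (ZMod 2) F := by
    rw [Nat.card_congr e, IsGalois.card_aut_eq_finrank]
  have hcardEnd : Nat.card (F →+ F) = 2 ^ (Module.finrank (ZMod 2) F * Module.finrank (ZMod 2) F) := by
    rw [Nat.card_congr (AddMonoidHom.toZModLinearMapEquiv 2 (M := F) (M₁ := F)).toEquiv,
      Module.natCard_eq_pow_finrank (K := ZMod 2) (V := F →ₗ[ZMod 2] F), Nat.card_zmod,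
      Module.finrank_linearMap]
  have hinj : Function.Injective (comb (F := F)) := by
    intro c c' h
    have h0 : ∀ g : (F ≃+* F) → F, ∑ σ, g σ • ((σ : F →+* F) : F → F) = 0 → ∀ σ, g σ = 0 :=
      Fintype.linearIndependent_iff.1 hLI
    have h1 : ∀ σ, (c - c') σ = 0 := by
      apply h0
      funext x
      have h2 := DFunLike.congr_fun h x
      rw [comb_apply, comb_apply] at h2
      simp only [Finset.sum_apply, Pi.smul_apply, smul_eq_mul, Pi.sub_apply, Pi.zero_apply, sub_mul,
        Finset.sum_sub_distrib]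
      rw [sub_eq_zero]
      exact h2
    funext σ
    have := h1 σ
    rwa [Pi.sub_apply, sub_eq_zero] at this
  have hbij : Function.Bijective (comb (F := F)) := by
    rw [Nat.bijective_iff_injective_and_card]
    refine ⟨hinj, ?_⟩
    rw [Nat.card_fun, hcardAut, hcardF, hcardEnd, pow_mul]
  have hadd : ∀ c c' : (F ≃+* F) → F, comb (c + c') = comb c + comb c' := by
    intro c c'
    ext x
    rw [AddMonoidHom.add_apply, comb_apply, comb_apply, comb_apply]
    simp [add_mul, Finset.sum_add_distrib]
  have h2 : ∀ f : F →+ F, ∃ c : (F ≃+* F) → F, ∀ x : F, f x = ∑ σ, c σ * σ x := by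
    intro f
    obtain ⟨c, hc⟩ := hbij.2 f
    refine ⟨c, fun x => ?_⟩
    rw [← hc, comb_apply]
  refine ⟨hLI, ?_, ?_⟩
  · intro f
    obtain ⟨c, hc⟩ := h2 f
    exact ⟨Finset.univ, c, hc⟩
  · intro B
    let Ψ : (F →+ F) → ((F ≃+* F) → F) := (Equiv.ofBijective _ hbij).symm
    have hΨ : ∀ f, comb (Ψ f) = f := fun f => (Equiv.ofBijective _ hbij).apply_symm_apply f
    have hΨadd : ∀ f g, Ψ (f + g) = Ψ f + Ψ g := by
      intro f g
      apply hinj
      rw [hadd, hΨ, hΨ, hΨ]
    have hΨzero : Ψ 0 = 0 := by
      have := hΨadd 0 0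
      rw [add_zero] at this
      exact left_eq_add.mp this
    -- the coefficient of `τ` is additive in `x`
    let g : (F ≃+* F) → (F →+ F) := fun τ =>
      { toFun := fun x => Ψ (B x) τ
        map_zero' := by rw [map_zero, hΨzero]; rfl
        map_add' := fun x y => by rw [map_add, hΨadd]; rfl }
    choose d hd using fun τ => h2 (g τ)
    refine ⟨Finset.univ, fun p => d p.2 p.1, fun x y => ?_⟩
    have h3 : B x y = ∑ τ, Ψ (B x) τ * τ y := by
      rw [← comb_apply, hΨ]
    rw [h3, Fintype.sum_prod_type, Finset.sum_comm]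
    apply Finset.sum_congr rfl
    intro τ _
    have h4 : Ψ (B x) τ = ∑ σ, d τ σ * σ x := hd τ x
    rw [h4, Finset.sum_mul]
    apply Finset.sum_congr rfl
    intro σ _
    ring

end Cfsg.Agent.S1140
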