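import Mathlib
import Cfsg.Agent.Lib.Helper5.PSL2
import Cfsg.Agent.Lib.Helper5.SLGen
import Cfsg.Agent.Lib.Helper5.OrbitHom
import Cfsg.Agent.S0249
import Cfsg.Statements.S0256

set_option autoImplicit false
open Cfsg

namespace Cfsg.Agent.S0256

open Cfsg.Agent.Lib.Helper5 Matrix

/-- The group `SL₄(𝔽₂)`. -/
abbrev G := Matrix.SpecialLinearGroup (Fin 4) (ZMod 2)

/-- Bilinear forms on `𝔽₂⁴`, on which `G` acts by congruence. -/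
@[ext]
structure Alt where
  /-- The Gram matrix. -/
  M : Matrix (Fin 4) (Fin 4) (ZMod 2)

instance : DecidableEq Alt := fun A B =>
  decidable_of_iff (A.M = B.M) ⟨fun h => Alt.ext h, fun h => congrArg Alt.M h⟩

instance : MulAction G Alt where
  smul g A := ⟨g.1 * A.M * g.1ᵀ⟩
  one_smul A := by
    ext1
    change (1 : G).1 * A.M * (1 : G).1ᵀ = A.M
    simp
  mul_smul g h A := by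
    ext1
    change (g * h).1 * A.M * (g * h).1ᵀ = g.1 * (h.1 * A.M * h.1ᵀ) * g.1ᵀ
    simp [Matrix.mul_assoc]

theorem smul_M (g : G) (A : Alt) : (g • A).M = g.1 * A.M * g.1ᵀ := rfl

open scoped Pointwise

/-- The eight families of seven pairwise "non-orthogonal" symplectic forms. -/
def cl : Fin 8 → Finset Alt :=
  ![{⟨!![0, 0, 0, 1; 0, 0, 1, 0; 0, 1, 0, 0; 1, 0, 0, 0]⟩, ⟨!![0, 0, 1, 0; 0, 0, 1, 1; 1, 1, 0, 0; 0, 1, 0, 0]⟩, ⟨!![0, 0, 1, 1; 0, 0, 0, 1; 1, 0, 0, 1; 1, 1, 1, 0]⟩, ⟨!![0, 1, 0, 0; 1, 0, 1, 1; 0, 1, 0, 1; 0, 1, 1, 0]⟩, ⟨!![0, 1, 0, 1; 1, 0, 0, 0; 0, 0, 0, 1; 1, 0, 1, 0]⟩, ⟨!![0, 1, 1, 0; 1, 0, 1, 0; 1, 1, 0, 1; 0, 0, 1, 0]⟩, ⟨!![0, 1, 1, 1; 1, 0, 0, 1; 1, 0, 0, 0; 1, 1, 0, 0]⟩},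
    {⟨!![0, 0, 0, 1; 0, 0, 1, 0; 0, 1, 0, 0; 1, 0, 0, 0]⟩, ⟨!![0, 0, 1, 0; 0, 0, 1, 1; 1, 1, 0, 1; 0, 1, 1, 0]⟩, ⟨!![0, 0, 1, 1; 0, 0, 0, 1; 1, 0, 0, 0; 1, 1, 0, 0]⟩, ⟨!![0, 1, 0, 0; 1, 0, 1, 0; 0, 1, 0, 1; 0, 0, 1, 0]⟩, ⟨!![0, 1, 0, 1; 1, 0, 0, 1; 0, 0, 0, 1; 1, 1, 1, 0]⟩, ⟨!![0, 1, 1, 0; 1, 0, 1, 1; 1, 1, 0, 0; 0, 1, 0, 0]⟩, ⟨!![0, 1, 1, 1; 1, 0, 0, 0; 1, 0, 0, 1; 1, 0, 1, 0]⟩},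
    {⟨!![0, 0, 0, 1; 0, 0, 1, 0; 0, 1, 0, 1; 1, 0, 1, 0]⟩, ⟨!![0, 0, 1, 0; 0, 0, 1, 1; 1, 1, 0, 0; 0, 1, 0, 0]⟩, ⟨!![0, 0, 1, 1; 0, 0, 0, 1; 1, 0, 0, 0; 1, 1, 0, 0]⟩, ⟨!![0, 1, 0, 0; 1, 0, 0, 1; 0, 0, 0, 1; 0, 1, 1, 0]⟩, ⟨!![0, 1, 0, 1; 1, 0, 1, 0; 0, 1, 0, 0; 1, 0, 0, 0]⟩, ⟨!![0, 1, 1, 0; 1, 0, 0, 0; 1, 0, 0, 1; 0, 0, 1, 0]⟩, ⟨!![0, 1, 1, 1; 1, 0, 1, 1; 1, 1, 0, 1; 1, 1, 1, 0]⟩},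
    {⟨!![0, 0, 0, 1; 0, 0, 1, 0; 0, 1, 0, 1; 1, 0, 1, 0]⟩, ⟨!![0, 0, 1, 0; 0, 0, 1, 1; 1, 1, 0, 1; 0, 1, 1, 0]⟩, ⟨!![0, 0, 1, 1; 0, 0, 0, 1; 1, 0, 0, 1; 1, 1, 1, 0]⟩, ⟨!![0, 1, 0, 0; 1, 0, 0, 0; 0, 0, 0, 1; 0, 0, 1, 0]⟩, ⟨!![0, 1, 0, 1; 1, 0, 1, 1; 0, 1, 0, 0; 1, 1, 0, 0]⟩, ⟨!![0, 1, 1, 0; 1, 0, 0, 1; 1, 0, 0, 0; 0, 1, 0, 0]⟩, ⟨!![0, 1, 1, 1; 1, 0, 1, 0; 1, 1, 0, 0; 1, 0, 0, 0]⟩},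
    {⟨!![0, 0, 0, 1; 0, 0, 1, 1; 0, 1, 0, 0; 1, 1, 0, 0]⟩, ⟨!![0, 0, 1, 0; 0, 0, 0, 1; 1, 0, 0, 0; 0, 1, 0, 0]⟩, ⟨!![0, 0, 1, 1; 0, 0, 1, 0; 1, 1, 0, 1; 1, 0, 1, 0]⟩, ⟨!![0, 1, 0, 0; 1, 0, 1, 1; 0, 1, 0, 1; 0, 1, 1, 0]⟩, ⟨!![0, 1, 0, 1; 1, 0, 0, 1; 0, 0, 0, 1; 1, 1, 1, 0]⟩, ⟨!![0, 1, 1, 0; 1, 0, 0, 0; 1, 0, 0, 1; 0, 0, 1, 0]⟩, ⟨!![0, 1, 1, 1; 1, 0, 1, 0; 1, 1, 0, 0; 1, 0, 0, 0]⟩},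
    {⟨!![0, 0, 0, 1; 0, 0, 1, 1; 0, 1, 0, 0; 1, 1, 0, 0]⟩, ⟨!![0, 0, 1, 0; 0, 0, 0, 1; 1, 0, 0, 1; 0, 1, 1, 0]⟩, ⟨!![0, 0, 1, 1; 0, 0, 1, 0; 1, 1, 0, 0; 1, 0, 0, 0]⟩, ⟨!![0, 1, 0, 0; 1, 0, 1, 0; 0, 1, 0, 1; 0, 0, 1, 0]⟩, ⟨!![0, 1, 0, 1; 1, 0, 0, 0; 0, 0, 0, 1; 1, 0, 1, 0]⟩, ⟨!![0, 1, 1, 0; 1, 0, 0, 1; 1, 0, 0, 0; 0, 1, 0, 0]⟩, ⟨!![0, 1, 1, 1; 1, 0, 1, 1; 1, 1, 0, 1; 1, 1, 1, 0]⟩},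
    {⟨!![0, 0, 0, 1; 0, 0, 1, 1; 0, 1, 0, 1; 1, 1, 1, 0]⟩, ⟨!![0, 0, 1, 0; 0, 0, 0, 1; 1, 0, 0, 0; 0, 1, 0, 0]⟩, ⟨!![0, 0, 1, 1; 0, 0, 1, 0; 1, 1, 0, 0; 1, 0, 0, 0]⟩, ⟨!![0, 1, 0, 0; 1, 0, 0, 1; 0, 0, 0, 1; 0, 1, 1, 0]⟩, ⟨!![0, 1, 0, 1; 1, 0, 1, 1; 0, 1, 0, 0; 1, 1, 0, 0]⟩, ⟨!![0, 1, 1, 0; 1, 0, 1, 0; 1, 1, 0, 1; 0, 0, 1, 0]⟩, ⟨!![0, 1, 1, 1; 1, 0, 0, 0; 1, 0, 0, 1; 1, 0, 1, 0]⟩},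
    {⟨!![0, 0, 0, 1; 0, 0, 1, 1; 0, 1, 0, 1; 1, 1, 1, 0]⟩, ⟨!![0, 0, 1, 0; 0, 0, 0, 1; 1, 0, 0, 1; 0, 1, 1, 0]⟩, ⟨!![0, 0, 1, 1; 0, 0, 1, 0; 1, 1, 0, 1; 1, 0, 1, 0]⟩, ⟨!![0, 1, 0, 0; 1, 0, 0, 0; 0, 0, 0, 1; 0, 0, 1, 0]⟩, ⟨!![0, 1, 0, 1; 1, 0, 1, 0; 0, 1, 0, 0; 1, 0, 0, 0]⟩, ⟨!![0, 1, 1, 0; 1, 0, 1, 1; 1, 1, 0, 0; 0, 1, 0, 0]⟩, ⟨!![0, 1, 1, 1; 1, 0, 0, 1; 1, 0, 0, 0; 1, 1, 0, 0]⟩}]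

/-- The action of the elementary matrices on the eight families. -/
def σ : Fin 4 → Fin 4 → Fin 8 → Fin 8 :=
  ![![![0, 1, 2, 3, 4, 5, 6, 7],
    ![5, 6, 4, 7, 2, 0, 1, 3],
    ![7, 2, 1, 5, 6, 3, 4, 0],
    ![1, 0, 7, 4, 3, 6, 5, 2]],
  ![![4, 5, 6, 7, 0, 1, 2, 3],
    ![0, 1, 2, 3, 4, 5, 6, 7],
    ![1, 0, 7, 6, 5, 4, 3, 2],
    ![2, 7, 0, 5, 6, 3, 4, 1]],
  ![![2, 3, 0, 1, 6, 7, 4, 5],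
    ![1, 0, 3, 2, 7, 6, 5, 4],
    ![0, 1, 2, 3, 4, 5, 6, 7],
    ![6, 5, 4, 7, 2, 1, 0, 3]],
  ![![1, 0, 3, 2, 5, 4, 7, 6],
    ![3, 2, 1, 0, 6, 7, 4, 5],
    ![5, 4, 6, 7, 1, 0, 2, 3],
    ![0, 1, 2, 3, 4, 5, 6, 7]]]

/-- The image of a family under a matrix. -/
def img (g : Matrix (Fin 4) (Fin 4) (ZMod 2)) (s : Finset Alt) : Finset Alt :=
  s.image fun A => ⟨g * A.M * gᵀ⟩

theorem smul_cl (g : G) (s : Finset Alt) : g • s = img g.1 s := rfl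

set_option maxRecDepth 100000 in
theorem check : ∀ i j : Fin 4, i ≠ j → ∀ k : Fin 8,
    img (Matrix.transvection i j 1) (cl k) = cl (σ i j k) := by
  decide +kernel

theorem cl_injective : Function.Injective cl := by
  decide +kernel

/-- Every element of `G` permutes the eight families. -/
theorem perm_cl (g : G) : ∀ k, ∃ l, g • cl k = cl l := by
  refine transvection_induction (fun g : G => ∀ k, ∃ l, g • cl k = cl l) ?_ ?_ g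
  · intro i j hij c k
    have hc : c = 0 ∨ c = 1 := by
      revert c
      decide
    rcases hc with rfl | rfl
    · refine ⟨k, ?_⟩
      have h1 : Matrix.SpecialLinearGroup.transvection hij (0 : ZMod 2) = 1 := by
        apply Subtype.ext
        rw [Matrix.SpecialLinearGroup.transvection_coe]
        simp
      rw [h1, one_smul]
    · refine ⟨σ i j k, ?_⟩
      rw [smul_cl, Matrix.SpecialLinearGroup.transvection_coe]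
      exact check i j hij k
  · intro A B hA hB k
    obtain ⟨l, hl⟩ := hB k
    obtain ⟨m, hm⟩ := hA l
    exact ⟨m, by rw [mul_smul, hl, hm]⟩

theorem card_G : Nat.card G = 20160 := by
  have h1 := card_GL_eq_card_SL_mul (n := Fin 4) (F := ZMod 2)
  have h2 : Nat.card (GL (Fin 4) (ZMod 2)) = 20160 := by
    rw [Matrix.card_GL_field, ZMod.card]
    simp [Fin.prod_univ_four]
  rw [h2, ZMod.card, show 2 - 1 = 1 from rfl, mul_one] at h1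
  exact h1.symm

theorem G_equiv [IsSimpleGroup G] : Nonempty (G ≃* alternatingGroup (Fin 8)) := by
  obtain ⟨ρ, hρ⟩ := exists_permHom cl cl_injective perm_cl
  have h01 : (0 : Fin 4) ≠ 1 := by decide
  have hne : ρ.ker ≠ ⊤ := by
    intro h
    have h1 : ρ (Matrix.SpecialLinearGroup.transvection h01 (1 : ZMod 2)) = 1 := by
      rw [← MonoidHom.mem_ker, h]
      trivial
    have h2 := hρ (Matrix.SpecialLinearGroup.transvection h01 (1 : ZMod 2)) 0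
    have h3 : img (1 + Matrix.single 0 1 1) (cl 0) = cl (σ 0 1 0) := check 0 1 h01 0
    rw [h1, Equiv.Perm.one_apply, smul_cl, Matrix.SpecialLinearGroup.transvection_coe, h3] at h2
    exact absurd (cl_injective h2) (by decide)
  have hinj : Function.Injective ρ := by
    rw [← MonoidHom.ker_eq_bot_iff]
    exact (ρ.normal_ker.eq_bot_or_eq_top).resolve_right hne
  exact nonempty_mulEquiv_alternatingGroup_of_card ρ hinj 8 (by simp) (by rw [card_G]; decide)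

/-- PSL_4(2) is isomorphic to A_8. -/
theorem result {F : Type*} [Field F] [Fintype F] (hF : Fintype.card F = 2) : Nonempty (Matrix.ProjectiveSpecialLinearGroup (Fin 4) F ≃* alternatingGroup (Fin 8)) := by
  obtain ⟨e⟩ := nonempty_psl_mulEquiv_sl_zmod_two (n := Fin 4) hF
  haveI : IsSimpleGroup (Matrix.ProjectiveSpecialLinearGroup (Fin 4) F) :=
    Cfsg.Agent.S0249.result 4 (by norm_num)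
  haveI : IsSimpleGroup G := e.symm.isSimpleGroup
  obtain ⟨e'⟩ := G_equiv
  exact ⟨e.trans e'⟩

end Cfsg.Agent.S0256
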