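import Mathlib
import Cfsg.Agent.Lib.Helper1.SZInternal
import Cfsg.Statements.S0029

namespace Cfsg.Agent.S0029

/-- Conjugation by an element of the normalizer, as an automorphism of the subgroup. -/
def conjEquiv {G : Type*} [Group G] (K : Subgroup G) (a : G)
    (ha : a ∈ Subgroup.normalizer (K : Set G)) : K ≃* K where
  toFun k := ⟨a * k * a⁻¹, (Subgroup.mem_normalizer_iff.mp ha k).1 k.2⟩
  invFun k := ⟨a⁻¹ * k * a, by
    have := (Subgroup.mem_normalizer_iff.mp (inv_mem ha) k).1 k.2
    simpa using this⟩
  left_inv k := by ext; simp [mul_assoc]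
  right_inv k := by ext; simp [mul_assoc]
  map_mul' x y := by ext; simp [mul_assoc]

open Cfsg.Agent.Lib.Helper1 in
theorem result {G : Type*} [Group G] [Finite G] (A K : Subgroup G)
    (hAK : A ≤ Subgroup.normalizer (K : Set G))
    (hcop : (Nat.card A).Coprime (Nat.card (frattini K)))
    (htriv : ∀ a ∈ A, ∀ k ∈ K, a * k * a⁻¹ * k⁻¹ ∈ (frattini K).map K.subtype) :
    A ≤ Subgroup.centralizer (K : Set G) := by
  set F : Subgroup G := (frattini K).map K.subtype with hF
  have hFK : F ≤ K := Subgroup.map_subtype_le _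
  have hAF : A ≤ Subgroup.normalizer (F : Set G) := by
    rw [Subgroup.le_normalizer_iff]
    rintro a ha _ ⟨n, hn, rfl⟩
    have h1 := Subgroup.characteristic_iff_map_eq.mp
      (frattini_characteristic (G := K)) (conjEquiv K a (hAK ha))
    have h2 : (conjEquiv K a (hAK ha)) n ∈ frattini K := by
      rw [← h1]; exact ⟨n, hn, rfl⟩
    exact ⟨_, h2, rfl⟩
  have hcardF : Nat.card F = Nat.card (frattini K) :=
    Subgroup.card_map_of_injective K.subtype_injective
  have hcopF : (Nat.card A).Coprime (Nat.card F) := by rw [hcardF]; exact hcop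
  have hsolvF : Group.IsSolvable F := by
    have : Group.IsNilpotent (frattini K) := frattini_nilpotent
    have hs : Group.IsSolvable (frattini K) := inferInstance
    exact Group.isSolvable_of_surjective
      (f := ((frattini K).equivMapOfInjective K.subtype K.subtype_injective).toMonoidHom)
      ((frattini K).equivMapOfInjective K.subtype K.subtype_injective).surjective
  -- the centralizer of A in K, as a subgroup of K
  have key : (Subgroup.centralizer (A : Set G)).subgroupOf K ⊔ frattini K = ⊤ := by
    rw [eq_top_iff]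
    rintro ⟨k, hk⟩ -
    have hfix : ∀ a ∈ A, k⁻¹ * a * k * a⁻¹ ∈ F := by
      intro a ha
      have := F.inv_mem (htriv a ha k⁻¹ (K.inv_mem hk))
      have e : (a * k⁻¹ * a⁻¹ * k⁻¹⁻¹)⁻¹ = k⁻¹ * a * k * a⁻¹ := by group
      rwa [e] at this
    obtain ⟨n, hn, hc⟩ := exists_mul_mem_centralizer A F hAF hcopF (Or.inr hsolvF) k hfix
    obtain ⟨n', hn', rfl⟩ := hn
    have e : (⟨k, hk⟩ : K) = (⟨k, hk⟩ * n') * n'⁻¹ := by group
    rw [e]
    apply Subgroup.mul_mem_sup
    · rw [Subgroup.mem_subgroupOf]
      exact hc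
    · exact inv_mem hn'
  have htop := frattini_nongenerating key
  rw [← Subgroup.le_centralizer_iff]
  intro k hk
  have : (⟨k, hk⟩ : K) ∈ (Subgroup.centralizer (A : Set G)).subgroupOf K := by
    rw [htop]; trivial
  exact Subgroup.mem_subgroupOf.mp this

end Cfsg.Agent.S0029
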