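import Mathlib
import Cfsg.Statements.S1516
import Cfsg.Agent.Lib.Helper25.CohSys

set_option autoImplicit false
open Cfsg

namespace Cfsg.Agent.S1516

open Cfsg.Agent.Lib.Helper26 Cfsg.Agent.Lib.Helper25
open scoped ComplexConjugate

theorem arith_c (c : ℤ) (Sg q : ℝ) (hq : 0 ≤ q) (hlt : q < Sg)
    (hle : (c : ℝ) ^ 2 * Sg ≤ q * (c : ℝ)) : c = 0 := by
  by_contra hc
  have h1 : (1 : ℤ) ≤ c ^ 2 := by
    have : 0 < c ^ 2 := by positivity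
    omega
  have h1' : (1 : ℝ) ≤ (c : ℝ) ^ 2 := by exact_mod_cast h1
  have h2 : (c : ℝ) ≤ (c : ℝ) ^ 2 := by exact_mod_cast int_le_sq c
  have h3 : (c : ℝ) ^ 2 * q < (c : ℝ) ^ 2 * Sg := mul_lt_mul_of_pos_left hlt (by linarith)
  have h4 : q * (c : ℝ) ≤ q * (c : ℝ) ^ 2 := mul_le_mul_of_nonneg_left h2 hq
  nlinarith

/-- Let (S, τ, R) be a coherence system from L to G with degrees φ 1 = d φ and squared norms ⟨φ, φ⟩ = n φ for φ ∈ S. Let S₁ ⊆ S be a finite subset closed under complex conjugation such that (S₁, L minus 1, τ) is coherent, let χ ∈ S with χ ∉ S₁ and conj χ ∉ S₁, and let χ₁ ∈ S₁ with d χ₁ dividing d χ and 2 d χ d χ₁ < Σ_{φ ∈ S₁} (d φ)² / n φ. Then S₁ together with χ and conj χ is coherent. -/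
theorem result {L : Type*} [Group L] [Fintype L] {G : Type*} [Group G] [Fintype G] (S : Set (L → ℂ)) (τ : (L → ℂ) → (G → ℂ)) (R : (L → ℂ) → Finset (G → ℂ)) (hS : Cfsg.IsCoherenceSystem S τ R) (d n : (L → ℂ) → ℕ) (hd : ∀ φ ∈ S, φ 1 = (d φ : ℂ)) (hn : ∀ φ ∈ S, Cfsg.classInner φ φ = (n φ : ℂ)) (S₁ : Finset (L → ℂ)) (hS₁ : ↑S₁ ⊆ S) (hS₁c : ∀ φ ∈ S₁, Cfsg.conjFun φ ∈ S₁) (hcoh : Cfsg.IsCoherent (↑S₁ : Set (L → ℂ)) {1}ᶜ τ) (χ : L → ℂ) (hχ : χ ∈ S) (hχ₁ : χ ∉ S₁) (hχ₂ : Cfsg.conjFun χ ∉ S₁) (χ₁ : L → ℂ) (hχ₁S : χ₁ ∈ S₁) (hdvd : d χ₁ ∣ d χ) (hineq : (2 * d χ * d χ₁ : ℝ) < ∑ φ ∈ S₁, ((d φ : ℝ) ^ 2 / (n φ : ℝ))) : Cfsg.IsCoherent (↑S₁ ∪ {χ, Cfsg.conjFun χ} : Set (L → ℂ)) {1}ᶜ τ := by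
  classical
  have hfin : Fintype (IrrCharacter G) := Fintype.ofFinite _
  obtain ⟨-, τ₁, hτ₁, hτ₁τ⟩ := hcoh
  have hτ' : IsLinearIsometryOn ((zspanOnSub S {1}ᶜ : Submodule ℤ (L → ℂ)) : Set (L → ℂ)) τ :=
    hS.isometry
  have hτ₁' : IsLinearIsometryOn ((Submodule.span ℤ (↑S₁ : Set (L → ℂ)) :
      Submodule ℤ (L → ℂ)) : Set (L → ℂ)) τ₁ := hτ₁
  set χc : L → ℂ := Cfsg.conjFun χ with hχcdef
  have hχcS : χc ∈ S := hS.conj_mem χ hχ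
  have hχne : χc ≠ χ := hS.conj_ne χ hχ
  have hS₁' : ∀ φ ∈ S₁, φ ∈ S := fun φ hφ => hS₁ (Finset.mem_coe.mpr hφ)
  have hχ₁S' : χ₁ ∈ S := hS₁' χ₁ hχ₁S
  -- nonvanishing
  have hne0 : ∀ φ ∈ S, φ ≠ 0 := by
    intro φ hφ h0
    apply hS.conj_ne φ hφ
    rw [h0]
    funext x
    simp [Cfsg.conjFun]
  have hdpos : ∀ φ ∈ S, 0 < d φ := by
    intro φ hφ
    obtain ⟨k, hk, e⟩ := char_one_pos (hS.isCharacter φ hφ) (hne0 φ hφ)
    rw [hd φ hφ] at e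
    have : d φ = k := by exact_mod_cast e
    omega
  have hnpos : ∀ φ ∈ S, 0 < n φ := by
    intro φ hφ
    rcases Nat.eq_zero_or_pos (n φ) with h0 | h0
    · exfalso
      have h1 := hn φ hφ
      rw [h0, Nat.cast_zero] at h1
      exact hne0 φ hφ (classInner_self_eq_zero h1)
    · exact h0
  obtain ⟨a, ha⟩ := hdvd
  have hmem₁ : ∀ φ ∈ S₁, φ ∈ Submodule.span ℤ (↑S₁ : Set (L → ℂ)) :=
    fun φ hφ => Submodule.subset_span (Finset.mem_coe.mpr hφ)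
  have hmemS : ∀ φ ∈ S, φ ∈ Submodule.span ℤ S := fun φ hφ => Submodule.subset_span hφ
  -- orthogonality relations in L
  have hχχ : classInner χ χ = (n χ : ℂ) := hn χ hχ
  have hcc : classInner χc χc = (n χ : ℂ) := by
    rw [hχcdef, classInner_conjFun]; exact hn χ hχ
  have hχχc : classInner χ χc = 0 := hS.orthogonal χ hχ χc hχcS (Ne.symm hχne)
  have hχcχ : classInner χc χ = 0 := hS.orthogonal χc hχcS χ hχ hχne
  have hχφ : ∀ φ ∈ S₁, classInner χ φ = 0 :=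
    fun φ hφ => hS.orthogonal χ hχ φ (hS₁' φ hφ) (fun h => hχ₁ (h ▸ hφ))
  have hφχ : ∀ φ ∈ S₁, classInner φ χ = 0 :=
    fun φ hφ => hS.orthogonal φ (hS₁' φ hφ) χ hχ (fun h => hχ₁ (h ▸ hφ))
  have hχcφ : ∀ φ ∈ S₁, classInner χc φ = 0 :=
    fun φ hφ => hS.orthogonal χc hχcS φ (hS₁' φ hφ) (fun h => hχ₂ (h ▸ hφ))
  have hφχc : ∀ φ ∈ S₁, classInner φ χc = 0 :=
    fun φ hφ => hS.orthogonal φ (hS₁' φ hφ) χc hχcS (fun h => hχ₂ (h ▸ hφ))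
  have hφφ : ∀ φ ∈ S₁, ∀ φ' ∈ S₁, classInner φ φ' = if φ = φ' then (n φ : ℂ) else 0 := by
    intro φ hφ φ' hφ'
    split_ifs with h
    · rw [← h]; exact hn φ (hS₁' φ hφ)
    · exact hS.orthogonal φ (hS₁' φ hφ) φ' (hS₁' φ' hφ') h
  -- the two basic differences
  set β : L → ℂ := χ - (a : ℤ) • χ₁ with hβ
  have hβ1 : β 1 = 0 := by
    rw [hβ, Pi.sub_apply, zsmul_apply', hd χ hχ, hd χ₁ hχ₁S', ha]
    push_cast; ring
  have hβE : β ∈ zspanOnSub S {1}ᶜ := by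
    show β ∈ zspanOn _ _
    rw [mem_zspanOn_one]
    exact ⟨Submodule.sub_mem _ (hmemS χ hχ) (Submodule.smul_mem _ _ (hmemS χ₁ hχ₁S')), hβ1⟩
  set γ : L → ℂ := χ - χc with hγ
  have hγ1 : γ 1 = 0 := by
    rw [hγ, Pi.sub_apply, hχcdef]
    simp [Cfsg.conjFun, hd χ hχ]
  have hγE : γ ∈ zspanOnSub S {1}ᶜ := by
    show γ ∈ zspanOn _ _
    rw [mem_zspanOn_one]
    exact ⟨Submodule.sub_mem _ (hmemS χ hχ) (hmemS χc hχcS), hγ1⟩
  have hχχ₁ : classInner χ χ₁ = 0 := hχφ χ₁ hχ₁S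
  have hχ₁χ : classInner χ₁ χ = 0 := hφχ χ₁ hχ₁S
  have hχ₁χ₁ : classInner χ₁ χ₁ = (n χ₁ : ℂ) := hn χ₁ hχ₁S'
  have hββ : classInner β β = (n χ : ℂ) + (a : ℂ) ^ 2 * (n χ₁ : ℂ) := by
    rw [hβ, classInner_sub_left, classInner_sub_right, classInner_sub_right,
      classInner_zsmul_left, classInner_zsmul_left, classInner_zsmul_right,
      classInner_zsmul_right, hχχ, hχχ₁, hχ₁χ, hχ₁χ₁]
    push_cast; ring
  have hβγ : classInner β γ = (n χ : ℂ) := by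
    rw [hβ, hγ, classInner_sub_left, classInner_sub_right, classInner_sub_right,
      classInner_zsmul_left, classInner_zsmul_left, hχχ, hχχc, hχ₁χ, hφχc χ₁ hχ₁S]
    ring
  have hγγ : classInner γ γ = 2 * (n χ : ℂ) := by
    rw [hγ, classInner_sub_left, classInner_sub_right, classInner_sub_right, hχχ, hχχc, hχcχ,
      hcc]
    ring
  have hβφ : ∀ φ ∈ S₁, classInner β φ = -(a : ℂ) * (if χ₁ = φ then (n χ₁ : ℂ) else 0) := by
    intro φ hφ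
    rw [hβ, classInner_sub_left, classInner_zsmul_left, hχφ φ hφ, hφφ χ₁ hχ₁S φ hφ]
    push_cast; ring
  set X : G → ℂ := τ β with hX
  set Γ : G → ℂ := τ γ with hΓ
  have hXgen : Cfsg.IsGeneralizedCharacter G X := lin_gen hτ' hβE
  have hΓgen : Cfsg.IsGeneralizedCharacter G Γ := lin_gen hτ' hγE
  have hΓsum : Γ = ∑ ρ ∈ R χ, ρ := hS.sum_eq χ hχ
  have hXX : classInner X X = (n χ : ℂ) + (a : ℂ) ^ 2 * (n χ₁ : ℂ) := by
    rw [hX, lin_inner hτ' hβE hβE, hββ]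
  have hXΓ : classInner X Γ = (n χ : ℂ) := by
    rw [hX, hΓ, lin_inner hτ' hβE hγE, hβγ]
  have hΓX : classInner Γ X = (n χ : ℂ) := by
    rw [← classInner_conj_symm, hXΓ, Complex.conj_natCast]
  have hΓΓ : classInner Γ Γ = 2 * (n χ : ℂ) := by
    rw [hΓ, lin_inner hτ' hγE hγE, hγγ]
  -- images of S₁ are orthogonal to R χ
  have hS₁sub : (↑S₁ : Set (L → ℂ)) ⊆ S := hS₁
  have hτ₁R : ∀ φ ∈ S₁, ∀ ρ ∈ R χ, classInner (τ₁ φ) ρ = 0 := by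
    intro φ hφ ρ hρ
    exact tau_orth_R hS hS₁sub hτ₁ hτ₁τ (Finset.mem_coe.mpr hφ)
      (Finset.mem_coe.mpr (hS₁c φ hφ)) hχ (hφχ φ hφ) (hφχc φ hφ) hρ
  have hRτ₁ : ∀ φ ∈ S₁, ∀ ρ ∈ R χ, classInner ρ (τ₁ φ) = 0 := by
    intro φ hφ ρ hρ
    rw [← classInner_conj_symm, hτ₁R φ hφ ρ hρ, map_zero]
  have hτ₁Γ : ∀ φ ∈ S₁, classInner (τ₁ φ) Γ = 0 := by
    intro φ hφ
    rw [hΓsum, classInner_sum_right]
    exact Finset.sum_eq_zero (fun ρ hρ => hτ₁R φ hφ ρ hρ)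
  have hΓτ₁ : ∀ φ ∈ S₁, classInner Γ (τ₁ φ) = 0 := by
    intro φ hφ
    rw [← classInner_conj_symm, hτ₁Γ φ hφ, map_zero]
  have hτ₁τ₁ : ∀ φ ∈ S₁, ∀ φ' ∈ S₁,
      classInner (τ₁ φ) (τ₁ φ') = if φ = φ' then (n φ : ℂ) else 0 := by
    intro φ hφ φ' hφ'
    rw [lin_inner hτ₁' (hmem₁ φ hφ) (hmem₁ φ' hφ'), hφφ φ hφ φ' hφ']
  -- integrality
  have hk : ∀ φ, ∃ k : ℤ, φ ∈ S₁ → classInner X (τ₁ φ) = k := by
    intro φ
    by_cases hφ : φ ∈ S₁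
    · obtain ⟨k, hk⟩ := classInner_gen_int hXgen (lin_gen hτ₁' (hmem₁ φ hφ))
      exact ⟨k, fun _ => hk⟩
    · exact ⟨0, fun h => absurd h hφ⟩
  choose k hk using hk
  have hj : ∀ ρ, ∃ j : ℤ, ρ ∈ R χ → classInner X ρ = j := by
    intro ρ
    by_cases hρ : ρ ∈ R χ
    · obtain ⟨j, hj⟩ := classInner_gen_int hXgen (hS.virtual χ hχ ρ hρ)
      exact ⟨j, fun _ => hj⟩
    · exact ⟨0, fun h => absurd h hρ⟩
  choose j hj using hj
  have hjsum : ∑ ρ ∈ R χ, (j ρ : ℝ) = (n χ : ℝ) := by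
    have h1 : ∑ ρ ∈ R χ, (j ρ : ℂ) = (n χ : ℂ) := by
      rw [← hXΓ, hΓsum, classInner_sum_right]
      exact Finset.sum_congr rfl (fun ρ hρ => (hj ρ hρ).symm)
    exact_mod_cast h1
  -- the relation between the k's
  have hδ : ∀ φ ∈ S₁, ((d χ₁ : ℤ) • φ - (d φ : ℤ) • χ₁) ∈
      zspanOn (↑S₁ : Set (L → ℂ)) {1}ᶜ := by
    intro φ hφ
    rw [mem_zspanOn_one]
    refine ⟨Submodule.sub_mem _ (Submodule.smul_mem _ _ (hmem₁ φ hφ))
      (Submodule.smul_mem _ _ (hmem₁ χ₁ hχ₁S)), ?_⟩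
    rw [Pi.sub_apply, zsmul_apply', zsmul_apply', hd φ (hS₁' φ hφ), hd χ₁ hχ₁S']
    push_cast; ring
  have hτδ : ∀ φ ∈ S₁, τ ((d χ₁ : ℤ) • φ - (d φ : ℤ) • χ₁) =
      (d χ₁ : ℤ) • τ₁ φ - (d φ : ℤ) • τ₁ χ₁ := by
    intro φ hφ
    rw [← hτ₁τ _ (hδ φ hφ), lin_sub hτ₁' (Submodule.smul_mem _ _ (hmem₁ φ hφ))
      (Submodule.smul_mem _ _ (hmem₁ χ₁ hχ₁S)), lin_zsmul hτ₁' (hmem₁ φ hφ),
      lin_zsmul hτ₁' (hmem₁ χ₁ hχ₁S)]
  set c : ℤ := k χ₁ + (a : ℤ) * (n χ₁ : ℤ) with hc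
  have hrel : ∀ φ ∈ S₁, (d χ₁ : ℤ) * k φ =
      (d φ : ℤ) * c - (if χ₁ = φ then (a : ℤ) * (d χ₁ : ℤ) * (n χ₁ : ℤ) else 0) := by
    intro φ hφ
    have h1 : classInner X (τ ((d χ₁ : ℤ) • φ - (d φ : ℤ) • χ₁)) =
        classInner β ((d χ₁ : ℤ) • φ - (d φ : ℤ) • χ₁) :=
      lin_inner hτ' hβE (zspanOn_mono hS₁sub _ (hδ φ hφ))
    rw [hτδ φ hφ, classInner_sub_right, classInner_zsmul_right, classInner_zsmul_right,
      hk φ hφ, hk χ₁ hχ₁S, classInner_sub_right, classInner_zsmul_right, classInner_zsmul_right,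
      hβφ φ hφ, hβφ χ₁ hχ₁S, if_pos rfl] at h1
    split_ifs with h
    · rw [if_pos h] at h1
      have h2 : (((d χ₁ : ℤ) * k φ : ℤ) : ℂ) =
          (((d φ : ℤ) * c - (a : ℤ) * (d χ₁ : ℤ) * (n χ₁ : ℤ) : ℤ) : ℂ) := by
        rw [hc]
        push_cast
        push_cast at h1
        linear_combination h1
      exact_mod_cast h2
    · rw [if_neg h] at h1
      have h2 : (((d χ₁ : ℤ) * k φ : ℤ) : ℂ) = (((d φ : ℤ) * c - 0 : ℤ) : ℂ) := by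
        rw [hc]
        push_cast
        push_cast at h1
        linear_combination h1
      exact_mod_cast h2
  -- Bessel's inequality for X against R χ and the images of S₁
  have hbes := bessel_le ((R χ).disjSum S₁) (Sum.elim (id : (G → ℂ) → (G → ℂ)) τ₁)
    (Sum.elim (fun _ : G → ℂ => (1 : ℝ)) (fun φ : L → ℂ => (n φ : ℝ)))
    (by
      rintro (ρ | φ) hi
      · exact one_ne_zero
      · have hφ := Finset.inr_mem_disjSum.mp hi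
        have := hnpos φ (hS₁' φ hφ)
        show (n φ : ℝ) ≠ 0
        exact_mod_cast this.ne')
    (by
      rintro (ρ | φ) hi (ρ' | φ') hi' hne
      · have hρ := Finset.inl_mem_disjSum.mp hi
        have hρ' := Finset.inl_mem_disjSum.mp hi'
        show classInner ρ ρ' = 0
        rw [hS.orthonormal χ hχ ρ hρ ρ' hρ', if_neg (fun h => hne (by rw [h]))]
      · have hρ := Finset.inl_mem_disjSum.mp hi
        have hφ' := Finset.inr_mem_disjSum.mp hi'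
        exact hRτ₁ φ' hφ' ρ hρ
      · have hφ := Finset.inr_mem_disjSum.mp hi
        have hρ' := Finset.inl_mem_disjSum.mp hi'
        exact hτ₁R φ hφ ρ' hρ'
      · have hφ := Finset.inr_mem_disjSum.mp hi
        have hφ' := Finset.inr_mem_disjSum.mp hi'
        show classInner (τ₁ φ) (τ₁ φ') = 0
        rw [hτ₁τ₁ φ hφ φ' hφ', if_neg (fun h => hne (by rw [h]))])
    (by
      rintro (ρ | φ) hi
      · have hρ := Finset.inl_mem_disjSum.mp hi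
        show classInner ρ ρ = ((1 : ℝ) : ℂ)
        rw [hS.orthonormal χ hχ ρ hρ ρ hρ, if_pos rfl]
        simp
      · have hφ := Finset.inr_mem_disjSum.mp hi
        show classInner (τ₁ φ) (τ₁ φ) = (((n φ : ℕ) : ℝ) : ℂ)
        rw [hτ₁τ₁ φ hφ φ hφ, if_pos rfl]
        simp)
    X
  rw [Finset.sum_disjSum] at hbes
  have hnormint : ∀ m : ℤ, ‖((m : ℤ) : ℂ)‖ ^ 2 = (m : ℝ) ^ 2 := by
    intro m
    have : ‖((m : ℤ) : ℂ)‖ = |(m : ℝ)| := by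
      rw [← Complex.ofReal_intCast, Complex.norm_real, Real.norm_eq_abs]
    rw [this, sq_abs]
  have hbes1 : ∑ ρ ∈ R χ, ‖classInner X (Sum.elim (id : (G → ℂ) → (G → ℂ)) τ₁ (Sum.inl ρ))‖ ^ 2 /
      Sum.elim (fun _ : G → ℂ => (1 : ℝ)) (fun φ : L → ℂ => (n φ : ℝ)) (Sum.inl ρ) =
      ∑ ρ ∈ R χ, (j ρ : ℝ) ^ 2 := by
    apply Finset.sum_congr rfl
    intro ρ hρ
    simp only [Sum.elim_inl, id, div_one]
    rw [hj ρ hρ, hnormint]
  have hbes2 : ∑ φ ∈ S₁, ‖classInner X (Sum.elim (id : (G → ℂ) → (G → ℂ)) τ₁ (Sum.inr φ))‖ ^ 2 /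
      Sum.elim (fun _ : G → ℂ => (1 : ℝ)) (fun φ : L → ℂ => (n φ : ℝ)) (Sum.inr φ) =
      ∑ φ ∈ S₁, (k φ : ℝ) ^ 2 / (n φ : ℝ) := by
    apply Finset.sum_congr rfl
    intro φ hφ
    simp only [Sum.elim_inr]
    rw [hk φ hφ, hnormint]
  rw [hbes1, hbes2, hXX] at hbes
  have hXXre : ((n χ : ℂ) + (a : ℂ) ^ 2 * (n χ₁ : ℂ)).re = (n χ : ℝ) + (a : ℝ) ^ 2 * (n χ₁ : ℝ) := by
    have : ((n χ : ℂ) + (a : ℂ) ^ 2 * (n χ₁ : ℂ)) =
        (((n χ : ℝ) + (a : ℝ) ^ 2 * (n χ₁ : ℝ) : ℝ) : ℂ) := by push_cast; ring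
    rw [this, Complex.ofReal_re]
  rw [hXXre] at hbes
  have hjge : (n χ : ℝ) ≤ ∑ ρ ∈ R χ, (j ρ : ℝ) ^ 2 := by
    rw [← hjsum]
    apply Finset.sum_le_sum
    intro ρ _
    exact_mod_cast int_le_sq (j ρ)
  have hB : ∑ φ ∈ S₁, (k φ : ℝ) ^ 2 / (n φ : ℝ) ≤ (a : ℝ) ^ 2 * (n χ₁ : ℝ) := by linarith
  -- rewrite the sum in terms of c
  have hd₁pos : (0 : ℝ) < (d χ₁ : ℝ) := by exact_mod_cast hdpos χ₁ hχ₁S'
  have hn₁pos : (0 : ℝ) < (n χ₁ : ℝ) := by exact_mod_cast hnpos χ₁ hχ₁S'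
  have hterm : ∀ φ ∈ S₁, (d χ₁ : ℝ) ^ 2 * ((k φ : ℝ) ^ 2 / (n φ : ℝ)) =
      (c : ℝ) ^ 2 * ((d φ : ℝ) ^ 2 / (n φ : ℝ)) -
        (if χ₁ = φ then (2 * (a : ℝ) * (c : ℝ) * (d χ₁ : ℝ) ^ 2 -
          (a : ℝ) ^ 2 * (d χ₁ : ℝ) ^ 2 * (n χ₁ : ℝ)) else 0) := by
    intro φ hφ
    have h1 := hrel φ hφ
    have hnφ : (0 : ℝ) < (n φ : ℝ) := by exact_mod_cast hnpos φ (hS₁' φ hφ)
    by_cases h : χ₁ = φ
    · rw [if_pos h] at h1
      rw [if_pos h]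
      have h2 : (d χ₁ : ℝ) * (k φ : ℝ) =
          (d φ : ℝ) * (c : ℝ) - (a : ℝ) * (d χ₁ : ℝ) * (n χ₁ : ℝ) := by exact_mod_cast h1
      subst h
      have h3 : (d χ₁ : ℝ) ^ 2 * ((k χ₁ : ℝ) ^ 2 / (n χ₁ : ℝ)) =
          ((d χ₁ : ℝ) * (k χ₁ : ℝ)) ^ 2 / (n χ₁ : ℝ) := by ring
      rw [h3, h2]
      field_simp
      ring
    · rw [if_neg h] at h1
      rw [if_neg h]
      have h2 : (d χ₁ : ℝ) * (k φ : ℝ) = (d φ : ℝ) * (c : ℝ) := by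
        have : (d χ₁ : ℤ) * k φ = (d φ : ℤ) * c := by linarith
        exact_mod_cast this
      have h3 : (d χ₁ : ℝ) ^ 2 * ((k φ : ℝ) ^ 2 / (n φ : ℝ)) =
          ((d χ₁ : ℝ) * (k φ : ℝ)) ^ 2 / (n φ : ℝ) := by ring
      rw [h3, h2]
      ring
  have hBeq : (d χ₁ : ℝ) ^ 2 * ∑ φ ∈ S₁, (k φ : ℝ) ^ 2 / (n φ : ℝ) =
      (c : ℝ) ^ 2 * (∑ φ ∈ S₁, ((d φ : ℝ) ^ 2 / (n φ : ℝ))) -
        (2 * (a : ℝ) * (c : ℝ) * (d χ₁ : ℝ) ^ 2 -
          (a : ℝ) ^ 2 * (d χ₁ : ℝ) ^ 2 * (n χ₁ : ℝ)) := by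
    rw [Finset.mul_sum, Finset.sum_congr rfl hterm, Finset.sum_sub_distrib, ← Finset.mul_sum,
      Finset.sum_ite_eq, if_pos hχ₁S]
  have hc0 : c = 0 := by
    apply arith_c c (∑ φ ∈ S₁, ((d φ : ℝ) ^ 2 / (n φ : ℝ))) (2 * (d χ : ℝ) * (d χ₁ : ℝ))
      (by positivity) hineq
    have h1 : (d χ₁ : ℝ) ^ 2 * ∑ φ ∈ S₁, (k φ : ℝ) ^ 2 / (n φ : ℝ) ≤
        (d χ₁ : ℝ) ^ 2 * ((a : ℝ) ^ 2 * (n χ₁ : ℝ)) :=
      mul_le_mul_of_nonneg_left hB (by positivity)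
    rw [hBeq] at h1
    have h2 : (d χ : ℝ) = (d χ₁ : ℝ) * (a : ℝ) := by exact_mod_cast ha
    rw [h2]
    nlinarith
  have hk1 : k χ₁ = -((a : ℤ) * (n χ₁ : ℤ)) := by
    have : k χ₁ + (a : ℤ) * (n χ₁ : ℤ) = 0 := by rw [← hc]; exact hc0
    linarith
  have hk0 : ∀ φ ∈ S₁, φ ≠ χ₁ → k φ = 0 := by
    intro φ hφ hne
    have h1 := hrel φ hφ
    rw [hc0, mul_zero, if_neg (fun h => hne h.symm), sub_zero] at h1
    rcases mul_eq_zero.mp h1 with h2 | h2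
    · have := hdpos χ₁ hχ₁S'
      omega
    · exact h2
  set Y : G → ℂ := X + (a : ℤ) • τ₁ χ₁ with hY
  set Y' : G → ℂ := Y - Γ with hY'
  have hYgen : Cfsg.IsGeneralizedCharacter G Y :=
    isGen_add hXgen (isGen_zsmul (lin_gen hτ₁' (hmem₁ χ₁ hχ₁S)) _)
  have hY'gen : Cfsg.IsGeneralizedCharacter G Y' := isGen_sub hYgen hΓgen
  have hYφ : ∀ φ ∈ S₁, classInner Y (τ₁ φ) = 0 := by
    intro φ hφ
    rw [hY, classInner_add_left, classInner_zsmul_left, hk φ hφ, hτ₁τ₁ χ₁ hχ₁S φ hφ]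
    by_cases h : χ₁ = φ
    · rw [if_pos h, ← h, hk1]
      push_cast; ring
    · rw [if_neg h, hk0 φ hφ (fun h' => h h'.symm)]
      push_cast; ring
  have hφY : ∀ φ ∈ S₁, classInner (τ₁ φ) Y = 0 := by
    intro φ hφ
    rw [← classInner_conj_symm, hYφ φ hφ, map_zero]
  have hτ₁X : classInner (τ₁ χ₁) X = ((k χ₁ : ℤ) : ℂ) := by
    rw [← classInner_conj_symm, hk χ₁ hχ₁S, map_intCast]
  have hYX : classInner Y X = (n χ : ℂ) := by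
    rw [hY, classInner_add_left, classInner_zsmul_left, hXX, hτ₁X, hk1]
    push_cast; ring
  have hYY : classInner Y Y = (n χ : ℂ) := by
    have h1 : classInner Y Y = classInner Y X + (a : ℤ) * classInner Y (τ₁ χ₁) := by
      conv_lhs => rw [hY]
      rw [classInner_add_right, classInner_zsmul_right]
    rw [h1, hYφ χ₁ hχ₁S, mul_zero, add_zero, hYX]
  have hYΓ : classInner Y Γ = (n χ : ℂ) := by
    rw [hY, classInner_add_left, classInner_zsmul_left, hXΓ, hτ₁Γ χ₁ hχ₁S, mul_zero, add_zero]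
  have hΓY : classInner Γ Y = (n χ : ℂ) := by
    rw [← classInner_conj_symm, hYΓ, Complex.conj_natCast]
  have hY'Y' : classInner Y' Y' = (n χ : ℂ) := by
    rw [hY', classInner_sub_left, classInner_sub_right, classInner_sub_right, hYY, hYΓ, hΓY,
      hΓΓ]
    ring
  have hYY' : classInner Y Y' = 0 := by
    rw [hY', classInner_sub_right, hYY, hYΓ, sub_self]
  have hY'Y : classInner Y' Y = 0 := by
    rw [hY', classInner_sub_left, hYY, hΓY, sub_self]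
  have hY'φ : ∀ φ ∈ S₁, classInner Y' (τ₁ φ) = 0 := by
    intro φ hφ
    rw [hY', classInner_sub_left, hYφ φ hφ, hΓτ₁ φ hφ, sub_self]
  have hφY' : ∀ φ ∈ S₁, classInner (τ₁ φ) Y' = 0 := by
    intro φ hφ
    rw [hY', classInner_sub_right, hφY φ hφ, hτ₁Γ φ hφ, sub_self]
  -- the extension
  set F : Finset (L → ℂ) := insert χ (insert χc S₁) with hF
  have hFset : (↑S₁ ∪ {χ, Cfsg.conjFun χ} : Set (L → ℂ)) = ↑F := by
    ext x
    simp only [hF, Set.mem_union, Finset.mem_coe, Set.mem_insert_iff, Set.mem_singleton_iff,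
      Finset.coe_insert]
    tauto
  rw [hFset]
  have hχnotin : χ ∉ insert χc S₁ := by
    intro h
    rcases Finset.mem_insert.mp h with h | h
    · exact hχne h.symm
    · exact hχ₁ h
  have hFS : ∀ x ∈ F, x ∈ S := by
    intro x hx
    rcases Finset.mem_insert.mp hx with h | h
    · rw [h]; exact hχ
    · rcases Finset.mem_insert.mp h with h | h
      · rw [h]; exact hχcS
      · exact hS₁' x h
  set T : (L → ℂ) → (G → ℂ) := fun θ => if θ = χ then Y else if θ = χc then Y' else τ₁ θ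
    with hT
  have hTχ : T χ = Y := by rw [hT]; simp
  have hTχc : T χc = Y' := by rw [hT]; simp [hχne]
  have hTφ : ∀ φ ∈ S₁, T φ = τ₁ φ := by
    intro φ hφ
    have h1 : φ ≠ χ := fun h => hχ₁ (h ▸ hφ)
    have h2 : φ ≠ χc := fun h => hχ₂ (h ▸ hφ)
    rw [hT]; simp [h1, h2]
  have horth : ∀ x ∈ F, ∀ y ∈ F, x ≠ y → classInner x y = 0 :=
    fun x hx y hy hne => hS.orthogonal x (hFS x hx) y (hFS y hy) hne
  have hnorm : ∀ x ∈ F, classInner x x ≠ 0 := by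
    intro x hx
    rw [hn x (hFS x hx)]
    exact_mod_cast (hnpos x (hFS x hx)).ne'
  have hFcases : ∀ x ∈ F, x = χ ∨ x = χc ∨ x ∈ S₁ := by
    intro x hx
    rcases Finset.mem_insert.mp hx with h | h
    · exact Or.inl h
    · rcases Finset.mem_insert.mp h with h | h
      · exact Or.inr (Or.inl h)
      · exact Or.inr (Or.inr h)
  have hTiso : ∀ x ∈ F, ∀ y ∈ F, classInner (T x) (T y) = classInner x y := by
    intro x hx y hy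
    rcases hFcases x hx with h | h | h <;> rcases hFcases y hy with h' | h' | h'
    · rw [h, h', hTχ, hYY, hχχ]
    · rw [h, h', hTχ, hTχc, hYY', hχχc]
    · rw [h, hTχ, hTφ y h', hYφ y h', hχφ y h']
    · rw [h, h', hTχ, hTχc, hY'Y, hχcχ]
    · rw [h, h', hTχc, hY'Y', hcc]
    · rw [h, hTχc, hTφ y h', hY'φ y h', hχcφ y h']
    · rw [h', hTχ, hTφ x h, hφY x h, hφχ x h]
    · rw [h', hTχc, hTφ x h, hφY' x h, hφχc x h]
    · rw [hTφ x h, hTφ y h', lin_inner hτ₁' (hmem₁ x h) (hmem₁ y h')]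
  have hTgen : ∀ x ∈ F, Cfsg.IsGeneralizedCharacter G (T x) := by
    intro x hx
    rcases hFcases x hx with h | h | h
    · rw [h, hTχ]; exact hYgen
    · rw [h, hTχc]; exact hY'gen
    · rw [hTφ x h]; exact lin_gen hτ₁' (hmem₁ x h)
  have hFspan : ∀ x ∈ F, x ∈ Submodule.span ℤ (↑F : Set (L → ℂ)) :=
    fun x hx => Submodule.subset_span (Finset.mem_coe.mpr hx)
  have hχF : χ ∈ F := Finset.mem_insert_self _ _
  have hχcF : χc ∈ F := Finset.mem_insert_of_mem (Finset.mem_insert_self _ _)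
  refine ⟨⟨γ, ?_, ?_⟩, extMap F T, extMap_isometry horth hnorm T hTiso hTgen, ?_⟩
  · rw [mem_zspanOn_one]
    exact ⟨Submodule.sub_mem _ (hFspan χ hχF) (hFspan χc hχcF), hγ1⟩
  · rw [hγ]
    exact sub_ne_zero.mpr (Ne.symm hχne)
  · intro α hα
    obtain ⟨hαspan, hα1⟩ := mem_zspanOn_one.mp hα
    obtain ⟨f, rfl⟩ := mem_zspan_finset.mp hαspan
    rw [extMap_comb horth hnorm T f, hF, Finset.sum_insert hχnotin, Finset.sum_insert hχ₂,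
      hTχ, hTχc]
    rw [hF, Finset.sum_insert hχnotin, Finset.sum_insert hχ₂] at hα1
    rw [Finset.sum_insert hχnotin, Finset.sum_insert hχ₂]
    set ρ : L → ℂ := ∑ x ∈ S₁, f x • x with hρ
    have hρmem : ρ ∈ Submodule.span ℤ (↑S₁ : Set (L → ℂ)) :=
      Submodule.sum_mem _ (fun φ hφ => Submodule.smul_mem _ _ (hmem₁ φ hφ))
    set δ : L → ℂ := ((f χ + f χc) * (a : ℤ)) • χ₁ + ρ with hδdef
    have hδmem : δ ∈ Submodule.span ℤ (↑S₁ : Set (L → ℂ)) :=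
      Submodule.add_mem _ (Submodule.smul_mem _ _ (hmem₁ χ₁ hχ₁S)) hρmem
    have hsplit : f χ • χ + (f χc • χc + ρ) = (f χ + f χc) • β + ((-f χc) • γ + δ) := by
      rw [hδdef, hβ, hγ]
      module
    have hδ1 : δ 1 = 0 := by
      have h1 : (f χ • χ + (f χc • χc + ρ)) 1 = 0 := hα1
      rw [hsplit, Pi.add_apply, Pi.add_apply, zsmul_apply', zsmul_apply', hβ1, hγ1, mul_zero,
        mul_zero, zero_add, zero_add] at h1
      exact h1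
    have hδ₀ : δ ∈ zspanOn (↑S₁ : Set (L → ℂ)) {1}ᶜ := mem_zspanOn_one.mpr ⟨hδmem, hδ1⟩
    have hδE : δ ∈ zspanOnSub S {1}ᶜ := zspanOn_mono hS₁sub _ hδ₀
    have hτδ' : τ δ = ((f χ + f χc) * (a : ℤ)) • τ₁ χ₁ + ∑ x ∈ S₁, f x • τ₁ x := by
      rw [← hτ₁τ δ hδ₀, hδdef,
        lin_add hτ₁' (Submodule.smul_mem _ _ (hmem₁ χ₁ hχ₁S)) hρmem,
        lin_zsmul hτ₁' (hmem₁ χ₁ hχ₁S), hρ,
        lin_sum hτ₁' S₁ (fun x => f x • x) (fun φ hφ => Submodule.smul_mem _ _ (hmem₁ φ hφ))]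
      congr 1
      exact Finset.sum_congr rfl (fun φ hφ => lin_zsmul hτ₁' (hmem₁ φ hφ) _)
    have hsumT : ∑ x ∈ S₁, f x • T x = ∑ x ∈ S₁, f x • τ₁ x :=
      Finset.sum_congr rfl (fun φ hφ => by rw [hTφ φ hφ])
    rw [hsplit, lin_add hτ' (Submodule.smul_mem _ _ hβE)
        (Submodule.add_mem _ (Submodule.smul_mem _ _ hγE) hδE),
      lin_add hτ' (Submodule.smul_mem _ _ hγE) hδE, lin_zsmul hτ' hβE, lin_zsmul hτ' hγE,
      hτδ', hsumT, ← hX, ← hΓ, hY', hY]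
    module

end Cfsg.Agent.S1516
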