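import Mathlib
import Cfsg.Statements.S1530
import Cfsg.Agent.Lib.Helper26.Coh

set_option autoImplicit false
open Cfsg

namespace Cfsg.Agent.S1530

open Cfsg.Agent.Lib.Helper26
open scoped ComplexConjugate

/-- The norm of a generalized character is a natural number. -/
theorem norm_gen_nat {G : Type*} [Group G] [Fintype G] {θ : G → ℂ}
    (hθ : Cfsg.IsGeneralizedCharacter G θ) : ∃ k : ℕ, Cfsg.classInner θ θ = k := by
  classical
  have : Fintype (IrrCharacter G) := Fintype.ofFinite _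
  obtain ⟨n, rfl⟩ := gen_expansion hθ
  refine ⟨(∑ ψ : Cfsg.IrrCharacter G, n ψ * n ψ).toNat, ?_⟩
  rw [classInner_expansion]
  have h0 : 0 ≤ ∑ ψ : Cfsg.IrrCharacter G, n ψ * n ψ :=
    Finset.sum_nonneg (fun ψ _ => mul_self_nonneg _)
  have h1 : ((∑ ψ : Cfsg.IrrCharacter G, n ψ * n ψ).toNat : ℤ) =
      ∑ ψ : Cfsg.IrrCharacter G, n ψ * n ψ := Int.toNat_of_nonneg h0
  have h2 : (((∑ ψ : Cfsg.IrrCharacter G, n ψ * n ψ).toNat : ℤ) : ℂ) =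
      ((∑ ψ : Cfsg.IrrCharacter G, n ψ * n ψ : ℤ) : ℂ) := by rw [h1]
  rw [Int.cast_natCast] at h2
  rw [h2]
  push_cast
  refine Finset.sum_congr rfl (fun ψ _ => ?_)
  simp

/-- A generalized character of norm one does not vanish at `1`. -/
theorem norm_one_ne_zero {G : Type*} [Group G] [Fintype G] {θ : G → ℂ}
    (hθ : Cfsg.IsGeneralizedCharacter G θ) (h1 : Cfsg.classInner θ θ = 1) : θ 1 ≠ 0 := by
  classical
  have : Fintype (IrrCharacter G) := Fintype.ofFinite _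
  rcases irr_or_neg_of_norm_one hθ h1 with h | h
  · obtain ⟨n, hn, e⟩ := irr_degree h
    rw [e]
    exact_mod_cast hn.ne'
  · obtain ⟨n, hn, e⟩ := irr_degree h
    intro h0
    rw [Pi.neg_apply, h0, neg_zero] at e
    have : (n : ℂ) ≠ 0 := by exact_mod_cast hn.ne'
    exact this e.symm

theorem arith_e (q a e D n' : ℤ) (hq : 1 ≤ q) (ha : 1 ≤ a) (hn : 0 ≤ n')
    (hlt : 2 * a * q < D) (hDge : q ≤ D)
    (hmain : q * n' + e ^ 2 * D - 2 * a * e * q = q) : e = 0 ∨ e = 1 := by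
  by_contra hcon
  rw [not_or] at hcon
  have hcases : e ≤ -1 ∨ 2 ≤ e := by
    rcases lt_trichotomy e 0 with h | h | h
    · left; omega
    · exact absurd h hcon.1
    · right
      have : e ≠ 1 := hcon.2
      omega
  have hn'd : 0 ≤ q * n' := mul_nonneg (by linarith) hn
  have haq : 0 < a * q := mul_pos (by linarith) (by linarith)
  rcases hcases with h | h
  · have h1 : 0 ≤ (-e - 1) * (-e + 1) := mul_nonneg (by linarith) (by linarith)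
    have h2 : 0 ≤ ((-e - 1) * (-e + 1)) * D := mul_nonneg h1 (by linarith)
    have h3 : 0 ≤ (a * q) * (-e - 1) := mul_nonneg haq.le (by linarith)
    nlinarith
  · have h1 : 0 ≤ (e - 2) * D := mul_nonneg (by linarith) (by linarith)
    have h2 : D + 1 ≤ e * D - 2 * a * q := by linarith
    have h3 : 0 ≤ (e - 2) * (e * D - 2 * a * q) := mul_nonneg (by linarith) (by linarith)
    nlinarith

/-- Let N be a subgroup of the finite group G and S₀ a finite set of irreducible characters of N, χ an irreducible character of N not in S₀, with degrees ξ 1 = d ξ. Let τ be a linear isometry on the integer combinations of S₀ ∪ {χ} vanishing at 1, with values virtual characters of G vanishing at 1, such that (S₀, N minus 1, τ) is coherent. If some ψ ∈ S₀ has d ψ dividing d χ and 2 · d ψ · d χ < Σ_{ξ ∈ S₀} (d ξ)², then (S₀ ∪ {χ}, N minus 1, τ) is coherent. -/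
theorem result {G : Type*} [Group G] [Fintype G] (N : Subgroup G) [Fintype N] (S₀ : Finset (N → ℂ)) (χ : N → ℂ) (hirr : ∀ ξ ∈ S₀, Cfsg.IsIrrCharacter N ξ) (hχ : Cfsg.IsIrrCharacter N χ) (hχS : χ ∉ S₀) (d : (N → ℂ) → ℕ) (hd : ∀ ξ ∈ insert χ S₀, ξ 1 = (d ξ : ℂ)) (τ : (N → ℂ) → (G → ℂ)) (hτ : Cfsg.IsLinearIsometryOn (Cfsg.zspanOn (↑(insert χ S₀) : Set (N → ℂ)) {1}ᶜ) τ) (hτ1 : ∀ α ∈ Cfsg.zspanOn (↑(insert χ S₀) : Set (N → ℂ)) {1}ᶜ, τ α 1 = 0) (hcoh : Cfsg.IsCoherent (↑S₀ : Set (N → ℂ)) {1}ᶜ τ) (ψ : N → ℂ) (hψ : ψ ∈ S₀) (hdvd : d ψ ∣ d χ) (hlt : 2 * d ψ * d χ < ∑ ξ ∈ S₀, d ξ ^ 2) : Cfsg.IsCoherent (↑(insert χ S₀) : Set (N → ℂ)) {1}ᶜ τ := by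
  classical
  have : Fintype (IrrCharacter G) := Fintype.ofFinite _
  obtain ⟨-, τ₁, hτ₁, hτ₁τ⟩ := hcoh
  have hτ' : IsLinearIsometryOn ((zspanOnSub (↑(insert χ S₀) : Set (N → ℂ)) {1}ᶜ :
      Submodule ℤ (N → ℂ)) : Set (N → ℂ)) τ := hτ
  have hτ₁' : IsLinearIsometryOn ((Submodule.span ℤ (↑S₀ : Set (N → ℂ)) :
      Submodule ℤ (N → ℂ)) : Set (N → ℂ)) τ₁ := hτ₁
  have hS₀S : (↑S₀ : Set (N → ℂ)) ⊆ ↑(insert χ S₀) := by
    intro x hx
    exact Finset.mem_coe.mpr (Finset.mem_insert_of_mem (Finset.mem_coe.mp hx))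
  have hdψ : ψ 1 = d ψ := hd ψ (Finset.mem_insert_of_mem hψ)
  have hdχ : χ 1 = d χ := hd χ (Finset.mem_insert_self _ _)
  have hψirr := hirr ψ hψ
  have hdψpos : 0 < d ψ := by
    obtain ⟨n, hn, e⟩ := irr_degree hψirr
    rw [hdψ] at e
    have : d ψ = n := by exact_mod_cast e
    omega
  have hdχpos : 0 < d χ := by
    obtain ⟨n, hn, e⟩ := irr_degree hχ
    rw [hdχ] at e
    have : d χ = n := by exact_mod_cast e
    omega
  obtain ⟨a, ha⟩ := hdvd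
  have hapos : 0 < a := by
    rcases Nat.eq_zero_or_pos a with h | h
    · rw [h, mul_zero] at ha; omega
    · exact h
  have hmem₀ : ∀ ξ ∈ S₀, ξ ∈ Submodule.span ℤ (↑S₀ : Set (N → ℂ)) :=
    fun ξ hξ => Submodule.subset_span (Finset.mem_coe.mpr hξ)
  have hmemS : ∀ ξ ∈ insert χ S₀, ξ ∈ Submodule.span ℤ (↑(insert χ S₀) : Set (N → ℂ)) :=
    fun ξ hξ => Submodule.subset_span (Finset.mem_coe.mpr hξ)
  set β : N → ℂ := χ - (a : ℤ) • ψ with hβ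
  have hβ1 : β 1 = 0 := by
    rw [hβ, Pi.sub_apply, zsmul_apply', hdχ, hdψ, ha]
    push_cast; ring
  have hβE : β ∈ zspanOnSub (↑(insert χ S₀) : Set (N → ℂ)) {1}ᶜ := by
    show β ∈ zspanOn _ _
    rw [mem_zspanOn_one]
    exact ⟨Submodule.sub_mem _ (hmemS χ (Finset.mem_insert_self _ _))
      (Submodule.smul_mem _ _ (hmemS ψ (Finset.mem_insert_of_mem hψ))), hβ1⟩
  have hχχ : classInner χ χ = 1 := classInner_irr_self hχ
  have hψψ : classInner ψ ψ = 1 := classInner_irr_self hψirr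
  have hχξ : ∀ ξ ∈ S₀, classInner χ ξ = 0 :=
    fun ξ hξ => classInner_irr_ne hχ (hirr ξ hξ) (fun h => hχS (h ▸ hξ))
  have hξχ : ∀ ξ ∈ S₀, classInner ξ χ = 0 :=
    fun ξ hξ => classInner_irr_ne (hirr ξ hξ) hχ (fun h => hχS (h ▸ hξ))
  have hβξ : ∀ ξ ∈ S₀, classInner β ξ = -(a : ℂ) * (if ψ = ξ then 1 else 0) := by
    intro ξ hξ
    rw [hβ, classInner_sub_left, classInner_zsmul_left, hχξ ξ hξ,
      classInner_irr hψirr (hirr ξ hξ)]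
    push_cast; ring
  have hββ : classInner β β = 1 + (a : ℂ) ^ 2 := by
    have h1 : classInner β β = classInner β χ - (a : ℤ) * classInner β ψ := by
      conv_lhs => rw [hβ]
      rw [classInner_sub_right, classInner_zsmul_right]
    rw [h1, hβξ ψ hψ, if_pos rfl, hβ, classInner_sub_left, classInner_zsmul_left, hχχ,
      hξχ ψ hψ]
    push_cast; ring
  have hγ : ∀ ξ ∈ S₀, ((d ψ : ℤ) • ξ - (d ξ : ℤ) • ψ) ∈ zspanOn (↑S₀ : Set (N → ℂ)) {1}ᶜ := by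
    intro ξ hξ
    rw [mem_zspanOn_one]
    refine ⟨Submodule.sub_mem _ (Submodule.smul_mem _ _ (hmem₀ ξ hξ))
      (Submodule.smul_mem _ _ (hmem₀ ψ hψ)), ?_⟩
    rw [Pi.sub_apply, zsmul_apply', zsmul_apply', hd ξ (Finset.mem_insert_of_mem hξ), hdψ]
    push_cast; ring
  have hτγ : ∀ ξ ∈ S₀, τ ((d ψ : ℤ) • ξ - (d ξ : ℤ) • ψ) =
      (d ψ : ℤ) • τ₁ ξ - (d ξ : ℤ) • τ₁ ψ := by
    intro ξ hξ
    rw [← hτ₁τ _ (hγ ξ hξ), lin_sub hτ₁' (Submodule.smul_mem _ _ (hmem₀ ξ hξ))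
      (Submodule.smul_mem _ _ (hmem₀ ψ hψ)), lin_zsmul hτ₁' (hmem₀ ξ hξ),
      lin_zsmul hτ₁' (hmem₀ ψ hψ)]
  have hk : ∀ ξ, ∃ k : ℤ, ξ ∈ S₀ → classInner (τ β) (τ₁ ξ) = k := by
    intro ξ
    by_cases hξ : ξ ∈ S₀
    · obtain ⟨k, hk⟩ := classInner_gen_int (lin_gen hτ' hβE) (lin_gen hτ₁' (hmem₀ ξ hξ))
      exact ⟨k, fun _ => hk⟩
    · exact ⟨0, fun h => absurd h hξ⟩
  choose k hk using hk
  have hrel : ∀ ξ ∈ S₀, (d ψ : ℤ) * k ξ - (d ξ : ℤ) * k ψ =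
      (a : ℤ) * (d ξ : ℤ) - (if ψ = ξ then (a : ℤ) * d ψ else 0) := by
    intro ξ hξ
    have h1 : classInner (τ β) (τ ((d ψ : ℤ) • ξ - (d ξ : ℤ) • ψ)) =
        classInner β ((d ψ : ℤ) • ξ - (d ξ : ℤ) • ψ) :=
      lin_inner hτ' hβE (zspanOn_mono hS₀S _ (hγ ξ hξ))
    rw [hτγ ξ hξ, classInner_sub_right, classInner_zsmul_right, classInner_zsmul_right,
      hk ξ hξ, hk ψ hψ, classInner_sub_right, classInner_zsmul_right, classInner_zsmul_right,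
      hβξ ξ hξ, hβξ ψ hψ, if_pos rfl] at h1
    split_ifs with h
    · rw [if_pos h] at h1
      have h2 : (((d ψ : ℤ) * k ξ - (d ξ : ℤ) * k ψ : ℤ) : ℂ) =
          (((a : ℤ) * (d ξ : ℤ) - (a : ℤ) * d ψ : ℤ) : ℂ) := by
        push_cast
        push_cast at h1
        linear_combination h1
      exact_mod_cast h2
    · rw [if_neg h] at h1
      have h2 : (((d ψ : ℤ) * k ξ - (d ξ : ℤ) * k ψ : ℤ) : ℂ) =
          (((a : ℤ) * (d ξ : ℤ) - 0 : ℤ) : ℂ) := by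
        push_cast
        push_cast at h1
        linear_combination h1
      exact_mod_cast h2
  -- Bessel
  set P : G → ℂ := ∑ ξ ∈ S₀, k ξ • τ₁ ξ with hP
  have hP1 : classInner (τ β) P = ∑ ξ ∈ S₀, (k ξ : ℂ) * (k ξ : ℂ) := by
    rw [hP, classInner_sum_right]
    refine Finset.sum_congr rfl (fun ξ hξ => ?_)
    rw [classInner_zsmul_right, hk ξ hξ]
  have hP2 : classInner P (τ β) = ∑ ξ ∈ S₀, (k ξ : ℂ) * (k ξ : ℂ) := by
    rw [← classInner_conj_symm, hP1, map_sum]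
    refine Finset.sum_congr rfl (fun ξ hξ => ?_)
    simp
  have horth₀ : ∀ x ∈ S₀, ∀ y ∈ S₀, x ≠ y → classInner x y = 0 :=
    fun x hx y hy hne => classInner_irr_ne (hirr x hx) (hirr y hy) hne
  have hP3 : classInner P P = ∑ ξ ∈ S₀, (k ξ : ℂ) * (k ξ : ℂ) := by
    have h1 : P = τ₁ (∑ ξ ∈ S₀, k ξ • ξ) := by
      rw [lin_sum hτ₁' S₀ (fun ξ => k ξ • ξ)
        (fun ξ hξ => Submodule.smul_mem _ _ (hmem₀ ξ hξ))]
      refine Finset.sum_congr rfl (fun ξ hξ => ?_)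
      rw [lin_zsmul hτ₁' (hmem₀ ξ hξ)]
    have h2 : (∑ ξ ∈ S₀, k ξ • ξ) ∈ Submodule.span ℤ (↑S₀ : Set (N → ℂ)) :=
      Submodule.sum_mem _ (fun ξ hξ => Submodule.smul_mem _ _ (hmem₀ ξ hξ))
    rw [h1, lin_inner hτ₁' h2 h2, classInner_comb_comb horth₀]
    refine Finset.sum_congr rfl (fun ξ hξ => ?_)
    rw [classInner_irr_self (hirr ξ hξ), mul_one]
  have hPgen : IsGeneralizedCharacter G (τ β - P) :=
    isGen_sub (lin_gen hτ' hβE)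
      (isGen_sum S₀ _ (fun ξ hξ => isGen_zsmul (lin_gen hτ₁' (hmem₀ ξ hξ)) _))
  obtain ⟨n', hn'⟩ := norm_gen_nat hPgen
  have hττ : classInner (τ β) (τ β) = 1 + (a : ℂ) ^ 2 := by
    rw [lin_inner hτ' hβE hβE, hββ]
  have hnorm' : (n' : ℤ) + ∑ ξ ∈ S₀, k ξ ^ 2 = 1 + (a : ℤ) ^ 2 := by
    have h1 : classInner (τ β - P) (τ β - P) = 1 + (a : ℂ) ^ 2 -
        ∑ ξ ∈ S₀, (k ξ : ℂ) * (k ξ : ℂ) := by
      rw [classInner_sub_left, classInner_sub_right, classInner_sub_right, hP1, hP2, hP3, hττ]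
      ring
    rw [hn'] at h1
    have h2 : (((n' : ℤ) + ∑ ξ ∈ S₀, k ξ ^ 2 : ℤ) : ℂ) = ((1 + (a : ℤ) ^ 2 : ℤ) : ℂ) := by
      push_cast
      rw [h1]
      have : ∑ ξ ∈ S₀, (k ξ : ℂ) ^ 2 = ∑ ξ ∈ S₀, (k ξ : ℂ) * (k ξ : ℂ) :=
        Finset.sum_congr rfl (fun ξ _ => by ring)
      rw [this]
      ring
    exact_mod_cast h2
  -- arithmetic
  set e : ℤ := k ψ + a with he
  set D : ℤ := ∑ ξ ∈ S₀, (d ξ : ℤ) ^ 2 with hD
  have hrel' : ∀ ξ ∈ S₀.erase ψ, (d ψ : ℤ) * k ξ = (d ξ : ℤ) * e := by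
    intro ξ hξ
    obtain ⟨hne, hξ'⟩ := Finset.mem_erase.mp hξ
    have := hrel ξ hξ'
    rw [if_neg (fun h => hne h.symm)] at this
    rw [he]
    linarith
  have hDerase : ∑ ξ ∈ S₀.erase ψ, (d ξ : ℤ) ^ 2 = D - (d ψ : ℤ) ^ 2 := by
    rw [hD, ← Finset.add_sum_erase S₀ (fun ξ => (d ξ : ℤ) ^ 2) hψ]
    ring
  have hsum : (d ψ : ℤ) ^ 2 * ∑ ξ ∈ S₀, k ξ ^ 2 =
      (d ψ : ℤ) ^ 2 * (k ψ) ^ 2 + e ^ 2 * (D - (d ψ : ℤ) ^ 2) := by
    rw [← Finset.add_sum_erase S₀ (fun ξ => k ξ ^ 2) hψ, mul_add, Finset.mul_sum]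
    have h1 : ∀ ξ ∈ S₀.erase ψ, (d ψ : ℤ) ^ 2 * k ξ ^ 2 = e ^ 2 * (d ξ : ℤ) ^ 2 := by
      intro ξ hξ
      have h2 := hrel' ξ hξ
      calc (d ψ : ℤ) ^ 2 * k ξ ^ 2 = ((d ψ : ℤ) * k ξ) ^ 2 := by ring
        _ = e ^ 2 * (d ξ : ℤ) ^ 2 := by rw [h2]; ring
    rw [Finset.sum_congr rfl h1, ← Finset.mul_sum, hDerase]
  have hltZ : 2 * (d ψ : ℤ) * ((d ψ : ℤ) * a) < D := by
    rw [hD]
    rw [ha] at hlt
    exact_mod_cast hlt
  have hDge : (d ψ : ℤ) ^ 2 ≤ D := by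
    rw [hD]
    exact Finset.single_le_sum (f := fun ξ => (d ξ : ℤ) ^ 2) (fun ξ _ => sq_nonneg _) hψ
  have hdψZ : (1 : ℤ) ≤ d ψ := by exact_mod_cast hdψpos
  have haZ : (1 : ℤ) ≤ a := by exact_mod_cast hapos
  have hn'0 : (0 : ℤ) ≤ n' := by exact_mod_cast Nat.zero_le n'
  have hkψ : k ψ = e - a := by rw [he]; ring
  have hmain : (d ψ : ℤ) ^ 2 * (n' : ℤ) + e ^ 2 * D - 2 * a * e * (d ψ : ℤ) ^ 2 =
      (d ψ : ℤ) ^ 2 := by
    have h1 : (d ψ : ℤ) ^ 2 * ((n' : ℤ) + ∑ ξ ∈ S₀, k ξ ^ 2) =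
        (d ψ : ℤ) ^ 2 * (1 + (a : ℤ) ^ 2) := by rw [hnorm']
    rw [mul_add, hsum, hkψ] at h1
    linear_combination h1
  have hdψsq : (1 : ℤ) ≤ (d ψ : ℤ) ^ 2 := by nlinarith
  have hlt' : 2 * (a : ℤ) * (d ψ : ℤ) ^ 2 < D := by
    have : 2 * (a : ℤ) * (d ψ : ℤ) ^ 2 = 2 * (d ψ : ℤ) * ((d ψ : ℤ) * a) := by ring
    rw [this]; exact hltZ
  have he01 : e = 0 ∨ e = 1 :=
    arith_e ((d ψ : ℤ) ^ 2) a e D n' hdψsq haZ hn'0 hlt' hDge hmain
  have hτ₁ψ1 : τ₁ ψ 1 ≠ 0 := by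
    apply norm_one_ne_zero (lin_gen hτ₁' (hmem₀ ψ hψ))
    rw [lin_inner hτ₁' (hmem₀ ψ hψ) (hmem₀ ψ hψ), hψψ]
  have he0 : e = 0 := by
    rcases he01 with h | h
    · exact h
    · exfalso
      rw [h] at hmain
      have hn0 : (n' : ℤ) = 0 := by
        have h1 : (d ψ : ℤ) ^ 2 * (n' : ℤ) < (d ψ : ℤ) ^ 2 * 1 := by linarith
        have h2 : (n' : ℤ) < 1 := lt_of_mul_lt_mul_left h1 (by positivity)
        omega
      have hn0' : n' = 0 := by exact_mod_cast hn0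
      rw [hn0', Nat.cast_zero] at hn'
      have hτβP : τ β = P := sub_eq_zero.mp (classInner_self_eq_zero hn')
      have hval : ∀ ξ ∈ S₀, (d ψ : ℂ) * τ₁ ξ 1 = (d ξ : ℂ) * τ₁ ψ 1 := by
        intro ξ hξ
        have h1 := hτ1 _ (zspanOn_mono hS₀S _ (hγ ξ hξ))
        rw [hτγ ξ hξ, Pi.sub_apply, zsmul_apply', zsmul_apply'] at h1
        push_cast at h1
        linear_combination h1
      have hP1' : (d ψ : ℂ) * P 1 = (∑ ξ ∈ S₀, (k ξ : ℂ) * (d ξ : ℂ)) * τ₁ ψ 1 := by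
        rw [hP, Finset.sum_apply, Finset.mul_sum, Finset.sum_mul]
        refine Finset.sum_congr rfl (fun ξ hξ => ?_)
        rw [zsmul_apply']
        linear_combination (k ξ : ℂ) * hval ξ hξ
      have hτβ1 : τ β 1 = 0 := hτ1 β hβE
      rw [← hτβP, hτβ1, mul_zero] at hP1'
      have hsum0 : ∑ ξ ∈ S₀, (k ξ : ℂ) * (d ξ : ℂ) = 0 := by
        rcases mul_eq_zero.mp hP1'.symm with h0 | h0
        · exact h0
        · exact absurd h0 hτ₁ψ1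
      have hsum0Z : ∑ ξ ∈ S₀, k ξ * (d ξ : ℤ) = 0 := by
        have : ((∑ ξ ∈ S₀, k ξ * (d ξ : ℤ) : ℤ) : ℂ) = ((0 : ℤ) : ℂ) := by
          push_cast
          exact hsum0
        exact_mod_cast this
      have h3 : (d ψ : ℤ) * ∑ ξ ∈ S₀, k ξ * (d ξ : ℤ) = D - a * (d ψ : ℤ) ^ 2 := by
        rw [← Finset.add_sum_erase S₀ (fun ξ => k ξ * (d ξ : ℤ)) hψ, mul_add, Finset.mul_sum]
        have h4 : ∀ ξ ∈ S₀.erase ψ, (d ψ : ℤ) * (k ξ * (d ξ : ℤ)) = (d ξ : ℤ) ^ 2 := by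
          intro ξ hξ
          have h5 := hrel' ξ hξ
          rw [h] at h5
          calc (d ψ : ℤ) * (k ξ * (d ξ : ℤ)) = ((d ψ : ℤ) * k ξ) * (d ξ : ℤ) := by ring
            _ = (d ξ : ℤ) ^ 2 := by rw [h5]; ring
        rw [Finset.sum_congr rfl h4, hDerase, hkψ, h]
        ring
      rw [hsum0Z, mul_zero] at h3
      nlinarith
  have hkψa : k ψ = -(a : ℤ) := by rw [hkψ, he0]; ring
  have hk0 : ∀ ξ ∈ S₀, ξ ≠ ψ → k ξ = 0 := by
    intro ξ hξ hne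
    have h1 := hrel' ξ (Finset.mem_erase.mpr ⟨hne, hξ⟩)
    rw [he0, mul_zero] at h1
    rcases mul_eq_zero.mp h1 with h2 | h2
    · omega
    · exact h2
  set Γ : G → ℂ := τ β + (a : ℤ) • τ₁ ψ with hΓ
  have hΓgen : IsGeneralizedCharacter G Γ :=
    isGen_add (lin_gen hτ' hβE) (isGen_zsmul (lin_gen hτ₁' (hmem₀ ψ hψ)) _)
  have hΓξ : ∀ ξ ∈ S₀, classInner Γ (τ₁ ξ) = 0 := by
    intro ξ hξ
    rw [hΓ, classInner_add_left, classInner_zsmul_left, hk ξ hξ,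
      lin_inner hτ₁' (hmem₀ ψ hψ) (hmem₀ ξ hξ), classInner_irr hψirr (hirr ξ hξ)]
    by_cases h : ψ = ξ
    · rw [if_pos h, ← h, hkψa]
      push_cast; ring
    · rw [if_neg h, hk0 ξ hξ (fun h' => h h'.symm)]
      push_cast; ring
  have hξΓ : ∀ ξ ∈ S₀, classInner (τ₁ ξ) Γ = 0 := by
    intro ξ hξ
    rw [← classInner_conj_symm, hΓξ ξ hξ, map_zero]
  have hΓΓ : classInner Γ Γ = 1 := by
    have h1 : classInner Γ Γ = classInner Γ (τ β) + (a : ℤ) * classInner Γ (τ₁ ψ) := by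
      conv_lhs => rw [hΓ]
      rw [classInner_add_right, classInner_zsmul_right]
    rw [h1, hΓξ ψ hψ, mul_zero, add_zero, hΓ, classInner_add_left, classInner_zsmul_left, hττ,
      ← classInner_conj_symm (τ β) (τ₁ ψ), hk ψ hψ, hkψa]
    simp
    ring
  -- the extension
  set T : (N → ℂ) → (G → ℂ) := fun θ => if θ = χ then Γ else τ₁ θ with hT
  have hTχ : T χ = Γ := by rw [hT]; simp
  have hTξ : ∀ ξ ∈ S₀, T ξ = τ₁ ξ := by
    intro ξ hξ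
    have hne : ξ ≠ χ := fun h => hχS (h ▸ hξ)
    rw [hT]; simp [hne]
  have hirrS : ∀ x ∈ insert χ S₀, IsIrrCharacter N x := by
    intro x hx
    rcases Finset.mem_insert.mp hx with h | h
    · rw [h]; exact hχ
    · exact hirr x h
  have horth : ∀ x ∈ insert χ S₀, ∀ y ∈ insert χ S₀, x ≠ y → classInner x y = 0 :=
    fun x hx y hy hne => classInner_irr_ne (hirrS x hx) (hirrS y hy) hne
  have hnorm : ∀ x ∈ insert χ S₀, classInner x x ≠ 0 := by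
    intro x hx
    rw [classInner_irr_self (hirrS x hx)]
    exact one_ne_zero
  have hTiso : ∀ x ∈ insert χ S₀, ∀ y ∈ insert χ S₀,
      classInner (T x) (T y) = classInner x y := by
    intro x hx y hy
    rcases Finset.mem_insert.mp hx with h | h
    · rcases Finset.mem_insert.mp hy with h' | h'
      · rw [h, h', hTχ, hΓΓ, hχχ]
      · rw [h, hTχ, hTξ y h', hΓξ y h', hχξ y h']
    · rcases Finset.mem_insert.mp hy with h' | h'
      · rw [h', hTχ, hTξ x h, hξΓ x h, hξχ x h]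
      · rw [hTξ x h, hTξ y h', lin_inner hτ₁' (hmem₀ x h) (hmem₀ y h')]
  have hTgen : ∀ x ∈ insert χ S₀, IsGeneralizedCharacter G (T x) := by
    intro x hx
    rcases Finset.mem_insert.mp hx with h | h
    · rw [h, hTχ]; exact hΓgen
    · rw [hTξ x h]; exact lin_gen hτ₁' (hmem₀ x h)
  refine ⟨⟨β, hβE, ?_⟩, extMap (insert χ S₀) T, extMap_isometry horth hnorm T hTiso hTgen, ?_⟩
  · intro h0
    rw [h0, classInner_zero_left] at hββ
    have h1 : (0 : ℝ) = 1 + (a : ℝ) ^ 2 := by exact_mod_cast hββ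
    nlinarith [sq_nonneg (a : ℝ)]
  · intro α hα
    obtain ⟨hαspan, hα1⟩ := mem_zspanOn_one.mp hα
    obtain ⟨f, rfl⟩ := mem_zspan_finset.mp hαspan
    rw [extMap_comb horth hnorm T f, Finset.sum_insert hχS, hTχ]
    rw [Finset.sum_insert hχS] at hα1
    set ρ : N → ℂ := ∑ x ∈ S₀, f x • x with hρ
    have hρmem : ρ ∈ Submodule.span ℤ (↑S₀ : Set (N → ℂ)) :=
      Submodule.sum_mem _ (fun ξ hξ => Submodule.smul_mem _ _ (hmem₀ ξ hξ))
    set δ : N → ℂ := (f χ * (a : ℤ)) • ψ + ρ with hδ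
    have hδmem : δ ∈ Submodule.span ℤ (↑S₀ : Set (N → ℂ)) :=
      Submodule.add_mem _ (Submodule.smul_mem _ _ (hmem₀ ψ hψ)) hρmem
    have hsplit : f χ • χ + ρ = f χ • β + δ := by
      rw [hδ, hβ, smul_sub, mul_smul]
      abel
    have hδ1 : δ 1 = 0 := by
      have h1 : (f χ • χ + ρ) 1 = 0 := hα1
      rw [hsplit, Pi.add_apply, zsmul_apply', hβ1, mul_zero, zero_add] at h1
      exact h1
    have hδ₀ : δ ∈ zspanOn (↑S₀ : Set (N → ℂ)) {1}ᶜ := mem_zspanOn_one.mpr ⟨hδmem, hδ1⟩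
    have hδE : δ ∈ zspanOnSub (↑(insert χ S₀) : Set (N → ℂ)) {1}ᶜ := zspanOn_mono hS₀S _ hδ₀
    rw [Finset.sum_insert hχS, hsplit,
      lin_add hτ' (Submodule.smul_mem _ _ hβE) hδE, lin_zsmul hτ' hβE, ← hτ₁τ δ hδ₀, hδ,
      lin_add hτ₁' (Submodule.smul_mem _ _ (hmem₀ ψ hψ)) hρmem, lin_zsmul hτ₁' (hmem₀ ψ hψ), hρ,
      lin_sum hτ₁' S₀ (fun x => f x • x) (fun ξ hξ => Submodule.smul_mem _ _ (hmem₀ ξ hξ)), hΓ,
      smul_add, mul_smul, add_assoc]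
    congr 2
    refine Finset.sum_congr rfl (fun ξ hξ => ?_)
    rw [hTξ ξ hξ, lin_zsmul hτ₁' (hmem₀ ξ hξ)]

end Cfsg.Agent.S1530
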