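import Mathlib
import Cfsg.Statements.S1517
import Cfsg.Agent.Lib.Helper26.Coh
import Cfsg.Agent.S1530

set_option autoImplicit false
open Cfsg

namespace Cfsg.Agent.S1517

open Cfsg.Agent.Lib.Helper26
open scoped ComplexConjugate

theorem int_sq_ge (x s : ℤ) (hs : s = 1 ∨ s = -1) : 0 ≤ x * x - s * x := by
  rcases hs with h | h
  · rw [h]
    rcases le_or_gt x 0 with h0 | h0
    · nlinarith
    · nlinarith
  · rw [h]
    rcases le_or_gt 0 x with h0 | h0
    · nlinarith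
    · nlinarith

section bessel

variable {G : Type*} [Group G] [Fintype G]

theorem bessel_eq (R : Finset (G → ℂ))
    (hon : ∀ a ∈ R, ∀ b ∈ R, classInner a b = if a = b then 1 else 0)
    (hgen : ∀ a ∈ R, IsGeneralizedCharacter G a)
    (Θ : G → ℂ) (hΘ : IsGeneralizedCharacter G Θ) (s : (G → ℂ) → ℤ)
    (hs : ∀ a ∈ R, s a = 1 ∨ s a = -1)
    (hnorm : classInner Θ Θ = ∑ a ∈ R, (s a : ℂ) * classInner Θ a) :
    ∃ x : (G → ℂ) → ℤ, (∀ a ∈ R, classInner Θ a = x a) ∧ (∀ a ∈ R, x a * x a = s a * x a) ∧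
      Θ = ∑ a ∈ R, x a • a := by
  classical
  have : Fintype (IrrCharacter G) := Fintype.ofFinite _
  have hx : ∀ a, ∃ k : ℤ, a ∈ R → classInner Θ a = k := by
    intro a
    by_cases ha : a ∈ R
    · obtain ⟨k, hk⟩ := classInner_gen_int hΘ (hgen a ha)
      exact ⟨k, fun _ => hk⟩
    · exact ⟨0, fun h => absurd h ha⟩
  choose x hx using hx
  refine ⟨x, hx, ?_⟩
  set P : G → ℂ := ∑ a ∈ R, x a • a with hP
  have hP1 : classInner Θ P = ∑ a ∈ R, (x a : ℂ) * (x a : ℂ) := by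
    rw [hP, classInner_sum_right]
    refine Finset.sum_congr rfl (fun a ha => ?_)
    rw [classInner_zsmul_right, hx a ha]
  have hP2 : classInner P Θ = ∑ a ∈ R, (x a : ℂ) * (x a : ℂ) := by
    rw [← classInner_conj_symm, hP1, map_sum]
    refine Finset.sum_congr rfl (fun a ha => ?_)
    simp
  have horth : ∀ a ∈ R, ∀ b ∈ R, a ≠ b → classInner a b = 0 := by
    intro a ha b hb hne
    rw [hon a ha b hb, if_neg hne]
  have hP3 : classInner P P = ∑ a ∈ R, (x a : ℂ) * (x a : ℂ) := by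
    rw [hP, classInner_comb_comb horth]
    refine Finset.sum_congr rfl (fun a ha => ?_)
    rw [hon a ha a ha, if_pos rfl, mul_one]
  have hPgen : IsGeneralizedCharacter G (Θ - P) :=
    isGen_sub hΘ (isGen_sum R _ (fun a ha => isGen_zsmul (hgen a ha) _))
  obtain ⟨n', hn'⟩ := Cfsg.Agent.S1530.norm_gen_nat hPgen
  have key : (n' : ℤ) + ∑ a ∈ R, (x a * x a - s a * x a) = 0 := by
    have h1 : classInner (Θ - P) (Θ - P) = ∑ a ∈ R, (s a : ℂ) * (x a : ℂ) -
        ∑ a ∈ R, (x a : ℂ) * (x a : ℂ) := by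
      rw [classInner_sub_left, classInner_sub_right, classInner_sub_right, hP1, hP2, hP3, hnorm]
      have : ∑ a ∈ R, (s a : ℂ) * classInner Θ a = ∑ a ∈ R, (s a : ℂ) * (x a : ℂ) :=
        Finset.sum_congr rfl (fun a ha => by rw [hx a ha])
      rw [this]
      ring
    rw [hn'] at h1
    have h2 : (((n' : ℤ) + ∑ a ∈ R, (x a * x a - s a * x a) : ℤ) : ℂ) = ((0 : ℤ) : ℂ) := by
      push_cast
      rw [h1, Finset.sum_sub_distrib]
      ring
    exact_mod_cast h2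
  have hnonneg : ∀ a ∈ R, 0 ≤ x a * x a - s a * x a := fun a ha => int_sq_ge _ _ (hs a ha)
  have hn'0 : (0 : ℤ) ≤ n' := by exact_mod_cast Nat.zero_le n'
  have hsum0 : ∑ a ∈ R, (x a * x a - s a * x a) = 0 := by
    have := Finset.sum_nonneg hnonneg
    linarith
  have hn0 : n' = 0 := by
    have : (n' : ℤ) = 0 := by linarith
    exact_mod_cast this
  have hall := (Finset.sum_eq_zero_iff_of_nonneg hnonneg).mp hsum0
  refine ⟨fun a ha => by linarith [hall a ha], ?_⟩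
  apply sub_eq_zero.mp
  apply classInner_self_eq_zero
  rw [hn', hn0, Nat.cast_zero]

end bessel

section sys

variable {L : Type*} [Group L] [Fintype L] {G : Type*} [Group G] [Fintype G]
  {S : Set (L → ℂ)} {τ : (L → ℂ) → (G → ℂ)} {R : (L → ℂ) → Finset (G → ℂ)}

omit [Group L] [Fintype L] in
theorem conj_conj (χ : L → ℂ) : conjFun (conjFun χ) = χ := by
  funext x
  simp [conjFun]

omit [Fintype L] in
theorem diff_mem (hdeg : ∀ φ ∈ S, ∀ ψ ∈ S, φ 1 = ψ 1) {χ ψ : L → ℂ} (hχ : χ ∈ S) (hψ : ψ ∈ S) :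
    χ - ψ ∈ zspanOnSub S {1}ᶜ := by
  show _ ∈ zspanOn _ _
  rw [mem_zspanOn_one]
  exact ⟨Submodule.sub_mem _ (Submodule.subset_span hχ) (Submodule.subset_span hψ),
    by rw [Pi.sub_apply, hdeg χ hχ ψ hψ, sub_self]⟩

theorem R_orth (hS : Cfsg.IsCoherenceSystem S τ R) {χ ψ : L → ℂ} (hχ : χ ∈ S) (hψ : ψ ∈ S)
    (h1 : ψ ≠ χ) (h2 : ψ ≠ conjFun χ) : ∀ a ∈ R χ, ∀ b ∈ R ψ, classInner a b = 0 := by
  intro a ha b hb
  refine hS.disjoint ψ hψ χ hχ (hS.orthogonal χ hχ ψ hψ (Ne.symm h1)) ?_ a ha b hb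
  refine hS.orthogonal χ hχ _ (hS.conj_mem ψ hψ) ?_
  intro h
  apply h2
  rw [h, conj_conj]

theorem R_orth' (hS : Cfsg.IsCoherenceSystem S τ R) {χ ψ : L → ℂ} (hχ : χ ∈ S) (hψ : ψ ∈ S)
    (h1 : ψ ≠ χ) (h2 : ψ ≠ conjFun χ) : ∀ a ∈ R χ, ∀ b ∈ R ψ, classInner b a = 0 := by
  intro a ha b hb
  rw [← classInner_conj_symm, R_orth hS hχ hψ h1 h2 a ha b hb, map_zero]

theorem lemmaA (hS : Cfsg.IsCoherenceSystem S τ R) (hdeg : ∀ φ ∈ S, ∀ ψ ∈ S, φ 1 = ψ 1)
    {χ ψ : L → ℂ} (hχ : χ ∈ S) (hψ : ψ ∈ S) (h1 : ψ ≠ χ) (h2 : ψ ≠ conjFun χ) :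
    ∃ x : (G → ℂ) → ℤ, (∀ a ∈ R χ, classInner (τ (χ - ψ)) a = x a) ∧
      (∀ b ∈ R ψ, classInner (τ (χ - ψ)) b = x b) ∧ (∀ a ∈ R χ, x a * x a = x a) ∧
      τ (χ - ψ) = ∑ a ∈ R χ, x a • a + ∑ b ∈ R ψ, x b • b := by
  classical
  have hiso' : IsLinearIsometryOn ((zspanOnSub S {1}ᶜ : Submodule ℤ (L → ℂ)) : Set (L → ℂ)) τ :=
    hS.isometry
  have hχb : conjFun χ ∈ S := hS.conj_mem χ hχ
  have hψb : conjFun ψ ∈ S := hS.conj_mem ψ hψ
  have hdisj : Disjoint (R χ) (R ψ) := by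
    rw [Finset.disjoint_left]
    intro a ha hb
    have h0 := R_orth hS hχ hψ h1 h2 a ha a hb
    rw [hS.orthonormal χ hχ a ha a ha, if_pos rfl] at h0
    exact one_ne_zero h0
  have hon : ∀ a ∈ R χ ∪ R ψ, ∀ b ∈ R χ ∪ R ψ, classInner a b = if a = b then 1 else 0 := by
    intro a ha b hb
    rcases Finset.mem_union.mp ha with ha | ha
    · rcases Finset.mem_union.mp hb with hb | hb
      · exact hS.orthonormal χ hχ a ha b hb
      · have hne : a ≠ b := fun h => (Finset.disjoint_left.mp hdisj ha) (h ▸ hb)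
        rw [if_neg hne]
        exact R_orth hS hχ hψ h1 h2 a ha b hb
    · rcases Finset.mem_union.mp hb with hb | hb
      · have hne : a ≠ b := fun h => (Finset.disjoint_left.mp hdisj hb) (h ▸ ha)
        rw [if_neg hne]
        exact R_orth' hS hχ hψ h1 h2 b hb a ha
      · exact hS.orthonormal ψ hψ a ha b hb
  have hgen : ∀ a ∈ R χ ∪ R ψ, IsGeneralizedCharacter G a := by
    intro a ha
    rcases Finset.mem_union.mp ha with ha | ha
    · exact hS.virtual χ hχ a ha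
    · exact hS.virtual ψ hψ a ha
  have hm1 := diff_mem hdeg hχ hψ
  have hm2 := diff_mem hdeg hχ hχb
  have hm3 := diff_mem hdeg hψ hψb
  have hΘ : IsGeneralizedCharacter G (τ (χ - ψ)) := lin_gen hiso' hm1
  have o1 : classInner χ ψ = 0 := hS.orthogonal χ hχ ψ hψ (Ne.symm h1)
  have o2 : classInner ψ χ = 0 := hS.orthogonal ψ hψ χ hχ h1
  have o3 : classInner χ (conjFun χ) = 0 :=
    hS.orthogonal χ hχ _ hχb (hS.conj_ne χ hχ).symm
  have o4 : classInner ψ (conjFun ψ) = 0 :=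
    hS.orthogonal ψ hψ _ hψb (hS.conj_ne ψ hψ).symm
  have o5 : classInner ψ (conjFun χ) = 0 := hS.orthogonal ψ hψ _ hχb h2
  have o6 : classInner χ (conjFun ψ) = 0 := by
    refine hS.orthogonal χ hχ _ hψb ?_
    intro h
    apply h2
    rw [h, conj_conj]
  set s : (G → ℂ) → ℤ := fun a => if a ∈ R χ then 1 else -1 with hs
  have hnorm : classInner (τ (χ - ψ)) (τ (χ - ψ)) =
      ∑ a ∈ R χ ∪ R ψ, (s a : ℂ) * classInner (τ (χ - ψ)) a := by
    rw [Finset.sum_union hdisj]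
    have e1 : ∑ a ∈ R χ, (s a : ℂ) * classInner (τ (χ - ψ)) a =
        classInner (τ (χ - ψ)) (τ (χ - conjFun χ)) := by
      rw [hS.sum_eq χ hχ, classInner_sum_right]
      refine Finset.sum_congr rfl (fun a ha => ?_)
      rw [hs]
      simp [ha]
    have e2 : ∑ a ∈ R ψ, (s a : ℂ) * classInner (τ (χ - ψ)) a =
        -classInner (τ (χ - ψ)) (τ (ψ - conjFun ψ)) := by
      rw [hS.sum_eq ψ hψ, classInner_sum_right, ← Finset.sum_neg_distrib]
      refine Finset.sum_congr rfl (fun a ha => ?_)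
      have : a ∉ R χ := fun h => (Finset.disjoint_left.mp hdisj h) ha
      rw [hs]
      simp [this]
    rw [e1, e2, lin_inner hiso' hm1 hm1, lin_inner hiso' hm1 hm2, lin_inner hiso' hm1 hm3]
    simp only [classInner_sub_left, classInner_sub_right, o1, o2, o3, o4, o5, o6]
    ring
  obtain ⟨x, hx1, hx2, hx3⟩ := bessel_eq (R χ ∪ R ψ) hon hgen (τ (χ - ψ)) hΘ s
    (fun a _ => by rw [hs]; by_cases h : a ∈ R χ <;> simp [h]) hnorm
  refine ⟨x, fun a ha => hx1 a (Finset.mem_union_left _ ha),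
    fun b hb => hx1 b (Finset.mem_union_right _ hb), ?_, ?_⟩
  · intro a ha
    have := hx2 a (Finset.mem_union_left _ ha)
    rw [hs] at this
    simpa [ha] using this
  · rw [← Finset.sum_union hdisj]
    exact hx3

/-- The projection of `τ (χ - ψ)` on the span of `R χ`. -/
noncomputable def pr (τ : (L → ℂ) → (G → ℂ)) (R : (L → ℂ) → Finset (G → ℂ)) (χ ψ : L → ℂ) :
    G → ℂ :=
  ∑ a ∈ R χ, classInner (τ (χ - ψ)) a • a

theorem pr_eq (hS : Cfsg.IsCoherenceSystem S τ R) (hdeg : ∀ φ ∈ S, ∀ ψ ∈ S, φ 1 = ψ 1)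
    {χ ψ : L → ℂ} (hχ : χ ∈ S) (hψ : ψ ∈ S) (h1 : ψ ≠ χ) (h2 : ψ ≠ conjFun χ) :
    ∃ x : (G → ℂ) → ℤ, (∀ a ∈ R χ, classInner (τ (χ - ψ)) a = x a) ∧
      (∀ a ∈ R χ, x a * x a = x a) ∧ pr τ R χ ψ = ∑ a ∈ R χ, x a • a := by
  obtain ⟨x, hx1, -, hx3, -⟩ := lemmaA hS hdeg hχ hψ h1 h2
  refine ⟨x, hx1, hx3, ?_⟩
  unfold pr
  refine Finset.sum_congr rfl (fun a ha => ?_)
  rw [hx1 a ha, zsmul_eq_smul]

theorem pr_gen (hS : Cfsg.IsCoherenceSystem S τ R) (hdeg : ∀ φ ∈ S, ∀ ψ ∈ S, φ 1 = ψ 1)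
    {χ ψ : L → ℂ} (hχ : χ ∈ S) (hψ : ψ ∈ S) (h1 : ψ ≠ χ) (h2 : ψ ≠ conjFun χ) :
    IsGeneralizedCharacter G (pr τ R χ ψ) := by
  obtain ⟨x, -, -, hx⟩ := pr_eq hS hdeg hχ hψ h1 h2
  rw [hx]
  exact isGen_sum _ _ (fun a ha => isGen_zsmul (hS.virtual χ hχ a ha) _)

theorem pr_norm (hS : Cfsg.IsCoherenceSystem S τ R) (hdeg : ∀ φ ∈ S, ∀ ψ ∈ S, φ 1 = ψ 1)
    {χ ψ : L → ℂ} (hχ : χ ∈ S) (hψ : ψ ∈ S) (h1 : ψ ≠ χ) (h2 : ψ ≠ conjFun χ) :
    classInner (pr τ R χ ψ) (pr τ R χ ψ) = classInner χ χ := by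
  classical
  have hiso' : IsLinearIsometryOn ((zspanOnSub S {1}ᶜ : Submodule ℤ (L → ℂ)) : Set (L → ℂ)) τ :=
    hS.isometry
  obtain ⟨x, hx1, hx2, hx⟩ := pr_eq hS hdeg hχ hψ h1 h2
  have hχb : conjFun χ ∈ S := hS.conj_mem χ hχ
  have horth : ∀ a ∈ R χ, ∀ b ∈ R χ, a ≠ b → classInner a b = 0 := by
    intro a ha b hb hne
    rw [hS.orthonormal χ hχ a ha b hb, if_neg hne]
  rw [hx, classInner_comb_comb horth]
  have e1 : ∑ a ∈ R χ, (x a : ℂ) * (x a : ℂ) * classInner a a =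
      ∑ a ∈ R χ, classInner (τ (χ - ψ)) a := by
    refine Finset.sum_congr rfl (fun a ha => ?_)
    rw [hS.orthonormal χ hχ a ha a ha, if_pos rfl, mul_one, hx1 a ha]
    exact_mod_cast hx2 a ha
  rw [e1, ← classInner_sum_right, ← hS.sum_eq χ hχ,
    lin_inner hiso' (diff_mem hdeg hχ hψ) (diff_mem hdeg hχ hχb)]
  have o2 : classInner ψ χ = 0 := hS.orthogonal ψ hψ χ hχ h1
  have o3 : classInner χ (conjFun χ) = 0 :=
    hS.orthogonal χ hχ _ hχb (hS.conj_ne χ hχ).symm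
  have o5 : classInner ψ (conjFun χ) = 0 := hS.orthogonal ψ hψ _ hχb h2
  simp only [classInner_sub_left, classInner_sub_right, o2, o3, o5]
  ring

theorem pr_diff (hS : Cfsg.IsCoherenceSystem S τ R) (hdeg : ∀ φ ∈ S, ∀ ψ ∈ S, φ 1 = ψ 1)
    {χ ψ : L → ℂ} (hχ : χ ∈ S) (hψ : ψ ∈ S) (h1 : ψ ≠ χ) (h2 : ψ ≠ conjFun χ) :
    τ (χ - ψ) = pr τ R χ ψ - pr τ R ψ χ := by
  have hiso' : IsLinearIsometryOn ((zspanOnSub S {1}ᶜ : Submodule ℤ (L → ℂ)) : Set (L → ℂ)) τ :=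
    hS.isometry
  obtain ⟨x, hx1, hx2, -, hx⟩ := lemmaA hS hdeg hχ hψ h1 h2
  have e1 : pr τ R χ ψ = ∑ a ∈ R χ, x a • a := by
    unfold pr
    refine Finset.sum_congr rfl (fun a ha => ?_)
    rw [hx1 a ha, zsmul_eq_smul]
  have e2 : pr τ R ψ χ = -∑ b ∈ R ψ, x b • b := by
    unfold pr
    rw [← Finset.sum_neg_distrib]
    refine Finset.sum_congr rfl (fun b hb => ?_)
    have : ψ - χ = -(χ - ψ) := by abel
    rw [this, lin_neg hiso' (diff_mem hdeg hχ hψ), classInner_neg_left, hx2 b hb, zsmul_eq_smul,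
      neg_smul]
  rw [hx, e1, e2, sub_neg_eq_add]

theorem pr_orth (hS : Cfsg.IsCoherenceSystem S τ R)
    {χ χ' : L → ℂ} (hχ : χ ∈ S) (hχ' : χ' ∈ S) (h1 : χ' ≠ χ) (h2 : χ' ≠ conjFun χ)
    (ψ ψ' : L → ℂ) : classInner (pr τ R χ ψ) (pr τ R χ' ψ') = 0 := by
  unfold pr
  rw [classInner_sum_left]
  refine Finset.sum_eq_zero (fun a ha => ?_)
  rw [classInner_sum_right]
  refine Finset.sum_eq_zero (fun b hb => ?_)
  rw [classInner_smul_left, classInner_smul_right, R_orth hS hχ hχ' h1 h2 a ha b hb, mul_zero,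
    mul_zero]

theorem pr_indep (hS : Cfsg.IsCoherenceSystem S τ R) (hdeg : ∀ φ ∈ S, ∀ ψ ∈ S, φ 1 = ψ 1)
    {χ ψ ψ' : L → ℂ} (hχ : χ ∈ S) (hψ : ψ ∈ S) (h1 : ψ ≠ χ) (h2 : ψ ≠ conjFun χ)
    (hψ' : ψ' ∈ S) (h1' : ψ' ≠ χ) (h2' : ψ' ≠ conjFun χ) :
    pr τ R χ ψ = pr τ R χ ψ' := by
  classical
  have hiso' : IsLinearIsometryOn ((zspanOnSub S {1}ᶜ : Submodule ℤ (L → ℂ)) : Set (L → ℂ)) τ :=
    hS.isometry
  unfold pr
  refine Finset.sum_congr rfl (fun a ha => ?_)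
  congr 1
  have e : χ - ψ = (χ - ψ') + (ψ' - ψ) := by abel
  rw [e, lin_add hiso' (diff_mem hdeg hχ hψ') (diff_mem hdeg hψ' hψ), classInner_add_left]
  suffices h : classInner (τ (ψ' - ψ)) a = 0 by rw [h, add_zero]
  have hχψ : χ ≠ conjFun ψ := by
    intro h
    apply h2
    rw [h, conj_conj]
  have hχψ' : χ ≠ conjFun ψ' := by
    intro h
    apply h2'
    rw [h, conj_conj]
  by_cases c1 : ψ' = ψ
  · rw [c1, sub_self, lin_zero hiso', classInner_zero_left]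
  · by_cases c2 : ψ' = conjFun ψ
    · have e2 : ψ' - ψ = -(ψ - conjFun ψ) := by rw [c2]; abel
      rw [e2, lin_neg hiso' (diff_mem hdeg hψ (hS.conj_mem ψ hψ)), hS.sum_eq ψ hψ,
        classInner_neg_left, classInner_sum_left, neg_eq_zero]
      refine Finset.sum_eq_zero (fun b hb => ?_)
      exact R_orth hS hψ hχ (Ne.symm h1) hχψ b hb a ha
    · have c2' : ψ ≠ conjFun ψ' := by
        intro h
        apply c2
        rw [h, conj_conj]
      obtain ⟨x, -, -, -, hx⟩ := lemmaA hS hdeg hψ' hψ (Ne.symm c1) c2'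
      rw [hx, classInner_add_left, classInner_sum_left, classInner_sum_left]
      have z1 : ∑ b ∈ R ψ', classInner (x b • b) a = 0 := by
        refine Finset.sum_eq_zero (fun b hb => ?_)
        rw [classInner_zsmul_left, R_orth hS hψ' hχ (Ne.symm h1') hχψ' b hb a ha, mul_zero]
      have z2 : ∑ b ∈ R ψ, classInner (x b • b) a = 0 := by
        refine Finset.sum_eq_zero (fun b hb => ?_)
        rw [classInner_zsmul_left, R_orth hS hψ hχ (Ne.symm h1) hχψ b hb a ha, mul_zero]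
      rw [z1, z2, add_zero]

end sys

section main

variable {L : Type*} [Group L] [Fintype L] {G : Type*} [Group G] [Fintype G]
  {S : Set (L → ℂ)} {τ : (L → ℂ) → (G → ℂ)} {R : (L → ℂ) → Finset (G → ℂ)}

omit [Fintype L] in
theorem char_one_ne_zero {χ : L → ℂ} (h : IsCharacter L χ) (h0 : χ ≠ 0) : χ 1 ≠ 0 := by
  obtain ⟨n, ρ, rfl⟩ := h
  intro h1
  apply h0
  rw [Representation.char_one] at h1
  have hn : n = 0 := by simpa using h1
  subst hn
  funext g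
  have : ρ g = 0 := Subsingleton.elim _ _
  simp [Representation.character, this]

theorem sum_inner (R' : Finset (G → ℂ))
    (hon : ∀ a ∈ R', ∀ b ∈ R', classInner a b = if a = b then 1 else 0)
    {A B : Finset (G → ℂ)} (hA : A ⊆ R') (hB : B ⊆ R') :
    classInner (∑ a ∈ A, a) (∑ b ∈ B, b) = ((A ∩ B).card : ℂ) := by
  classical
  rw [classInner_sum_left]
  have h1 : ∀ a ∈ A, classInner a (∑ b ∈ B, b) = if a ∈ B then 1 else 0 := by
    intro a ha
    rw [classInner_sum_right]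
    have h2 : ∀ b ∈ B, classInner a b = if a = b then 1 else 0 :=
      fun b hb => hon a (hA ha) b (hB hb)
    rw [Finset.sum_congr rfl h2, Finset.sum_ite_eq]
  rw [Finset.sum_congr rfl h1, Finset.sum_boole, Finset.filter_mem_eq_inter]

theorem coherent_of_T (hS : Cfsg.IsCoherenceSystem S τ R) (hdeg : ∀ φ ∈ S, ∀ ψ ∈ S, φ 1 = ψ 1)
    (T : (L → ℂ) → (G → ℂ))
    (hTgen : ∀ χ ∈ S, IsGeneralizedCharacter G (T χ))
    (hTiso : ∀ χ ∈ S, ∀ ψ ∈ S, classInner (T χ) (T ψ) = classInner χ ψ)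
    (hTτ : ∀ χ ∈ S, ∀ ψ ∈ S, τ (χ - ψ) = T χ - T ψ) : Cfsg.IsCoherent S {1}ᶜ τ := by
  classical
  have hiso' : IsLinearIsometryOn ((zspanOnSub S {1}ᶜ : Submodule ℤ (L → ℂ)) : Set (L → ℂ)) τ :=
    hS.isometry
  have hne0 : ∀ χ ∈ S, χ ≠ 0 := by
    intro χ hχ h0
    apply hS.conj_ne χ hχ
    rw [h0]
    funext x
    simp [conjFun]
  have hnorm0 : ∀ χ ∈ S, classInner χ χ ≠ 0 :=
    fun χ hχ h => hne0 χ hχ (classInner_self_eq_zero h)
  have hfin : S.Finite := by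
    apply LinearIndependent.setFinite (R := ℂ)
    rw [linearIndependent_iff']
    intro s g hg i hi
    have h1 : classInner (∑ j ∈ s, g j • (j : L → ℂ)) (i : L → ℂ) = 0 := by
      rw [hg, classInner_zero_left]
    rw [classInner_sum_left, Finset.sum_eq_single i] at h1
    · rw [classInner_smul_left] at h1
      rcases mul_eq_zero.mp h1 with h | h
      · exact h
      · exact absurd h (hnorm0 i i.2)
    · intro j _ hji
      rw [classInner_smul_left, hS.orthogonal j j.2 i i.2 (fun h => hji (Subtype.ext h)),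
        mul_zero]
    · intro h; exact absurd hi h
  obtain ⟨χ₀, hχ₀⟩ := hS.nonempty
  refine ⟨⟨χ₀ - conjFun χ₀, diff_mem hdeg hχ₀ (hS.conj_mem χ₀ hχ₀),
    fun h => hS.conj_ne χ₀ hχ₀ (sub_eq_zero.mp h).symm⟩, ?_⟩
  set F := hfin.toFinset with hF
  have hFS : (↑F : Set (L → ℂ)) = S := hfin.coe_toFinset
  have hmemF : ∀ a, a ∈ F ↔ a ∈ S := fun a => hfin.mem_toFinset
  have horth : ∀ a ∈ F, ∀ b ∈ F, a ≠ b → classInner a b = 0 :=
    fun a ha b hb hne => hS.orthogonal a ((hmemF a).mp ha) b ((hmemF b).mp hb) hne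
  have hnorm : ∀ a ∈ F, classInner a a ≠ 0 := fun a ha => hnorm0 a ((hmemF a).mp ha)
  refine ⟨extMap F T, ?_, ?_⟩
  · have h := extMap_isometry horth hnorm T
      (fun a ha b hb => hTiso a ((hmemF a).mp ha) b ((hmemF b).mp hb))
      (fun a ha => hTgen a ((hmemF a).mp ha))
    rw [hFS] at h
    exact h
  · intro α hα
    obtain ⟨hαspan, hα1⟩ := mem_zspanOn_one.mp hα
    have hαspan' : α ∈ zspan (↑F : Set (L → ℂ)) := by rw [hFS]; exact hαspan
    obtain ⟨f, rfl⟩ := mem_zspan_finset.mp hαspan'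
    rw [extMap_comb horth hnorm T f]
    have hd0 : χ₀ 1 ≠ 0 := char_one_ne_zero (hS.isCharacter χ₀ hχ₀) (hne0 χ₀ hχ₀)
    have hsum0 : ∑ a ∈ F, f a = 0 := by
      have h1 : (∑ a ∈ F, f a • a) 1 = ((∑ a ∈ F, f a : ℤ) : ℂ) * χ₀ 1 := by
        rw [Finset.sum_apply]
        push_cast
        rw [Finset.sum_mul]
        refine Finset.sum_congr rfl (fun a ha => ?_)
        rw [zsmul_apply', hdeg a ((hmemF a).mp ha) χ₀ hχ₀]
      rw [hα1] at h1
      rcases mul_eq_zero.mp h1.symm with h | h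
      · exact_mod_cast h
      · exact absurd h hd0
    have h1 : ∑ a ∈ F, f a • a = ∑ a ∈ F, f a • (a - χ₀) := by
      simp only [smul_sub, Finset.sum_sub_distrib, ← Finset.sum_smul, hsum0, zero_smul, sub_zero]
    rw [h1, lin_sum hiso' F (fun a => f a • (a - χ₀))
      (fun a ha => Submodule.smul_mem _ _ (diff_mem hdeg ((hmemF a).mp ha) hχ₀))]
    have h2 : ∀ a ∈ F, τ (f a • (a - χ₀)) = f a • T a - f a • T χ₀ := by
      intro a ha
      rw [lin_zsmul hiso' (diff_mem hdeg ((hmemF a).mp ha) hχ₀),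
        hTτ a ((hmemF a).mp ha) χ₀ hχ₀, smul_sub]
    rw [Finset.sum_congr rfl h2, Finset.sum_sub_distrib, ← Finset.sum_smul, hsum0, zero_smul,
      sub_zero]

end main

/-- Let (S, τ, R) be a coherence system from L to G such that φ 1 = ψ 1 for all φ, ψ ∈ S. Then (S, L minus 1, τ) is coherent. -/
theorem result {L : Type*} [Group L] [Fintype L] {G : Type*} [Group G] [Fintype G] (S : Set (L → ℂ)) (τ : (L → ℂ) → (G → ℂ)) (R : (L → ℂ) → Finset (G → ℂ)) (hS : Cfsg.IsCoherenceSystem S τ R) (hdeg : ∀ φ ∈ S, ∀ ψ ∈ S, φ 1 = ψ 1) : Cfsg.IsCoherent S {1}ᶜ τ := by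
  classical
  have : Fintype (IrrCharacter G) := Fintype.ofFinite _
  have hiso' : IsLinearIsometryOn ((zspanOnSub S {1}ᶜ : Submodule ℤ (L → ℂ)) : Set (L → ℂ)) τ :=
    hS.isometry
  by_cases hcase : ∀ χ ∈ S, ∃ ψ ∈ S, ψ ≠ χ ∧ ψ ≠ conjFun χ
  · have hψ₀ : ∀ χ, ∃ ψ, χ ∈ S → (ψ ∈ S ∧ ψ ≠ χ ∧ ψ ≠ conjFun χ) := by
      intro χ
      by_cases hχ : χ ∈ S
      · obtain ⟨ψ, h1, h2, h3⟩ := hcase χ hχ
        exact ⟨ψ, fun _ => ⟨h1, h2, h3⟩⟩
      · exact ⟨χ, fun h => absurd h hχ⟩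
    choose ψ₀ hψ₀ using hψ₀
    set T : (L → ℂ) → (G → ℂ) := fun χ => pr τ R χ (ψ₀ χ) with hT
    have hTpr : ∀ χ ∈ S, ∀ ψ ∈ S, ψ ≠ χ → ψ ≠ conjFun χ → T χ = pr τ R χ ψ := by
      intro χ hχ ψ hψ h1 h2
      obtain ⟨g1, g2, g3⟩ := hψ₀ χ hχ
      exact pr_indep hS hdeg hχ g1 g2 g3 hψ h1 h2
    have hTgen : ∀ χ ∈ S, IsGeneralizedCharacter G (T χ) := by
      intro χ hχ
      obtain ⟨g1, g2, g3⟩ := hψ₀ χ hχ
      exact pr_gen hS hdeg hχ g1 g2 g3
    have hTnorm : ∀ χ ∈ S, classInner (T χ) (T χ) = classInner χ χ := by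
      intro χ hχ
      obtain ⟨g1, g2, g3⟩ := hψ₀ χ hχ
      exact pr_norm hS hdeg hχ g1 g2 g3
    have hTgood : ∀ χ ∈ S, ∀ ψ ∈ S, ψ ≠ χ → ψ ≠ conjFun χ → τ (χ - ψ) = T χ - T ψ := by
      intro χ hχ ψ hψ h1 h2
      have h3 : χ ≠ conjFun ψ := by
        intro h
        apply h2
        rw [h, conj_conj]
      rw [hTpr χ hχ ψ hψ h1 h2, hTpr ψ hψ χ hχ (Ne.symm h1) h3]
      exact pr_diff hS hdeg hχ hψ h1 h2
    have hTτ : ∀ χ ∈ S, ∀ ψ ∈ S, τ (χ - ψ) = T χ - T ψ := by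
      intro χ hχ ψ hψ
      by_cases c1 : ψ = χ
      · rw [c1, sub_self, sub_self, lin_zero hiso']
      · by_cases c2 : ψ = conjFun χ
        · obtain ⟨g1, g2, g3⟩ := hψ₀ χ hχ
          have e : χ - ψ = (χ - ψ₀ χ) + (ψ₀ χ - ψ) := by abel
          have g4 : ψ ≠ ψ₀ χ := by rw [c2]; exact Ne.symm g3
          have g5 : ψ ≠ conjFun (ψ₀ χ) := by
            rw [c2]
            intro h
            apply g2
            have := congrArg conjFun h
            rw [conj_conj, conj_conj] at this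
            exact this.symm
          rw [e, lin_add hiso' (diff_mem hdeg hχ g1) (diff_mem hdeg g1 hψ),
            hTgood χ hχ _ g1 g2 g3, hTgood _ g1 ψ hψ g4 g5]
          abel
        · exact hTgood χ hχ ψ hψ c1 c2
    have hTiso : ∀ χ ∈ S, ∀ ψ ∈ S, classInner (T χ) (T ψ) = classInner χ ψ := by
      intro χ hχ ψ hψ
      by_cases c1 : ψ = χ
      · rw [c1]; exact hTnorm χ hχ
      · by_cases c2 : ψ = conjFun χ
        · have hχb := hS.conj_mem χ hχ
          have o3 : classInner χ (conjFun χ) = 0 :=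
            hS.orthogonal χ hχ _ hχb (hS.conj_ne χ hχ).symm
          have o3' : classInner (conjFun χ) χ = 0 :=
            hS.orthogonal _ hχb χ hχ (hS.conj_ne χ hχ)
          rw [c2, o3]
          obtain ⟨k, hk⟩ := classInner_gen_int (hTgen χ hχ) (hTgen _ hχb)
          have h1 : classInner (T χ - T (conjFun χ)) (T χ - T (conjFun χ)) =
              classInner (χ - conjFun χ) (χ - conjFun χ) := by
            rw [← hTτ χ hχ _ hχb, lin_inner hiso' (diff_mem hdeg hχ hχb) (diff_mem hdeg hχ hχb)]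
          have hk' : classInner (T (conjFun χ)) (T χ) = k := by
            rw [← classInner_conj_symm, hk]
            simp
          simp only [classInner_sub_left, classInner_sub_right, hTnorm χ hχ, hTnorm _ hχb, hk,
            hk', o3, o3'] at h1
          rw [hk]
          linear_combination (-1 / 2 : ℂ) * h1
        · rw [hS.orthogonal χ hχ ψ hψ (Ne.symm c1)]
          exact pr_orth hS hχ hψ c1 c2 _ _
    exact coherent_of_T hS hdeg T hTgen hTiso hTτ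
  · obtain ⟨χ, hχ, hall⟩ : ∃ χ ∈ S, ∀ ψ ∈ S, ψ = χ ∨ ψ = conjFun χ := by
      by_contra hcon
      apply hcase
      intro χ hχ
      by_contra h2
      apply hcon
      refine ⟨χ, hχ, fun ψ hψ => ?_⟩
      by_contra h3
      rw [not_or] at h3
      exact h2 ⟨ψ, hψ, h3.1, h3.2⟩
    have hχb := hS.conj_mem χ hχ
    have hne := hS.conj_ne χ hχ
    obtain ⟨m₁, hm₁⟩ := Cfsg.Agent.S1530.norm_gen_nat
      (isGen_of_isCharacter (hS.isCharacter χ hχ))
    obtain ⟨m₂, hm₂⟩ := Cfsg.Agent.S1530.norm_gen_nat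
      (isGen_of_isCharacter (hS.isCharacter _ hχb))
    have o3 : classInner χ (conjFun χ) = 0 :=
      hS.orthogonal χ hχ _ hχb (hS.conj_ne χ hχ).symm
    have o3' : classInner (conjFun χ) χ = 0 :=
      hS.orthogonal _ hχb χ hχ (hS.conj_ne χ hχ)
    have hon := hS.orthonormal χ hχ
    have hcard : (R χ).card = m₁ + m₂ := by
      have h1 : classInner (τ (χ - conjFun χ)) (τ (χ - conjFun χ)) =
          classInner (χ - conjFun χ) (χ - conjFun χ) :=
        lin_inner hiso' (diff_mem hdeg hχ hχb) (diff_mem hdeg hχ hχb)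
      rw [hS.sum_eq χ hχ, sum_inner (R χ) hon (Finset.Subset.refl _) (Finset.Subset.refl _),
        Finset.inter_self] at h1
      simp only [classInner_sub_left, classInner_sub_right, o3, o3', hm₁, hm₂] at h1
      have h2 : ((R χ).card : ℂ) = ((m₁ + m₂ : ℕ) : ℂ) := by
        rw [h1]; push_cast; ring
      exact_mod_cast h2
    obtain ⟨A, hAsub, hAcard⟩ := Finset.exists_subset_card_eq (s := R χ) (n := m₁) (by omega)
    set B := R χ \ A with hB
    have hBsub : B ⊆ R χ := Finset.sdiff_subset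
    have hBcard : B.card = m₂ := by
      rw [hB, Finset.card_sdiff_of_subset hAsub]
      omega
    have hAB : A ∩ B = ∅ := by
      rw [hB]
      exact Finset.inter_sdiff_self A (R χ)
    have hBA : B ∩ A = ∅ := by rw [Finset.inter_comm]; exact hAB
    have hsumR : ∑ a ∈ R χ, a = ∑ a ∈ A, a + ∑ b ∈ B, b := by
      rw [hB, add_comm]
      exact (Finset.sum_sdiff hAsub).symm
    set T : (L → ℂ) → (G → ℂ) := fun θ => if θ = χ then ∑ a ∈ A, a else -∑ b ∈ B, b with hT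
    have hTχ : T χ = ∑ a ∈ A, a := by rw [hT]; simp
    have hTχb : T (conjFun χ) = -∑ b ∈ B, b := by rw [hT]; simp [hne]
    have hAgen : IsGeneralizedCharacter G (∑ a ∈ A, a) :=
      isGen_sum _ _ (fun a ha => hS.virtual χ hχ a (hAsub ha))
    have hBgen : IsGeneralizedCharacter G (-∑ b ∈ B, b) :=
      isGen_neg (isGen_sum _ _ (fun a ha => hS.virtual χ hχ a (hBsub ha)))
    have hτ1 : τ (χ - conjFun χ) = ∑ a ∈ A, a + ∑ b ∈ B, b := by
      rw [hS.sum_eq χ hχ, hsumR]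
    have hτ2 : τ (conjFun χ - χ) = -(∑ a ∈ A, a + ∑ b ∈ B, b) := by
      have : conjFun χ - χ = -(χ - conjFun χ) := by abel
      rw [this, lin_neg hiso' (diff_mem hdeg hχ hχb), hτ1]
    apply coherent_of_T hS hdeg T
    · intro ψ hψ
      rcases hall ψ hψ with h | h
      · rw [h, hTχ]; exact hAgen
      · rw [h, hTχb]; exact hBgen
    · intro φ hφ ψ hψ
      rcases hall φ hφ with h | h <;> rcases hall ψ hψ with h' | h'
      · rw [h, h', hTχ, sum_inner (R χ) hon hAsub hAsub, Finset.inter_self, hAcard, hm₁]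
      · rw [h, h', hTχ, hTχb, classInner_neg_right, sum_inner (R χ) hon hAsub hBsub, hAB, o3]
        simp
      · rw [h, h', hTχ, hTχb, classInner_neg_left, sum_inner (R χ) hon hBsub hAsub, hBA, o3']
        simp
      · rw [h, h', hTχb, classInner_neg_left, classInner_neg_right,
          sum_inner (R χ) hon hBsub hBsub, Finset.inter_self, hBcard, hm₂, neg_neg]
    · intro φ hφ ψ hψ
      rcases hall φ hφ with h | h <;> rcases hall ψ hψ with h' | h'
      · rw [h, h', sub_self, sub_self, lin_zero hiso']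
      · rw [h, h', hTχ, hTχb, hτ1, sub_neg_eq_add]
      · rw [h, h', hTχ, hTχb, hτ2]
        abel
      · rw [h, h', sub_self, sub_self, lin_zero hiso']

end Cfsg.Agent.S1517
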