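import Mathlib
import Cfsg.Statements.S0161
import Cfsg.Agent.Lib.Helper74.FrobSchur

set_option autoImplicit false
open Cfsg

namespace Cfsg.Agent.S0161

open Cfsg.Agent.Lib.Helper74

/-- An irreducible representation with a nonzero invariant vector has character `1`. -/
lemma character_eq_one_of_invariant {G : Type*} [Group G] {V : Type*} [AddCommGroup V]
    [Module ℂ V] [FiniteDimensional ℂ V] (ρ : Representation ℂ G V) [ρ.IsIrreducible]
    (v : V) (hv : v ≠ 0) (hinv : ∀ g : G, ρ g v = v) (g : G) : ρ.character g = 1 := by
  -- the invariants form a subrepresentation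
  let I : Subrepresentation ρ :=
    ⟨Representation.invariants ρ, fun g w hw => by
      rw [Representation.mem_invariants] at hw ⊢
      intro h
      rw [hw g, hw h]⟩
  have hI : I = ⊤ := by
    rcases eq_bot_or_eq_top I with h | h
    · exfalso
      have hvI : v ∈ I.toSubmodule := (Representation.mem_invariants ρ v).2 hinv
      rw [h] at hvI
      exact hv ((Submodule.mem_bot ℂ).1 hvI)
    · exact h
  have hall : ∀ (h : G) (w : V), ρ h w = w := by
    intro h w
    have hw : w ∈ I.toSubmodule := by rw [hI]; exact Submodule.mem_top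
    exact (Representation.mem_invariants ρ w).1 hw h
  -- the line through `v` is a subrepresentation
  let L : Subrepresentation ρ :=
    ⟨Submodule.span ℂ {v}, fun g w hw => by rw [hall g w]; exact hw⟩
  have hL : L = ⊤ := by
    rcases eq_bot_or_eq_top L with h | h
    · exfalso
      have hvL : v ∈ L.toSubmodule := Submodule.mem_span_singleton_self v
      rw [h] at hvL
      exact hv ((Submodule.mem_bot ℂ).1 hvL)
    · exact h
  have hspan : Submodule.span ℂ {v} = ⊤ := congrArg Subrepresentation.toSubmodule hL
  have hfr : Module.finrank ℂ V = 1 := by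
    rw [← finrank_top ℂ V, ← hspan, finrank_span_singleton hv]
  have hρ : ρ g = 1 := by
    ext w
    exact hall g w
  unfold Representation.character
  rw [hρ, LinearMap.trace_one, hfr, Nat.cast_one]

/-- In a finite group of odd order, a real-valued irreducible complex character is the trivial character. -/
theorem result {G : Type*} [Group G] [Finite G] (hodd : Odd (Nat.card G)) (χ : Cfsg.IrrCharacter G) (hreal : ∀ g : G, ((χ : G → ℂ) g).im = 0) : (χ : G → ℂ) = fun _ => 1 := by
  classical
  obtain ⟨n, ρ, hirr, hχ⟩ := χ.2
  have : Fintype G := Fintype.ofFinite G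
  have : ρ.IsIrreducible := hirr
  have hreal' : ∀ g : G, (ρ.character g).im = 0 := by
    intro g; rw [hχ]; exact hreal g
  obtain ⟨-, -, hν⟩ := fs_real ρ (Pi.basisFun ℂ (Fin n)) hreal'
  -- squaring is a bijection
  have hcop : (Nat.card G).Coprime 2 := Nat.Coprime.symm (Nat.coprime_two_left.2 hodd)
  have hsum : ∑ s : G, ρ.character (s * s) = ∑ s : G, ρ.character s := by
    refine Fintype.sum_equiv (powCoprime hcop) _ _ ?_
    intro s
    rw [powCoprime_apply, pow_two]
  rw [hsum] at hν
  have : Invertible (Nat.card G : ℂ) := invertibleOfNonzero card_cast_ne_zero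
  rw [Representation.card_inv_mul_sum_char_eq_finrank] at hν
  have hfr : Module.finrank ℂ (Representation.invariants ρ) = 1 := by
    rcases hν with h | h
    · exact_mod_cast h
    · exfalso
      have h2 : ((Module.finrank ℂ (Representation.invariants ρ) : ℝ) : ℂ) = ((-1 : ℝ) : ℂ) := by
        push_cast; exact h
      have h3 := Complex.ofReal_injective h2
      have h4 : (0 : ℝ) ≤ (Module.finrank ℂ (Representation.invariants ρ) : ℝ) := Nat.cast_nonneg _
      linarith
  obtain ⟨v, hv⟩ := Module.finrank_pos_iff_exists_ne_zero.1 (by rw [hfr]; exact Nat.one_pos)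
  have hv0 : (v : Fin n → ℂ) ≠ 0 := fun h => hv (Subtype.ext h)
  have hvinv : ∀ g : G, ρ g (v : Fin n → ℂ) = v := (Representation.mem_invariants ρ _).1 v.2
  funext g
  rw [← hχ]
  exact character_eq_one_of_invariant ρ v hv0 hvinv g

end Cfsg.Agent.S0161
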