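-- Statement S0173: Brauer's permutation lemma for a single automorphism.
import Mathlib
import Cfsg.Statements.S0173
import Cfsg.Agent.Lib.Helper74.BrauerPerm
import Cfsg.Agent.Lib.Helper74.CharOps

set_option autoImplicit false
open Cfsg

namespace Cfsg.Agent.S0173

open Cfsg.Agent.Lib.Helper74

/-- Brauer's permutation lemma for a single automorphism: the number of conjugacy classes mapped to themselves equals the number of irreducible complex characters χ with χ ∘ α = χ. -/
theorem result {G : Type*} [Group G] [Finite G] (α : G ≃* G) : Nat.card {C : ConjClasses G // ConjClasses.map α.toMonoidHom C = C} = Nat.card {χ : Cfsg.IrrCharacter G // (χ : G → ℂ) ∘ α = (χ : G → ℂ)} := by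
  classical
  have : Fintype G := Fintype.ofFinite G
  let σ : Cfsg.IrrCharacter G → Cfsg.IrrCharacter G :=
    fun χ => ⟨(χ : G → ℂ) ∘ α, isIrrCharacter_comp_mulEquiv χ.2 α⟩
  have h := brauer_perm_count σ (fun g => α g) (fun χ g => rfl)
    (fun C => ConjClasses.map α.toMonoidHom C = C) (fun g => by
      change ConjClasses.mk (α g) = ConjClasses.mk g ↔ IsConj (α g) g
      rw [ConjClasses.mk_eq_mk_iff_isConj])
  rw [← h]
  refine Nat.card_congr (Equiv.subtypeEquivRight fun χ => ?_)
  constructor
  · intro hχ; exact congrArg Subtype.val hχ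
  · intro hχ; exact Subtype.ext hχ

end Cfsg.Agent.S0173
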