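import Cfsg.Statements.S0171
import Cfsg.Agent.Lib.Helper3.FrobInd

set_option autoImplicit false
open Cfsg

namespace Cfsg.Agent.S0171

/-- Let G = K H with K normal, K ⊓ H trivial, and no non-identity element of H commuting with a non-identity element of K (a Frobenius group with kernel K and complement H). Then every non-principal irreducible character of K induces to an irreducible character of G. -/
theorem result {G : Type*} [Group G] [Fintype G] (K H : Subgroup G) [K.Normal] (hKH : K ⊓ H = ⊥) (hKH' : K ⊔ H = ⊤) (hfpf : ∀ h ∈ H, h ≠ 1 → ∀ k ∈ K, h * k = k * h → k = 1) (τ : K → ℂ) (hτ : Cfsg.IsIrrCharacter K τ) (hτ1 : τ ≠ fun _ => 1) : Cfsg.IsIrrCharacter G (Cfsg.indFun K τ) := by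
  classical
  apply Cfsg.Agent.Lib.Helper3.isIrrCharacter_indFun_of_inertia K hτ
  intro x hx
  by_contra hxK
  -- write x = k * h with k ∈ K, h ∈ H
  have hx' : x ∈ K ⊔ H := by rw [hKH']; trivial
  rw [Subgroup.mem_sup_of_normal_left] at hx'
  obtain ⟨k, hk, h, hh, rfl⟩ := hx'
  have h1 : h ≠ 1 := by
    rintro rfl
    apply hxK
    simpa using hk
  rw [Cfsg.Agent.Lib.Helper75.conjChar_mul] at hx
  have hcf : Cfsg.IsClassFunction K (Cfsg.Agent.Lib.Helper75.conjChar K τ h) :=
    Cfsg.Agent.Lib.Helper3.isClassFunction_of_isCharacter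
      (Cfsg.Agent.Lib.Helper3.isCharacter_of_irr
        (Cfsg.Agent.Lib.Helper75.isIrrCharacter_conjChar K hτ h))
  rw [Cfsg.Agent.Lib.Helper75.conjChar_of_mem K hcf hk] at hx
  exact Cfsg.Agent.Lib.Helper3.frob_conjChar_ne K H hfpf hh h1 hτ hτ1 hx

end Cfsg.Agent.S0171
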