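import Mathlib
import Cfsg.Statements.S1514
import Cfsg.Agent.Lib.Helper25.NormTwo

set_option autoImplicit false
open Cfsg

namespace Cfsg.Agent.S1514

/-- Let S be a nonempty set of irreducible characters of the finite group L, closed under complex conjugation and containing no real-valued member, and τ a linear isometry on the integer combinations of S vanishing at 1, with values virtual characters of G vanishing at 1. Then there is a choice R making (S, τ, R) a coherence system. -/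
theorem result {L : Type*} [Group L] [Fintype L] {G : Type*} [Group G] [Fintype G] (S : Set (L → ℂ)) (hS : S.Nonempty) (hirr : ∀ χ ∈ S, Cfsg.IsIrrCharacter L χ) (hconj : ∀ χ ∈ S, Cfsg.conjFun χ ∈ S ∧ Cfsg.conjFun χ ≠ χ) (τ : (L → ℂ) → (G → ℂ)) (hτ : Cfsg.IsLinearIsometryOn (Cfsg.zspanOn S {1}ᶜ) τ) (hτ1 : ∀ α ∈ Cfsg.zspanOn S {1}ᶜ, τ α 1 = 0) : ∃ R : (L → ℂ) → Finset (G → ℂ), Cfsg.IsCoherenceSystem S τ R := by
  classical
  have hirrc : ∀ χ ∈ S, Cfsg.IsIrrCharacter L (Cfsg.conjFun χ) := fun χ hχ => hirr _ (hconj χ hχ).1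
  -- the difference lies in the domain of the isometry
  have hmem : ∀ χ ∈ S, χ - Cfsg.conjFun χ ∈ Cfsg.zspanOn S {1}ᶜ := by
    intro χ hχ
    rw [Cfsg.Agent.Lib.Helper26.mem_zspanOn_one]
    refine ⟨Submodule.sub_mem _ (Submodule.subset_span hχ)
      (Submodule.subset_span (hconj χ hχ).1), ?_⟩
    obtain ⟨d, -, hd⟩ := Cfsg.Agent.Lib.Helper26.irr_degree (hirr χ hχ)
    simp [Cfsg.conjFun, hd]
  have hnorm : ∀ χ ∈ S, Cfsg.classInner (χ - Cfsg.conjFun χ) (χ - Cfsg.conjFun χ) = 2 := by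
    intro χ hχ
    have hne : χ ≠ Cfsg.conjFun χ := fun h => (hconj χ hχ).2 h.symm
    rw [Cfsg.Agent.Lib.Helper26.classInner_sub_left, Cfsg.Agent.Lib.Helper26.classInner_sub_right,
      Cfsg.Agent.Lib.Helper26.classInner_sub_right,
      Cfsg.Agent.Lib.Helper26.classInner_irr_self (hirr χ hχ),
      Cfsg.Agent.Lib.Helper26.classInner_irr_self (hirrc χ hχ),
      Cfsg.Agent.Lib.Helper26.classInner_irr_ne (hirr χ hχ) (hirrc χ hχ) hne,
      Cfsg.Agent.Lib.Helper26.classInner_irr_ne (hirrc χ hχ) (hirr χ hχ) (Ne.symm hne)]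
    norm_num
  have hdec : ∀ χ ∈ S, ∃ θ₁ θ₂ : G → ℂ, Cfsg.IsIrrCharacter G θ₁ ∧ Cfsg.IsIrrCharacter G θ₂ ∧
      θ₁ ≠ θ₂ ∧ τ (χ - Cfsg.conjFun χ) = θ₁ - θ₂ := by
    intro χ hχ
    apply Cfsg.Agent.Lib.Helper25.gen_norm_two (hτ.2.2.2 _ (hmem χ hχ))
    · rw [hτ.2.2.1 _ (hmem χ hχ) _ (hmem χ hχ), hnorm χ hχ]
    · exact hτ1 _ (hmem χ hχ)
  choose! θ₁ θ₂ hθ₁ hθ₂ hθne hθeq using hdec
  have hneg : ∀ χ ∈ S, θ₁ χ ≠ -θ₂ χ := by
    intro χ hχ h
    have h1 := Cfsg.Agent.Lib.Helper26.classInner_irr_self (hθ₁ χ hχ)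
    have h2 : Cfsg.classInner (θ₁ χ) (θ₁ χ) = 0 := by
      conv_lhs => rw [h]
      rw [Cfsg.Agent.Lib.Helper26.classInner_neg_left, ← h,
        Cfsg.Agent.Lib.Helper26.classInner_irr_ne (hθ₂ χ hχ) (hθ₁ χ hχ) (Ne.symm (hθne χ hχ)),
        neg_zero]
    rw [h1] at h2
    exact one_ne_zero h2
  refine ⟨fun χ => {θ₁ χ, -θ₂ χ}, ?_⟩
  refine
    { nonempty := hS
      isCharacter := fun χ hχ => Cfsg.Agent.Lib.Helper26.isCharacter_of_irr (hirr χ hχ)
      conj_mem := fun χ hχ => (hconj χ hχ).1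
      conj_ne := fun χ hχ => (hconj χ hχ).2
      isometry := hτ
      map_one := hτ1
      orthogonal := fun χ hχ φ hφ hne =>
        Cfsg.Agent.Lib.Helper26.classInner_irr_ne (hirr χ hχ) (hirr φ hφ) hne
      orthonormal := ?_
      virtual := ?_
      sum_eq := ?_
      disjoint := ?_ }
  · intro χ hχ α hα β hβ
    have h11 := Cfsg.Agent.Lib.Helper26.classInner_irr_self (hθ₁ χ hχ)
    have h22 := Cfsg.Agent.Lib.Helper26.classInner_irr_self (hθ₂ χ hχ)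
    have h12 := Cfsg.Agent.Lib.Helper26.classInner_irr_ne (hθ₁ χ hχ) (hθ₂ χ hχ) (hθne χ hχ)
    have h21 := Cfsg.Agent.Lib.Helper26.classInner_irr_ne (hθ₂ χ hχ) (hθ₁ χ hχ)
      (Ne.symm (hθne χ hχ))
    rw [Finset.mem_insert, Finset.mem_singleton] at hα hβ
    rcases hα with rfl | rfl <;> rcases hβ with rfl | rfl
    · rw [if_pos rfl, h11]
    · rw [if_neg (hneg χ hχ), Cfsg.Agent.Lib.Helper26.classInner_neg_right, h12, neg_zero]
    · rw [if_neg (Ne.symm (hneg χ hχ)), Cfsg.Agent.Lib.Helper26.classInner_neg_left, h21, neg_zero]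
    · rw [if_pos rfl, Cfsg.Agent.Lib.Helper26.classInner_neg_left,
        Cfsg.Agent.Lib.Helper26.classInner_neg_right, h22, neg_neg]
  · intro χ hχ α hα
    rw [Finset.mem_insert, Finset.mem_singleton] at hα
    rcases hα with rfl | rfl
    · exact Cfsg.Agent.Lib.Helper26.isGen_of_irr (hθ₁ χ hχ)
    · exact Cfsg.Agent.Lib.Helper26.isGen_neg (Cfsg.Agent.Lib.Helper26.isGen_of_irr (hθ₂ χ hχ))
  · intro χ hχ
    rw [Finset.sum_pair (hneg χ hχ), hθeq χ hχ, sub_eq_add_neg]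
  · intro χ hχ φ hφ h1 h2 α hα β hβ
    -- the inner product of the two images vanishes
    have hz : Cfsg.classInner (τ (φ - Cfsg.conjFun φ)) (τ (χ - Cfsg.conjFun χ)) = 0 := by
      rw [hτ.2.2.1 _ (hmem φ hφ) _ (hmem χ hχ),
        Cfsg.Agent.Lib.Helper26.classInner_sub_left, Cfsg.Agent.Lib.Helper26.classInner_sub_right,
        Cfsg.Agent.Lib.Helper26.classInner_sub_right, h1, h2,
        Cfsg.Agent.Lib.Helper25.classInner_conjFun]
      have h3 : Cfsg.classInner (Cfsg.conjFun φ) χ = 0 := by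
        have := Cfsg.Agent.Lib.Helper25.classInner_conjFun φ (Cfsg.conjFun χ)
        rw [Cfsg.Agent.Lib.Helper25.conjFun_conjFun] at this
        rw [this, ← Cfsg.Agent.Lib.Helper26.classInner_conj_symm, h2, map_zero]
      have h4 : Cfsg.classInner χ φ = 0 := by
        rw [← Cfsg.Agent.Lib.Helper26.classInner_conj_symm, h1, map_zero]
      rw [h3, h4]
      ring
    rw [hθeq φ hφ, hθeq χ hχ, Cfsg.Agent.Lib.Helper26.classInner_sub_left,
      Cfsg.Agent.Lib.Helper26.classInner_sub_right,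
      Cfsg.Agent.Lib.Helper26.classInner_sub_right,
      Cfsg.Agent.Lib.Helper26.classInner_irr (hθ₁ φ hφ) (hθ₁ χ hχ),
      Cfsg.Agent.Lib.Helper26.classInner_irr (hθ₁ φ hφ) (hθ₂ χ hχ),
      Cfsg.Agent.Lib.Helper26.classInner_irr (hθ₂ φ hφ) (hθ₁ χ hχ),
      Cfsg.Agent.Lib.Helper26.classInner_irr (hθ₂ φ hφ) (hθ₂ χ hχ)] at hz
    have hχne := hθne χ hχ
    have hφne := hθne φ hφ
    have key : θ₁ φ ≠ θ₁ χ ∧ θ₁ φ ≠ θ₂ χ ∧ θ₂ φ ≠ θ₁ χ ∧ θ₂ φ ≠ θ₂ χ := by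
      split_ifs at hz <;>
        first
          | exact ⟨‹_›, ‹_›, ‹_›, ‹_›⟩
          | exact absurd ((‹θ₁ φ = θ₁ χ›).symm.trans ‹θ₁ φ = θ₂ χ›) hχne
          | exact absurd ((‹θ₁ φ = θ₁ χ›).trans (‹θ₂ φ = θ₁ χ›).symm) hφne
          | exact absurd ((‹θ₁ φ = θ₂ χ›).trans (‹θ₂ φ = θ₂ χ›).symm) hφne
          | exact absurd ((‹θ₂ φ = θ₁ χ›).symm.trans ‹θ₂ φ = θ₂ χ›) hχne
          | (exfalso; norm_num at hz)
    obtain ⟨k1, k2, k3, k4⟩ := key
    rw [Finset.mem_insert, Finset.mem_singleton] at hα hβ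
    rcases hα with rfl | rfl <;> rcases hβ with rfl | rfl
    · exact Cfsg.Agent.Lib.Helper26.classInner_irr_ne (hθ₁ φ hφ) (hθ₁ χ hχ) k1
    · rw [Cfsg.Agent.Lib.Helper26.classInner_neg_right,
        Cfsg.Agent.Lib.Helper26.classInner_irr_ne (hθ₁ φ hφ) (hθ₂ χ hχ) k2, neg_zero]
    · rw [Cfsg.Agent.Lib.Helper26.classInner_neg_left,
        Cfsg.Agent.Lib.Helper26.classInner_irr_ne (hθ₂ φ hφ) (hθ₁ χ hχ) k3, neg_zero]
    · rw [Cfsg.Agent.Lib.Helper26.classInner_neg_left,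
        Cfsg.Agent.Lib.Helper26.classInner_neg_right,
        Cfsg.Agent.Lib.Helper26.classInner_irr_ne (hθ₂ φ hφ) (hθ₂ χ hχ) k4, neg_zero, neg_zero]

end Cfsg.Agent.S1514
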