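import Mathlib
import Cfsg.Statements.S1528
import Cfsg.Agent.Lib.Helper75.CliffordCorr2
import Cfsg.Agent.Lib.Helper74.BrauerPerm

set_option autoImplicit false
open Cfsg

namespace Cfsg.Agent.S1528

open Cfsg.Agent.Lib.Helper75 Cfsg.Agent.Lib.Helper3

/-- Let N be a normal subgroup of the finite group G such that every element of G commuting with a non-identity element of N lies in N. If χ is an irreducible character of G with χ n ≠ χ 1 for some n ∈ N, then χ is the function induced from some irreducible character of N. -/
theorem result {G : Type*} [Group G] [Fintype G] (N : Subgroup G) [N.Normal] (hC : ∀ n ∈ N, n ≠ 1 → Subgroup.centralizer ({n} : Set G) ≤ N) (χ : G → ℂ) (hχ : Cfsg.IsIrrCharacter G χ) (hker : ∃ n ∈ N, χ n ≠ χ 1) : ∃ φ : N → ℂ, Cfsg.IsIrrCharacter N φ ∧ χ = Cfsg.indFun N φ := by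
  classical
  have : Fintype N := Fintype.ofFinite _
  have : Fintype (IrrCharacter N) := Fintype.ofFinite _
  obtain ⟨m, hm, hsum⟩ := char_eq_sum_irr (isCharacter_res N (isCharacter_of_irr hχ))
  have h1 : ∃ θ : IrrCharacter N, (θ : N → ℂ) ≠ (fun _ => 1) ∧ m θ ≠ 0 := by
    by_contra hcon
    obtain ⟨n, hn, hne⟩ := hker
    apply hne
    have e1 := congrFun hsum ⟨n, hn⟩
    have e2 := congrFun hsum 1
    simp only [Finset.sum_apply, Pi.smul_apply, smul_eq_mul] at e1 e2
    have e3 : χ n = χ ((1 : N) : G) := by
      rw [e1, e2]
      refine Finset.sum_congr rfl (fun θ _ => ?_)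
      by_cases hθ : (θ : N → ℂ) = (fun _ => 1)
      · rw [hθ]
      · have : m θ = 0 := by
          by_contra h0
          exact hcon ⟨θ, hθ, h0⟩
        rw [this]
        simp
    simpa using e3
  obtain ⟨θ, hθ1, hmθ⟩ := h1
  have hconst : classInner (fun n : N => χ n) (θ : N → ℂ) ≠ 0 := by
    rw [hm θ]
    exact_mod_cast hmθ
  have hT : ∀ g : G, g ∈ N ↔ conjChar N (θ : N → ℂ) g = θ := by
    intro g
    constructor
    · intro hg
      exact conjChar_of_mem N (isClassFunction_of_isCharacter (isCharacter_of_irr θ.2)) hg
    · intro hfix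
      by_contra hg
      have hcount := Cfsg.Agent.Lib.Helper74.brauer_perm_count (G := N)
        (fun ξ => ⟨conjChar N (ξ : N → ℂ) g, isIrrCharacter_conjChar N ξ.2 g⟩)
        (fun n => (MulAut.conjNormal g)⁻¹ n) (fun ξ n => rfl)
        (fun C => C = ConjClasses.mk 1) (by
          intro n
          constructor
          · intro h
            have hn1 : n = 1 := by
              have := ConjClasses.mk_eq_mk_iff_isConj.mp h
              exact isConj_one_left.mp this
            rw [hn1, map_one]
          · intro h
            obtain ⟨c, hc⟩ := isConj_iff.mp h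
            by_cases hn1 : n = 1
            · rw [hn1]
            · exfalso
              have hnG : (n : G) ≠ 1 := fun h0 => hn1 (Subtype.ext h0)
              have hcG : (c : G) * (g⁻¹ * (n : G) * g) * (c : G)⁻¹ = n := by
                have := congrArg (Subtype.val : N → G) hc
                simpa [MulAut.conjNormal_inv_apply] using this
              have hmem : (c : G) * g⁻¹ ∈ Subgroup.centralizer ({(n : G)} : Set G) := by
                rw [Subgroup.mem_centralizer_iff]
                intro y hy
                rw [Set.mem_singleton_iff] at hy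
                rw [hy]
                calc (n : G) * ((c : G) * g⁻¹)
                    = ((c : G) * (g⁻¹ * (n : G) * g) * (c : G)⁻¹) * ((c : G) * g⁻¹) := by rw [hcG]
                  _ = (c : G) * g⁻¹ * n := by group
              have h2 := hC n n.2 hnG hmem
              have h3 : g⁻¹ ∈ N := by
                have := N.mul_mem (N.inv_mem c.2) h2
                simpa using this
              exact hg (by simpa using N.inv_mem h3))
      have hone : Nat.card {C : ConjClasses N // C = ConjClasses.mk 1} = 1 := by
        rw [Nat.card_eq_one_iff_unique]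
        exact ⟨⟨fun a b => Subtype.ext (a.2.trans b.2.symm)⟩, ⟨⟨_, rfl⟩⟩⟩
      rw [hone, Nat.card_eq_one_iff_unique] at hcount
      obtain ⟨hsub, -⟩ := hcount
      let t : IrrCharacter N := ⟨fun _ => 1, Cfsg.Agent.Lib.Helper80.isIrrCharacter_one⟩
      have ht : (⟨conjChar N (t : N → ℂ) g, isIrrCharacter_conjChar N t.2 g⟩ : IrrCharacter N) = t := by
        apply Subtype.ext
        funext n
        rfl
      have hθ' : (⟨conjChar N (θ : N → ℂ) g, isIrrCharacter_conjChar N θ.2 g⟩ : IrrCharacter N) = θ :=
        Subtype.ext hfix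
      have := hsub.elim ⟨θ, hθ'⟩ ⟨t, ht⟩
      apply hθ1
      have h4 : θ = t := congrArg Subtype.val this
      rw [h4]
  obtain ⟨ψ, hψ, hind, -⟩ := clifford_correspondence N N le_rfl hχ θ.2 hT hconst
  exact ⟨ψ, hψ, hind.symm⟩

end Cfsg.Agent.S1528
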