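import Mathlib
import Cfsg.Statements.S1529
import Cfsg.Agent.Lib.Helper26.VChar

set_option autoImplicit false
open Cfsg

namespace Cfsg.Agent.S1529

open Cfsg.Agent.Lib.Helper26

theorem zsmul_apply' {X : Type*} (n : ℤ) (f : X → ℂ) (x : X) : (n • f) x = (n : ℂ) * f x := by
  rw [Pi.smul_apply, zsmul_eq_mul]

/-- Let N be a subgroup of the finite group G, S a set of irreducible characters of N with at least two members, and τ₁ a linear isometry on the integer combinations of S with virtual-character values such that τ₁ α vanishes at 1 whenever α ∈ ℤ[S] does. Then there is ε ∈ {1, −1} such that ε • τ₁ χ is an irreducible character of G for every χ ∈ S, and distinct members of S give distinct characters. -/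
theorem result {G : Type*} [Group G] [Fintype G] (N : Subgroup G) [Fintype N] (S : Set (N → ℂ)) (hirr : ∀ χ ∈ S, Cfsg.IsIrrCharacter N χ) (htwo : ∃ χ ∈ S, ∃ ψ ∈ S, χ ≠ ψ) (τ₁ : (N → ℂ) → (G → ℂ)) (hτ₁ : Cfsg.IsLinearIsometryOn (Cfsg.zspan S) τ₁) (h0 : ∀ α ∈ Cfsg.zspan S, α 1 = 0 → τ₁ α 1 = 0) : ∃ ε : ℂ, (ε = 1 ∨ ε = -1) ∧ (∀ χ ∈ S, Cfsg.IsIrrCharacter G (ε • τ₁ χ)) ∧ (∀ χ ∈ S, ∀ ψ ∈ S, τ₁ χ = τ₁ ψ → χ = ψ) := by
  classical
  have : Fintype (IrrCharacter G) := Fintype.ofFinite _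
  obtain ⟨hadd, hsmul, hiso, hgen⟩ := hτ₁
  have hmem : ∀ χ ∈ S, χ ∈ zspan S := fun χ hχ => Submodule.subset_span hχ
  have hsm : ∀ χ ∈ S, ∀ n : ℤ, n • χ ∈ zspan S := fun χ hχ n =>
    Submodule.smul_mem (Submodule.span ℤ S) n (Submodule.subset_span hχ)
  have hpm : ∀ χ ∈ S, IsIrrCharacter G (τ₁ χ) ∨ IsIrrCharacter G (-τ₁ χ) := by
    intro χ hχ
    apply irr_or_neg_of_norm_one (hgen χ (hmem χ hχ))
    rw [hiso χ (hmem χ hχ) χ (hmem χ hχ)]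
    exact classInner_irr_self (hirr χ hχ)
  have hrel : ∀ χ ∈ S, ∀ ψ ∈ S, ψ 1 * τ₁ χ 1 = χ 1 * τ₁ ψ 1 := by
    intro χ hχ ψ hψ
    obtain ⟨a, -, hχ1⟩ := irr_degree (hirr χ hχ)
    obtain ⟨b, -, hψ1⟩ := irr_degree (hirr ψ hψ)
    have hα : ((b : ℤ) • χ + (-(a : ℤ)) • ψ) ∈ zspan S :=
      Submodule.add_mem (Submodule.span ℤ S) (hsm χ hχ _) (hsm ψ hψ _)
    have hα1 : ((b : ℤ) • χ + (-(a : ℤ)) • ψ) 1 = 0 := by
      simp only [Pi.add_apply, zsmul_apply', hχ1, hψ1]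
      push_cast; ring
    have h := h0 _ hα hα1
    rw [hadd _ (hsm χ hχ _) _ (hsm ψ hψ _), hsmul χ (hmem χ hχ), hsmul ψ (hmem ψ hψ)] at h
    simp only [Pi.add_apply, zsmul_apply'] at h
    push_cast at h
    rw [hχ1, hψ1]
    linear_combination h
  have hsign : ∀ χ ∈ S, ∃ n : ℕ, 0 < n ∧
      ((IsIrrCharacter G (τ₁ χ) ∧ τ₁ χ 1 = n) ∨ (IsIrrCharacter G (-τ₁ χ) ∧ τ₁ χ 1 = -(n : ℂ))) := by
    intro χ hχ
    rcases hpm χ hχ with h | h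
    · obtain ⟨n, hn, h1⟩ := irr_degree h
      exact ⟨n, hn, Or.inl ⟨h, h1⟩⟩
    · obtain ⟨n, hn, h1⟩ := irr_degree h
      refine ⟨n, hn, Or.inr ⟨h, ?_⟩⟩
      have : -(τ₁ χ 1) = n := h1
      rw [← this]; ring
  have hinj : ∀ χ ∈ S, ∀ ψ ∈ S, τ₁ χ = τ₁ ψ → χ = ψ := by
    intro χ hχ ψ hψ heq
    by_contra hne
    have h1 := hiso χ (hmem χ hχ) ψ (hmem ψ hψ)
    rw [← heq, hiso χ (hmem χ hχ) χ (hmem χ hχ), classInner_irr_self (hirr χ hχ),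
      classInner_irr_ne (hirr χ hχ) (hirr ψ hψ) hne] at h1
    exact one_ne_zero h1
  obtain ⟨χ₀, hχ₀, -⟩ := htwo
  obtain ⟨a₀, ha₀, hχ₀1⟩ := irr_degree (hirr χ₀ hχ₀)
  obtain ⟨n₀, hn₀, h₀⟩ := hsign χ₀ hχ₀
  rcases h₀ with ⟨-, h₀⟩ | ⟨-, h₀⟩
  · refine ⟨1, Or.inl rfl, ?_, hinj⟩
    intro ψ hψ
    rw [one_smul]
    obtain ⟨b, hb, hψ1⟩ := irr_degree (hirr ψ hψ)
    obtain ⟨m, hm, hψs⟩ := hsign ψ hψ
    rcases hψs with ⟨h, -⟩ | ⟨-, h⟩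
    · exact h
    · exfalso
      have hr := hrel χ₀ hχ₀ ψ hψ
      rw [h₀, h, hχ₀1, hψ1] at hr
      have : ((b * n₀ + a₀ * m : ℕ) : ℂ) = 0 := by
        push_cast; linear_combination hr
      have h2 : b * n₀ + a₀ * m = 0 := by exact_mod_cast this
      have : 0 < b * n₀ := Nat.mul_pos hb hn₀
      omega
  · refine ⟨-1, Or.inr rfl, ?_, hinj⟩
    intro ψ hψ
    rw [neg_one_smul]
    obtain ⟨b, hb, hψ1⟩ := irr_degree (hirr ψ hψ)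
    obtain ⟨m, hm, hψs⟩ := hsign ψ hψ
    rcases hψs with ⟨-, h⟩ | ⟨h, -⟩
    · exfalso
      have hr := hrel χ₀ hχ₀ ψ hψ
      rw [h₀, h, hχ₀1, hψ1] at hr
      have : ((b * n₀ + a₀ * m : ℕ) : ℂ) = 0 := by
        push_cast; linear_combination -hr
      have h2 : b * n₀ + a₀ * m = 0 := by exact_mod_cast this
      have : 0 < b * n₀ := Nat.mul_pos hb hn₀
      omega
    · exact h

end Cfsg.Agent.S1529
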