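import Mathlib
import Cfsg.Statements.S1527

set_option autoImplicit false
open Cfsg

namespace Cfsg.Agent.S1527

theorem eq_one_of_conj_mem_coprime {G : Type*} [Group G] [Finite G] (A B : Subgroup G)
    (hcop : Nat.Coprime (Nat.card A) (Nat.card B)) (g x y : G)
    (hx : x * g * x⁻¹ ∈ A) (hy : y * g * y⁻¹ ∈ B) : g = 1 := by
  have hc : ∀ z : G, orderOf (z * g * z⁻¹) = orderOf g := by
    intro z
    have : z * g * z⁻¹ = MulAut.conj z g := by simp
    rw [this]
    exact MulEquiv.orderOf_eq (MulAut.conj z) g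
  have h1 : orderOf g ∣ Nat.card A := by
    have := Subgroup.orderOf_dvd_natCard A hx
    rwa [hc] at this
  have h2 : orderOf g ∣ Nat.card B := by
    have := Subgroup.orderOf_dvd_natCard B hy
    rwa [hc] at this
  have h3 : orderOf g ∣ 1 := by
    have := Nat.dvd_gcd h1 h2
    rwa [hcop] at this
  exact orderOf_eq_one_iff.mp (Nat.dvd_one.mp h3)

/-- Let G be a finite group and H i (i in a finite index type) subgroups of pairwise coprime orders, each of whose underlying sets is a TI-subset of G, such that every non-identity element of G is conjugate to an element of some H i. Then Nat.card G − 1 = Σ_i [G : N_G(H i)] · (Nat.card (H i) − 1). -/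
theorem result {G : Type*} [Group G] [Finite G] {ι : Type*} [Fintype ι] (H : ι → Subgroup G) (hcop : ∀ i j, i ≠ j → Nat.Coprime (Nat.card (H i)) (Nat.card (H j))) (hTI : ∀ i, Cfsg.IsTISubset (H i : Set G)) (hcover : ∀ g : G, g ≠ 1 → ∃ i, ∃ x : G, x * g * x⁻¹ ∈ H i) : Nat.card G - 1 = ∑ i, (Subgroup.normalizer (H i : Set G)).index * (Nat.card (H i) - 1) := by
  classical
  set N : ι → Subgroup G := fun i => Subgroup.normalizer (H i : Set G) with hN
  have hf1 : ∀ x : (Σ i, (G ⧸ N i) × {h : H i // h ≠ 1}),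
      x.2.1.out * (x.2.2.1 : G) * (x.2.1.out)⁻¹ ≠ 1 := by
    intro x h
    have h2 : ((x.2.2.1 : H x.1) : G) = 1 := by
      have := congrArg (fun t => (x.2.1.out)⁻¹ * t * x.2.1.out) h
      simpa [mul_assoc] using this
    exact x.2.2.2 (Subtype.ext h2)
  let f : (Σ i, (G ⧸ N i) × {h : H i // h ≠ 1}) → {g : G // g ≠ 1} :=
    fun x => ⟨x.2.1.out * (x.2.2.1 : G) * (x.2.1.out)⁻¹, hf1 x⟩
  have hinj : Function.Injective f := by
    rintro ⟨i, c, h, hh⟩ ⟨j, c', h', hh'⟩ hEq
    have hEq' : c.out * (h : G) * (c.out)⁻¹ = c'.out * (h' : G) * (c'.out)⁻¹ :=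
      congrArg Subtype.val hEq
    have hij : i = j := by
      by_contra hne
      have hg := eq_one_of_conj_mem_coprime (H i) (H j) (hcop i j hne)
        (c.out * (h : G) * (c.out)⁻¹) (c.out)⁻¹ (c'.out)⁻¹
        (by simp [mul_assoc])
        (by rw [hEq']; simp [mul_assoc])
      exact hf1 ⟨i, c, h, hh⟩ hg
    subst hij
    -- t = c'.out⁻¹ * c.out conjugates h to h'
    have ht : (c'.out)⁻¹ * c.out * (h : G) * ((c'.out)⁻¹ * c.out)⁻¹ = (h' : G) := by
      have := congrArg (fun t => (c'.out)⁻¹ * t * c'.out) hEq'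
      simp only [mul_assoc, inv_mul_cancel_left, inv_mul_cancel, mul_one] at this
      simp only [mul_inv_rev, inv_inv, mul_assoc]
      exact this
    have htN : (c'.out)⁻¹ * c.out ∈ N i := by
      by_contra hnot
      have := hTI i _ hnot (h : G) h.2 (by rw [ht]; exact h'.2)
      exact hh (Subtype.ext this)
    have hcc : c = c' := by
      have h1 : ((c'.out : G) : G ⧸ N i) = ((c.out : G) : G ⧸ N i) :=
        QuotientGroup.eq.mpr htN
      rw [QuotientGroup.out_eq', QuotientGroup.out_eq'] at h1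
      exact h1.symm
    subst hcc
    have hh2 : (h : G) = (h' : G) := by
      have := congrArg (fun t => (c.out)⁻¹ * t * c.out) hEq'
      simpa [mul_assoc] using this
    have hh3 : h = h' := Subtype.ext hh2
    subst hh3
    rfl
  have hsurj : Function.Surjective f := by
    rintro ⟨g, hg⟩
    obtain ⟨i, x, hx⟩ := hcover g hg
    -- c = class of x⁻¹
    set c : G ⧸ N i := ((x⁻¹ : G) : G ⧸ N i) with hc
    have hn : x * c.out ∈ N i := by
      have h1 : ((c.out : G) : G ⧸ N i) = ((x⁻¹ : G) : G ⧸ N i) := QuotientGroup.out_eq' c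
      have := QuotientGroup.eq.mp h1.symm
      simpa using this
    -- n = x * c.out, h' = n⁻¹ * (x g x⁻¹) * n ∈ H i
    have hmem : (x * c.out)⁻¹ * (x * g * x⁻¹) * (x * c.out) ∈ H i := by
      have h2 := (Subgroup.mem_set_normalizer_iff''.mp hn (x * g * x⁻¹)).mp hx
      exact h2
    have hne : (⟨(x * c.out)⁻¹ * (x * g * x⁻¹) * (x * c.out), hmem⟩ : H i) ≠ 1 := by
      intro h1
      have h2 : (x * c.out)⁻¹ * (x * g * x⁻¹) * (x * c.out) = 1 := congrArg Subtype.val h1
      apply hg
      have := congrArg (fun t => c.out * t * (c.out)⁻¹) h2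
      simpa [mul_assoc] using this
    refine ⟨⟨i, c, ⟨_, hmem⟩, hne⟩, ?_⟩
    apply Subtype.ext
    show c.out * ((x * c.out)⁻¹ * (x * g * x⁻¹) * (x * c.out)) * (c.out)⁻¹ = g
    simp [mul_assoc]
  have h1 : Nat.card (Σ i, (G ⧸ N i) × {h : H i // h ≠ 1}) = Nat.card {g : G // g ≠ 1} :=
    Nat.card_congr (Equiv.ofBijective f ⟨hinj, hsurj⟩)
  have h2 : Nat.card {g : G // g ≠ 1} = Nat.card G - 1 := by
    have : Nat.card {g : G // g ≠ 1} = (Set.univ \ {(1 : G)}).ncard := by
      rw [← Nat.card_coe_set_eq]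
      apply Nat.card_congr
      exact Equiv.subtypeEquivRight (by intro g; simp)
    rw [this, Set.ncard_sdiff_singleton_of_mem (Set.mem_univ _), Set.ncard_univ]
  have h4 : ∀ i, Nat.card {h : H i // h ≠ 1} = Nat.card (H i) - 1 := by
    intro i
    have : Nat.card {h : H i // h ≠ 1} = (Set.univ \ {(1 : H i)}).ncard := by
      rw [← Nat.card_coe_set_eq]
      apply Nat.card_congr
      exact Equiv.subtypeEquivRight (by intro g; simp)
    rw [this, Set.ncard_sdiff_singleton_of_mem (Set.mem_univ _), Set.ncard_univ]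
  have h3 : Nat.card (Σ i, (G ⧸ N i) × {h : H i // h ≠ 1}) =
      ∑ i, (N i).index * (Nat.card (H i) - 1) := by
    rw [Nat.card_sigma]
    apply Finset.sum_congr rfl
    intro i _
    rw [Nat.card_prod, h4 i]
    rfl
  rw [← h2, ← h1, h3]

end Cfsg.Agent.S1527
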