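import Mathlib
import Cfsg.Statements.S0198
import Cfsg.Agent.Lib.Helper80.CharOps

set_option autoImplicit false
open Cfsg

namespace Cfsg.Agent.S0198

open Cfsg.Agent.Lib.Helper80
open scoped ComplexConjugate

lemma int_pm_one (z : ℤ) (hz : z ≠ 0) (h : z ^ 2 ≤ 2) : z = 1 ∨ z = -1 := by
  have h1 : z ≤ 1 := by nlinarith
  have h2 : -1 ≤ z := by nlinarith
  omega

lemma two_sq_aux {ι : Type*} [Fintype ι] [DecidableEq ι] (c : ι → ℤ) (d : ι → ℤ)
    (hd : ∀ x, 0 < d x) (h2 : ∑ x, c x ^ 2 = 2) (h0 : ∑ x, c x * d x = 0) :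
    ∃ a b, a ≠ b ∧ ∀ x, c x = (if x = a then 1 else 0) - (if x = b then 1 else 0) := by
  have h1 : ∃ a, c a ≠ 0 := by
    by_contra h
    push Not at h
    simp [h] at h2
  obtain ⟨a, ha⟩ := h1
  have hs1 : c a ^ 2 + ∑ x ∈ Finset.univ.erase a, c x ^ 2 = 2 := by
    rw [Finset.add_sum_erase Finset.univ (fun x => c x ^ 2) (Finset.mem_univ a)]; exact h2
  have hn1 : 0 ≤ ∑ x ∈ Finset.univ.erase a, c x ^ 2 :=
    Finset.sum_nonneg (fun x _ => sq_nonneg _)
  have ha1 : c a = 1 ∨ c a = -1 := int_pm_one _ ha (by linarith)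
  have ha2 : c a ^ 2 = 1 := by rcases ha1 with h | h <;> rw [h] <;> norm_num
  have hs1' : ∑ x ∈ Finset.univ.erase a, c x ^ 2 = 1 := by linarith
  have h1b : ∃ b ∈ Finset.univ.erase a, c b ≠ 0 := by
    by_contra h
    push Not at h
    rw [Finset.sum_eq_zero (fun x hx => by rw [h x hx]; norm_num)] at hs1'
    norm_num at hs1'
  obtain ⟨b, hb, hbne⟩ := h1b
  have hba : b ≠ a := (Finset.mem_erase.1 hb).1
  have hs2 : c b ^ 2 + ∑ x ∈ (Finset.univ.erase a).erase b, c x ^ 2 = 1 := by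
    rw [Finset.add_sum_erase (Finset.univ.erase a) (fun x => c x ^ 2) hb]; exact hs1'
  have hn2 : 0 ≤ ∑ x ∈ (Finset.univ.erase a).erase b, c x ^ 2 :=
    Finset.sum_nonneg (fun x _ => sq_nonneg _)
  have hb1 : c b = 1 ∨ c b = -1 := int_pm_one _ hbne (by linarith)
  have hb2 : c b ^ 2 = 1 := by rcases hb1 with h | h <;> rw [h] <;> norm_num
  have hs2' : ∑ x ∈ (Finset.univ.erase a).erase b, c x ^ 2 = 0 := by linarith
  have hrest : ∀ x, x ≠ a → x ≠ b → c x = 0 := by
    intro x hxa hxb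
    have := (Finset.sum_eq_zero_iff_of_nonneg (fun x _ => sq_nonneg (c x))).1 hs2' x
      (Finset.mem_erase.2 ⟨hxb, Finset.mem_erase.2 ⟨hxa, Finset.mem_univ x⟩⟩)
    exact pow_eq_zero_iff (n := 2) (by norm_num) |>.1 this
  have hd0 : c a * d a + c b * d b = 0 := by
    have e1 : ∑ x, c x * d x = c a * d a + ∑ x ∈ Finset.univ.erase a, c x * d x :=
      (Finset.add_sum_erase Finset.univ (fun x => c x * d x) (Finset.mem_univ a)).symm
    have e2 : ∑ x ∈ Finset.univ.erase a, c x * d x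
        = c b * d b + ∑ x ∈ (Finset.univ.erase a).erase b, c x * d x :=
      (Finset.add_sum_erase (Finset.univ.erase a) (fun x => c x * d x) hb).symm
    have e3 : ∑ x ∈ (Finset.univ.erase a).erase b, c x * d x = 0 := by
      apply Finset.sum_eq_zero
      intro x hx
      have hx1 := Finset.mem_erase.1 hx
      have hx2 := Finset.mem_erase.1 hx1.2
      rw [hrest x hx2.1 hx1.1, zero_mul]
    rw [e1, e2, e3] at h0
    linarith
  have hda := hd a
  have hdb := hd b
  rcases ha1 with ha1 | ha1 <;> rcases hb1 with hb1 | hb1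
  · rw [ha1, hb1] at hd0; exfalso; linarith
  · refine ⟨a, b, hba.symm, ?_⟩
    intro x
    by_cases hxa : x = a
    · subst hxa; simp [ha1, hba.symm]
    · by_cases hxb : x = b
      · subst hxb; simp [hb1, hba]
      · simp [hxa, hxb, hrest x hxa hxb]
  · refine ⟨b, a, hba, ?_⟩
    intro x
    by_cases hxa : x = a
    · subst hxa; simp [ha1, hba.symm]
    · by_cases hxb : x = b
      · subst hxb; simp [hb1, hba]
      · simp [hxa, hxb, hrest x hxa hxb]
  · rw [ha1, hb1] at hd0; exfalso; linarith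

lemma classInner_sub_right' {G : Type*} [Group G] [Fintype G] (f ψ₁ ψ₂ : G → ℂ) :
    Cfsg.classInner f (ψ₁ - ψ₂) = Cfsg.classInner f ψ₁ - Cfsg.classInner f ψ₂ := by
  unfold Cfsg.classInner
  simp only [Pi.sub_apply, map_sub, mul_sub, Finset.sum_sub_distrib]

lemma gen_char_diff {G : Type*} [Group G] [Fintype G] (τ : G → ℂ)
    (hgen : Cfsg.IsGeneralizedCharacter G τ) (h1 : τ 1 = 0) (h2 : Cfsg.classInner τ τ = 2) :
    ∃ a b : Cfsg.IrrCharacter G, a ≠ b ∧ τ = (a : G → ℂ) - (b : G → ℂ) := by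
  classical
  have := Fintype.ofFinite (Cfsg.IrrCharacter G)
  obtain ⟨α, β, hα, hβ, rfl⟩ := hgen
  obtain ⟨mα, hmα, hexpα⟩ := character_expansion hα
  obtain ⟨mβ, hmβ, hexpβ⟩ := character_expansion hβ
  have hexp : α - β = ∑ χ : Cfsg.IrrCharacter G,
      ((((mα χ : ℤ) - (mβ χ : ℤ) : ℤ)) : ℂ) • (χ : G → ℂ) := by
    have e : ∀ χ : Cfsg.IrrCharacter G, ((((mα χ : ℤ) - (mβ χ : ℤ) : ℤ)) : ℂ) • (χ : G → ℂ)
        = (mα χ : ℂ) • (χ : G → ℂ) - (mβ χ : ℂ) • (χ : G → ℂ) := by
      intro χ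
      push_cast
      rw [sub_smul]
    simp_rw [e]
    rw [Finset.sum_sub_distrib, ← hexpα, ← hexpβ]
  have hnorm : ∑ χ : Cfsg.IrrCharacter G, ((mα χ : ℤ) - (mβ χ : ℤ)) ^ 2 = 2 := by
    have h := classInner_sum_irr (G := G) (fun χ => ((((mα χ : ℤ) - (mβ χ : ℤ) : ℤ)) : ℂ))
      (fun χ => ((((mα χ : ℤ) - (mβ χ : ℤ) : ℤ)) : ℂ))
    rw [← hexp, h2] at h
    have h' : ((2 : ℤ) : ℂ) = ((∑ χ : Cfsg.IrrCharacter G, ((mα χ : ℤ) - (mβ χ : ℤ)) ^ 2 : ℤ) : ℂ) := by
      push_cast
      rw [h]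
      apply Finset.sum_congr rfl
      intro χ _
      simp [sq]
    exact_mod_cast h'.symm
  have hdeg : ∑ χ : Cfsg.IrrCharacter G,
      ((mα χ : ℤ) - (mβ χ : ℤ)) * (Cfsg.charDegree (χ : G → ℂ) : ℤ) = 0 := by
    have h := congrFun hexp 1
    rw [h1] at h
    simp only [Finset.sum_apply, Pi.smul_apply, smul_eq_mul] at h
    have h' : ((0 : ℤ) : ℂ) = ((∑ χ : Cfsg.IrrCharacter G,
        ((mα χ : ℤ) - (mβ χ : ℤ)) * (Cfsg.charDegree (χ : G → ℂ) : ℤ) : ℤ) : ℂ) := by
      push_cast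
      rw [h]
      apply Finset.sum_congr rfl
      intro χ _
      rw [char_one_eq_charDegree (isCharacter_of_isIrrCharacter χ.2)]
      push_cast
      ring
    exact_mod_cast h'.symm
  obtain ⟨a, b, hab, hcab⟩ := two_sq_aux (fun χ : Cfsg.IrrCharacter G => (mα χ : ℤ) - (mβ χ : ℤ))
    (fun χ => (Cfsg.charDegree (χ : G → ℂ) : ℤ))
    (fun χ => by exact_mod_cast charDegree_pos χ.2) hnorm hdeg
  refine ⟨a, b, hab, ?_⟩
  rw [hexp]
  have e : ∀ χ : Cfsg.IrrCharacter G, ((((mα χ : ℤ) - (mβ χ : ℤ) : ℤ)) : ℂ) • (χ : G → ℂ)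
      = (if χ = a then (χ : G → ℂ) else 0) - (if χ = b then (χ : G → ℂ) else 0) := by
    intro χ
    have := hcab χ
    rw [this]
    by_cases h1 : χ = a
    · subst h1
      have hb' : ¬ (χ = b) := hab
      simp [hb']
    · by_cases h2 : χ = b
      · subst h2
        simp [h1]
      · simp [h1, h2]
  simp_rw [e]
  rw [Finset.sum_sub_distrib]
  simp

/-- The isometry lemma behind exceptional characters. Let τ be a family of generalized characters of a finite group G indexed by Fin n, with τ i₀ = 0, every τ i vanishing at the identity, and inner products ⟨τ i, τ j⟩ = 2 if i = j and 1 otherwise for i, j ≠ i₀. Then there are a sign ε and pairwise distinct irreducible characters μ i with τ i = ε (μ i − μ i₀) for all i. -/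
theorem result {G : Type*} [Group G] [Fintype G] (n : ℕ) (i₀ : Fin n) (τ : Fin n → (G → ℂ)) (h0 : τ i₀ = 0) (hgen : ∀ i, Cfsg.IsGeneralizedCharacter G (τ i)) (hone : ∀ i, τ i 1 = 0) (hgram : ∀ i j, i ≠ i₀ → j ≠ i₀ → Cfsg.classInner (τ i) (τ j) = if i = j then 2 else 1) : ∃ ε : ℂ, (ε = 1 ∨ ε = -1) ∧ ∃ μ : Fin n → (G → ℂ), (∀ i, Cfsg.IsIrrCharacter G (μ i)) ∧ Function.Injective μ ∧ ∀ i, τ i = ε • (μ i - μ i₀) := by
  classical
  have := Fintype.ofFinite (Cfsg.IrrCharacter G)
  have : Nonempty (Cfsg.IrrCharacter G) := ⟨⟨_, isIrrCharacter_one⟩⟩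
  have hdiff : ∀ i, i ≠ i₀ → ∃ a b : Cfsg.IrrCharacter G, a ≠ b ∧
      τ i = (a : G → ℂ) - (b : G → ℂ) := fun i hi =>
    gen_char_diff (τ i) (hgen i) (hone i) (by simpa using hgram i i hi hi)
  choose! A B hAB hτ using hdiff
  have hpair : ∀ i j, i ≠ i₀ → j ≠ i₀ → i ≠ j →
      (A i = A j ∧ B i ≠ B j) ∨ (B i = B j ∧ A i ≠ A j) := by
    intro i j hi hj hij
    have h := hgram i j hi hj
    rw [if_neg hij, hτ i hi, hτ j hj, classInner_sub_left, classInner_sub_right',
      classInner_sub_right', classInner_irr, classInner_irr, classInner_irr, classInner_irr] at h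
    have h1 := hAB i hi
    have h2 := hAB j hj
    by_cases e1 : A i = A j
    · by_cases e2 : B i = B j
      · exfalso
        have e3 : A i ≠ B j := fun e => h2 (e1 ▸ e)
        have e4 : B i ≠ A j := fun e => h2 (by rw [← e, e2])
        rw [if_pos e1, if_pos e2, if_neg e3, if_neg e4] at h
        norm_num at h
      · left; exact ⟨e1, e2⟩
    · by_cases e2 : B i = B j
      · right; exact ⟨e2, e1⟩
      · exfalso
        rw [if_neg e1, if_neg e2] at h
        split_ifs at h <;> norm_num at h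
  by_cases hJ : ∀ i, i = i₀
  · refine ⟨1, Or.inl rfl, fun _ => (fun _ => 1), fun _ => isIrrCharacter_one, ?_, ?_⟩
    · intro i j _
      rw [hJ i, hJ j]
    · intro i
      rw [hJ i, h0]
      simp
  push Not at hJ
  obtain ⟨i₁, hi₁⟩ := hJ
  by_cases hA : ∀ j, j ≠ i₀ → A j = A i₁
  · refine ⟨-1, Or.inr rfl, fun i => if i = i₀ then (A i₁ : G → ℂ) else (B i : G → ℂ), ?_, ?_, ?_⟩
    · intro i
      by_cases hi : i = i₀
      · simp only [if_pos hi]; exact (A i₁).2
      · simp only [if_neg hi]; exact (B i).2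
    · intro i j hij
      simp only at hij
      by_cases hi : i = i₀ <;> by_cases hj : j = i₀
      · rw [hi, hj]
      · rw [if_pos hi, if_neg hj] at hij
        exact absurd ((hA j hj).trans (Subtype.ext hij)) (hAB j hj)
      · rw [if_neg hi, if_pos hj] at hij
        exact absurd ((hA i hi).trans (Subtype.ext hij.symm)) (hAB i hi)
      · rw [if_neg hi, if_neg hj] at hij
        by_contra hne
        rcases hpair i j hi hj hne with ⟨_, h⟩ | ⟨_, h⟩
        · exact h (Subtype.ext hij)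
        · exact h ((hA i hi).trans (hA j hj).symm)
    · intro i
      by_cases hi : i = i₀
      · subst hi
        simp [h0]
      · simp only [if_neg hi, if_true]
        rw [hτ i hi, hA i hi]
        ext g
        simp
  by_cases hB : ∀ j, j ≠ i₀ → B j = B i₁
  · refine ⟨1, Or.inl rfl, fun i => if i = i₀ then (B i₁ : G → ℂ) else (A i : G → ℂ), ?_, ?_, ?_⟩
    · intro i
      by_cases hi : i = i₀
      · simp only [if_pos hi]; exact (B i₁).2
      · simp only [if_neg hi]; exact (A i).2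
    · intro i j hij
      simp only at hij
      by_cases hi : i = i₀ <;> by_cases hj : j = i₀
      · rw [hi, hj]
      · rw [if_pos hi, if_neg hj] at hij
        exact absurd ((Subtype.ext hij.symm).trans (hB j hj).symm) (hAB j hj)
      · rw [if_neg hi, if_pos hj] at hij
        exact absurd ((Subtype.ext hij).trans (hB i hi).symm) (hAB i hi)
      · rw [if_neg hi, if_neg hj] at hij
        by_contra hne
        rcases hpair i j hi hj hne with ⟨_, h⟩ | ⟨_, h⟩
        · exact h ((hB i hi).trans (hB j hj).symm)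
        · exact h (Subtype.ext hij)
    · intro i
      by_cases hi : i = i₀
      · subst hi
        simp [h0]
      · simp only [if_neg hi, if_true]
        rw [hτ i hi, hB i hi]
        simp
  exfalso
  push Not at hA hB
  obtain ⟨j, hj, hjA⟩ := hA
  obtain ⟨k, hk, hkB⟩ := hB
  have hj1 : j ≠ i₁ := fun h => hjA (by rw [h])
  have hk1 : k ≠ i₁ := fun h => hkB (by rw [h])
  have hjB : B j = B i₁ := by
    rcases hpair j i₁ hj hi₁ hj1 with ⟨h, _⟩ | ⟨h, _⟩
    · exact absurd h hjA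
    · exact h
  have hkA : A k = A i₁ := by
    rcases hpair k i₁ hk hi₁ hk1 with ⟨h, _⟩ | ⟨h, _⟩
    · exact h
    · exact absurd h hkB
  have hjk : j ≠ k := fun h => hjA (by rw [h]; exact hkA)
  rcases hpair j k hj hk hjk with ⟨h, _⟩ | ⟨h, _⟩
  · exact hjA (h.trans hkA)
  · exact hkB (h.symm.trans hjB)

end Cfsg.Agent.S0198
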