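import Cfsg.Statements.S1492
import Cfsg.Agent.Lib.Helper75.CliffordCorr2
import Cfsg.Agent.Lib.Helper80.Schur

set_option autoImplicit false
open Cfsg

namespace Cfsg.Agent.S1492

open Cfsg.Agent.Lib Cfsg.Agent.Lib.Helper3 Cfsg.Agent.Lib.Helper75 in
/-- Let ψ be an irreducible character of the finite group G and B ≤ D ≤ C subgroups with B normal in C, every commutator of an element of D with an element of C lying in B (so D/B is central in C/B), and ψ constant equal to ψ 1 on B. Then ψ(1) ^ 2 * |C| * |D| ≤ |G| ^ 2. -/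
theorem result {G : Type*} [Group G] [Finite G] (ψ : G → ℂ) (hψ : Cfsg.IsIrrCharacter G ψ) (B C D : Subgroup G) (hBD : B ≤ D) (hDC : D ≤ C) (hBn : ∀ c ∈ C, ∀ b ∈ B, c * b * c⁻¹ ∈ B) (hcent : ∀ d ∈ D, ∀ c ∈ C, d * c * d⁻¹ * c⁻¹ ∈ B) (hker : ∀ b ∈ B, ψ b = ψ 1) : ‖ψ 1‖ ^ 2 * (Nat.card C : ℝ) * (Nat.card D : ℝ) ≤ (Nat.card G : ℝ) ^ 2 := by
  classical
  have : Fintype G := Fintype.ofFinite G
  have : Fintype C := Fintype.ofFinite C
  have : Fintype (Cfsg.IrrCharacter C) := Fintype.ofFinite _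
  have : Fintype (Cfsg.IrrCharacter G) := Fintype.ofFinite _
  have hψc := isCharacter_of_irr hψ
  have hψC := isCharacter_res C hψc
  obtain ⟨a, ha, hsum⟩ := char_eq_sum_irr hψC
  -- an irreducible constituent
  have hex : ∃ φ : Cfsg.IrrCharacter C, a φ ≠ 0 := by
    by_contra hcon
    push Not at hcon
    have h0 := congrFun hsum 1
    simp only [hcon, Nat.cast_zero, zero_smul, Finset.sum_const_zero, Pi.zero_apply] at h0
    exact Helper80.char_one_ne_zero hψ h0
  obtain ⟨φ, hφa⟩ := hex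
  have hφc := isCharacter_of_irr φ.2
  -- `φ` is trivial on `B`
  have hφB : ∀ b : C, (b : G) ∈ B → (φ : C → ℂ) b = (φ : C → ℂ) 1 := by
    intro b hb
    have h1 := congrFun hsum b
    have h2 := congrFun hsum 1
    simp only [Finset.sum_apply, Pi.smul_apply, smul_eq_mul] at h1 h2
    have h3 : ψ (b : G) = ψ ((1 : C) : G) := by
      rw [hker b hb]
      rfl
    rw [h1, h2] at h3
    have h4 : ∑ φ' : Cfsg.IrrCharacter C,
        (a φ' : ℝ) * ((Cfsg.charDegree (φ' : C → ℂ) : ℝ) - ((φ' : C → ℂ) b).re) = 0 := by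
      have h5 := congrArg Complex.re h3
      simp only [Complex.re_sum, Complex.mul_re, Complex.natCast_re, Complex.natCast_im,
        zero_mul, sub_zero] at h5
      have h6 : ∀ φ' : Cfsg.IrrCharacter C, ((φ' : C → ℂ) 1).re = Cfsg.charDegree (φ' : C → ℂ) := by
        intro φ'
        rw [Helper80.char_one_eq_charDegree (isCharacter_of_irr φ'.2)]
        simp
      simp only [mul_sub, Finset.sum_sub_distrib, ← h6]
      linarith
    have h7 : ∀ φ' ∈ (Finset.univ : Finset (Cfsg.IrrCharacter C)),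
        0 ≤ (a φ' : ℝ) * ((Cfsg.charDegree (φ' : C → ℂ) : ℝ) - ((φ' : C → ℂ) b).re) := by
      intro φ' _
      apply mul_nonneg (Nat.cast_nonneg _)
      have := Helper80.norm_char_le_charDegree (isCharacter_of_irr φ'.2) b
      have := Complex.re_le_norm ((φ' : C → ℂ) b)
      linarith
    have h8 := (Finset.sum_eq_zero_iff_of_nonneg h7).1 h4 φ (Finset.mem_univ φ)
    have h9 : ((φ : C → ℂ) b).re = Cfsg.charDegree (φ : C → ℂ) := by
      have hpos : (0 : ℝ) < a φ := by exact_mod_cast Nat.pos_of_ne_zero hφa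
      rcases mul_eq_zero.1 h8 with h | h
      · linarith
      · linarith
    have h10 := Helper80.norm_char_le_charDegree hφc b
    rw [Helper80.char_one_eq_charDegree hφc]
    apply Complex.ext
    · simpa using h9
    · have h11 : ‖(φ : C → ℂ) b‖ ^ 2 = ((φ : C → ℂ) b).re ^ 2 + ((φ : C → ℂ) b).im ^ 2 := by
        rw [← Complex.normSq_eq_norm_sq, Complex.normSq_apply]
        ring
      have h12 : ‖(φ : C → ℂ) b‖ ^ 2 ≤ (Cfsg.charDegree (φ : C → ℂ) : ℝ) ^ 2 :=
        pow_le_pow_left₀ (norm_nonneg _) h10 2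
      rw [h11, h9] at h12
      have h13 : ((φ : C → ℂ) b).im ^ 2 ≤ 0 := by linarith
      have h14 : ((φ : C → ℂ) b).im = 0 := by
        have := sq_nonneg ((φ : C → ℂ) b).im
        exact pow_eq_zero_iff (two_ne_zero) |>.1 (le_antisymm h13 this)
      simpa using h14
  -- the representation
  obtain ⟨k, σ, hσ, hσφ⟩ := φ.2
  have hk : (φ : C → ℂ) 1 = (k : ℂ) := by
    rw [← hσφ, Representation.char_one]
    simp
  have hσB : ∀ b : C, (b : G) ∈ B → σ b = 1 := by
    intro b hb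
    rw [← Helper80.char_eq_finrank_iff σ b, hσφ, hφB b hb, hk]
    simp
  -- `D` acts by scalars
  have hσD : ∀ d : C, (d : G) ∈ D → ‖(φ : C → ℂ) d‖ = k := by
    intro d hd
    have hcomm : ∀ c : C, σ d * σ c = σ c * σ d := by
      intro c
      have h1 : σ (d * c * d⁻¹ * c⁻¹) = 1 := hσB _ (hcent d hd c c.2)
      have h2 : d * c = (d * c * d⁻¹ * c⁻¹) * (c * d) := by group
      rw [← map_mul, ← map_mul, h2, map_mul, h1, one_mul]
    obtain ⟨z, hz⟩ := Helper80.schur_scalar σ (σ d) hcomm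
    have := (Helper80.norm_char_eq_finrank_iff σ d).2 ⟨z, hz⟩
    rw [hσφ] at this
    rw [this]
    simp
  -- counting
  have hsumC := Helper80.sum_norm_sq_eq_card φ.2
  have hDle : (Nat.card D : ℝ) * (k : ℝ) ^ 2 ≤ (Nat.card C : ℝ) := by
    rw [← hsumC]
    have h1 : ∑ c ∈ Finset.univ.filter (fun c : C => (c : G) ∈ D), ‖(φ : C → ℂ) c‖ ^ 2 ≤
        ∑ c : C, ‖(φ : C → ℂ) c‖ ^ 2 :=
      Finset.sum_le_sum_of_subset_of_nonneg (Finset.subset_univ _) (fun _ _ _ => by positivity)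
    have h2 : ∑ c ∈ Finset.univ.filter (fun c : C => (c : G) ∈ D), ‖(φ : C → ℂ) c‖ ^ 2 =
        (Nat.card D : ℝ) * (k : ℝ) ^ 2 := by
      rw [Finset.sum_congr rfl (fun c hc => by
        rw [hσD c (Finset.mem_filter.1 hc).2]), Finset.sum_const, nsmul_eq_mul]
      congr 2
      have h3 : (Finset.univ.filter (fun c : C => (c : G) ∈ D)).card = Nat.card (D.subgroupOf C) := by
        rw [Nat.card_eq_fintype_card, Fintype.card_subtype]
        rfl
      rw [h3, Nat.card_congr (Subgroup.subgroupOfEquivOfLe hDC).toEquiv]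
    rw [← h2]
    exact h1
  -- Frobenius
  have hfrob : Cfsg.classInner (Cfsg.indFun C (φ : C → ℂ)) ψ ≠ 0 := by
    rw [frobenius_reciprocity C (φ : C → ℂ) (isClassFunction_of_isCharacter hψc),
      classInner_conj_symm, ha φ]
    simpa using hφa
  have hI := isCharacter_indFun C hφc
  obtain ⟨m, hm, hexp⟩ := Helper80.character_expansion hI
  have hdeg := Helper80.charDegree_eq_sum hI m hexp
  have hmψ : m ⟨ψ, hψ⟩ ≠ 0 := by
    intro h0
    apply hfrob
    rw [hm ⟨ψ, hψ⟩, h0]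
    simp
  have hψle : Cfsg.charDegree ψ ≤ Cfsg.charDegree (Cfsg.indFun C (φ : C → ℂ)) := by
    rw [hdeg]
    calc Cfsg.charDegree ψ ≤ m ⟨ψ, hψ⟩ * Cfsg.charDegree ψ :=
          Nat.le_mul_of_pos_left _ (Nat.pos_of_ne_zero hmψ)
      _ ≤ _ := Finset.single_le_sum (f := fun χ : Cfsg.IrrCharacter G =>
          m χ * Cfsg.charDegree (χ : G → ℂ)) (fun _ _ => Nat.zero_le _)
          (Finset.mem_univ (⟨ψ, hψ⟩ : Cfsg.IrrCharacter G))
  have hIdeg : Cfsg.charDegree (Cfsg.indFun C (φ : C → ℂ)) = C.index * k := by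
    have h1 := Helper80.char_one_eq_charDegree hI
    rw [indFun_one, hk] at h1
    exact_mod_cast h1.symm
  rw [hIdeg] at hψle
  have hψ1 : ‖ψ 1‖ = Cfsg.charDegree ψ := by
    rw [Helper80.char_one_eq_charDegree hψc]
    simp
  rw [hψ1]
  have hidx : (C.index : ℝ) * (Nat.card C : ℝ) = (Nat.card G : ℝ) := by
    exact_mod_cast C.index_mul_card
  have hψle' : (Cfsg.charDegree ψ : ℝ) ≤ (C.index : ℝ) * (k : ℝ) := by exact_mod_cast hψle
  have hC0 : (0 : ℝ) ≤ (Nat.card C : ℝ) := Nat.cast_nonneg _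
  have hD0 : (0 : ℝ) ≤ (Nat.card D : ℝ) := Nat.cast_nonneg _
  have hd0 : (0 : ℝ) ≤ (Cfsg.charDegree ψ : ℝ) := Nat.cast_nonneg _
  have hi0 : (0 : ℝ) ≤ (C.index : ℝ) := Nat.cast_nonneg _
  calc (Cfsg.charDegree ψ : ℝ) ^ 2 * (Nat.card C : ℝ) * (Nat.card D : ℝ)
      ≤ ((C.index : ℝ) * (k : ℝ)) ^ 2 * (Nat.card C : ℝ) * (Nat.card D : ℝ) := by
        apply mul_le_mul_of_nonneg_right _ hD0
        apply mul_le_mul_of_nonneg_right _ hC0
        exact pow_le_pow_left₀ hd0 hψle' 2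
    _ = (C.index : ℝ) ^ 2 * (Nat.card C : ℝ) * ((Nat.card D : ℝ) * (k : ℝ) ^ 2) := by ring
    _ ≤ (C.index : ℝ) ^ 2 * (Nat.card C : ℝ) * (Nat.card C : ℝ) := by
        apply mul_le_mul_of_nonneg_left hDle
        positivity
    _ = (Nat.card G : ℝ) ^ 2 := by
        rw [← hidx]
        ring

end Cfsg.Agent.S1492
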