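import Mathlib
import Cfsg.Statements.S1519
import Cfsg.Agent.Lib.Helper25.CohExt
import Cfsg.Agent.Lib.Helper25.IndAbove
import Cfsg.Agent.S1492

set_option autoImplicit false
open Cfsg

namespace Cfsg.Agent.S1519

open Cfsg.Agent.Lib.Helper25 Cfsg.Agent.Lib.Helper26 Cfsg.Agent.Lib.Helper80


/-- Let K be a solvable normal subgroup of the finite group L and (S, τ, R) a coherence system from L to G where S is the set of functions induced from non-principal irreducible characters of K; write S(A) for those induced from characters whose kernel contains A. Let A, B, C, D be normal subgroups of L with A < K, B < K, B ≤ D ≤ C ≤ K and every commutator of D with C in B. If S(A) is coherent and 4 * [L:C]^2 * [C:D] < ([K:A] − 1)^2, then S(B) is coherent. -/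
theorem result {L : Type*} [Group L] [Fintype L] {G : Type*} [Group G] [Fintype G] (K : Subgroup L) [hK : K.Normal] (hsolv : Group.IsSolvable K) (τ : (L → ℂ) → (G → ℂ)) (R : (L → ℂ) → Finset (G → ℂ)) (hS : Cfsg.IsCoherenceSystem (Cfsg.inducedIrrAbove K ⊥) τ R) (A B C D : Subgroup L) [A.Normal] [B.Normal] [C.Normal] [D.Normal] (hAK : A < K) (hBK : B < K) (hBD : B ≤ D) (hDC : D ≤ C) (hCK : C ≤ K) (hcent : ∀ x ∈ D, ∀ y ∈ C, x * y * x⁻¹ * y⁻¹ ∈ B) (hA : Cfsg.IsCoherent (Cfsg.inducedIrrAbove K A) {1}ᶜ τ) (hlt : 4 * C.index ^ 2 * D.relIndex C < (A.relIndex K - 1) ^ 2) : Cfsg.IsCoherent (Cfsg.inducedIrrAbove K B) {1}ᶜ τ := by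
  classical
  haveI : Finite (Cfsg.IrrCharacter K) := Cfsg.Agent.Lib.Helper26.irr_finite
  set S : Set (L → ℂ) := Cfsg.inducedIrrAbove K ⊥ with hSdef
  -- degrees and norms
  have hdn : ∀ φ : L → ℂ, φ ∈ S → ∃ k m : ℕ, φ 1 = (k : ℂ) ∧ Cfsg.classInner φ φ = (m : ℂ) := by
    intro φ hφ
    have hc := hS.isCharacter φ hφ
    obtain ⟨k, hk⟩ := char_degree hc
    obtain ⟨m, hm⟩ := pair_char_nat hc hc
    exact ⟨k, m, hk, by rw [classInner_eq_pair _ hc]; exact hm⟩
  choose! d n hdn using hdn
  have hd : ∀ φ ∈ S, φ 1 = (d φ : ℂ) := fun φ hφ => (hdn φ hφ).1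
  have hn : ∀ φ ∈ S, Cfsg.classInner φ φ = (n φ : ℂ) := fun φ hφ => (hdn φ hφ).2
  -- finite sets
  have hfA := above_finite K A
  have hfB := above_finite K B
  set TA : Finset (L → ℂ) := hfA.toFinset with hTA
  set U : Finset (L → ℂ) := hfA.toFinset ∪ hfB.toFinset with hUdef
  have hUS : (↑U : Set (L → ℂ)) ⊆ S := by
    intro φ hφ
    rcases Finset.mem_union.mp (Finset.mem_coe.mp hφ) with h | h
    · exact above_subset_bot K A (hfA.mem_toFinset.mp h)
    · exact above_subset_bot K B (hfB.mem_toFinset.mp h)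
  have hUc : ∀ φ ∈ U, Cfsg.conjFun φ ∈ U := by
    intro φ hφ
    rcases Finset.mem_union.mp hφ with h | h
    · exact Finset.mem_union_left _ (hfA.mem_toFinset.mpr (conj_mem_above K A (hfA.mem_toFinset.mp h)))
    · exact Finset.mem_union_right _ (hfB.mem_toFinset.mpr (conj_mem_above K B (hfB.mem_toFinset.mp h)))
  have hTAU : TA ⊆ U := Finset.subset_union_left
  have hTAc : ∀ φ ∈ TA, Cfsg.conjFun φ ∈ TA := fun φ hφ =>
    hfA.mem_toFinset.mpr (conj_mem_above K A (hfA.mem_toFinset.mp hφ))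
  have hTAcoh : Cfsg.IsCoherent (↑TA : Set (L → ℂ)) {1}ᶜ τ := by
    rw [hTA, Set.Finite.coe_toFinset]
    exact hA
  -- a linear character trivial on A
  obtain ⟨θ₁, hθ₁, hθ₁ne, hθ₁1, hθ₁ker⟩ := exists_linear_above K hsolv A hAK
  set χ₁ : L → ℂ := Cfsg.indFun K θ₁ with hχ₁
  have hχ₁A : χ₁ ∈ Cfsg.inducedIrrAbove K A := ⟨θ₁, hθ₁, hθ₁ne, hθ₁ker, rfl⟩
  have hχ₁d : d χ₁ = K.index := by
    have h1 := hd χ₁ (above_subset_bot K A hχ₁A)
    rw [hχ₁, indFun_apply_one, hθ₁1, mul_one] at h1
    exact_mod_cast h1.symm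
  have he : 0 < K.index := Nat.pos_of_ne_zero (Subgroup.index_ne_zero_of_finite)
  have hUcoh : Cfsg.IsCoherent (↑U : Set (L → ℂ)) {1}ᶜ τ := by
    apply coherent_of_step hS d n hd hn U TA hUS hUc hTAU hTAc hTAcoh
    intro T hTAT hTU hTc hTcoh hTne
    obtain ⟨ψ, hψU, hψT⟩ : ∃ ψ ∈ U, ψ ∉ T := by
      by_contra h
      push Not at h
      exact hTne (Finset.Subset.antisymm hTU h)
    have hψB : ψ ∈ Cfsg.inducedIrrAbove K B := by
      rcases Finset.mem_union.mp hψU with h | h
      · exact absurd (hTAT h) hψT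
      · exact hfB.mem_toFinset.mp h
    refine ⟨ψ, hψU, hψT, χ₁, hTAT (hfA.mem_toFinset.mpr hχ₁A), ?_, ?_⟩
    · obtain ⟨θ, hθ, hθne, hθker, rfl⟩ := hψB
      have h1 := hd _ (hUS (Finset.mem_coe.mpr hψU))
      rw [indFun_apply_one, char_one_eq_charDegree (isCharacter_of_isIrrCharacter hθ)] at h1
      have h2 : d (Cfsg.indFun K θ) = K.index * Cfsg.charDegree θ := by exact_mod_cast h1.symm
      rw [hχ₁d, h2]
      exact dvd_mul_right _ _
    · obtain ⟨θ, hθ, hθne, hθker, rfl⟩ := hψB
      have h1 := hd _ (hUS (Finset.mem_coe.mpr hψU))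
      rw [indFun_apply_one, char_one_eq_charDegree (isCharacter_of_isIrrCharacter hθ)] at h1
      have h2 : d (Cfsg.indFun K θ) = K.index * Cfsg.charDegree θ := by exact_mod_cast h1.symm
      have hsum := sum_above_ge K A T (fun φ hφ => hTAT (hfA.mem_toFinset.mpr hφ)) d n
        (fun φ hφ => hd φ (hUS (Finset.mem_coe.mpr (hTU hφ))))
        (fun φ hφ => hn φ (hUS (Finset.mem_coe.mpr (hTU hφ))))
      -- the degree bound
      have hDK : D ≤ K := hDC.trans hCK
      have hb := Cfsg.Agent.S1492.result θ hθ (B.subgroupOf K) (C.subgroupOf K) (D.subgroupOf K)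
        (fun x hx => Subgroup.mem_subgroupOf.mpr (hBD (Subgroup.mem_subgroupOf.mp hx)))
        (fun x hx => Subgroup.mem_subgroupOf.mpr (hDC (Subgroup.mem_subgroupOf.mp hx)))
        (fun c _ b hb => Subgroup.mem_subgroupOf.mpr (by
          have := (inferInstance : B.Normal).conj_mem _ (Subgroup.mem_subgroupOf.mp hb) (c : L)
          simpa using this))
        (fun x hx y hy => Subgroup.mem_subgroupOf.mpr (by
          have := hcent _ (Subgroup.mem_subgroupOf.mp hx) _ (Subgroup.mem_subgroupOf.mp hy)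
          simpa using this))
        (fun b hb => hθker b (Subgroup.mem_subgroupOf.mp hb))
      rw [char_one_eq_charDegree (isCharacter_of_isIrrCharacter hθ), Complex.norm_natCast,
        Nat.card_congr (Subgroup.subgroupOfEquivOfLe hCK).toEquiv,
        Nat.card_congr (Subgroup.subgroupOfEquivOfLe hDK).toEquiv] at hb
      set c := Cfsg.charDegree θ with hc
      have hb' : c ^ 2 * Nat.card C * Nat.card D ≤ Nat.card K ^ 2 := by exact_mod_cast hb
      have hI : C.index * Nat.card C = Nat.card L := Subgroup.index_mul_card C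
      have hJ : D.relIndex C * Nat.card D = Nat.card C := by
        have h3 := Subgroup.index_mul_card (D.subgroupOf C)
        rw [Nat.card_congr (Subgroup.subgroupOfEquivOfLe hDC).toEquiv] at h3
        exact h3
      have hLK : Nat.card L = K.index * Nat.card K := (Subgroup.index_mul_card K).symm
      have hCpos : 0 < Nat.card C := Nat.card_pos
      have hDpos : 0 < Nat.card D := Nat.card_pos
      have h4 : (K.index * c) ^ 2 ≤ C.index ^ 2 * D.relIndex C := by
        have h5 : (K.index * c) ^ 2 * (Nat.card C * Nat.card D) ≤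
            C.index ^ 2 * D.relIndex C * (Nat.card C * Nat.card D) := by
          calc (K.index * c) ^ 2 * (Nat.card C * Nat.card D)
              = K.index ^ 2 * (c ^ 2 * Nat.card C * Nat.card D) := by ring
            _ ≤ K.index ^ 2 * Nat.card K ^ 2 := Nat.mul_le_mul_left _ hb'
            _ = (C.index * Nat.card C) ^ 2 := by rw [hI, hLK]; ring
            _ = C.index ^ 2 * Nat.card C * (D.relIndex C * Nat.card D) := by rw [hJ]; ring
            _ = C.index ^ 2 * D.relIndex C * (Nat.card C * Nat.card D) := by ring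
        exact Nat.le_of_mul_le_mul_right h5 (Nat.mul_pos hCpos hDpos)
      have h6 : (2 * (K.index * c)) ^ 2 < (A.relIndex K - 1) ^ 2 := by
        calc (2 * (K.index * c)) ^ 2 = 4 * (K.index * c) ^ 2 := by ring
          _ ≤ 4 * (C.index ^ 2 * D.relIndex C) := Nat.mul_le_mul_left _ h4
          _ = 4 * C.index ^ 2 * D.relIndex C := by ring
          _ < (A.relIndex K - 1) ^ 2 := hlt
      have h7 : 2 * (K.index * c) < A.relIndex K - 1 := lt_of_pow_lt_pow_left₀ 2 (Nat.zero_le _) h6
      have h8 : 1 ≤ A.relIndex K := by omega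
      have h9 : (2 * (K.index * c) : ℝ) < (A.relIndex K : ℝ) - 1 := by
        have : ((2 * (K.index * c) : ℕ) : ℝ) < ((A.relIndex K - 1 : ℕ) : ℝ) := by exact_mod_cast h7
        rw [Nat.cast_sub h8] at this
        push_cast at this
        exact this
      rw [hχ₁d, h2]
      have he' : (0 : ℝ) < (K.index : ℝ) := by exact_mod_cast he
      calc (2 * ((K.index * c : ℕ) : ℝ) * (K.index : ℝ))
          = (K.index : ℝ) * (2 * ((K.index : ℝ) * (c : ℝ))) := by push_cast; ring
        _ < (K.index : ℝ) * ((A.relIndex K : ℝ) - 1) := mul_lt_mul_of_pos_left h9 he'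
        _ ≤ _ := hsum
  exact coherent_of_subset (S' := Cfsg.inducedIrrAbove K B) (T := (↑U : Set (L → ℂ)))
    (fun φ hφ => Finset.mem_coe.mpr (Finset.mem_union_right _ (hfB.mem_toFinset.mpr hφ))) hUcoh
    (exists_nonzero_of_mem hS (above_subset_bot K B) (fun χ hχ => conj_mem_above K B hχ)
      (above_nonempty K hsolv B hBK))

end Cfsg.Agent.S1519
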