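import Mathlib
import Cfsg.Statements.S1520
import Cfsg.Agent.Lib.Helper25.CohExt
import Cfsg.Agent.Lib.Helper25.IndAbove
import Cfsg.Agent.S1519

set_option autoImplicit false
open Cfsg

namespace Cfsg.Agent.S1520

open Cfsg.Agent.Lib.Helper25 Cfsg.Agent.Lib.Helper26
open scoped commutatorElement

theorem arith (a b e : ℕ) (ha : 1 ≤ a) (hb : 4 * e ^ 2 + 1 < b) :
    4 * (a * e) ^ 2 * b < (b * a - 1) ^ 2 := by
  have hba : 1 ≤ b * a := Nat.one_le_iff_ne_zero.mpr (Nat.mul_ne_zero (by omega) (by omega))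
  obtain ⟨m, hm⟩ : ∃ m, b * a = m + 1 := ⟨b * a - 1, by omega⟩
  rw [hm, Nat.add_sub_cancel]
  have h1 : (4 * (e : ℤ) ^ 2 + 2) ≤ b := by exact_mod_cast hb
  have h2 : (1 : ℤ) ≤ a := by exact_mod_cast ha
  have h3 : (b : ℤ) * a = m + 1 := by exact_mod_cast hm
  have h4 : (0 : ℤ) ≤ (a : ℤ) ^ 2 * b * ((b : ℤ) - 2 - 4 * (e : ℤ) ^ 2) := by
    apply mul_nonneg
    · positivity
    · linarith
  have h5 : (0 : ℤ) ≤ (a : ℤ) * b * ((a : ℤ) - 1) := by
    apply mul_nonneg
    · positivity
    · linarith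
  have h6 : (4 * ((a : ℤ) * e) ^ 2 * b) < (m : ℤ) ^ 2 := by
    have hm' : (m : ℤ) = b * a - 1 := by linarith
    rw [hm']
    nlinarith
  exact_mod_cast h6


/-- Let K be a solvable normal subgroup of the finite group L and (S, τ, R) a coherence system from L to G with S the functions induced from non-principal irreducible characters of K; S(A) the members of S induced from characters whose kernel contains A. Let M ≤ H₁ ≤ H ≤ K be normal subgroups of L such that every term of the lower central series of H eventually lies in M (H/M nilpotent), S(H₁) is coherent and [H:H₁] > 4 * [L:K]^2 + 1. Then S(M) is coherent. -/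
theorem result {L : Type*} [Group L] [Fintype L] {G : Type*} [Group G] [Fintype G] (K : Subgroup L) [hK : K.Normal] (hsolv : Group.IsSolvable K) (τ : (L → ℂ) → (G → ℂ)) (R : (L → ℂ) → Finset (G → ℂ)) (hS : Cfsg.IsCoherenceSystem (Cfsg.inducedIrrAbove K ⊥) τ R) (M H₁ H : Subgroup L) [M.Normal] [H₁.Normal] [H.Normal] (hMH₁ : M ≤ H₁) (hH₁H : H₁ ≤ H) (hHK : H ≤ K) [(M.subgroupOf H).Normal] (hnil : Group.IsNilpotent (↥H ⧸ M.subgroupOf H)) (hcoh : Cfsg.IsCoherent (Cfsg.inducedIrrAbove K H₁) {1}ᶜ τ) (hbig : 4 * K.index ^ 2 + 1 < H₁.relIndex H) : Cfsg.IsCoherent (Cfsg.inducedIrrAbove K M) {1}ᶜ τ := by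
  classical
  set M' : Subgroup H := M.subgroupOf H with hM'
  let N : ℕ → Subgroup L := fun k => Nat.rec H₁ (fun _ X => ⁅X, H⁆ ⊔ M) k
  have hN0 : N 0 = H₁ := rfl
  have hNs : ∀ k, N (k + 1) = ⁅N k, H⁆ ⊔ M := fun k => rfl
  have hNn : ∀ k, (N k).Normal := by
    intro k
    induction k with
    | zero => rw [hN0]; infer_instance
    | succ k ih =>
      rw [hNs]
      haveI := ih
      haveI : (⁅N k, H⁆).Normal := @Subgroup.commutator_normal L _ (N k) H ih inferInstance
      exact @Subgroup.sup_normal L _ ⁅N k, H⁆ M this inferInstance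
  have hMN : ∀ k, M ≤ N k := by
    intro k
    cases k with
    | zero => exact hMH₁
    | succ k => rw [hNs]; exact le_sup_right
  have hNanti : ∀ k, N (k + 1) ≤ N k := by
    intro k
    rw [hNs]
    haveI := hNn k
    exact sup_le (@Subgroup.commutator_le_left L _ (N k) H (hNn k)) (hMN k)
  have hNH₁ : ∀ k, N k ≤ H₁ := by
    intro k
    induction k with
    | zero => exact le_rfl
    | succ k ih => exact (hNanti k).trans ih
  -- termination
  obtain ⟨c, hc⟩ := Subgroup.nilpotent_iff_lowerCentralSeries.mp hnil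
  have hlcs : ∀ k, N k ≤ ((Subgroup.lowerCentralSeries (⊤ : Subgroup (↥H ⧸ M')) k).comap
      (QuotientGroup.mk' M')).map H.subtype := by
    intro k
    induction k with
    | zero =>
      rw [hN0]
      intro x hx
      exact ⟨⟨x, hH₁H hx⟩, by simp, rfl⟩
    | succ k ih =>
      rw [hNs]
      apply sup_le
      · rw [Subgroup.commutator_le]
        intro g₁ hg₁ g₂ hg₂
        obtain ⟨y, hy, rfl⟩ := ih hg₁
        refine ⟨⁅y, ⟨g₂, hg₂⟩⁆, ?_, rfl⟩
        rw [SetLike.mem_coe, Subgroup.mem_comap, map_commutatorElement,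
          Subgroup.lowerCentralSeries_succ]
        exact Subgroup.commutator_mem_commutator (Subgroup.mem_comap.mp hy) (Subgroup.mem_top _)
      · intro x hx
        refine ⟨⟨x, hH₁H (hMH₁ hx)⟩, ?_, rfl⟩
        rw [SetLike.mem_coe, Subgroup.mem_comap]
        have h1 : QuotientGroup.mk' M' ⟨x, hH₁H (hMH₁ hx)⟩ = 1 := by
          rw [QuotientGroup.mk'_apply, QuotientGroup.eq_one_iff]
          exact Subgroup.mem_subgroupOf.mpr hx
        rw [h1]
        exact Subgroup.one_mem _
  have hNc : N c = M := by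
    apply le_antisymm _ (hMN c)
    intro x hx
    obtain ⟨y, hy, rfl⟩ := hlcs c hx
    rw [hc, SetLike.mem_coe, Subgroup.mem_comap, Subgroup.mem_bot, QuotientGroup.mk'_apply,
      QuotientGroup.eq_one_iff] at hy
    exact Subgroup.mem_subgroupOf.mp hy
  have hH₁K : H₁ < K := by
    refine lt_of_le_of_ne (hH₁H.trans hHK) (fun h => ?_)
    have h1 : H₁ = H := le_antisymm hH₁H (h ▸ hHK)
    rw [h1, Subgroup.relIndex_self] at hbig
    omega
  have hmain : ∀ k, Cfsg.IsCoherent (Cfsg.inducedIrrAbove K (N k)) {1}ᶜ τ := by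
    intro k
    induction k with
    | zero => exact hcoh
    | succ k ih =>
      haveI := hNn k
      haveI := hNn (k + 1)
      have hNkH : N k ≤ H := (hNH₁ k).trans hH₁H
      refine @Cfsg.Agent.S1519.result L _ _ G _ _ K hK hsolv τ R hS (N k) (N (k + 1)) H (N k)
        (hNn k) (hNn (k + 1)) inferInstance (hNn k)
        (lt_of_le_of_lt (hNH₁ k) hH₁K) (lt_of_le_of_lt (hNH₁ (k + 1)) hH₁K) (hNanti k) hNkH hHK
        ?_ ih ?_
      · intro x hx y hy
        rw [hNs]
        exact Subgroup.mem_sup_left (Subgroup.commutator_mem_commutator hx hy)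
      · have h1 : H.relIndex K * K.index = H.index := Subgroup.relIndex_mul_index hHK
        have h2 : (N k).relIndex H * H.relIndex K = (N k).relIndex K :=
          Subgroup.relIndex_mul_relIndex (N k) H K hNkH hHK
        have h3 : H₁.relIndex H ∣ (N k).relIndex H := Subgroup.relIndex_dvd_of_le_left H (hNH₁ k)
        have hb0 : (N k).relIndex H ≠ 0 := by
          haveI : Finite (↥H ⧸ (N k).subgroupOf H) :=
            Finite.of_surjective _ (QuotientGroup.mk_surjective (s := (N k).subgroupOf H))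
          exact Subgroup.index_ne_zero_of_finite
        have ha0 : H.relIndex K ≠ 0 := Subgroup.index_ne_zero_of_finite
        have hb : 4 * K.index ^ 2 + 1 < (N k).relIndex H :=
          lt_of_lt_of_le hbig (Nat.le_of_dvd (Nat.pos_of_ne_zero hb0) h3)
        rw [← h1, ← h2]
        exact arith _ _ _ (Nat.one_le_iff_ne_zero.mpr ha0) hb
  rw [← hNc]
  exact hmain c

end Cfsg.Agent.S1520
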