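import Mathlib
import Cfsg.Statements.S1521
import Mathlib
import Cfsg.Agent.Lib.Helper25.PF65b
import Cfsg.Agent.Lib.Helper25.IndNorm
import Cfsg.Agent.S1520

set_option autoImplicit false
open Cfsg

namespace Cfsg.Agent.S1521

open Cfsg.Agent.Lib.Helper25 Cfsg.Agent.Lib.Helper26 Cfsg.Agent.Lib.Helper80
open scoped commutatorElement Pointwise


/-- Let K be a solvable normal subgroup of the finite group L of odd order and (S, τ, R) a coherence system from L to G with S the functions induced from non-principal irreducible characters of K; S(A) as before. Let M ≤ K be normal in L with K/M nilpotent, H₁ = [K, K] ⊔ M, H₁ < K < L, and suppose every element of K outside H₁ is centralised modulo H₁ only from inside K (L/H₁ is a Frobenius group with kernel K/H₁). Suppose one of the following: some normal subgroup of L lies strictly between H₁ and K; or [K:H₁] > 4[L:K]^2 + 1; or [K:M] is not a prime power; or [K,K] ≤ M; or [K:M] is a power of a prime p with [L:K] dividing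 p − 1. Then S(M) is coherent. -/
theorem result {L : Type*} [Group L] [Fintype L] {G : Type*} [Group G] [Fintype G] (K : Subgroup L) [hK : K.Normal] (hsolv : Group.IsSolvable K) (τ : (L → ℂ) → (G → ℂ)) (R : (L → ℂ) → Finset (G → ℂ)) (hS : Cfsg.IsCoherenceSystem (Cfsg.inducedIrrAbove K ⊥) τ R) (hodd : Odd (Nat.card L)) (M : Subgroup L) [M.Normal] (hMK : M ≤ K) [(M.subgroupOf K).Normal] (hnil : Group.IsNilpotent (↥K ⧸ M.subgroupOf K)) (H₁ : Subgroup L) (hH₁ : H₁ = ⁅K, K⁆ ⊔ M) (hH₁K : H₁ < K) (hKL : K < ⊤) (hfrob : ∀ k ∈ K, k ∉ H₁ → ∀ x : L, x * k * x⁻¹ * k⁻¹ ∈ H₁ → x ∈ K) (hgood : (∃ N : Subgroup L, N.Normal ∧ H₁ < N ∧ N < K) ∨ 4 * K.index ^ 2 + 1 < H₁.relIndex K ∨ (¬ ∃ p m : ℕ, p.Prime ∧ M.relIndex K = p ^ m) ∨ ⁅K, K⁆ ≤ M ∨ (∃ p m : ℕ, p.Prime ∧ M.relIndex K = p ^ m ∧ K.index ∣ p - 1)) : Cfsg.IsCoherent (Cfsg.inducedIrrAbove K M) {1}ᶜ τ := by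
  classical
  haveI : Finite (Cfsg.IrrCharacter K) := Cfsg.Agent.Lib.Helper26.irr_finite
  haveI hcomm_n : (⁅K, K⁆).Normal := @Subgroup.commutator_normal L _ K K hK hK
  have hH₁n : H₁.Normal := by
    rw [hH₁]
    exact @Subgroup.sup_normal L _ ⁅K, K⁆ M hcomm_n inferInstance
  haveI := hH₁n
  have hMH₁ : M ≤ H₁ := by
    rw [hH₁]
    exact le_sup_right
  have hKK : ⁅K, K⁆ ≤ H₁ := by
    rw [hH₁]
    exact le_sup_left
  have hcohH₁ : Cfsg.IsCoherent (Cfsg.inducedIrrAbove K H₁) {1}ᶜ τ :=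
    coherent_above_commutator K hsolv hS H₁ hKK hH₁K
  have hcase1 : 4 * K.index ^ 2 + 1 < H₁.relIndex K →
      Cfsg.IsCoherent (Cfsg.inducedIrrAbove K M) {1}ᶜ τ :=
    fun hbig => Cfsg.Agent.S1520.result K hsolv τ R hS M H₁ K hMH₁ hH₁K.le le_rfl hnil hcohH₁ hbig
  have hcase3 : (∃ N : Subgroup L, N.Normal ∧ H₁ < N ∧ N < K) →
      Cfsg.IsCoherent (Cfsg.inducedIrrAbove K M) {1}ᶜ τ := by
    rintro ⟨N, hN, h1, h2⟩
    haveI := hN
    exact hcase1 (big_of_between K H₁ hodd hKK hH₁K.le hfrob N h1 h2)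
  rcases hgood with h | h | h | h | h
  · exact hcase3 h
  · exact hcase1 h
  · obtain ⟨p, q, hp, hq, hpq, hpd, hqd⟩ := two_primes K H₁ M hMK hnil hH₁ h
    exact hcase3 (between_of_two_primes K H₁ hKK hH₁K.le hp hq hpq hpd hqd)
  · have h1 : H₁ = M := by
      rw [hH₁]
      exact sup_eq_right.mpr h
    rw [← h1]
    exact hcohH₁
  · obtain ⟨p, m, hp, hidx, hdiv⟩ := h
    set S : Set (L → ℂ) := Cfsg.inducedIrrAbove K ⊥ with hSdef
    have hdn : ∀ φ : L → ℂ, φ ∈ S → ∃ k m : ℕ, φ 1 = (k : ℂ) ∧ Cfsg.classInner φ φ = (m : ℂ) := by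
      intro φ hφ
      have hc := hS.isCharacter φ hφ
      obtain ⟨k, hk⟩ := char_degree hc
      obtain ⟨m, hm⟩ := pair_char_nat hc hc
      exact ⟨k, m, hk, by rw [classInner_eq_pair _ hc]; exact hm⟩
    choose! d n hdn using hdn
    have hd : ∀ φ ∈ S, φ 1 = (d φ : ℂ) := fun φ hφ => (hdn φ hφ).1
    have hn : ∀ φ ∈ S, Cfsg.classInner φ φ = (n φ : ℂ) := fun φ hφ => (hdn φ hφ).2
    have hfU := above_finite K M
    have hfT := above_finite K H₁
    set U : Finset (L → ℂ) := hfU.toFinset with hUdef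
    set T₀ : Finset (L → ℂ) := hfT.toFinset with hT₀def
    have hUS : (↑U : Set (L → ℂ)) ⊆ S := fun φ hφ =>
      above_subset_bot K M (hfU.mem_toFinset.mp (Finset.mem_coe.mp hφ))
    have hUc : ∀ φ ∈ U, Cfsg.conjFun φ ∈ U := fun φ hφ =>
      hfU.mem_toFinset.mpr (conj_mem_above K M (hfU.mem_toFinset.mp hφ))
    have hT₀U : T₀ ⊆ U := fun φ hφ =>
      hfU.mem_toFinset.mpr (above_anti K hMH₁ (hfT.mem_toFinset.mp hφ))
    have hT₀c : ∀ φ ∈ T₀, Cfsg.conjFun φ ∈ T₀ := fun φ hφ =>
      hfT.mem_toFinset.mpr (conj_mem_above K H₁ (hfT.mem_toFinset.mp hφ))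
    have hT₀coh : Cfsg.IsCoherent (↑T₀ : Set (L → ℂ)) {1}ᶜ τ := by
      rw [hT₀def, Set.Finite.coe_toFinset]
      exact hcohH₁
    obtain ⟨θ₁, hθ₁, hθ₁ne, hθ₁1, hθ₁ker⟩ := exists_linear_above K hsolv H₁ hH₁K
    set χ₁ : L → ℂ := Cfsg.indFun K θ₁ with hχ₁
    have hχ₁H : χ₁ ∈ Cfsg.inducedIrrAbove K H₁ := ⟨θ₁, hθ₁, hθ₁ne, hθ₁ker, rfl⟩
    have hχ₁d : d χ₁ = K.index := by
      have h1 := hd χ₁ (above_subset_bot K H₁ hχ₁H)
      rw [hχ₁, indFun_apply_one, hθ₁1, mul_one] at h1
      exact_mod_cast h1.symm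
    have he : 0 < K.index := Nat.pos_of_ne_zero (Subgroup.index_ne_zero_of_finite)
    have hm0 : m ≠ 0 := by
      rintro rfl
      rw [pow_zero] at hidx
      exact not_le_of_gt hH₁K ((Subgroup.relIndex_eq_one.mp hidx).trans hMH₁)
    have hpL : p ∣ Nat.card L := by
      have h1 : p ∣ M.relIndex K := by
        rw [hidx]
        exact dvd_pow_self p hm0
      exact dvd_trans h1 (dvd_trans (Subgroup.relIndex_dvd_card M K)
        (Subgroup.card_subgroup_dvd_card K))
    have hpodd : Odd p := Odd.of_dvd_nat hodd hpL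
    have heodd : Odd K.index := Odd.of_dvd_nat hodd (Subgroup.index_dvd_card K)
    have h2e : 2 * K.index ≤ p - 1 := by
      obtain ⟨t, ht⟩ := hdiv
      obtain ⟨u, hu⟩ := hpodd
      have ht0 : t ≠ 0 := by
        rintro rfl
        have := hp.two_le
        omega
      have hteven : Even t := by
        by_contra hto
        rw [Nat.not_even_iff_odd] at hto
        have h5 : Odd (K.index * t) := Odd.mul heodd hto
        rw [← ht] at h5
        obtain ⟨w, hw⟩ := h5
        omega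
      obtain ⟨w, hw⟩ := hteven
      have h2t : 2 ≤ t := by omega
      calc 2 * K.index = K.index * 2 := by ring
        _ ≤ K.index * t := Nat.mul_le_mul_left _ h2t
        _ = p - 1 := ht.symm
    have hdeg : ∀ θ' : ↥K → ℂ, Cfsg.IsIrrCharacter ↥K θ' → Cfsg.indFun K θ' ∈ S →
        d (Cfsg.indFun K θ') = K.index * Cfsg.charDegree θ' := by
      intro θ' hθ' hmem
      have h1 := hd _ hmem
      rw [indFun_apply_one, char_one_eq_charDegree (isCharacter_of_isIrrCharacter hθ')] at h1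
      exact_mod_cast h1.symm
    have hidx' : (M.subgroupOf K).index = p ^ m := hidx
    have hUcoh : Cfsg.IsCoherent (↑U : Set (L → ℂ)) {1}ᶜ τ := by
      apply coherent_of_step hS d n hd hn U T₀ hUS hUc hT₀U hT₀c hT₀coh
      intro T hT₀T hTU hTc hTcoh hTne
      have hne : (U \ T).Nonempty := by
        rw [Finset.nonempty_iff_ne_empty]
        intro h
        exact hTne (Finset.Subset.antisymm hTU (Finset.sdiff_eq_empty_iff_subset.mp h))
      obtain ⟨ψ, hψmem, hψmin⟩ := Finset.exists_min_image (U \ T) d hne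
      obtain ⟨hψU, hψT⟩ := Finset.mem_sdiff.mp hψmem
      have hψM : ψ ∈ Cfsg.inducedIrrAbove K M := hfU.mem_toFinset.mp hψU
      obtain ⟨θ, hθ, hθne, hθker, hψeq⟩ := hψM
      have hθM' : ∀ x ∈ M.subgroupOf K, θ x = θ 1 :=
        fun x hx => hθker x (Subgroup.mem_subgroupOf.mp hx)
      obtain ⟨k, hk⟩ : ∃ k, Cfsg.charDegree θ = p ^ k := by
        obtain ⟨ψ', hψ', hψθ⟩ := exists_isIrrCharacter_deflate (M.subgroupOf K) hθ hθM'
        have h1 : Cfsg.charDegree ψ' ∣ Nat.card (↥K ⧸ M.subgroupOf K) := charDegree_dvd_card hψ'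
        have h2 : Cfsg.charDegree ψ' = Cfsg.charDegree θ := by
          have h3 := hψθ 1
          rw [QuotientGroup.mk_one, char_one_eq_charDegree (isCharacter_of_isIrrCharacter hψ'),
            char_one_eq_charDegree (isCharacter_of_isIrrCharacter hθ)] at h3
          exact_mod_cast h3
        rw [h2, ← Subgroup.index_eq_card, hidx'] at h1
        obtain ⟨j, -, hj⟩ := (Nat.dvd_prime_pow hp).mp h1
        exact ⟨j, hj⟩
      have hk1 : 1 ≤ k := by
        by_contra hk0
        have hk0' : k = 0 := by omega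
        rw [hk0', pow_zero] at hk
        have hθ1 : θ 1 = 1 := by
          rw [char_one_eq_charDegree (isCharacter_of_isIrrCharacter hθ), hk]
          simp
        apply hψT
        apply hT₀T
        apply hfT.mem_toFinset.mpr
        refine ⟨θ, hθ, hθne, ?_, hψeq⟩
        intro a ha
        rw [hH₁] at ha
        have hmem : (a : L) ∈ ((⁅K, K⁆ : Subgroup L) : Set L) * (M : Set L) := by
          rw [← Subgroup.mul_normal]
          exact ha
        obtain ⟨c, hc, m', hm', hcm⟩ := Set.mem_mul.mp hmem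
        have hcK : c ∈ K := (Subgroup.commutator_le_left K K) hc
        have hmK : m' ∈ K := hMK hm'
        have ha' : a = ⟨c, hcK⟩ * ⟨m', hmK⟩ := Subtype.ext hcm.symm
        rw [ha', Cfsg.Agent.Lib.Helper79.linear_irr_mul hθ hθ1, hθ1]
        have h1 : θ ⟨c, hcK⟩ = 1 := by
          apply Cfsg.Agent.Lib.Helper79.linear_irr_commutator hθ hθ1
          have h2 : (commutator ↥K).map K.subtype = ⁅K, K⁆ := Subgroup.map_subtype_commutator K
          have hc2 : c ∈ (commutator ↥K).map K.subtype := by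
            rw [h2]
            exact hc
          obtain ⟨c', hc', hcc⟩ := hc2
          have h3 : c' = ⟨c, hcK⟩ := Subtype.ext hcc
          rw [← h3]
          exact hc'
        have h2 : θ ⟨m', hmK⟩ = 1 := by
          rw [hθker _ hm', hθ1]
        rw [h1, h2, mul_one]
      have hψS : Cfsg.indFun K θ ∈ S := hψeq ▸ hUS (Finset.mem_coe.mpr hψU)
      have hdψ : d ψ = K.index * p ^ k := by
        rw [hψeq, hdeg θ hθ hψS, hk]
      refine ⟨ψ, hψU, hψT, χ₁, hT₀T (hfT.mem_toFinset.mpr hχ₁H), ?_, ?_⟩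
      · rw [hχ₁d, hdψ]
        exact dvd_mul_right _ _
      · haveI : Fintype (Cfsg.IrrCharacter K) := Fintype.ofFinite _
        let P : Cfsg.IrrCharacter K → Prop := fun χ => (χ : ↥K → ℂ) ≠ (fun _ => 1) ∧
          (∀ x ∈ M.subgroupOf K, (χ : ↥K → ℂ) x = (χ : ↥K → ℂ) 1) ∧
          Cfsg.charDegree (χ : ↥K → ℂ) < p ^ k
        have hcount := sum_small_degree_ge (M.subgroupOf K) hp hidx' ⟨θ, hθ⟩ hθM' hk hk1 P
          (fun χ => Iff.rfl)
        have hPinv : ∀ θ' : Cfsg.IrrCharacter K, P θ' →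
            ∀ x : L, P ⟨cj K (θ' : ↥K → ℂ) x, cj_irr K θ'.2 x⟩ := by
          rintro θ' ⟨h1, h2, h3⟩ x
          refine ⟨?_, ?_, ?_⟩
          · intro h
            apply h1
            funext y
            have hy : x⁻¹ * (y : L) * x ∈ K := by simpa using hK.conj_mem y y.2 x⁻¹
            have h4 := congrFun h ⟨x⁻¹ * (y : L) * x, hy⟩
            have h5 : cj K (θ' : ↥K → ℂ) x ⟨x⁻¹ * (y : L) * x, hy⟩ = (θ' : ↥K → ℂ) y := by
              unfold cj
              refine congrArg (θ' : ↥K → ℂ) (Subtype.ext ?_)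
              show x * (x⁻¹ * (y : L) * x) * x⁻¹ = (y : L)
              group
            exact h5.symm.trans h4
          · intro y hy
            show cj K (θ' : ↥K → ℂ) x y = cj K (θ' : ↥K → ℂ) x 1
            rw [cj_apply_one]
            exact h2 _ (Subgroup.mem_subgroupOf.mpr (by
              simpa using (inferInstance : M.Normal).conj_mem _ (Subgroup.mem_subgroupOf.mp hy) x))
          · have h4 : Cfsg.charDegree (cj K (θ' : ↥K → ℂ) x) = Cfsg.charDegree (θ' : ↥K → ℂ) := by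
              have e1 := char_one_eq_charDegree (isCharacter_of_isIrrCharacter (cj_irr K θ'.2 x))
              have e2 := char_one_eq_charDegree (isCharacter_of_isIrrCharacter θ'.2)
              rw [cj_apply_one, e2] at e1
              exact_mod_cast e1.symm
            show Cfsg.charDegree (cj K (θ' : ↥K → ℂ) x) < p ^ k
            rw [h4]
            exact h3
        have hPT : ∀ θ' : Cfsg.IrrCharacter K, P θ' → Cfsg.indFun K (θ' : ↥K → ℂ) ∈ T := by
          rintro θ' ⟨h1, h2, h3⟩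
          have hU' : Cfsg.indFun K (θ' : ↥K → ℂ) ∈ U :=
            hfU.mem_toFinset.mpr ⟨θ', θ'.2, h1,
              fun a ha => h2 a (Subgroup.mem_subgroupOf.mpr ha), rfl⟩
          by_contra hT'
          have h4 := hψmin _ (Finset.mem_sdiff.mpr ⟨hU', hT'⟩)
          rw [hdψ, hdeg _ θ'.2 (hUS (Finset.mem_coe.mpr hU'))] at h4
          have h5 := Nat.le_of_mul_le_mul_left h4 he
          omega
        have hsum := sum_sq_div_norm_ge K P hPinv T hPT d n
          (fun φ hφ => hd φ (hUS (Finset.mem_coe.mpr (hTU hφ))))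
          (fun φ hφ => hn φ (hUS (Finset.mem_coe.mpr (hTU hφ))))
        have harith : 2 * K.index * p ^ k < p ^ (2 * k) - 1 := by
          have h1 : 2 * K.index * p ^ k ≤ (p - 1) * p ^ k := Nat.mul_le_mul_right _ h2e
          have h2 : (p - 1) * p ^ k + p ^ k = p ^ (k + 1) := by
            obtain ⟨p', rfl⟩ : ∃ p', p = p' + 1 := ⟨p - 1, by have := hp.two_le; omega⟩
            simp only [Nat.add_sub_cancel]
            ring
          have h3 : p ^ (k + 1) ≤ p ^ (2 * k) := Nat.pow_le_pow_right hp.pos (by omega)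
          have h4 : 1 < p ^ k := Nat.one_lt_pow (by omega) hp.one_lt
          omega
        rw [hχ₁d, hdψ]
        have hcount' : ((p ^ (2 * k) - 1 : ℕ) : ℝ) ≤
            ∑ θ ∈ Finset.univ.filter P, (Cfsg.charDegree (θ : ↥K → ℂ) : ℝ) ^ 2 := by
          exact_mod_cast hcount
        have he' : (0 : ℝ) < (K.index : ℝ) := by exact_mod_cast he
        calc (2 * ((K.index * p ^ k : ℕ) : ℝ) * (K.index : ℝ))
            = (K.index : ℝ) * ((2 * K.index * p ^ k : ℕ) : ℝ) := by push_cast; ring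
          _ < (K.index : ℝ) * ((p ^ (2 * k) - 1 : ℕ) : ℝ) :=
              mul_lt_mul_of_pos_left (by exact_mod_cast harith) he'
          _ ≤ (K.index : ℝ) *
              ∑ θ ∈ Finset.univ.filter P, (Cfsg.charDegree (θ : ↥K → ℂ) : ℝ) ^ 2 :=
              mul_le_mul_of_nonneg_left hcount' he'.le
          _ ≤ _ := hsum
    rw [hUdef, Set.Finite.coe_toFinset] at hUcoh
    exact hUcoh

end Cfsg.Agent.S1521
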