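import Mathlib
import Cfsg.Statements.S1531
import Cfsg.Agent.Lib.Helper26.Coh
import Cfsg.Agent.S1529

set_option autoImplicit false
open Cfsg

namespace Cfsg.Agent.S1531

open Cfsg.Agent.Lib.Helper26
open scoped ComplexConjugate

theorem part1 {G : Type*} [Group G] [Fintype G] (N : Subgroup G) [Fintype N]
    (S X Y : Set (N → ℂ)) (hirr : ∀ ξ ∈ S, Cfsg.IsIrrCharacter N ξ) (hXS : X ⊆ S) (hYS : Y ⊆ S)
    (hXY : Disjoint X Y) (hX2 : ∃ a ∈ X, ∃ b ∈ X, a ≠ b) (hY2 : ∃ a ∈ Y, ∃ b ∈ Y, a ≠ b)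
    (α : (N → ℂ) → (G → ℂ)) (hα : Cfsg.IsLinearIsometryOn (Cfsg.zspanOn S {1}ᶜ) α)
    (hα1 : ∀ θ ∈ Cfsg.zspanOn S {1}ᶜ, α θ 1 = 0) (σ τ : (N → ℂ) → (G → ℂ))
    (hσ : Cfsg.IsLinearIsometryOn (Cfsg.zspan X) σ)
    (hσα : ∀ θ ∈ Cfsg.zspanOn X {1}ᶜ, σ θ = α θ)
    (hτ : Cfsg.IsLinearIsometryOn (Cfsg.zspan Y) τ)
    (hτα : ∀ θ ∈ Cfsg.zspanOn Y {1}ᶜ, τ θ = α θ) :
    ∀ χ ∈ X, ∀ η ∈ Y, Cfsg.classInner (σ χ) (τ η) = 0 := by
  classical
  have : Fintype (IrrCharacter G) := Fintype.ofFinite _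
  have hσ' : IsLinearIsometryOn
      ((Submodule.span ℤ X : Submodule ℤ (N → ℂ)) : Set (N → ℂ)) σ := hσ
  have hτ' : IsLinearIsometryOn
      ((Submodule.span ℤ Y : Submodule ℤ (N → ℂ)) : Set (N → ℂ)) τ := hτ
  have hα' : IsLinearIsometryOn
      ((zspanOnSub S {1}ᶜ : Submodule ℤ (N → ℂ)) : Set (N → ℂ)) α := hα
  have h0X : ∀ θ ∈ zspan X, θ 1 = 0 → σ θ 1 = 0 := by
    intro θ hθ h1
    have hm : θ ∈ zspanOn X {1}ᶜ := mem_zspanOn_one.mpr ⟨hθ, h1⟩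
    rw [hσα θ hm]
    exact hα1 θ (zspanOn_mono hXS _ hm)
  have h0Y : ∀ θ ∈ zspan Y, θ 1 = 0 → τ θ 1 = 0 := by
    intro θ hθ h1
    have hm : θ ∈ zspanOn Y {1}ᶜ := mem_zspanOn_one.mpr ⟨hθ, h1⟩
    rw [hτα θ hm]
    exact hα1 θ (zspanOn_mono hYS _ hm)
  obtain ⟨εX, hεX, hXirr, hXinj⟩ := Cfsg.Agent.S1529.result N X
    (fun ξ hξ => hirr ξ (hXS hξ)) hX2 σ hσ h0X
  obtain ⟨εY, hεY, hYirr, hYinj⟩ := Cfsg.Agent.S1529.result N Y
    (fun ξ hξ => hirr ξ (hYS hξ)) hY2 τ hτ h0Y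
  have hεX0 : εX ≠ 0 := by rcases hεX with h | h <;> simp [h]
  have hεY0 : εY ≠ 0 := by rcases hεY with h | h <;> simp [h]
  have hεYc : conj εY = εY := by rcases hεY with h | h <;> simp [h]
  have hsq : εX * εX = 1 := by rcases hεX with h | h <;> simp [h]
  have hsqY : εY * εY = 1 := by rcases hεY with h | h <;> simp [h]
  have key : ∀ u ∈ X, ∀ w ∈ Y, classInner (σ u) (τ w) =
      if εX • σ u = εY • τ w then εX * εY else 0 := by
    intro u hu w hw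
    have h1 := classInner_irr (hXirr u hu) (hYirr w hw)
    rw [classInner_smul_left, classInner_smul_right, hεYc] at h1
    split_ifs with h
    · rw [if_pos h] at h1
      linear_combination (εX * εY) * h1 - classInner (σ u) (τ w) * εY * εY * hsq
        - classInner (σ u) (τ w) * hsqY
    · rw [if_neg h] at h1
      linear_combination (εX * εY) * h1 - classInner (σ u) (τ w) * εY * εY * hsq
        - classInner (σ u) (τ w) * hsqY
  intro χ hχ η hη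
  by_contra hne
  obtain ⟨χ', hχ', hχχ'⟩ : ∃ χ' ∈ X, χ' ≠ χ := by
    obtain ⟨a, ha, b, hb, hab⟩ := hX2
    by_cases h : a = χ
    · exact ⟨b, hb, fun hbχ => hab (h.trans hbχ.symm)⟩
    · exact ⟨a, ha, h⟩
  obtain ⟨η', hη', hηη'⟩ : ∃ η' ∈ Y, η' ≠ η := by
    obtain ⟨a, ha, b, hb, hab⟩ := hY2
    by_cases h : a = η
    · exact ⟨b, hb, fun hbη => hab (h.trans hbη.symm)⟩
    · exact ⟨a, ha, h⟩
  have hk := key χ hχ η hη
  have heq : εX • σ χ = εY • τ η := by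
    by_contra h
    rw [if_neg h] at hk
    exact hne hk
  rw [if_pos heq] at hk
  have h1 : classInner (σ χ) (τ η') = 0 := by
    rw [key χ hχ η' hη', if_neg]
    intro h
    have h2 : εY • τ η = εY • τ η' := heq.symm.trans h
    have h3 : τ η = τ η' := smul_right_injective _ hεY0 h2
    exact hηη' (hYinj η hη η' hη' h3).symm
  have h2 : classInner (σ χ') (τ η) = 0 := by
    rw [key χ' hχ' η hη, if_neg]
    intro h
    have h2 : εX • σ χ' = εX • σ χ := h.trans heq.symm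
    have h3 : σ χ' = σ χ := smul_right_injective _ hεX0 h2
    exact hχχ' (hXinj χ' hχ' χ hχ h3)
  have h3 : classInner (σ χ') (τ η') = 0 ∨ classInner (σ χ') (τ η') = εX * εY := by
    rw [key χ' hχ' η' hη']
    split_ifs
    · right; rfl
    · left; rfl
  have hχi := hirr χ (hXS hχ)
  have hχ'i := hirr χ' (hXS hχ')
  have hηi := hirr η (hYS hη)
  have hη'i := hirr η' (hYS hη')
  have hXm : ∀ u ∈ X, u ∈ Submodule.span ℤ X := fun u hu => Submodule.subset_span hu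
  have hYm : ∀ u ∈ Y, u ∈ Submodule.span ℤ Y := fun u hu => Submodule.subset_span hu
  have haX : ((deg χ' : ℤ) • χ - (deg χ : ℤ) • χ') ∈ zspanOn X {1}ᶜ := by
    refine mem_zspanOn_one.mpr ⟨Submodule.sub_mem _ (Submodule.smul_mem _ _ (hXm χ hχ))
      (Submodule.smul_mem _ _ (hXm χ' hχ')), ?_⟩
    simp only [Pi.sub_apply, zsmul_apply', deg_eq hχi, deg_eq hχ'i]
    push_cast; ring
  have hbY : ((deg η' : ℤ) • η - (deg η : ℤ) • η') ∈ zspanOn Y {1}ᶜ := by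
    refine mem_zspanOn_one.mpr ⟨Submodule.sub_mem _ (Submodule.smul_mem _ _ (hYm η hη))
      (Submodule.smul_mem _ _ (hYm η' hη')), ?_⟩
    simp only [Pi.sub_apply, zsmul_apply', deg_eq hηi, deg_eq hη'i]
    push_cast; ring
  have hdis : ∀ u ∈ X, ∀ w ∈ Y, u ≠ w := by
    intro u hu w hw huw
    exact Set.disjoint_left.mp hXY hu (huw ▸ hw)
  have hab : classInner (α ((deg χ' : ℤ) • χ - (deg χ : ℤ) • χ'))
      (α ((deg η' : ℤ) • η - (deg η : ℤ) • η')) = 0 := by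
    rw [lin_inner hα' (zspanOn_mono hXS _ haX) (zspanOn_mono hYS _ hbY)]
    simp only [classInner_sub_left, classInner_sub_right, classInner_zsmul_left,
      classInner_zsmul_right]
    rw [classInner_irr_ne hχi hηi (hdis χ hχ η hη), classInner_irr_ne hχi hη'i (hdis χ hχ η' hη'),
      classInner_irr_ne hχ'i hηi (hdis χ' hχ' η hη),
      classInner_irr_ne hχ'i hη'i (hdis χ' hχ' η' hη')]
    ring
  rw [← hσα _ haX, ← hτα _ hbY] at hab
  rw [lin_sub hσ' (Submodule.smul_mem _ _ (hXm χ hχ)) (Submodule.smul_mem _ _ (hXm χ' hχ')),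
    lin_zsmul hσ' (hXm χ hχ), lin_zsmul hσ' (hXm χ' hχ'),
    lin_sub hτ' (Submodule.smul_mem _ _ (hYm η hη)) (Submodule.smul_mem _ _ (hYm η' hη')),
    lin_zsmul hτ' (hYm η hη), lin_zsmul hτ' (hYm η' hη')] at hab
  simp only [classInner_sub_left, classInner_sub_right, classInner_zsmul_left,
    classInner_zsmul_right, hk, h1, h2] at hab
  have hpos1 : 0 < deg χ' * deg η' := Nat.mul_pos (deg_pos hχ'i) (deg_pos hη'i)
  rcases h3 with h3 | h3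
  · rw [h3] at hab
    have h4 : ((deg χ' * deg η' : ℕ) : ℂ) = 0 := by
      push_cast
      push_cast at hab
      linear_combination (εX * εY) * hab - (deg χ' : ℂ) * (deg η' : ℂ) * εY * εY * hsq
        - (deg χ' : ℂ) * (deg η' : ℂ) * hsqY
    have h5 : deg χ' * deg η' = 0 := by exact_mod_cast h4
    omega
  · rw [h3] at hab
    have h4 : ((deg χ' * deg η' + deg χ * deg η : ℕ) : ℂ) = 0 := by
      push_cast
      push_cast at hab
      linear_combination (εX * εY) * hab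
        - ((deg χ' : ℂ) * (deg η' : ℂ) + (deg χ : ℂ) * (deg η : ℂ)) * εY * εY * hsq
        - ((deg χ' : ℂ) * (deg η' : ℂ) + (deg χ : ℂ) * (deg η : ℂ)) * hsqY
    have h5 : deg χ' * deg η' + deg χ * deg η = 0 := by exact_mod_cast h4
    omega

theorem part2 {G : Type*} [Group G] [Fintype G] (N : Subgroup G) [Fintype N]
    (S X Y : Set (N → ℂ)) (hirr : ∀ ξ ∈ S, Cfsg.IsIrrCharacter N ξ) (hXS : X ⊆ S) (hYS : Y ⊆ S)
    (hXY : Disjoint X Y) (hX2 : ∃ a ∈ X, ∃ b ∈ X, a ≠ b)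
    (α : (N → ℂ) → (G → ℂ)) (hα : Cfsg.IsLinearIsometryOn (Cfsg.zspanOn S {1}ᶜ) α)
    (σ τ : (N → ℂ) → (G → ℂ))
    (hσ : Cfsg.IsLinearIsometryOn (Cfsg.zspan X) σ)
    (hσα : ∀ θ ∈ Cfsg.zspanOn X {1}ᶜ, σ θ = α θ)
    (hτ : Cfsg.IsLinearIsometryOn (Cfsg.zspan Y) τ)
    (hτα : ∀ θ ∈ Cfsg.zspanOn Y {1}ᶜ, τ θ = α θ)
    (h1 : ∀ χ ∈ X, ∀ η ∈ Y, Cfsg.classInner (σ χ) (τ η) = 0)
    (χ₀ : N → ℂ) (hχ₀ : χ₀ ∈ X) (η₀ : N → ℂ) (hη₀ : η₀ ∈ Y)
    (hδ : α (χ₀ 1 • η₀ - η₀ 1 • χ₀) = χ₀ 1 • τ η₀ - η₀ 1 • σ χ₀) :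
    Cfsg.IsCoherent (X ∪ Y) {1}ᶜ α := by
  classical
  have hσ' : IsLinearIsometryOn
      ((Submodule.span ℤ X : Submodule ℤ (N → ℂ)) : Set (N → ℂ)) σ := hσ
  have hτ' : IsLinearIsometryOn
      ((Submodule.span ℤ Y : Submodule ℤ (N → ℂ)) : Set (N → ℂ)) τ := hτ
  have hα' : IsLinearIsometryOn
      ((zspanOnSub S {1}ᶜ : Submodule ℤ (N → ℂ)) : Set (N → ℂ)) α := hα
  have hXfin : X.Finite := finite_of_irr (fun ξ hξ => hirr ξ (hXS hξ))
  have hYfin : Y.Finite := finite_of_irr (fun ξ hξ => hirr ξ (hYS hξ))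
  obtain ⟨FX, hFX⟩ : ∃ FX : Finset (N → ℂ), ∀ a, a ∈ FX ↔ a ∈ X :=
    ⟨hXfin.toFinset, fun a => Set.Finite.mem_toFinset hXfin⟩
  obtain ⟨FY, hFY⟩ : ∃ FY : Finset (N → ℂ), ∀ a, a ∈ FY ↔ a ∈ Y :=
    ⟨hYfin.toFinset, fun a => Set.Finite.mem_toFinset hYfin⟩
  have hF : (↑(FX ∪ FY) : Set (N → ℂ)) = X ∪ Y := by
    ext a; simp [hFX, hFY]
  have hXi : ∀ a ∈ X, IsIrrCharacter N a := fun a ha => hirr a (hXS ha)
  have hYi : ∀ a ∈ Y, IsIrrCharacter N a := fun a ha => hirr a (hYS ha)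
  have hXm : ∀ u ∈ X, u ∈ Submodule.span ℤ X := fun u hu => Submodule.subset_span hu
  have hYm : ∀ u ∈ Y, u ∈ Submodule.span ℤ Y := fun u hu => Submodule.subset_span hu
  have hdis : ∀ u ∈ X, ∀ w ∈ Y, u ≠ w := by
    intro u hu w hw huw
    exact Set.disjoint_left.mp hXY hu (huw ▸ hw)
  have hFirr : ∀ a ∈ FX ∪ FY, IsIrrCharacter N a := by
    intro a ha
    rcases Finset.mem_union.mp ha with h | h
    · exact hXi a ((hFX a).mp h)
    · exact hYi a ((hFY a).mp h)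
  have horth : ∀ χ ∈ FX ∪ FY, ∀ ψ ∈ FX ∪ FY, χ ≠ ψ → classInner χ ψ = 0 :=
    fun χ hχ ψ hψ hne => classInner_irr_ne (hFirr χ hχ) (hFirr ψ hψ) hne
  have hnorm : ∀ χ ∈ FX ∪ FY, classInner χ χ ≠ 0 := by
    intro χ hχ
    rw [classInner_irr_self (hFirr χ hχ)]
    exact one_ne_zero
  obtain ⟨T, hTX, hTY⟩ : ∃ T : (N → ℂ) → (G → ℂ), (∀ a ∈ X, T a = σ a) ∧ (∀ a ∈ Y, T a = τ a) :=
    ⟨fun a => if a ∈ X then σ a else τ a, fun a ha => if_pos ha,
      fun a ha => if_neg (fun hx => Set.disjoint_left.mp hXY hx ha)⟩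
  have hT : ∀ χ ∈ FX ∪ FY, ∀ ψ ∈ FX ∪ FY, classInner (T χ) (T ψ) = classInner χ ψ := by
    intro χ hχ ψ hψ
    rcases Finset.mem_union.mp hχ with hc | hc <;> rcases Finset.mem_union.mp hψ with hp | hp
    · have hc' := (hFX χ).mp hc
      have hp' := (hFX ψ).mp hp
      rw [hTX χ hc', hTX ψ hp']
      exact lin_inner hσ' (hXm χ hc') (hXm ψ hp')
    · have hc' := (hFX χ).mp hc
      have hp' := (hFY ψ).mp hp
      rw [hTX χ hc', hTY ψ hp', h1 χ hc' ψ hp',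
        classInner_irr_ne (hXi χ hc') (hYi ψ hp') (hdis χ hc' ψ hp')]
    · have hc' := (hFY χ).mp hc
      have hp' := (hFX ψ).mp hp
      rw [hTY χ hc', hTX ψ hp', ← classInner_conj_symm, h1 ψ hp' χ hc', map_zero,
        classInner_irr_ne (hYi χ hc') (hXi ψ hp') (fun h => hdis ψ hp' χ hc' h.symm)]
    · have hc' := (hFY χ).mp hc
      have hp' := (hFY ψ).mp hp
      rw [hTY χ hc', hTY ψ hp']
      exact lin_inner hτ' (hYm χ hc') (hYm ψ hp')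
  have hgen : ∀ χ ∈ FX ∪ FY, IsGeneralizedCharacter G (T χ) := by
    intro χ hχ
    rcases Finset.mem_union.mp hχ with hc | hc
    · have hc' := (hFX χ).mp hc
      rw [hTX χ hc']
      exact lin_gen hσ' (hXm χ hc')
    · have hc' := (hFY χ).mp hc
      rw [hTY χ hc']
      exact lin_gen hτ' (hYm χ hc')
  have hiso := extMap_isometry horth hnorm T hT hgen
  rw [hF] at hiso
  refine ⟨?_, extMap (FX ∪ FY) T, hiso, ?_⟩
  · obtain ⟨a, ha, b, hb, hab⟩ := hX2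
    have hai := hXi a ha
    have hbi := hXi b hb
    refine ⟨(deg b : ℤ) • a - (deg a : ℤ) • b, ?_, ?_⟩
    · refine mem_zspanOn_one.mpr ⟨Submodule.sub_mem _
        (Submodule.smul_mem _ _ (Submodule.subset_span (Or.inl ha)))
        (Submodule.smul_mem _ _ (Submodule.subset_span (Or.inl hb))), ?_⟩
      simp only [Pi.sub_apply, zsmul_apply', deg_eq hai, deg_eq hbi]
      push_cast; ring
    · intro h0
      have h2 := congrArg (fun f => classInner f a) h0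
      simp only [classInner_sub_left, classInner_zsmul_left, classInner_irr_self hai,
        classInner_irr_ne hbi hai (Ne.symm hab), classInner_zero_left, mul_one, mul_zero,
        sub_zero] at h2
      have h3 : deg b = 0 := by exact_mod_cast h2
      have := deg_pos hbi
      omega
  · intro θ hθ
    obtain ⟨hθspan, hθ1⟩ := mem_zspanOn_one.mp hθ
    have hθF : θ ∈ zspan (↑(FX ∪ FY) : Set (N → ℂ)) := by rw [hF]; exact hθspan
    obtain ⟨f, hf⟩ := mem_zspan_finset.mp hθF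
    have hdisj : Disjoint FX FY := by
      rw [Finset.disjoint_left]
      intro a ha hb
      exact Set.disjoint_left.mp hXY ((hFX a).mp ha) ((hFY a).mp hb)
    obtain ⟨x, hx⟩ : ∃ x, x = ∑ a ∈ FX, f a • a := ⟨_, rfl⟩
    obtain ⟨y, hy⟩ : ∃ y, y = ∑ a ∈ FY, f a • a := ⟨_, rfl⟩
    have hxX : x ∈ Submodule.span ℤ X := by
      rw [hx]
      exact Submodule.sum_mem _ (fun a ha => Submodule.smul_mem _ _ (hXm a ((hFX a).mp ha)))
    have hyY : y ∈ Submodule.span ℤ Y := by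
      rw [hy]
      exact Submodule.sum_mem _ (fun a ha => Submodule.smul_mem _ _ (hYm a ((hFY a).mp ha)))
    have hsum : θ = x + y := by
      rw [hf, hx, hy, Finset.sum_union hdisj]
    have hTsum : extMap (FX ∪ FY) T θ = σ x + τ y := by
      rw [hf, extMap_comb horth hnorm, Finset.sum_union hdisj, hx, hy,
        lin_sum hσ' _ _ (fun a ha => Submodule.smul_mem _ _ (hXm a ((hFX a).mp ha))),
        lin_sum hτ' _ _ (fun a ha => Submodule.smul_mem _ _ (hYm a ((hFY a).mp ha)))]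
      congr 1
      · refine Finset.sum_congr rfl (fun a ha => ?_)
        rw [hTX a ((hFX a).mp ha), lin_zsmul hσ' (hXm a ((hFX a).mp ha))]
      · refine Finset.sum_congr rfl (fun a ha => ?_)
        rw [hTY a ((hFY a).mp ha), lin_zsmul hτ' (hYm a ((hFY a).mp ha))]
    rw [hTsum]
    have hχ₀i := hXi χ₀ hχ₀
    have hη₀i := hYi η₀ hη₀
    have ha₀ : χ₀ 1 = (deg χ₀ : ℂ) := deg_eq hχ₀i
    have he₀ : η₀ 1 = (deg η₀ : ℂ) := deg_eq hη₀i
    obtain ⟨k, hk⟩ : ∃ k : ℤ, k = ∑ a ∈ FX, f a * (deg a : ℤ) := ⟨_, rfl⟩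
    have hx1 : x 1 = (k : ℂ) := by
      rw [hx, Finset.sum_apply, hk]
      push_cast
      refine Finset.sum_congr rfl (fun a ha => ?_)
      rw [zsmul_apply', deg_eq (hXi a ((hFX a).mp ha))]
    have hy1 : y 1 = -(k : ℂ) := by
      have h2 := hθ1
      rw [hsum, Pi.add_apply, hx1] at h2
      linear_combination h2
    have hx' : ((deg χ₀ : ℤ) • x - k • χ₀) ∈ zspanOn X {1}ᶜ := by
      refine mem_zspanOn_one.mpr ⟨Submodule.sub_mem _ (Submodule.smul_mem _ _ hxX)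
        (Submodule.smul_mem _ _ (hXm χ₀ hχ₀)), ?_⟩
      simp only [Pi.sub_apply, zsmul_apply', hx1, ha₀]
      push_cast; ring
    have hy' : ((deg η₀ : ℤ) • y + k • η₀) ∈ zspanOn Y {1}ᶜ := by
      refine mem_zspanOn_one.mpr ⟨Submodule.add_mem _ (Submodule.smul_mem _ _ hyY)
        (Submodule.smul_mem _ _ (hYm η₀ hη₀)), ?_⟩
      simp only [Pi.add_apply, zsmul_apply', hy1, he₀]
      push_cast; ring
    have hδmem : ((deg χ₀ : ℤ) • η₀ - (deg η₀ : ℤ) • χ₀) ∈ zspanOn S {1}ᶜ := by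
      refine mem_zspanOn_one.mpr ⟨Submodule.sub_mem _
        (Submodule.smul_mem _ _ (Submodule.subset_span (hYS hη₀)))
        (Submodule.smul_mem _ _ (Submodule.subset_span (hXS hχ₀))), ?_⟩
      simp only [Pi.sub_apply, zsmul_apply', ha₀, he₀]
      push_cast; ring
    have hδ' : α ((deg χ₀ : ℤ) • η₀ - (deg η₀ : ℤ) • χ₀) =
        (deg χ₀ : ℤ) • τ η₀ - (deg η₀ : ℤ) • σ χ₀ := by
      have e1 : ∀ (v : N → ℂ), ((deg χ₀ : ℕ) : ℤ) • v = χ₀ 1 • v := by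
        intro v; funext g; rw [zsmul_apply', ha₀]; simp
      have e2 : ∀ (v : N → ℂ), ((deg η₀ : ℕ) : ℤ) • v = η₀ 1 • v := by
        intro v; funext g; rw [zsmul_apply', he₀]; simp
      have e3 : ∀ (v : G → ℂ), ((deg χ₀ : ℕ) : ℤ) • v = χ₀ 1 • v := by
        intro v; funext g; rw [zsmul_apply', ha₀]; simp
      have e4 : ∀ (v : G → ℂ), ((deg η₀ : ℕ) : ℤ) • v = η₀ 1 • v := by
        intro v; funext g; rw [zsmul_apply', he₀]; simp
      rw [e1, e2, e3, e4]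
      exact hδ
    have hid : ((deg χ₀ * deg η₀ : ℕ) : ℤ) • θ =
        (deg η₀ : ℤ) • ((deg χ₀ : ℤ) • x - k • χ₀) + (deg χ₀ : ℤ) • ((deg η₀ : ℤ) • y + k • η₀)
          - k • ((deg χ₀ : ℤ) • η₀ - (deg η₀ : ℤ) • χ₀) := by
      rw [hsum]
      funext g
      simp only [Pi.add_apply, Pi.sub_apply, zsmul_apply']
      push_cast; ring
    have hθE : θ ∈ zspanOnSub S {1}ᶜ := zspanOn_mono (Set.union_subset hXS hYS) _ hθ
    have hx'E : ((deg χ₀ : ℤ) • x - k • χ₀) ∈ zspanOnSub S {1}ᶜ := zspanOn_mono hXS _ hx'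
    have hy'E : ((deg η₀ : ℤ) • y + k • η₀) ∈ zspanOnSub S {1}ᶜ := zspanOn_mono hYS _ hy'
    have hδE : ((deg χ₀ : ℤ) • η₀ - (deg η₀ : ℤ) • χ₀) ∈ zspanOnSub S {1}ᶜ := hδmem
    have hA := lin_zsmul hα' hθE ((deg χ₀ * deg η₀ : ℕ) : ℤ)
    rw [hid] at hA
    rw [lin_sub hα' (Submodule.add_mem _ (Submodule.smul_mem _ _ hx'E)
        (Submodule.smul_mem _ _ hy'E)) (Submodule.smul_mem _ _ hδE),
      lin_add hα' (Submodule.smul_mem _ _ hx'E) (Submodule.smul_mem _ _ hy'E),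
      lin_zsmul hα' hx'E, lin_zsmul hα' hy'E, lin_zsmul hα' hδE,
      ← hσα _ hx', ← hτα _ hy', hδ',
      lin_sub hσ' (Submodule.smul_mem _ _ hxX) (Submodule.smul_mem _ _ (hXm χ₀ hχ₀)),
      lin_zsmul hσ' hxX, lin_zsmul hσ' (hXm χ₀ hχ₀),
      lin_add hτ' (Submodule.smul_mem _ _ hyY) (Submodule.smul_mem _ _ (hYm η₀ hη₀)),
      lin_zsmul hτ' hyY, lin_zsmul hτ' (hYm η₀ hη₀)] at hA
    funext g
    have hAg := congrFun hA g
    simp only [Pi.add_apply, Pi.sub_apply, zsmul_apply'] at hAg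
    push_cast at hAg
    have hne : ((deg χ₀ : ℂ) * (deg η₀ : ℂ)) ≠ 0 := by
      have h1 := deg_pos hχ₀i
      have h2 := deg_pos hη₀i
      have : ((deg χ₀ * deg η₀ : ℕ) : ℂ) ≠ 0 := by
        exact_mod_cast (Nat.mul_pos h1 h2).ne'
      simpa using this
    simp only [Pi.add_apply]
    apply mul_left_cancel₀ hne
    linear_combination hAg

/-- Let N be a subgroup of the finite group G, S a set of irreducible characters of N, and α a linear isometry on the integer combinations of S vanishing at 1 with values virtual characters of G vanishing at 1. Let X, Y ⊆ S be disjoint, each with at least two members, and σ, τ linear isometries on ℤ[X], ℤ[Y] into virtual characters agreeing with α on the members vanishing at 1. Then ⟨σ χ, τ η⟩ = 0 for χ ∈ X, η ∈ Y; and if for some χ₀ ∈ X, η₀ ∈ Y with degrees c = χ₀ 1, e = η₀ 1 one has α (c • η₀ − e • χ₀) = c • τ η₀ − e • σ χ₀, then (X ∪ Y,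 N minus 1, α) is coherent. -/
theorem result {G : Type*} [Group G] [Fintype G] (N : Subgroup G) [Fintype N] (S X Y : Set (N → ℂ)) (hirr : ∀ ξ ∈ S, Cfsg.IsIrrCharacter N ξ) (hXS : X ⊆ S) (hYS : Y ⊆ S) (hXY : Disjoint X Y) (hX2 : ∃ a ∈ X, ∃ b ∈ X, a ≠ b) (hY2 : ∃ a ∈ Y, ∃ b ∈ Y, a ≠ b) (α : (N → ℂ) → (G → ℂ)) (hα : Cfsg.IsLinearIsometryOn (Cfsg.zspanOn S {1}ᶜ) α) (hα1 : ∀ θ ∈ Cfsg.zspanOn S {1}ᶜ, α θ 1 = 0) (σ τ : (N → ℂ) → (G → ℂ)) (hσ : Cfsg.IsLinearIsometryOn (Cfsg.zspan X) σ) (hσα : ∀ θ ∈ Cfsg.zspanOn X {1}ᶜ, σ θ = α θ) (hτ : Cfsg.IsLinearIsometryOn (Cfsg.zspan Y) τ) (hτα : ∀ θ ∈ Cfsg.zspanOn Y {1}ᶜ, τ θ = α θ) : (∀ χ ∈ X, ∀ η ∈ Y, Cfsg.classInner (σ χ) (τ η) = 0) ∧ ((∃ χ₀ ∈ X, ∃ η₀ ∈ Y, α (χ₀ 1 • η₀ - η₀ 1 • χ₀) = χ₀ 1 • τ η₀ - η₀ 1 • σ χ₀) → Cfsg.IsCoherent (X ∪ Y) {1}ᶜ α) := by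
  have h1 := part1 N S X Y hirr hXS hYS hXY hX2 hY2 α hα hα1 σ τ hσ hσα hτ hτα
  refine ⟨h1, ?_⟩
  rintro ⟨χ₀, hχ₀, η₀, hη₀, hδ⟩
  exact part2 N S X Y hirr hXS hYS hXY hX2 α hα σ τ hσ hσα hτ hτα h1 χ₀ hχ₀ η₀ hη₀ hδ

end Cfsg.Agent.S1531
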