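import Mathlib
import Cfsg.Statements.S0170
import Cfsg.Agent.S0198
import Cfsg.Agent.Lib.Helper3.IndTI

set_option autoImplicit false
open Cfsg

namespace Cfsg.Agent.S0170

open Cfsg.Agent.Lib.Helper80

lemma indFun_sub' {G : Type*} [Group G] [Fintype G] (H : Subgroup G) (f g : H → ℂ) :
    Cfsg.indFun H (f - g) = Cfsg.indFun H f - Cfsg.indFun H g := by
  have h1 : f - g = f + (-1 : ℂ) • g := by
    ext x; simp [sub_eq_add_neg]
  rw [h1, indFun_add, indFun_smul]
  ext x
  simp [sub_eq_add_neg]

/-- Exceptional characters. Let S be a subset of a finite group contained in its normalizer N and meeting its conjugates by elements outside N only in the identity. Given n ≥ 2 distinct irreducible characters of N of equal degree that vanish on N away from S, there exist a sign ε and n distinct irreducible characters θ_i of G such that inducing χ_i − χ_j to G gives ε (θ_i − θ_j) for all i, j. -/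
theorem result {G : Type*} [Group G] [Fintype G] (S : Set G) (hSN : S ⊆ Subgroup.normalizer S) (hTI : ∀ g : G, g ∉ Subgroup.normalizer S → ∀ s ∈ S, g * s * g⁻¹ ∈ S → s = 1) (n : ℕ) (hn : 2 ≤ n) (χ : Fin n → (Subgroup.normalizer S → ℂ)) (hirr : ∀ i, Cfsg.IsIrrCharacter (Subgroup.normalizer S) (χ i)) (hinj : Function.Injective χ) (hvan : ∀ i, ∀ x : Subgroup.normalizer S, (x : G) ∉ S → χ i x = 0) (hdeg : ∀ i j, χ i 1 = χ j 1) : ∃ ε : ℂ, (ε = 1 ∨ ε = -1) ∧ ∃ θ : Fin n → (G → ℂ), (∀ i, Cfsg.IsIrrCharacter G (θ i)) ∧ Function.Injective θ ∧ ∀ i j, Cfsg.indFun (Subgroup.normalizer S) (χ i) - Cfsg.indFun (Subgroup.normalizer S) (χ j) = ε • (θ i - θ j) := by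
  classical
  have hn0 : 0 < n := by omega
  set i₀ : Fin n := ⟨0, hn0⟩ with hi₀
  have hFin : Fintype (Subgroup.normalizer S) := Fintype.ofFinite _
  have hch : ∀ i, Cfsg.IsCharacter (Subgroup.normalizer S) (χ i) := fun i =>
    isCharacter_of_isIrrCharacter (hirr i)
  have hcl : ∀ i, Cfsg.IsClassFunction (Subgroup.normalizer S) (χ i) := fun i =>
    isClassFunction_of_isCharacter (hch i)
  have hclsub : ∀ i j, Cfsg.IsClassFunction (Subgroup.normalizer S) (χ i - χ j) := by
    intro i j g h
    simp only [Pi.sub_apply]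
    rw [hcl i g h, hcl j g h]
  have hvansub : ∀ i j, ∀ x : Subgroup.normalizer S, (x : G) ∉ S → (χ i - χ j) x = 0 := by
    intro i j x hx
    simp only [Pi.sub_apply]
    rw [hvan i x hx, hvan j x hx, sub_zero]
  have hdegsub : ∀ i j, (χ i - χ j) 1 = 0 := by
    intro i j
    simp only [Pi.sub_apply]
    rw [hdeg i j, sub_self]
  have hτ := Cfsg.Agent.S0198.result n i₀
    (fun i => Cfsg.indFun (Subgroup.normalizer S) (χ i) -
      Cfsg.indFun (Subgroup.normalizer S) (χ i₀))
    (by simp)
    (fun i => ⟨_, _, isCharacter_indFun _ (hch i), isCharacter_indFun _ (hch i₀), rfl⟩)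
    (fun i => by
      simp only [Pi.sub_apply]
      rw [indFun_one, indFun_one, hdeg i i₀, sub_self])
    (fun i j hi hj => by
      rw [← indFun_sub', ← indFun_sub',
        Cfsg.Agent.Lib.Helper3.classInner_indFun_TI S hTI _ _ (hclsub i i₀) (hclsub j i₀)
          (hvansub i i₀) (hvansub j i₀) (hdegsub i i₀)]
      rw [classInner_sub_left, Cfsg.Agent.S0198.classInner_sub_right',
        Cfsg.Agent.S0198.classInner_sub_right',
        classInner_irr_fun (hirr i) (hirr j), classInner_irr_fun (hirr i) (hirr i₀),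
        classInner_irr_fun (hirr i₀) (hirr j), classInner_irr_fun (hirr i₀) (hirr i₀)]
      have h1 : χ i ≠ χ i₀ := fun h => hi (hinj h)
      have h2 : χ i₀ ≠ χ j := fun h => hj (hinj h).symm
      rw [if_neg h1, if_neg h2, if_pos rfl]
      by_cases hij : i = j
      · subst hij
        rw [if_pos rfl, if_pos rfl]
        norm_num
      · have h3 : χ i ≠ χ j := fun h => hij (hinj h)
        rw [if_neg h3, if_neg hij]
        norm_num)
  obtain ⟨ε, hε, μ, hμirr, hμinj, hμ⟩ := hτ
  refine ⟨ε, hε, μ, hμirr, hμinj, ?_⟩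
  intro i j
  have hi := hμ i
  have hj := hμ j
  have e : Cfsg.indFun (Subgroup.normalizer S) (χ i) - Cfsg.indFun (Subgroup.normalizer S) (χ j)
      = (Cfsg.indFun (Subgroup.normalizer S) (χ i) - Cfsg.indFun (Subgroup.normalizer S) (χ i₀))
        - (Cfsg.indFun (Subgroup.normalizer S) (χ j) -
          Cfsg.indFun (Subgroup.normalizer S) (χ i₀)) := by
    abel
  rw [e, hi, hj, ← smul_sub]
  congr 1
  abel

end Cfsg.Agent.S0170
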