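import Cfsg.Statements.S0878

set_option autoImplicit false
open Cfsg

namespace Cfsg.Agent.S0878

/-- a fixed-point-free (off `a`) element of the stabilizer lies in the regular subgroup `H`. -/
theorem mem_of_fixedPointFree {G Ω : Type*} [Group G] [Finite G] [MulAction G Ω] [Fintype Ω]
    (h3 : ∀ g : G, ∀ a b c : Ω, a ≠ b → b ≠ c → a ≠ c → g • a = a → g • b = b → g • c = c → g = 1)
    (a : Ω) (H : Subgroup G) (hHa : H ≤ MulAction.stabilizer G a)
    (hHcard : Nat.card H + 1 = Fintype.card Ω)
    (hHfix : ∀ u ∈ H, u ≠ 1 → ∀ c : Ω, u • c = c → c = a)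
    (x : G) (hxa : x • a = a) (hx : ∀ c : Ω, x • c = c → c = a) : x ∈ H := by
  classical
  by_contra hxH
  have hcard' : Nat.card {c : Ω // c ≠ a} = Nat.card H := by
    rw [Nat.card_eq_fintype_card, Fintype.card_subtype_compl, Fintype.card_subtype_eq]
    omega
  have hstab : ∀ u ∈ H, u • a = a := fun u hu => hHa hu
  -- for each b ≠ a there is v ∈ H with v • b = x • b
  have hv : ∀ b : {c : Ω // c ≠ a}, ∃ v : H, (v : G) • (b : Ω) = x • (b : Ω) := by
    intro b
    let φ : H → {c : Ω // c ≠ a} := fun h => ⟨(h : G) • (b : Ω), fun hh => b.2 (by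
      have := hstab h h.2
      exact MulAction.injective (h : G) (hh.trans this.symm))⟩
    have hinj : Function.Injective φ := by
      intro h h' hhh
      have e : (h : G) • (b : Ω) = (h' : G) • (b : Ω) := congrArg Subtype.val hhh
      have e2 : ((h' : G)⁻¹ * (h : G)) • (b : Ω) = b := by
        rw [mul_smul, e, inv_smul_smul]
      by_contra hne
      have hne' : (h' : G)⁻¹ * (h : G) ≠ 1 := by
        intro h1
        apply hne
        apply Subtype.ext
        exact (inv_mul_eq_one.mp h1).symm
      exact b.2 (hHfix _ (H.mul_mem (H.inv_mem h'.2) h.2) hne' b e2)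
    have hbij : Function.Bijective φ :=
      (Nat.bijective_iff_injective_and_card φ).mpr ⟨hinj, hcard'.symm⟩
    have hxb : x • (b : Ω) ≠ a := by
      intro hh
      exact b.2 (MulAction.injective x (hh.trans hxa.symm))
    obtain ⟨v, hv⟩ := hbij.2 ⟨x • (b : Ω), hxb⟩
    exact ⟨v, congrArg Subtype.val hv⟩
  choose ψ hψ using hv
  have hψinj : Function.Injective ψ := by
    intro b c hbc
    by_contra hne
    have hne' : (b : Ω) ≠ (c : Ω) := fun h => hne (Subtype.ext h)
    have e1 : ((ψ b : G)⁻¹ * x) • (b : Ω) = b := by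
      rw [mul_smul, ← hψ b, inv_smul_smul]
    have e2 : ((ψ b : G)⁻¹ * x) • (c : Ω) = c := by
      rw [mul_smul, ← hψ c, ← hbc, inv_smul_smul]
    have e3 : ((ψ b : G)⁻¹ * x) • a = a := by
      rw [mul_smul, hxa, inv_smul_eq_iff, hstab _ (ψ b).2]
    have := h3 _ a b c (Ne.symm b.2) hne' (Ne.symm c.2) e3 e1 e2
    apply hxH
    have hx' : x = (ψ b : G) := by
      rw [inv_mul_eq_one] at this
      exact this.symm
    rw [hx']
    exact (ψ b).2
  have hψbij : Function.Bijective ψ :=
    (Nat.bijective_iff_injective_and_card ψ).mpr ⟨hψinj, hcard'⟩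
  obtain ⟨b, hb⟩ := hψbij.2 1
  have := hψ b
  rw [hb] at this
  simp only [OneMemClass.coe_one, one_smul] at this
  exact b.2 (hx b this.symm)

/-- Let G be a Zassenhaus group on the finite set Ω, a a point, and let H be the subgroup of the stabilizer of a consisting of the identity and the elements fixing no point other than a (given here as a subgroup of the stabilizer of order one less than the number of points whose non-identity elements fix only a; it is the Frobenius kernel of the stabilizer). Then an element outside the stabilizer of a conjugates no non-identity element of H into H, and the normalizer of H is exactly the stabilizer of a. -/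
theorem result {G Ω : Type*} [Group G] [Finite G] [MulAction G Ω] [Fintype Ω] (hZ : Cfsg.IsZassenhausGroup G Ω) (a : Ω) (H : Subgroup G) (hHa : H ≤ MulAction.stabilizer G a) (hHcard : Nat.card H + 1 = Fintype.card Ω) (hHfix : ∀ u ∈ H, u ≠ 1 → ∀ c : Ω, u • c = c → c = a) : (∀ g : G, g ∉ MulAction.stabilizer G a → ∀ u ∈ H, g * u * g⁻¹ ∈ H → u = 1) ∧ Subgroup.normalizer (H : Set G) = MulAction.stabilizer G a := by
  classical
  obtain ⟨hfaith, -, h3, ⟨g₀, hg₀, a', b', hab', hga', hgb'⟩, -⟩ := hZ
  have hstab : ∀ u ∈ H, u • a = a := fun u hu => hHa hu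
  have part1 : ∀ g : G, g ∉ MulAction.stabilizer G a → ∀ u ∈ H, g * u * g⁻¹ ∈ H → u = 1 := by
    intro g hg u hu hgu
    by_contra hu1
    apply hg
    have hne : g * u * g⁻¹ ≠ 1 := by
      intro h
      apply hu1
      have : u = g⁻¹ * (g * u * g⁻¹) * g := by group
      rw [this, h]; group
    have hfixed : (g * u * g⁻¹) • (g • a) = g • a := by
      rw [mul_smul, inv_smul_smul, mul_smul, hstab u hu]
    exact hHfix _ hgu hne _ hfixed
  refine ⟨part1, ?_⟩
  -- H is nontrivial
  have hthree : ∃ c : Ω, c ≠ a' ∧ c ≠ b' := by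
    by_contra hcon
    push Not at hcon
    apply hg₀
    apply hfaith.eq_of_smul_eq_smul
    intro c
    rw [one_smul]
    by_cases hc : c = a'
    · rw [hc, hga']
    · rw [hcon c hc, hgb']
  obtain ⟨c', hca', hcb'⟩ := hthree
  have hcardΩ : 3 ≤ Fintype.card Ω := by
    have : ({a', b', c'} : Finset Ω).card = 3 := by
      rw [Finset.card_insert_of_notMem, Finset.card_insert_of_notMem, Finset.card_singleton]
      · simpa using Ne.symm hcb'
      · simp only [Finset.mem_insert, Finset.mem_singleton, not_or]
        exact ⟨hab', Ne.symm hca'⟩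
    rw [← this]
    exact Finset.card_le_univ _
  have hHnt : ∃ u ∈ H, u ≠ 1 := by
    by_contra hcon
    push Not at hcon
    have : H = ⊥ := (Subgroup.eq_bot_iff_forall H).mpr hcon
    rw [this, Subgroup.card_bot] at hHcard
    omega
  obtain ⟨u₀, hu₀, hu₀1⟩ := hHnt
  -- conjugation by stabilizer elements preserves H
  have hconj : ∀ g : G, g • a = a → ∀ h ∈ H, g * h * g⁻¹ ∈ H := by
    intro g hg h hh
    by_cases h1 : h = 1
    · rw [h1]; simp
    · apply mem_of_fixedPointFree h3 a H hHa hHcard hHfix
      · rw [mul_smul, mul_smul, inv_smul_eq_iff.mpr hg.symm, hstab h hh, hg]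
      · intro c hc
        have e : h • (g⁻¹ • c) = g⁻¹ • c := by
          rw [mul_smul, mul_smul] at hc
          rw [eq_inv_smul_iff]
          exact hc
        have := hHfix h hh h1 _ e
        rw [inv_smul_eq_iff] at this
        rw [this, hg]
  ext g
  rw [Subgroup.mem_normalizer_iff, MulAction.mem_stabilizer_iff]
  constructor
  · intro hg
    by_contra hga
    exact hu₀1 (part1 g hga u₀ hu₀ ((hg u₀).mp hu₀))
  · intro hg h
    constructor
    · exact hconj g hg h
    · intro hh
      have hg' : g⁻¹ • a = a := inv_smul_eq_iff.mpr hg.symm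
      have := hconj g⁻¹ hg' _ hh
      have e : g⁻¹ * (g * h * g⁻¹) * g⁻¹⁻¹ = h := by group
      rwa [e] at this

end Cfsg.Agent.S0878
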