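-- Statement S3993: Frobenius' theorem on the number of solutions of x^m = 1.
import Mathlib
import Cfsg.Statements.S3993

set_option autoImplicit false
open Cfsg

namespace Cfsg.Agent.S3993

universe u

section lemmas

variable {G : Type u} [Group G]

/-- The number of generators of a finite cyclic subgroup is the totient of its order. -/
lemma card_same_zpowers [Finite G] (g₀ : G) :
    Nat.card {g : G // Subgroup.zpowers g = Subgroup.zpowers g₀} = Nat.totient (orderOf g₀) := by
  classical
  have hfin : Fintype (Subgroup.zpowers g₀) := Fintype.ofFinite _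
  have h1 : Nat.card {a : Subgroup.zpowers g₀ // orderOf a = orderOf g₀}
      = Nat.totient (orderOf g₀) := by
    rw [Nat.card_eq_fintype_card, Fintype.card_subtype]
    apply IsCyclic.card_orderOf_eq_totient
    rw [← Nat.card_eq_fintype_card, Nat.card_zpowers]
  rw [← h1]
  apply Nat.card_congr
  exact
    { toFun := fun g => ⟨⟨g.1, (SetLike.ext_iff.mp g.2 g.1).mp (Subgroup.mem_zpowers g.1)⟩, by
          rw [Subgroup.orderOf_mk, ← Nat.card_zpowers, g.2, Nat.card_zpowers]⟩
      invFun := fun a => ⟨a.1.1, by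
          apply Subgroup.eq_of_le_of_card_ge
          · rw [Subgroup.zpowers_le]
            exact a.1.2
          · rw [Nat.card_zpowers, Nat.card_zpowers, Subgroup.orderOf_coe, a.2]⟩
      left_inv := fun g => rfl
      right_inv := fun a => rfl }

/-- A set of elements closed under passing to another generator of the same cyclic subgroup has
cardinality divisible by any common divisor of the totients of the orders of its members. -/
lemma dvd_card_of_closed [Finite G] (T : G → Prop) (r : ℕ)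
    (hT : ∀ g g', T g → Subgroup.zpowers g' = Subgroup.zpowers g → T g')
    (hr : ∀ g, T g → r ∣ Nat.totient (orderOf g)) : r ∣ Nat.card {g : G // T g} := by
  classical
  let _ : Fintype G := Fintype.ofFinite G
  rw [Nat.card_eq_fintype_card, Fintype.card_subtype]
  rw [Finset.card_eq_sum_card_fiberwise (f := fun g => Subgroup.zpowers g)
    (t := (Finset.univ.filter T).image (fun g => Subgroup.zpowers g))
    (fun g hg => Finset.mem_image_of_mem _ hg)]
  apply Finset.dvd_sum
  intro C hC
  obtain ⟨g₀, hg₀, rfl⟩ := Finset.mem_image.mp hC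
  have hT0 : T g₀ := (Finset.mem_filter.mp hg₀).2
  have h1 : (Finset.univ.filter T).filter (fun g => Subgroup.zpowers g = Subgroup.zpowers g₀)
      = Finset.univ.filter (fun g => Subgroup.zpowers g = Subgroup.zpowers g₀) := by
    ext g
    simp only [Finset.mem_filter, Finset.mem_univ, true_and]
    exact ⟨fun h => h.2, fun h => ⟨hT g₀ g hT0 h, h⟩⟩
  rw [h1, ← Fintype.card_subtype, ← Nat.card_eq_fintype_card, card_same_zpowers]
  exact hr g₀ hT0

/-- The set of elements killed by `p^(a+1) * k` but not by `p^a * k` has cardinality divisible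
by `p^a`. -/
lemma pow_dvd_card_X [Finite G] (p a k : ℕ) (hp : p.Prime) :
    p ^ a ∣ Nat.card {g : G // g ^ (p ^ (a + 1) * k) = 1 ∧ g ^ (p ^ a * k) ≠ 1} := by
  apply dvd_card_of_closed
  · rintro g g' ⟨h1, h2⟩ hz
    have ho : orderOf g' = orderOf g := by rw [← Nat.card_zpowers, hz, Nat.card_zpowers]
    refine ⟨?_, ?_⟩
    · rw [← orderOf_dvd_iff_pow_eq_one, ho, orderOf_dvd_iff_pow_eq_one]
      exact h1
    · rw [Ne, ← orderOf_dvd_iff_pow_eq_one, ho, orderOf_dvd_iff_pow_eq_one]
      exact h2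
  · rintro g ⟨h1, h2⟩
    have hdiv : p ^ (a + 1) ∣ orderOf g := by
      by_contra hnd
      apply h2
      rw [← orderOf_dvd_iff_pow_eq_one]
      have ho : orderOf g ∣ p ^ (a + 1) * k := orderOf_dvd_of_pow_eq_one h1
      obtain ⟨b, o', ho', hob⟩ :=
        Nat.exists_eq_pow_mul_and_not_dvd (orderOf_pos g).ne' p hp.ne_one
      rw [hob] at ho hnd ⊢
      have hb : b ≤ a := by
        by_contra hba
        push Not at hba
        exact hnd (Dvd.dvd.mul_right (pow_dvd_pow p hba) o')
      have ho'k : o' ∣ k := by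
        have h3 : o' ∣ p ^ (a + 1) * k := Dvd.dvd.trans (Dvd.intro_left _ rfl) ho
        exact (Nat.Coprime.pow_right _
          ((Nat.Prime.coprime_iff_not_dvd hp).mpr ho').symm).dvd_of_dvd_mul_left h3
      exact Nat.mul_dvd_mul (pow_dvd_pow p hb) ho'k
    calc p ^ a ∣ p ^ a * (p - 1) := Dvd.intro _ rfl
      _ = Nat.totient (p ^ (a + 1)) := (Nat.totient_prime_pow_succ hp a).symm
      _ ∣ Nat.totient (orderOf g) := Nat.totient_dvd_of_dvd hdiv

/-- Solutions of `z ^ k = 1` in the centraliser of an element `u` of order prime to `k` correspond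
to solutions in the quotient of the centraliser by the subgroup generated by `u`. -/
lemma card_centralizer_solutions [Finite G] (u : G) (q k : ℕ) (hq : orderOf u = q)
    (hqk : Nat.Coprime q k)
    (Z : Subgroup (Subgroup.centralizer ({u} : Set G))) [Z.Normal]
    (hZ : ∀ x : Subgroup.centralizer ({u} : Set G), x ∈ Z ↔ (x : G) ∈ Subgroup.zpowers u) :
    Nat.card {z : G // Commute u z ∧ z ^ k = 1}
      = Nat.card {w : Subgroup.centralizer ({u} : Set G) ⧸ Z // w ^ k = 1} := by
  classical
  have hmem : ∀ z : G, Commute u z → z ∈ Subgroup.centralizer ({u} : Set G) := fun z hz => by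
    rw [Subgroup.mem_centralizer_singleton_iff]
    exact hz.eq.symm
  apply Nat.card_congr
  refine Equiv.ofBijective
    (fun z : {z : G // Commute u z ∧ z ^ k = 1} =>
      (⟨QuotientGroup.mk ⟨z.1, hmem z.1 z.2.1⟩, by
        rw [← QuotientGroup.mk_pow]
        have h1 : (⟨z.1, hmem z.1 z.2.1⟩ : Subgroup.centralizer ({u} : Set G)) ^ k = 1 :=
          Subtype.ext (by simp [z.2.2])
        rw [h1]
        rfl⟩ : {w : Subgroup.centralizer ({u} : Set G) ⧸ Z // w ^ k = 1})) ⟨?_, ?_⟩
  · rintro ⟨z, hz1, hz2⟩ ⟨z', hz1', hz2'⟩ h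
    have h1 : (QuotientGroup.mk ⟨z, hmem z hz1⟩ : _ ⧸ Z) = QuotientGroup.mk ⟨z', hmem z' hz1'⟩ :=
      congrArg Subtype.val h
    rw [QuotientGroup.eq, hZ] at h1
    obtain ⟨i, hi⟩ := Subgroup.mem_zpowers_iff.mp h1
    have hi' : z' = z * u ^ i := by
      rw [hi]
      simp
    have hcomm : Commute z (u ^ i) := (hz1.symm).zpow_right i
    have h2 : (u ^ i) ^ k = 1 := by
      have h3 := hz2'
      rw [hi', hcomm.mul_pow, hz2, one_mul] at h3
      exact h3
    have h3 : u ^ i = 1 := by
      rw [← zpow_natCast, ← zpow_mul, ← orderOf_dvd_iff_zpow_eq_one, hq] at h2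
      rw [← orderOf_dvd_iff_zpow_eq_one, hq]
      exact (Nat.isCoprime_iff_coprime.mpr hqk).dvd_of_dvd_mul_right h2
    apply Subtype.ext
    change z = z'
    rw [hi', h3, mul_one]
  · rintro ⟨w, hw⟩
    induction w using QuotientGroup.induction_on with
    | H x =>
    have h1 : x ^ k ∈ Z := by
      rw [← QuotientGroup.eq_one_iff, QuotientGroup.mk_pow]
      exact hw
    rw [hZ] at h1
    obtain ⟨j, hj⟩ := Subgroup.mem_zpowers_iff.mp h1
    have hj' : u ^ j = (x : G) ^ k := by
      rw [hj]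
      simp
    have hb := Nat.gcd_eq_gcd_ab q k
    rw [hqk.gcd_eq_one] at hb
    have hxu : Commute u (x : G) := by
      have h2 := x.2
      rw [Subgroup.mem_centralizer_singleton_iff] at h2
      exact h2.symm
    have hzc : Commute u ((x : G) * u ^ (-(j * Nat.gcdB q k))) :=
      hxu.mul_right ((Commute.refl u).zpow_right _)
    have hzk : ((x : G) * u ^ (-(j * Nat.gcdB q k))) ^ k = 1 := by
      have hc : Commute (x : G) (u ^ (-(j * Nat.gcdB q k))) := hxu.symm.zpow_right _
      rw [hc.mul_pow, ← hj', ← zpow_natCast (u ^ (-(j * Nat.gcdB q k))), ← zpow_mul, ← zpow_add]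
      have h3 : j + -(j * Nat.gcdB q k) * (k : ℤ) = (q : ℤ) * (j * Nat.gcdA q k) := by
        have h4 : (1 : ℤ) = q * Nat.gcdA q k + k * Nat.gcdB q k := by exact_mod_cast hb
        linear_combination j * h4
      rw [h3, zpow_mul, zpow_natCast, ← hq, pow_orderOf_eq_one, one_zpow]
    refine ⟨⟨(x : G) * u ^ (-(j * Nat.gcdB q k)), hzc, hzk⟩, ?_⟩
    apply Subtype.ext
    change (QuotientGroup.mk ⟨(x : G) * u ^ (-(j * Nat.gcdB q k)), hmem _ hzc⟩ : _ ⧸ Z)
      = QuotientGroup.mk x
    rw [QuotientGroup.eq, hZ]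
    have h5 : (((⟨(x : G) * u ^ (-(j * Nat.gcdB q k)), hmem _ hzc⟩ :
        Subgroup.centralizer ({u} : Set G))⁻¹ * x : Subgroup.centralizer ({u} : Set G)) : G)
        = u ^ (j * Nat.gcdB q k) := by
      simp [mul_inv_rev, zpow_neg]
    rw [h5]
    exact Subgroup.zpow_mem_zpowers u _

/-- The size of a conjugacy class is the index of the centraliser. -/
lemma ncard_carrier_eq_index (x : G) :
    (ConjClasses.mk x).carrier.ncard = (Subgroup.centralizer ({x} : Set G)).index := by
  have h1 : (MulAction.stabilizer (ConjAct G) x).index = (MulAction.orbit (ConjAct G) x).ncard :=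
    MulAction.index_stabilizer (ConjAct G) x
  have h2 : (Subgroup.comap (ConjAct.toConjAct (G := G)).toMonoidHom
      (MulAction.stabilizer (ConjAct G) x)).index = (MulAction.stabilizer (ConjAct G) x).index :=
    Subgroup.index_comap_of_surjective _ (ConjAct.toConjAct (G := G)).surjective
  calc (ConjClasses.mk x).carrier.ncard = (MulAction.orbit (ConjAct G) x).ncard := by
        rw [ConjAct.orbit_eq_carrier_conjClasses]
    _ = (MulAction.stabilizer (ConjAct G) x).index := h1.symm
    _ = _ := h2.symm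
    _ = (Subgroup.centralizer ({x} : Set G)).index :=
        (congrArg Subgroup.index (Subgroup.centralizer_eq_comap_stabilizer x)).symm

/-- A sum of a conjugation-invariant function over the group is divisible by `k` as soon as
each class contributes a multiple of `k`. -/
lemma class_sum_dvd [Fintype G] (f : G → ℕ) (k : ℕ) (hinv : ∀ x u : G, f (x * u * x⁻¹) = f u)
    (hdvd : ∀ u : G, k ∣ (Subgroup.centralizer ({u} : Set G)).index * f u) :
    k ∣ ∑ u : G, f u := by
  classical
  rw [← Finset.sum_fiberwise (s := Finset.univ) (g := fun u : G => ConjClasses.mk u) (f := f)]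
  apply Finset.dvd_sum
  intro c _
  obtain ⟨x, rfl⟩ := ConjClasses.exists_rep c
  have h1 : ∀ u ∈ Finset.univ.filter (fun u : G => ConjClasses.mk u = ConjClasses.mk x),
      f u = f x := by
    intro u hu
    have h2 : ConjClasses.mk u = ConjClasses.mk x := (Finset.mem_filter.mp hu).2
    obtain ⟨y, hy⟩ := isConj_iff.mp (ConjClasses.mk_eq_mk_iff_isConj.mp h2)
    rw [← hy, hinv]
  rw [Finset.sum_const_nat h1]
  have h3 : (Finset.univ.filter (fun u : G => ConjClasses.mk u = ConjClasses.mk x)).card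
      = (Subgroup.centralizer ({x} : Set G)).index := by
    rw [← ncard_carrier_eq_index, Set.ncard_eq_toFinset_card']
    congr 1
    ext u
    simp [ConjClasses.mem_carrier_iff_mk_eq]
  rw [h3]
  exact hdvd x

/-- The `q`-part of an element killed by `p^(a+1) k` but not by `p^a k` has order `p^(a+1)`. -/
lemma orderOf_fiber (p a k : ℕ) (hp : p.Prime) (A B : ℤ)
    (hAB : ((p ^ (a + 1) : ℕ) : ℤ) * A + k * B = 1) (g : G)
    (hg1 : g ^ (p ^ (a + 1) * k) = 1) (hg2 : g ^ (p ^ a * k) ≠ 1) :
    orderOf (g ^ ((k : ℤ) * B)) = p ^ (a + 1) := by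
  have hu : (g ^ ((k : ℤ) * B)) ^ (p ^ (a + 1)) = 1 := by
    rw [← zpow_natCast, ← zpow_mul]
    have h1 : (k : ℤ) * B * ((p ^ (a + 1) : ℕ) : ℤ) = ((p ^ (a + 1) * k : ℕ) : ℤ) * B := by
      push_cast
      ring
    rw [h1, zpow_mul, zpow_natCast, hg1, one_zpow]
  obtain ⟨m, hm, hom⟩ := (Nat.dvd_prime_pow hp).mp (orderOf_dvd_of_pow_eq_one hu)
  rcases Nat.lt_or_ge m (a + 1) with hlt | hge
  · exfalso
    apply hg2
    have hu' : (g ^ ((k : ℤ) * B)) ^ (p ^ a) = 1 := by
      rw [← orderOf_dvd_iff_pow_eq_one, hom]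
      exact pow_dvd_pow p (Nat.lt_succ_iff.mp hlt)
    have h2 : ((p ^ a * k : ℕ) : ℤ)
        = ((p ^ (a + 1) * k : ℕ) : ℤ) * ((p : ℤ) ^ a * A) + (k * B) * ((p ^ a * k : ℕ) : ℤ) := by
      push_cast at hAB ⊢
      linear_combination (-((p : ℤ) ^ a * k)) * hAB
    rw [← zpow_natCast g (p ^ a * k), h2, zpow_add, zpow_mul, zpow_natCast, hg1, one_zpow,
      one_mul, zpow_mul g ((k : ℤ) * B), zpow_natCast, pow_mul, hu', one_pow]
  · rw [hom]
    congr 1
    omega

/-- The fibre of the `q`-part map over an element `u` of order `q` is in bijection with the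
solutions of `z ^ k = 1` in the centraliser of `u`. -/
lemma card_fiber_eq (q r k : ℕ) (A B : ℤ) (hAB : (q : ℤ) * A + k * B = 1) (u : G)
    (hu : orderOf u = q) (hr : ¬ q ∣ r * k) :
    Nat.card {g : G // (g ^ (q * k) = 1 ∧ g ^ (r * k) ≠ 1) ∧ g ^ ((k : ℤ) * B) = u}
      = Nat.card {z : G // Commute u z ∧ z ^ k = 1} := by
  have huq : u ^ q = 1 := by
    rw [← hu]
    exact pow_orderOf_eq_one u
  apply Nat.card_congr
  refine
    { toFun := fun g => ⟨g.1 ^ ((q : ℤ) * A), ?_, ?_⟩
      invFun := fun z => ⟨u * z.1, ⟨?_, ?_⟩, ?_⟩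
      left_inv := ?_
      right_inv := ?_ }
  · have h1 : Commute (g.1 ^ ((k : ℤ) * B)) (g.1 ^ ((q : ℤ) * A)) :=
      (Commute.refl g.1).zpow_zpow _ _
    rw [g.2.2] at h1
    exact h1
  · rw [← zpow_natCast, ← zpow_mul]
    have h1 : (q : ℤ) * A * (k : ℤ) = ((q * k : ℕ) : ℤ) * A := by
      push_cast
      ring
    rw [h1, zpow_mul, zpow_natCast, g.2.1.1, one_zpow]
  · rw [z.2.1.mul_pow, pow_mul, huq, one_pow, one_mul, mul_comm q k, pow_mul, z.2.2, one_pow]
  · rw [z.2.1.mul_pow, mul_comm r k, pow_mul z.1, z.2.2, one_pow, mul_one, Ne,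
      ← orderOf_dvd_iff_pow_eq_one, hu, mul_comm k r]
    exact hr
  · rw [z.2.1.mul_zpow, zpow_mul z.1, zpow_natCast, z.2.2, one_zpow, mul_one]
    have h1 : (k : ℤ) * B = 1 - (q : ℤ) * A := by linarith
    rw [h1, zpow_sub, zpow_one, zpow_mul, zpow_natCast, huq, one_zpow, inv_one, mul_one]
  · intro g
    apply Subtype.ext
    change u * g.1 ^ ((q : ℤ) * A) = g.1
    have h1 : (k : ℤ) * B + (q : ℤ) * A = 1 := by linarith
    calc u * g.1 ^ ((q : ℤ) * A) = g.1 ^ ((k : ℤ) * B) * g.1 ^ ((q : ℤ) * A) := by rw [g.2.2]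
      _ = g.1 := by rw [← zpow_add, h1, zpow_one]
  · intro z
    apply Subtype.ext
    change (u * z.1) ^ ((q : ℤ) * A) = z.1
    rw [z.2.1.mul_zpow, zpow_mul u, zpow_natCast, huq, one_zpow, one_mul]
    have h1 : (q : ℤ) * A = 1 - (k : ℤ) * B := by linarith
    rw [h1, zpow_sub, zpow_one, zpow_mul, zpow_natCast, z.2.2, one_zpow, inv_one, mul_one]

/-- The class contribution is divisible by `k`. -/
lemma index_mul_card_solutions_dvd [Finite G]
    (IH : ∀ (H : Type u) [Group H] [Finite H], Nat.card H < Nat.card G →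
      ∀ d, d ∣ Nat.card H → d ∣ Nat.card {h : H // h ^ d = 1})
    (u : G) (q k : ℕ) (hq : orderOf u = q) (hq2 : 2 ≤ q) (hqk : Nat.Coprime q k)
    (hdvd : q * k ∣ Nat.card G) :
    k ∣ (Subgroup.centralizer ({u} : Set G)).index
      * Nat.card {z : G // Commute u z ∧ z ^ k = 1} := by
  classical
  have hle : Subgroup.zpowers u ≤ Subgroup.centralizer ({u} : Set G) := by
    rw [Subgroup.zpowers_le]
    exact Subgroup.mem_centralizer_singleton_iff.mpr rfl
  have hZ : ∀ x : Subgroup.centralizer ({u} : Set G),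
      x ∈ (Subgroup.zpowers u).subgroupOf (Subgroup.centralizer ({u} : Set G))
        ↔ (x : G) ∈ Subgroup.zpowers u := fun x => Subgroup.mem_subgroupOf
  have hZn : ((Subgroup.zpowers u).subgroupOf (Subgroup.centralizer ({u} : Set G))).Normal := by
    constructor
    intro z hz x
    rw [hZ] at hz ⊢
    obtain ⟨i, hi⟩ := Subgroup.mem_zpowers_iff.mp hz
    have hx : (x : G) * u = u * x := Subgroup.mem_centralizer_singleton_iff.mp x.2
    have hc : Commute (x : G) (u ^ i) := Commute.zpow_right hx i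
    have h1 : ((x * z * x⁻¹ : Subgroup.centralizer ({u} : Set G)) : G) = u ^ i := by
      push_cast
      rw [← hi, hc.eq, mul_assoc, mul_inv_cancel, mul_one]
    rw [h1]
    exact Subgroup.zpow_mem_zpowers u i
  have hf2 := card_centralizer_solutions u q k hq hqk
    ((Subgroup.zpowers u).subgroupOf (Subgroup.centralizer ({u} : Set G))) hZ
  have hcardZ : Nat.card ((Subgroup.zpowers u).subgroupOf (Subgroup.centralizer ({u} : Set G)))
      = q := by
    rw [Nat.card_congr (Subgroup.subgroupOfEquivOfLe hle).toEquiv, Nat.card_zpowers, hq]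
  have hidx : (Subgroup.centralizer ({u} : Set G)).index
      * Nat.card (Subgroup.centralizer ({u} : Set G)) = Nat.card G :=
    Subgroup.index_mul_card _
  have hCle : Nat.card (Subgroup.centralizer ({u} : Set G)) ≤ Nat.card G :=
    Subgroup.card_le_card_group _
  rw [hf2]
  generalize (Subgroup.zpowers u).subgroupOf (Subgroup.centralizer ({u} : Set G)) = Z at *
  generalize Subgroup.centralizer ({u} : Set G) = C at *
  have hcardC : Nat.card C = Nat.card (C ⧸ Z) * q := by
    rw [← hcardZ]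
    exact Subgroup.card_eq_card_quotient_mul_card_subgroup Z
  have hlt : Nat.card (C ⧸ Z) < Nat.card G := by
    have h2 : 0 < Nat.card (C ⧸ Z) := Nat.card_pos
    nlinarith
  have hIH := IH (C ⧸ Z) hlt (Nat.gcd k (Nat.card (C ⧸ Z))) (Nat.gcd_dvd_right _ _)
  have hf3 : Nat.card {w : C ⧸ Z // w ^ k = 1}
      = Nat.card {w : C ⧸ Z // w ^ (Nat.gcd k (Nat.card (C ⧸ Z))) = 1} := by
    apply Nat.card_congr
    apply Equiv.subtypeEquivRight
    intro w
    rw [← orderOf_dvd_iff_pow_eq_one, ← orderOf_dvd_iff_pow_eq_one, Nat.dvd_gcd_iff]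
    exact ⟨fun h => ⟨h, orderOf_dvd_natCard w⟩, fun h => h.1⟩
  have hk1 : k ∣ C.index * Nat.card (C ⧸ Z) := by
    have h1 : q * k ∣ (C.index * Nat.card (C ⧸ Z)) * q := by
      rw [mul_assoc, ← hcardC, hidx]
      exact hdvd
    rw [mul_comm q k] at h1
    exact Nat.dvd_of_mul_dvd_mul_right (by omega) h1
  have hk2 : k ∣ C.index * Nat.gcd k (Nat.card (C ⧸ Z)) := by
    rw [← Nat.gcd_mul_left]
    exact Nat.dvd_gcd (Dvd.intro_left _ rfl) hk1
  rw [hf3]
  exact hk2.trans (Nat.mul_dvd_mul_left _ hIH)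

/-- The `p'`-part `k` divides the number of elements killed by `p^(a+1) k` but not by
`p^a k`, assuming Frobenius' theorem for all smaller groups. -/
lemma k_dvd_card_X [Finite G]
    (IH : ∀ (H : Type u) [Group H] [Finite H], Nat.card H < Nat.card G →
      ∀ d, d ∣ Nat.card H → d ∣ Nat.card {h : H // h ^ d = 1})
    (p a k : ℕ) (hp : p.Prime) (hk : ¬ p ∣ k) (hdvd : p ^ (a + 1) * k ∣ Nat.card G) :
    k ∣ Nat.card {g : G // g ^ (p ^ (a + 1) * k) = 1 ∧ g ^ (p ^ a * k) ≠ 1} := by
  classical
  let _ : Fintype G := Fintype.ofFinite G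
  have hqk : Nat.Coprime (p ^ (a + 1)) k :=
    Nat.Coprime.pow_left _ ((Nat.Prime.coprime_iff_not_dvd hp).mpr hk)
  obtain ⟨A, B, hAB⟩ : ∃ A B : ℤ, ((p ^ (a + 1) : ℕ) : ℤ) * A + k * B = 1 := by
    refine ⟨Nat.gcdA (p ^ (a + 1)) k, Nat.gcdB (p ^ (a + 1)) k, ?_⟩
    have h1 := Nat.gcd_eq_gcd_ab (p ^ (a + 1)) k
    rw [hqk.gcd_eq_one] at h1
    exact_mod_cast h1.symm
  have hsum : Nat.card {g : G // g ^ (p ^ (a + 1) * k) = 1 ∧ g ^ (p ^ a * k) ≠ 1}
      = ∑ u : G, Nat.card {g : G // (g ^ (p ^ (a + 1) * k) = 1 ∧ g ^ (p ^ a * k) ≠ 1)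
          ∧ g ^ ((k : ℤ) * B) = u} := by
    rw [Nat.card_eq_fintype_card, Fintype.card_subtype,
      Finset.card_eq_sum_card_fiberwise (f := fun g => g ^ ((k : ℤ) * B)) (t := Finset.univ)
        (fun g _ => Finset.mem_univ _)]
    apply Finset.sum_congr rfl
    intro u _
    rw [Nat.card_eq_fintype_card, Fintype.card_subtype, Finset.filter_filter]
  rw [hsum]
  apply class_sum_dvd
  · intro x u
    symm
    refine Nat.card_congr (Equiv.subtypeEquiv (MulAut.conj x).toEquiv (fun g => ?_))
    change (g ^ (p ^ (a + 1) * k) = 1 ∧ g ^ (p ^ a * k) ≠ 1) ∧ g ^ ((k : ℤ) * B) = u ↔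
      ((x * g * x⁻¹) ^ (p ^ (a + 1) * k) = 1 ∧ (x * g * x⁻¹) ^ (p ^ a * k) ≠ 1)
        ∧ (x * g * x⁻¹) ^ ((k : ℤ) * B) = x * u * x⁻¹
    rw [conj_pow, conj_pow, conj_zpow]
    simp
  · intro u
    by_cases hne : Nonempty {g : G // (g ^ (p ^ (a + 1) * k) = 1 ∧ g ^ (p ^ a * k) ≠ 1)
          ∧ g ^ ((k : ℤ) * B) = u}
    · obtain ⟨⟨g, hgT, hgu⟩⟩ := hne
      have hou : orderOf u = p ^ (a + 1) := by
        rw [← hgu]
        exact orderOf_fiber p a k hp A B hAB g hgT.1 hgT.2
      have hnd : ¬ p ^ (a + 1) ∣ p ^ a * k := by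
        intro h
        rw [pow_succ] at h
        exact hk (Nat.dvd_of_mul_dvd_mul_left (pow_pos hp.pos a) h)
      rw [card_fiber_eq (p ^ (a + 1)) (p ^ a) k A B hAB u hou hnd]
      have hq2 : 2 ≤ p ^ (a + 1) := by
        calc 2 ≤ p := hp.two_le
          _ = p ^ 1 := (pow_one p).symm
          _ ≤ p ^ (a + 1) := Nat.pow_le_pow_right hp.pos (by omega)
      exact index_mul_card_solutions_dvd IH u (p ^ (a + 1)) k hou hq2 hqk hdvd
    · rw [not_nonempty_iff] at hne
      rw [Nat.card_of_isEmpty, mul_zero]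
      exact dvd_zero k

end lemmas

/-- Frobenius' theorem, by induction on the group order. -/
theorem frob : ∀ (N : ℕ) (G : Type u) [Group G] [Finite G], Nat.card G = N →
    ∀ m, m ∣ Nat.card G → m ∣ Nat.card {g : G // g ^ m = 1} := by
  intro N
  induction N using Nat.strong_induction_on with
  | _ N ih =>
  intro G _ _ hN
  have IH : ∀ (H : Type u) [Group H] [Finite H], Nat.card H < Nat.card G →
      ∀ d, d ∣ Nat.card H → d ∣ Nat.card {h : H // h ^ d = 1} := by
    intro H _ _ hlt d hd
    exact ih (Nat.card H) (hN ▸ hlt) H rfl d hd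
  have key : ∀ d n : ℕ, n * d = Nat.card G → n ∣ Nat.card {g : G // g ^ n = 1} := by
    intro d
    induction d using Nat.strong_induction_on with
    | _ d ihd =>
    intro n hnd
    have hGpos : 0 < Nat.card G := Nat.card_pos
    have hd0 : d ≠ 0 := by
      rintro rfl
      omega
    have hn0 : n ≠ 0 := by
      rintro rfl
      omega
    by_cases hd1 : d = 1
    · subst hd1
      rw [mul_one] at hnd
      have h1 : Nat.card {g : G // g ^ n = 1} = Nat.card G := by
        apply Nat.card_congr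
        apply Equiv.subtypeUnivEquiv
        intro g
        rw [hnd]
        exact pow_card_eq_one'
      rw [h1, hnd]
    · obtain ⟨p, hp, hpd⟩ := Nat.exists_prime_and_dvd hd1
      obtain ⟨d', rfl⟩ := hpd
      have hd'0 : d' ≠ 0 := by
        rintro rfl
        simp at hd0
      have hd'lt : d' < p * d' := by
        have := hp.two_le
        have h3 : 0 < d' := Nat.pos_of_ne_zero hd'0
        nlinarith
      have h1 : n * p ∣ Nat.card {g : G // g ^ (n * p) = 1} :=
        ihd d' hd'lt (n * p) (by rw [← hnd]; ring)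
      obtain ⟨a, k, hk, rfl⟩ := Nat.exists_eq_pow_mul_and_not_dvd hn0 p hp.ne_one
      have hnp : p ^ a * k * p = p ^ (a + 1) * k := by ring
      rw [hnp] at h1
      have hdvdG : p ^ (a + 1) * k ∣ Nat.card G := by
        rw [← hnd, ← hnp]
        exact Dvd.intro d' (by ring)
      have hX1 := pow_dvd_card_X (G := G) p a k hp
      have hX2 := k_dvd_card_X IH p a k hp hk hdvdG
      have hX : p ^ a * k ∣
          Nat.card {g : G // g ^ (p ^ (a + 1) * k) = 1 ∧ g ^ (p ^ a * k) ≠ 1} :=
        Nat.Coprime.mul_dvd_of_dvd_of_dvd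
          (Nat.Coprime.pow_left _ ((Nat.Prime.coprime_iff_not_dvd hp).mpr hk)) hX1 hX2
      have hsplit : Nat.card {g : G // g ^ (p ^ (a + 1) * k) = 1}
          = Nat.card {g : G // g ^ (p ^ a * k) = 1}
            + Nat.card {g : G // g ^ (p ^ (a + 1) * k) = 1 ∧ g ^ (p ^ a * k) ≠ 1} := by
        classical
        let _ : Fintype G := Fintype.ofFinite G
        rw [Nat.card_eq_fintype_card, Nat.card_eq_fintype_card, Nat.card_eq_fintype_card,
          Fintype.card_subtype, Fintype.card_subtype, Fintype.card_subtype,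
          ← Finset.card_filter_add_card_filter_not (fun g : G => g ^ (p ^ a * k) = 1),
          Finset.filter_filter, Finset.filter_filter]
        congr 2
        ext g
        simp only [Finset.mem_filter, Finset.mem_univ, true_and]
        constructor
        · rintro ⟨_, h⟩
          exact h
        · intro h
          refine ⟨?_, h⟩
          rw [pow_succ, mul_assoc, mul_comm p k, ← mul_assoc, pow_mul, h, one_pow]
      have h2 : p ^ a * k ∣ Nat.card {g : G // g ^ (p ^ (a + 1) * k) = 1} :=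
        Dvd.dvd.trans (Dvd.intro p hnp) h1
      rw [hsplit] at h2
      exact (Nat.dvd_add_left hX).mp h2
  intro m hm
  obtain ⟨d, hd⟩ := hm
  exact key d m hd.symm

/-- Frobenius' divisibility Theorem: if m divides the order of a finite group G, then m divides the number of elements g of G with g^m = 1. -/
theorem result {G : Type*} [Group G] [Finite G] (m : ℕ) (hm : m ∣ Nat.card G) :
    m ∣ Nat.card {g : G // g ^ m = 1} := by
  exact frob (Nat.card G) G rfl m hm

end Cfsg.Agent.S3993
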