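import Mathlib
import Cfsg.Statements.S1553
import Cfsg.Agent.Lib.Helper26.OctStab

set_option autoImplicit false
open Cfsg

namespace Cfsg.Agent.S1553

open scoped Pointwise
open Cfsg.Agent.Lib.Helper26 Cfsg.Agent.Lib.Helper7

theorem mem_iff_of_smul {g : Equiv.Perm Cfsg.GolayPt} {o : Finset Cfsg.GolayPt}
    (h : g • o = o) (x : Cfsg.GolayPt) : g x ∈ o ↔ x ∈ o := by
  have h1 : g • x ∈ g • o ↔ x ∈ o := Finset.smul_mem_smul_finset_iff g
  rw [h] at h1
  exact h1

theorem smul_of_mem_iff {g : Equiv.Perm Cfsg.GolayPt} {o : Finset Cfsg.GolayPt}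
    (h : ∀ x, g x ∈ o ↔ x ∈ o) : g • o = o := by
  ext x
  rw [← Finset.inv_smul_mem_iff]
  have := h (g⁻¹ x)
  rw [← Equiv.Perm.mul_apply, mul_inv_cancel] at this
  exact this.symm

/-- The action of the octad stabiliser on the points of the octad. -/
noncomputable def resHom (o : Finset Cfsg.GolayPt) :
    ↥(Cfsg.M24 ⊓ MulAction.stabilizer (Equiv.Perm Cfsg.GolayPt) o) →* Equiv.Perm ↥o where
  toFun g := (g : Equiv.Perm Cfsg.GolayPt).subtypePerm (mem_iff_of_smul g.2.2)
  map_one' := by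
    apply Equiv.ext
    intro x
    rfl
  map_mul' a b := by
    apply Equiv.ext
    intro x
    rfl

theorem resHom_apply (o : Finset Cfsg.GolayPt)
    (g : ↥(Cfsg.M24 ⊓ MulAction.stabilizer (Equiv.Perm Cfsg.GolayPt) o)) (x : ↥o) :
    ((resHom o g) x : Cfsg.GolayPt) = (g : Equiv.Perm Cfsg.GolayPt) x := rfl

theorem card_ker_resHom (o : Finset Cfsg.GolayPt) (ho : o ∈ Cfsg.octads) :
    Nat.card (resHom o).ker = 16 := by
  rw [← (octad_pointwise o ho).1]
  apply Nat.card_congr
  refine ⟨fun g => ⟨g.1.1, g.1.2.1, ?_⟩, fun g => ⟨⟨g.1, g.2.1, ?_⟩, ?_⟩, ?_, ?_⟩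
  · show g.1.1 ∈ fixingSubgroup (Equiv.Perm Cfsg.GolayPt) (o : Set Cfsg.GolayPt)
    rw [mem_fixingSubgroup_iff]
    intro x hx
    have h1 : resHom o g.1 = 1 := g.2
    have h2 := congrArg (fun e : Equiv.Perm ↥o => ((e ⟨x, hx⟩ : ↥o) : Cfsg.GolayPt)) h1
    exact h2
  · have h1 := (mem_fixingSubgroup_iff _).mp g.2.2
    show g.1 ∈ MulAction.stabilizer (Equiv.Perm Cfsg.GolayPt) o
    rw [MulAction.mem_stabilizer_iff]
    apply smul_of_mem_iff
    intro x
    constructor
    · intro hx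
      by_contra hxo
      have h2 := h1 (g.1 x) hx
      have h3 : g.1 (g.1 x) = g.1 x := h2
      have h4 := g.1.injective h3
      rw [h4] at hx
      exact hxo hx
    · intro hx
      have h2 : g.1 x = x := h1 x hx
      rw [h2]
      exact hx
  · rw [MonoidHom.mem_ker]
    apply Equiv.ext
    intro x
    apply Subtype.ext
    have h1 := (mem_fixingSubgroup_iff _).mp g.2.2 x x.2
    exact h1
  · intro g
    rfl
  · intro g
    rfl

theorem card_range_resHom (o : Finset Cfsg.GolayPt) (ho : o ∈ Cfsg.octads) :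
    Nat.card (resHom o).range = 20160 := by
  have h1 := Subgroup.index_ker (resHom o)
  have h2 := Subgroup.card_mul_index (resHom o).ker
  rw [h1, card_ker_resHom o ho, card_octadStab o ho] at h2
  omega

theorem range_resHom (o : Finset Cfsg.GolayPt) (ho : o ∈ Cfsg.octads) :
    (resHom o).range = alternatingGroup ↥o := by
  apply Equiv.Perm.eq_alternatingGroup_of_index_eq_two
  have h1 := Subgroup.card_mul_index (resHom o).range
  have h2 : Nat.card (Equiv.Perm ↥o) = 40320 := by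
    rw [Nat.card_eq_fintype_card, Fintype.card_perm, Fintype.card_coe, ho.2]
    rfl
  rw [card_range_resHom o ho, h2] at h1
  omega

/-- The stabiliser of an octad in the group of the length-24 code induces on the octad exactly its alternating group. -/
theorem result (o : Finset Cfsg.GolayPt) (ho : o ∈ Cfsg.octads) : {e : Equiv.Perm ↥o | ∃ g : Equiv.Perm Cfsg.GolayPt, g ∈ Cfsg.M24 ∧ ∃ h : (∀ x, g x ∈ o ↔ x ∈ o), g.subtypePerm h = e} = (alternatingGroup ↥o : Set (Equiv.Perm ↥o)) := by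
  rw [← range_resHom o ho]
  ext e
  constructor
  · rintro ⟨g, hg, h, rfl⟩
    exact ⟨⟨g, hg, smul_of_mem_iff h⟩, rfl⟩
  · rintro ⟨g, rfl⟩
    exact ⟨g.1, g.2.1, mem_iff_of_smul g.2.2, rfl⟩

end Cfsg.Agent.S1553
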