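import Mathlib
import Cfsg.Statements.S1554
import Cfsg.Agent.Lib.Helper26.OctStab
import Cfsg.Agent.S1553

set_option autoImplicit false
open scoped Pointwise
open Cfsg

namespace Cfsg.Agent.S1554

open Cfsg.Agent.Lib.Helper26 Cfsg.Agent.Lib.Helper7

/-- An element of the group of the code fixing the base octad pointwise and the point of
index `4` is trivial. -/
theorem base_free {k : Equiv.Perm Cfsg.GolayPt} (hk : k ∈ fixSub 8536111)
    (h4 : k (pt 4) = pt 4) : k = 1 := by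
  have h1 : k ∈ fixSub (8388655 ||| 2 ^ 4) := by
    rw [fixSub_or _ _ (by norm_num), Subgroup.mem_inf, ← fixSub_octad]
    exact ⟨hk, h4⟩
  have h2 : (8388655 ||| 2 ^ 4 : ℕ) = 8388671 := by decide
  rw [h2, fixSub7, Subgroup.mem_bot] at h1
  exact h1

theorem pt4_not_mem : pt 4 ∉ Cfsg.Agent.Lib.Helper7.setOf 8536111 := by
  rw [mem_setOf, idx_pt (by norm_num)]
  decide

theorem card_compl_octad (o : Finset Cfsg.GolayPt) (ho : o ∈ Cfsg.octads) : oᶜ.card = 16 := by
  rw [Finset.card_compl, ho.2, Fintype.card_option, ZMod.card]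

/-- Elements fixing a set pointwise preserve its complement. -/
theorem not_mem_of_fixing {k : Equiv.Perm Cfsg.GolayPt} {o : Finset Cfsg.GolayPt}
    (hk : k ∈ fixingSubgroup (Equiv.Perm Cfsg.GolayPt) (o : Set Cfsg.GolayPt))
    {p : Cfsg.GolayPt} (hp : p ∉ o) : k p ∉ o := by
  intro h
  have h1 : k (k p) = k p := (mem_fixingSubgroup_iff _).mp hk (k p) h
  have h2 := k.injective h1
  rw [h2] at h
  exact hp h

/-- The pointwise stabiliser of the base octad is transitive on the complement. -/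
theorem base_trans {p : Cfsg.GolayPt} (hp : p ∉ Cfsg.Agent.Lib.Helper7.setOf 8536111) :
    ∃ k ∈ fixSub 8536111, k (pt 4) = p := by
  classical
  have h1 := card_eq_orbit_mul (fixSub 8536111) (pt 4)
  have h2 : (fixSub 8536111 ⊓ MulAction.stabilizer (Equiv.Perm Cfsg.GolayPt) (pt 4) :
      Subgroup (Equiv.Perm Cfsg.GolayPt)) = ⊥ := by
    rw [eq_bot_iff]
    intro k hk
    rw [Subgroup.mem_bot]
    exact base_free hk.1 hk.2
  rw [h2, Subgroup.card_bot, mul_one, card_fixSub_octad] at h1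
  have hsub : {y | ∃ g ∈ fixSub 8536111, g (pt 4) = y} ⊆
      (((Cfsg.Agent.Lib.Helper7.setOf 8536111)ᶜ : Finset Cfsg.GolayPt) : Set Cfsg.GolayPt) := by
    rintro y ⟨g, hg, rfl⟩
    rw [Finset.mem_coe, Finset.mem_compl]
    have hg' : g ∈ fixingSubgroup (Equiv.Perm Cfsg.GolayPt)
        ((Cfsg.Agent.Lib.Helper7.setOf 8536111 : Finset Cfsg.GolayPt) : Set Cfsg.GolayPt) := by
      have : g ∈ Cfsg.M24 ⊓ fixingSubgroup (Equiv.Perm Cfsg.GolayPt)
          ((Cfsg.Agent.Lib.Helper7.setOf 8536111 : Finset Cfsg.GolayPt) : Set Cfsg.GolayPt) := by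
        rw [inf_fixing_eq_fixSub]; exact hg
      exact this.2
    exact not_mem_of_fixing hg' pt4_not_mem
  have heq := Set.eq_of_subset_of_ncard_le hsub (by
    rw [Set.ncard_coe_finset, card_compl_octad _ setOf_octMask_mem, ← h1]) (Set.toFinite _)
  have hp' : p ∈ (((Cfsg.Agent.Lib.Helper7.setOf 8536111)ᶜ : Finset Cfsg.GolayPt) : Set Cfsg.GolayPt) := by
    rw [Finset.mem_coe, Finset.mem_compl]; exact hp
  rw [← heq] at hp'
  exact hp'

/-- Only the identity of the group of the code fixes the base octad pointwise and a point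
outside it. -/
theorem base_free' {k : Equiv.Perm Cfsg.GolayPt} (hk : k ∈ fixSub 8536111)
    {p : Cfsg.GolayPt} (hp : p ∉ Cfsg.Agent.Lib.Helper7.setOf 8536111) (hkp : k p = p) : k = 1 := by
  obtain ⟨g, hg, rfl⟩ := base_trans hp
  have h1 : g⁻¹ * k * g ∈ fixSub 8536111 :=
    (fixSub 8536111).mul_mem ((fixSub 8536111).mul_mem ((fixSub 8536111).inv_mem hg) hk) hg
  have h2 : (g⁻¹ * k * g) (pt 4) = pt 4 := by
    rw [Equiv.Perm.mul_apply, Equiv.Perm.mul_apply, hkp, ← Equiv.Perm.mul_apply, inv_mul_cancel]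
    rfl
  have h3 := base_free h1 h2
  calc k = g * (g⁻¹ * k * g) * g⁻¹ := by group
    _ = 1 := by rw [h3]; group

/-- Only the identity of the group of the code fixes an octad pointwise and a point
outside it. -/
theorem pointwise_free {o : Finset Cfsg.GolayPt} (ho : o ∈ Cfsg.octads)
    {k : Equiv.Perm Cfsg.GolayPt}
    (hk : k ∈ Cfsg.M24 ⊓ fixingSubgroup (Equiv.Perm Cfsg.GolayPt) (o : Set Cfsg.GolayPt))
    {p : Cfsg.GolayPt} (hp : p ∉ o) (hkp : k p = p) : k = 1 := by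
  obtain ⟨g, hg, hgo⟩ := octad_transitive setOf_octMask_mem ho
  have h1 : g⁻¹ * k * g ∈ fixSub 8536111 := by
    rw [← inf_fixing_eq_fixSub]
    refine ⟨Cfsg.M24.mul_mem (Cfsg.M24.mul_mem (Cfsg.M24.inv_mem hg) hk.1) hg, ?_⟩
    show g⁻¹ * k * g ∈ fixingSubgroup (Equiv.Perm Cfsg.GolayPt)
      ((Cfsg.Agent.Lib.Helper7.setOf 8536111 : Finset Cfsg.GolayPt) : Set Cfsg.GolayPt)
    rw [mem_fixingSubgroup_iff]
    intro x hx
    have hgx : g x ∈ o := by
      rw [← hgo]
      exact Finset.smul_mem_smul_finset (Finset.mem_coe.mp hx)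
    have h2 : k (g x) = g x := (mem_fixingSubgroup_iff _).mp hk.2 (g x) (Finset.mem_coe.mpr hgx)
    show (g⁻¹ * k * g) x = x
    rw [Equiv.Perm.mul_apply, Equiv.Perm.mul_apply, h2, ← Equiv.Perm.mul_apply, inv_mul_cancel]
    rfl
  have hp' : g⁻¹ p ∉ Cfsg.Agent.Lib.Helper7.setOf 8536111 := by
    intro h
    apply hp
    rw [← hgo]
    have := Finset.smul_mem_smul_finset (a := g) h
    rw [Equiv.Perm.smul_def, ← Equiv.Perm.mul_apply, mul_inv_cancel] at this
    exact this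
  have h2 : (g⁻¹ * k * g) (g⁻¹ p) = g⁻¹ p := by
    rw [Equiv.Perm.mul_apply, Equiv.Perm.mul_apply, ← Equiv.Perm.mul_apply g, mul_inv_cancel,
      Equiv.Perm.one_apply, hkp]
  have h3 := base_free' h1 hp' h2
  calc k = g * (g⁻¹ * k * g) * g⁻¹ := by group
    _ = 1 := by rw [h3]; group

/-- The pointwise stabiliser of an octad is transitive on the complement. -/
theorem pointwise_trans {o : Finset Cfsg.GolayPt} (ho : o ∈ Cfsg.octads)
    {p q : Cfsg.GolayPt} (hp : p ∉ o) (hq : q ∉ o) :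
    ∃ k ∈ Cfsg.M24 ⊓ fixingSubgroup (Equiv.Perm Cfsg.GolayPt) (o : Set Cfsg.GolayPt), k p = q := by
  classical
  set K := Cfsg.M24 ⊓ fixingSubgroup (Equiv.Perm Cfsg.GolayPt) (o : Set Cfsg.GolayPt) with hK
  have h1 := card_eq_orbit_mul K p
  have h2 : (K ⊓ MulAction.stabilizer (Equiv.Perm Cfsg.GolayPt) p :
      Subgroup (Equiv.Perm Cfsg.GolayPt)) = ⊥ := by
    rw [eq_bot_iff]
    intro k hk
    rw [Subgroup.mem_bot]
    exact pointwise_free ho hk.1 hp hk.2
  rw [h2, Subgroup.card_bot, mul_one, (octad_pointwise o ho).1] at h1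
  have hsub : {y | ∃ g ∈ K, g p = y} ⊆ ((oᶜ : Finset Cfsg.GolayPt) : Set Cfsg.GolayPt) := by
    rintro y ⟨g, hg, rfl⟩
    rw [Finset.mem_coe, Finset.mem_compl]
    exact not_mem_of_fixing hg.2 hp
  have heq := Set.eq_of_subset_of_ncard_le hsub (by
    rw [Set.ncard_coe_finset, card_compl_octad _ ho, ← h1]) (Set.toFinite _)
  have hq' : q ∈ ((oᶜ : Finset Cfsg.GolayPt) : Set Cfsg.GolayPt) := by
    rw [Finset.mem_coe, Finset.mem_compl]; exact hq
  rw [← heq] at hq'
  exact hq'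

/-- An octad stabiliser is a split extension: the joint stabiliser of the octad and a point outside it is a complement to the pointwise stabiliser of the octad, and is isomorphic to the alternating group of degree 8. -/
theorem result (o : Finset Cfsg.GolayPt) (ho : o ∈ Cfsg.octads) (p : Cfsg.GolayPt) (hp : p ∉ o) : (Cfsg.M24 ⊓ fixingSubgroup (Equiv.Perm Cfsg.GolayPt) (o : Set Cfsg.GolayPt)) ⊓ (Cfsg.M24 ⊓ MulAction.stabilizer (Equiv.Perm Cfsg.GolayPt) o ⊓ MulAction.stabilizer (Equiv.Perm Cfsg.GolayPt) p) = ⊥ ∧ (Cfsg.M24 ⊓ fixingSubgroup (Equiv.Perm Cfsg.GolayPt) (o : Set Cfsg.GolayPt)) ⊔ (Cfsg.M24 ⊓ MulAction.stabilizer (Equiv.Perm Cfsg.GolayPt) o ⊓ MulAction.stabilizer (Equiv.Perm Cfsg.GolayPt) p) = (Cfsg.M24 ⊓ MulAction.stabilizer (Equiv.Perm Cfsg.GolayPt) o) ∧ Nonempty (↥(Cfsg.M24 ⊓ MulAction.stabilizer (Equiv.Perm Cfsg.GolayPt) o ⊓ MulAction.stabilizer (Equiv.Perm Cfsg.GolayPt) p) ≃* alternatingGroup (Fin 8)) := by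
  classical
  set K := Cfsg.M24 ⊓ fixingSubgroup (Equiv.Perm Cfsg.GolayPt) (o : Set Cfsg.GolayPt) with hK
  set H := Cfsg.M24 ⊓ MulAction.stabilizer (Equiv.Perm Cfsg.GolayPt) o with hH
  set L := H ⊓ MulAction.stabilizer (Equiv.Perm Cfsg.GolayPt) p with hL
  have hKH : K ≤ H := by
    intro k hk
    refine ⟨hk.1, ?_⟩
    show k ∈ MulAction.stabilizer (Equiv.Perm Cfsg.GolayPt) o
    rw [MulAction.mem_stabilizer_iff]
    apply Cfsg.Agent.S1553.smul_of_mem_iff
    intro x
    constructor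
    · intro hx
      by_contra hxo
      exact not_mem_of_fixing hk.2 hxo hx
    · intro hx
      have : k x = x := (mem_fixingSubgroup_iff _).mp hk.2 x hx
      rw [this]
      exact hx
  have hLH : L ≤ H := inf_le_left
  have hdec : ∀ h ∈ H, ∃ k ∈ K, k⁻¹ * h ∈ L := by
    intro h hh
    have hhp : h p ∉ o := by
      intro hc
      exact hp ((Cfsg.Agent.S1553.mem_iff_of_smul hh.2 p).mp hc)
    obtain ⟨k, hk, hkp⟩ := pointwise_trans ho hp hhp
    refine ⟨k, hk, H.mul_mem (H.inv_mem (hKH hk)) hh, ?_⟩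
    show k⁻¹ * h ∈ MulAction.stabilizer (Equiv.Perm Cfsg.GolayPt) p
    rw [MulAction.mem_stabilizer_iff, Equiv.Perm.smul_def, Equiv.Perm.mul_apply, ← hkp,
      ← Equiv.Perm.mul_apply, inv_mul_cancel]
    rfl
  refine ⟨?_, ?_, ?_⟩
  · rw [eq_bot_iff]
    intro k hk
    rw [Subgroup.mem_bot]
    exact pointwise_free ho hk.1 hp hk.2.2
  · apply le_antisymm (sup_le hKH hLH)
    intro h hh
    obtain ⟨k, hk, hl⟩ := hdec h hh
    have : h = k * (k⁻¹ * h) := by group
    rw [this]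
    exact Subgroup.mul_mem_sup hk hl
  · let ψ : ↥L →* Equiv.Perm ↥o := (Cfsg.Agent.S1553.resHom o).comp (Subgroup.inclusion hLH)
    have hinj : Function.Injective ψ := by
      rw [injective_iff_map_eq_one]
      intro l hl
      have hfix : (l : Equiv.Perm Cfsg.GolayPt) ∈ K := by
        refine ⟨l.2.1.1, ?_⟩
        show (l : Equiv.Perm Cfsg.GolayPt) ∈
          fixingSubgroup (Equiv.Perm Cfsg.GolayPt) (o : Set Cfsg.GolayPt)
        rw [mem_fixingSubgroup_iff]
        intro x hx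
        have := congrArg (fun e : Equiv.Perm ↥o => ((e ⟨x, hx⟩ : ↥o) : Cfsg.GolayPt)) hl
        exact this
      have := pointwise_free ho hfix hp l.2.2
      exact Subtype.ext this
    have hrange : ψ.range = alternatingGroup ↥o := by
      rw [← Cfsg.Agent.S1553.range_resHom o ho]
      apply le_antisymm
      · rintro e ⟨l, rfl⟩
        exact ⟨Subgroup.inclusion hLH l, rfl⟩
      · rintro e ⟨h, rfl⟩
        obtain ⟨k, hk, hl⟩ := hdec h.1 h.2
        refine ⟨⟨k⁻¹ * h.1, hl⟩, ?_⟩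
        apply Equiv.ext
        intro x
        apply Subtype.ext
        show (k⁻¹ * h.1) x = h.1 x
        rw [Equiv.Perm.mul_apply]
        have hkx : k (h.1 x) = h.1 x :=
          (mem_fixingSubgroup_iff _).mp hk.2 _ ((Cfsg.Agent.S1553.mem_iff_of_smul h.2.2 x).mpr x.2)
        rw [Equiv.Perm.inv_eq_iff_eq]
        exact hkx.symm
    have e1 : ↥L ≃* ψ.range := MonoidHom.ofInjective hinj
    have e2 : ψ.range ≃* alternatingGroup ↥o := MulEquiv.subgroupCongr hrange
    have e3 : alternatingGroup ↥o ≃* alternatingGroup (Fin 8) :=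
      Equiv.altCongrHom (Fintype.equivFinOfCardEq (by rw [Fintype.card_coe, ho.2]))
    exact ⟨(e1.trans e2).trans e3⟩

end Cfsg.Agent.S1554
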