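import Cfsg.Statements.S0887
import Cfsg.Agent.S0179
import Cfsg.Agent.Lib.Helper75.CentExt2

set_option autoImplicit false
open Cfsg

namespace Cfsg.Agent.S0887

/-- Let N be a normal subgroup of the finite group G, χ an irreducible character of G and ϑ an irreducible character of N having nonzero inner product with the restriction of χ. If χ 1 = c and ϑ 1 = d as natural numbers, then d divides c and c / d divides the index of N. -/
theorem result {G : Type*} [Group G] [Fintype G] (N : Subgroup G) [N.Normal] [Fintype N] (χ : G → ℂ) (hχ : Cfsg.IsIrrCharacter G χ) (ϑ : N → ℂ) (hϑ : Cfsg.IsIrrCharacter N ϑ) (hcon : Cfsg.classInner (fun n : N => χ n) ϑ ≠ 0) (c d : ℕ) (hc : χ 1 = c) (hd : ϑ 1 = d) : d ∣ c ∧ c / d ∣ N.index := by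
  have hcenter : ∀ (H : Type _) [Group H] [Finite H] (n : ℕ)
      (ρ : Representation ℂ H (Fin n → ℂ)), ρ.IsIrreducible → n ∣ (Subgroup.center H).index := by
    intro H _ _ n ρ hρ
    have hρ' : ρ.IsIrreducible := hρ
    have := Cfsg.Agent.S0179.result ρ
    rwa [Module.finrank_fin_fun] at this
  have hc' : Cfsg.charDegree χ = c := by
    have := Cfsg.Agent.Lib.Helper80.char_one_eq_charDegree
      (Cfsg.Agent.Lib.Helper3.isCharacter_of_irr hχ)
    rw [hc] at this
    exact_mod_cast this.symm
  have hd' : Cfsg.charDegree ϑ = d := by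
    have := Cfsg.Agent.Lib.Helper80.char_one_eq_charDegree
      (Cfsg.Agent.Lib.Helper3.isCharacter_of_irr hϑ)
    rw [hd] at this
    exact_mod_cast this.symm
  have key := Cfsg.Agent.Lib.Helper75.degree_dvd_index N hcenter hχ hϑ hcon
  rw [hc', hd'] at key
  exact key

end Cfsg.Agent.S0887
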