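import Cfsg.Statements.S4127
import Cfsg.Agent.S4035
import Cfsg.Agent.Lib.Helper69.PLocal

set_option autoImplicit false
open Cfsg

namespace Cfsg.Agent.S4127

open Cfsg.Agent.Lib.Helper69 Subgroup

/-- Let G be a finite group, p a prime and p^a the largest power of p dividing the size of any conjugacy class of G. If some element of p-power order has a conjugacy class of size exactly p^a, then G has a normal p-complement. -/
theorem result {G : Type*} [Group G] [Finite G] (p : ℕ) [Fact p.Prime]
    (a : ℕ) (hmax : ∀ y : G, ¬ p ^ (a + 1) ∣ (Subgroup.centralizer ({y} : Set G)).index)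
    (hx : ∃ x : G, (∃ k : ℕ, orderOf x = p ^ k) ∧ (Subgroup.centralizer ({x} : Set G)).index = p ^ a) :
    Cfsg.HasNormalPComplement p G := by
  have hp : p.Prime := Fact.out
  obtain ⟨x, hxp, hxa⟩ := hx
  set C := centralizer ({x} : Set G) with hC
  -- Step 1: in `C`, classes of `p'`-elements have size prime to `p`.
  have h1 : ∀ y : C, (orderOf y).Coprime p → ¬ p ∣ (ConjClasses.mk y).carrier.ncard := by
    intro y hy hdvd
    rw [Cfsg.Agent.S4035.ncard_carrier_eq_index] at hdvd
    have h2 : centralizer ({y} : Set C) = (centralizer ({(y : G)} : Set G)).subgroupOf C := by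
      ext g
      simp only [mem_centralizer_singleton_iff, mem_subgroupOf]
      constructor
      · intro h
        have := congrArg Subtype.val h
        simpa using this
      · intro h
        exact Subtype.ext (by simpa using h)
    rw [h2] at hdvd
    have hyG : (orderOf (y : G)).Coprime p := by rwa [Subgroup.orderOf_coe]
    have hcomm : Commute x (y : G) := by
      have := mem_centralizer_singleton_iff.mp y.2
      exact this.symm
    have h3 := centralizer_mul_of_coprime p x (y : G) hcomm hxp hyG
    have h4 : (centralizer ({x * (y : G)} : Set G)).index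
        = (centralizer ({(y : G)} : Set G)).relIndex C * C.index := by
      rw [h3, ← inf_relIndex_left, relIndex_mul_index inf_le_left]
    apply hmax (x * (y : G))
    rw [h4, hxa, pow_succ']
    exact mul_dvd_mul hdvd dvd_rfl
  -- Step 2: structure of `C`
  let P : Sylow p C := default
  obtain ⟨hPn, H, hHn, hHp, hPH, hPHtop⟩ := Cfsg.Agent.S4035.result h1 P
  have hHcop : (Nat.card H).Coprime p := (hp.coprime_iff_not_dvd.mpr hHp).symm
  have hcommPH : ∀ z ∈ (P : Subgroup C), ∀ h ∈ H, z * h = h * z := by
    intro z hz h hh
    exact (Subgroup.commute_of_normal_of_disjoint _ _ hPn hHn (disjoint_iff.mpr hPH) z h hz hh).eq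
  have hmap : (P : Subgroup C).map (QuotientGroup.mk' H) = ⊤ := by
    have := Subgroup.map_sup (P : Subgroup C) H (QuotientGroup.mk' H)
    rw [hPHtop, Subgroup.map_top_of_surjective _ (QuotientGroup.mk'_surjective H),
      QuotientGroup.map_mk'_self H, sup_bot_eq] at this
    exact this.symm
  have hq : IsPGroup p (C ⧸ H) := by
    intro g
    have hg : g ∈ (P : Subgroup C).map (QuotientGroup.mk' H) := by rw [hmap]; trivial
    obtain ⟨z, hz, rfl⟩ := hg
    obtain ⟨j, hj⟩ := P.isPGroup' ⟨z, hz⟩
    refine ⟨j, ?_⟩
    have : z ^ p ^ j = 1 := by simpa using congrArg Subtype.val hj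
    rw [← map_pow, this, map_one]
  have hmemH : ∀ y : C, (orderOf y).Coprime p → y ∈ H := by
    intro y hy
    obtain ⟨j, hj⟩ := hq (QuotientGroup.mk y)
    have h6 : orderOf (QuotientGroup.mk y : C ⧸ H) ∣ p ^ j := orderOf_dvd_of_pow_eq_one hj
    have h7 : orderOf (QuotientGroup.mk y : C ⧸ H) ∣ orderOf y :=
      orderOf_map_dvd (QuotientGroup.mk' H) y
    have h8 : orderOf (QuotientGroup.mk y : C ⧸ H) = 1 :=
      Nat.eq_one_of_dvd_coprimes (Nat.Coprime.pow_right j hy) h7 h6
    exact (QuotientGroup.eq_one_iff y).mp (orderOf_eq_one_iff.mp h8)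
  -- Step 3: the candidate complement
  let K : Subgroup G := H.map C.subtype
  have hKcard : Nat.card K = Nat.card H := Subgroup.card_map_of_injective (Subgroup.subtype_injective _)
  have hKidx : ∃ m : ℕ, K.index = p ^ m := by
    obtain ⟨n, hn⟩ := (IsPGroup.iff_card).mp hq
    refine ⟨n + a, ?_⟩
    have : K.index = H.index * C.index := Subgroup.index_map_subtype H
    rw [this, hxa, Subgroup.index_eq_card, hn, pow_add]
  have hNp : IsPGroup p (normalClosure ({x} : Set G)) := isPGroup_normalClosure p x hxp ⟨a, hxa⟩
  have hxN : x ∈ normalClosure ({x} : Set G) := subset_normalClosure (Set.mem_singleton x)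
  have hKn : K.Normal := by
    constructor
    intro k hk g
    obtain ⟨h, hh, rfl⟩ := hk
    have hhord : (orderOf (h : G)).Coprime p := by
      rw [Subgroup.orderOf_coe]
      have h5 : orderOf (⟨h, hh⟩ : H) ∣ Nat.card H := orderOf_dvd_natCard _
      rw [Subgroup.orderOf_mk] at h5
      exact Nat.Coprime.coprime_dvd_left h5 hHcop
    have hxh : x * (h : G) = (h : G) * x := by
      have := mem_centralizer_singleton_iff.mp h.2
      exact this.symm
    have hcent : ∀ u ∈ normalClosure ({x} : Set G), u * (h : G) = (h : G) * u := by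
      apply coprime_centralizes p (normalClosure {x}) hNp (h : G)
      · intro u hu
        exact (normalClosure_normal (s := ({x} : Set G))).conj_mem u hu _
      · exact hhord
      · exact hxN
      · exact hxh
      · intro z hz hzx
        have hzC : z ∈ C := by
          rw [hC, mem_centralizer_singleton_iff]
          exact hzx
        have hzP : (⟨z, hzC⟩ : C) ∈ (P : Subgroup C) := by
          obtain ⟨j, hj⟩ := hNp ⟨z, hz⟩
          have hzj : z ^ p ^ j = 1 := by simpa using congrArg Subtype.val hj
          have hzp : IsPGroup p (zpowers (⟨z, hzC⟩ : C)) := by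
            obtain ⟨i, -, hi⟩ := (Nat.dvd_prime_pow hp).mp
              (orderOf_dvd_of_pow_eq_one (show (⟨z, hzC⟩ : C) ^ p ^ j = 1 from Subtype.ext hzj))
            exact IsPGroup.of_card (n := i) (by rw [Nat.card_zpowers, hi])
          obtain ⟨Q, hQ⟩ := hzp.exists_le_sylow
          have huniq := Sylow.unique_of_normal P hPn
          have hQP : Q = P := Subsingleton.elim _ _
          rw [← hQP]
          exact hQ (mem_zpowers _)
        have := hcommPH ⟨z, hzC⟩ hzP h hh
        have := congrArg Subtype.val this
        simpa using this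
    have hgx : g * (h : G) * g⁻¹ ∈ C := by
      apply mem_centralizer_singleton_iff.mpr
      have h9 := hcent (g⁻¹ * x * g) (by
        have := (normalClosure_normal (s := ({x} : Set G))).conj_mem x hxN g⁻¹
        simpa using this)
      calc g * (h : G) * g⁻¹ * x = g * ((h : G) * (g⁻¹ * x * g)) * g⁻¹ := by group
        _ = g * ((g⁻¹ * x * g) * (h : G)) * g⁻¹ := by rw [h9]
        _ = x * (g * (h : G) * g⁻¹) := by group
    have hord : (orderOf (⟨g * (h : G) * g⁻¹, hgx⟩ : C)).Coprime p := by
      rw [Subgroup.orderOf_mk]
      have : orderOf (h : G) = orderOf (g * (h : G) * g⁻¹) :=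
        SemiconjBy.orderOf_eq g (by unfold SemiconjBy; group)
      rw [← this]
      exact hhord
    exact ⟨⟨g * (h : G) * g⁻¹, hgx⟩, hmemH _ hord, rfl⟩
  exact hasNormalPComplement_of p K (by rw [hKcard]; exact hHcop) hKidx

end Cfsg.Agent.S4127
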