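import Cfsg.Statements.S3779
import Cfsg.Agent.S0033
import Cfsg.Agent.Lib.Helper34.GradedLie
import Cfsg.Agent.Lib.Helper34.ConvLie
import Cfsg.Agent.Lib.Helper34.LcsLie

set_option autoImplicit false
open Cfsg

namespace Cfsg.Agent.S3779

open Cfsg.Agent.Lib.Helper34

/-- a group with a fixed-point-free automorphism of prime order `p` has order prime to `p` -/
theorem card_coprime_of_fpf {G : Type*} [Group G] [Finite G] {p : ℕ} (hp : p.Prime)
    (α : MulAut G) (hα : orderOf α = p) (hfpf : ∀ g : G, α g = g → g = 1) :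
    (Nat.card G).Coprime p := by
  have : Fact p.Prime := ⟨hp⟩
  apply Nat.Coprime.symm
  rw [Nat.Prime.coprime_iff_not_dvd hp]
  intro hdvd
  have hP : IsPGroup p (Subgroup.zpowers α) := by
    apply IsPGroup.of_card (n := 1)
    rw [Nat.card_zpowers, hα, pow_one]
  have h1 : (1 : G) ∈ MulAction.fixedPoints (Subgroup.zpowers α) G := by
    intro β
    show (β : MulAut G) (1 : G) = 1
    exact map_one _
  obtain ⟨b, hb, hne⟩ := hP.exists_fixed_point_of_prime_dvd_card_of_fixed_point G hdvd h1
  apply hne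
  have h2 : α b = b := hb ⟨α, Subgroup.mem_zpowers α⟩
  exact (hfpf b h2).symm

/-- the Lie ring method: a class bound valid for all `ZMod p`-graded families in
`L(G)[ZMod p]` with trivial zero component holds for `G`. -/
theorem main {G : Type*} [Group G] [Finite G] {p : ℕ} [Fact p.Prime] (α : MulAut G)
    (hα : orderOf α = p) (hfpf : ∀ g : G, α g = g → g = 1) (c : ℕ)
    (hc : ∀ L' : GFam p (Conv p (LL G)), lcsA L'.tot c = ⊥) :
    (⊤ : Subgroup G).lowerCentralSeries c = ⊥ := by
  have hp : p.Prime := Fact.out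
  have hnil : Group.IsNilpotent G :=
    Cfsg.Agent.S0033.result α (fun g hg => hfpf g hg) p hp hα
  have hpow : α ^ p = 1 := by rw [← hα]; exact pow_orderOf_eq_one α
  have hcop := card_coprime_of_fpf hp α hα hfpf
  have h1 : lcsA (⊤ : AddSubgroup (LL G)) c = ⊥ :=
    conv_transfer (p := p) (autL α) (autL_lie α) (autL_fpf α hfpf) (autL_per α hpow)
      (fun x hx => LL_tor hcop x hx) c (hc _)
  exact gam_eq_bot_of_lcsA c h1

/-- Let G be a finite group with an automorphism of prime order p fixing only the identity. Then G is nilpotent; if p = 2 then G is abelian, if p = 3 then G has class at most 2, and in general the class of G is at most ξ = 1 + (p−1) + (p−1)² + ⋯ + (p−1)^(n−1) with n = 2^(p−1) − 1 (the Higman–Kreknin–Kostrikin bound). -/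
theorem result {G : Type*} [Group G] [Finite G] {p : ℕ} (hp : p.Prime) (α : MulAut G) (hα : orderOf α = p) (hfpf : ∀ g : G, α g = g → g = 1) : (p = 2 → (⊤ : Subgroup G).lowerCentralSeries 1 = ⊥) ∧ (p = 3 → (⊤ : Subgroup G).lowerCentralSeries 2 = ⊥) ∧ (⊤ : Subgroup G).lowerCentralSeries (Finset.sum (Finset.range (2 ^ (p - 1) - 1)) (fun i => (p - 1) ^ i)) = ⊥ := by
  have : Fact p.Prime := ⟨hp⟩
  have h3 : (⊤ : Subgroup G).lowerCentralSeries
      (Finset.sum (Finset.range (2 ^ (p - 1) - 1)) (fun i => (p - 1) ^ i)) = ⊥ :=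
    main α hα hfpf _ (fun L' => hkk_bound L')
  refine ⟨?_, ?_, h3⟩
  · intro h2
    subst h2
    simpa using h3
  · intro h2
    subst h2
    exact main α hα hfpf 2 (fun L' => class_three L')

end Cfsg.Agent.S3779
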