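import Cfsg.Statements.S1351
import Cfsg.Agent.Lib.Helper23.BG.S1351Core
import Cfsg.Agent.Lib.Helper2.BG.PartnerClosed
import Cfsg.Agent.S1350
import Cfsg.Agent.S1375
import Cfsg.Agent.S1377
import Cfsg.Agent.S1378
import Cfsg.Agent.S1429
import Cfsg.Agent.S1430
import Cfsg.Agent.S1431
import Cfsg.Agent.S1432
import Cfsg.Agent.S1433

set_option autoImplicit false
open Cfsg

namespace Cfsg.Agent.S1351

/-- Let G be a minimal simple group of odd order and M a maximal subgroup. Then M possesses a Hall κ(M)-subgroup, and every Hall κ(M)-subgroup of M is cyclic. -/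
theorem result {G : Type*} [Group G] [Finite G] (hG : Cfsg.IsMinSimpleOddOrder G)
    (M : Subgroup G) (hM : IsCoatom M) :
    (∃ K : Subgroup G, Cfsg.IsPiHallOf (Cfsg.kappa M) K M) ∧
      ∀ K : Subgroup G, Cfsg.IsPiHallOf (Cfsg.kappa M) K M → IsCyclic K :=
  Cfsg.Agent.Lib.Helper23.BG.s1351_core hG Cfsg.Agent.Lib.Helper2.BG47.partner_exists
    Cfsg.Agent.Lib.Helper2.BG47.lemT2_closed
    (Cfsg.Agent.S1350.result hG) (Cfsg.Agent.S1375.result hG) (Cfsg.Agent.S1377.result hG)
    (Cfsg.Agent.S1378.result hG) (Cfsg.Agent.S1429.result hG) (Cfsg.Agent.S1430.result hG)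
    (Cfsg.Agent.S1431.result hG) (Cfsg.Agent.S1432.result hG) (Cfsg.Agent.S1433.result hG) M hM

end Cfsg.Agent.S1351
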