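import Cfsg.Statements.S1439
import Cfsg.Agent.Lib.Helper67.BG.S1439Core
import Cfsg.Agent.S1350
import Cfsg.Agent.S1405
import Cfsg.Agent.S1409
import Cfsg.Agent.S1417
import Cfsg.Agent.S1420

set_option autoImplicit false

namespace Cfsg.Agent.S1439

theorem result {G : Type*} [Group G] [Finite G] (hG : Cfsg.IsMinSimpleOddOrder G)
    (M : Subgroup G) (hM : IsCoatom M) :
    IsCyclic ↥(Cfsg.piCoreOf {q | q.Prime ∧ q ∉ Cfsg.sigma M} (Cfsg.fittingOf M)) ∧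
      (∀ p : ℕ, p.Prime → p ∣ Nat.card ↥(Cfsg.piCoreOf {q | q.Prime ∧ q ∉ Cfsg.sigma M} (Cfsg.fittingOf M)) → p ∈ Cfsg.tau2 M) ∧
      Cfsg.fittingOf M = Cfsg.fittingOf (Cfsg.sigmaCore M) ⊔ Cfsg.piCoreOf {q | q.Prime ∧ q ∉ Cfsg.sigma M} (Cfsg.fittingOf M) :=
  Cfsg.Agent.Lib.Helper67.BG.s1439_core hG (Cfsg.Agent.S1350.result hG) (Cfsg.Agent.S1405.result hG)
    (Cfsg.Agent.S1409.result hG) (Cfsg.Agent.S1417.result hG) (Cfsg.Agent.S1420.result hG) M hM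

end Cfsg.Agent.S1439
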