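import Cfsg.Statements.S1357
import Cfsg.Agent.Lib.Helper67.BG.S1357CoreB
import Cfsg.Agent.S1350
import Cfsg.Agent.S1423
import Cfsg.Agent.S1426
import Cfsg.Agent.S1437

set_option autoImplicit false

namespace Cfsg.Agent.S1357

theorem result {G : Type*} [Group G] [Finite G] (hG : Cfsg.IsMinSimpleOddOrder G)
    (M : Subgroup G) (hM : IsCoatom M) (K U : Subgroup G) (hKU : Cfsg.IsSigmaDecomposition M K U) (hne : Cfsg.fittingHallOf M ≠ Cfsg.sigmaCore M) :
    U = ⊥ ∧ Cfsg.IsTISubset (Cfsg.fittingOf M : Set G) ∧ (Nat.card K).Prime :=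
  Cfsg.Agent.Lib.Helper67.BG.s1357_core_b hG (Cfsg.Agent.S1350.result hG) (Cfsg.Agent.S1423.result hG)
    (Cfsg.Agent.S1426.result hG) (Cfsg.Agent.S1437.result hG) M hM K U hKU hne

end Cfsg.Agent.S1357
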