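import Cfsg.Statements.S1435
import Cfsg.Agent.Lib.Helper96.BG.S1435Core
import Cfsg.Agent.S1350
import Cfsg.Agent.S1353
import Cfsg.Agent.S1355
import Cfsg.Agent.S1364
import Cfsg.Agent.S1367
import Cfsg.Agent.S1368
import Cfsg.Agent.S1369
import Cfsg.Agent.S1378
import Cfsg.Agent.S1405
import Cfsg.Agent.S1408
import Cfsg.Agent.S1414
import Cfsg.Agent.S1417
import Cfsg.Agent.S1418
import Cfsg.Agent.S1420
import Cfsg.Agent.S1425
import Cfsg.Agent.S1429
import Cfsg.Agent.S1430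
import Cfsg.Agent.S1431
import Cfsg.Agent.S1436

set_option autoImplicit false
open Cfsg

namespace Cfsg.Agent.S1435

/-- Let G be a minimal simple group of odd order, M a maximal subgroup with standard factorisation M = K U M_σ, K ≠ 1, U ≠ 1, K* = M_σ ∩ C_G(K), M* a maximal subgroup with K = M*_σ ∩ C_G(K*) and K* a Hall κ(M*)-subgroup of M*, r a prime dividing the order of U, R a Sylow r-subgroup of U, and H a maximal subgroup containing N_G(R). Then κ(H) is empty, U ≤ H_σ, M ∩ H = U ⊔ K, H ∩ N_G(U) ⊄ M, K ≤ F(H ∩ M*), and H ∩ M* is a complement to H_σ in H. -/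
theorem result {G : Type*} [Group G] [Finite G] (hG : Cfsg.IsMinSimpleOddOrder G)
    (M : Subgroup G) (hM : IsCoatom M) (K U : Subgroup G) (hKU : Cfsg.IsSigmaDecomposition M K U) (hK1 : K ≠ ⊥) (hU1 : U ≠ ⊥) (Mstar : Subgroup G) (hMstar : IsCoatom Mstar)
    (hKst : K = Cfsg.sigmaCore Mstar ⊓ Subgroup.centralizer ((Cfsg.sigmaCore M ⊓ Subgroup.centralizer (K : Set G)) : Set G))
    (hKstH : Cfsg.IsPiHallOf (Cfsg.kappa Mstar) (Cfsg.sigmaCore M ⊓ Subgroup.centralizer (K : Set G)) Mstar)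
    (r : ℕ) [Fact r.Prime] (hr : r ∣ Nat.card U) (R : Sylow r U) (H : Subgroup G) (hH : IsCoatom H)
    (hNR : Subgroup.normalizer (((R : Subgroup U).map U.subtype : Subgroup G) : Set G) ≤ H) :
    Cfsg.kappa H = ∅ ∧ U ≤ Cfsg.sigmaCore H ∧ M ⊓ H = U ⊔ K ∧ ¬ H ⊓ Subgroup.normalizer (U : Set G) ≤ M ∧
      K ≤ Cfsg.fittingOf (H ⊓ Mstar) ∧ Cfsg.IsComplIn (H ⊓ Mstar) (Cfsg.sigmaCore H) H := by
  exact Cfsg.Agent.Lib.Helper96.BG.s1435_core hG
    (Cfsg.Agent.S1350.result hG) (Cfsg.Agent.S1353.result hG) (Cfsg.Agent.S1355.result hG)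
    (Cfsg.Agent.S1364.result hG) (Cfsg.Agent.S1367.result hG) (Cfsg.Agent.S1368.result hG)
    (Cfsg.Agent.S1369.result hG) (Cfsg.Agent.S1378.result hG) (Cfsg.Agent.S1405.result hG)
    (Cfsg.Agent.S1408.result hG) (Cfsg.Agent.S1414.result hG) (Cfsg.Agent.S1417.result hG)
    (Cfsg.Agent.S1418.result hG) (Cfsg.Agent.S1420.result hG) (Cfsg.Agent.S1425.result hG)
    (Cfsg.Agent.S1429.result hG) (Cfsg.Agent.S1430.result hG) (Cfsg.Agent.S1431.result hG)
    (Cfsg.Agent.S1436.result hG)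
    M hM K U hKU hK1 hU1 Mstar hMstar hKst hKstH r hr R H hH hNR

end Cfsg.Agent.S1435
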