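import Cfsg.Statements.S1537
import Cfsg.Agent.S1350
import Cfsg.Agent.S1351
import Cfsg.Agent.S1352
import Cfsg.Agent.S1354
import Cfsg.Agent.S1355
import Cfsg.Agent.S1361
import Cfsg.Agent.S1362
import Cfsg.Agent.S1364
import Cfsg.Agent.S1365
import Cfsg.Agent.S1370
import Cfsg.Agent.S1371
import Cfsg.Agent.S1374
import Cfsg.Agent.S1375
import Cfsg.Agent.S1378
import Cfsg.Agent.S1382
import Cfsg.Agent.S1403
import Cfsg.Agent.S1436
import Cfsg.Agent.S1437
import Cfsg.Agent.Lib.Helper65.BG.S1537Closed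

set_option autoImplicit false
open Cfsg

namespace Cfsg.Agent.S1537

/-- Let G be a minimal simple group of odd order and M a maximal subgroup. For A equal to A₁(M), A(M) or A₀(M): the set normaliser of A is M, and the Dade hypothesis holds for A, M and the function a ↦ R(a). -/
theorem result {G : Type*} [Group G] [Finite G] (hG : Cfsg.IsMinSimpleOddOrder G) (M : Subgroup G) (hM : IsCoatom M) (A : Set G) (hA : A = Cfsg.typeA1 M ∨ A = Cfsg.typeA M ∨ A = Cfsg.typeA0 M) : Subgroup.normalizer A = M ∧ Cfsg.DadeHypothesis A M (Cfsg.supportR M) :=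
  Cfsg.Agent.Lib.Helper65.BG91.s1537_closed hG (Cfsg.Agent.S1350.result hG) (Cfsg.Agent.S1351.result hG) (Cfsg.Agent.S1352.result hG) (Cfsg.Agent.S1354.result hG) (Cfsg.Agent.S1355.result hG) (Cfsg.Agent.S1361.result hG) (Cfsg.Agent.S1362.result hG) (Cfsg.Agent.S1364.result hG) (Cfsg.Agent.S1365.result hG) (Cfsg.Agent.S1370.result hG) (Cfsg.Agent.S1371.result hG) (Cfsg.Agent.S1374.result hG) (Cfsg.Agent.S1375.result hG) (Cfsg.Agent.S1378.result hG) (Cfsg.Agent.S1382.result hG) (Cfsg.Agent.S1403.result hG) (Cfsg.Agent.S1436.result hG) (Cfsg.Agent.S1437.result hG)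
    M hM A hA

end Cfsg.Agent.S1537
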