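import Cfsg.Statements.S0136
import Cfsg.Agent.Lib.Helper3.CharOrtho

set_option autoImplicit false
open Cfsg

namespace Cfsg.Agent.S0136

/-- Two elements of a finite group are conjugate if and only if no irreducible complex character separates them. -/
theorem result {G : Type*} [Group G] [Finite G] (g h : G) : IsConj g h ↔ ∀ χ : Cfsg.IrrCharacter G, (χ : G → ℂ) g = (χ : G → ℂ) h := by
  classical
  have := Fintype.ofFinite G
  have := Fintype.ofFinite (Cfsg.IrrCharacter G)
  constructor
  · intro hc χ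
    obtain ⟨c, rfl⟩ := isConj_iff.mp hc
    exact (Cfsg.Agent.Lib.Helper3.isClassFunction_of_isCharacter
      (Cfsg.Agent.Lib.Helper3.isCharacter_of_irr χ.2) g c).symm
  · intro hall
    by_contra hc
    have h1 := Cfsg.Agent.Lib.Helper3.second_orthogonality g h
    have h2 := Cfsg.Agent.Lib.Helper3.second_orthogonality g g
    rw [if_neg hc] at h1
    rw [if_pos (IsConj.refl g)] at h2
    have h3 : ∑ χ : Cfsg.IrrCharacter G, (χ : G → ℂ) g * (starRingEnd ℂ) ((χ : G → ℂ) h) =
        ∑ χ : Cfsg.IrrCharacter G, (χ : G → ℂ) g * (starRingEnd ℂ) ((χ : G → ℂ) g) :=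
      Finset.sum_congr rfl (fun χ _ => by rw [hall χ])
    rw [h1, h2] at h3
    have h4 : (Nat.card (Subgroup.centralizer ({g} : Set G)) : ℂ) ≠ 0 := by
      exact_mod_cast Nat.card_pos.ne'
    exact h4 h3.symm

end Cfsg.Agent.S0136
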