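import Mathlib
import Cfsg.Statements.S1567

set_option autoImplicit false
open Cfsg

namespace Cfsg.Agent.S1567

/-- The code viewed as a family of supports. -/
abbrev CC : Set (Finset GolayPt) := supports (golayCode : Set (GolayPt → ZMod 2))

theorem zmod2_cases : ∀ a : ZMod 2, a = 0 ∨ a = 1 := by
  decide

theorem one_mem_code : (1 : GolayPt → ZMod 2) ∈ golayCode :=
  Submodule.subset_span (Or.inr rfl)

theorem univ_mem : (Finset.univ : Finset GolayPt) ∈ CC := by
  refine ⟨1, one_mem_code, ?_⟩
  ext i; simp [support₂]

theorem empty_mem : (∅ : Finset GolayPt) ∈ CC := by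
  refine ⟨0, Submodule.zero_mem _, ?_⟩
  ext i; simp [support₂]

theorem compl_mem {c : Finset GolayPt} (hc : c ∈ CC) : cᶜ ∈ CC := by
  obtain ⟨w, hw, rfl⟩ := hc
  refine ⟨1 + w, Submodule.add_mem _ one_mem_code hw, ?_⟩
  ext i
  have key : ∀ a : ZMod 2, (1 + a ≠ 0 ↔ ¬ a ≠ 0) := by decide
  simp only [support₂, Finset.mem_filter, Finset.mem_univ, true_and, Finset.mem_compl,
    Pi.add_apply, Pi.one_apply]
  exact key (w i)

/-- The subgroup generated by the minimal vectors. -/
def Mmin : AddSubgroup (GolayPt → ℤ) :=
  AddSubgroup.closure {x : GolayPt → ℤ | x ∈ leechLattice ∧ sqNorm x = 32}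

theorem mem_Mmin {x : GolayPt → ℤ} (hx : x ∈ leechSet) (hn : sqNorm x = 32) : x ∈ Mmin :=
  AddSubgroup.subset_closure ⟨AddSubgroup.subset_closure hx, hn⟩

theorem filter_mem_of_all_zero (x : GolayPt → ℤ) (h : ∀ i, x i ≡ 0 [ZMOD 4]) (k : ℤ) :
    (Finset.univ.filter fun i => x i ≡ k [ZMOD 4]) ∈ CC := by
  by_cases hk : (0 : ℤ) ≡ k [ZMOD 4]
  · have : (Finset.univ.filter fun i => x i ≡ k [ZMOD 4]) = Finset.univ := by
      ext i
      simp only [Finset.mem_filter, Finset.mem_univ, true_and, iff_true]
      exact (h i).trans hk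
    rw [this]; exact univ_mem
  · have : (Finset.univ.filter fun i => x i ≡ k [ZMOD 4]) = ∅ := by
      ext i
      simp only [Finset.mem_filter, Finset.mem_univ, true_and, Finset.notMem_empty, iff_false]
      intro h2; exact hk ((h i).symm.trans h2)
    rw [this]; exact empty_mem

/-- `4 e_(some a) - 4 e_none`. -/
def dv (a : ZMod 23) : GolayPt → ℤ := fun l =>
  match l with
  | none => -4
  | some b => if b = a then 4 else 0

/-- `4 e_(some a) + 4 e_none`. -/
def sv (a : ZMod 23) : GolayPt → ℤ := fun l =>
  match l with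
  | none => 4
  | some b => if b = a then 4 else 0

/-- `4 e_none`. -/
def cv : GolayPt → ℤ := fun l =>
  match l with
  | none => 4
  | some _ => 0

theorem dv_mem (a : ZMod 23) : dv a ∈ Mmin := by
  apply mem_Mmin
  · refine ⟨0, ?_, ?_, ?_⟩
    · intro i
      cases i with
      | none => show (-4 : ℤ) ≡ 0 [ZMOD 2]; decide
      | some b =>
        by_cases h : b = a
        · simp only [dv, h, if_true]; decide
        · simp only [dv, h, if_false]; decide
    · rw [Fintype.sum_option]
      simp [dv]
    · apply filter_mem_of_all_zero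
      intro i
      cases i with
      | none => show (-4 : ℤ) ≡ 0 [ZMOD 4]; decide
      | some b =>
        by_cases h : b = a
        · simp only [dv, h, if_true]; decide
        · simp only [dv, h, if_false]; decide
  · unfold sqNorm
    rw [Fintype.sum_option]
    simp [dv, ite_pow]

theorem sv_mem (a : ZMod 23) : sv a ∈ Mmin := by
  apply mem_Mmin
  · refine ⟨0, ?_, ?_, ?_⟩
    · intro i
      cases i with
      | none => show (4 : ℤ) ≡ 0 [ZMOD 2]; decide
      | some b =>
        by_cases h : b = a
        · simp only [sv, h, if_true]; decide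
        · simp only [sv, h, if_false]; decide
    · rw [Fintype.sum_option]
      simp [sv]
    · apply filter_mem_of_all_zero
      intro i
      cases i with
      | none => show (4 : ℤ) ≡ 0 [ZMOD 4]; decide
      | some b =>
        by_cases h : b = a
        · simp only [sv, h, if_true]; decide
        · simp only [sv, h, if_false]; decide
  · unfold sqNorm
    rw [Fintype.sum_option]
    simp [sv, ite_pow]

theorem two_cv_mem : cv + cv ∈ Mmin := by
  have : cv + cv = sv 0 - dv 0 := by
    funext l
    cases l with
    | none => simp [cv, sv, dv]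
    | some b => simp [cv, sv, dv]
  rw [this]
  exact AddSubgroup.sub_mem _ (sv_mem 0) (dv_mem 0)

/-- The odd vector attached to a word `w`: entries `1` off the support, `-1` on it, except at
`none`, where the entry is `-3` off the support and `3` on it. -/
def uv (w : GolayPt → ZMod 2) : GolayPt → ℤ := fun l =>
  match l with
  | none => if w none = 0 then -3 else 3
  | some b => if w (some b) = 0 then 1 else -1

theorem uv_mod4 (w : GolayPt → ZMod 2) (i : GolayPt) :
    uv w i % 4 = if w i = 0 then 1 else 3 := by
  cases i with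
  | none =>
    by_cases h : w none = 0
    · simp [uv, h]
    · simp [uv, h]
  | some b =>
    by_cases h : w (some b) = 0
    · simp [uv, h]
    · simp [uv, h]

theorem uv_sum (w : GolayPt → ZMod 2) :
    ∑ i, uv w i = 24 - 2 * ((support₂ w).card : ℤ) + (if w none = 0 then -4 else 4) := by
  have h1 : ∀ i : GolayPt, uv w i = (1 - 2 * (if w i ≠ 0 then (1 : ℤ) else 0)) +
      (if i = none then (if w none = 0 then (-4 : ℤ) else 4) else 0) := by
    intro i
    cases i with
    | none =>
      by_cases h : w none = 0
      · simp [uv, h]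
      · simp [uv, h]
    | some b =>
      by_cases h : w (some b) = 0
      · simp [uv, h]
      · simp [uv, h]
  rw [Finset.sum_congr rfl (fun i _ => h1 i), Finset.sum_add_distrib, Finset.sum_sub_distrib,
    ← Finset.mul_sum, Finset.sum_boole]
  simp only [Finset.sum_const, Finset.card_univ, Finset.sum_ite_eq', Finset.mem_univ, if_true,
    support₂]
  have : Fintype.card GolayPt = 24 := by decide
  rw [this]
  simp

theorem uv_sq (w : GolayPt → ZMod 2) : sqNorm (uv w) = 32 := by
  unfold sqNorm
  rw [Fintype.sum_option]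
  have h1 : (uv w none) ^ 2 = 9 := by
    by_cases h : w none = 0
    · simp [uv, h]
    · simp [uv, h]
  have h2 : ∀ b : ZMod 23, (uv w (some b)) ^ 2 = 1 := by
    intro b
    by_cases h : w (some b) = 0
    · simp [uv, h]
    · simp [uv, h]
  rw [h1, Finset.sum_congr rfl (fun b _ => h2 b)]
  simp [ZMod.card]

theorem uv_mem (w : GolayPt → ZMod 2) (hw : w ∈ golayCode) (hcard : 4 ∣ (support₂ w).card) :
    uv w ∈ Mmin := by
  apply mem_Mmin _ (uv_sq w)
  have hsupp : support₂ w ∈ CC := ⟨w, hw, rfl⟩
  refine ⟨1, ?_, ?_, ?_⟩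
  · intro i
    have := uv_mod4 w i
    unfold Int.ModEq
    by_cases h : w i = 0
    · rw [if_pos h] at this; omega
    · rw [if_neg h] at this; omega
  · rw [uv_sum]
    obtain ⟨k, hk⟩ := hcard
    rw [hk]
    unfold Int.ModEq
    push_cast
    by_cases h : w none = 0
    · rw [if_pos h]; omega
    · rw [if_neg h]; omega
  · intro k
    by_cases h1 : k % 4 = 1
    · have : (Finset.univ.filter fun i => uv w i ≡ k [ZMOD 4]) = (support₂ w)ᶜ := by
        ext i
        simp only [Finset.mem_filter, Finset.mem_univ, true_and, Finset.mem_compl, support₂,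
          Int.ModEq, uv_mod4, h1]
        by_cases h : w i = 0
        · simp [h]
        · simp [h]
      rw [this]; exact compl_mem hsupp
    · by_cases h3 : k % 4 = 3
      · have : (Finset.univ.filter fun i => uv w i ≡ k [ZMOD 4]) = support₂ w := by
          ext i
          simp only [Finset.mem_filter, Finset.mem_univ, true_and, support₂,
            Int.ModEq, uv_mod4, h3]
          by_cases h : w i = 0
          · simp [h]
          · simp [h]
        rw [this]; exact hsupp
      · have : (Finset.univ.filter fun i => uv w i ≡ k [ZMOD 4]) = ∅ := by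
          ext i
          simp only [Finset.mem_filter, Finset.mem_univ, true_and, Finset.notMem_empty,
            iff_false, Int.ModEq, uv_mod4]
          by_cases h : w i = 0
          · rw [if_pos h]; intro h'; exact h1 h'.symm
          · rw [if_neg h]; intro h'; exact h3 h'.symm
        rw [this]; exact empty_mem

/-- The enlarged subgroup: minimal vectors together with `4 e_none`. -/
def Mbig : AddSubgroup (GolayPt → ℤ) := Mmin ⊔ AddSubgroup.zmultiples cv

theorem Mmin_le_Mbig : Mmin ≤ Mbig := le_sup_left

theorem cv_mem_Mbig : cv ∈ Mbig :=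
  (le_sup_right : AddSubgroup.zmultiples cv ≤ Mbig) (AddSubgroup.mem_zmultiples cv)

theorem four_mul_mem (y : GolayPt → ℤ) : (fun i => 4 * y i) ∈ Mbig := by
  have : (fun i => 4 * y i) = ∑ a : ZMod 23, y (some a) • dv a + (∑ i, y i) • cv := by
    funext l
    cases l with
    | none =>
      simp only [Pi.add_apply, Finset.sum_apply, Pi.smul_apply, smul_eq_mul, dv, cv]
      rw [Fintype.sum_option, ← Finset.sum_mul]
      ring
    | some b =>
      simp only [Pi.add_apply, Finset.sum_apply, Pi.smul_apply, smul_eq_mul, dv, cv, mul_ite,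
        mul_zero, Finset.sum_ite_eq, Finset.mem_univ, if_true, add_zero]
      ring
  rw [this]
  refine AddSubgroup.add_mem _ (AddSubgroup.sum_mem _ fun a _ => ?_) ?_
  · exact AddSubgroup.zsmul_mem _ (Mmin_le_Mbig (dv_mem a)) _
  · exact AddSubgroup.zsmul_mem _ cv_mem_Mbig _

theorem mem_of_modEq (a x : GolayPt → ℤ) (ha : a ∈ Mbig) (h : ∀ i, (x i - a i) % 4 = 0) :
    x ∈ Mbig := by
  have : x = a + (fun i => 4 * ((x i - a i) / 4)) := by
    funext i
    have := Int.mul_ediv_cancel' (Int.dvd_of_emod_eq_zero (h i))
    simp only [Pi.add_apply]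
    omega
  rw [this]
  exact AddSubgroup.add_mem _ ha (four_mul_mem _)

/-- The additive map `x ↦ ∑ x i - 4 x none` into the integers modulo 8. -/
def phi : (GolayPt → ℤ) →+ ZMod 8 where
  toFun x := ((∑ i, x i - 4 * x none : ℤ) : ZMod 8)
  map_zero' := by simp
  map_add' x y := by
    simp only [Pi.add_apply, Finset.sum_add_distrib]
    push_cast; ring

theorem phi_leechSet {x : GolayPt → ℤ} (hx : x ∈ leechSet) : phi x = 0 := by
  obtain ⟨m, ha, hb, -⟩ := hx
  have h1 : 4 * x none ≡ 4 * m [ZMOD 8] := by
    have := (ha none).mul_left' (c := 4)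
    simpa using this
  have h2 : (∑ i, x i - 4 * x none) ≡ 0 [ZMOD 8] := by
    have := hb.sub h1
    simpa using this
  show ((∑ i, x i - 4 * x none : ℤ) : ZMod 8) = 0
  have := (ZMod.intCast_eq_intCast_iff _ _ 8).2 h2
  simpa using this

theorem phi_leechLattice {x : GolayPt → ℤ} (hx : x ∈ leechLattice) : phi x = 0 := by
  have : leechLattice ≤ phi.ker := by
    unfold leechLattice
    rw [AddSubgroup.closure_le]
    intro y hy
    exact phi_leechSet hy
  exact this hx

theorem Mmin_le_leech : Mmin ≤ leechLattice := by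
  unfold Mmin
  rw [AddSubgroup.closure_le]
  intro y hy
  exact hy.1

theorem phi_cv : phi cv = 4 := by
  show ((∑ i, cv i - 4 * cv none : ℤ) : ZMod 8) = 4
  rw [Fintype.sum_option]
  simp [cv]
  decide

theorem mem_Mmin_of_mem_Mbig {x : GolayPt → ℤ} (hx : x ∈ Mbig) (hphi : phi x = 0) : x ∈ Mmin := by
  obtain ⟨y, hy, z, hz, rfl⟩ := AddSubgroup.mem_sup.mp hx
  obtain ⟨n, rfl⟩ := AddSubgroup.mem_zmultiples_iff.mp hz
  have h1 : phi y = 0 := phi_leechLattice (Mmin_le_leech hy)
  rw [map_add, h1, zero_add, map_zsmul, phi_cv] at hphi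
  have h2 : ((n * 4 : ℤ) : ZMod 8) = 0 := by
    rw [zsmul_eq_mul] at hphi
    push_cast
    exact hphi
  have h3 : (8 : ℤ) ∣ n * 4 := by
    have := (ZMod.intCast_zmod_eq_zero_iff_dvd (n * 4) 8).mp h2
    simpa using this
  have h4 : (2 : ℤ) ∣ n := by omega
  obtain ⟨k, rfl⟩ := h4
  have h5 : (2 * k) • cv = k • (cv + cv) := by
    rw [mul_comm, mul_zsmul, two_zsmul]
  rw [h5]
  exact AddSubgroup.add_mem _ hy (AddSubgroup.zsmul_mem _ two_cv_mem _)

/-- The lift of a binary word: `2` on the support, `0` elsewhere. -/
def lift (w : GolayPt → ZMod 2) : GolayPt → ℤ := fun l => if w l = 0 then 0 else 2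

theorem card_qr : ∀ t : ZMod 23, (support₂ (qrWord t)).card = 12 := by
  decide

theorem lift_mem (w : GolayPt → ZMod 2) (hw : w ∈ golayCode) : lift w ∈ Mbig := by
  have huv0 : uv 0 ∈ Mmin := by
    apply uv_mem 0 (Submodule.zero_mem _)
    have : support₂ (0 : GolayPt → ZMod 2) = ∅ := by ext i; simp [support₂]
    rw [this]; simp
  unfold golayCode at hw
  induction hw using Submodule.span_induction with
  | mem w hw =>
    rcases hw with ⟨t, rfl⟩ | hw
    · have h1 : uv (qrWord t) ∈ Mmin := by
        apply uv_mem _ (Submodule.subset_span (Or.inl ⟨t, rfl⟩))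
        rw [card_qr t]; decide
      have : lift (qrWord t) = uv 0 - uv (qrWord t) := by
        funext l
        cases l with
        | none => simp [lift, uv, qrWord]
        | some b =>
          by_cases h : qrWord t (some b) = 0
          · simp [lift, uv, h]
          · simp [lift, uv, h]
      rw [this]
      exact Mmin_le_Mbig (AddSubgroup.sub_mem _ huv0 h1)
    · have hw1 : w = 1 := hw
      subst hw1
      have h1 : uv 1 ∈ Mmin := by
        apply uv_mem _ one_mem_code
        have : support₂ (1 : GolayPt → ZMod 2) = Finset.univ := by ext i; simp [support₂]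
        rw [this]; decide
      have : lift 1 = uv 0 - uv 1 + (cv + cv) := by
        funext l
        cases l with
        | none => simp [lift, uv, cv]
        | some b => simp [lift, uv, cv]
      rw [this]
      exact Mmin_le_Mbig (AddSubgroup.add_mem _ (AddSubgroup.sub_mem _ huv0 h1) two_cv_mem)
  | zero =>
    have : lift 0 = 0 := by funext l; simp [lift]
    rw [this]; exact AddSubgroup.zero_mem _
  | add x y _ _ hx hy =>
    apply mem_of_modEq (lift x + lift y) _ (AddSubgroup.add_mem _ hx hy)
    intro i
    have key : ∀ a b : ZMod 2, ((if a + b = 0 then (0 : ℤ) else 2) -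
        ((if a = 0 then (0 : ℤ) else 2) + (if b = 0 then (0 : ℤ) else 2))) % 4 = 0 := by
      decide
    exact key (x i) (y i)
  | smul a x _ hx =>
    rcases zmod2_cases a with rfl | rfl
    · have : lift ((0 : ZMod 2) • x) = 0 := by funext l; simp [lift]
      rw [this]; exact AddSubgroup.zero_mem _
    · rw [one_smul]; exact hx

theorem leechSet_subset_Mmin {x : GolayPt → ℤ} (hx : x ∈ leechSet) : x ∈ Mmin := by
  apply mem_Mmin_of_mem_Mbig _ (phi_leechSet hx)
  obtain ⟨m, ha, -, hc⟩ := hx
  rcases Int.emod_two_eq_zero_or_one m with hm | hm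
  · obtain ⟨w, hw, hsupp⟩ := hc 2
    apply mem_of_modEq (lift w) x (lift_mem w hw)
    intro i
    have hi := ha i
    unfold Int.ModEq at hi
    have hmem : i ∈ support₂ w ↔ x i % 4 = 2 := by
      rw [hsupp, Finset.mem_filter]; simp [Int.ModEq]
    by_cases h : w i = 0
    · have : ¬ (x i % 4 = 2) := by
        rw [← hmem]; simp [support₂, h]
      simp only [lift, h, if_true]
      omega
    · have : x i % 4 = 2 := by
        rw [← hmem]; simp [support₂, h]
      simp only [lift, h, if_false]
      omega
  · obtain ⟨w, hw, hsupp⟩ := hc 3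
    have huv0 : uv 0 ∈ Mmin := by
      apply uv_mem 0 (Submodule.zero_mem _)
      have : support₂ (0 : GolayPt → ZMod 2) = ∅ := by ext i; simp [support₂]
      rw [this]; simp
    apply mem_of_modEq (uv 0 + lift w) x
      (AddSubgroup.add_mem _ (Mmin_le_Mbig huv0) (lift_mem w hw))
    intro i
    have hi := ha i
    unfold Int.ModEq at hi
    have hu := uv_mod4 0 i
    simp only [Pi.zero_apply, if_true] at hu
    have hmem : i ∈ support₂ w ↔ x i % 4 = 3 := by
      rw [hsupp, Finset.mem_filter]; simp [Int.ModEq]
    by_cases h : w i = 0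
    · have : ¬ (x i % 4 = 3) := by
        rw [← hmem]; simp [support₂, h]
      simp only [Pi.add_apply, lift, h, if_true]
      omega
    · have : x i % 4 = 3 := by
        rw [← hmem]; simp [support₂, h]
      simp only [Pi.add_apply, lift, h, if_false]
      omega

/-- The rank-24 lattice is the additive subgroup generated by its 196560 minimal vectors. -/
theorem result : AddSubgroup.closure {x : Cfsg.GolayPt → ℤ | x ∈ Cfsg.leechLattice ∧ Cfsg.sqNorm x = 32} = Cfsg.leechLattice := by
  apply le_antisymm
  · exact Mmin_le_leech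
  · show leechLattice ≤ Mmin
    unfold leechLattice
    rw [AddSubgroup.closure_le]
    intro x hx
    exact leechSet_subset_Mmin hx

end Cfsg.Agent.S1567
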