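import Mathlib
import Cfsg.Statements.S2763
import Cfsg.Agent.Lib.Helper37.QdAlt

set_option autoImplicit false
open Cfsg

namespace Cfsg.Agent.S2763

open Matrix Cfsg.Agent.Lib.Helper37

variable {p : ℕ} [Fact p.Prime]

/-- the group `Qd(p)` as a type -/
abbrev QG (p : ℕ) : Type := ↥(Cfsg.qd p)

theorem qmul_apply (x y : QG p) (i j : Fin 3) :
    qmat (x * y) i j = qmat x i 0 * qmat y 0 j + qmat x i 1 * qmat y 1 j + qmat x i 2 * qmat y 2 j := by
  rw [qmat_mul, Matrix.mul_apply, Fin.sum_univ_three]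

theorem qdet (x : QG p) : qmat x 0 0 * qmat x 1 1 - qmat x 0 1 * qmat x 1 0 = 1 := by
  have h := qmat_det x
  rw [Matrix.det_fin_three, qmat_20, qmat_21, qmat_22] at h
  linear_combination h

/-- build an element of `Qd(p)` from a matrix -/
def mk (M : Matrix (Fin 3) (Fin 3) (ZMod p)) (hdet : M.det = 1) (h0 : M 2 0 = 0) (h1 : M 2 1 = 0)
    (h2 : M 2 2 = 1) : QG p :=
  ⟨⟨M, hdet⟩, Subgroup.subset_closure ⟨h0, h1, h2⟩⟩

theorem qmat_mk (M : Matrix (Fin 3) (Fin 3) (ZMod p)) (hdet : M.det = 1) (h0 : M 2 0 = 0)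
    (h1 : M 2 1 = 0) (h2 : M 2 2 = 1) : qmat (mk M hdet h0 h1 h2) = M := rfl

/-- upper unitriangular elements -/
def uni (b u v : ZMod p) : QG p :=
  mk !![1, b, u; 0, 1, v; 0, 0, 1] (by simp [Matrix.det_fin_three]) rfl rfl rfl

theorem qmat_uni (b u v : ZMod p) : qmat (uni b u v) = !![1, b, u; 0, 1, v; 0, 0, 1] := rfl

theorem uni_mul (b u v b' u' v' : ZMod p) :
    uni b u v * uni b' u' v' = uni (b + b') (u + u' + b * v') (v + v') := by
  apply qmat_injective
  rw [qmat_mul, qmat_uni, qmat_uni, qmat_uni]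
  ext i j
  fin_cases i <;> fin_cases j <;> simp [Matrix.mul_apply, Fin.sum_univ_three] <;> ring

theorem uni_zero : uni (0 : ZMod p) 0 0 = 1 := by
  apply qmat_injective
  rw [qmat_uni, qmat_one]
  ext i j
  fin_cases i <;> fin_cases j <;> simp

/-- upper triangular elements -/
def Bor (p : ℕ) [Fact p.Prime] : Subgroup (QG p) where
  carrier := {x | qmat x 1 0 = 0}
  mul_mem' := by
    intro x y hx hy
    simp only [Set.mem_ofPred_eq] at hx hy ⊢
    rw [qmul_apply, hx, hy, qmat_20 y]; ring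
  one_mem' := by
    simp only [Set.mem_ofPred_eq]
    rw [qmat_one]; simp
  inv_mem' := by
    intro x hx
    simp only [Set.mem_ofPred_eq] at hx ⊢
    have h1 : qmat (x * x⁻¹) 1 0 = 0 := by rw [mul_inv_cancel, qmat_one]; simp
    rw [qmul_apply, hx, qmat_20 x⁻¹] at h1
    have hd := qdet x
    rw [hx] at hd
    have h11 : qmat x 1 1 ≠ 0 := by
      intro h0; rw [h0] at hd; simp at hd
    have h2 : qmat x 1 1 * qmat x⁻¹ 1 0 = 0 := by linear_combination h1
    rcases mul_eq_zero.mp h2 with h | h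
    · exact absurd h h11
    · exact h

theorem mem_Bor (x : QG p) : x ∈ Bor p ↔ qmat x 1 0 = 0 := Iff.rfl

/-- upper unitriangular subgroup -/
def U0 (p : ℕ) [Fact p.Prime] : Subgroup (QG p) where
  carrier := {x | qmat x 1 0 = 0 ∧ qmat x 0 0 = 1 ∧ qmat x 1 1 = 1}
  mul_mem' := by
    rintro x y ⟨hx, hx0, hx1⟩ ⟨hy, hy0, hy1⟩
    refine ⟨?_, ?_, ?_⟩
    · rw [qmul_apply, hx, hy, qmat_20 y]; ring
    · rw [qmul_apply, hx0, hy0, hy, qmat_20 y]; ring
    · rw [qmul_apply, hx, hx1, hy1, qmat_21 y]; ring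
  one_mem' := by
    refine ⟨?_, ?_, ?_⟩ <;> rw [qmat_one] <;> simp
  inv_mem' := by
    rintro x ⟨hx, hx0, hx1⟩
    have h10 : qmat (x * x⁻¹) 1 0 = 0 := by rw [mul_inv_cancel, qmat_one]; simp
    have h00 : qmat (x * x⁻¹) 0 0 = 1 := by rw [mul_inv_cancel, qmat_one]; simp
    have h11 : qmat (x * x⁻¹) 1 1 = 1 := by rw [mul_inv_cancel, qmat_one]; simp
    rw [qmul_apply, hx, hx1, qmat_20 x⁻¹] at h10
    rw [qmul_apply, hx0, qmat_20 x⁻¹] at h00
    rw [qmul_apply, hx, hx1, qmat_21 x⁻¹] at h11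
    have e10 : qmat x⁻¹ 1 0 = 0 := by linear_combination h10
    refine ⟨e10, ?_, ?_⟩
    · rw [e10] at h00; linear_combination h00
    · linear_combination h11

theorem mem_U0 (x : QG p) : x ∈ U0 p ↔ qmat x 1 0 = 0 ∧ qmat x 0 0 = 1 ∧ qmat x 1 1 = 1 := Iff.rfl

theorem U0_le_Bor : U0 p ≤ Bor p := fun _ hx => hx.1

theorem uni_mem (b u v : ZMod p) : uni b u v ∈ U0 p := by
  refine ⟨?_, ?_, ?_⟩ <;> rw [qmat_uni] <;> simp

theorem eq_uni_of_mem (x : QG p) (hx : x ∈ U0 p) :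
    x = uni (qmat x 0 1) (qmat x 0 2) (qmat x 1 2) := by
  obtain ⟨h10, h00, h11⟩ := hx
  apply qmat_injective
  rw [qmat_uni]
  ext i j
  fin_cases i <;> fin_cases j <;> simp [h10, h00, h11, qmat_20, qmat_21, qmat_22]

/-- elements of `p`-power order have trace `3`. -/
theorem tr_of_pow (x : QG p) (k : ℕ) (h : x ^ p ^ k = 1) : qmat x 0 0 + qmat x 1 1 = 2 := by
  have h1 : (qmat x - 1) ^ p ^ k = qmat x ^ p ^ k - 1 ^ p ^ k :=
    sub_pow_char_pow_of_commute p k (Commute.one_right (qmat x))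
  rw [← qmat_pow, h, qmat_one, one_pow, sub_self] at h1
  have hnil : IsNilpotent (qmat x - 1) := ⟨p ^ k, h1⟩
  have htr := (Matrix.isNilpotent_trace_of_isNilpotent hnil).eq_zero
  rw [Matrix.trace_sub, Matrix.trace_fin_three, Matrix.trace_fin_three, qmat_22] at htr
  simp at htr
  linear_combination htr

theorem mem_U0_of_pow (x : QG p) (hx : x ∈ Bor p) (k : ℕ) (h : x ^ p ^ k = 1) : x ∈ U0 p := by
  have h10 : qmat x 1 0 = 0 := hx
  have htr := tr_of_pow x k h
  have hd := qdet x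
  rw [h10] at hd
  have h00 : qmat x 0 0 = 1 := by
    have : (qmat x 0 0 - 1) ^ 2 = 0 := by
      have e : qmat x 1 1 = 2 - qmat x 0 0 := by linear_combination htr
      rw [e] at hd
      linear_combination -hd
    have := pow_eq_zero_iff (n := 2) (by norm_num) |>.mp this
    linear_combination this
  refine ⟨h10, h00, ?_⟩
  rw [h00] at htr
  linear_combination htr

theorem pow_of_mem_U0 (x : QG p) (hx : x ∈ U0 p) : x ^ p ^ 2 = 1 := by
  apply qmat_injective
  rw [qmat_pow, qmat_one]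
  have h1 : (qmat x - 1) ^ p ^ 2 = qmat x ^ p ^ 2 - 1 ^ p ^ 2 :=
    sub_pow_char_pow_of_commute p 2 (Commute.one_right (qmat x))
  have h3 : (qmat x - 1) ^ 3 = 0 := by
    rw [eq_uni_of_mem x hx, qmat_uni]
    ext i j
    fin_cases i <;> fin_cases j <;> simp [pow_succ, Matrix.mul_apply, Fin.sum_univ_three]
  have hp : 3 ≤ p ^ 2 := by
    have := (Fact.out : p.Prime).two_le
    nlinarith
  have h0 : (qmat x - 1) ^ p ^ 2 = 0 := by
    calc (qmat x - 1) ^ p ^ 2 = (qmat x - 1) ^ (3 + (p ^ 2 - 3)) := by congr 1; omega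
      _ = 0 := by rw [pow_add, h3, zero_mul]
  rw [h0, one_pow] at h1
  exact (sub_eq_zero.mp h1.symm)

/-- the standard Sylow `p`-subgroup -/
def S0 (p : ℕ) [Fact p.Prime] : Sylow p (QG p) where
  toSubgroup := U0 p
  isPGroup' := by
    rintro ⟨x, hx⟩
    refine ⟨2, Subtype.ext ?_⟩
    rw [Subgroup.coe_pow]
    exact pow_of_mem_U0 x hx
  is_maximal' := by
    intro Q hQ hle
    refine le_antisymm ?_ hle
    intro x hx
    obtain ⟨k, hk⟩ := hQ ⟨x, hx⟩
    have hk' : x ^ p ^ k = 1 := by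
      have := congrArg Subtype.val hk
      rwa [Subgroup.coe_pow] at this
    have hE : uni 1 0 0 * x ∈ Q := Q.mul_mem (hle (uni_mem 1 0 0)) hx
    obtain ⟨k2, hk2⟩ := hQ ⟨_, hE⟩
    have hk2' : (uni 1 0 0 * x) ^ p ^ k2 = 1 := by
      have := congrArg Subtype.val hk2
      rwa [Subgroup.coe_pow] at this
    have t1 := tr_of_pow x k hk'
    have t2 := tr_of_pow _ k2 hk2'
    rw [qmul_apply, qmul_apply, qmat_uni] at t2
    simp at t2
    have h10 : qmat x 1 0 = 0 := by linear_combination t2 - t1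
    exact mem_U0_of_pow x h10 k hk'

theorem coe_S0 : ((S0 p : Sylow p (QG p)) : Subgroup (QG p)) = U0 p := rfl

theorem Bor_le_normalizer : Bor p ≤ Subgroup.normalizer ((U0 p : Subgroup (QG p)) : Set (QG p)) := by
  have key : ∀ g ∈ Bor p, ∀ u ∈ U0 p, g * u * g⁻¹ ∈ U0 p := by
    intro g hg u hu
    apply mem_U0_of_pow _ ((Bor p).mul_mem ((Bor p).mul_mem hg (U0_le_Bor hu)) ((Bor p).inv_mem hg)) 2
    rw [conj_pow, pow_of_mem_U0 u hu, mul_one, mul_inv_cancel]
  intro g hg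
  rw [Subgroup.mem_normalizer_iff]
  intro u
  refine ⟨key g hg u, fun h => ?_⟩
  have := key g⁻¹ ((Bor p).inv_mem hg) _ h
  simpa [mul_assoc] using this

theorem normalizer_le_Bor : Subgroup.normalizer ((U0 p : Subgroup (QG p)) : Set (QG p)) ≤ Bor p := by
  intro g hg
  rw [Subgroup.mem_normalizer_iff] at hg
  have hw := (hg (uni 1 0 0)).mp (uni_mem 1 0 0)
  obtain ⟨w10, w00, w11⟩ := hw
  have e : (g * uni 1 0 0 * g⁻¹) * g = g * uni 1 0 0 := by group
  have e11 : qmat ((g * uni 1 0 0 * g⁻¹) * g) 1 1 = qmat (g * uni 1 0 0) 1 1 := by rw [e]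
  rw [qmul_apply, w10, w11, qmat_21 g, qmul_apply (y := uni 1 0 0), qmat_uni] at e11
  simp at e11
  exact e11


/-- one-parameter subgroups -/
theorem mem_of_param (f : ZMod p → QG p) (hf : ∀ s t, f (s + t) = f s * f t) (T : Subgroup (QG p))
    (t : ZMod p) (ht : t ≠ 0) (h : f t ∈ T) (s : ZMod p) : f s ∈ T := by
  have h0 : f 0 = 1 := by
    have := hf 0 0
    rw [add_zero] at this
    simpa using this
  have hn : ∀ n : ℕ, f (n • t) = f t ^ n := by
    intro n
    induction n with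
    | zero => simp [h0]
    | succ n ih => rw [succ_nsmul, hf, ih, pow_succ]
  have : NeZero p := ⟨(Fact.out : p.Prime).ne_zero⟩
  have hs : s = (s * t⁻¹).val • t := by
    rw [nsmul_eq_mul, ZMod.natCast_zmod_val, mul_assoc, inv_mul_cancel₀ ht, mul_one]
  rw [hs, hn]
  exact T.pow_mem h _

/-- the flip automorphism, as a function -/
def flip (x : QG p) : QG p :=
  uni (-(qmat x 1 2)) (qmat x 0 1 * qmat x 1 2 - qmat x 0 2) (-(qmat x 0 1))

theorem flip_uni (b u v : ZMod p) : flip (uni b u v) = uni (-v) (b * v - u) (-b) := by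
  unfold flip
  rw [qmat_uni]
  simp

theorem col_lemma (g w : QG p) (hw : w ∈ U0 p) (e : w * g = g * uni 1 0 0) : qmat g 1 0 = 0 := by
  obtain ⟨w10, w00, w11⟩ := hw
  have e11 : qmat (w * g) 1 1 = qmat (g * uni 1 0 0) 1 1 := by rw [e]
  rw [qmul_apply, w10, w11, qmat_21 g, qmul_apply (y := uni 1 0 0), qmat_uni] at e11
  simp at e11
  exact e11

theorem main (T : Subgroup (QG p)) (hle : T ≤ U0 p) (hne : T ≠ ⊥)
    (hnorm : ∀ u ∈ U0 p, ∀ x ∈ T, u * x * u⁻¹ ∈ T) (hflip : ∀ x ∈ T, flip x ∈ T) :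
    Subgroup.normalizer (T : Set (QG p)) ≤ Bor p := by
  have f2 : ∀ s t : ZMod p, uni (0 : ZMod p) (s + t) 0 = uni 0 s 0 * uni 0 t 0 := by
    intro s t; rw [uni_mul]; congr 1 <;> ring
  have f3 : ∀ s t : ZMod p, uni (0 : ZMod p) 0 (s + t) = uni 0 0 s * uni 0 0 t := by
    intro s t; rw [uni_mul]; congr 1 <;> ring
  have hZ : ∀ s : ZMod p, uni 0 s 0 ∈ T := by
    obtain ⟨x, hxT, hx1⟩ : ∃ x ∈ T, x ≠ 1 := by
      by_contra hcon
      push Not at hcon
      exact hne ((Subgroup.eq_bot_iff_forall T).mpr hcon)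
    obtain ⟨b, u, v, rfl⟩ : ∃ b u v, x = uni b u v := ⟨_, _, _, eq_uni_of_mem x (hle hxT)⟩
    by_cases hb : b = 0
    · by_cases hv : v = 0
      · have hu : u ≠ 0 := by
          intro hu; apply hx1; rw [hb, hu, hv]; exact uni_zero
        rw [hb, hv] at hxT
        exact mem_of_param (fun s => uni 0 s 0) f2 T u hu hxT
      · have hE := hnorm (uni 1 0 0) (uni_mem 1 0 0) _ hxT
        have h2 : uni 1 0 0 * uni b u v * (uni 1 0 0)⁻¹ * (uni b u v)⁻¹ ∈ T :=
          T.mul_mem hE (T.inv_mem hxT)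
        have e : uni 1 0 0 * uni b u v * (uni 1 0 0)⁻¹ * (uni b u v)⁻¹ = uni 0 v 0 := by
          have : uni 1 0 0 * uni b u v = uni 0 v 0 * (uni b u v * uni 1 0 0) := by
            rw [hb, uni_mul, uni_mul, uni_mul]; congr 1 <;> ring
          rw [this]; group
        rw [e] at h2
        exact mem_of_param (fun s => uni 0 s 0) f2 T v hv h2
    · have hy := hnorm (uni 0 0 1) (uni_mem 0 0 1) _ (T.inv_mem hxT)
      have h2 : uni b u v * (uni 0 0 1 * (uni b u v)⁻¹ * (uni 0 0 1)⁻¹) ∈ T := T.mul_mem hxT hy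
      have e : uni b u v * (uni 0 0 1 * (uni b u v)⁻¹ * (uni 0 0 1)⁻¹) = uni 0 b 0 := by
        have : uni b u v * uni 0 0 1 = uni 0 b 0 * (uni 0 0 1 * uni b u v) := by
          rw [uni_mul, uni_mul, uni_mul]; congr 1 <;> ring
        calc uni b u v * (uni 0 0 1 * (uni b u v)⁻¹ * (uni 0 0 1)⁻¹)
            = (uni b u v * uni 0 0 1) * (uni b u v)⁻¹ * (uni 0 0 1)⁻¹ := by group
          _ = uni 0 b 0 := by rw [this]; group
      rw [e] at h2
      exact mem_of_param (fun s => uni 0 s 0) f2 T b hb h2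
  intro g hg
  rw [mem_Bor]
  by_contra hc
  rw [Subgroup.mem_normalizer_iff] at hg
  have hw := (hg (uni 0 1 0)).mp (hZ 1)
  have hwU := hle hw
  have e : (g * uni 0 1 0 * g⁻¹) * g = g * uni 0 1 0 := by group
  obtain ⟨w, hwdef⟩ : ∃ w, w = g * uni 0 1 0 * g⁻¹ := ⟨_, rfl⟩
  rw [← hwdef] at hw hwU e
  obtain ⟨w10, w00, w11⟩ := hwU
  have e12 : qmat (w * g) 1 2 = qmat (g * uni 0 1 0) 1 2 := by rw [e]
  have e00 : qmat (w * g) 0 0 = qmat (g * uni 0 1 0) 0 0 := by rw [e]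
  rw [qmul_apply, w10, w11, qmat_22 g, qmul_apply (y := uni 0 1 0), qmat_uni] at e12
  rw [qmul_apply, w00, qmat_20 g, qmul_apply (y := uni 0 1 0), qmat_uni] at e00
  simp at e12 e00
  have hv' : qmat w 1 2 = qmat g 1 0 := by linear_combination e12
  have hb' : qmat w 0 1 = 0 := by
    rcases e00 with h | h
    · exact h
    · exact absurd h hc
  have hwu := eq_uni_of_mem w ⟨w10, w00, w11⟩
  rw [hb', hv'] at hwu
  obtain ⟨u', hu'⟩ : ∃ u', u' = qmat w 0 2 := ⟨_, rfl⟩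
  rw [← hu'] at hwu
  have h3 : uni 0 0 (qmat g 1 0) ∈ T := by
    have h := T.mul_mem (hZ (-u')) hw
    rw [hwu, uni_mul] at h
    have e3 : uni (0 + 0) (-u' + u' + 0 * qmat g 1 0) (0 + qmat g 1 0) = uni 0 0 (qmat g 1 0) := by
      congr 1 <;> ring
    rwa [e3] at h
  have h4 : uni 0 0 (-1 : ZMod p) ∈ T := mem_of_param (fun s => uni 0 0 s) f3 T _ hc h3 (-1)
  have h5 := hflip _ h4
  rw [flip_uni] at h5
  have e5 : uni (-(-1 : ZMod p)) (0 * -1 - 0) (-0) = uni 1 0 0 := by congr 1 <;> ring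
  rw [e5] at h5
  have hw2 := (hg (uni 1 0 0)).mp h5
  exact hc (col_lemma g _ (hle hw2) (by group))

/-- the flip automorphism of the standard Sylow subgroup -/
def flipAut (p : ℕ) [Fact p.Prime] : ↥(U0 p) ≃* ↥(U0 p) where
  toFun x := ⟨flip x.1, uni_mem _ _ _⟩
  invFun x := ⟨flip x.1, uni_mem _ _ _⟩
  left_inv := by
    rintro ⟨x, hx⟩
    apply Subtype.ext
    show flip (flip x) = x
    obtain ⟨b, u, v, rfl⟩ : ∃ b u v, x = uni b u v := ⟨_, _, _, eq_uni_of_mem x hx⟩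
    rw [flip_uni, flip_uni]
    congr 1 <;> ring
  right_inv := by
    rintro ⟨x, hx⟩
    apply Subtype.ext
    show flip (flip x) = x
    obtain ⟨b, u, v, rfl⟩ : ∃ b u v, x = uni b u v := ⟨_, _, _, eq_uni_of_mem x hx⟩
    rw [flip_uni, flip_uni]
    congr 1 <;> ring
  map_mul' := by
    rintro ⟨x, hx⟩ ⟨y, hy⟩
    apply Subtype.ext
    show flip (x * y) = flip x * flip y
    obtain ⟨b, u, v, rfl⟩ : ∃ b u v, x = uni b u v := ⟨_, _, _, eq_uni_of_mem x hx⟩
    obtain ⟨b', u', v', rfl⟩ : ∃ b u v, y = uni b u v := ⟨_, _, _, eq_uni_of_mem y hy⟩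
    rw [uni_mul, flip_uni, flip_uni, flip_uni, uni_mul]
    congr 1 <;> ring

theorem flipAut_coe (x : ↥(U0 p)) : ((flipAut p x : ↥(U0 p)) : QG p) = flip x.1 := rfl


/-- a non-upper-triangular element -/
def lowEl (p : ℕ) [Fact p.Prime] : QG p :=
  mk !![1, 0, 0; 1, 1, 0; 0, 0, 1] (by simp [Matrix.det_fin_three]) rfl rfl rfl

theorem lowEl_not_mem : lowEl p ∉ Bor p := by
  intro h
  have h1 : qmat (lowEl p) 1 0 = 0 := h
  have h2 : qmat (lowEl p) 1 0 = 1 := rfl
  rw [h2] at h1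
  exact one_ne_zero h1

/-- Characteristic subgroups are invariant under automorphisms. -/
theorem char_mem {H : Type*} [Group H] (T : Subgroup H) (hTc : T.Characteristic) (ψ : H ≃* H)
    (t : H) (ht : t ∈ T) : ψ t ∈ T := by
  have h := hTc.fixed ψ
  have h2 : t ∈ T.comap ψ.toMonoidHom := by rw [h]; exact ht
  exact h2

/-- Statement S2763. -/
theorem result {p : ℕ} [Fact p.Prime] (S : Sylow p ↥(Cfsg.qd p)) (T : Subgroup ↥(S : Subgroup ↥(Cfsg.qd p))) (hT : T ≠ ⊥) (hTc : T.Characteristic) : Subgroup.normalizer ((T.map (S : Subgroup ↥(Cfsg.qd p)).subtype : Subgroup ↥(Cfsg.qd p)) : Set ↥(Cfsg.qd p)) = Subgroup.normalizer ((S : Subgroup ↥(Cfsg.qd p)) : Set ↥(Cfsg.qd p)) ∧ Subgroup.normalizer ((S : Subgroup ↥(Cfsg.qd p)) : Set ↥(Cfsg.qd p)) ≠ ⊤ := by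
  obtain ⟨g, hg⟩ := MulAction.exists_smul_eq (QG p) (S0 p) S
  have hS : ∀ x : QG p, x ∈ (S : Subgroup (QG p)) ↔ g⁻¹ * x * g ∈ U0 p := by
    intro x
    rw [← hg, Sylow.coe_subgroup_smul, Subgroup.mem_pointwise_smul_iff_inv_smul_mem, coe_S0]
    simp [MulAut.smul_def]
  -- the conjugation isomorphism
  let c : ↥(U0 p) ≃* ↥(S : Subgroup (QG p)) :=
    { toFun := fun u => ⟨g * u * g⁻¹, (hS _).mpr (by simp [mul_assoc])⟩
      invFun := fun s => ⟨g⁻¹ * s * g, (hS _).mp s.2⟩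
      left_inv := fun u => Subtype.ext (by simp [mul_assoc])
      right_inv := fun s => Subtype.ext (by simp [mul_assoc])
      map_mul' := fun u v => Subtype.ext (by simp [mul_assoc]) }
  have hc_coe : ∀ u : ↥(U0 p), ((c u : ↥(S : Subgroup (QG p))) : QG p) = g * u * g⁻¹ := fun _ => rfl
  have hcs_coe : ∀ s : ↥(S : Subgroup (QG p)), ((c.symm s : ↥(U0 p)) : QG p) = g⁻¹ * s * g :=
    fun _ => rfl
  have hTn : T.Normal := by
    have := hTc
    infer_instance
  -- the transported subgroup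
  let T' : Subgroup (QG p) := T.map (S : Subgroup (QG p)).subtype
  have hT' : ∀ y : QG p, y ∈ T' ↔ ∃ t ∈ T, (t : QG p) = y := by
    intro y
    simp [T']
  let T0 : Subgroup (QG p) := T'.comap (MulAut.conj g).toMonoidHom
  have hT0 : ∀ x : QG p, x ∈ T0 ↔ g * x * g⁻¹ ∈ T' := fun x => Iff.rfl
  have hle0 : T0 ≤ U0 p := by
    intro x hx
    obtain ⟨t, -, ht⟩ := (hT' _).mp ((hT0 x).mp hx)
    have := (hS _).mp t.2
    rw [ht] at this
    simpa [mul_assoc] using this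
  have hne0 : T0 ≠ ⊥ := by
    intro h0
    apply hT
    rw [Subgroup.eq_bot_iff_forall]
    intro t ht
    have hx : g⁻¹ * (t : QG p) * g ∈ T0 := by
      rw [hT0, hT']
      exact ⟨t, ht, by group⟩
    rw [h0, Subgroup.mem_bot] at hx
    apply Subtype.ext
    have : (t : QG p) = g * (g⁻¹ * (t : QG p) * g) * g⁻¹ := by group
    rw [this, hx]
    simp
  have hnorm0 : ∀ u ∈ U0 p, ∀ x ∈ T0, u * x * u⁻¹ ∈ T0 := by
    intro u hu x hx
    obtain ⟨t, ht, hte⟩ := (hT' _).mp ((hT0 x).mp hx)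
    rw [hT0, hT']
    refine ⟨c ⟨u, hu⟩ * t * (c ⟨u, hu⟩)⁻¹, hTn.conj_mem t ht _, ?_⟩
    rw [Subgroup.coe_mul, Subgroup.coe_mul, Subgroup.coe_inv, hc_coe, hte]
    group
  have hflip0 : ∀ x ∈ T0, flip x ∈ T0 := by
    intro x hx
    obtain ⟨t, ht, hte⟩ := (hT' _).mp ((hT0 x).mp hx)
    rw [hT0, hT']
    refine ⟨c (flipAut p (c.symm t)), char_mem T hTc (c.symm.trans ((flipAut p).trans c)) t ht, ?_⟩
    rw [hc_coe, flipAut_coe, hcs_coe, hte]
    congr 2
    congr 1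
    group
  have hmain := main T0 hle0 hne0 hnorm0 hflip0
  -- transport of normalizers
  have hNS : ∀ n : QG p, n ∈ Subgroup.normalizer ((S : Subgroup (QG p)) : Set (QG p)) ↔
      g⁻¹ * n * g ∈ Subgroup.normalizer ((U0 p : Subgroup (QG p)) : Set (QG p)) := by
    intro n
    rw [Subgroup.mem_normalizer_iff, Subgroup.mem_normalizer_iff]
    constructor
    · intro h u
      have h1 := h (g * u * g⁻¹)
      rw [hS, hS] at h1
      have e1 : g⁻¹ * (g * u * g⁻¹) * g = u := by group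
      have e2 : g⁻¹ * (n * (g * u * g⁻¹) * n⁻¹) * g = g⁻¹ * n * g * u * (g⁻¹ * n * g)⁻¹ := by group
      rw [e1, e2] at h1
      exact h1
    · intro h s
      have h1 := h (g⁻¹ * s * g)
      rw [hS, hS]
      have e2 : g⁻¹ * n * g * (g⁻¹ * s * g) * (g⁻¹ * n * g)⁻¹ = g⁻¹ * (n * s * n⁻¹) * g := by group
      rw [e2] at h1
      exact h1
  have hBN : Bor p = Subgroup.normalizer ((U0 p : Subgroup (QG p)) : Set (QG p)) :=
    le_antisymm Bor_le_normalizer normalizer_le_Bor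
  constructor
  · apply le_antisymm
    · intro n hn
      rw [hNS, ← hBN]
      apply hmain
      rw [Subgroup.mem_normalizer_iff] at hn ⊢
      intro x
      rw [hT0, hT0]
      have h1 := hn (g * x * g⁻¹)
      have e2 : g * (g⁻¹ * n * g * x * (g⁻¹ * n * g)⁻¹) * g⁻¹ = n * (g * x * g⁻¹) * n⁻¹ := by group
      rw [e2]
      exact h1
    · intro n hn
      have hn1 := Subgroup.mem_normalizer_iff.mp hn
      have hn2 := Subgroup.mem_normalizer_iff''.mp hn
      let ψ : ↥(S : Subgroup (QG p)) ≃* ↥(S : Subgroup (QG p)) :=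
        { toFun := fun s => ⟨n * s * n⁻¹, (hn1 _).mp s.2⟩
          invFun := fun s => ⟨n⁻¹ * s * n, (hn2 _).mp s.2⟩
          left_inv := fun s => Subtype.ext (by simp [mul_assoc])
          right_inv := fun s => Subtype.ext (by simp [mul_assoc])
          map_mul' := fun u v => Subtype.ext (by simp [mul_assoc]) }
      rw [Subgroup.mem_normalizer_iff]
      intro x
      change x ∈ T' ↔ n * x * n⁻¹ ∈ T'
      rw [hT', hT']
      constructor
      · rintro ⟨t, ht, rfl⟩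
        exact ⟨ψ t, char_mem T hTc ψ t ht, rfl⟩
      · rintro ⟨t, ht, hte⟩
        refine ⟨ψ.symm t, char_mem T hTc ψ.symm t ht, ?_⟩
        change n⁻¹ * (t : QG p) * n = x
        rw [hte]; group
  · intro htop
    have h1 : g * lowEl p * g⁻¹ ∈ Subgroup.normalizer ((S : Subgroup (QG p)) : Set (QG p)) := by
      rw [htop]; exact Subgroup.mem_top _
    rw [hNS, ← hBN] at h1
    have e : g⁻¹ * (g * lowEl p * g⁻¹) * g = lowEl p := by group
    rw [e] at h1
    exact lowEl_not_mem h1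


end Cfsg.Agent.S2763
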