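import Mathlib
import Cfsg.Statements.S3074
import Cfsg.Agent.S2763
import Cfsg.Agent.S0093
import Cfsg.Agent.Lib.Helper2.FrattiniP

set_option autoImplicit false
open Cfsg

namespace Cfsg.Agent.S3074

open Matrix Cfsg.Agent.Lib.Helper37 Cfsg.Agent.S2763
open scoped commutatorElement

/-- abstract criterion for extraspecial groups -/
theorem extraspecial_of {P : Type*} [Group P] [Finite P] (p : ℕ) [Fact p.Prime] (hP : IsPGroup p P)
    (Z : Subgroup P) (hZc : Z ≤ Subgroup.center P) (hZcard : Nat.card Z = p)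
    (hpow : ∀ x : P, x ^ p ∈ Z) (hcomm : ∀ x y : P, x * y * x⁻¹ * y⁻¹ ∈ Z)
    (hna : ∃ x y : P, x * y ≠ y * x) (hcen : Subgroup.center P ≤ Z) : Cfsg.IsExtraspecial p P := by
  have hp : p.Prime := Fact.out
  have hcenter : Subgroup.center P = Z := le_antisymm hcen hZc
  have hcomle : commutator P ≤ Z := by
    rw [commutator_def, Subgroup.commutator_le]
    intro x _ y _
    rw [commutatorElement_def]
    exact hcomm x y
  have hcomne : commutator P ≠ ⊥ := by
    intro h
    obtain ⟨x, y, hxy⟩ := hna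
    apply hxy
    have : ⁅x, y⁆ ∈ commutator P :=
      Subgroup.commutator_mem_commutator (Subgroup.mem_top x) (Subgroup.mem_top y)
    rw [h, Subgroup.mem_bot, commutatorElement_eq_one_iff_mul_comm] at this
    exact this
  have hcomeq : commutator P = Z := by
    apply Subgroup.eq_of_le_of_card_ge hcomle
    rw [hZcard]
    have hdvd : Nat.card (commutator P) ∣ p := hZcard ▸ Subgroup.card_dvd_of_le hcomle
    rcases (Nat.dvd_prime hp).mp hdvd with h1 | h1
    · exact absurd (Subgroup.card_eq_one.mp h1) hcomne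
    · exact h1.ge
  have hfrat : frattini P = Z := by
    apply le_antisymm
    · exact Cfsg.Agent.S0093.frattini_le_of_elementary p hp Z hpow hcomm
    · rw [← hcomeq]; exact Cfsg.Agent.Lib.Helper2.commutator_le_frattini hP
  exact ⟨⟨hP, by rw [hfrat, hcenter], by rw [hcomeq, hcenter]⟩, by rw [hcenter, hZcard]⟩

variable {p : ℕ} [Fact p.Prime]

theorem uni_inj {b u v b' u' v' : ZMod p} (h : uni b u v = uni b' u' v') :
    b = b' ∧ u = u' ∧ v = v' := by
  have h1 := congrArg qmat h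
  rw [qmat_uni, qmat_uni] at h1
  refine ⟨?_, ?_, ?_⟩
  · simpa using congrFun (congrFun h1 0) 1
  · simpa using congrFun (congrFun h1 0) 2
  · simpa using congrFun (congrFun h1 1) 2

theorem card_U0 : Nat.card ↥(U0 p) = p ^ 3 := by
  have e : (ZMod p × ZMod p × ZMod p) ≃ ↥(U0 p) :=
    Equiv.ofBijective (fun t => ⟨uni t.1 t.2.1 t.2.2, uni_mem _ _ _⟩) (by
      constructor
      · rintro ⟨b, u, v⟩ ⟨b', u', v'⟩ h
        have h1 := congrArg Subtype.val h
        obtain ⟨h1, h2, h3⟩ := uni_inj h1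
        simp only at h1 h2 h3
        rw [h1, h2, h3]
      · rintro ⟨x, hx⟩
        exact ⟨(qmat x 0 1, qmat x 0 2, qmat x 1 2), Subtype.ext (eq_uni_of_mem x hx).symm⟩)
  rw [← Nat.card_congr e, Nat.card_prod, Nat.card_prod, Nat.card_zmod]
  ring

theorem pow_p_of_mem_U0 (hp : p ≠ 2) (x : QG p) (hx : x ∈ U0 p) : x ^ p = 1 := by
  apply qmat_injective
  rw [qmat_pow, qmat_one]
  apply pow_char_eq_one_of_cube_zero p hp
  rw [eq_uni_of_mem x hx, qmat_uni]
  ext i j
  fin_cases i <;> fin_cases j <;> simp [Matrix.mul_apply, Fin.sum_univ_three]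

theorem mem_zpowers_uni (c : ZMod p) : uni 0 c 0 ∈ Subgroup.zpowers (uni (0 : ZMod p) 1 0) := by
  have f2 : ∀ s t : ZMod p, uni (0 : ZMod p) (s + t) 0 = uni 0 s 0 * uni 0 t 0 := by
    intro s t; rw [uni_mul]; congr 1 <;> ring
  exact mem_of_param (fun s => uni 0 s 0) f2 _ 1 one_ne_zero (Subgroup.mem_zpowers _) c

/-- the structure of any group isomorphic to the unitriangular group -/
theorem main (hp : p ≠ 2) {P : Type*} [Group P] [Finite P] (e : P ≃* ↥(U0 p)) :
    Cfsg.IsExtraspecial p P ∧ Nat.card P = p ^ 3 ∧ Monoid.exponent P = p := by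
  have hpp : p.Prime := Fact.out
  have hcard : Nat.card P = p ^ 3 := by rw [Nat.card_congr e.toEquiv, card_U0]
  have hpow1 : ∀ x : P, x ^ p = 1 := by
    intro x
    apply e.injective
    rw [map_pow, map_one]
    apply Subtype.ext
    rw [Subgroup.coe_pow]
    exact pow_p_of_mem_U0 hp _ (e x).2
  let z0 : ↥(U0 p) := ⟨uni 0 1 0, uni_mem _ _ _⟩
  let w : P := e.symm z0
  -- membership in the centre subgroup
  have hmem : ∀ g : P, (∃ c : ZMod p, ((e g : ↥(U0 p)) : QG p) = uni 0 c 0) → g ∈ Subgroup.zpowers w := by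
    rintro g ⟨c, hc⟩
    obtain ⟨k, hk⟩ := Subgroup.mem_zpowers_iff.mp (mem_zpowers_uni c)
    rw [Subgroup.mem_zpowers_iff]
    refine ⟨k, ?_⟩
    apply e.injective
    rw [map_zpow, MulEquiv.apply_symm_apply]
    apply Subtype.ext
    rw [Subgroup.coe_zpow, hc]
    exact hk
  have hex : ∀ g : P, ∃ b u v : ZMod p, ((e g : ↥(U0 p)) : QG p) = uni b u v :=
    fun g => ⟨_, _, _, eq_uni_of_mem _ (e g).2⟩
  have hcoe_mul : ∀ g h : P, ((e (g * h) : ↥(U0 p)) : QG p) = (e g : QG p) * (e h : QG p) := by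
    intro g h; rw [map_mul]; rfl
  have hw : ((e w : ↥(U0 p)) : QG p) = uni 0 1 0 := by
    show ((e (e.symm z0) : ↥(U0 p)) : QG p) = uni 0 1 0
    rw [MulEquiv.apply_symm_apply]
  have hinj : ∀ g h : P, ((e g : ↥(U0 p)) : QG p) = (e h : QG p) → g = h :=
    fun g h hgh => e.injective (Subtype.ext hgh)
  have hP : IsPGroup p P := IsPGroup.of_card hcard
  have hZc : Subgroup.zpowers w ≤ Subgroup.center P := by
    rw [Subgroup.zpowers_le, Subgroup.mem_center_iff]
    intro g
    apply hinj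
    obtain ⟨b, u, v, hg⟩ := hex g
    rw [hcoe_mul, hcoe_mul, hw, hg, uni_mul, uni_mul]
    congr 1 <;> ring
  have hZcard : Nat.card (Subgroup.zpowers w) = p := by
    rw [Nat.card_zpowers]
    apply orderOf_eq_prime (hpow1 w)
    intro h1
    have h2 : ((e w : ↥(U0 p)) : QG p) = uni 0 0 0 := by rw [h1, map_one, uni_zero]; rfl
    rw [hw] at h2
    exact one_ne_zero (uni_inj h2).2.1
  refine ⟨extraspecial_of p hP (Subgroup.zpowers w) hZc hZcard ?_ ?_ ?_ ?_, hcard, ?_⟩
  · intro x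
    rw [hpow1]; exact Subgroup.one_mem _
  · intro x y
    apply hmem
    obtain ⟨b, u, v, hx⟩ := hex x
    obtain ⟨b', u', v', hy⟩ := hex y
    refine ⟨b * v' - b' * v, ?_⟩
    have h1 : ((e (x * y) : ↥(U0 p)) : QG p) = uni 0 (b * v' - b' * v) 0 * (e (y * x) : QG p) := by
      rw [hcoe_mul, hcoe_mul, hx, hy, uni_mul, uni_mul, uni_mul]
      congr 1 <;> ring
    have h2 : x * y * x⁻¹ * y⁻¹ = (x * y) * (y * x)⁻¹ := by group
    rw [h2, hcoe_mul, h1, map_inv, Subgroup.coe_inv, mul_inv_cancel_right]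
  · refine ⟨e.symm ⟨uni 1 0 0, uni_mem _ _ _⟩, e.symm ⟨uni 0 0 1, uni_mem _ _ _⟩, ?_⟩
    intro h
    have h1 := congrArg (fun g => ((e g : ↥(U0 p)) : QG p)) h
    simp only [hcoe_mul, MulEquiv.apply_symm_apply] at h1
    rw [uni_mul, uni_mul] at h1
    have h2 := (uni_inj h1).2.1
    simp at h2
  · intro g hg
    rw [Subgroup.mem_center_iff] at hg
    apply hmem
    obtain ⟨b, u, v, hge⟩ := hex g
    have h1 := congrArg (fun g => ((e g : ↥(U0 p)) : QG p)) (hg (e.symm ⟨uni 1 0 0, uni_mem _ _ _⟩))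
    have h2 := congrArg (fun g => ((e g : ↥(U0 p)) : QG p)) (hg (e.symm ⟨uni 0 0 1, uni_mem _ _ _⟩))
    simp only [hcoe_mul, MulEquiv.apply_symm_apply, hge] at h1 h2
    rw [uni_mul, uni_mul] at h1 h2
    have hv := (uni_inj h1).2.1
    have hb := (uni_inj h2).2.1
    have hv0 : v = 0 := by linear_combination hv
    have hb0 : b = 0 := by linear_combination -hb
    exact ⟨u, by rw [hge, hv0, hb0]⟩
  · have hdvd : Monoid.exponent P ∣ p := Monoid.exponent_dvd_of_forall_pow_eq_one hpow1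
    rcases (Nat.dvd_prime hpp).mp hdvd with h1 | h1
    · exfalso
      have hw1 : w = 1 := by
        have := Monoid.pow_exponent_eq_one w
        rwa [h1, pow_one] at this
      have h2 : ((e w : ↥(U0 p)) : QG p) = uni 0 0 0 := by rw [hw1, map_one, uni_zero]; rfl
      rw [hw] at h2
      exact one_ne_zero (uni_inj h2).2.1
    · exact h1

/-- Statement S3074. -/
theorem result (p : ℕ) [Fact p.Prime] (hp : p ≠ 2) (P : Sylow p ↥(Cfsg.qd p)) :
    Cfsg.IsExtraspecial p ↥P ∧ Nat.card P = p ^ 3 ∧ Monoid.exponent ↥P = p := by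
  obtain ⟨g, hg⟩ := MulAction.exists_smul_eq (QG p) (S0 p) P
  have hS : ∀ x : QG p, x ∈ (P : Subgroup (QG p)) ↔ g⁻¹ * x * g ∈ U0 p := by
    intro x
    rw [← hg, Sylow.coe_subgroup_smul, Subgroup.mem_pointwise_smul_iff_inv_smul_mem, coe_S0]
    simp [MulAut.smul_def]
  let c : ↥(P : Subgroup (QG p)) ≃* ↥(U0 p) :=
    { toFun := fun s => ⟨g⁻¹ * s * g, (hS _).mp s.2⟩
      invFun := fun u => ⟨g * u * g⁻¹, (hS _).mpr (by simp [mul_assoc])⟩
      left_inv := fun u => Subtype.ext (by simp [mul_assoc])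
      right_inv := fun s => Subtype.ext (by simp [mul_assoc])
      map_mul' := fun u v => Subtype.ext (by simp [mul_assoc]) }
  exact main hp c

end Cfsg.Agent.S3074
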