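import Mathlib
import Cfsg.Statements.S2761

set_option autoImplicit false
open Cfsg

namespace Cfsg.Agent.S2761

/-- The affine subgroup of `SL₃(2)`: last row `(0, 0, 1)`. -/
def aff : Subgroup (Matrix.SpecialLinearGroup (Fin 3) (ZMod 2)) where
  carrier := {M | (M : Matrix (Fin 3) (Fin 3) (ZMod 2)) 2 0 = 0 ∧
    (M : Matrix (Fin 3) (Fin 3) (ZMod 2)) 2 1 = 0 ∧ (M : Matrix (Fin 3) (Fin 3) (ZMod 2)) 2 2 = 1}
  mul_mem' := by
    rintro M N ⟨hM0, hM1, hM2⟩ ⟨hN0, hN1, hN2⟩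
    refine ⟨?_, ?_, ?_⟩
    · rw [Matrix.SpecialLinearGroup.coe_mul, Matrix.mul_apply, Fin.sum_univ_three, hM0, hM1, hM2,
        hN0]; simp
    · rw [Matrix.SpecialLinearGroup.coe_mul, Matrix.mul_apply, Fin.sum_univ_three, hM0, hM1, hM2,
        hN1]; simp
    · rw [Matrix.SpecialLinearGroup.coe_mul, Matrix.mul_apply, Fin.sum_univ_three, hM0, hM1, hM2,
        hN2]; simp
  one_mem' := by
    refine ⟨?_, ?_, ?_⟩ <;> simp
  inv_mem' := by
    rintro M ⟨hM0, hM1, hM2⟩
    have h : (M : Matrix (Fin 3) (Fin 3) (ZMod 2)) *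
        ((M⁻¹ : Matrix.SpecialLinearGroup (Fin 3) (ZMod 2)) : Matrix (Fin 3) (Fin 3) (ZMod 2)) = 1 := by
      rw [← Matrix.SpecialLinearGroup.coe_mul, mul_inv_cancel, Matrix.SpecialLinearGroup.coe_one]
    have h0 := congrFun (congrFun h 2) 0
    have h1 := congrFun (congrFun h 2) 1
    have h2 := congrFun (congrFun h 2) 2
    rw [Matrix.mul_apply, Fin.sum_univ_three, hM0, hM1, hM2] at h0 h1 h2
    refine ⟨?_, ?_, ?_⟩
    · simpa using h0
    · simpa using h1
    · simpa using h2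

theorem qd_eq : Cfsg.qd 2 = aff := Subgroup.closure_eq aff

/-- The affine points. -/
abbrev Pt := {v : Fin 3 → ZMod 2 // v 2 = 1}

instance affAction : MulAction aff Pt where
  smul M v := ⟨((M : Matrix.SpecialLinearGroup (Fin 3) (ZMod 2)) : Matrix (Fin 3) (Fin 3) (ZMod 2)).mulVec v.1, by
    obtain ⟨h0, h1, h2⟩ := M.2
    simp only [Matrix.mulVec, dotProduct, Fin.sum_univ_three]
    rw [h0, h1, h2, v.2]; simp⟩
  one_smul v := Subtype.ext (by
    change ((1 : Matrix.SpecialLinearGroup (Fin 3) (ZMod 2)) : Matrix (Fin 3) (Fin 3) (ZMod 2)).mulVec v.1 = v.1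
    simp)
  mul_smul M N v := Subtype.ext (by
    change (((M : Matrix.SpecialLinearGroup (Fin 3) (ZMod 2)) * (N : Matrix.SpecialLinearGroup (Fin 3) (ZMod 2)) : Matrix.SpecialLinearGroup (Fin 3) (ZMod 2)) : Matrix (Fin 3) (Fin 3) (ZMod 2)).mulVec v.1 =
      ((M : Matrix.SpecialLinearGroup (Fin 3) (ZMod 2)) : Matrix (Fin 3) (Fin 3) (ZMod 2)).mulVec
        (((N : Matrix.SpecialLinearGroup (Fin 3) (ZMod 2)) : Matrix (Fin 3) (Fin 3) (ZMod 2)).mulVec v.1)
    rw [Matrix.SpecialLinearGroup.coe_mul, Matrix.mulVec_mulVec])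

theorem smul_val (M : aff) (v : Pt) :
    (M • v).1 = ((M : Matrix.SpecialLinearGroup (Fin 3) (ZMod 2)) : Matrix (Fin 3) (Fin 3) (ZMod 2)).mulVec v.1 :=
  rfl

def p0 : Pt := ⟨![0, 0, 1], rfl⟩
def p1 : Pt := ⟨![0, 1, 1], rfl⟩
def p2 : Pt := ⟨![1, 0, 1], rfl⟩
def p3 : Pt := ⟨![1, 1, 1], rfl⟩

def ptEquiv : Pt ≃ Fin 4 where
  toFun v := if v.1 0 = 0 then (if v.1 1 = 0 then 0 else 1) else (if v.1 1 = 0 then 2 else 3)
  invFun := ![p0, p1, p2, p3]
  left_inv := by decide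
  right_inv := by decide

/-- The permutation representation on the four affine points. -/
def rep : aff →* Equiv.Perm (Fin 4) :=
  (ptEquiv.permCongrHom.toMonoidHom).comp (MulAction.toPermHom aff Pt)

theorem rep_apply (M : aff) (i : Fin 4) : rep M i = ptEquiv (M • ptEquiv.symm i) := rfl

theorem eq_one_of_fix (N : Matrix (Fin 3) (Fin 3) (ZMod 2))
    (h : ∀ v : Pt, N.mulVec v.1 = v.1) : N = 1 := by
  have h0 := h p0
  have h1 := h p1
  have h2 := h p2
  ext i j
  have a0 := congrFun h0 i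
  have a1 := congrFun h1 i
  have a2 := congrFun h2 i
  simp only [Matrix.mulVec, dotProduct, Fin.sum_univ_three, p0, p1, p2] at a0 a1 a2
  fin_cases i <;> fin_cases j <;> simp at a0 a1 a2 ⊢ <;> simp_all

theorem rep_injective : Function.Injective rep := by
  rw [← MonoidHom.ker_eq_bot_iff, eq_bot_iff]
  intro M hM
  rw [MonoidHom.mem_ker] at hM
  rw [Subgroup.mem_bot]
  have hfix : ∀ v : Pt, M • v = v := by
    intro v
    have := congrArg (fun σ => σ (ptEquiv v)) hM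
    simp only [rep_apply, Equiv.symm_apply_apply, Equiv.Perm.coe_one, id_eq] at this
    exact ptEquiv.injective this
  apply Subtype.ext
  apply Subtype.ext
  apply eq_one_of_fix
  intro v
  have := congrArg Subtype.val (hfix v)
  rwa [smul_val] at this

def Mc : aff := ⟨⟨!![1, 1, 0; 0, 1, 1; 0, 0, 1], by decide⟩, ⟨rfl, rfl, rfl⟩⟩
def Ms : aff := ⟨⟨!![1, 0, 0; 1, 1, 1; 0, 0, 1], by decide⟩, ⟨rfl, rfl, rfl⟩⟩

theorem rep_Mc : rep Mc = finRotate 4 := by decide
theorem rep_Ms : rep Ms = Equiv.swap 0 1 := by decide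

theorem rep_surjective : Function.Surjective rep := by
  rw [← MonoidHom.range_eq_top, eq_top_iff,
    ← Equiv.Perm.closure_cycle_adjacent_swap (isCycle_finRotate (n := 2)) support_finRotate (0 : Fin 4),
    Subgroup.closure_le]
  rintro σ (rfl | hσ)
  · exact ⟨Mc, rep_Mc⟩
  · rw [Set.mem_singleton_iff] at hσ
    subst hσ
    exact ⟨Ms, by rw [rep_Ms]; decide⟩

/-- The group Qd(2), the natural semidirect product of an elementary abelian group of order 4 by SL₂(2) (realised as the affine subgroup of SL₃(2)), is isomorphic to the symmetric group of degree 4. -/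
theorem result : Nonempty (↥(Cfsg.qd 2) ≃* Equiv.Perm (Fin 4)) := by
  rw [qd_eq]
  exact ⟨MulEquiv.ofBijective rep ⟨rep_injective, rep_surjective⟩⟩

end Cfsg.Agent.S2761
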