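import Mathlib
import Cfsg.Statements.S5329
import Cfsg.Agent.Lib.Helper85.FusionNormal
import Cfsg.Agent.Lib.Helper88.BisetSat
import Cfsg.Agent.Lib.Helper88.BisetTransfer
import Cfsg.Agent.Lib.Helper88.BisetCount

set_option autoImplicit false
open Cfsg Cfsg.FusionSystem Cfsg.Agent.Lib.Helper88 MulAction

namespace Cfsg.Agent.S5329

theorem derived_le_focal {Ω : Type*} [Group Ω] {S : Subgroup Ω} (F : Cfsg.FusionSystem S) :
    ⁅(S : Subgroup Ω), (S : Subgroup Ω)⁆ ≤ F.focalSubgroup := by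
  rw [Subgroup.commutator_le]
  intro a ha b hb
  apply Subgroup.subset_closure
  refine ⟨S, conjHom S b, ⟨a⁻¹, S.inv_mem ha⟩, F.conj_mem le_rfl hb, ?_⟩
  show a * b * a⁻¹ * b⁻¹ = (a⁻¹)⁻¹ * (b * a⁻¹ * b⁻¹)
  group

universe u

theorem focal_meet_center_le {Ω : Type u} [Group Ω] {S : Subgroup Ω} [Finite S] (p : ℕ)
    [Fact p.Prime] (hS : IsPGroup p S) (F : Cfsg.FusionSystem S) (hF : F.IsSaturated p) :
    F.focalSubgroup ⊓ F.center ≤ ⁅(S : Subgroup Ω), (S : Subgroup Ω)⁆ := by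
  intro z hz
  obtain ⟨hzfoc, hzcen⟩ := hz
  have hcen := Cfsg.Agent.Lib.Helper85.isCentral_center F
  obtain ⟨hcS, hcext⟩ := hcen
  have hzS : z ∈ S := hcS hzcen
  obtain ⟨X, iX, fX, hgen, hst, -, c, hc⟩ := exists_char_biset hS F hF
  have hm := card_rq_not_dvd hS F hF X hgen hst c hc
  -- centrality of z
  have hfix : ∀ (P : Subgroup Ω) (f : Ω → Ω), Mor F P f → ∀ w : Ω, w ∈ F.center → w ∈ P →
      f w = w := by
    intro P f hf w hw hwP
    obtain ⟨φ, hφ, hφf⟩ := hf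
    obtain ⟨ψ', hψ', hψ1, hψ2⟩ := hcext P φ hφ
    have h1 := hψ1 ⟨w, hwP⟩
    have h2 := hψ2 ⟨w, hw⟩
    have e : Subgroup.inclusion (le_sup_left : P ≤ P ⊔ F.center) ⟨w, hwP⟩
        = Subgroup.inclusion (le_sup_right : F.center ≤ P ⊔ F.center) ⟨w, hw⟩ := rfl
    rw [e, h2] at h1
    rw [← hφf ⟨w, hwP⟩]
    exact h1.symm
  let z' : S := ⟨z, hzS⟩
  have hzc : ∀ s : S, s * z' = z' * s := by
    intro s
    have h := hfix S (fun x => (s : Ω) * x * (s : Ω)⁻¹) (mor_conj F le_rfl s.2) z hzcen hzS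
    apply Subtype.ext
    show (s : Ω) * z = z * (s : Ω)
    have h' : (s : Ω) * z * (s : Ω)⁻¹ = z := h
    calc (s : Ω) * z = (s : Ω) * z * (s : Ω)⁻¹ * (s : Ω) := by group
      _ = z * (s : Ω) := by rw [h']
  have hzF : ∀ (P : Subgroup Ω) (f : Ω → Ω), Mor F P f → ∀ k : ℕ, ((z' : S) : Ω) ^ k ∈ P →
      f (((z' : S) : Ω) ^ k) = ((z' : S) : Ω) ^ k := by
    intro P f hf k hk
    exact hfix P f hf _ (F.center.pow_mem hzcen k) hk
  obtain ⟨τ, hτst, hτz⟩ := exists_tau F X hgen hst (Abelianization.of : S →* Abelianization S)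
    z' hzc hzF
  -- the focal subgroup lies in the kernel of τ
  have hfocle : F.focalSubgroup ≤ (τ.ker).map S.subtype := by
    unfold FusionSystem.focalSubgroup
    rw [Subgroup.closure_le]
    rintro y ⟨P, φ, x, hφ, rfl⟩
    obtain ⟨hPS, hφS⟩ := F.le_of_mem hφ
    refine ⟨⟨x, hPS x.2⟩⁻¹ * ⟨φ x, hφS x⟩, ?_, rfl⟩
    show τ (⟨x, hPS x.2⟩⁻¹ * ⟨φ x, hφS x⟩) = 1
    rw [map_mul, map_inv, hτst P hPS φ hφ hφS x, inv_mul_cancel]
  obtain ⟨w, hw, hwz⟩ := hfocle hzfoc
  have hwz' : w = z' := Subtype.ext hwz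
  rw [hwz'] at hw
  have hτ1 : τ z' = 1 := hw
  rw [hτ1] at hτz
  -- the image of z in the abelianization has order prime to p and a power of p
  have h1 : (Abelianization.of z' : Abelianization S) ^ Nat.card (RQ S X) = 1 := by
    have := hτz.symm
    rw [inv_pow, inv_eq_one] at this
    exact this
  obtain ⟨k, hk⟩ := hS z'
  have h2 : (Abelianization.of z' : Abelianization S) ^ (p ^ k) = 1 := by
    rw [← map_pow, hk, map_one]
  have hcop : Nat.Coprime (Nat.card (RQ S X)) (p ^ k) :=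
    Nat.Coprime.pow_right k ((Nat.Prime.coprime_iff_not_dvd (Fact.out)).2 hm).symm
  have h3 : (Abelianization.of z' : Abelianization S) = 1 := by
    have hd1 := orderOf_dvd_of_pow_eq_one h1
    have hd2 := orderOf_dvd_of_pow_eq_one h2
    have h4 := Nat.dvd_gcd hd1 hd2
    rw [Nat.Coprime.gcd_eq_one hcop] at h4
    exact orderOf_eq_one_iff.1 (Nat.dvd_one.1 h4)
  have h5 : z' ∈ commutator S := by
    rw [← Abelianization.ker_of]
    exact h3
  have h6 : (commutator S).map S.subtype = ⁅(S : Subgroup Ω), (S : Subgroup Ω)⁆ := by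
    rw [commutator_def, Subgroup.map_commutator, ← MonoidHom.range_eq_map, Subgroup.range_subtype]
  rw [← h6]
  exact ⟨z', h5, rfl⟩

/-- For a saturated fusion system F over a finite p-group S, the focal subgroup and the derived subgroup of S meet the centre Z(F) of the system in the same subgroup: foc(F) ∩ Z(F) = S′ ∩ Z(F). -/
theorem result {Ω : Type*} [Group Ω] {S : Subgroup Ω} [Finite S] (p : ℕ) [Fact p.Prime] (hS : IsPGroup p S) (F : Cfsg.FusionSystem S) (hF : F.IsSaturated p) : F.focalSubgroup ⊓ F.center = ⁅(S : Subgroup Ω), (S : Subgroup Ω)⁆ ⊓ F.center := by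
  apply le_antisymm
  · exact le_inf (focal_meet_center_le p hS F hF) inf_le_right
  · exact inf_le_inf_right _ (derived_le_focal F)

end Cfsg.Agent.S5329
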