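import Cfsg.Statements.S5124
import Cfsg.Agent.Lib.Helper87.FusionHyp
-- import your own Cfsg.Agent.* helpers here

set_option autoImplicit false
open Cfsg

namespace Cfsg.Agent.S5124

/-- In a saturated fusion system over a finite p-group S the hyperfocal subgroup is strongly closed in the system. -/
theorem result {Ω : Type*} [Group Ω] {S : Subgroup Ω} [Finite S] (p : ℕ) [Fact p.Prime] (hS : IsPGroup p S) (F : Cfsg.FusionSystem S) (hF : F.IsSaturated p) : F.StronglyClosed (F.hyperfocalSubgroup p) := by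
  have hHS := Lib.Helper87.hyperfocal_le F p
  have hK := Lib.Helper87.hyperfocal_conj_iff F p
  have hsub := Lib.Helper87.alperin hS F hF
    (Lib.Helper87.stabSystem F (F.hyperfocalSubgroup p) hK) ?_
  · refine ⟨hHS, ?_⟩
    intro R hRK φ hφ x
    exact ((hsub R hφ).2 x).1 (hRK x.2)
  · intro R hfa hrec _ _ _ α hα
    have hR := hrec.1
    have one : ∀ β ∈ F.autGroup R, ∀ x : R, (x : Ω) ∈ F.hyperfocalSubgroup p →
        ((β x : R) : Ω) ∈ F.hyperfocalSubgroup p := by
      intro β hβ x hx
      obtain ⟨c, hc, u, hu, rfl⟩ := Lib.Helper87.exists_aut_mul_pResidual F hfa hβ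
      obtain ⟨g, hg, hgc⟩ := (Lib.Helper87.mem_autInducedBy_iff S R c).1 hc
      have h1 := Lib.Helper87.hyperfocal_gen F p hR hu x
      have h2 : ((u x : R) : Ω) ∈ F.hyperfocalSubgroup p := by
        have h3 : ((u x : R) : Ω) = (x : Ω) * ((x : Ω)⁻¹ * ((u x : R) : Ω)) := by group
        rw [h3]
        exact Subgroup.mul_mem _ hx h1
      rw [MulAut.mul_apply, hgc]
      exact Lib.Helper87.hyperfocal_conj_mem F p hg h2
    refine ⟨(Lib.Helper87.mem_autGroup_iff F hR α).1 hα, fun x => ⟨one α hα x, fun h => ?_⟩⟩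
    have h6 := one α⁻¹ ((F.autGroup R).inv_mem hα) (α x) h
    simpa using h6

end Cfsg.Agent.S5124
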