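import Cfsg.Statements.S5256
import Cfsg.Agent.Lib.Helper87.FusionHypFactor
import Cfsg.Agent.S5134
-- import your own Cfsg.Agent.* helpers here

set_option autoImplicit false
open Cfsg

namespace Cfsg.Agent.S5256

/-- Let F be a saturated fusion system over a finite p-group S, T a subgroup of S strongly closed in F, and E a factor system F/T realised along a homomorphism θ of S with kernel T. Then the hyperfocal subgroup of E is the image under θ of the hyperfocal subgroup of F (hyp(F/T) = T·hyp(F)/T). -/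
theorem result {Ω : Type*} [Group Ω] {S : Subgroup Ω} [Finite S] (p : ℕ) [Fact p.Prime] (hS : IsPGroup p S) (F : Cfsg.FusionSystem S) (hF : F.IsSaturated p) (T : Subgroup Ω) (hT : F.StronglyClosed T) {Ω' : Type*} [Group Ω'] {S' : Subgroup Ω'} (θ : ↥S →* Ω') (E : Cfsg.FusionSystem S') (hE : F.IsFactorSystem T θ E) : E.hyperfocalSubgroup p = ((F.hyperfocalSubgroup p).subgroupOf S).map θ := by
  have hmor := (Cfsg.Agent.S5134.result p hS F hF T hT θ E hE).1
  obtain ⟨hTS, hker, hrange, hEhom⟩ := hE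
  apply le_antisymm
  · -- generators of the hyperfocal subgroup of the factor system
    unfold Cfsg.FusionSystem.hyperfocalSubgroup
    rw [Subgroup.closure_le]
    rintro y ⟨P', α', x', hP', hα', rfl⟩
    have hPS : Cfsg.FusionSystem.preimageAlong θ P' ≤ S := by
      rintro _ ⟨s, -, rfl⟩
      exact s.2
    have hfinP : Finite (Cfsg.FusionSystem.preimageAlong θ P') := Lib.Helper87.finite_of_le hPS
    have hθP : ∀ x : Cfsg.FusionSystem.preimageAlong θ P', θ ⟨x, hPS x.2⟩ ∈ P' := by
      rintro ⟨_, s, hs, rfl⟩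
      exact hs
    have hsurj : Function.Surjective
        ((θ.comp (Subgroup.inclusion hPS)).codRestrict P' hθP) := by
      intro y
      have hy : (y : Ω') ∈ θ.range := hrange ▸ hP' y.2
      obtain ⟨s, hs⟩ := hy
      have hsP : (s : Ω) ∈ Cfsg.FusionSystem.preimageAlong θ P' :=
        ⟨s, by show θ s ∈ P'; rw [hs]; exact y.2, rfl⟩
      exact ⟨⟨(s : Ω), hsP⟩, Subtype.ext hs⟩
    have hlift : ∀ β' ∈ E.autGroup P', ∃ β ∈ F.autGroup (Cfsg.FusionSystem.preimageAlong θ P'),
        ∀ x, β' (((θ.comp (Subgroup.inclusion hPS)).codRestrict P' hθP) x)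
          = ((θ.comp (Subgroup.inclusion hPS)).codRestrict P' hθP) (β x) := by
      intro β' hβ'
      have h1 := (Lib.Helper87.mem_autGroup_iff E hP' β').1 hβ'
      obtain ⟨-, φ, hφ, hP, hφS, hPP', hind⟩ := (hEhom _ _).1 h1
      have hφP : ∀ x : Cfsg.FusionSystem.preimageAlong θ P',
          φ x ∈ Cfsg.FusionSystem.preimageAlong θ P' := by
        intro x
        refine ⟨⟨φ x, hφS x⟩, ?_, rfl⟩
        show θ ⟨φ x, hφS x⟩ ∈ P'
        rw [← hind x]
        exact (β' _).2
      have hinj := F.injective_of_mem hφ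
      have hrange' : φ.range = Cfsg.FusionSystem.preimageAlong θ P' := by
        have hle : φ.range ≤ Cfsg.FusionSystem.preimageAlong θ P' := by
          rintro _ ⟨x, rfl⟩
          exact hφP x
        have hcard : Nat.card φ.range = Nat.card (Cfsg.FusionSystem.preimageAlong θ P') :=
          (Nat.card_congr (Equiv.ofInjective φ hinj)).symm
        exact Subgroup.eq_of_le_of_card_ge hle hcard.ge
      refine ⟨Lib.Helper87.isoOfHom φ hinj hrange', ?_, fun x => ?_⟩
      · rw [Lib.Helper87.mem_autGroup_iff_isIso F hPS]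
        exact Lib.Helper87.isIso_isoOfHom F hφ hrange'
      · apply Subtype.ext
        exact hind x
    obtain ⟨β, hβ, hβc⟩ := Lib.Helper87.pResidual_lift_backward
      ((θ.comp (Subgroup.inclusion hPS)).codRestrict P' hθP) hsurj hlift
      (⟨α', hα', rfl⟩ : (α' : MulAut P') ∈ (Cfsg.pResidual p ↥(E.autGroup P')).map
        (E.autGroup P').subtype)
    obtain ⟨x, rfl⟩ := hsurj x'
    have hgen := Lib.Helper87.hyperfocal_gen F p hPS hβ x
    have hmem : (x : Ω)⁻¹ * ((β x : Cfsg.FusionSystem.preimageAlong θ P') : Ω) ∈ S :=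
      S.mul_mem (S.inv_mem (hPS x.2)) (hPS (β x).2)
    refine ⟨⟨(x : Ω)⁻¹ * ((β x : Cfsg.FusionSystem.preimageAlong θ P') : Ω), hmem⟩, hgen, ?_⟩
    have h3 : (⟨(x : Ω)⁻¹ * ((β x : Cfsg.FusionSystem.preimageAlong θ P') : Ω), hmem⟩ : S)
        = (⟨x, hPS x.2⟩ : S)⁻¹ * ⟨(β x : Cfsg.FusionSystem.preimageAlong θ P'), hPS (β x).2⟩ := rfl
    rw [h3, map_mul, map_inv]
    have h4 := congrArg Subtype.val (hβc x)
    rw [h4]
    rfl
  · rintro _ ⟨s, hs, rfl⟩
    have hs' : (s : Ω) ∈ F.hyperfocalSubgroup p := hs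
    have key : F.hyperfocalSubgroup p ≤ ((E.hyperfocalSubgroup p).comap θ).map S.subtype := by
      unfold Cfsg.FusionSystem.hyperfocalSubgroup
      rw [Subgroup.closure_le]
      rintro y ⟨P, α, x, hP, hα, rfl⟩
      have hθP : ∀ x : P, θ ⟨x, hP x.2⟩ ∈ Cfsg.FusionSystem.imageAlong θ P := by
        intro x
        exact ⟨⟨x, hP x.2⟩, x.2, rfl⟩
      have hsurj : Function.Surjective
          ((θ.comp (Subgroup.inclusion hP)).codRestrict (Cfsg.FusionSystem.imageAlong θ P) hθP) := by
        rintro ⟨_, s, hs, rfl⟩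
        exact ⟨⟨(s : Ω), hs⟩, rfl⟩
      have hfinP : Finite P := Lib.Helper87.finite_of_le hP
      have hfinP' : Finite (Cfsg.FusionSystem.imageAlong θ P) := Finite.of_surjective _ hsurj
      have hP'S' : Cfsg.FusionSystem.imageAlong θ P ≤ S' := by
        rw [← hrange]
        rintro _ ⟨s, -, rfl⟩
        exact ⟨s, rfl⟩
      have hlift : ∀ β ∈ F.autGroup P, ∃ β' ∈ E.autGroup (Cfsg.FusionSystem.imageAlong θ P),
          ∀ x, β' (((θ.comp (Subgroup.inclusion hP)).codRestrict
              (Cfsg.FusionSystem.imageAlong θ P) hθP) x)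
            = ((θ.comp (Subgroup.inclusion hP)).codRestrict
              (Cfsg.FusionSystem.imageAlong θ P) hθP) (β x) := by
        intro β hβ
        have h1 := (Lib.Helper87.mem_autGroup_iff F hP β).1 hβ
        obtain ⟨φ', hφ', hP₀, hφS, hPP', hind⟩ := hmor.2 P _ h1
        have hinj := E.injective_of_mem hφ'
        have hrange' : φ'.range = Cfsg.FusionSystem.imageAlong θ P := by
          have hle : φ'.range ≤ Cfsg.FusionSystem.imageAlong θ P := by
            rintro _ ⟨y, rfl⟩
            obtain ⟨x, rfl⟩ := hsurj y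
            have h2 := hind x
            have h3 : φ' (((θ.comp (Subgroup.inclusion hP)).codRestrict
                (Cfsg.FusionSystem.imageAlong θ P) hθP) x)
                = θ ⟨(P.subtype.comp β.toMonoidHom) x, hφS x⟩ := h2
            rw [h3]
            exact hθP (β x)
          have hcard : Nat.card φ'.range = Nat.card (Cfsg.FusionSystem.imageAlong θ P) :=
            (Nat.card_congr (Equiv.ofInjective φ' hinj)).symm
          exact Subgroup.eq_of_le_of_card_ge hle hcard.ge
        refine ⟨Lib.Helper87.isoOfHom φ' hinj hrange', ?_, fun x => ?_⟩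
        · rw [Lib.Helper87.mem_autGroup_iff_isIso E hP'S']
          exact Lib.Helper87.isIso_isoOfHom E hφ' hrange'
        · apply Subtype.ext
          exact hind x
      obtain ⟨β', hβ', hβc⟩ := Lib.Helper87.pResidual_lift_forward p
        ((θ.comp (Subgroup.inclusion hP)).codRestrict (Cfsg.FusionSystem.imageAlong θ P) hθP)
        hsurj hlift
        (⟨α, hα, rfl⟩ : (α : MulAut P) ∈ (Cfsg.pResidual p ↥(F.autGroup P)).map
          (F.autGroup P).subtype)
      obtain ⟨b', hb', rfl⟩ := hβ'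
      have hmem : (x : Ω)⁻¹ * (((α : MulAut P) x : P) : Ω) ∈ S :=
        S.mul_mem (S.inv_mem (hP x.2)) (hP ((α : MulAut P) x).2)
      refine ⟨⟨(x : Ω)⁻¹ * (((α : MulAut P) x : P) : Ω), hmem⟩, ?_, rfl⟩
      show θ ⟨(x : Ω)⁻¹ * (((α : MulAut P) x : P) : Ω), hmem⟩ ∈ E.hyperfocalSubgroup p
      have h3 : (⟨(x : Ω)⁻¹ * (((α : MulAut P) x : P) : Ω), hmem⟩ : S)
          = (⟨x, hP x.2⟩ : S)⁻¹ * ⟨((α : MulAut P) x : P), hP ((α : MulAut P) x).2⟩ := rfl
      rw [h3, map_mul, map_inv]
      have h4 := congrArg Subtype.val (hβc x)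
      apply Subgroup.subset_closure
      refine ⟨Cfsg.FusionSystem.imageAlong θ P, b',
        ((θ.comp (Subgroup.inclusion hP)).codRestrict (Cfsg.FusionSystem.imageAlong θ P) hθP) x,
        hP'S', hb', ?_⟩
      exact congrArg (fun z => (θ ⟨(x : Ω), hP x.2⟩)⁻¹ * z) h4.symm
    obtain ⟨s', hs'', hss'⟩ := key hs'
    have : s' = s := Subtype.ext hss'
    rw [← this]
    exact hs''

end Cfsg.Agent.S5256
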