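import Cfsg.Statements.S2325
import Cfsg.Agent.Lib.Helper39.SL2

set_option autoImplicit false
open Cfsg

namespace Cfsg.Agent.S2325

open Matrix Cfsg.Agent.Lib.Helper39

variable {F : Type*} [Field F]

/-- the scalar matrix `-1` in `SL₂`. -/
def negOne : Matrix.SpecialLinearGroup (Fin 2) F :=
  ⟨!![-1, 0; 0, -1], by simp [Matrix.det_fin_two]⟩

/-- `1` or `-1`. -/
def sgn (b : Bool) : Matrix.SpecialLinearGroup (Fin 2) F := if b then 1 else negOne

/-- `2` or `-2`. -/
def two (b : Bool) : F := if b then 2 else -2

/-- the parametrisation of classes. -/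
def classMap (ν : Fˣ) : Bool ⊕ (F ⊕ Bool) → ConjClasses (Matrix.SpecialLinearGroup (Fin 2) F)
  | Sum.inl b => ConjClasses.mk (sgn b)
  | Sum.inr (Sum.inl t) => ConjClasses.mk (twSL t 1)
  | Sum.inr (Sum.inr b) => ConjClasses.mk (twSL (two b) ν)

theorem sgn_trace (b : Bool) :
    ((sgn b : Matrix.SpecialLinearGroup (Fin 2) F) : Matrix (Fin 2) (Fin 2) F).trace = two b := by
  cases b
  · simp [sgn, two, negOne, Matrix.trace_fin_two]; norm_num
  · simp [sgn, two, Matrix.trace_fin_two]
    try norm_num

theorem sgn_not_nonScal (b : Bool) :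
    ¬ NonScal ((sgn b : Matrix.SpecialLinearGroup (Fin 2) F) : Matrix (Fin 2) (Fin 2) F) := by
  cases b <;> simp [sgn, NonScal, negOne]

theorem two_injective (h2 : (2 : F) ≠ 0) : Function.Injective (two (F := F)) := by
  intro b b' h
  cases b <;> cases b' <;> simp [two] at h ⊢
  · have : (2 : F) * 2 = 0 := by linear_combination -h
    exact h2 (mul_self_eq_zero.mp this)
  · have : (2 : F) * 2 = 0 := by linear_combination h
    exact h2 (mul_self_eq_zero.mp this)

theorem classMap_injective (h2 : (2 : F) ≠ 0) (ν : Fˣ) (hν : ¬ IsSquare (ν : F)) :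
    Function.Injective (classMap ν) := by
  have key : ∀ (t : F) (b : Bool), ¬ IsConj (twSL t 1) (twSL (two b) ν) := by
    intro t b h
    have h1 := sl2_trace_eq_of_isConj h
    rw [twSL_coe, twSL_coe, twMat_trace, twMat_trace] at h1
    obtain ⟨x', y', hxy⟩ := sl2_cyc_of_isConj h.symm 1 0
    rw [twSL_coe, twSL_coe, twMat_cyc_det, twMat_cyc_det, h1] at hxy
    apply hν
    cases b
    · refine ⟨x' - y', ?_⟩
      simp [two] at hxy
      linear_combination -hxy
    · refine ⟨x' + y', ?_⟩
      simp [two] at hxy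
      linear_combination -hxy
  rintro (b | t | b) (b' | t' | b') h
  · simp only [classMap, ConjClasses.mk_eq_mk_iff_isConj] at h
    have h1 := sl2_trace_eq_of_isConj h
    rw [sgn_trace, sgn_trace] at h1
    rw [two_injective h2 h1]
  · exfalso
    simp only [classMap, ConjClasses.mk_eq_mk_iff_isConj] at h
    exact sgn_not_nonScal _ (sl2_nonScal_of_isConj h.symm (twMat_nonScal _ one_ne_zero))
  · exfalso
    simp only [classMap, ConjClasses.mk_eq_mk_iff_isConj] at h
    exact sgn_not_nonScal _ (sl2_nonScal_of_isConj h.symm (twMat_nonScal _ ν.ne_zero))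
  · exfalso
    simp only [classMap, ConjClasses.mk_eq_mk_iff_isConj] at h
    exact sgn_not_nonScal _ (sl2_nonScal_of_isConj h (twMat_nonScal _ one_ne_zero))
  · simp only [classMap, ConjClasses.mk_eq_mk_iff_isConj] at h
    have h1 := sl2_trace_eq_of_isConj h
    rw [twSL_coe, twSL_coe, twMat_trace, twMat_trace] at h1
    rw [h1]
  · exfalso
    simp only [classMap, ConjClasses.mk_eq_mk_iff_isConj] at h
    exact key _ _ h
  · exfalso
    simp only [classMap, ConjClasses.mk_eq_mk_iff_isConj] at h
    exact sgn_not_nonScal _ (sl2_nonScal_of_isConj h (twMat_nonScal _ ν.ne_zero))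
  · exfalso
    simp only [classMap, ConjClasses.mk_eq_mk_iff_isConj] at h
    exact key _ _ h.symm
  · simp only [classMap, ConjClasses.mk_eq_mk_iff_isConj] at h
    have h1 := sl2_trace_eq_of_isConj h
    rw [twSL_coe, twSL_coe, twMat_trace, twMat_trace] at h1
    rw [two_injective h2 h1]

theorem exists_quad [Fintype F] (hodd : Odd (Fintype.card F)) (t : F) (ht : t ^ 2 ≠ 4) (δ : F) :
    ∃ x y : F, x ^ 2 + t * x * y + y ^ 2 = δ := by
  have h2 : (2 : F) ≠ 0 := by
    have hc : ringChar F ≠ 2 := by
      intro hc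
      have := FiniteField.even_card_of_char_two hc
      have := Nat.odd_iff.mp hodd
      omega
    exact Ring.two_ne_zero hc
  have h4 : (4 : F) ≠ 0 := by
    have : (4 : F) = 2 * 2 := by norm_num
    rw [this]; exact mul_ne_zero h2 h2
  set c : F := 1 - t ^ 2 / 4 with hc
  have hc0 : c ≠ 0 := by
    intro h0
    apply ht
    rw [hc] at h0
    field_simp at h0
    linear_combination -h0
  have hf : (Polynomial.X ^ 2 : Polynomial F).degree = 2 := Polynomial.degree_X_pow 2
  have hg : (Polynomial.C c * Polynomial.X ^ 2 + Polynomial.C 0 * Polynomial.X + Polynomial.C (-δ)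
      : Polynomial F).degree = 2 := Polynomial.degree_quadratic hc0
  obtain ⟨a, b, hab⟩ := FiniteField.exists_root_sum_quadratic hf hg (Nat.odd_iff.mp hodd)
  simp at hab
  refine ⟨a - t / 2 * b, b, ?_⟩
  rw [hc] at hab
  field_simp at hab ⊢
  linear_combination hab

theorem classMap_surjective [Fintype F] [DecidableEq F] (hodd : Odd (Fintype.card F)) (ν : Fˣ)
    (hν : ¬ IsSquare (ν : F)) :
    Function.Surjective (classMap ν) := by
  have hchar : ringChar F ≠ 2 := by
    intro hc
    have := FiniteField.even_card_of_char_two hc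
    have := Nat.odd_iff.mp hodd
    omega
  have h2 : (2 : F) ≠ 0 := Ring.two_ne_zero hchar
  intro C
  obtain ⟨g, rfl⟩ := ConjClasses.mk_surjective C
  by_cases hg : NonScal (g : Matrix (Fin 2) (Fin 2) F)
  · obtain ⟨x, y, hxy⟩ := exists_cyc_of_nonScal hg
    set δ := (cycMat (g : Matrix (Fin 2) (Fin 2) F) x y).det with hδ
    set t := (g : Matrix (Fin 2) (Fin 2) F).trace with ht
    by_cases hex : ∃ x' y' : F, x' ^ 2 + t * x' * y' + y' ^ 2 = δ
    · obtain ⟨x', y', hx'⟩ := hex
      refine ⟨Sum.inr (Sum.inl t), ?_⟩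
      simp only [classMap, ConjClasses.mk_eq_mk_iff_isConj]
      apply IsConj.symm
      apply sl2_isConj_of_cyc g _ x y x' y'
      · rw [twSL_coe, twMat_trace]
      · rw [twSL_coe, twMat_cyc_det, ← hδ, ← hx']
        simp
      · exact hxy
    · have ht4 : t ^ 2 = 4 := by
        by_contra h4
        exact hex (exists_quad hodd t h4 δ)
      have hns : ¬ IsSquare δ := by
        rintro ⟨e, he⟩
        exact hex ⟨e, 0, by rw [he]; ring⟩
      have hsq : IsSquare (δ * (ν : F)) := by
        have hne : δ * (ν : F) ≠ 0 := mul_ne_zero hxy ν.ne_zero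
        rw [← quadraticChar_one_iff_isSquare hne, map_mul,
          quadraticChar_neg_one_iff_not_isSquare.mpr hns,
          quadraticChar_neg_one_iff_not_isSquare.mpr hν]
        norm_num
      obtain ⟨e, he⟩ := hsq
      have hb : ∃ b : Bool, two b = t := by
        have : (t - 2) * (t + 2) = 0 := by linear_combination ht4
        rcases mul_eq_zero.mp this with h | h
        · exact ⟨true, by simp [two]; linear_combination -h⟩
        · exact ⟨false, by simp [two]; linear_combination -h⟩
      obtain ⟨b, hb⟩ := hb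
      refine ⟨Sum.inr (Sum.inr b), ?_⟩
      simp only [classMap, ConjClasses.mk_eq_mk_iff_isConj]
      apply IsConj.symm
      apply sl2_isConj_of_cyc g _ x y (e / (ν : F)) 0
      · rw [twSL_coe, twMat_trace, hb]
      · rw [twSL_coe, twMat_cyc_det, ← hδ]
        have hν0 : (ν : F) ≠ 0 := ν.ne_zero
        field_simp
        linear_combination he
      · exact hxy
  · have h1 := eq_smul_one_of_not_nonScal hg
    have hd := g.det_coe
    have hns := hg
    unfold NonScal at hns
    push Not at hns
    obtain ⟨e1, e2, e3⟩ := hns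
    have ha2 : (g : Matrix (Fin 2) (Fin 2) F) 0 0 * (g : Matrix (Fin 2) (Fin 2) F) 0 0 = 1 := by
      rw [Matrix.det_fin_two, e1, e2, ← e3] at hd
      simpa using hd
    have : ((g : Matrix (Fin 2) (Fin 2) F) 0 0 - 1) * ((g : Matrix (Fin 2) (Fin 2) F) 0 0 + 1) = 0 := by
      linear_combination ha2
    rcases mul_eq_zero.mp this with h | h
    · refine ⟨Sum.inl true, ?_⟩
      simp only [classMap, sgn]
      congr 1
      apply Subtype.ext
      rw [h1, sub_eq_zero.mp h, one_smul]
      rfl
    · refine ⟨Sum.inl false, ?_⟩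
      simp only [classMap, sgn]
      congr 1
      apply Subtype.ext
      rw [h1, eq_neg_of_add_eq_zero_left h]
      ext i j
      fin_cases i <;> fin_cases j <;> simp [negOne]

/-- Over a finite field with q elements, q odd, the special linear group SL₂ has exactly q + 4 conjugacy classes. -/
theorem result {F : Type*} [Field F] [Fintype F] (hodd : Odd (Fintype.card F)) :
    Nat.card (ConjClasses (Matrix.SpecialLinearGroup (Fin 2) F)) = Fintype.card F + 4 := by
  classical
  have hchar : ringChar F ≠ 2 := by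
    intro hc
    have := FiniteField.even_card_of_char_two hc
    have := Nat.odd_iff.mp hodd
    omega
  have h2 : (2 : F) ≠ 0 := Ring.two_ne_zero hchar
  obtain ⟨ν0, hν0⟩ := FiniteField.exists_nonsquare hchar
  have hν00 : ν0 ≠ 0 := by
    rintro rfl
    exact hν0 ⟨0, by simp⟩
  have hbij : Function.Bijective (classMap (Units.mk0 ν0 hν00)) :=
    ⟨classMap_injective h2 _ hν0, classMap_surjective hodd _ hν0⟩
  rw [← Nat.card_congr (Equiv.ofBijective _ hbij), Nat.card_eq_fintype_card]
  simp
  omega

end Cfsg.Agent.S2325
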