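import Cfsg.Statements.S2430
import Cfsg.Agent.Lib.Helper41.SL2TorusCyclic
import Cfsg.Agent.Lib.Helper5.PSL2

set_option autoImplicit false
open Cfsg

namespace Cfsg.Agent.S2430

open Cfsg.Agent.Lib.Helper41

/-- a Sylow `ℓ`-subgroup (`ℓ` odd, prime to `q`) of `SL₂(q)` has the centralizer and the
normalizer of a torus -/
theorem sylow_torus {F : Type*} [Field F] [Fintype F] (h2 : (2 : F) ≠ 0) (ℓ : ℕ) [Fact ℓ.Prime]
    (hℓ : ℓ ≠ 2) (P : Sylow ℓ (Matrix.SpecialLinearGroup (Fin 2) F))
    (hdvd : ℓ ∣ Nat.card (Matrix.SpecialLinearGroup (Fin 2) F)) (hq : ¬ ℓ ∣ Fintype.card F) :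
    ∃ x : Matrix.SpecialLinearGroup (Fin 2) F, x.1.trace * x.1.trace ≠ 4 ∧
      Subgroup.centralizer ((P : Subgroup (Matrix.SpecialLinearGroup (Fin 2) F)) :
        Set (Matrix.SpecialLinearGroup (Fin 2) F)) =
        Subgroup.centralizer ({x} : Set (Matrix.SpecialLinearGroup (Fin 2) F)) ∧
      Subgroup.normalizer ((P : Subgroup (Matrix.SpecialLinearGroup (Fin 2) F)) :
        Set (Matrix.SpecialLinearGroup (Fin 2) F)) =
        Subgroup.normalizer (Subgroup.centralizer
          ({x} : Set (Matrix.SpecialLinearGroup (Fin 2) F)) :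
            Set (Matrix.SpecialLinearGroup (Fin 2) F)) ∧
      ℓ ∣ Nat.card (Subgroup.centralizer ({x} : Set (Matrix.SpecialLinearGroup (Fin 2) F))) := by
  have hℓp : ℓ.Prime := Fact.out
  have hP : (P : Subgroup (Matrix.SpecialLinearGroup (Fin 2) F)) ≠ ⊥ := P.ne_bot_of_dvd_card hdvd
  have hnt : Nontrivial (P : Subgroup (Matrix.SpecialLinearGroup (Fin 2) F)) :=
    (Subgroup.nontrivial_iff_ne_bot _).mpr hP
  have hcnt := IsPGroup.center_nontrivial (P.isPGroup')
  obtain ⟨z, hz⟩ := exists_ne (1 : Subgroup.center (P : Subgroup (Matrix.SpecialLinearGroup (Fin 2) F)))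
  obtain ⟨x, hxdef⟩ : ∃ x : Matrix.SpecialLinearGroup (Fin 2) F,
      x = ((z : (P : Subgroup (Matrix.SpecialLinearGroup (Fin 2) F))) :
        Matrix.SpecialLinearGroup (Fin 2) F) := ⟨_, rfl⟩
  have hxP : x ∈ (P : Subgroup (Matrix.SpecialLinearGroup (Fin 2) F)) := by
    rw [hxdef]
    exact (z : (P : Subgroup (Matrix.SpecialLinearGroup (Fin 2) F))).2
  have hx1 : x ≠ 1 := by
    intro h
    apply hz
    apply Subtype.ext
    apply Subtype.ext
    rw [← hxdef, h]
    rfl
  have hxc : ∀ y ∈ (P : Subgroup (Matrix.SpecialLinearGroup (Fin 2) F)), y * x = x * y := by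
    intro y hy
    have := Subgroup.mem_center_iff.mp z.2 ⟨y, hy⟩
    have h' := congrArg Subtype.val this
    rw [hxdef]
    exact h'
  obtain ⟨k, hk⟩ := (IsPGroup.iff_orderOf.mp P.isPGroup')
    (z : (P : Subgroup (Matrix.SpecialLinearGroup (Fin 2) F)))
  have hox : orderOf x = ℓ ^ k := by
    rw [← hk, hxdef]
    exact Subgroup.orderOf_coe _
  have hk0 : k ≠ 0 := by
    rintro rfl
    rw [pow_zero, orderOf_eq_one_iff] at hox
    exact hx1 hox
  have hlx : ℓ ∣ orderOf x := by
    rw [hox]
    exact dvd_pow_self ℓ hk0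
  have hxnc : x ∉ Subgroup.center (Matrix.SpecialLinearGroup (Fin 2) F) := by
    intro hc
    rw [sl2_mem_center_iff] at hc
    have hxx : x ^ 2 = 1 := by
      apply Subtype.ext
      rw [pow_two, Matrix.SpecialLinearGroup.coe_mul]
      rcases hc with h | h <;> rw [h] <;> simp
    have h2' : ℓ ∣ 2 := dvd_trans hlx (orderOf_dvd_of_pow_eq_one hxx)
    exact hℓ ((Nat.prime_dvd_prime_iff_eq hℓp Nat.prime_two).mp h2')
  have hxx : x ∈ Subgroup.centralizer ({x} : Set (Matrix.SpecialLinearGroup (Fin 2) F)) := by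
    rw [Subgroup.mem_centralizer_singleton_iff]
  have hlC : ℓ ∣ Nat.card (Subgroup.centralizer
      ({x} : Set (Matrix.SpecialLinearGroup (Fin 2) F))) :=
    dvd_trans hlx (Subgroup.orderOf_dvd_natCard _ hxx)
  have hτ : x.1.trace * x.1.trace ≠ 4 := by
    intro h
    have hlC' := hlC
    rw [card_centralizer_eq_card_conic x hxnc, card_conic_unipotent h2 h] at hlC'
    rcases (Nat.Prime.dvd_mul hℓp).mp hlC' with h' | h'
    · exact hℓ ((Nat.prime_dvd_prime_iff_eq hℓp Nat.prime_two).mp h')
    · exact hq h'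
  have hPle : (P : Subgroup (Matrix.SpecialLinearGroup (Fin 2) F)) ≤
      Subgroup.centralizer ({x} : Set (Matrix.SpecialLinearGroup (Fin 2) F)) := by
    intro y hy
    rw [Subgroup.mem_centralizer_singleton_iff]
    exact hxc y hy
  refine ⟨x, hτ, ?_, ?_, hlC⟩
  · ext g
    constructor
    · intro hg
      rw [Subgroup.mem_centralizer_iff] at hg
      rw [Subgroup.mem_centralizer_singleton_iff]
      exact (hg x hxP).symm
    · intro hg
      rw [Subgroup.mem_centralizer_iff]
      intro y hy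
      exact centralizer_comm x hxnc y g (hPle hy) hg
  · ext g
    rw [mem_normalizer_centralizer_iff h2 x hτ]
    constructor
    · intro hg
      have hmem : g * x * g⁻¹ ∈ (P : Subgroup (Matrix.SpecialLinearGroup (Fin 2) F)) :=
        (Subgroup.mem_normalizer_iff.mp hg x).mp hxP
      apply regular_conj_cases h2 x (g * x * g⁻¹) hτ
      · rw [trace_conj]
      · exact hxc _ hmem
    · intro h
      have hgN := (mem_normalizer_centralizer_iff h2 x hτ g).mpr h
      apply Subgroup.mem_normalizer_fintype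
      intro n hn
      rw [SetLike.mem_coe] at hn ⊢
      have hu : g * n * g⁻¹ ∈ Subgroup.centralizer
          ({x} : Set (Matrix.SpecialLinearGroup (Fin 2) F)) :=
        (Subgroup.mem_normalizer_iff.mp hgN n).mp (hPle hn)
      obtain ⟨j, hj⟩ := (IsPGroup.iff_orderOf.mp P.isPGroup') ⟨n, hn⟩
      have hon : orderOf (g * n * g⁻¹) = ℓ ^ j := by
        rw [← hj, Subgroup.orderOf_mk]
        have := (MulAut.conj g).orderOf_eq n
        rw [MulAut.conj_apply] at this
        exact this
      have hpg : IsPGroup ℓ (Subgroup.zpowers (g * n * g⁻¹)) :=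
        IsPGroup.of_card (n := j) (by rw [Nat.card_zpowers, hon])
      have hinf := hpg.inf_normalizer_sylow P
      have hmem : g * n * g⁻¹ ∈ Subgroup.zpowers (g * n * g⁻¹) ⊓
          Subgroup.normalizer ((P : Subgroup (Matrix.SpecialLinearGroup (Fin 2) F)) :
            Set (Matrix.SpecialLinearGroup (Fin 2) F)) := by
        refine ⟨Subgroup.mem_zpowers _, ?_⟩
        apply Subgroup.centralizer_le_normalizer
        rw [Subgroup.mem_centralizer_iff]
        intro y hy
        exact centralizer_comm x hxnc y _ (hPle hy) hu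
      exact (hinf.le hmem).2

/-- Let F be a finite field with q elements, q odd, ℓ an odd prime, and P a Sylow ℓ-subgroup of SL₂ over F. If ℓ divides q − 1, the centraliser of P is cyclic of order q − 1 (a split torus) and the normaliser of P has order 2(q − 1); if ℓ divides q + 1, the centraliser of P is cyclic of order q + 1 (a non-split torus) and the normaliser of P has order 2(q + 1). -/
theorem result {F : Type*} [Field F] [Fintype F] (hodd : Odd (Fintype.card F)) (ℓ : ℕ) [Fact ℓ.Prime] (hℓ : ℓ ≠ 2)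
    (P : Sylow ℓ (Matrix.SpecialLinearGroup (Fin 2) F)) :
    (ℓ ∣ Fintype.card F - 1 →
      Nat.card (Subgroup.centralizer ((P : Subgroup (Matrix.SpecialLinearGroup (Fin 2) F)) : Set (Matrix.SpecialLinearGroup (Fin 2) F))) = Fintype.card F - 1 ∧
      IsCyclic (Subgroup.centralizer ((P : Subgroup (Matrix.SpecialLinearGroup (Fin 2) F)) : Set (Matrix.SpecialLinearGroup (Fin 2) F))) ∧
      Nat.card (Subgroup.normalizer ((P : Subgroup (Matrix.SpecialLinearGroup (Fin 2) F)) : Set (Matrix.SpecialLinearGroup (Fin 2) F))) = 2 * (Fintype.card F - 1)) ∧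
    (ℓ ∣ Fintype.card F + 1 →
      Nat.card (Subgroup.centralizer ((P : Subgroup (Matrix.SpecialLinearGroup (Fin 2) F)) : Set (Matrix.SpecialLinearGroup (Fin 2) F))) = Fintype.card F + 1 ∧
      IsCyclic (Subgroup.centralizer ((P : Subgroup (Matrix.SpecialLinearGroup (Fin 2) F)) : Set (Matrix.SpecialLinearGroup (Fin 2) F))) ∧
      Nat.card (Subgroup.normalizer ((P : Subgroup (Matrix.SpecialLinearGroup (Fin 2) F)) : Set (Matrix.SpecialLinearGroup (Fin 2) F))) = 2 * (Fintype.card F + 1)) := by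
  have h2 : (2 : F) ≠ 0 := Cfsg.Agent.Lib.Helper5.two_ne_zero_of_odd_card hodd
  have hq1 : 1 < Fintype.card F := Fintype.one_lt_card
  have hq2 : Fintype.card F % 2 = 1 := Nat.odd_iff.mp hodd
  have hcardG := Cfsg.Agent.Lib.Helper5.card_SL2 (F := F)
  have hℓp : ℓ.Prime := Fact.out
  have hfac : Fintype.card F ^ 2 - 1 = (Fintype.card F - 1) * (Fintype.card F + 1) := by
    obtain ⟨m, hm⟩ : ∃ m, Fintype.card F = m + 1 := ⟨Fintype.card F - 1, by omega⟩
    rw [hm]
    have : (m + 1) ^ 2 = m * (m + 1 + 1) + 1 := by ring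
    rw [this]
    simp
  constructor
  · intro hl
    have hdvd : ℓ ∣ Nat.card (Matrix.SpecialLinearGroup (Fin 2) F) := by
      rw [hcardG, hfac]
      exact Dvd.dvd.mul_left (Dvd.dvd.mul_right hl _) _
    have hq : ¬ ℓ ∣ Fintype.card F := by
      intro h
      have h3 : ℓ ∣ Fintype.card F - (Fintype.card F - 1) := Nat.dvd_sub h hl
      have h1 : Fintype.card F - (Fintype.card F - 1) = 1 := by omega
      rw [h1] at h3
      exact hℓp.one_lt.ne' (Nat.dvd_one.mp h3)
    obtain ⟨x, hτ, hCP, hNP, hlC⟩ := sylow_torus h2 ℓ hℓ P hdvd hq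
    have hxnc := not_mem_center_of_trace h2 x hτ
    have hcard : Nat.card (Subgroup.centralizer
        ({x} : Set (Matrix.SpecialLinearGroup (Fin 2) F))) = Fintype.card F - 1 := by
      rcases card_centralizer_cases h2 x hxnc with ⟨h, _⟩ | ⟨_, hc⟩ | ⟨_, hc⟩
      · exact absurd h hτ
      · exact hc
      · exfalso
        rw [hc] at hlC
        have h3 : ℓ ∣ (Fintype.card F + 1) - (Fintype.card F - 1) := Nat.dvd_sub hlC hl
        have h1 : (Fintype.card F + 1) - (Fintype.card F - 1) = 2 := by omega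
        rw [h1] at h3
        exact hℓ ((Nat.prime_dvd_prime_iff_eq hℓp Nat.prime_two).mp h3)
    refine ⟨?_, ?_, ?_⟩
    · rw [hCP, hcard]
    · rw [hCP]
      exact isCyclic_centralizer_of_regular h2 x hτ
    · rw [hNP, card_normalizer_centralizer h2 x hτ, hcard]
  · intro hl
    have hdvd : ℓ ∣ Nat.card (Matrix.SpecialLinearGroup (Fin 2) F) := by
      rw [hcardG, hfac]
      exact Dvd.dvd.mul_left (Dvd.dvd.mul_left hl _) _
    have hq : ¬ ℓ ∣ Fintype.card F := by
      intro h
      have h3 : ℓ ∣ (Fintype.card F + 1) - Fintype.card F := Nat.dvd_sub hl h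
      have h1 : (Fintype.card F + 1) - Fintype.card F = 1 := by omega
      rw [h1] at h3
      exact hℓp.one_lt.ne' (Nat.dvd_one.mp h3)
    obtain ⟨x, hτ, hCP, hNP, hlC⟩ := sylow_torus h2 ℓ hℓ P hdvd hq
    have hxnc := not_mem_center_of_trace h2 x hτ
    have hcard : Nat.card (Subgroup.centralizer
        ({x} : Set (Matrix.SpecialLinearGroup (Fin 2) F))) = Fintype.card F + 1 := by
      rcases card_centralizer_cases h2 x hxnc with ⟨h, _⟩ | ⟨_, hc⟩ | ⟨_, hc⟩
      · exact absurd h hτ
      · exfalso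
        rw [hc] at hlC
        have h3 : ℓ ∣ (Fintype.card F + 1) - (Fintype.card F - 1) := Nat.dvd_sub hl hlC
        have h1 : (Fintype.card F + 1) - (Fintype.card F - 1) = 2 := by omega
        rw [h1] at h3
        exact hℓ ((Nat.prime_dvd_prime_iff_eq hℓp Nat.prime_two).mp h3)
      · exact hc
    refine ⟨?_, ?_, ?_⟩
    · rw [hCP, hcard]
    · rw [hCP]
      exact isCyclic_centralizer_of_regular h2 x hτ
    · rw [hNP, card_normalizer_centralizer h2 x hτ, hcard]

end Cfsg.Agent.S2430
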