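import Cfsg.Statements.S2431
import Cfsg.Agent.Lib.Helper41.SL2Sylow2

set_option autoImplicit false
open Cfsg

namespace Cfsg.Agent.S2431

open Cfsg.Agent.Lib.Helper41

/-- a Sylow 2-subgroup of order at least 16 is self-normalizing -/
theorem normalizer_eq_of_big {F : Type*} [Field F] [Fintype F] (h2 : (2 : F) ≠ 0)
    (S : Sylow 2 (Matrix.SpecialLinearGroup (Fin 2) F)) (n : ℕ)
    (t : Matrix.SpecialLinearGroup (Fin 2) F) (hn4 : 4 ≤ n) (hcard : Nat.card S = 2 ^ n)
    (htS : t ∈ (S : Subgroup (Matrix.SpecialLinearGroup (Fin 2) F)))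
    (hot : orderOf t = 2 ^ (n - 1)) (hτ : t.1.trace * t.1.trace ≠ 4)
    (hA : ∀ s ∈ (S : Subgroup (Matrix.SpecialLinearGroup (Fin 2) F)),
      s ∈ Subgroup.centralizer ({t} : Set (Matrix.SpecialLinearGroup (Fin 2) F)) →
        s ∈ Subgroup.zpowers t)
    (hidx : ((Subgroup.zpowers t).subgroupOf
      (S : Subgroup (Matrix.SpecialLinearGroup (Fin 2) F))).index = 2) :
    Subgroup.normalizer ((S : Subgroup (Matrix.SpecialLinearGroup (Fin 2) F)) :
      Set (Matrix.SpecialLinearGroup (Fin 2) F)) =
      (S : Subgroup (Matrix.SpecialLinearGroup (Fin 2) F)) := by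
  have htc := not_mem_center_of_trace h2 t hτ
  have hzle : Subgroup.zpowers t ≤
      Subgroup.centralizer ({t} : Set (Matrix.SpecialLinearGroup (Fin 2) F)) := by
    rw [Subgroup.zpowers_le, Subgroup.mem_centralizer_singleton_iff]
  -- elements of maximal order lie in the cyclic subgroup
  have claim_a : ∀ y ∈ (S : Subgroup (Matrix.SpecialLinearGroup (Fin 2) F)),
      orderOf y = 2 ^ (n - 1) → y ∈ Subgroup.zpowers t := by
    intro y hy hoy
    have hyy : y * y ∈ Subgroup.zpowers t := by
      have := Subgroup.mul_self_mem_of_index_two hidx ⟨y, hy⟩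
      rw [Subgroup.mem_subgroupOf] at this
      exact this
    have hyync : y * y ∉ Subgroup.center (Matrix.SpecialLinearGroup (Fin 2) F) := by
      intro hc
      have h4 := mul_self_of_mem_center _ hc
      have hdvd : orderOf y ∣ 4 := orderOf_dvd_of_pow_eq_one (by
        rw [← h4]
        simp only [pow_succ, pow_zero, one_mul, mul_assoc])
      rw [hoy] at hdvd
      have hle := Nat.le_of_dvd (by norm_num) hdvd
      have : 2 ^ 3 ≤ 2 ^ (n - 1) := Nat.pow_le_pow_right (by norm_num) (by omega)
      omega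
    have hC := centralizer_eq_of_mem t (y * y) htc hyync (hzle hyy)
    apply hA y hy
    rw [← hC, Subgroup.mem_centralizer_singleton_iff, mul_assoc]
  have claim_b : ∀ g ∈ Subgroup.normalizer
      ((S : Subgroup (Matrix.SpecialLinearGroup (Fin 2) F)) :
        Set (Matrix.SpecialLinearGroup (Fin 2) F)),
      g * t * g⁻¹ = t ∨ g * t * g⁻¹ = t⁻¹ := by
    intro g hg
    have hmem : g * t * g⁻¹ ∈ (S : Subgroup (Matrix.SpecialLinearGroup (Fin 2) F)) :=
      (Subgroup.mem_normalizer_iff.mp hg t).mp htS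
    have ho : orderOf (g * t * g⁻¹) = 2 ^ (n - 1) := by
      rw [← hot]
      have := (MulAut.conj g).orderOf_eq t
      rw [MulAut.conj_apply] at this
      exact this
    have hz := claim_a _ hmem ho
    apply regular_conj_cases h2 t (g * t * g⁻¹) hτ
    · rw [trace_conj]
    · exact Subgroup.mem_centralizer_singleton_iff.mp (hzle hz)
  obtain ⟨s₀, hs₀S, hs₀z⟩ : ∃ s₀ ∈ (S : Subgroup (Matrix.SpecialLinearGroup (Fin 2) F)),
      s₀ ∉ Subgroup.zpowers t := by
    by_contra hno
    push Not at hno
    have hle : (S : Subgroup (Matrix.SpecialLinearGroup (Fin 2) F)) ≤ Subgroup.zpowers t := hno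
    have hc := Subgroup.card_le_of_le hle
    rw [Nat.card_zpowers, hot] at hc
    have hc' : Nat.card (S : Subgroup (Matrix.SpecialLinearGroup (Fin 2) F)) = 2 ^ n := hcard
    rw [hc'] at hc
    have : 2 ^ n = 2 * 2 ^ (n - 1) := by
      rw [← pow_succ']
      congr 1
      omega
    have : 0 < 2 ^ (n - 1) := Nat.pos_of_ne_zero (by positivity)
    omega
  have hs₀C : s₀ ∉ Subgroup.centralizer ({t} : Set (Matrix.SpecialLinearGroup (Fin 2) F)) :=
    fun h => hs₀z (hA s₀ hs₀S h)
  have hs₀inv : s₀ * t * s₀⁻¹ = t⁻¹ := by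
    rcases claim_b s₀ (Subgroup.le_normalizer hs₀S) with h | h
    · exact absurd ((conj_eq_iff_mem_centralizer t s₀).mpr h) hs₀C
    · exact h
  have claim_d : ∀ g ∈ Subgroup.normalizer
      ((S : Subgroup (Matrix.SpecialLinearGroup (Fin 2) F)) :
        Set (Matrix.SpecialLinearGroup (Fin 2) F)), ∀ m : ℕ, Odd m → g ^ m = 1 → g = 1 := by
    intro g hg m hm hgm
    rcases claim_b g hg with h | h
    · have hgC : g ∈ Subgroup.centralizer ({t} : Set (Matrix.SpecialLinearGroup (Fin 2) F)) :=
        (conj_eq_iff_mem_centralizer t g).mpr h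
      have hinv := inv_conj_of_mem t s₀ g htc hs₀inv hgC
      have hmem : g * s₀ * g⁻¹ ∈ (S : Subgroup (Matrix.SpecialLinearGroup (Fin 2) F)) :=
        (Subgroup.mem_normalizer_iff.mp hg s₀).mp hs₀S
      have hgg : g * g = (g * s₀ * g⁻¹) * s₀⁻¹ := by
        have e : g * s₀ * g⁻¹ * s₀⁻¹ = g * (s₀ * g * s₀⁻¹)⁻¹ := by group
        rw [e, hinv, inv_inv]
      have hggS : g * g ∈ (S : Subgroup (Matrix.SpecialLinearGroup (Fin 2) F)) := by
        rw [hgg]
        exact Subgroup.mul_mem _ hmem (Subgroup.inv_mem _ hs₀S)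
      obtain ⟨k, hk⟩ := S.isPGroup' ⟨g * g, hggS⟩
      have hk' : (g * g) ^ (2 ^ k) = 1 := by
        have := congrArg Subtype.val hk
        simpa using this
      have hm' : (g * g) ^ m = 1 := by
        rw [(Commute.refl g).mul_pow, hgm, mul_one]
      have hgg1 : g * g = 1 := eq_one_of_pow_odd_of_pow_two (g * g) m k hm hm' hk'
      exact eq_one_of_pow_odd_of_pow_two g m 1 hm hgm (by rw [pow_one, pow_two]; exact hgg1)
    · have htr := trace_zero_of_inverting t g hτ h
      have hgg : g * g = negOne := (sq_eq_negOne_iff g).mpr htr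
      have hg4 : g ^ (2 ^ 2) = 1 := by
        have : g ^ (2 ^ 2) = (g * g) * (g * g) := by
          rw [show (2 : ℕ) ^ 2 = 4 by norm_num]
          simp only [pow_succ, pow_zero, one_mul, mul_assoc]
        rw [this, hgg, negOne_mul_self]
      exact eq_one_of_pow_odd_of_pow_two g m 2 hm hgm hg4
  have hNp : IsPGroup 2 (Subgroup.normalizer
      ((S : Subgroup (Matrix.SpecialLinearGroup (Fin 2) F)) :
        Set (Matrix.SpecialLinearGroup (Fin 2) F))) := by
    rintro ⟨g, hg⟩
    obtain ⟨k, m, hm, hkm⟩ := Nat.exists_eq_two_pow_mul_odd (orderOf_pos g).ne'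
    refine ⟨k, ?_⟩
    apply Subtype.ext
    have h1 : (g ^ (2 ^ k)) ^ m = 1 := by
      rw [← pow_mul, ← hkm, pow_orderOf_eq_one]
    have := claim_d (g ^ (2 ^ k)) (Subgroup.pow_mem _ hg _) m hm h1
    simpa using this
  exact S.is_maximal' hNp Subgroup.le_normalizer

/-- elements of order dividing 8 when 8 divides neither `q - 1` nor `q + 1` -/
theorem trace_zero_of_pow_eight {F : Type*} [Field F] [Fintype F] (h2 : (2 : F) ≠ 0)
    (hq2 : Fintype.card F % 2 = 1) (h8m : ¬ 8 ∣ Fintype.card F - 1)
    (h8p : ¬ 8 ∣ Fintype.card F + 1) (y : Matrix.SpecialLinearGroup (Fin 2) F)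
    (hy : y ^ 8 = 1) : y = 1 ∨ y = negOne ∨ y.1.trace = 0 := by
  by_cases hy4 : y ^ 4 = 1
  · have h4 : (y * y) * (y * y) = 1 := by
      rw [← hy4]
      simp only [pow_succ, pow_zero, one_mul, mul_assoc]
    rcases sq_eq_one_cases h2 (y * y) h4 with h | h
    · rcases sq_eq_one_cases h2 y h with h' | h'
      · exact Or.inl h'
      · exact Or.inr (Or.inl h')
    · exact Or.inr (Or.inr ((sq_eq_negOne_iff y).mp h))
  · exfalso
    have ho : orderOf y = 8 := by
      have hdvd : orderOf y ∣ 2 ^ 3 := orderOf_dvd_of_pow_eq_one (by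
        rw [show (2 : ℕ) ^ 3 = 8 by norm_num]
        exact hy)
      obtain ⟨j, hj, hoj⟩ := (Nat.dvd_prime_pow Nat.prime_two).mp hdvd
      by_contra hne
      have hj2 : j ≤ 2 := by
        by_contra h
        have h3 : j = 3 := by omega
        rw [h3] at hoj
        exact hne (by rw [hoj]; norm_num)
      apply hy4
      have hd4 : orderOf y ∣ 4 := by
        rw [hoj, show (4 : ℕ) = 2 ^ 2 by norm_num]
        exact pow_dvd_pow 2 hj2
      exact orderOf_dvd_iff_pow_eq_one.mp hd4
    have hyc : y ∉ Subgroup.center (Matrix.SpecialLinearGroup (Fin 2) F) := by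
      intro hc
      apply hy4
      have hyy := mul_self_of_mem_center y hc
      have : y ^ 4 = (y * y) * (y * y) := by
        simp only [pow_succ, pow_zero, one_mul, mul_assoc]
      rw [this, hyy, mul_one]
    have hmem : y ∈ Subgroup.centralizer ({y} : Set (Matrix.SpecialLinearGroup (Fin 2) F)) := by
      rw [Subgroup.mem_centralizer_singleton_iff]
    have hdvd := Subgroup.orderOf_dvd_natCard _ hmem
    rw [ho] at hdvd
    rcases card_centralizer_cases h2 y hyc with ⟨_, h⟩ | ⟨_, h⟩ | ⟨_, h⟩
    · rw [h] at hdvd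
      omega
    · rw [h] at hdvd
      exact h8m hdvd
    · rw [h] at hdvd
      exact h8p hdvd

/-- the normalizer of a Sylow 2-subgroup of order 8 has order 24 -/
theorem card_normalizer_of_small {F : Type*} [Field F] [Fintype F] (h2 : (2 : F) ≠ 0)
    (hq2 : Fintype.card F % 2 = 1) (h8m : ¬ 8 ∣ Fintype.card F - 1)
    (h8p : ¬ 8 ∣ Fintype.card F + 1)
    (S : Sylow 2 (Matrix.SpecialLinearGroup (Fin 2) F))
    (t : Matrix.SpecialLinearGroup (Fin 2) F) (hcard : Nat.card S = 8)
    (htS : t ∈ (S : Subgroup (Matrix.SpecialLinearGroup (Fin 2) F)))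
    (hot : orderOf t = 4) (hτ : t.1.trace * t.1.trace ≠ 4)
    (hA : ∀ s ∈ (S : Subgroup (Matrix.SpecialLinearGroup (Fin 2) F)),
      s ∈ Subgroup.centralizer ({t} : Set (Matrix.SpecialLinearGroup (Fin 2) F)) →
        s ∈ Subgroup.zpowers t)
    (hidx : ((Subgroup.zpowers t).subgroupOf
      (S : Subgroup (Matrix.SpecialLinearGroup (Fin 2) F))).index = 2) :
    Nat.card (Subgroup.normalizer ((S : Subgroup (Matrix.SpecialLinearGroup (Fin 2) F)) :
      Set (Matrix.SpecialLinearGroup (Fin 2) F))) = 24 := by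
  classical
  have hcard' : Nat.card (S : Subgroup (Matrix.SpecialLinearGroup (Fin 2) F)) = 8 := hcard
  have htc := not_mem_center_of_trace h2 t hτ
  have htt : t * t = negOne := by
    have h4 : (t * t) * (t * t) = 1 := by
      have := pow_orderOf_eq_one t
      rw [hot] at this
      rw [← this]
      simp only [pow_succ, pow_zero, one_mul, mul_assoc]
    rcases sq_eq_one_cases h2 (t * t) h4 with h | h
    · exfalso
      have hd : orderOf t ∣ 2 := orderOf_dvd_of_pow_eq_one (by rw [pow_two]; exact h)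
      rw [hot] at hd
      have := Nat.le_of_dvd (by norm_num) hd
      omega
    · exact h
  have hti : t.1.trace = 0 := (sq_eq_negOne_iff t).mp htt
  have h1z : (1 : Matrix.SpecialLinearGroup (Fin 2) F) ∈ Subgroup.zpowers t := Subgroup.one_mem _
  have hnz : negOne ∈ Subgroup.zpowers t := by
    rw [← htt]
    exact Subgroup.mul_mem _ (Subgroup.mem_zpowers t) (Subgroup.mem_zpowers t)
  have htiz : t⁻¹ ∈ Subgroup.zpowers t := Subgroup.inv_mem _ (Subgroup.mem_zpowers t)
  have hzS : Subgroup.zpowers t ≤ (S : Subgroup (Matrix.SpecialLinearGroup (Fin 2) F)) := by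
    rw [Subgroup.zpowers_le]
    exact htS
  obtain ⟨j, hjS, hjz⟩ : ∃ j ∈ (S : Subgroup (Matrix.SpecialLinearGroup (Fin 2) F)),
      j ∉ Subgroup.zpowers t := by
    by_contra hno
    push Not at hno
    have hle : (S : Subgroup (Matrix.SpecialLinearGroup (Fin 2) F)) ≤ Subgroup.zpowers t := hno
    have hc := Subgroup.card_le_of_le hle
    rw [Nat.card_zpowers, hot, hcard'] at hc
    omega
  have hpow8 : ∀ s ∈ (S : Subgroup (Matrix.SpecialLinearGroup (Fin 2) F)), s ^ 8 = 1 := by
    intro s hs
    have h := pow_card_eq_one' (G := ↥(S : Subgroup (Matrix.SpecialLinearGroup (Fin 2) F)))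
      (x := ⟨s, hs⟩)
    rw [hcard'] at h
    have := congrArg Subtype.val h
    simpa using this
  have hj0 : j.1.trace = 0 := by
    rcases trace_zero_of_pow_eight h2 hq2 h8m h8p j (hpow8 j hjS) with h | h | h
    · exact absurd (h ▸ h1z) hjz
    · exact absurd (h ▸ hnz) hjz
    · exact h
  have hkS : t * j ∈ (S : Subgroup (Matrix.SpecialLinearGroup (Fin 2) F)) :=
    Subgroup.mul_mem _ htS hjS
  have hk0 : (t * j).1.trace = 0 := by
    rcases trace_zero_of_pow_eight h2 hq2 h8m h8p (t * j) (hpow8 _ hkS) with h | h | h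
    · exfalso
      apply hjz
      have : j = t⁻¹ := eq_inv_of_mul_eq_one_right h
      rw [this]
      exact htiz
    · exfalso
      apply hjz
      have : j = t := by
        have e : j = t⁻¹ * (t * j) := by group
        rw [e, h, ← htt]
        group
      rw [this]
      exact Subgroup.mem_zpowers t
    · exact h
  obtain ⟨u, hui, huj, hu3, hu1⟩ := exists_hurwitz h2 t j hti hj0 hk0
  have hdec : ∀ s ∈ (S : Subgroup (Matrix.SpecialLinearGroup (Fin 2) F)),
      s ∉ Subgroup.zpowers t → j⁻¹ * s ∈ Subgroup.zpowers t := by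
    intro s hs hsz
    have := Subgroup.mul_mem_iff_of_index_two hidx
      (a := ⟨j⁻¹, Subgroup.inv_mem _ hjS⟩) (b := ⟨s, hs⟩)
    rw [Subgroup.mem_subgroupOf, Subgroup.mem_subgroupOf, Subgroup.mem_subgroupOf] at this
    simp only [Subgroup.coe_mul] at this
    rw [this]
    constructor
    · intro h
      exfalso
      apply hjz
      have := Subgroup.inv_mem _ h
      simpa using this
    · intro h
      exact absurd h hsz
  have huN : u ∈ Subgroup.normalizer ((S : Subgroup (Matrix.SpecialLinearGroup (Fin 2) F)) :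
      Set (Matrix.SpecialLinearGroup (Fin 2) F)) := by
    apply Subgroup.mem_normalizer_fintype
    intro s hs
    rw [SetLike.mem_coe] at hs ⊢
    have hconj_z : ∀ a ∈ Subgroup.zpowers t,
        u * a * u⁻¹ ∈ (S : Subgroup (Matrix.SpecialLinearGroup (Fin 2) F)) := by
      intro a ha
      obtain ⟨k, rfl⟩ := Subgroup.mem_zpowers_iff.mp ha
      rw [← conj_zpow, hui]
      exact Subgroup.zpow_mem _ hkS k
    by_cases hsz : s ∈ Subgroup.zpowers t
    · exact hconj_z s hsz
    · have h1 := hdec s hs hsz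
      have e : u * s * u⁻¹ = (u * j * u⁻¹) * (u * (j⁻¹ * s) * u⁻¹) := by group
      rw [e, huj]
      exact Subgroup.mul_mem _ htS (hconj_z _ h1)
  have h3 : 3 ∣ Nat.card (Subgroup.normalizer
      ((S : Subgroup (Matrix.SpecialLinearGroup (Fin 2) F)) :
        Set (Matrix.SpecialLinearGroup (Fin 2) F))) := by
    have ho3 : orderOf u = 3 := by
      have : Fact (Nat.Prime 3) := ⟨Nat.prime_three⟩
      exact orderOf_eq_prime (by rw [pow_succ, pow_two]; exact hu3) hu1
    rw [← ho3]
    exact Subgroup.orderOf_dvd_natCard _ huN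
  have h8 : 8 ∣ Nat.card (Subgroup.normalizer
      ((S : Subgroup (Matrix.SpecialLinearGroup (Fin 2) F)) :
        Set (Matrix.SpecialLinearGroup (Fin 2) F))) := by
    have := Subgroup.card_dvd_of_le (Subgroup.le_normalizer :
      (S : Subgroup (Matrix.SpecialLinearGroup (Fin 2) F)) ≤ Subgroup.normalizer
        ((S : Subgroup (Matrix.SpecialLinearGroup (Fin 2) F)) :
          Set (Matrix.SpecialLinearGroup (Fin 2) F)))
    rw [hcard'] at this
    exact this
  have h24 : 24 ∣ Nat.card (Subgroup.normalizer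
      ((S : Subgroup (Matrix.SpecialLinearGroup (Fin 2) F)) :
        Set (Matrix.SpecialLinearGroup (Fin 2) F))) := by
    have hcop : Nat.Coprime 3 8 := by norm_num
    exact hcop.mul_dvd_of_dvd_of_dvd h3 h8
  have hkey : ∀ g ∈ Subgroup.normalizer
      ((S : Subgroup (Matrix.SpecialLinearGroup (Fin 2) F)) :
        Set (Matrix.SpecialLinearGroup (Fin 2) F)),
      g ∈ Subgroup.centralizer ({t} : Set (Matrix.SpecialLinearGroup (Fin 2) F)) →
        g ∈ Subgroup.zpowers t := by
    intro g hg hgC
    have hinv := quat_inverts t j hti hj0 hk0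
    have hgi := inv_conj_of_mem t j g htc hinv hgC
    have hmem : g * j * g⁻¹ ∈ (S : Subgroup (Matrix.SpecialLinearGroup (Fin 2) F)) :=
      (Subgroup.mem_normalizer_iff.mp hg j).mp hjS
    have hgg : g * g = (g * j * g⁻¹) * j⁻¹ := by
      have e : g * j * g⁻¹ * j⁻¹ = g * (j * g * j⁻¹)⁻¹ := by group
      rw [e, hgi, inv_inv]
    have hggS : g * g ∈ (S : Subgroup (Matrix.SpecialLinearGroup (Fin 2) F)) := by
      rw [hgg]
      exact Subgroup.mul_mem _ hmem (Subgroup.inv_mem _ hjS)
    have hggC : g * g ∈ Subgroup.centralizer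
        ({t} : Set (Matrix.SpecialLinearGroup (Fin 2) F)) := Subgroup.mul_mem _ hgC hgC
    have hggz := hA _ hggS hggC
    have hg8 : g ^ 8 = 1 := by
      obtain ⟨k, hk⟩ := Subgroup.mem_zpowers_iff.mp hggz
      have h4 : (g * g) ^ 4 = 1 := by
        rw [← hk, ← zpow_natCast, ← zpow_mul, mul_comm, zpow_mul, zpow_natCast, ← hot,
          pow_orderOf_eq_one, one_zpow]
      rw [← h4]
      simp only [pow_succ, pow_zero, one_mul, mul_assoc]
    rcases trace_zero_of_pow_eight h2 hq2 h8m h8p g hg8 with h | h | h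
    · rw [h]
      exact h1z
    · rw [h]
      exact hnz
    · rw [Subgroup.mem_centralizer_singleton_iff] at hgC
      have hgC' : g.1 * t.1 = t.1 * g.1 := by
        rw [← Matrix.SpecialLinearGroup.coe_mul, hgC, Matrix.SpecialLinearGroup.coe_mul]
      obtain ⟨⟨a, b⟩, hp⟩ := comm_form (nonscalar_of_not_mem_center t htc) hgC'
      simp only at hp
      have ha : a = 0 := by
        have h' := h
        rw [hp, Matrix.trace_add, Matrix.trace_smul, hti, scalar_eq] at h'
        simp [Matrix.trace_fin_two] at h'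
        have : (2 : F) * a = 0 := by linear_combination h'
        rcases mul_eq_zero.mp this with h'' | h''
        · exact absurd h'' h2
        · exact h''
      have hb : b * b = 1 := by
        have hd := g.det_coe
        rw [hp, det_scalar_add_smul t.1 t.det_coe, ha, hti] at hd
        linear_combination hd
      have hb' : (b - 1) * (b + 1) = 0 := by linear_combination hb
      rcases mul_eq_zero.mp hb' with h' | h'
      · have : g = t := by
          apply Subtype.ext
          rw [hp, ha, sub_eq_zero.mp h']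
          simp
        rw [this]
        exact Subgroup.mem_zpowers t
      · have : g = t⁻¹ := by
          apply Subtype.ext
          rw [hp, ha, sl2_inv_coe, hti, eq_neg_of_add_eq_zero_left h']
          simp
        rw [this]
        exact htiz
  -- counting
  obtain ⟨sN, hsN⟩ : ∃ sN : Finset (Matrix.SpecialLinearGroup (Fin 2) F),
      sN = Finset.univ.filter (fun g => g ∈ Subgroup.normalizer
        ((S : Subgroup (Matrix.SpecialLinearGroup (Fin 2) F)) :
          Set (Matrix.SpecialLinearGroup (Fin 2) F))) := ⟨_, rfl⟩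
  have hmemN : ∀ g, g ∈ sN ↔ g ∈ Subgroup.normalizer
      ((S : Subgroup (Matrix.SpecialLinearGroup (Fin 2) F)) :
        Set (Matrix.SpecialLinearGroup (Fin 2) F)) := by
    intro g
    rw [hsN, Finset.mem_filter]
    simp
  have hcardN : Nat.card (Subgroup.normalizer
      ((S : Subgroup (Matrix.SpecialLinearGroup (Fin 2) F)) :
        Set (Matrix.SpecialLinearGroup (Fin 2) F))) = sN.card := by
    rw [hsN, Nat.card_eq_fintype_card, Fintype.card_subtype]
  have hfib : ∀ b ∈ sN.image (fun g => g * t * g⁻¹),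
      (sN.filter (fun a => a * t * a⁻¹ = b)).card ≤ 4 := by
    intro b hb
    obtain ⟨g₀, hg₀, rfl⟩ := Finset.mem_image.mp hb
    have hg₀N := (hmemN g₀).mp hg₀
    have hsub : sN.filter (fun a => a * t * a⁻¹ = g₀ * t * g₀⁻¹) ⊆
        (Finset.univ.filter (fun x => x ∈ Subgroup.zpowers t)).image (fun x => g₀ * x) := by
      intro g hg
      rw [Finset.mem_filter] at hg
      obtain ⟨hgN, hfg⟩ := hg
      have hgN' := (hmemN g).mp hgN
      rw [Finset.mem_image]
      refine ⟨g₀⁻¹ * g, ?_, by group⟩
      rw [Finset.mem_filter]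
      refine ⟨Finset.mem_univ _, ?_⟩
      apply hkey
      · exact Subgroup.mul_mem _ (Subgroup.inv_mem _ hg₀N) hgN'
      · rw [conj_eq_iff_mem_centralizer]
        have e : g₀⁻¹ * g * t * (g₀⁻¹ * g)⁻¹ = g₀⁻¹ * (g * t * g⁻¹) * g₀ := by group
        rw [e, hfg]
        group
    calc (sN.filter (fun a => a * t * a⁻¹ = g₀ * t * g₀⁻¹)).card
        ≤ ((Finset.univ.filter (fun x => x ∈ Subgroup.zpowers t)).image
            (fun x => g₀ * x)).card := Finset.card_le_card hsub
      _ ≤ (Finset.univ.filter (fun x => x ∈ Subgroup.zpowers t)).card := Finset.card_image_le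
      _ = 4 := by
        rw [← Fintype.card_subtype, ← Nat.card_eq_fintype_card]
        exact (Nat.card_zpowers t).trans hot
  have himg : (sN.image (fun g => g * t * g⁻¹)).card ≤ 6 := by
    have hsub : sN.image (fun g => g * t * g⁻¹) ⊆
        ((Finset.univ.filter (fun x => x ∈
          (S : Subgroup (Matrix.SpecialLinearGroup (Fin 2) F)))).erase 1).erase negOne := by
      intro b hb
      obtain ⟨g, hg, rfl⟩ := Finset.mem_image.mp hb
      have hgN := (hmemN g).mp hg
      rw [Finset.mem_erase, Finset.mem_erase, Finset.mem_filter]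
      refine ⟨?_, ?_, Finset.mem_univ _, (Subgroup.mem_normalizer_iff.mp hgN t).mp htS⟩
      · intro h
        apply htc
        have : t = negOne := by
          have e : t = g⁻¹ * (g * t * g⁻¹) * g := by group
          rw [e, h, mul_assoc, negOne_comm g, ← mul_assoc, inv_mul_cancel, one_mul]
        rw [this]
        exact negOne_mem_center
      · intro h
        apply htc
        have : t = 1 := by
          have e : t = g⁻¹ * (g * t * g⁻¹) * g := by group
          rw [e, h]
          group
        rw [this]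
        exact Subgroup.one_mem _
    calc (sN.image (fun g => g * t * g⁻¹)).card
        ≤ (((Finset.univ.filter (fun x => x ∈
          (S : Subgroup (Matrix.SpecialLinearGroup (Fin 2) F)))).erase 1).erase negOne).card :=
          Finset.card_le_card hsub
      _ = 6 := by
        rw [Finset.card_erase_of_mem, Finset.card_erase_of_mem, ← Fintype.card_subtype,
          ← Nat.card_eq_fintype_card, hcard']
        · rw [Finset.mem_filter]
          exact ⟨Finset.mem_univ _, Subgroup.one_mem _⟩
        · rw [Finset.mem_erase, Finset.mem_filter]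
          exact ⟨negOne_ne_one h2, Finset.mem_univ _, hzS hnz⟩
  have hle : sN.card ≤ 4 * 6 :=
    (Finset.card_le_mul_card_image sN 4 hfib).trans (Nat.mul_le_mul_left 4 himg)
  have hpos : 0 < Nat.card (Subgroup.normalizer
      ((S : Subgroup (Matrix.SpecialLinearGroup (Fin 2) F)) :
        Set (Matrix.SpecialLinearGroup (Fin 2) F))) := Nat.card_pos
  rw [hcardN] at h24 hpos ⊢
  obtain ⟨c, hc⟩ := h24
  omega

/-- Let F be a finite field with q elements, q odd, and S a Sylow 2-subgroup of SL₂ over F. The centraliser of S is the centre of SL₂ (of order 2); S is its own normaliser when q ≡ ±1 mod 8, and has index 3 in its normaliser when q ≡ ±3 mod 8. -/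
theorem result {F : Type*} [Field F] [Fintype F] (hodd : Odd (Fintype.card F)) (S : Sylow 2 (Matrix.SpecialLinearGroup (Fin 2) F)) :
    Subgroup.centralizer ((S : Subgroup (Matrix.SpecialLinearGroup (Fin 2) F)) : Set (Matrix.SpecialLinearGroup (Fin 2) F)) = Subgroup.center (Matrix.SpecialLinearGroup (Fin 2) F) ∧
    ((Fintype.card F % 8 = 1 ∨ Fintype.card F % 8 = 7) →
      Subgroup.normalizer ((S : Subgroup (Matrix.SpecialLinearGroup (Fin 2) F)) : Set (Matrix.SpecialLinearGroup (Fin 2) F)) = (S : Subgroup (Matrix.SpecialLinearGroup (Fin 2) F))) ∧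
    ((Fintype.card F % 8 = 3 ∨ Fintype.card F % 8 = 5) →
      Nat.card (Subgroup.normalizer ((S : Subgroup (Matrix.SpecialLinearGroup (Fin 2) F)) : Set (Matrix.SpecialLinearGroup (Fin 2) F))) = 3 * Nat.card S) := by
  have h2 : (2 : F) ≠ 0 := Cfsg.Agent.Lib.Helper5.two_ne_zero_of_odd_card hodd
  have hq2 : Fintype.card F % 2 = 1 := Nat.odd_iff.mp hodd
  obtain ⟨n, t, hn, hn3, htS, hot, hτ, hA, hidx⟩ := sylow_two_structure hodd S
  obtain ⟨n', hn', _, _, _, _, h16, h16'⟩ := sylow_two_card hodd S
  have hnn : n' = n := Nat.pow_right_injective (le_refl 2) (hn'.symm.trans hn)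
  rw [hnn] at h16 h16'
  refine ⟨centralizer_sylow_two hodd S, ?_, ?_⟩
  · intro hq
    have h16d : 16 ∣ Fintype.card F ^ 2 - 1 := by
      rcases hq with hq | hq
      · obtain ⟨a, ha⟩ : ∃ a, Fintype.card F = 8 * a + 1 := ⟨Fintype.card F / 8, by omega⟩
        rw [ha]
        have : (8 * a + 1) ^ 2 = 16 * (4 * a ^ 2 + a) + 1 := by ring
        rw [this, Nat.add_sub_cancel]
        exact dvd_mul_right _ _
      · obtain ⟨a, ha⟩ : ∃ a, Fintype.card F = 8 * a + 7 := ⟨Fintype.card F / 8, by omega⟩
        rw [ha]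
        have : (8 * a + 7) ^ 2 = 16 * (4 * a ^ 2 + 7 * a + 3) + 1 := by ring
        rw [this, Nat.add_sub_cancel]
        exact dvd_mul_right _ _
    exact normalizer_eq_of_big h2 S n t (h16 h16d) hn htS hot hτ hA hidx
  · intro hq
    have h16n : ¬ 16 ∣ Fintype.card F ^ 2 - 1 := by
      rcases hq with hq | hq
      · obtain ⟨a, ha⟩ : ∃ a, Fintype.card F = 8 * a + 3 := ⟨Fintype.card F / 8, by omega⟩
        rw [ha]
        have : (8 * a + 3) ^ 2 = 16 * (4 * a ^ 2 + 3 * a) + 8 + 1 := by ring
        rw [this, Nat.add_sub_cancel]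
        omega
      · obtain ⟨a, ha⟩ : ∃ a, Fintype.card F = 8 * a + 5 := ⟨Fintype.card F / 8, by omega⟩
        rw [ha]
        have : (8 * a + 5) ^ 2 = 16 * (4 * a ^ 2 + 5 * a + 1) + 8 + 1 := by ring
        rw [this, Nat.add_sub_cancel]
        omega
    have hn3' : n = 3 := h16' h16n
    rw [hn3'] at hn hot
    have hn8 : Nat.card S = 8 := by
      rw [hn]
      norm_num
    have hot4 : orderOf t = 4 := by
      rw [hot]
      norm_num
    have hn8' : Nat.card (S : Subgroup (Matrix.SpecialLinearGroup (Fin 2) F)) = 8 := hn8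
    rw [hn8', card_normalizer_of_small h2 hq2 (by omega) (by omega) S t hn8 htS hot4 hτ hA hidx]

end Cfsg.Agent.S2431
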