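import Mathlib
import Cfsg.Statements.S4574

set_option autoImplicit false
open Cfsg
open scoped ComplexConjugate
open Polynomial

namespace Cfsg.Agent.S4574

theorem nontrivial_of_irreducible {G : Type*} [Group G] {V : Type*} [AddCommGroup V] [Module ℂ V]
    (ρ : Representation ℂ G V) [ρ.IsIrreducible] : Nontrivial V := by
  by_contra h
  rw [not_nontrivial_iff_subsingleton] at h
  have : (⊥ : Subrepresentation ρ) = ⊤ := by
    apply Subrepresentation.toSubmodule_injective
    exact Subsingleton.elim _ _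
  exact bot_ne_top this

/-- An endomorphism of finite order of a finite-dimensional complex space has an eigenbasis. -/
theorem exists_eigenbasis_of_pow_eq_one {V : Type*} [AddCommGroup V] [Module ℂ V]
    [FiniteDimensional ℂ V] (A : Module.End ℂ V) (m : ℕ) (hm : 0 < m) (h : A ^ m = 1) :
    ∃ (ι : Type) (_ : Fintype ι) (b : Module.Basis ι ℂ V) (d : ι → ℂ),
      (∀ i, d i ^ m = 1) ∧ ∀ i, A (b i) = d i • b i := by
  classical
  have hss : A.IsSemisimple := by
    have hsep : (Polynomial.X ^ m - Polynomial.C (1 : ℂ)).Separable :=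
      Polynomial.separable_X_pow_sub_C (1 : ℂ) (by exact_mod_cast hm.ne') one_ne_zero
    apply Module.End.isSemisimple_of_squarefree_aeval_eq_zero hsep.squarefree
    simp [h]
  have htop := hss.iSup_eigenspace_eq_top
  have hind := Module.End.eigenspaces_iSupIndep A
  have hint := DirectSum.isInternal_submodule_of_iSupIndep_of_iSup_eq_top hind htop
  let v : ∀ μ : ℂ, Module.Basis (Fin (Module.finrank ℂ (A.eigenspace μ))) ℂ (A.eigenspace μ) :=
    fun μ => Module.finBasis ℂ _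
  let b := hint.collectedBasis v
  have hfin : Fintype (Σ μ : ℂ, Fin (Module.finrank ℂ (A.eigenspace μ))) :=
    FiniteDimensional.fintypeBasisIndex b
  refine ⟨_, hfin, b, fun a => a.1, ?_, ?_⟩
  · intro i
    have hmem : b i ∈ A.eigenspace i.1 := hint.collectedBasis_mem v i
    have hAi : A (b i) = i.1 • b i := Module.End.mem_eigenspace_iff.1 hmem
    have hpow : ∀ k : ℕ, (A ^ k) (b i) = i.1 ^ k • b i := by
      intro k
      induction k with
      | zero => simp
      | succ k ih =>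
        rw [pow_succ, Module.End.mul_apply, hAi, map_smul, ih, smul_smul, pow_succ, mul_comm]
    have h1 := hpow m
    rw [h, Module.End.one_apply] at h1
    have hne : b i ≠ 0 := b.ne_zero i
    have h2 : (i.1 ^ m - 1) • b i = 0 := by
      rw [sub_smul, one_smul, ← h1, sub_self]
    rcases smul_eq_zero.1 h2 with h3 | h3
    · exact sub_eq_zero.1 h3
    · exact absurd h3 hne
  · intro i
    exact Module.End.mem_eigenspace_iff.1 (hint.collectedBasis_mem v i)

theorem trace_eq_sum_of_eigenbasis {V : Type*} [AddCommGroup V] [Module ℂ V]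
    {ι : Type*} [Fintype ι] (b : Module.Basis ι ℂ V) (f : Module.End ℂ V) (c : ι → ℂ)
    (hf : ∀ i, f (b i) = c i • b i) : LinearMap.trace ℂ V f = ∑ i, c i := by
  classical
  rw [LinearMap.trace_eq_matrix_trace ℂ b, Matrix.trace]
  refine Finset.sum_congr rfl (fun i _ => ?_)
  rw [Matrix.diag_apply, LinearMap.toMatrix_apply, hf, map_smul, Finsupp.smul_apply,
    Module.Basis.repr_self_apply]
  simp

/-- a complex number of norm one with real part one is one -/
theorem eq_one_of_norm_one_re_one {w : ℂ} (h1 : ‖w‖ = 1) (h2 : w.re = 1) : w = 1 := by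
  have h3 : Complex.normSq w = 1 := by
    rw [Complex.normSq_eq_norm_sq, h1]; norm_num
  rw [Complex.normSq_apply, h2] at h3
  have h4 : w.im = 0 := by nlinarith
  apply Complex.ext
  · simpa using h2
  · simpa using h4

/-- if an average of numbers of norm one has norm one, all of them equal the average -/
theorem eq_avg_of_norm_avg_eq_one {ι : Type*} [Fintype ι] (d : ι → ℂ) (hd : ∀ i, ‖d i‖ = 1)
    (α : ℂ) (hα : (Fintype.card ι : ℂ) * α = ∑ i, d i) (hn : ‖α‖ = 1) : ∀ i, d i = α := by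
  classical
  have hαα : conj α * α = 1 := by
    rw [mul_comm, Complex.mul_conj, Complex.normSq_eq_norm_sq, hn]; norm_num
  have hle : ∀ i, (conj α * d i).re ≤ 1 := by
    intro i
    calc (conj α * d i).re ≤ ‖conj α * d i‖ := Complex.re_le_norm _
      _ = 1 := by rw [norm_mul, RCLike.norm_conj, hn, hd i, mul_one]
  have hsum : ∑ i, (1 - (conj α * d i).re) = 0 := by
    rw [Finset.sum_sub_distrib, ← Complex.re_sum, ← Finset.mul_sum, ← hα]
    have : conj α * ((Fintype.card ι : ℂ) * α) = (Fintype.card ι : ℂ) := by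
      rw [mul_left_comm, hαα, mul_one]
    rw [this]
    simp
  have hz := (Finset.sum_eq_zero_iff_of_nonneg (fun i _ => sub_nonneg.2 (hle i))).1 hsum
  intro i
  have hre : (conj α * d i).re = 1 := by
    have := hz i (Finset.mem_univ i)
    linarith
  have hnorm : ‖conj α * d i‖ = 1 := by rw [norm_mul, RCLike.norm_conj, hn, hd i, mul_one]
  have h1 := eq_one_of_norm_one_re_one hnorm hre
  calc d i = (α * conj α) * d i := by rw [mul_comm α, hαα, one_mul]
    _ = α * (conj α * d i) := by ring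
    _ = α := by rw [h1, mul_one]

/-- Eigen data for all powers of `g`. -/
theorem exists_eigen_pow {G : Type*} [Group G] {V : Type*} [AddCommGroup V] [Module ℂ V]
    [FiniteDimensional ℂ V] (ρ : Representation ℂ G V) (g : G) (N : ℕ) (hN : 0 < N)
    (hg : g ^ N = 1) :
    ∃ (ι : Type) (_ : Fintype ι) (d : ι → ℂ), (∀ i, d i ^ N = 1) ∧
      Fintype.card ι = Module.finrank ℂ V ∧ ∀ k : ℕ, ρ.character (g ^ k) = ∑ i, d i ^ k := by
  have hA : (ρ g) ^ N = 1 := by rw [← map_pow, hg, map_one]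
  obtain ⟨ι, hι, b, d, hd, hb⟩ := exists_eigenbasis_of_pow_eq_one (ρ g) N hN hA
  refine ⟨ι, hι, d, hd, (Module.finrank_eq_card_basis b).symm, ?_⟩
  intro k
  have hpow : ∀ i, (ρ (g ^ k)) (b i) = d i ^ k • b i := by
    intro i
    rw [map_pow]
    induction k with
    | zero => simp
    | succ k ih =>
      rw [pow_succ, Module.End.mul_apply, hb i, map_smul, ih, smul_smul, pow_succ, mul_comm]
  rw [Representation.character, trace_eq_sum_of_eigenbasis b _ _ hpow]

/-- Power sums of roots of unity are values of an integer polynomial at powers of `ζ`. -/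
theorem exists_poly {ι : Type} [Fintype ι] (d : ι → ℂ) (N : ℕ) (hN : 0 < N)
    (hd : ∀ i, d i ^ N = 1) (ζ : ℂ) (hζ : IsPrimitiveRoot ζ N) :
    ∃ F : ℤ[X], ∀ k : ℕ, ∑ i, d i ^ k = aeval (ζ ^ k) F := by
  have : NeZero N := ⟨hN.ne'⟩
  have he : ∀ i, ∃ e : ℕ, ζ ^ e = d i := fun i => by
    obtain ⟨e, _, he⟩ := hζ.eq_pow_of_pow_eq_one (hd i)
    exact ⟨e, he⟩
  choose e he using he
  refine ⟨∑ i, (X : ℤ[X]) ^ e i, fun k => ?_⟩
  rw [map_sum]
  refine Finset.sum_congr rfl (fun i _ => ?_)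
  rw [map_pow, aeval_X, ← he i, ← pow_mul, ← pow_mul, mul_comm]

/-- The product of the values of an integer polynomial at the primitive roots is an integer. -/
theorem exists_int_prod (F : ℤ[X]) (N : ℕ) (hN : 0 < N) :
    ∃ z : ℤ, (z : ℂ) = ∏ μ ∈ primitiveRoots N ℂ, aeval μ F := by
  have : NeZero (N : ℂ) := ⟨by exact_mod_cast hN.ne'⟩
  set Fc : ℂ[X] := F.map (Int.castRingHom ℂ) with hFc
  have h1 := resultant_eq_prod_eval (cyclotomic N ℂ) Fc Fc.natDegree le_rfl (IsAlgClosed.splits _)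
  rw [(cyclotomic.monic N ℂ).leadingCoeff, one_pow, one_mul,
    cyclotomic.roots_eq_primitiveRoots_val] at h1
  refine ⟨resultant (cyclotomic N ℤ) F (cyclotomic N ℂ).natDegree Fc.natDegree, ?_⟩
  have h2 := resultant_map_map (cyclotomic N ℤ) F (cyclotomic N ℂ).natDegree Fc.natDegree
    (Int.castRingHom ℂ)
  rw [map_cyclotomic_int, ← hFc, eq_intCast (Int.castRingHom ℂ)] at h2
  rw [← h2, h1, Finset.prod_eq_multiset_prod]
  congr 1
  apply Multiset.map_congr rfl
  intro μ _
  rw [hFc, eval_map, aeval_def, algebraMap_int_eq]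

/-- Vanishing at one primitive root implies vanishing at every primitive root. -/
theorem aeval_eq_zero_of_primitive (F : ℤ[X]) (N : ℕ) (hN : 0 < N) (μ μ' : ℂ)
    (hμ : IsPrimitiveRoot μ N) (hμ' : IsPrimitiveRoot μ' N) (h : aeval μ F = 0) :
    aeval μ' F = 0 := by
  have hdvd : cyclotomic N ℤ ∣ F := by
    rw [cyclotomic_eq_minpoly hμ hN]
    exact minpoly.isIntegrallyClosed_dvd (hμ.isIntegral hN) h
  obtain ⟨c, rfl⟩ := hdvd
  rw [map_mul]
  have : aeval μ' (cyclotomic N ℤ) = 0 := by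
    rw [aeval_def, algebraMap_int_eq, eval₂_eq_eval_map, map_cyclotomic_int]
    exact (isRoot_cyclotomic_iff_charZero hN).2 hμ'
  rw [this, zero_mul]

/-- If positive reals have product at least one, their sum is at least their number. -/
theorem card_le_sum_of_one_le_prod {α : Type*} (s : Finset α) (x : α → ℝ)
    (hpos : ∀ a ∈ s, 0 < x a) (hprod : 1 ≤ ∏ a ∈ s, x a) : (s.card : ℝ) ≤ ∑ a ∈ s, x a := by
  have h1 : ∑ a ∈ s, Real.log (x a) ≤ ∑ a ∈ s, (x a - 1) :=
    Finset.sum_le_sum (fun a ha => Real.log_le_sub_one_of_pos (hpos a ha))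
  have h2 : Real.log (∏ a ∈ s, x a) = ∑ a ∈ s, Real.log (x a) :=
    Real.log_prod (fun a ha => (hpos a ha).ne')
  have h3 : 0 ≤ Real.log (∏ a ∈ s, x a) := Real.log_nonneg hprod
  rw [Finset.sum_sub_distrib] at h1
  simp only [Finset.sum_const, nsmul_eq_mul, mul_one] at h1
  linarith

theorem sum_norm_sq_ge (F : ℤ[X]) (N : ℕ) (hN : 0 < N) (ζ : ℂ) (hζ : IsPrimitiveRoot ζ N)
    (h0 : aeval ζ F ≠ 0) :
    ((primitiveRoots N ℂ).card : ℝ) ≤ ∑ μ ∈ primitiveRoots N ℂ, ‖aeval μ F‖ ^ 2 := by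
  apply card_le_sum_of_one_le_prod
  · intro μ hμ
    have hμ' := (mem_primitiveRoots hN).1 hμ
    have : aeval μ F ≠ 0 := fun h => h0 (aeval_eq_zero_of_primitive F N hN μ ζ hμ' hζ h)
    positivity
  · obtain ⟨z, hz⟩ := exists_int_prod F N hN
    rw [Finset.prod_pow, ← norm_prod, ← hz]
    have hz0 : z ≠ 0 := by
      rintro rfl
      rw [Int.cast_zero] at hz
      obtain ⟨μ, hμ, h⟩ := Finset.prod_eq_zero_iff.1 hz.symm
      exact h0 (aeval_eq_zero_of_primitive F N hN μ ζ ((mem_primitiveRoots hN).1 hμ) hζ h)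
    have h1 : (1 : ℝ) ≤ ‖(z : ℂ)‖ := by
      rw [Complex.norm_intCast]
      exact_mod_cast Int.one_le_abs hz0
    nlinarith [norm_nonneg (z : ℂ)]

theorem main_aux {G : Type*} [Group G] [Fintype G] {n : ℕ}
    (ρ : Representation ℂ G (Fin n → ℂ)) [ρ.IsIrreducible] (Zs Vs : Finset G)
    (hZ : ∀ g, g ∈ Zs ↔ ‖ρ.character g‖ = (n : ℝ)) (hV : ∀ g, g ∈ Vs ↔ ρ.character g = 0) :
    (n ^ 2 - 1) * Zs.card ≤ Vs.card ∧
      ((∀ g : G, ‖ρ.character g‖ = 0 ∨ ‖ρ.character g‖ = 1 ∨ ‖ρ.character g‖ = (n : ℝ)) →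
        (n ^ 2 - 1) * Zs.card = Vs.card) := by
  classical
  set χ := ρ.character with hχdef
  have hn : 0 < n := by
    have := nontrivial_of_irreducible ρ
    rcases Nat.eq_zero_or_pos n with h | h
    · subst h
      exact absurd this (not_nontrivial_iff_subsingleton.2 inferInstance)
    · exact h
  have hnR : (0 : ℝ) < n := by exact_mod_cast hn
  set N := Fintype.card G with hNdef
  have hN : 0 < N := Fintype.card_pos
  have hgN : ∀ g : G, g ^ N = 1 := fun g => pow_card_eq_one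
  set ζ : ℂ := Complex.exp (2 * Real.pi * Complex.I / (N : ℂ)) with hζdef
  have hζ : IsPrimitiveRoot ζ N := Complex.isPrimitiveRoot_exp N hN.ne'
  have hNZ : NeZero N := ⟨hN.ne'⟩
  -- data for each g
  have hdata : ∀ g : G, ∃ (ι : Type) (_ : Fintype ι) (d : ι → ℂ), (∀ i, d i ^ N = 1) ∧
      Fintype.card ι = n ∧ ∀ k : ℕ, χ (g ^ k) = ∑ i, d i ^ k := by
    intro g
    obtain ⟨ι, hι, d, hd, hcard, hk⟩ := exists_eigen_pow ρ g N hN (hgN g)
    exact ⟨ι, hι, d, hd, by rw [hcard]; simp, hk⟩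
  have hF : ∀ g : G, ∃ F : ℤ[X], ∀ k : ℕ, χ (g ^ k) = aeval (ζ ^ k) F := by
    intro g
    obtain ⟨ι, hι, d, hd, -, hk⟩ := hdata g
    obtain ⟨F, hF⟩ := exists_poly d N hN hd ζ hζ
    exact ⟨F, fun k => (hk k).trans (hF k)⟩
  have hinv : ∀ g : G, χ g⁻¹ = conj (χ g) := by
    intro g
    obtain ⟨ι, hι, d, hd, -, hk⟩ := hdata g
    have h1 : g⁻¹ = g ^ (N - 1) :=
      (eq_inv_of_mul_eq_one_left (by rw [← pow_succ, Nat.sub_add_cancel hN, hgN])).symm
    have hk1 := hk 1
    simp only [pow_one] at hk1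
    rw [h1, hk (N - 1), hk1, map_sum]
    refine Finset.sum_congr rfl (fun i _ => ?_)
    have hnorm : ‖d i‖ = 1 := Complex.norm_eq_one_of_pow_eq_one (hd i) hN.ne'
    have h2 : d i ^ (N - 1) * d i = 1 := by rw [← pow_succ, Nat.sub_add_cancel hN, hd i]
    rw [← Complex.inv_eq_conj hnorm]
    exact eq_inv_of_mul_eq_one_left h2
  -- first orthogonality relation
  have horth : ∑ g : G, ‖χ g‖ ^ 2 = (N : ℝ) := by
    have hne : (Nat.card G : ℂ) ≠ 0 := by
      rw [Nat.card_eq_fintype_card]; exact_mod_cast hN.ne'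
    have : Invertible (Nat.card G : ℂ) := invertibleOfNonzero hne
    have h2 := Representation.char_orthonormal ρ ρ
    rw [if_pos ⟨Representation.Equiv.refl ρ⟩] at h2
    have h3 : ∑ g : G, χ g * χ g⁻¹ = (N : ℂ) := by
      rw [inv_mul_eq_iff_eq_mul₀ hne, mul_one] at h2
      rw [hχdef, h2, Nat.card_eq_fintype_card]
    have h4 : ∑ g : G, χ g * χ g⁻¹ = ((∑ g : G, ‖χ g‖ ^ 2 : ℝ) : ℂ) := by
      rw [Complex.ofReal_sum]
      refine Finset.sum_congr rfl (fun g _ => ?_)
      rw [hinv, Complex.mul_conj, Complex.normSq_eq_norm_sq]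
    rw [h4] at h3
    exact_mod_cast h3
  -- the remaining set
  set Rs : Finset G := Finset.univ \ (Zs ∪ Vs) with hRs
  have hmemR : ∀ g, g ∈ Rs ↔ ¬ ‖χ g‖ = (n : ℝ) ∧ ¬ χ g = 0 := by
    intro g
    rw [hRs, Finset.mem_sdiff, Finset.mem_union, hZ, hV]
    simp
  -- closure of `Rs` under coprime powers
  have hclosed : ∀ g ∈ Rs, ∀ k : ℕ, k.Coprime N → g ^ k ∈ Rs := by
    intro g hg k hk
    rw [hmemR] at hg ⊢
    refine ⟨?_, ?_⟩
    · intro hnorm
      apply hg.1
      obtain ⟨ι, hι, d, hd, hcard, hkk⟩ := hdata g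
      have hcardC : (Fintype.card ι : ℂ) ≠ 0 := by
        rw [hcard]; exact_mod_cast hn.ne'
      have hdn : ∀ i, ‖d i‖ = 1 := fun i => Complex.norm_eq_one_of_pow_eq_one (hd i) hN.ne'
      set α : ℂ := (∑ i, d i ^ k) / (Fintype.card ι : ℂ) with hα
      have hα1 : (Fintype.card ι : ℂ) * α = ∑ i, d i ^ k := by
        rw [hα, mul_div_cancel₀ _ hcardC]
      have hα2 : ‖α‖ = 1 := by
        rw [hα, norm_div, ← hkk k, hnorm, hcard, Complex.norm_natCast]
        exact div_self hnR.ne'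
      have hall := eq_avg_of_norm_avg_eq_one (fun i => d i ^ k)
        (fun i => by rw [norm_pow, hdn i, one_pow]) α hα1 hα2
      have hbez : (1 : ℤ) = (k : ℤ) * Nat.gcdA k N + (N : ℤ) * Nat.gcdB k N := by
        have := Nat.gcd_eq_gcd_ab k N
        rw [hk] at this
        exact_mod_cast this
      have hd0 : ∀ i, d i ≠ 0 := by
        intro i h0
        have := hdn i
        rw [h0, norm_zero] at this
        exact zero_ne_one this
      have hdi : ∀ i, d i = α ^ (Nat.gcdA k N) := by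
        intro i
        calc d i = d i ^ (1 : ℤ) := (zpow_one _).symm
          _ = d i ^ ((k : ℤ) * Nat.gcdA k N + (N : ℤ) * Nat.gcdB k N) := by rw [← hbez]
          _ = (d i ^ k) ^ (Nat.gcdA k N) * (d i ^ N) ^ (Nat.gcdB k N) := by
            rw [zpow_add₀ (hd0 i), zpow_mul, zpow_mul, zpow_natCast, zpow_natCast]
          _ = α ^ (Nat.gcdA k N) := by
            rw [hd i, one_zpow, mul_one]
            have h5 : d i ^ k = α := hall i
            rw [h5]
      have hk1 := hkk 1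
      simp only [pow_one] at hk1
      rw [hk1, Finset.sum_congr rfl (fun i _ => hdi i), Finset.sum_const, Finset.card_univ,
        nsmul_eq_mul, norm_mul, norm_zpow, hα2, one_zpow, mul_one, hcard, Complex.norm_natCast]
    · intro h0
      apply hg.2
      obtain ⟨F, hF⟩ := hF g
      rw [hF] at h0
      have := aeval_eq_zero_of_primitive F N hN (ζ ^ k) ζ (hζ.pow_of_coprime k hk) hζ h0
      have h1 := hF 1
      simp only [pow_one] at h1
      rw [h1]
      exact this
  have hswap : ∀ k : ℕ, k.Coprime N → ∑ g ∈ Rs, ‖χ (g ^ k)‖ ^ 2 = ∑ g ∈ Rs, ‖χ g‖ ^ 2 := by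
    intro k hk
    have hinj : Function.Injective (fun g : G => g ^ k) :=
      (powCoprime (G := G) (n := k) (by rw [Nat.card_eq_fintype_card]; exact hk.symm)).injective
    have himg : Rs.image (fun g => g ^ k) = Rs := by
      apply Finset.eq_of_subset_of_card_le
      · intro x hx
        obtain ⟨g, hg, rfl⟩ := Finset.mem_image.1 hx
        exact hclosed g hg k hk
      · rw [Finset.card_image_of_injective _ hinj]
    conv_rhs => rw [← himg]
    rw [Finset.sum_image (fun x _ y _ h => hinj h)]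
  have hkey : (Rs.card : ℝ) ≤ ∑ g ∈ Rs, ‖χ g‖ ^ 2 := by
    have hex : ∀ μ ∈ primitiveRoots N ℂ, ∃ i : ℕ, i.Coprime N ∧ ζ ^ i = μ := by
      intro μ hμ
      rw [mem_primitiveRoots hN, hζ.isPrimitiveRoot_iff] at hμ
      obtain ⟨i, _, hi, h⟩ := hμ
      exact ⟨i, hi, h⟩
    choose! kf hkf using hex
    have h1 : ∑ μ ∈ primitiveRoots N ℂ, ∑ g ∈ Rs, ‖χ (g ^ kf μ)‖ ^ 2 =
        (primitiveRoots N ℂ).card * ∑ g ∈ Rs, ‖χ g‖ ^ 2 := by
      rw [Finset.sum_congr rfl (fun μ hμ => hswap (kf μ) (hkf μ hμ).1), Finset.sum_const,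
        nsmul_eq_mul]
    have h2 : ∀ g ∈ Rs, ((primitiveRoots N ℂ).card : ℝ) ≤
        ∑ μ ∈ primitiveRoots N ℂ, ‖χ (g ^ kf μ)‖ ^ 2 := by
      intro g hg
      obtain ⟨F, hF⟩ := hF g
      have h0 : aeval ζ F ≠ 0 := by
        have h3 := ((hmemR g).1 hg).2
        have h4 := hF 1
        simp only [pow_one] at h4
        rw [← h4]
        exact h3
      refine (sum_norm_sq_ge F N hN ζ hζ h0).trans (le_of_eq ?_)
      refine Finset.sum_congr rfl (fun μ hμ => ?_)
      rw [hF, (hkf μ hμ).2]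
    have h3 : (Rs.card : ℝ) * (primitiveRoots N ℂ).card ≤
        ∑ g ∈ Rs, ∑ μ ∈ primitiveRoots N ℂ, ‖χ (g ^ kf μ)‖ ^ 2 := by
      calc (Rs.card : ℝ) * (primitiveRoots N ℂ).card
          = ∑ g ∈ Rs, ((primitiveRoots N ℂ).card : ℝ) := by rw [Finset.sum_const, nsmul_eq_mul]
        _ ≤ _ := Finset.sum_le_sum h2
    rw [Finset.sum_comm, h1] at h3
    have hpos : (0 : ℝ) < (primitiveRoots N ℂ).card := by
      have : ζ ∈ primitiveRoots N ℂ := (mem_primitiveRoots hN).2 hζ
      exact_mod_cast Finset.card_pos.2 ⟨ζ, this⟩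
    rw [mul_comm] at h3
    exact le_of_mul_le_mul_left h3 hpos
  -- the three-way split
  have hdisj : Disjoint Zs Vs := by
    rw [Finset.disjoint_left]
    intro g hgZ hgV
    rw [hZ] at hgZ
    rw [hV] at hgV
    rw [hgV, norm_zero] at hgZ
    exact hnR.ne hgZ
  have hsplit : ∑ g : G, (‖χ g‖ ^ 2 - 1) =
      ((n : ℝ) ^ 2 - 1) * Zs.card - Vs.card + ∑ g ∈ Rs, (‖χ g‖ ^ 2 - 1) := by
    rw [← Finset.sum_sdiff (Finset.subset_univ (Zs ∪ Vs)), Finset.sum_union hdisj]
    have hZsum : ∑ g ∈ Zs, (‖χ g‖ ^ 2 - 1) = ((n : ℝ) ^ 2 - 1) * Zs.card := by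
      rw [Finset.sum_congr rfl (fun g hg => by rw [(hZ g).1 hg]), Finset.sum_const, nsmul_eq_mul,
        mul_comm]
    have hVsum : ∑ g ∈ Vs, (‖χ g‖ ^ 2 - 1) = -(Vs.card : ℝ) := by
      rw [Finset.sum_congr rfl (fun g hg => by rw [(hV g).1 hg, norm_zero]), Finset.sum_const,
        nsmul_eq_mul]
      ring
    rw [hZsum, hVsum]
    ring
  have hzero : ∑ g : G, (‖χ g‖ ^ 2 - 1) = 0 := by
    rw [Finset.sum_sub_distrib, horth, Finset.sum_const, Finset.card_univ, nsmul_eq_mul, mul_one,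
      sub_self]
  have hRsum : ∑ g ∈ Rs, (‖χ g‖ ^ 2 - 1) = ∑ g ∈ Rs, ‖χ g‖ ^ 2 - Rs.card := by
    rw [Finset.sum_sub_distrib, Finset.sum_const, nsmul_eq_mul, mul_one]
  have hn1 : 1 ≤ n ^ 2 := Nat.one_le_pow _ _ hn
  have hcast : (((n ^ 2 - 1) * Zs.card : ℕ) : ℝ) = ((n : ℝ) ^ 2 - 1) * Zs.card := by
    rw [Nat.cast_mul, Nat.cast_sub hn1]
    push_cast
    ring
  constructor
  · have : (((n ^ 2 - 1) * Zs.card : ℕ) : ℝ) ≤ (Vs.card : ℝ) := by
      rw [hcast]
      linarith
    exact_mod_cast this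
  · intro hall
    have hR1 : ∑ g ∈ Rs, (‖χ g‖ ^ 2 - 1) = 0 := by
      apply Finset.sum_eq_zero
      intro g hg
      rw [hmemR] at hg
      rcases hall g with h | h | h
      · exact absurd (norm_eq_zero.1 h) hg.2
      · rw [h]; norm_num
      · exact absurd h hg.1
    have : (((n ^ 2 - 1) * Zs.card : ℕ) : ℝ) = (Vs.card : ℝ) := by
      rw [hcast]
      linarith
    exact_mod_cast this

/-- Let χ be an irreducible character of the finite group G, of degree d, and let Z(χ) be the set of elements g with |χ g| = d (the centre of χ). Then χ vanishes on at least (d ^ 2 - 1) · |Z(χ)| elements of G, with equality when every value |χ g| is 0, 1 or d. -/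
theorem result {G : Type*} [Group G] [Fintype G] [DecidableEq G] (χ : G → ℂ) (hχ : Cfsg.IsIrrCharacter G χ) : (Cfsg.charDegree χ ^ 2 - 1) * (Finset.univ.filter (fun g : G => ‖χ g‖ = (Cfsg.charDegree χ : ℝ))).card ≤ (Finset.univ.filter (fun g : G => χ g = 0)).card ∧ ((∀ g : G, ‖χ g‖ = 0 ∨ ‖χ g‖ = 1 ∨ ‖χ g‖ = (Cfsg.charDegree χ : ℝ)) → (Cfsg.charDegree χ ^ 2 - 1) * (Finset.univ.filter (fun g : G => ‖χ g‖ = (Cfsg.charDegree χ : ℝ))).card = (Finset.univ.filter (fun g : G => χ g = 0)).card) := by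
  obtain ⟨n, ρ, hρ, rfl⟩ := hχ
  have hdeg : Cfsg.charDegree ρ.character = n := by
    unfold Cfsg.charDegree
    rw [Representation.char_one]
    simp
  rw [hdeg]
  exact main_aux ρ _ _ (fun g => by simp) (fun g => by simp)

end Cfsg.Agent.S4574
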