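import Mathlib
import Cfsg.Statements.S1494
import Cfsg.Agent.S4574

set_option autoImplicit false
open Cfsg

namespace Cfsg.Agent.S1494

/-- Two commuting endomorphisms of finite order have a common eigenbasis. -/
theorem exists_common_eigenbasis {V : Type*} [AddCommGroup V] [Module ℂ V]
    [FiniteDimensional ℂ V] (A B : Module.End ℂ V) (m m' : ℕ) (hm : 0 < m) (hm' : 0 < m')
    (hA : A ^ m = 1) (hB : B ^ m' = 1) (hAB : A * B = B * A) :
    ∃ (ι : Type) (_ : Fintype ι) (b : Module.Basis ι ℂ V) (a c : ι → ℂ),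
      (∀ i, a i ^ m = 1) ∧ (∀ i, c i ^ m' = 1) ∧ (∀ i, A (b i) = a i • b i) ∧
        ∀ i, B (b i) = c i • b i := by
  classical
  have hss : A.IsSemisimple := by
    have hsep : (Polynomial.X ^ m - Polynomial.C (1 : ℂ)).Separable :=
      Polynomial.separable_X_pow_sub_C (1 : ℂ) (by exact_mod_cast hm.ne') one_ne_zero
    apply Module.End.isSemisimple_of_squarefree_aeval_eq_zero hsep.squarefree
    simp [hA]
  have htop := hss.iSup_eigenspace_eq_top
  have hind := Module.End.eigenspaces_iSupIndep A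
  have hint := DirectSum.isInternal_submodule_of_iSupIndep_of_iSup_eq_top hind htop
  -- `B` preserves the eigenspaces of `A`
  have hpres : ∀ μ : ℂ, ∀ v ∈ A.eigenspace μ, B v ∈ A.eigenspace μ := by
    intro μ v hv
    rw [Module.End.mem_eigenspace_iff] at hv ⊢
    have h1 : A (B v) = B (A v) := by
      rw [← Module.End.mul_apply, hAB, Module.End.mul_apply]
    rw [h1, hv, map_smul]
  let Bμ : ∀ μ : ℂ, Module.End ℂ (A.eigenspace μ) := fun μ => B.restrict (hpres μ)
  have hBμpow : ∀ (μ : ℂ) (k : ℕ) (v : A.eigenspace μ), (((Bμ μ) ^ k) v : V) = (B ^ k) (v : V) := by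
    intro μ k
    induction k with
    | zero => intro v; simp
    | succ k ih =>
      intro v
      rw [pow_succ, Module.End.mul_apply, ih, pow_succ, Module.End.mul_apply]
      rfl
  have hBμ : ∀ μ : ℂ, (Bμ μ) ^ m' = 1 := by
    intro μ
    apply LinearMap.ext
    intro v
    apply Subtype.ext
    rw [hBμpow, hB]
    rfl
  choose ιf hιf bf df hdf hbf using
    fun μ : ℂ => Cfsg.Agent.S4574.exists_eigenbasis_of_pow_eq_one (Bμ μ) m' hm' (hBμ μ)
  let b := hint.collectedBasis bf
  have hfin : Fintype (Σ μ : ℂ, ιf μ) := FiniteDimensional.fintypeBasisIndex b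
  have hbi : ∀ i : (Σ μ : ℂ, ιf μ), b i = ((bf i.1 i.2 : A.eigenspace i.1) : V) := by
    intro i
    simp only [b, DirectSum.IsInternal.collectedBasis_coe]
  have hAb : ∀ i, A (b i) = i.1 • b i := by
    intro i
    exact Module.End.mem_eigenspace_iff.1 (hint.collectedBasis_mem bf i)
  refine ⟨_, hfin, b, fun i => i.1, fun i => df i.1 i.2, ?_, ?_, hAb, ?_⟩
  · intro i
    have hpow : ∀ k : ℕ, (A ^ k) (b i) = i.1 ^ k • b i := by
      intro k
      induction k with
      | zero => simp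
      | succ k ih =>
        rw [pow_succ, Module.End.mul_apply, hAb i, map_smul, ih, smul_smul, pow_succ, mul_comm]
    have h1 := hpow m
    rw [hA, Module.End.one_apply] at h1
    have hne : b i ≠ 0 := b.ne_zero i
    have h2 : (i.1 ^ m - 1) • b i = 0 := by
      rw [sub_smul, one_smul, ← h1, sub_self]
    rcases smul_eq_zero.1 h2 with h3 | h3
    · exact sub_eq_zero.1 h3
    · exact absurd h3 hne
  · intro i
    exact hdf i.1 i.2
  · intro i
    rw [hbi i]
    have h1 := hbf i.1 i.2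
    have h2 := congrArg (Subtype.val) h1
    simpa [Bμ] using h2

/-- The statement for genuine characters. -/
theorem aux {G : Type*} [Group G] [Finite G] {V : Type*} [AddCommGroup V] [Module ℂ V]
    [FiniteDimensional ℂ V] (ρ : Representation ℂ G V) (p : ℕ) (hp : p.Prime) (x y : G)
    (hx : orderOf x = p) (hxy : x * y = y * x) :
    ∃ ω : ℂ, IsIntegral ℤ ω ∧ ρ.character (x * y) - ρ.character y =
      (1 - Complex.exp (2 * Real.pi * Complex.I / p)) * ω := by
  classical
  set ε : ℂ := Complex.exp (2 * Real.pi * Complex.I / p) with hε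
  have hεp : IsPrimitiveRoot ε p := Complex.isPrimitiveRoot_exp p hp.ne_zero
  have hpNZ : NeZero p := ⟨hp.ne_zero⟩
  have hεint : IsIntegral ℤ ε := hεp.isIntegral hp.pos
  have hA : (ρ x) ^ p = 1 := by rw [← map_pow, ← hx, pow_orderOf_eq_one, map_one]
  have hB : (ρ y) ^ orderOf y = 1 := by rw [← map_pow, pow_orderOf_eq_one, map_one]
  have hAB : ρ x * ρ y = ρ y * ρ x := by rw [← map_mul, ← map_mul, hxy]
  obtain ⟨ι, hι, b, a, c, ha, hc, hAb, hBb⟩ :=
    exists_common_eigenbasis (ρ x) (ρ y) p (orderOf y) hp.pos (orderOf_pos y) hA hB hAB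
  have hABb : ∀ i, (ρ (x * y)) (b i) = (a i * c i) • b i := by
    intro i
    rw [map_mul, Module.End.mul_apply, hBb i, map_smul, hAb i, smul_smul, mul_comm]
  have he : ∀ i, ∃ j : ℕ, ε ^ j = a i := fun i => by
    obtain ⟨j, _, hj⟩ := hεp.eq_pow_of_pow_eq_one (ha i)
    exact ⟨j, hj⟩
  choose j hj using he
  have hcint : ∀ i, IsIntegral ℤ (c i) := by
    intro i
    apply IsIntegral.of_pow (orderOf_pos y)
    rw [hc i]
    exact isIntegral_one
  refine ⟨-∑ i, (∑ t ∈ Finset.range (j i), ε ^ t) * c i, ?_, ?_⟩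
  · apply IsIntegral.neg
    apply IsIntegral.sum
    intro i _
    apply IsIntegral.mul _ (hcint i)
    apply IsIntegral.sum
    intro t _
    exact hεint.pow t
  · rw [Representation.character, Representation.character,
      Cfsg.Agent.S4574.trace_eq_sum_of_eigenbasis b _ _ hABb,
      Cfsg.Agent.S4574.trace_eq_sum_of_eigenbasis b _ _ hBb, ← Finset.sum_sub_distrib,
      mul_neg, ← neg_mul, Finset.mul_sum]
    refine Finset.sum_congr rfl (fun i _ => ?_)
    have h1 : (∑ t ∈ Finset.range (j i), ε ^ t) * (ε - 1) = ε ^ j i - 1 := geom_sum_mul ε (j i)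
    rw [← hj i]
    calc ε ^ j i * c i - c i = (ε ^ j i - 1) * c i := by ring
      _ = ((∑ t ∈ Finset.range (j i), ε ^ t) * (ε - 1)) * c i := by rw [h1]
      _ = -(1 - ε) * ((∑ t ∈ Finset.range (j i), ε ^ t) * c i) := by ring

/-- Let χ be a generalized character of the finite group G, p a prime, x an element of order p and y an element commuting with x. Then χ(x * y) − χ(y) = (1 − ε) * ω for some algebraic integer ω, where ε = exp(2πi/p). -/
theorem result {G : Type*} [Group G] [Finite G] (χ : G → ℂ) (hχ : Cfsg.IsGeneralizedCharacter G χ) (p : ℕ) (hp : p.Prime) (x y : G) (hx : orderOf x = p) (hxy : x * y = y * x) : ∃ ω : ℂ, IsIntegral ℤ ω ∧ χ (x * y) - χ y = (1 - Complex.exp (2 * Real.pi * Complex.I / p)) * ω := by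
  obtain ⟨χ₁, χ₂, ⟨n₁, ρ₁, rfl⟩, ⟨n₂, ρ₂, rfl⟩, rfl⟩ := hχ
  obtain ⟨ω₁, hω₁, h₁⟩ := aux ρ₁ p hp x y hx hxy
  obtain ⟨ω₂, hω₂, h₂⟩ := aux ρ₂ p hp x y hx hxy
  refine ⟨ω₁ - ω₂, hω₁.sub hω₂, ?_⟩
  simp only [Pi.sub_apply]
  rw [mul_sub, ← h₁, ← h₂]
  ring

end Cfsg.Agent.S1494
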