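import Mathlib
import Cfsg.Statements.S4604
import Cfsg.Agent.S1494
import Cfsg.Agent.S0165
import Cfsg.Agent.S4574
import Cfsg.Agent.Lib.Helper77.Degree
import Cfsg.Agent.Lib.Helper81.CharCore
import Cfsg.Agent.Lib.Helper81.CharOps
import Cfsg.Agent.Lib.Helper79.CharSum
import Cfsg.Agent.Lib.Helper16.LocalRing
import Cfsg.Agent.Lib.Helper80.CharKer

set_option autoImplicit false
open Cfsg

namespace Cfsg.Agent.S4604

open Cfsg.Agent.Lib.Helper16 Cfsg.Agent.Lib.Helper81

/-- Frobenius for finite sums in a commutative ring, modulo `p`. -/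
theorem sum_pow_prime_pow {R : Type*} [CommRing R] (p : ℕ) (hp : p.Prime) (n : ℕ) {ι : Type*}
    (s : Finset ι) (z : ι → R) :
    ∃ r : R, (∑ i ∈ s, z i) ^ p ^ n = ∑ i ∈ s, z i ^ p ^ n + p * r := by
  classical
  induction s using Finset.induction_on with
  | empty =>
    refine ⟨0, ?_⟩
    have : p ^ n ≠ 0 := pow_ne_zero _ hp.ne_zero
    simp [zero_pow this]
  | insert a s ha ih =>
    obtain ⟨r, hr⟩ := ih
    obtain ⟨r', hr'⟩ := exists_add_pow_prime_pow_eq hp (z a) (∑ i ∈ s, z i) n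
    refine ⟨r + z a * (∑ i ∈ s, z i) * r', ?_⟩
    rw [Finset.sum_insert ha, Finset.sum_insert ha, hr', hr]
    ring

/-- Key congruence: if `u` is a `p`-element commuting with `s` then
`χ(us)^(p^n) ≡ χ(s)^(p^n)` modulo `p`. -/
theorem char_pow_sub {G : Type*} [Group G] [Finite G] {V : Type*} [AddCommGroup V] [Module ℂ V]
    [FiniteDimensional ℂ V] (p : ℕ) (hp : p.Prime) (ρ : Representation ℂ G V) (u s : G) (n : ℕ)
    (hu : u ^ (p ^ n) = 1) (hus : Commute u s) :
    ∃ γ : Cfsg.AlgInt, ρ.character (u * s) ^ p ^ n - ρ.character s ^ p ^ n = (p : ℂ) * (γ : ℂ) := by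
  classical
  have hq : 0 < p ^ n := pow_pos hp.pos n
  have hA : (ρ u) ^ (p ^ n) = 1 := by rw [← map_pow, hu, map_one]
  have hB : (ρ s) ^ (orderOf s) = 1 := by rw [← map_pow, pow_orderOf_eq_one, map_one]
  have hAB : ρ u * ρ s = ρ s * ρ u := by rw [← map_mul, ← map_mul, hus.eq]
  obtain ⟨ι, hι, b, a, c, ha, hc, hAb, hBb⟩ :=
    Cfsg.Agent.S1494.exists_common_eigenbasis (ρ u) (ρ s) (p ^ n) (orderOf s) hq (orderOf_pos s)
      hA hB hAB
  have h1 : ρ.character (u * s) = ∑ i, a i * c i := by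
    apply Cfsg.Agent.S4574.trace_eq_sum_of_eigenbasis b (ρ (u * s)) (fun i => a i * c i)
    intro i
    rw [map_mul, Module.End.mul_apply, hBb i, map_smul, hAb i, smul_smul, mul_comm]
  have h2 : ρ.character s = ∑ i, c i := by
    apply Cfsg.Agent.S4574.trace_eq_sum_of_eigenbasis b (ρ s) c hBb
  have hai : ∀ i, IsIntegral ℤ (a i) := fun i => IsIntegral.of_pow hq (by rw [ha i]; exact isIntegral_one)
  have hci : ∀ i, IsIntegral ℤ (c i) := fun i =>
    IsIntegral.of_pow (orderOf_pos s) (by rw [hc i]; exact isIntegral_one)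
  let wa : ι → Cfsg.AlgInt := fun i => ⟨a i, hai i⟩
  let wc : ι → Cfsg.AlgInt := fun i => ⟨c i, hci i⟩
  obtain ⟨r1, hr1⟩ := sum_pow_prime_pow p hp n Finset.univ (fun i => wa i * wc i)
  obtain ⟨r2, hr2⟩ := sum_pow_prime_pow p hp n Finset.univ wc
  have hwa : ∀ i, wa i ^ p ^ n = 1 := fun i => Subtype.ext (by simpa [wa] using ha i)
  have h3 : (∑ i, wa i * wc i) ^ p ^ n - (∑ i, wc i) ^ p ^ n = (p : Cfsg.AlgInt) * (r1 - r2) := by
    rw [hr1, hr2]
    have : ∀ i, (wa i * wc i) ^ p ^ n = wc i ^ p ^ n := fun i => by rw [mul_pow, hwa i, one_mul]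
    rw [Finset.sum_congr rfl (fun i _ => this i)]
    ring
  refine ⟨r1 - r2, ?_⟩
  have h4 := congrArg (fun w : Cfsg.AlgInt => (w : ℂ)) h3
  simp only [wa, wc] at h4
  push_cast at h4
  rw [h1, h2]
  exact h4

theorem irr_pow_sub {G : Type*} [Group G] [Finite G] (p : ℕ) (hp : p.Prime)
    (χ : Cfsg.IrrCharacter G) (x x' : G)
    (hx : (∃ k : ℕ, orderOf (x * x'⁻¹) = p ^ k) ∧ Commute (x * x'⁻¹) x' ∧ ¬ p ∣ orderOf x') :
    ∃ γ : Cfsg.AlgInt, (χ : G → ℂ) x ^ (p ^ (Nat.card G).factorization p) -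
      (χ : G → ℂ) x' ^ (p ^ (Nat.card G).factorization p) = (p : ℂ) * (γ : ℂ) := by
  obtain ⟨n, ρ, -, hρ⟩ := χ.2
  obtain ⟨⟨k, hk⟩, hcomm, -⟩ := hx
  have hu : (x * x'⁻¹) ^ (p ^ (Nat.card G).factorization p) = 1 := by
    rw [← orderOf_dvd_iff_pow_eq_one, hk]
    apply pow_dvd_pow
    rw [← Nat.Prime.pow_dvd_iff_le_factorization hp Nat.card_pos.ne', ← hk]
    exact orderOf_dvd_natCard _
  have := char_pow_sub p hp ρ (x * x'⁻¹) x' _ hu hcomm
  rw [inv_mul_cancel_right, hρ] at this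
  exact this

/-- A `p`-element `u` commuting with the `p`-regular element `s` such that `u * s` is conjugate
to a `p`-regular element is trivial. -/
theorem eq_one_of_conj {G : Type*} [Group G] [Finite G] (p : ℕ) (hp : p.Prime) (u s t : G)
    (hu : ∃ k : ℕ, orderOf u = p ^ k) (hus : Commute u s) (hs : ¬ p ∣ orderOf s)
    (ht : ¬ p ∣ orderOf t) (hc : IsConj t (u * s)) : u = 1 := by
  obtain ⟨k, hk⟩ := hu
  have hcop : (orderOf u).Coprime (orderOf s) := by
    rw [hk]
    exact Nat.Coprime.pow_left _ ((Nat.Prime.coprime_iff_not_dvd hp).mpr hs)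
  have h1 := hus.orderOf_mul_eq_mul_orderOf_of_coprime hcop
  have h2 : orderOf t = orderOf (u * s) := by
    obtain ⟨c, hc⟩ := isConj_iff.mp hc
    rw [← hc]
    exact (orderOf_injective (MulAut.conj c).toMonoidHom (MulAut.conj c).injective t).symm
  rw [h2, h1, hk] at ht
  have hk0 : k = 0 := by
    by_contra hne
    exact ht (Dvd.dvd.mul_right (dvd_pow_self p hne) _)
  rw [hk0, pow_zero, orderOf_eq_one_iff] at hk
  exact hk

theorem result {G : Type*} [Group G] [Finite G] (p : ℕ) [Fact p.Prime] (x y x' y' : G)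
    (hx : (∃ k : ℕ, orderOf (x * x'⁻¹) = p ^ k) ∧ Commute (x * x'⁻¹) x' ∧ ¬ p ∣ orderOf x')
    (hy : (∃ k : ℕ, orderOf (y * y'⁻¹) = p ^ k) ∧ Commute (y * y'⁻¹) y' ∧ ¬ p ∣ orderOf y') :
    IsConj x' y' ↔ ∀ χ : Cfsg.IrrCharacter G, ∃ γ : Cfsg.AlgInt,
      (χ : G → ℂ) x ^ (p ^ (Nat.card G).factorization p) - (χ : G → ℂ) y ^ (p ^ (Nat.card G).factorization p) = (p : ℂ) * (γ : ℂ) := by
  classical
  have hp : p.Prime := Fact.out
  have : Fintype G := Fintype.ofFinite G
  have : Finite (Cfsg.IrrCharacter G) := irr_finite G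
  have : Fintype (Cfsg.IrrCharacter G) := Fintype.ofFinite _
  set q := p ^ (Nat.card G).factorization p with hq
  constructor
  · intro hconj χ
    obtain ⟨γ1, h1⟩ := irr_pow_sub p hp χ x x' hx
    obtain ⟨γ2, h2⟩ := irr_pow_sub p hp χ y y' hy
    have h3 : (χ : G → ℂ) x' = (χ : G → ℂ) y' :=
      Cfsg.Agent.Lib.Helper79.irr_eq_of_isConj χ.2 hconj
    refine ⟨γ1 - γ2, ?_⟩
    push_cast
    rw [mul_sub, ← h1, ← h2, h3]
    ring
  · intro hall
    by_contra hnc
    obtain ⟨M, hMmax, hpM⟩ := Cfsg.Agent.S0165.exists_maximal_ideal_natCast_mem p hp.one_lt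
    have hM : Cfsg.IsPModular p M := ⟨hp, hMmax, hpM⟩
    have hMp : M.IsPrime := hMmax.isPrime
    -- Step 1 : χ(x') - χ(y') ∈ M for all χ
    have step1 : ∀ χ : Cfsg.IrrCharacter G, ∃ m : Cfsg.AlgInt, m ∈ M ∧
        (m : ℂ) = (χ : G → ℂ) x' - (χ : G → ℂ) y' := by
      intro χ
      obtain ⟨γ, hγ⟩ := hall χ
      obtain ⟨γ1, h1⟩ := irr_pow_sub p hp χ x x' hx
      obtain ⟨γ2, h2⟩ := irr_pow_sub p hp χ y y' hy
      let A : Cfsg.AlgInt := ⟨(χ : G → ℂ) x', Cfsg.Agent.Lib.Helper79.irr_isIntegral χ.2 x'⟩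
      let B : Cfsg.AlgInt := ⟨(χ : G → ℂ) y', Cfsg.Agent.Lib.Helper79.irr_isIntegral χ.2 y'⟩
      have h3 : A ^ q - B ^ q = (p : Cfsg.AlgInt) * (γ - γ1 + γ2) := by
        apply Subtype.ext
        push_cast
        show (χ : G → ℂ) x' ^ q - (χ : G → ℂ) y' ^ q = _
        rw [mul_add, mul_sub, ← hγ, ← h1, ← h2]
        ring
      obtain ⟨r, hr⟩ := exists_add_pow_prime_pow_eq hp (A - B) B ((Nat.card G).factorization p)
      rw [sub_add_cancel] at hr
      have h4 : (A - B) ^ q = (p : Cfsg.AlgInt) * (γ - γ1 + γ2 - (A - B) * B * r) := by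
        have : (A - B) ^ q = A ^ q - B ^ q - p * (A - B) * B * r := by rw [hq, hr]; ring
        rw [this, h3]; ring
      have h5 : (A - B) ^ q ∈ M := by
        rw [h4]
        exact M.mul_mem_right _ hpM
      exact ⟨A - B, hMp.mem_of_pow_mem q h5, by push_cast; rfl⟩
    -- Step 2 : the Sylow subgroup of the centralizer
    let C := Subgroup.centralizer ({x'} : Set G)
    obtain ⟨P⟩ : Nonempty (Sylow p C) := inferInstance
    let P' : Subgroup G := (P : Subgroup C).map C.subtype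
    have hP'comm : ∀ u ∈ P', u * x' = x' * u := by
      intro u hu
      obtain ⟨v, -, rfl⟩ := hu
      have := v.2
      rw [Subgroup.mem_centralizer_singleton_iff] at this
      exact this
    have hP'p : ∀ u ∈ P', ∃ k : ℕ, orderOf u = p ^ k := by
      intro u hu
      obtain ⟨v, hv, rfl⟩ := hu
      obtain ⟨k, hk⟩ := P.2 ⟨v, hv⟩
      have h6 : (C.subtype v) ^ p ^ k = 1 := by
        have h7 := congrArg (fun w : (P : Subgroup C) => ((w : C) : G)) hk
        simpa using h7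
      obtain ⟨j, -, hj⟩ := (Nat.dvd_prime_pow hp).mp (orderOf_dvd_of_pow_eq_one h6)
      exact ⟨j, hj⟩
    have : Fintype P' := Fintype.ofFinite _
    have hsum : ∀ χ : Cfsg.IrrCharacter G, ∃ t : ℂ, IsIntegral ℤ t ∧
        ∑ u : P', (χ : G → ℂ) ((u : G) * x') = (Nat.card P' : ℂ) * t := fun χ =>
      Cfsg.Agent.Lib.Helper77.sum_subgroup_char_mul P' (χ : G → ℂ)
        (Cfsg.Agent.Lib.Helper80.isCharacter_of_isIrrCharacter χ.2) x' hP'comm
    choose t ht using hsum
    -- column orthogonality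
    have hcolx : ∑ u : P', ∑ χ : Cfsg.IrrCharacter G,
        (χ : G → ℂ) ((u : G) * x') * starRingEnd ℂ ((χ : G → ℂ) x') = (Nat.card C : ℂ) := by
      rw [Finset.sum_eq_single (1 : P')]
      · rw [irr_col_orth]
        congr 1
        apply Nat.card_congr
        refine ⟨fun y => ⟨y.1, ?_⟩, fun y => ⟨y.1, ?_⟩, fun y => rfl, fun y => rfl⟩
        · rw [Subgroup.mem_centralizer_singleton_iff]
          have := y.2
          simp only [OneMemClass.coe_one, one_mul] at this
          rw [mul_inv_eq_iff_eq_mul] at this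
          exact this
        · have := y.2
          rw [Subgroup.mem_centralizer_singleton_iff] at this
          simp only [OneMemClass.coe_one, one_mul]
          rw [mul_inv_eq_iff_eq_mul]
          exact this
      · intro u _ hu1
        rw [irr_col_orth]
        have : IsEmpty {y : G // y * x' * y⁻¹ = (u : G) * x'} := by
          constructor
          rintro ⟨y, hy⟩
          have hc : IsConj x' ((u : G) * x') := isConj_iff.mpr ⟨y, hy⟩
          have := eq_one_of_conj p hp (u : G) x' x' (hP'p u u.2) (hP'comm u u.2) hx.2.2 hx.2.2 hc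
          exact hu1 (Subtype.ext this)
        rw [Nat.card_of_isEmpty, Nat.cast_zero]
      · intro h; exact absurd (Finset.mem_univ _) h
    have hcoly : ∑ u : P', ∑ χ : Cfsg.IrrCharacter G,
        (χ : G → ℂ) ((u : G) * x') * starRingEnd ℂ ((χ : G → ℂ) y') = 0 := by
      apply Finset.sum_eq_zero
      intro u _
      rw [irr_col_orth]
      have : IsEmpty {y : G // y * y' * y⁻¹ = (u : G) * x'} := by
        constructor
        rintro ⟨y, hyy⟩
        have hc : IsConj y' ((u : G) * x') := isConj_iff.mpr ⟨y, hyy⟩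
        have h1 := eq_one_of_conj p hp (u : G) x' y' (hP'p u u.2) (hP'comm u u.2) hx.2.2 hy.2.2 hc
        rw [h1, one_mul] at hc
        exact hnc hc.symm
      rw [Nat.card_of_isEmpty, Nat.cast_zero]
    rw [Finset.sum_comm] at hcolx hcoly
    have hx2 : ∑ χ : Cfsg.IrrCharacter G, (Nat.card P' : ℂ) * t χ * starRingEnd ℂ ((χ : G → ℂ) x')
        = (Nat.card C : ℂ) := by
      rw [← hcolx]
      refine Finset.sum_congr rfl (fun χ _ => ?_)
      rw [← (ht χ).2, Finset.sum_mul]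
    have hy2 : ∑ χ : Cfsg.IrrCharacter G, (Nat.card P' : ℂ) * t χ * starRingEnd ℂ ((χ : G → ℂ) y')
        = 0 := by
      rw [← hcoly]
      refine Finset.sum_congr rfl (fun χ _ => ?_)
      rw [← (ht χ).2, Finset.sum_mul]
    -- the conjugate characters
    have step1' : ∀ χ : Cfsg.IrrCharacter G, ∃ m : Cfsg.AlgInt, m ∈ M ∧
        (m : ℂ) = starRingEnd ℂ ((χ : G → ℂ) x') - starRingEnd ℂ ((χ : G → ℂ) y') := fun χ =>
      step1 ⟨fun g => starRingEnd ℂ ((χ : G → ℂ) g), isIrrCharacter_conj χ.2⟩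
    choose m hmM hm using step1'
    let μ : Cfsg.AlgInt := ∑ χ : Cfsg.IrrCharacter G, (⟨t χ, (ht χ).1⟩ : Cfsg.AlgInt) * m χ
    have hμM : μ ∈ M := Ideal.sum_mem _ (fun χ _ => M.mul_mem_left _ (hmM χ))
    have hμ : (Nat.card C : ℂ) = (Nat.card P' : ℂ) * (μ : ℂ) := by
      have h8 : (μ : ℂ) = ∑ χ : Cfsg.IrrCharacter G, t χ * (starRingEnd ℂ ((χ : G → ℂ) x') -
          starRingEnd ℂ ((χ : G → ℂ) y')) := by
        simp only [μ]
        push_cast
        refine Finset.sum_congr rfl (fun χ _ => ?_)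
        rw [hm χ]
      rw [h8, Finset.mul_sum, ← hx2, ← sub_zero (∑ χ : Cfsg.IrrCharacter G, _), ← hy2,
        ← Finset.sum_sub_distrib]
      refine Finset.sum_congr rfl (fun χ _ => ?_)
      ring
    have hcard : Nat.card P' = Nat.card (P : Subgroup C) :=
      Nat.card_congr ((P : Subgroup C).equivMapOfInjective C.subtype C.subtype_injective).symm.toEquiv
    have hidx := (P : Subgroup C).card_mul_index
    have hP0 : (Nat.card P' : ℂ) ≠ 0 := by exact_mod_cast (Nat.card_pos (α := P')).ne'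
    have h9 : (((P : Subgroup C).index : ℕ) : ℂ) = (μ : ℂ) := by
      apply mul_left_cancel₀ hP0
      rw [← hμ, ← hidx, hcard]
      push_cast; rfl
    have h10 : (((P : Subgroup C).index : ℕ) : Cfsg.AlgInt) = μ := by
      apply Subtype.ext
      rw [← h9]
      simp
    have h11 : p ∣ (P : Subgroup C).index := (natCast_mem_iff hM _).mp (h10 ▸ hμM)
    exact P.not_dvd_index h11

end Cfsg.Agent.S4604
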