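-- Statement S4866; see Cfsg/Templates/S4866.lean.txt. The theorem `result` below is the frozen statement.
import Cfsg.Statements.S4866
import Cfsg.Agent.Lib.Helper81.CharOps

set_option autoImplicit false
open Cfsg

namespace Cfsg.Agent.S4866

open Cfsg.Agent.Lib.Helper81

section Setup

variable {G : Type*} [Group G] (K : Subgroup G) [K.Normal]

/-- `act g θ = θ ∘ c_{g⁻¹}`. -/
noncomputable def act (g : G) (θ : Cfsg.IrrCharacter K) : Cfsg.IrrCharacter K :=
  ⟨θ.1 ∘ (MulAut.conjNormal g⁻¹ : K ≃* K), isIrrCharacter_comp_mulEquiv _ θ.2⟩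

theorem act_apply (g : G) (θ : Cfsg.IrrCharacter K) (k : K) :
    (act K g θ).1 k = θ.1 (MulAut.conjNormal g⁻¹ k) := rfl

theorem act_one (θ : Cfsg.IrrCharacter K) : act K 1 θ = θ := by
  apply Subtype.ext
  funext k
  simp [act]

theorem act_mul (g h : G) (θ : Cfsg.IrrCharacter K) : act K (g * h) θ = act K g (act K h θ) := by
  apply Subtype.ext
  funext k
  simp only [act_apply]
  rw [mul_inv_rev, map_mul]
  rfl

/-- `cact θ = conj θ`. -/
noncomputable def cact (θ : Cfsg.IrrCharacter K) : Cfsg.IrrCharacter K :=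
  ⟨fun k => starRingEnd ℂ (θ.1 k), isIrrCharacter_conj θ.2⟩

/-- The action of `G` on the real irreducible characters of `K`. -/
@[reducible] noncomputable def mulActionX :
    MulAction G {θ : Cfsg.IrrCharacter K // ∀ k : K, ((θ : K → ℂ) k).im = 0} where
  smul g θ := ⟨act K g θ.1, fun _ => θ.2 _⟩
  one_smul θ := Subtype.ext (act_one K θ.1)
  mul_smul g h θ := Subtype.ext (act_mul K g h θ.1)

/-- The action of `G` on the real elements of `K`. -/
@[reducible] noncomputable def mulActionY : MulAction G {x : K // IsConj x x⁻¹} where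
  smul g x := ⟨MulAut.conjNormal g x.1, by
    obtain ⟨c, hc⟩ := isConj_iff.1 x.2
    rw [isConj_iff]
    refine ⟨MulAut.conjNormal g c, ?_⟩
    rw [← map_mul, ← map_inv, ← map_mul, hc, map_inv]⟩
  one_smul x := by
    apply Subtype.ext
    change MulAut.conjNormal (1 : G) x.1 = x.1
    simp
  mul_smul g h x := by
    apply Subtype.ext
    change MulAut.conjNormal (g * h) x.1 = MulAut.conjNormal g (MulAut.conjNormal h x.1)
    rw [map_mul]
    rfl

end Setup

section Count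

variable {G : Type*} [Group G] (K : Subgroup G) [K.Normal]

theorem twisted_fixed_iff [Finite K] (hodd : Odd K.index) (g : G) (θ : Cfsg.IrrCharacter K) :
    cact K (act K g θ) = θ ↔ (∀ k : K, ((θ : K → ℂ) k).im = 0) ∧ act K g θ = θ := by
  constructor
  · intro h
    have h1 : ∀ x : K, θ.1 (MulAut.conjNormal g⁻¹ x) = starRingEnd ℂ (θ.1 x) := by
      intro x
      have := congrFun (congrArg Subtype.val h) x
      change starRingEnd ℂ (θ.1 (MulAut.conjNormal g⁻¹ x)) = θ.1 x at this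
      rw [← this, Complex.conj_conj]
    have key : ∀ j : ℕ, ∀ k : K, θ.1 (((MulAut.conjNormal g⁻¹ : MulAut K) ^ j) k) =
        (starRingEnd ℂ)^[j] (θ.1 k) := by
      intro j
      induction j with
      | zero => intro k; simp
      | succ j ih =>
        intro k
        rw [pow_succ', MulAut.mul_apply, h1, ih, Function.iterate_succ_apply']
    have hreal : ∀ k : K, starRingEnd ℂ (θ.1 k) = θ.1 k := by
      intro k
      have h2 := key K.index k
      have hinv : Function.Involutive (starRingEnd ℂ : ℂ → ℂ) := Complex.conj_conj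
      rw [hinv.iterate_odd hodd] at h2
      rw [← h2, ← map_pow, inv_pow]
      have hmem : g ^ K.index ∈ K := K.pow_index_mem g
      have h3 : (MulAut.conjNormal (g ^ K.index)⁻¹ : MulAut K) k =
          (⟨g ^ K.index, hmem⟩ : K)⁻¹ * k * (⟨g ^ K.index, hmem⟩ : K)⁻¹⁻¹ := by
        apply Subtype.ext
        rw [MulAut.conjNormal_apply]
        rfl
      have := Fintype.ofFinite K
      rw [h3, irr_conj_class]
    refine ⟨fun k => Complex.conj_eq_iff_im.1 (hreal k), ?_⟩
    apply Subtype.ext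
    funext k
    rw [act_apply, h1, hreal]
  · rintro ⟨h1, h2⟩
    rw [h2]
    apply Subtype.ext
    funext k
    exact Complex.conj_eq_iff_im.2 (h1 k)

theorem count_twisted [Fintype K] [Fintype (Cfsg.IrrCharacter K)] (g : G) :
    (Nat.card K : ℂ) * (Nat.card {θ : Cfsg.IrrCharacter K // cact K (act K g θ) = θ} : ℂ) =
      ∑ k : K, (Nat.card {y : K // y * k * y⁻¹ = (MulAut.conjNormal g⁻¹ k)⁻¹} : ℂ) := by
  classical
  rw [Nat.card_eq_fintype_card (α := {θ : Cfsg.IrrCharacter K // cact K (act K g θ) = θ}),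
    Fintype.card_subtype, ← Finset.sum_boole, Finset.mul_sum]
  have h1 : ∀ θ : Cfsg.IrrCharacter K,
      (Nat.card K : ℂ) * (if cact K (act K g θ) = θ then (1 : ℂ) else 0) =
        ∑ k : K, (cact K (act K g θ)).1 k * θ.1 k⁻¹ := by
    intro θ
    rw [irr_orth]
    split_ifs <;> simp
  simp only [h1]
  rw [Finset.sum_comm]
  refine Finset.sum_congr rfl (fun k _ => ?_)
  rw [← irr_col_orth_inv]
  refine Finset.sum_congr rfl (fun θ _ => ?_)
  rw [irr_inv θ (MulAut.conjNormal g⁻¹ k)]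
  rfl

theorem sum_reindex [Fintype G] [Fintype K] :
    ∑ g : G, ∑ k : K, (Nat.card {y : K // y * k * y⁻¹ = (MulAut.conjNormal g⁻¹ k)⁻¹} : ℂ) =
      (Nat.card K : ℂ) * ∑ k : K, (Nat.card {h : G // h * (k : G) * h⁻¹ = (k : G)⁻¹} : ℂ) := by
  classical
  have h1 : ∀ (g : G) (k : K), (Nat.card {y : K // y * k * y⁻¹ = (MulAut.conjNormal g⁻¹ k)⁻¹} : ℂ) =
      ∑ y : K, if (g * (y : G)) * (k : G) * (g * (y : G))⁻¹ = (k : G)⁻¹ then (1 : ℂ) else 0 := by
    intro g k
    rw [Finset.sum_boole, Nat.card_eq_fintype_card, Fintype.card_subtype]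
    congr 2
    ext y
    simp only [Finset.mem_filter, Finset.mem_univ, true_and]
    rw [← Subtype.coe_inj]
    push_cast
    rw [MulAut.conjNormal_apply]
    constructor
    · intro h
      calc g * (y : G) * (k : G) * (g * (y : G))⁻¹ = g * ((y : G) * (k : G) * (y : G)⁻¹) * g⁻¹ := by group
        _ = g * (g⁻¹ * (k : G) * g⁻¹⁻¹)⁻¹ * g⁻¹ := by rw [h]
        _ = (k : G)⁻¹ := by group
    · intro h
      calc (y : G) * (k : G) * (y : G)⁻¹ = g⁻¹ * (g * (y : G) * (k : G) * (g * (y : G))⁻¹) * g := by group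
        _ = g⁻¹ * (k : G)⁻¹ * g := by rw [h]
        _ = (g⁻¹ * (k : G) * g⁻¹⁻¹)⁻¹ := by group
  have h2 : ∀ k : K, (Nat.card {h : G // h * (k : G) * h⁻¹ = (k : G)⁻¹} : ℂ) =
      ∑ h : G, if h * (k : G) * h⁻¹ = (k : G)⁻¹ then (1 : ℂ) else 0 := by
    intro k
    rw [Finset.sum_boole, Nat.card_eq_fintype_card, Fintype.card_subtype]
  simp only [h1, h2]
  rw [Finset.sum_comm]
  rw [Finset.mul_sum]
  refine Finset.sum_congr rfl (fun k _ => ?_)
  rw [Finset.sum_comm]
  have h3 : ∀ y : K, ∑ g : G, (if (g * (y : G)) * (k : G) * (g * (y : G))⁻¹ = (k : G)⁻¹ then (1 : ℂ) else 0) =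
      ∑ h : G, if h * (k : G) * h⁻¹ = (k : G)⁻¹ then (1 : ℂ) else 0 := by
    intro y
    exact Fintype.sum_equiv (Equiv.mulRight (y : G)) _ _ (fun g => rfl)
  simp only [h3]
  simp [Nat.card_eq_fintype_card]

open scoped Classical in
theorem count_inv [Finite G] (hodd : Odd K.index) (k : K) :
    Nat.card {h : G // h * (k : G) * h⁻¹ = (k : G)⁻¹} =
      if IsConj k k⁻¹ then Nat.card {h : G // h * (k : G) * h⁻¹ = (k : G)} else 0 := by
  by_cases hex : ∃ h₀ : G, h₀ * (k : G) * h₀⁻¹ = (k : G)⁻¹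
  · obtain ⟨h₀, hh₀⟩ := hex
    have hreal : IsConj k k⁻¹ := by
      obtain ⟨r, hr⟩ := hodd
      have hmem : h₀ ^ K.index ∈ K := K.pow_index_mem h₀
      have hc2 : Commute (h₀ ^ 2) (k : G) := by
        have : h₀ ^ 2 * (k : G) * (h₀ ^ 2)⁻¹ = (k : G) := by
          calc h₀ ^ 2 * (k : G) * (h₀ ^ 2)⁻¹ = h₀ * (h₀ * (k : G) * h₀⁻¹) * h₀⁻¹ := by
                simp only [pow_two, mul_inv_rev, mul_assoc]
            _ = h₀ * (k : G)⁻¹ * h₀⁻¹ := by rw [hh₀]
            _ = (h₀ * (k : G) * h₀⁻¹)⁻¹ := by group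
            _ = (k : G) := by rw [hh₀, inv_inv]
        exact mul_inv_eq_iff_eq_mul.1 this
      have hc : Commute ((h₀ ^ 2) ^ r) (k : G) := hc2.pow_left r
      have hpow : h₀ ^ K.index = h₀ * (h₀ ^ 2) ^ r := by
        rw [hr, pow_succ', pow_mul]
      rw [isConj_iff]
      refine ⟨⟨h₀ ^ K.index, hmem⟩, ?_⟩
      apply Subtype.ext
      push_cast
      rw [hpow]
      calc h₀ * (h₀ ^ 2) ^ r * (k : G) * (h₀ * (h₀ ^ 2) ^ r)⁻¹
          = h₀ * ((h₀ ^ 2) ^ r * (k : G)) * ((h₀ ^ 2) ^ r)⁻¹ * h₀⁻¹ := by group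
        _ = h₀ * ((k : G) * (h₀ ^ 2) ^ r) * ((h₀ ^ 2) ^ r)⁻¹ * h₀⁻¹ := by rw [hc.eq]
        _ = h₀ * (k : G) * h₀⁻¹ := by group
        _ = (k : G)⁻¹ := hh₀
    rw [if_pos hreal]
    refine Nat.card_congr ⟨fun h => ⟨h₀⁻¹ * h.1, ?_⟩, fun h => ⟨h₀ * h.1, ?_⟩, ?_, ?_⟩
    · calc h₀⁻¹ * h.1 * (k : G) * (h₀⁻¹ * h.1)⁻¹ = h₀⁻¹ * (h.1 * (k : G) * h.1⁻¹) * h₀ := by group
        _ = h₀⁻¹ * (k : G)⁻¹ * h₀ := by rw [h.2]
        _ = h₀⁻¹ * (h₀ * (k : G) * h₀⁻¹) * h₀ := by rw [hh₀]
        _ = (k : G) := by group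
    · calc h₀ * h.1 * (k : G) * (h₀ * h.1)⁻¹ = h₀ * (h.1 * (k : G) * h.1⁻¹) * h₀⁻¹ := by group
        _ = h₀ * (k : G) * h₀⁻¹ := by rw [h.2]
        _ = (k : G)⁻¹ := hh₀
    · intro h
      apply Subtype.ext
      simp
    · intro h
      apply Subtype.ext
      simp
  · have hnot : ¬ IsConj k k⁻¹ := by
      intro hc
      obtain ⟨c, hc⟩ := isConj_iff.1 hc
      apply hex
      refine ⟨(c : G), ?_⟩
      have := congrArg Subtype.val hc
      simpa using this
    rw [if_neg hnot, Nat.card_eq_zero]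
    left
    exact ⟨fun h => hex ⟨h.1, h.2⟩⟩

attribute [local instance] mulActionX mulActionY

theorem card_fixedX [Finite K] (hodd : Odd K.index) (g : G) :
    Nat.card (MulAction.fixedBy {θ : Cfsg.IrrCharacter K // ∀ k : K, ((θ : K → ℂ) k).im = 0} g) =
      Nat.card {θ : Cfsg.IrrCharacter K // cact K (act K g θ) = θ} := by
  refine Nat.card_congr ⟨fun x => ⟨x.1.1, (twisted_fixed_iff K hodd g x.1.1).2 ⟨x.1.2, ?_⟩⟩,
    fun θ => ⟨⟨θ.1, ((twisted_fixed_iff K hodd g θ.1).1 θ.2).1⟩, ?_⟩, ?_, ?_⟩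
  · exact congrArg Subtype.val x.2
  · apply Subtype.ext
    exact ((twisted_fixed_iff K hodd g θ.1).1 θ.2).2
  · intro x
    rfl
  · intro θ
    rfl

theorem card_fixedY (h : G) :
    Nat.card (MulAction.fixedBy {x : K // IsConj x x⁻¹} h) =
      Nat.card {k : K // IsConj k k⁻¹ ∧ h * (k : G) * h⁻¹ = (k : G)} := by
  refine Nat.card_congr ⟨fun x => ⟨x.1.1, x.1.2, ?_⟩, fun k => ⟨⟨k.1, k.2.1⟩, ?_⟩, ?_, ?_⟩
  · exact congrArg (fun z : {x : K // IsConj x x⁻¹} => ((z.1 : K) : G)) x.2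
  · apply Subtype.ext
    apply Subtype.ext
    exact k.2.2
  · intro x
    rfl
  · intro k
    rfl

theorem rel_iff_X (θ η : {θ : Cfsg.IrrCharacter K // ∀ k : K, ((θ : K → ℂ) k).im = 0}) :
    (∃ g : G, ∀ k k' : K, (k' : G) = g * (k : G) * g⁻¹ → (η.1 : K → ℂ) k' = (θ.1 : K → ℂ) k) ↔
      (MulAction.orbitRel G {θ : Cfsg.IrrCharacter K // ∀ k : K, ((θ : K → ℂ) k).im = 0}).r θ η := by
  change _ ↔ θ ∈ MulAction.orbit G η
  rw [MulAction.mem_orbit_iff]
  constructor
  · rintro ⟨g, hg⟩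
    refine ⟨g⁻¹, ?_⟩
    apply Subtype.ext
    apply Subtype.ext
    funext k
    change η.1.1 (MulAut.conjNormal g⁻¹⁻¹ k) = θ.1.1 k
    apply hg
    rw [inv_inv, MulAut.conjNormal_apply]
  · rintro ⟨g, hg⟩
    refine ⟨g⁻¹, ?_⟩
    intro k k' hk
    rw [← hg]
    change η.1.1 k' = η.1.1 (MulAut.conjNormal g⁻¹ k)
    have hkk : k' = MulAut.conjNormal g⁻¹ k := by
      apply Subtype.ext
      rw [hk, MulAut.conjNormal_apply]
    rw [hkk]

theorem rel_iff_Y (x y : {x : K // IsConj x x⁻¹}) :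
    (∃ g : G, (y.1 : G) = g * x.1 * g⁻¹) ↔
      (MulAction.orbitRel G {x : K // IsConj x x⁻¹}).r x y := by
  change _ ↔ x ∈ MulAction.orbit G y
  rw [MulAction.mem_orbit_iff]
  constructor
  · rintro ⟨g, hg⟩
    refine ⟨g⁻¹, ?_⟩
    apply Subtype.ext
    apply Subtype.ext
    change ((MulAut.conjNormal g⁻¹ y.1 : K) : G) = x.1
    rw [MulAut.conjNormal_apply, hg]
    group
  · rintro ⟨g, hg⟩
    refine ⟨g⁻¹, ?_⟩
    rw [← hg]
    change (y.1 : G) = g⁻¹ * ((MulAut.conjNormal g y.1 : K) : G) * g⁻¹⁻¹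
    rw [MulAut.conjNormal_apply]
    group

theorem burnside_nat (G X : Type*) [Group G] [MulAction G X] [Fintype G] [Finite X] :
    ∑ g : G, Nat.card (MulAction.fixedBy X g) =
      Nat.card (Quotient (MulAction.orbitRel G X)) * Nat.card G := by
  classical
  have := Fintype.ofFinite X
  simp only [Nat.card_eq_fintype_card]
  convert MulAction.sum_card_fixedBy_eq_card_orbits_mul_card_group G X

open scoped Classical in
theorem sum_fixedY [Fintype G] [Fintype K] :
    ∑ h : G, Nat.card (MulAction.fixedBy {x : K // IsConj x x⁻¹} h) =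
      ∑ k : K, (if IsConj k k⁻¹ then Nat.card {h : G // h * (k : G) * h⁻¹ = (k : G)} else 0) := by
  classical
  simp only [card_fixedY]
  have h1 : ∀ h : G, Nat.card {k : K // IsConj k k⁻¹ ∧ h * (k : G) * h⁻¹ = (k : G)} =
      ∑ k : K, if IsConj k k⁻¹ ∧ h * (k : G) * h⁻¹ = (k : G) then 1 else 0 := by
    intro h
    rw [Nat.card_eq_fintype_card, Fintype.card_subtype, Finset.sum_boole, Nat.cast_id]
  have h2 : ∀ k : K, Nat.card {h : G // h * (k : G) * h⁻¹ = (k : G)} =
      ∑ h : G, if h * (k : G) * h⁻¹ = (k : G) then 1 else 0 := by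
    intro k
    rw [Nat.card_eq_fintype_card, Fintype.card_subtype, Finset.sum_boole, Nat.cast_id]
  simp only [h1, h2]
  rw [Finset.sum_comm]
  refine Finset.sum_congr rfl (fun k _ => ?_)
  by_cases hk : IsConj k k⁻¹
  · rw [if_pos hk]
    refine Finset.sum_congr rfl (fun h _ => ?_)
    simp only [hk, true_and]
  · rw [if_neg hk]
    refine Finset.sum_eq_zero (fun h _ => ?_)
    rw [if_neg]
    exact fun h' => hk h'.1

theorem main [Finite G] (hodd : Odd K.index) :
    Nat.card (Quotient (MulAction.orbitRel G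
        {θ : Cfsg.IrrCharacter K // ∀ k : K, ((θ : K → ℂ) k).im = 0})) =
      Nat.card (Quotient (MulAction.orbitRel G {x : K // IsConj x x⁻¹})) := by
  classical
  have := Fintype.ofFinite G
  have := Fintype.ofFinite K
  have := irr_finite K
  have := Fintype.ofFinite (Cfsg.IrrCharacter K)
  have hX := burnside_nat G {θ : Cfsg.IrrCharacter K // ∀ k : K, ((θ : K → ℂ) k).im = 0}
  have hY := burnside_nat G {x : K // IsConj x x⁻¹}
  have hK : (Nat.card K : ℂ) ≠ 0 := by exact_mod_cast Nat.card_pos.ne'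
  have hG : 0 < Nat.card G := Nat.card_pos
  have key : ∑ g : G, Nat.card {θ : Cfsg.IrrCharacter K // cact K (act K g θ) = θ} =
      ∑ k : K, Nat.card {h : G // h * (k : G) * h⁻¹ = (k : G)⁻¹} := by
    have h1 : (Nat.card K : ℂ) * ∑ g : G,
        (Nat.card {θ : Cfsg.IrrCharacter K // cact K (act K g θ) = θ} : ℂ) =
        (Nat.card K : ℂ) * ∑ k : K, (Nat.card {h : G // h * (k : G) * h⁻¹ = (k : G)⁻¹} : ℂ) := by
      rw [Finset.mul_sum, ← sum_reindex]
      exact Finset.sum_congr rfl (fun g _ => count_twisted K g)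
    have h2 := mul_left_cancel₀ hK h1
    exact_mod_cast h2
  have e1 : ∑ g : G, Nat.card (MulAction.fixedBy
      {θ : Cfsg.IrrCharacter K // ∀ k : K, ((θ : K → ℂ) k).im = 0} g) =
      ∑ h : G, Nat.card (MulAction.fixedBy {x : K // IsConj x x⁻¹} h) := by
    rw [sum_fixedY]
    simp only [card_fixedX K hodd]
    rw [key]
    exact Finset.sum_congr rfl (fun k _ => by convert count_inv K hodd k)
  rw [hX, hY] at e1
  exact Nat.eq_of_mul_eq_mul_right hG e1

end Count

/-- Let K be a normal subgroup of odd index in the finite group G. Then G has as many orbits on the real-valued irreducible complex characters of K (acting by conjugation) as it has orbits on the conjugacy classes of K that are real in K; equivalently, the number of G-orbits of real-valued irreducible characters of K equals the number of G-conjugacy classes of elements of K that are conjugate in K to their inverses. -/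
theorem result {G : Type*} [Group G] [Finite G] (K : Subgroup G) [K.Normal] (hodd : Odd K.index) : Nat.card (Quot (fun θ η : {θ : Cfsg.IrrCharacter ↥K // (∀ k : ↥K, ((θ : ↥K → ℂ) k).im = 0)} => ∃ g : G, ∀ k k' : ↥K, (k' : G) = g * (k : G) * g⁻¹ → (η.1 : ↥K → ℂ) k' = (θ.1 : ↥K → ℂ) k)) = Nat.card (Quot (fun x y : {x : ↥K // IsConj x x⁻¹} => ∃ g : G, (y.1 : G) = g * x.1 * g⁻¹)) := by
  rw [Nat.card_congr (Quot.congrRight (rel_iff_X K)), Nat.card_congr (Quot.congrRight (rel_iff_Y K))]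
  exact main K hodd

end Cfsg.Agent.S4866
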