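import Cfsg.Statements.S0187
import Cfsg.Agent.S0133
import Cfsg.Agent.Lib.Helper74.CharSums

set_option autoImplicit false
open Cfsg

namespace Cfsg.Agent.S0187

open Cfsg.Agent.Lib.Helper3 Cfsg.Agent.Lib.Helper74

/-- A finite group is commutative iff it has as many conjugacy classes as elements. -/
theorem comm_iff_card_conjClasses {G : Type*} [Group G] [Finite G] :
    (∀ a b : G, a * b = b * a) ↔ Nat.card (ConjClasses G) = Nat.card G := by
  constructor
  · intro h
    have hinj : Function.Injective (ConjClasses.mk : G → ConjClasses G) := by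
      intro a b hab
      rw [ConjClasses.mk_eq_mk_iff_isConj, isConj_iff] at hab
      obtain ⟨c, hc⟩ := hab
      rw [h c a, mul_assoc, mul_inv_cancel, mul_one] at hc
      exact hc
    exact (Nat.card_congr (Equiv.ofBijective _ ⟨hinj, ConjClasses.mk_surjective⟩)).symm
  · intro h a b
    have hbij : Function.Bijective (ConjClasses.mk : G → ConjClasses G) :=
      (Nat.bijective_iff_surjective_and_card _).2 ⟨ConjClasses.mk_surjective, h.symm⟩
    have h1 : ConjClasses.mk (b * a * b⁻¹) = ConjClasses.mk a := by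
      rw [ConjClasses.mk_eq_mk_iff_isConj, isConj_comm, isConj_iff]
      exact ⟨b, rfl⟩
    have h2 := hbij.1 h1
    calc a * b = (b * a * b⁻¹) * b := by rw [h2]
      _ = b * a := by group

/-- A finite group is abelian exactly when all its irreducible characters have degree one. -/
theorem result {G : Type*} [Group G] [Finite G] : (∀ a b : G, a * b = b * a) ↔ ∀ χ : Cfsg.IrrCharacter G, (χ : G → ℂ) 1 = 1 := by
  classical
  have := Fintype.ofFinite G
  have := Fintype.ofFinite (Cfsg.IrrCharacter G)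
  have hcard : Nat.card (Cfsg.IrrCharacter G) = Nat.card (ConjClasses G) := Cfsg.Agent.S0133.result
  have hsum : ∑ χ : Cfsg.IrrCharacter G, (χ : G → ℂ) 1 * (χ : G → ℂ) 1 = (Nat.card G : ℂ) :=
    sum_irr_degree_sq
  have hdeg : ∀ χ : Cfsg.IrrCharacter G, 0 < Cfsg.charDegree (χ : G → ℂ) ∧
      (χ : G → ℂ) 1 = (Cfsg.charDegree (χ : G → ℂ) : ℂ) := irr_charDegree
  have hsumN : ∑ χ : Cfsg.IrrCharacter G, Cfsg.charDegree (χ : G → ℂ) * Cfsg.charDegree (χ : G → ℂ)
      = Nat.card G := by
    have : ((∑ χ : Cfsg.IrrCharacter G, Cfsg.charDegree (χ : G → ℂ) * Cfsg.charDegree (χ : G → ℂ) : ℕ) : ℂ)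
        = (Nat.card G : ℂ) := by
      rw [← hsum]
      push_cast
      exact Finset.sum_congr rfl (fun χ _ => by rw [(hdeg χ).2])
    exact_mod_cast this
  rw [comm_iff_card_conjClasses, ← hcard]
  constructor
  · intro h χ
    have h1 : ∑ _χ : Cfsg.IrrCharacter G, 1 = ∑ χ : Cfsg.IrrCharacter G,
        Cfsg.charDegree (χ : G → ℂ) * Cfsg.charDegree (χ : G → ℂ) := by
      rw [hsumN, ← h, Nat.card_eq_fintype_card]
      simp
    have h2 := (Finset.sum_eq_sum_iff_of_le (fun χ _ => by
      have := (hdeg χ).1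
      nlinarith)).1 h1 χ (Finset.mem_univ χ)
    have h3 : Cfsg.charDegree (χ : G → ℂ) = 1 := by
      have := (hdeg χ).1
      nlinarith
    rw [(hdeg χ).2, h3]
    simp
  · intro h
    rw [← hsumN, Nat.card_eq_fintype_card]
    have : ∀ χ : Cfsg.IrrCharacter G, Cfsg.charDegree (χ : G → ℂ) = 1 := by
      intro χ
      have h1 := (hdeg χ).2
      rw [h χ] at h1
      exact_mod_cast h1.symm
    simp [this]

end Cfsg.Agent.S0187
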