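import Cfsg.Statements.S0186
import Cfsg.Agent.S0133
import Cfsg.Agent.Lib.Helper3.CharKernel
import Cfsg.Agent.Lib.Helper74.CharSums
import Cfsg.Agent.Lib.Helper75.CharInd
import Cfsg.Agent.Lib.Helper79.Linear

set_option autoImplicit false
open Cfsg

namespace Cfsg.Agent.S0186

open Cfsg.Agent.Lib.Helper3 Cfsg.Agent.Lib.Helper74 Cfsg.Agent.Lib.Helper75
  Cfsg.Agent.Lib.Helper79
open scoped commutatorElement

/-- Sum of squares of the degrees, over the naturals. -/
theorem sum_charDegree_sq {G : Type*} [Group G] [Fintype G] [Fintype (Cfsg.IrrCharacter G)] :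
    ∑ χ : Cfsg.IrrCharacter G, Cfsg.charDegree (χ : G → ℂ) * Cfsg.charDegree (χ : G → ℂ)
      = Nat.card G := by
  have hsum : ∑ χ : Cfsg.IrrCharacter G, (χ : G → ℂ) 1 * (χ : G → ℂ) 1 = (Nat.card G : ℂ) :=
    sum_irr_degree_sq
  have : ((∑ χ : Cfsg.IrrCharacter G,
      Cfsg.charDegree (χ : G → ℂ) * Cfsg.charDegree (χ : G → ℂ) : ℕ) : ℂ) = (Nat.card G : ℂ) := by
    rw [← hsum]
    push_cast
    exact Finset.sum_congr rfl (fun χ _ => by rw [(irr_charDegree χ).2])
  exact_mod_cast this

/-- In a simple group, an irreducible character with a nontrivial element in its kernel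
is principal. -/
theorem irr_eq_one_of_kernel {G : Type*} [Group G] [Fintype G] [IsSimpleGroup G]
    (χ : Cfsg.IrrCharacter G) (c : G) (hc : c ≠ 1) (h : (χ : G → ℂ) c = (χ : G → ℂ) 1) :
    (χ : G → ℂ) = fun _ => 1 := by
  obtain ⟨n, ρ, hirr, hχ⟩ := χ.2
  have h1 : ρ.character 1 = (Module.finrank ℂ (Fin n → ℂ) : ℂ) := Representation.char_one ρ
  rw [← hχ] at h
  have hρc : ρ c = LinearMap.id := (character_eq_finrank_iff ρ c).1 (by rw [h, h1])
  have hker : (ρ : G →* ((Fin n → ℂ) →ₗ[ℂ] (Fin n → ℂ))).ker = ⊤ := by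
    rcases (MonoidHom.normal_ker (ρ : G →* ((Fin n → ℂ) →ₗ[ℂ] (Fin n → ℂ)))).eq_bot_or_eq_top
      with hb | ht
    · exfalso
      have : c ∈ (ρ : G →* ((Fin n → ℂ) →ₗ[ℂ] (Fin n → ℂ))).ker := by
        rw [MonoidHom.mem_ker]; exact hρc
      rw [hb, Subgroup.mem_bot] at this
      exact hc this
    · exact ht
  have hall : ∀ g : G, ρ.character g = (n : ℂ) := by
    intro g
    have hg : g ∈ (ρ : G →* ((Fin n → ℂ) →ₗ[ℂ] (Fin n → ℂ))).ker := by rw [hker]; trivial
    rw [MonoidHom.mem_ker] at hg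
    have : ρ g = LinearMap.id := hg
    rw [(character_eq_finrank_iff ρ g).2 this]
    simp
  have hnorm := classInner_irr_self χ.2
  rw [← hχ] at hnorm
  unfold Cfsg.classInner at hnorm
  simp only [hall, Finset.sum_const, Finset.card_univ, nsmul_eq_mul, map_natCast] at hnorm
  rw [← Nat.card_eq_fintype_card] at hnorm
  have hG : (Nat.card G : ℂ) ≠ 0 := card_ne_zero'
  have hn : (n : ℂ) * (n : ℂ) = 1 := by
    field_simp at hnorm
    linear_combination hnorm
  have hn1 : n = 1 := by
    have : n * n = 1 := by exact_mod_cast hn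
    exact Nat.eq_one_of_mul_eq_one_right this
  rw [← hχ]
  funext g
  rw [hall g, hn1]
  simp

/-- An irreducible character of degree less than `p` takes its degree as value on the
commutator subgroup of a `p`-subgroup. -/
theorem irr_commutator_of_lt {G : Type*} [Group G] [Finite G] (p : ℕ) [Fact p.Prime]
    (P : Subgroup G) (hP : IsPGroup p P) (χ : Cfsg.IrrCharacter G)
    (hlt : Cfsg.charDegree (χ : G → ℂ) < p) (c : P) (hc : c ∈ commutator P) :
    (χ : G → ℂ) c = (χ : G → ℂ) 1 := by
  classical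
  have := Fintype.ofFinite G
  have := Fintype.ofFinite P
  have := Fintype.ofFinite (Cfsg.IrrCharacter P)
  have hres : Cfsg.IsCharacter P (fun h : P => (χ : G → ℂ) h) :=
    isCharacter_res P (isCharacter_of_irr χ.2)
  obtain ⟨m, -, hsum⟩ := char_eq_sum_irr hres
  choose d hdpos hd1 hddvd using fun φ : Cfsg.IrrCharacter P => irr_degree_dvd φ.2
  obtain ⟨r, hr⟩ := IsPGroup.iff_card.1 hP
  have hχ1 : (χ : G → ℂ) 1 = ∑ φ : Cfsg.IrrCharacter P, (m φ : ℂ) * (d φ : ℂ) := by
    have h := congrFun hsum 1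
    simp only [Finset.sum_apply, Pi.smul_apply, smul_eq_mul] at h
    rw [show ((1 : P) : G) = 1 from rfl] at h
    rw [h]
    exact Finset.sum_congr rfl (fun φ _ => by rw [hd1 φ])
  have hdegN : Cfsg.charDegree (χ : G → ℂ) = ∑ φ : Cfsg.IrrCharacter P, m φ * d φ := by
    have h2 := (irr_charDegree χ).2
    rw [hχ1] at h2
    exact_mod_cast h2.symm
  have hlin : ∀ φ : Cfsg.IrrCharacter P, m φ ≠ 0 → d φ = 1 := by
    intro φ hφ
    have hle : m φ * d φ ≤ Cfsg.charDegree (χ : G → ℂ) := by
      rw [hdegN]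
      exact Finset.single_le_sum (f := fun φ => m φ * d φ) (fun _ _ => Nat.zero_le _)
        (Finset.mem_univ φ)
    have hdlt : d φ < p := by
      have : d φ ≤ m φ * d φ := Nat.le_mul_of_pos_left _ (Nat.pos_of_ne_zero hφ)
      omega
    have hdvd := hddvd φ
    rw [hr] at hdvd
    obtain ⟨j, -, hj⟩ := (Nat.dvd_prime_pow (Fact.out : p.Prime)).1 hdvd
    rcases Nat.eq_zero_or_pos j with h0 | h0
    · rw [hj, h0, pow_zero]
    · exfalso
      have : p ≤ d φ := by
        rw [hj]
        exact Nat.le_self_pow (Nat.pos_iff_ne_zero.1 h0) p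
      omega
  have h := congrFun hsum c
  simp only [Finset.sum_apply, Pi.smul_apply, smul_eq_mul] at h
  rw [h, hχ1]
  refine Finset.sum_congr rfl (fun φ _ => ?_)
  by_cases hφ : m φ = 0
  · rw [hφ]; simp
  · have hd := hlin φ hφ
    have hφ1 : (φ : P → ℂ) 1 = 1 := by rw [hd1 φ, hd]; simp
    rw [linear_irr_commutator φ.2 hφ1 hc, hd]
    simp

/-- A simple group of order `n` with more than `n / p²` classes has abelian Sylow
`p`-subgroups. -/
theorem result {G : Type*} [Group G] [Finite G] [IsSimpleGroup G] (p : ℕ) [Fact p.Prime] (hp : p ∣ Nat.card G) (hmany : Nat.card G < p ^ 2 * Nat.card (ConjClasses G)) (P : Sylow p G) (a b : G) (ha : a ∈ P) (hb : b ∈ P) : a * b = b * a := by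
  classical
  by_contra hab
  have := Fintype.ofFinite G
  have := Fintype.ofFinite (Cfsg.IrrCharacter G)
  have hpp : p.Prime := Fact.out
  -- the commutator
  set a' : (P : Subgroup G) := ⟨a, ha⟩ with ha'
  set b' : (P : Subgroup G) := ⟨b, hb⟩ with hb'
  have hc' : ⁅a', b'⁆ ∈ commutator (P : Subgroup G) := by
    rw [commutator_def]
    exact Subgroup.commutator_mem_commutator (Subgroup.mem_top _) (Subgroup.mem_top _)
  have hcval : ((⁅a', b'⁆ : (P : Subgroup G)) : G) = a * b * a⁻¹ * b⁻¹ := by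
    rw [commutatorElement_def]
    rfl
  have hc1 : ((⁅a', b'⁆ : (P : Subgroup G)) : G) ≠ 1 := by
    rw [hcval]
    intro h
    apply hab
    calc a * b = (a * b * a⁻¹ * b⁻¹) * (b * a) := by group
      _ = b * a := by rw [h, one_mul]
  -- `p ^ 2` divides the order
  obtain ⟨r, hr⟩ := IsPGroup.iff_card.1 P.isPGroup'
  have hr2 : 2 ≤ r := by
    by_contra hlt
    have hcomm : ∀ x y : (P : Subgroup G), x * y = y * x := by
      rcases Nat.lt_or_ge r 1 with h0 | h1
      · have hr0 : r = 0 := by omega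
        rw [hr0, pow_zero] at hr
        have hsub : Subsingleton (P : Subgroup G) := (Nat.card_eq_one_iff_unique.1 hr).1
        intro x y
        rw [Subsingleton.elim x 1, Subsingleton.elim y 1]
      · have hr1 : r = 1 := by omega
        rw [hr1, pow_one] at hr
        have hcyc : IsCyclic (P : Subgroup G) := isCyclic_of_prime_card hr
        intro x y
        exact (IsCyclic.isMulCommutative).is_comm.comm x y
    apply hab
    have := congrArg (Subtype.val) (hcomm a' b')
    exact this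
  have hp2 : p ^ 2 ∣ Nat.card G := by
    have h1 : p ^ 2 ∣ p ^ r := pow_dvd_pow p hr2
    rw [← hr] at h1
    exact h1.trans (Subgroup.card_subgroup_dvd_card _)
  -- every nonprincipal irreducible character has degree at least `p`
  have hdeg : ∀ χ : Cfsg.IrrCharacter G, χ ≠ irrOne G → p ≤ Cfsg.charDegree (χ : G → ℂ) := by
    intro χ hχ
    by_contra hlt
    push Not at hlt
    have h1 := irr_commutator_of_lt p (P : Subgroup G) P.isPGroup' χ hlt _ hc'
    have h2 := irr_eq_one_of_kernel χ _ hc1 h1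
    exact hχ (Subtype.ext h2)
  have hsum := sum_charDegree_sq (G := G)
  have hk : Nat.card (ConjClasses G) = Fintype.card (Cfsg.IrrCharacter G) := by
    rw [← Cfsg.Agent.S0133.result, Nat.card_eq_fintype_card]
  have hlow : 1 + (Fintype.card (Cfsg.IrrCharacter G) - 1) * p ^ 2 ≤ Nat.card G := by
    rw [← hsum, ← Finset.add_sum_erase Finset.univ _ (Finset.mem_univ (irrOne G))]
    have h1 : Cfsg.charDegree ((irrOne G : Cfsg.IrrCharacter G) : G → ℂ) *
        Cfsg.charDegree ((irrOne G : Cfsg.IrrCharacter G) : G → ℂ) ≥ 1 := by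
      have := (irr_charDegree (irrOne G)).1
      nlinarith
    have h2 : (Finset.univ.erase (irrOne G)).card • p ^ 2 ≤
        ∑ χ ∈ Finset.univ.erase (irrOne G),
          Cfsg.charDegree (χ : G → ℂ) * Cfsg.charDegree (χ : G → ℂ) := by
      apply Finset.card_nsmul_le_sum
      intro χ hχ
      have := hdeg χ (Finset.ne_of_mem_erase hχ)
      nlinarith
    rw [Finset.card_erase_of_mem (Finset.mem_univ _), Finset.card_univ, smul_eq_mul] at h2
    omega
  rw [hk] at hmany
  obtain ⟨m, hm⟩ := hp2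
  rw [hm] at hmany hlow
  have hpos : 0 < p ^ 2 := pow_pos hpp.pos 2
  have h3 : m < Fintype.card (Cfsg.IrrCharacter G) := lt_of_mul_lt_mul_left hmany (Nat.zero_le _)
  have h4 : m ≤ Fintype.card (Cfsg.IrrCharacter G) - 1 := by omega
  have h5 : p ^ 2 * m ≤ (Fintype.card (Cfsg.IrrCharacter G) - 1) * p ^ 2 := by
    rw [mul_comm]
    exact Nat.mul_le_mul_right _ h4
  omega

end Cfsg.Agent.S0186
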