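import Cfsg.Statements.S4455
import Cfsg.Agent.S0886
import Cfsg.Agent.S0887
import Cfsg.Agent.S0186
import Cfsg.Agent.Lib.Helper15.ExtDet2
import Cfsg.Agent.Lib.Helper75.CliffordCorr
import Cfsg.Agent.Lib.Helper47.PIrr
import Cfsg.Agent.Lib.Helper84.Hyperfocal
import Cfsg.Agent.Lib.Helper74.CharSums
import Cfsg.Agent.Lib.Helper74.OrbitSum

set_option autoImplicit false
open Cfsg

namespace Cfsg.Agent.S4455

open Cfsg.Agent.Lib.Helper3 Cfsg.Agent.Lib.Helper74 Cfsg.Agent.Lib.Helper75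

universe u

/-- The determinantal order of any function on `O^p(G)` is prime to `p`. -/
theorem not_dvd_detOrder {G : Type u} [Group G] [Finite G] (p : ℕ) (hp : p.Prime)
    (θ : ↥(Cfsg.pResidual p G) → ℂ) : ¬ p ∣ Cfsg.detOrder θ := by
  intro hdvd
  have hmul := Cfsg.Agent.Lib.Helper15.detChar_mul θ
  have hone := Cfsg.Agent.Lib.Helper15.detChar_one θ
  have hpow : ∀ (x : ↥(Cfsg.pResidual p G)) (k : ℕ),
      Cfsg.detChar θ (x ^ k) = Cfsg.detChar θ x ^ k := by
    intro x k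
    induction k with
    | zero => simp [hone]
    | succ k ih => rw [pow_succ, hmul, ih, pow_succ]
  have hfin : (Cfsg.detChar θ) ^ (Nat.card ↥(Cfsg.pResidual p G)) = 1 := by
    funext x
    rw [Pi.pow_apply, ← hpow, pow_card_eq_one', hone]
    rfl
  have ho : Cfsg.detOrder θ ∣ Nat.card ↥(Cfsg.pResidual p G) := orderOf_dvd_of_pow_eq_one hfin
  have ho0 : Cfsg.detOrder θ ≠ 0 := fun h => by
    rw [h, zero_dvd_iff] at ho
    exact Nat.card_pos.ne' ho
  obtain ⟨m, hm⟩ := hdvd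
  have hm0 : m ≠ 0 := by
    rintro rfl
    exact ho0 (by rw [hm, mul_zero])
  have hlt : m < orderOf (Cfsg.detChar θ) := by
    show m < Cfsg.detOrder θ
    rw [hm]
    have := hp.one_lt
    nlinarith [Nat.pos_of_ne_zero hm0]
  apply pow_ne_one_of_lt_orderOf hm0 hlt
  -- the hom `x ↦ detChar θ x ^ m`
  let ψ : ↥(Cfsg.pResidual p G) →* ℂ :=
    { toFun := fun x => Cfsg.detChar θ x ^ m
      map_one' := by simp [hone]
      map_mul' := fun a b => by simp [hmul, mul_pow] }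
  have hker : (⊤ : Subgroup ↥(Cfsg.pResidual p G)) ≤ ψ.ker := by
    rw [← Cfsg.Agent.Lib.Helper84.pResidual_pResidual_eq_top (G := G) p]
    show Subgroup.closure {g : ↥(Cfsg.pResidual p G) | Nat.Coprime (orderOf g) p} ≤ ψ.ker
    rw [Subgroup.closure_le]
    intro y hy
    rw [SetLike.mem_coe, MonoidHom.mem_ker]
    show Cfsg.detChar θ y ^ m = 1
    have h1 : (Cfsg.detChar θ y ^ m) ^ p = 1 := by
      rw [← pow_mul, mul_comm, ← hm]
      have := congrFun (pow_orderOf_eq_one (Cfsg.detChar θ)) y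
      simpa [Cfsg.detOrder] using this
    have h2 : (Cfsg.detChar θ y ^ m) ^ orderOf y = 1 := by
      rw [← pow_mul, mul_comm, pow_mul, ← hpow, pow_orderOf_eq_one, hone, one_pow]
    have h4 : Nat.Coprime (orderOf y) p := hy
    exact (pow_eq_one_iff_of_coprime h4).1 ⟨h2, h1⟩
  funext x
  have := hker (Subgroup.mem_top x)
  rw [MonoidHom.mem_ker] at this
  exact this

/-- An irreducible character of degree prime to `p` restricts irreducibly to a normal subgroup
of `p`-power index. -/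
theorem res_irr {G : Type u} [Group G] [Fintype G] (p : ℕ) (hp : p.Prime) (N : Subgroup G)
    [N.Normal] [Fintype N] (k : ℕ) (hidx : N.index = p ^ k) (χ : G → ℂ)
    (hχ : Cfsg.IsIrrCharacter G χ) (hdeg : ¬ p ∣ Cfsg.charDegree χ) :
    Cfsg.IsIrrCharacter N (fun n : N => χ n) := by
  classical
  haveI : Fintype (Cfsg.IrrCharacter N) := Fintype.ofFinite _
  have hχc := isCharacter_of_irr hχ
  have hcf := isClassFunction_res N (isClassFunction_of_isCharacter hχc)
  have hχ1 := Cfsg.Agent.Lib.Helper80.char_one_eq_charDegree hχc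
  have hpos := Cfsg.Agent.Lib.Helper80.charDegree_pos hχ
  -- an irreducible constituent
  obtain ⟨θ, hθ⟩ : ∃ θ : Cfsg.IrrCharacter N,
      Cfsg.classInner (fun n : N => χ n) (θ : N → ℂ) ≠ 0 := by
    by_contra hcon
    push Not at hcon
    have h1 := classFunction_expansion' hcf
    have h2 : (fun n : N => χ n) = 0 := by
      rw [h1]
      apply Finset.sum_eq_zero
      intro ψ _
      rw [hcon ψ, zero_smul]
    have h3 := congrFun h2 1
    simp only [Pi.zero_apply] at h3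
    rw [show ((1 : N) : G) = 1 from rfl, hχ1] at h3
    have : Cfsg.charDegree χ = 0 := by exact_mod_cast h3
    omega
  have hθ1 := Cfsg.Agent.Lib.Helper80.char_one_eq_charDegree (isCharacter_of_irr θ.2)
  have hθpos := Cfsg.Agent.Lib.Helper80.charDegree_pos θ.2
  obtain ⟨hdvd, hquot⟩ := Cfsg.Agent.S0887.result N χ hχ (θ : N → ℂ) θ.2 hθ
    (Cfsg.charDegree χ) (Cfsg.charDegree (θ : N → ℂ)) hχ1 hθ1
  have hq1 : Cfsg.charDegree χ / Cfsg.charDegree (θ : N → ℂ) = 1 := by
    rw [hidx] at hquot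
    obtain ⟨j, hj, hj'⟩ := (Nat.dvd_prime_pow hp).1 hquot
    rcases Nat.eq_zero_or_pos j with rfl | hjpos
    · simpa using hj'
    · exfalso
      apply hdeg
      have : p ∣ Cfsg.charDegree χ / Cfsg.charDegree (θ : N → ℂ) := by
        rw [hj']; exact dvd_pow_self p hjpos.ne'
      exact this.trans (Nat.div_dvd_of_dvd hdvd)
  have hcd : Cfsg.charDegree χ = Cfsg.charDegree (θ : N → ℂ) := by
    have := Nat.div_mul_cancel hdvd
    rw [hq1, one_mul] at this
    exact this.symm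
  have hres1 := res_one_eq N hχ θ.2 hθ
  obtain ⟨e, he⟩ := classInner_char_irr_nat (isCharacter_res N hχc) θ.2
  rw [he, hχ1, hθ1, hcd] at hres1
  have hd0 : (Cfsg.charDegree (θ : N → ℂ) : ℂ) ≠ 0 := by exact_mod_cast hθpos.ne'
  have het : e * Nat.card (Constit N χ) = 1 := by
    have h5 : ((e * Nat.card (Constit N χ) : ℕ) : ℂ) * (Cfsg.charDegree (θ : N → ℂ) : ℂ)
        = 1 * (Cfsg.charDegree (θ : N → ℂ) : ℂ) := by
      push_cast
      rw [one_mul]
      exact hres1.symm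
    have h6 := mul_right_cancel₀ hd0 h5
    exact_mod_cast h6
  have he1 : e = 1 := Nat.eq_one_of_mul_eq_one_right het
  have ht1 : Nat.card (Constit N χ) = 1 := Nat.eq_one_of_mul_eq_one_left het
  haveI : Fintype (Constit N χ) := Fintype.ofFinite _
  haveI : Subsingleton (Constit N χ) := (Nat.card_eq_one_iff_unique.1 ht1).1
  have hres := res_eq_smul_sum_constit N hχ θ.2 hθ
  rw [he, he1, Nat.cast_one, one_smul,
    Fintype.sum_subsingleton _ (⟨θ, hθ⟩ : Constit N χ)] at hres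
  rw [hres]
  exact θ.2

/-- A character of `O^p(G)` invariant under a Sylow `p`-subgroup is `G`-invariant. -/
theorem inv_of_sylow {G : Type u} [Group G] [Finite G] (p : ℕ) [Fact p.Prime] (P : Sylow p G)
    [hN : (Cfsg.pResidual p G).Normal] (θ : ↥(Cfsg.pResidual p G) → ℂ)
    (hθ : Cfsg.IsClassFunction _ θ)
    (h : ∀ g : (P : Subgroup G), conjChar (Cfsg.pResidual p G) θ (g : G) = θ) :
    ∀ g : G, conjChar (Cfsg.pResidual p G) θ g = θ := by
  have h1 : Cfsg.pResidual p G ≤ inertia (Cfsg.pResidual p G) θ := le_inertia _ hθ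
  have h2 : (P : Subgroup G) ≤ inertia (Cfsg.pResidual p G) θ := fun g hg => h ⟨g, hg⟩
  have h3 : inertia (Cfsg.pResidual p G) θ = ⊤ := by
    rw [eq_top_iff, ← Cfsg.Agent.Lib.Helper47.pResidual_sup_sylow P]
    exact sup_le h1 h2
  exact (inertia_eq_top_iff _ θ).1 h3

/-- Fix a prime p and a finite group G. Let s be the sum of χ(1)² over the irreducible characters χ of G whose degree is not divisible by p and whose determinantal order o(χ) is not divisible by p. Then the order of O^p(G), the subgroup generated by the elements of order prime to p, is congruent to s modulo p. -/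
theorem result {G : Type*} [Group G] [Finite G] (p : ℕ) (hp : p.Prime) : (Nat.card (Cfsg.pResidual p G) : ℤ) ≡ (∑ᶠ χ ∈ {χ : Cfsg.IrrCharacter G | ¬ p ∣ Cfsg.charDegree (χ : G → ℂ) ∧ ¬ p ∣ Cfsg.detOrder (χ : G → ℂ)}, (Cfsg.charDegree (χ : G → ℂ) : ℤ) ^ 2) [ZMOD p] := by
  classical
  haveI : Fact p.Prime := ⟨hp⟩
  haveI : Fintype G := Fintype.ofFinite G
  haveI hNn : (Cfsg.pResidual p G).Normal := Cfsg.Agent.Lib.Helper47.pResidual_normal p G
  haveI : Fintype ↥(Cfsg.pResidual p G) := Fintype.ofFinite _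
  haveI : Fintype (Cfsg.IrrCharacter G) := Fintype.ofFinite _
  haveI : Fintype (Cfsg.IrrCharacter ↥(Cfsg.pResidual p G)) := Fintype.ofFinite _
  obtain ⟨k, hk⟩ : ∃ k, (Cfsg.pResidual p G).index = p ^ k := by
    have hq := Cfsg.Agent.Lib.Helper47.isPGroup_quotient_pResidual p G
    obtain ⟨n, hn⟩ := IsPGroup.iff_card.mp hq
    exact ⟨n, by rw [Subgroup.index_eq_card]; exact hn⟩
  obtain ⟨P⟩ : Nonempty (Sylow p G) := inferInstance
  letI act : MulAction (P : Subgroup G) (Cfsg.IrrCharacter ↥(Cfsg.pResidual p G)) :=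
    { smul := fun g θ => ⟨conjChar (Cfsg.pResidual p G) θ.1 (g : G),
        isIrrCharacter_conjChar (Cfsg.pResidual p G) θ.2 g⟩
      one_smul := fun θ => Subtype.ext (conjChar_one (Cfsg.pResidual p G) _)
      mul_smul := fun g h θ => Subtype.ext (conjChar_mul (Cfsg.pResidual p G) _ (g : G) (h : G)) }
  have hact : ∀ (g : (P : Subgroup G)) (θ : Cfsg.IrrCharacter ↥(Cfsg.pResidual p G)),
      ((g • θ : Cfsg.IrrCharacter ↥(Cfsg.pResidual p G)) : ↥(Cfsg.pResidual p G) → ℂ)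
        = conjChar (Cfsg.pResidual p G) θ.1 (g : G) := fun _ _ => rfl
  set d : Cfsg.IrrCharacter ↥(Cfsg.pResidual p G) → ℕ :=
    fun θ => Cfsg.charDegree (θ : ↥(Cfsg.pResidual p G) → ℂ) with hd
  set f : Cfsg.IrrCharacter ↥(Cfsg.pResidual p G) → ℕ :=
    fun θ => if p ∣ d θ then 0 else d θ ^ 2 with hf
  have hd_inv : ∀ (g : (P : Subgroup G)) (θ : Cfsg.IrrCharacter ↥(Cfsg.pResidual p G)),
      d (g • θ) = d θ := by
    intro g θ
    show Cfsg.charDegree ((g • θ : Cfsg.IrrCharacter ↥(Cfsg.pResidual p G)) :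
      ↥(Cfsg.pResidual p G) → ℂ) = Cfsg.charDegree (θ : ↥(Cfsg.pResidual p G) → ℂ)
    rw [hact]
    unfold Cfsg.charDegree
    rw [conjChar_apply_one]
  have hf_inv : ∀ (g : (P : Subgroup G)) (θ : Cfsg.IrrCharacter ↥(Cfsg.pResidual p G)),
      f (g • θ) = f θ := by
    intro g θ
    simp only [hf, hd_inv]
  set s : Finset (Cfsg.IrrCharacter ↥(Cfsg.pResidual p G)) :=
    Finset.univ.filter (fun θ => ∀ g : (P : Subgroup G),
      conjChar (Cfsg.pResidual p G) θ.1 (g : G) = θ.1) with hs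
  have hs' : ∀ θ, θ ∈ s ↔ ∀ g : (P : Subgroup G), g • θ = θ := by
    intro θ
    simp only [hs, Finset.mem_filter, Finset.mem_univ, true_and]
    constructor
    · intro h g; exact Subtype.ext (h g)
    · intro h g; exact congrArg Subtype.val (h g)
  have hmod := sum_modEq_sum_fixed p P.isPGroup' f hf_inv s hs'
  -- the bijection between the invariant characters of `O^p(G)` and the characters of `G`
  have hext := fun (θ : ↥(Cfsg.pResidual p G) → ℂ) (hθ : Cfsg.IsIrrCharacter _ θ)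
      (hinv : ∀ g : G, conjChar (Cfsg.pResidual p G) θ g = θ)
      (hdeg : ¬ p ∣ Cfsg.charDegree θ) =>
    Cfsg.Agent.Lib.Helper15.ext_unique_coprime
      (fun G _ _ N hN hcyc ϑ hϑ hinv => Cfsg.Agent.S0886.result N hcyc ϑ hϑ hinv)
      (Cfsg.pResidual p G) θ hθ ((forall_conjChar_eq_iff (Cfsg.pResidual p G) θ).1 hinv)
      (Cfsg.charDegree θ)
      (Cfsg.Agent.Lib.Helper80.char_one_eq_charDegree (isCharacter_of_irr hθ))
      (by
        rw [hk]
        apply Nat.Coprime.pow_left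
        rw [Nat.Prime.coprime_iff_not_dvd hp, Nat.Prime.dvd_mul hp]
        rintro (h | h)
        · exact not_dvd_detOrder p hp θ h
        · exact hdeg h)
  have hbij : ∑ χ ∈ Finset.univ.filter (fun χ : Cfsg.IrrCharacter G =>
        ¬ p ∣ Cfsg.charDegree (χ : G → ℂ) ∧ ¬ p ∣ Cfsg.detOrder (χ : G → ℂ)),
        Cfsg.charDegree (χ : G → ℂ) ^ 2
      = ∑ θ ∈ s.filter (fun θ => ¬ p ∣ d θ), d θ ^ 2 := by
    refine Finset.sum_bij (fun χ hχ => ⟨fun n : ↥(Cfsg.pResidual p G) => (χ : G → ℂ) n,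
      res_irr p hp (Cfsg.pResidual p G) k hk χ.1 χ.2 (Finset.mem_filter.1 hχ).2.1⟩)
      ?_ ?_ ?_ ?_
    · intro χ hχ
      rw [Finset.mem_filter, hs, Finset.mem_filter]
      refine ⟨⟨Finset.mem_univ _, fun g => ?_⟩, (Finset.mem_filter.1 hχ).2.1⟩
      exact conjChar_res (Cfsg.pResidual p G)
        (isClassFunction_of_isCharacter (isCharacter_of_irr χ.2)) g
    · intro χ₁ hχ₁ χ₂ hχ₂ h12
      have h12' : ∀ n : ↥(Cfsg.pResidual p G), (χ₂ : G → ℂ) n = (χ₁ : G → ℂ) n := by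
        intro n
        exact (congrFun (congrArg Subtype.val h12) n).symm
      have hirr := res_irr p hp (Cfsg.pResidual p G) k hk χ₁.1 χ₁.2 (Finset.mem_filter.1 hχ₁).2.1
      obtain ⟨χ, -, huniq⟩ := hext (fun n : ↥(Cfsg.pResidual p G) => (χ₁ : G → ℂ) n) hirr
        (fun g => conjChar_res (Cfsg.pResidual p G)
          (isClassFunction_of_isCharacter (isCharacter_of_irr χ₁.2)) g)
        (Finset.mem_filter.1 hχ₁).2.1
      have hcop : ∀ χ' : Cfsg.IrrCharacter G, ¬ p ∣ Cfsg.detOrder (χ' : G → ℂ) →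
          Nat.Coprime (Cfsg.pResidual p G).index (Cfsg.detOrder (χ' : G → ℂ)) := by
        intro χ' h
        rw [hk]
        exact Nat.Coprime.pow_left _ ((Nat.Prime.coprime_iff_not_dvd hp).2 h)
      have e1 := huniq χ₁.1 χ₁.2 (fun n => rfl) (hcop χ₁ (Finset.mem_filter.1 hχ₁).2.2)
      have e2 := huniq χ₂.1 χ₂.2 h12' (hcop χ₂ (Finset.mem_filter.1 hχ₂).2.2)
      exact Subtype.ext (e1.trans e2.symm)
    · intro θ hθ
      rw [Finset.mem_filter, hs, Finset.mem_filter] at hθ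
      obtain ⟨⟨-, hθP⟩, hθd⟩ := hθ
      have hinv := inv_of_sylow p P (θ : ↥(Cfsg.pResidual p G) → ℂ)
        (isClassFunction_of_isCharacter (isCharacter_of_irr θ.2)) hθP
      obtain ⟨χ, ⟨hχirr, hχN, hχo⟩, -⟩ := hext θ.1 θ.2 hinv hθd
      have hdeg : Cfsg.charDegree χ = d θ := by
        show Cfsg.charDegree χ = Cfsg.charDegree (θ : ↥(Cfsg.pResidual p G) → ℂ)
        unfold Cfsg.charDegree
        rw [← hχN 1]
        rfl
      refine ⟨⟨χ, hχirr⟩, ?_, ?_⟩
      · rw [Finset.mem_filter]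
        refine ⟨Finset.mem_univ _, ?_, ?_⟩
        · rw [hdeg]; exact hθd
        · rw [hχo]; exact not_dvd_detOrder p hp _
      · exact Subtype.ext (funext fun n => hχN n)
    · intro χ hχ
      rfl
  -- assemble in `ZMod p`
  rw [← ZMod.intCast_eq_intCast_iff]
  have hsq := Cfsg.Agent.S0186.sum_charDegree_sq (G := ↥(Cfsg.pResidual p G))
  have hterm : ∀ θ : Cfsg.IrrCharacter ↥(Cfsg.pResidual p G),
      ((f θ : ℕ) : ZMod p) = ((d θ * d θ : ℕ) : ZMod p) := by
    intro θ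
    simp only [hf]
    split_ifs with hdv
    · rw [Nat.cast_mul, (ZMod.natCast_eq_zero_iff (d θ) p).2 hdv]
      simp
    · rw [sq]
  have h1 : ((Nat.card ↥(Cfsg.pResidual p G) : ℤ) : ZMod p)
      = ((∑ θ, f θ : ℕ) : ZMod p) := by
    rw [Int.cast_natCast, ← hsq, Nat.cast_sum, Nat.cast_sum]
    exact Finset.sum_congr rfl (fun θ _ => (hterm θ).symm)
  have h2 : ((∑ θ, f θ : ℕ) : ZMod p) = ((∑ θ ∈ s, f θ : ℕ) : ZMod p) :=
    (ZMod.natCast_eq_natCast_iff _ _ _).2 hmod
  have h3 : ∑ θ ∈ s, f θ = ∑ θ ∈ s.filter (fun θ => ¬ p ∣ d θ), d θ ^ 2 := by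
    conv_rhs => rw [Finset.sum_filter]
    refine Finset.sum_congr rfl (fun θ _ => ?_)
    simp only [hf]
    split_ifs <;> rfl
  rw [h1, h2, h3, ← hbij, finsum_mem_def, finsum_eq_sum_of_fintype, Finset.sum_filter]
  push_cast
  refine Finset.sum_congr rfl (fun χ _ => ?_)
  by_cases hχ : ¬ p ∣ Cfsg.charDegree (χ : G → ℂ) ∧ ¬ p ∣ Cfsg.detOrder (χ : G → ℂ)
  · rw [if_pos hχ, Set.indicator_of_mem (by exact hχ)]
    push_cast
    rfl
  · rw [if_neg hχ, Set.indicator_of_notMem (by exact hχ)]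
    simp

end Cfsg.Agent.S4455
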