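import Cfsg.Statements.S4456
import Cfsg.Agent.S4455
import Cfsg.Agent.Lib.Helper79.CharGap
import Cfsg.Agent.Lib.Helper79.Linear
import Cfsg.Agent.Lib.Helper15.DetChar
import Cfsg.Agent.Lib.Helper15.LinChar

set_option autoImplicit false
open Cfsg

namespace Cfsg.Agent.S4456

open Cfsg.Agent.Lib.Helper3 Cfsg.Agent.Lib.Helper79

/-- The monoid hom from the linear characters (as homs) to the functions. -/
noncomputable def homFun (G : Type*) [Group G] : (G →* ℂˣ) →* (G → ℂ) where
  toFun f := fun g => ((f g : ℂˣ) : ℂ)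
  map_one' := by funext g; simp
  map_mul' a b := by funext g; simp

theorem homFun_injective (G : Type*) [Group G] : Function.Injective (homFun G) := by
  intro a b h
  ext g
  exact congrFun h g

/-- The determinantal order of a linear character is its order. -/
theorem detOrder_homIrr {G : Type*} [Group G] [Finite G] (f : G →* ℂˣ) :
    Cfsg.detOrder (homIrr f : G → ℂ) = orderOf f := by
  unfold Cfsg.detOrder
  rw [Cfsg.Agent.Lib.Helper15.detChar_of_lin (isCharacter_of_irr (homIrr f).2)
    (by rw [homIrr_apply]; simp)]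
  exact orderOf_injective (homFun G) (homFun_injective G) f

theorem charDegree_homIrr {G : Type*} [Group G] [Finite G] (f : G →* ℂˣ) :
    Cfsg.charDegree (homIrr f : G → ℂ) = 1 := by
  unfold Cfsg.charDegree
  rw [homIrr_apply, map_one]
  simp

/-- The elements of order prime to `p` in a commutative group. -/
def primeSub (p : ℕ) (hp : p.Prime) (A : Type*) [CommGroup A] : Subgroup A where
  carrier := {a | ¬ p ∣ orderOf a}
  mul_mem' := by
    intro a b ha hb hdvd
    have h := (Commute.all a b).orderOf_mul_dvd_lcm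
    have h2 : p ∣ orderOf a * orderOf b := (hdvd.trans h).trans (Nat.lcm_dvd_mul _ _)
    rcases (Nat.Prime.dvd_mul hp).1 h2 with h3 | h3
    · exact ha h3
    · exact hb h3
  one_mem' := by
    show ¬ p ∣ orderOf (1 : A)
    rw [orderOf_one]
    exact hp.one_lt.ne' ∘ Nat.dvd_one.1
  inv_mem' := by
    intro a ha
    show ¬ p ∣ orderOf a⁻¹
    rw [orderOf_inv]
    exact ha

theorem not_dvd_card_primeSub (p : ℕ) (hp : p.Prime) (A : Type*) [CommGroup A] [Finite A] :
    ¬ p ∣ Nat.card (primeSub p hp A) := by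
  intro hdvd
  haveI : Fact p.Prime := ⟨hp⟩
  obtain ⟨x, hx⟩ := exists_prime_orderOf_dvd_card' p hdvd
  have hx2 : ¬ p ∣ orderOf (x : A) := x.2
  rw [Subgroup.orderOf_coe, hx] at hx2
  exact hx2 dvd_rfl

/-- Let p be a prime and G a finite group such that p divides the degree of every irreducible character of G of degree greater than one. Then G has a normal p-complement: a normal subgroup of order prime to p whose index is a power of p. -/
theorem result {G : Type*} [Group G] [Finite G] (p : ℕ) (hp : p.Prime) (hdeg : ∀ χ : Cfsg.IrrCharacter G, Cfsg.charDegree (χ : G → ℂ) ≠ 1 → p ∣ Cfsg.charDegree (χ : G → ℂ)) : ∃ N : Subgroup G, N.Normal ∧ (Nat.card N).Coprime p ∧ ∃ k : ℕ, N.index = p ^ k := by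
  classical
  haveI : Fact p.Prime := ⟨hp⟩
  haveI : Fintype G := Fintype.ofFinite G
  haveI : Fintype (Cfsg.IrrCharacter G) := Fintype.ofFinite _
  haveI : Finite (G →* ℂˣ) := finite_monoidHom_units
  have hNn : (Cfsg.pResidual p G).Normal := Cfsg.Agent.Lib.Helper47.pResidual_normal p G
  obtain ⟨k, hk⟩ : ∃ k, (Cfsg.pResidual p G).index = p ^ k := by
    have hq := Cfsg.Agent.Lib.Helper47.isPGroup_quotient_pResidual p G
    obtain ⟨n, hn⟩ := IsPGroup.iff_card.mp hq
    exact ⟨n, by rw [Subgroup.index_eq_card]; exact hn⟩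
  refine ⟨Cfsg.pResidual p G, hNn, ?_, k, hk⟩
  rw [Nat.coprime_comm, Nat.Prime.coprime_iff_not_dvd hp]
  intro hdvd
  have hmain := Cfsg.Agent.S4455.result (G := G) p hp
  -- the set of characters in the sum is in bijection with the linear characters of `p'`-order
  set S : Set (Cfsg.IrrCharacter G) := {χ : Cfsg.IrrCharacter G |
    ¬ p ∣ Cfsg.charDegree (χ : G → ℂ) ∧ ¬ p ∣ Cfsg.detOrder (χ : G → ℂ)} with hS
  have hdeg1 : ∀ χ ∈ S, Cfsg.charDegree (χ : G → ℂ) = 1 := by
    intro χ hχ
    by_contra h1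
    exact hχ.1 (hdeg χ h1)
  let F : primeSub p hp (G →* ℂˣ) → S := fun a =>
    ⟨homIrr a.1, by
      refine ⟨?_, ?_⟩
      · rw [charDegree_homIrr]
        exact hp.one_lt.ne' ∘ Nat.dvd_one.1
      · rw [detOrder_homIrr]
        exact a.2⟩
  have hF : Function.Bijective F := by
    constructor
    · intro a b hab
      have h1 : homIrr a.1 = homIrr b.1 := congrArg Subtype.val hab
      apply Subtype.ext
      ext g
      have h2 := congrFun (congrArg Subtype.val h1) g
      exact h2
    · rintro ⟨χ, hχ⟩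
      have h1 : (χ : G → ℂ) 1 = 1 := by
        rw [Cfsg.Agent.Lib.Helper80.char_one_eq_charDegree (isCharacter_of_irr χ.2),
          hdeg1 χ hχ]
        simp
      have hχf : homIrr (Cfsg.Agent.Lib.Helper15.linCharHom (isCharacter_of_irr χ.2) h1) = χ := by
        apply Subtype.ext
        funext g
        rfl
      refine ⟨⟨Cfsg.Agent.Lib.Helper15.linCharHom (isCharacter_of_irr χ.2) h1, ?_⟩, ?_⟩
      · show ¬ p ∣ orderOf (Cfsg.Agent.Lib.Helper15.linCharHom (isCharacter_of_irr χ.2) h1)
        rw [← detOrder_homIrr, hχf]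
        exact hχ.2
      · exact Subtype.ext hχf
  have hcard : Nat.card S = Nat.card (primeSub p hp (G →* ℂˣ)) :=
    (Nat.card_eq_of_bijective F hF).symm
  have hsum : (∑ᶠ χ ∈ S, (Cfsg.charDegree (χ : G → ℂ) : ℤ) ^ 2) = (Nat.card S : ℤ) := by
    rw [finsum_mem_congr rfl (fun χ hχ => by rw [hdeg1 χ hχ]; norm_num :
      ∀ χ ∈ S, (Cfsg.charDegree (χ : G → ℂ) : ℤ) ^ 2 = 1)]
    rw [finsum_mem_def, finsum_eq_sum_of_fintype, Nat.card_eq_fintype_card,
      Fintype.card_subtype]
    rw [Finset.card_eq_sum_ones, Finset.sum_filter]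
    push_cast
    refine Finset.sum_congr rfl (fun χ _ => ?_)
    by_cases hχ : χ ∈ S
    · rw [Set.indicator_of_mem hχ, if_pos hχ]
    · rw [Set.indicator_of_notMem hχ, if_neg hχ]
  rw [hsum, hcard] at hmain
  have h1 : ((Nat.card ↥(Cfsg.pResidual p G) : ℤ) : ZMod p) = 0 := by
    rw [Int.cast_natCast, ZMod.natCast_eq_zero_iff]
    exact hdvd
  have h2 := (ZMod.intCast_eq_intCast_iff _ _ p).2 hmain
  rw [h1, Int.cast_natCast] at h2
  exact not_dvd_card_primeSub p hp (G →* ℂˣ) ((ZMod.natCast_eq_zero_iff _ _).1 h2.symm)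

end Cfsg.Agent.S4456
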