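-- Statement S4458: Isaacs 12.6, two character degrees imply metabelian.
import Mathlib
import Cfsg.Statements.S4458
import Cfsg.Agent.Lib.Helper74.TwoDeg
import Cfsg.Agent.S0176

set_option autoImplicit false
open Cfsg

namespace Cfsg.Agent.S4458

theorem result {G : Type*} [Group G] [Finite G] (m : ℕ) (hcd : ∀ χ : Cfsg.IrrCharacter G, Cfsg.charDegree (χ : G → ℂ) = 1 ∨ Cfsg.charDegree (χ : G → ℂ) = m) (hm : ∃ χ : Cfsg.IrrCharacter G, Cfsg.charDegree (χ : G → ℂ) = m) (hm1 : m ≠ 1) : ∀ a ∈ commutator G, ∀ b ∈ commutator G, a * b = b * a := by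
  classical
  haveI : Fintype G := Fintype.ofFinite G
  rcases Cfsg.Agent.Lib.Helper74.two_degree_structure m hcd hm hm1 with h | h
  · obtain ⟨A, -, hA, hidx⟩ := h
    have hle := Cfsg.Agent.Lib.Helper74.commutator_le_of_index m hm1 hcd A hidx
    intro a ha b hb
    exact hA a (hle ha) b (hle hb)
  · obtain ⟨p, e, N, hp, hme, hN, hNc, hNp, k, hk⟩ := h
    haveI : Fact p.Prime := ⟨hp⟩
    haveI := hN
    have hPG : IsPGroup p (G ⧸ N) := by
      apply IsPGroup.of_card (n := k)
      rw [← Subgroup.index_eq_card, hk]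
    haveI : Group.IsNilpotent (G ⧸ N) := hPG.isNilpotent
    haveI : Group.IsNilpotent G :=
      Subgroup.isNilpotent_of_ker_le_center (QuotientGroup.mk' N) (by rw [QuotientGroup.ker_mk']; exact hNc)
    exact Cfsg.Agent.Lib.Helper74.comm_commutator_of_monomial m hm1 hcd
      (fun χ hχ => Cfsg.Agent.S0176.result χ hχ)

end Cfsg.Agent.S4458
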