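-- Statement S0738: proof by helper13.
import Cfsg.Statements.S0738
import Cfsg.Agent.Lib.Helper13.Zass
import Cfsg.Agent.Lib.Helper13.SemiReg

set_option autoImplicit false
open Cfsg

namespace Cfsg.Agent.S0738

/-- Let a finite Zassenhaus group of degree `n + 1` have two-point stabilisers of order `d` with `2d ≥ n - 1`. Then a normal subgroup of a point stabiliser acting regularly on the remaining points is elementary abelian, and the degree is a prime power plus one. -/
theorem result {G Ω : Type*} [Group G] [Finite G] [MulAction G Ω] [Fintype Ω] (hZ : Cfsg.IsZassenhausGroup G Ω) {a b : Ω} (hab : a ≠ b) (hd : Fintype.card Ω - 2 ≤ 2 * Nat.card ↥(MulAction.stabilizer G a ⊓ MulAction.stabilizer G b)) (F : Subgroup G) (hFle : F ≤ MulAction.stabilizer G a) (hFn : (F.subgroupOf (MulAction.stabilizer G a)).Normal) (hreg : ∀ y z : Ω, y ≠ a → z ≠ a → ∃! u : F, (u : G) • y = z) : IsMulCommutative F ∧ ∃ p f : ℕ, p.Prime ∧ (∀ u ∈ F, u ^ p = 1) ∧ Fintype.card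 Ω = p ^ f + 1 := by
  classical
  have hFa : ∀ u ∈ F, u • a = a := fun u hu => hFle hu
  have hFb_ne_a : ∀ u ∈ F, u • b ≠ a := by
    intro u hu h
    have : u • b = u • a := by rw [h, hFa u hu]
    exact hab (smul_left_cancel _ this).symm
  have hFinj : ∀ u ∈ F, ∀ v ∈ F, u • b = v • b → u = v := by
    intro u hu v hv h
    obtain ⟨w, -, hw⟩ := hreg b (u • b) (Ne.symm hab) (hFb_ne_a u hu)
    have h1 := hw ⟨u, hu⟩ rfl
    have h2 := hw ⟨v, hv⟩ h.symm
    exact congrArg Subtype.val (h1.trans h2.symm)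
  have hFb_ne_b : ∀ u ∈ F, u ≠ 1 → u • b ≠ b := by
    intro u hu hu1 h
    exact hu1 (hFinj u hu 1 F.one_mem (by rw [h, one_smul]))
  have hnorm : ∀ h ∈ MulAction.stabilizer G a ⊓ MulAction.stabilizer G b, ∀ u ∈ F,
      h * u * h⁻¹ ∈ F := by
    intro h hh u hu
    have hha : h ∈ MulAction.stabilizer G a := (Subgroup.mem_inf.mp hh).1
    have := hFn.conj_mem ⟨u, hFle hu⟩ (Subgroup.mem_subgroupOf.mpr hu) ⟨h, hha⟩
    exact Subgroup.mem_subgroupOf.mp this
  have hsemi : ∀ h ∈ MulAction.stabilizer G a ⊓ MulAction.stabilizer G b, ∀ u ∈ F, u ≠ 1 →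
      h * u * h⁻¹ = u → h = 1 := by
    intro h hh u hu hu1 hc
    have ha : h • a = a := (Subgroup.mem_inf.mp hh).1
    have hb : h • b = b := (Subgroup.mem_inf.mp hh).2
    apply Lib.Helper13.zass_three hZ hab (Ne.symm (hFb_ne_b u hu hu1)) (Ne.symm (hFb_ne_a u hu))
      ha hb
    calc h • (u • b) = (h * u * h⁻¹) • (h • b) := by rw [mul_smul, mul_smul, inv_smul_smul]
      _ = u • b := by rw [hc, hb]
  have hFcard : Nat.card F + 1 = Fintype.card Ω := by
    have e : Nat.card F = Nat.card {z : Ω // z ≠ a} := by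
      apply Nat.card_congr
      refine Equiv.ofBijective (fun u : F => (⟨(u : G) • b, hFb_ne_a u.1 u.2⟩ : {z : Ω // z ≠ a}))
        ⟨?_, ?_⟩
      · intro u v huv
        exact Subtype.ext (hFinj u.1 u.2 v.1 v.2 (congrArg Subtype.val huv))
      · intro z
        obtain ⟨w, hw, -⟩ := hreg b z.1 (Ne.symm hab) z.2
        exact ⟨w, Subtype.ext hw⟩
    rw [e, Nat.card_eq_fintype_card, Fintype.card_subtype, Finset.filter_ne' Finset.univ a,
      Finset.card_erase_of_mem (Finset.mem_univ a), Finset.card_univ]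
    have : 0 < Fintype.card Ω := Fintype.card_pos_iff.mpr ⟨a⟩
    omega
  obtain ⟨hcomm, p, hp, hexp⟩ := Lib.Helper13.semiregular_elementary F
    (MulAction.stabilizer G a ⊓ MulAction.stabilizer G b) hnorm hsemi (by omega)
  refine ⟨⟨⟨fun x y => Subtype.ext (hcomm x.1 x.2 y.1 y.2)⟩⟩, p, ?_⟩
  have : Fact p.Prime := ⟨hp⟩
  have hPG : IsPGroup p ↥F := by
    intro g
    refine ⟨1, ?_⟩
    rw [pow_one]
    exact Subtype.ext (hexp g.1 g.2)
  obtain ⟨f, hf⟩ := IsPGroup.iff_card.mp hPG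
  exact ⟨f, hp, hexp, by omega⟩

end Cfsg.Agent.S0738
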