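import Mathlib
import Cfsg.Agent.Lib.Helper5.Tri
import Cfsg.Agent.Lib.Helper5.SL2Tri
import Cfsg.Statements.S0804

set_option autoImplicit false
open Cfsg

namespace Cfsg.Agent.S0804

open Cfsg.Agent.Lib.Helper5

/-- PSL_2(q) has a subgroup isomorphic to A_5 iff 5 ∣ q(q² − 1). -/
theorem result {F : Type*} [Field F] [Fintype F] {q : ℕ} (hF : Fintype.card F = q) : (∃ H : Subgroup (Matrix.ProjectiveSpecialLinearGroup (Fin 2) F), Nonempty (H ≃* alternatingGroup (Fin 5))) ↔ 5 ∣ q * (q ^ 2 - 1) := by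
  subst hF
  constructor
  · rintro ⟨H, ⟨e⟩⟩
    have h60 : Nat.card H = 60 := by
      rw [Nat.card_congr e.toEquiv, nat_card_alternatingGroup, Nat.card_eq_fintype_card,
        Fintype.card_fin]
      rfl
    have h1 : Nat.card H ∣ Nat.card (Matrix.ProjectiveSpecialLinearGroup (Fin 2) F) :=
      Subgroup.card_subgroup_dvd_card H
    have h2 := card_PSL_mul_card_center (Fin 2) F
    rw [card_SL2] at h2
    rw [← h2]
    exact Dvd.dvd.mul_right (dvd_trans ⟨12, h60⟩ h1) _
  · intro h5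
    obtain ⟨s, hs⟩ := SL2Tri.exists_golden h5
    obtain ⟨a, b, ha, hb, hab, hne⟩ := SL2Tri.exists_pair_five s hs
    exact Tri.exists_A5_subgroup a b ha hb hab hne

end Cfsg.Agent.S0804
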