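import Cfsg.Statements.S5114
-- import your own Cfsg.Agent.* helpers here
import Cfsg.Agent.Lib.Helper85.FusionMore
import Cfsg.Agent.Lib.Helper85.FusionFactor
import Cfsg.Agent.Lib.Helper85.FusionSatBasic
import Cfsg.Agent.Lib.Helper85.GroupSylow
import Cfsg.Agent.Lib.Helper86.Saturated

set_option autoImplicit false
open Cfsg

namespace Cfsg.Agent.S5114

open Cfsg.FusionSystem Cfsg.Agent.Lib.Helper85

section
variable {Ω : Type*} [Group Ω] {S : Subgroup Ω}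

/-- Decomposable maps: an element of `Aut_F(S)` after a map of `E`. -/
def Dec (F E : FusionSystem S) {P : Subgroup Ω} (φ : P →* Ω) : Prop :=
  ∃ α ∈ F.autGroup S, ∃ φ₀ ∈ E.Hom P, ∀ (x : P) (hx : φ₀ x ∈ S), φ x = ((α ⟨φ₀ x, hx⟩ : S) : Ω)

theorem dec_congr (F E : FusionSystem S) {P : Subgroup Ω} {φ φ' : P →* Ω} (h : Dec F E φ)
    (heq : ∀ x, φ' x = φ x) : Dec F E φ' := by
  have : φ' = φ := MonoidHom.ext heq
  rw [this]; exact h

theorem dec_restrict (F E : FusionSystem S) {P R : Subgroup Ω} {φ : P →* Ω} (h : Dec F E φ)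
    (hRP : R ≤ P) : Dec F E (φ.comp (Subgroup.inclusion hRP)) := by
  obtain ⟨α, hα, φ₀, hφ₀, hφ⟩ := h
  exact ⟨α, hα, φ₀.comp (Subgroup.inclusion hRP), restrict_mem E hRP hφ₀,
    fun x hx => hφ (Subgroup.inclusion hRP x) hx⟩

/-- Claim A: post-composition with a map defined on a subgroup where everything decomposes. -/
theorem dec_comp [Finite S] (F E : FusionSystem S) {P Q : Subgroup Ω} {φ : P →* Ω}
    (hdec : Dec F E φ) (h : ∀ x : P, φ x ∈ Q) {ψ : Q →* Ω} (hψ : ψ ∈ F.Hom Q)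
    (hbig : ∀ Q₁ : Subgroup Ω, Nat.card Q ≤ Nat.card Q₁ → ∀ ψ₁ ∈ F.Hom Q₁, Dec F E ψ₁) :
    Dec F E (ψ.comp (φ.codRestrict Q h)) := by
  obtain ⟨α, hα, φ₀, hφ₀, hφ⟩ := hdec
  have hQS : Q ≤ S := (F.le_of_mem hψ).1
  have ha : S.subtype.comp α.toMonoidHom ∈ F.Hom S := (mem_autGroup_iff F le_rfl α).mp hα
  have hQ₁S : preimageAlong (S.subtype.comp α.toMonoidHom) Q ≤ S := preimageAlong_le _ _
  have ha₁ := restrict_mem F hQ₁S ha
  have ha₁Q : ∀ y : ↥(preimageAlong (S.subtype.comp α.toMonoidHom) Q),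
      ((S.subtype.comp α.toMonoidHom).comp (Subgroup.inclusion hQ₁S)) y ∈ Q := by
    intro y
    obtain ⟨hy, hy'⟩ := (mem_preimageAlong _ _ _).mp y.2
    exact hy'
  have hψ₁ := F.comp_mem ha₁ hψ ha₁Q
  have hfin : Finite ↥(preimageAlong (S.subtype.comp α.toMonoidHom) Q) := finite_of_le hQ₁S
  have hcard : Nat.card Q ≤ Nat.card ↥(preimageAlong (S.subtype.comp α.toMonoidHom) Q) := by
    have hmem : ∀ x : Q, ((α⁻¹ ⟨x, hQS x.2⟩ : S) : Ω) ∈
        preimageAlong (S.subtype.comp α.toMonoidHom) Q := by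
      intro x
      refine (mem_preimageAlong _ _ _).mpr ⟨(α⁻¹ ⟨x, hQS x.2⟩ : S).2, ?_⟩
      show ((α (α⁻¹ ⟨x, hQS x.2⟩) : S) : Ω) ∈ Q
      rw [MulAut.apply_inv_self]
      exact x.2
    refine Nat.card_le_card_of_injective
      (fun x : Q => (⟨((α⁻¹ ⟨x, hQS x.2⟩ : S) : Ω), hmem x⟩ :
        ↥(preimageAlong (S.subtype.comp α.toMonoidHom) Q))) ?_
    intro x y hxy
    have h1 : ((α⁻¹ ⟨x, hQS x.2⟩ : S) : Ω) = ((α⁻¹ ⟨y, hQS y.2⟩ : S) : Ω) :=
      Subtype.mk.inj hxy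
    have h2 := (α⁻¹).injective (Subtype.ext h1)
    exact Subtype.ext (Subtype.mk.inj h2)
  obtain ⟨β, hβ, ψ₀, hψ₀, hψ₁'⟩ := hbig _ hcard _ hψ₁
  have h₀ : ∀ x : P, φ₀ x ∈ preimageAlong (S.subtype.comp α.toMonoidHom) Q := by
    intro x
    refine (mem_preimageAlong _ _ _).mpr ⟨(E.le_of_mem hφ₀).2 x, ?_⟩
    show ((α ⟨φ₀ x, (E.le_of_mem hφ₀).2 x⟩ : S) : Ω) ∈ Q
    rw [← hφ x]
    exact h x
  refine ⟨β, hβ, ψ₀.comp (φ₀.codRestrict _ h₀), E.comp_mem hφ₀ hψ₀ h₀, fun x hx => ?_⟩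
  have h1 := hψ₁' ⟨φ₀ x, h₀ x⟩ hx
  refine Eq.trans ?_ h1
  show ψ ⟨φ x, h x⟩ = ψ ⟨((α ⟨φ₀ x, _⟩ : S) : Ω), _⟩
  congr 1
  exact Subtype.ext (hφ x _)

end

section
variable {Ω : Type*} [Group Ω] {S : Subgroup Ω}

/-- `O^{p'}(Aut_F(P))` as a subgroup of `Aut(P)`. -/
def OpF (F : FusionSystem S) (p : ℕ) (P : Subgroup Ω) : Subgroup (MulAut P) :=
  (Subgroup.closure {α : ↥(F.autGroup P) | ∃ k : ℕ, orderOf α = p ^ k}).map (F.autGroup P).subtype

theorem opF_eq (F : FusionSystem S) (p : ℕ) (P : Subgroup Ω) :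
    OpF F p P =
      Subgroup.closure {β : MulAut P | β ∈ F.autGroup P ∧ ∃ k : ℕ, orderOf β = p ^ k} := by
  unfold OpF
  rw [MonoidHom.map_closure]
  congr 1
  ext β
  constructor
  · rintro ⟨b, ⟨k, hk⟩, rfl⟩
    exact ⟨b.2, k, by rw [← hk]; exact Subgroup.orderOf_coe b⟩
  · rintro ⟨hβ, k, hk⟩
    exact ⟨⟨β, hβ⟩, ⟨k, by
      rw [← hk]; exact (Subgroup.orderOf_coe (⟨β, hβ⟩ : ↥(F.autGroup P))).symm⟩, rfl⟩

theorem opF_le (F : FusionSystem S) (p : ℕ) (P : Subgroup Ω) : OpF F p P ≤ F.autGroup P := by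
  rw [opF_eq]
  exact (Subgroup.closure_le _).mpr fun β hβ => hβ.1

theorem opF_congr (F : FusionSystem S) (p : ℕ) {P Q : Subgroup Ω} (a : P ≃* Q)
    (ha : Cfsg.Agent.Lib.Helper86.IsFIso F a) {ε : MulAut P} (hε : ε ∈ OpF F p P) :
    MulAut.congr a ε ∈ OpF F p Q := by
  rw [opF_eq] at hε ⊢
  induction hε using Subgroup.closure_induction with
  | mem β hβ =>
    exact Subgroup.subset_closure ⟨ha.congr_mem_autGroup hβ.1, by
      obtain ⟨k, hk⟩ := hβ.2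
      exact ⟨k, by rw [MulEquiv.orderOf_eq]; exact hk⟩⟩
  | one => rw [map_one]; exact Subgroup.one_mem _
  | mul x y _ _ hx hy => rw [map_mul]; exact Subgroup.mul_mem _ hx hy
  | inv x _ hx => rw [map_inv]; exact Subgroup.inv_mem _ hx

theorem opF_conj (F : FusionSystem S) (p : ℕ) {P : Subgroup Ω} (hP : P ≤ S) {γ ε : MulAut P}
    (hγ : γ ∈ F.autGroup P) (hε : ε ∈ OpF F p P) : γ * ε * γ⁻¹ ∈ OpF F p P := by
  have h1 : Cfsg.Agent.Lib.Helper86.IsFIso F γ := (mem_autGroup_iff F hP γ).mp hγ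
  have h2 := opF_congr F p γ h1 hε
  have h3 : MulAut.congr γ ε = γ * ε * γ⁻¹ := by
    ext x; rfl
  rw [← h3]; exact h2

theorem isCentric_of_isConj (F : FusionSystem S) {P Q : Subgroup Ω} (hP : F.IsCentric P)
    (hPQ : F.IsConj P Q) : F.IsCentric Q :=
  ⟨(isConj_le F hPQ).2, fun R hR => hP.2 R (isConj_trans F hPQ hR)⟩

theorem dec_aut (F E : FusionSystem S) (p : ℕ)
    (h : ∀ P : Subgroup Ω, F.IsCentric P → OpF F p P ≤ E.autGroup P)
    {P R : Subgroup Ω} {φ : P →* Ω} (hrange : φ.range = R)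
    (hdec : Dec F E φ) (hR : F.IsCentric R) {ε : MulAut R} (hε : ε ∈ OpF F p R)
    (h' : ∀ x : P, φ x ∈ R) :
    Dec F E ((R.subtype.comp ε.toMonoidHom).comp (φ.codRestrict R h')) := by
  obtain ⟨α, hα, φ₀, hφ₀, hφe⟩ := hdec
  have ha : S.subtype.comp α.toMonoidHom ∈ F.Hom S := (mem_autGroup_iff F le_rfl α).mp hα
  have hφ₀S : ∀ x : P, φ₀ x ∈ S := (E.le_of_mem hφ₀).2
  have hR₁S : φ₀.range ≤ S := by rintro _ ⟨x, rfl⟩; exact hφ₀S x
  have ha₁ := restrict_mem F hR₁S ha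
  have ha₁range : ((S.subtype.comp α.toMonoidHom).comp (Subgroup.inclusion hR₁S)).range = R := by
    rw [← hrange]
    ext y
    constructor
    · rintro ⟨⟨_, ⟨x, rfl⟩⟩, rfl⟩
      exact ⟨x, hφe x _⟩
    · rintro ⟨x, rfl⟩
      exact ⟨⟨φ₀ x, ⟨x, rfl⟩⟩, (hφe x (hφ₀S x)).symm⟩
  obtain ⟨a, haF, hax⟩ := Cfsg.Agent.Lib.Helper86.exists_isFIso F ha₁ ha₁range
  have hR₁ : F.IsCentric φ₀.range := isCentric_of_isConj F hR haF.symm.isConj
  have hε₁ : MulAut.congr a.symm ε ∈ E.autGroup φ₀.range :=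
    h _ hR₁ (opF_congr F p a.symm haF.symm hε)
  have hε₁' := (mem_autGroup_iff E hR₁S _).mp hε₁
  have h₀ : ∀ x : P, φ₀ x ∈ φ₀.range := fun x => ⟨x, rfl⟩
  refine ⟨α, hα, _, E.comp_mem hφ₀ hε₁' h₀, fun x hx => ?_⟩
  have h1 : a ⟨φ₀ x, h₀ x⟩ = ⟨φ x, h' x⟩ := by
    apply Subtype.ext
    rw [hax]
    exact (hφe x (hφ₀S x)).symm
  have h2 : MulAut.congr a.symm ε ⟨φ₀ x, h₀ x⟩ = a.symm (ε ⟨φ x, h' x⟩) := by
    show a.symm (ε (a ⟨φ₀ x, h₀ x⟩)) = _
    rw [h1]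
  have h3 := hax (a.symm (ε ⟨φ x, h' x⟩))
  rw [a.apply_symm_apply] at h3
  have h4 : ((MulAut.congr a.symm ε ⟨φ₀ x, h₀ x⟩ : φ₀.range) : Ω) =
      ((a.symm (ε ⟨φ x, h' x⟩) : φ₀.range) : Ω) := congrArg Subtype.val h2
  refine h3.trans ?_
  show ((α ⟨_, _⟩ : S) : Ω) = ((α ⟨_, _⟩ : S) : Ω)
  congr 2
  exact Subtype.ext h4.symm

theorem frat [Finite S] {p : ℕ} [Fact p.Prime] (hS : IsPGroup p S) (F : FusionSystem S)
    {R : Subgroup Ω} (hfa : F.IsFullyAutomized p R) {γ : MulAut R} (hγ : γ ∈ F.autGroup R) :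
    ∃ ε ∈ OpF F p R, ∃ ν ∈ F.autGroup R, γ = ε * ν ∧
      ∀ a ∈ autInducedBy S R, ν * a * ν⁻¹ ∈ autInducedBy S R := by
  classical
  obtain ⟨hR, hsyl⟩ := hfa
  have hsyl' : IsSylIn p (autInducedBy S R) (F.autGroup R) := hsyl
  have hRfin : Finite R := finite_of_le hR
  have hAp : IsPGroup p (autInducedBy S R) := Cfsg.Agent.Lib.Helper86.isPGroup_autInducedBy hS R
  have hAF : autInducedBy S R ≤ F.autGroup R :=
    Cfsg.Agent.Lib.Helper84.autInducedBy_le_autGroup F hR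
  have hAO : autInducedBy S R ≤ OpF F p R := by
    intro a ha
    rw [opF_eq]
    refine Subgroup.subset_closure ⟨hAF ha, ?_⟩
    obtain ⟨k, hk⟩ := hAp ⟨a, ha⟩
    have hk' : a ^ p ^ k = 1 := congrArg Subtype.val hk
    have hdvd : orderOf a ∣ p ^ k := orderOf_dvd_of_pow_eq_one hk'
    obtain ⟨j, -, hj⟩ := (Nat.dvd_prime_pow (Fact.out : p.Prime)).mp hdvd
    exact ⟨j, hj⟩
  have hsylO : IsSylIn p (autInducedBy S R) (OpF F p R) := hsyl'.of_le hAO (opF_le F p R)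
  have hH : (autInducedBy S R).map (MulAut.conj γ).toMonoidHom ≤ OpF F p R := by
    rintro _ ⟨a, ha, rfl⟩
    exact opF_conj F p hR hγ (hAO ha)
  obtain ⟨ε, hε, hle⟩ := hsylO.exists_conj_le hH (hAp.map _)
  refine ⟨ε⁻¹, Subgroup.inv_mem _ hε, ε * γ, Subgroup.mul_mem _ (opF_le F p R hε) hγ,
    by group, ?_⟩
  intro a ha
  have h1 : ε * (γ * a * γ⁻¹) * ε⁻¹ ∈ autInducedBy S R := hle ⟨_, ⟨a, ha, rfl⟩, rfl⟩
  have h2 : ε * γ * a * (ε * γ)⁻¹ = ε * (γ * a * γ⁻¹) * ε⁻¹ := by group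
  rw [h2]; exact h1

theorem ext_normalizer {R : Subgroup Ω} {ν : MulAut R}
    (hν : ∀ a ∈ autInducedBy S R, ν * a * ν⁻¹ ∈ autInducedBy S R) :
    normalizerIn S R ≤ extender S R (R.subtype.comp ν.toMonoidHom) := by
  intro g hg
  have hc : R.normalizerMonoidHom ⟨g, hg.2⟩ ∈ autInducedBy S R :=
    Cfsg.Agent.Lib.Helper86.normalizerMonoidHom_mem_autInducedBy hg
  obtain ⟨h, hh, hformula⟩ := (mem_autInducedBy_iff S R _).mp (hν _ hc)
  refine Subgroup.subset_closure ⟨hg.1, hg.2, h, hh, fun x hx => ?_⟩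
  have h1 := hformula (ν x)
  have h2 : (ν * R.normalizerMonoidHom ⟨g, hg.2⟩ * ν⁻¹) (ν x) = ν ⟨g * x * g⁻¹, hx⟩ := by
    show ν (R.normalizerMonoidHom ⟨g, hg.2⟩ (ν⁻¹ (ν x))) = _
    rw [MulAut.inv_apply_self]
    rfl
  rw [h2] at h1
  exact h1

theorem aut_step [Finite S] {p : ℕ} [Fact p.Prime] (hS : IsPGroup p S) (F : FusionSystem S)
    (hF : F.IsSaturated p) (E : FusionSystem S)
    (h : ∀ P : Subgroup Ω, F.IsCentric P → OpF F p P ≤ E.autGroup P)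
    {R : Subgroup Ω} (hfa : F.IsFullyAutomized p R) (hrec : F.IsReceptive R) (hne : R ≠ S)
    (hbig : ∀ Q : Subgroup Ω, Nat.card R < Nat.card Q → ∀ ψ : Q →* Ω, ψ ∈ F.Hom Q → Dec F E ψ)
    {P : Subgroup Ω} {φ : P →* Ω} (hφ : φ ∈ F.Hom P) (hrange : φ.range = R)
    (hdec : Dec F E φ) (h' : ∀ x : P, φ x ∈ R)
    {γ : MulAut R} (hγ : γ ∈ F.autGroup R) :
    Dec F E ((R.subtype.comp γ.toMonoidHom).comp (φ.codRestrict R h')) := by
  classical
  have hR : R ≤ S := hrec.1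
  have ext_step : ∀ (ν : MulAut R), ν ∈ F.autGroup R →
      (∃ g ∈ extender S R (R.subtype.comp ν.toMonoidHom), g ∉ R) →
      Dec F E ((R.subtype.comp ν.toMonoidHom).comp (φ.codRestrict R h')) := by
    rintro ν hν ⟨g, hg, hgR⟩
    have hνF := (mem_autGroup_iff F hR ν).mp hν
    obtain ⟨ψ, hψ, hψext⟩ := hrec.2 R _ hνF (Cfsg.Agent.Lib.Helper86.range_comp_equiv ν)
    have hle : R ≤ extender S R (R.subtype.comp ν.toMonoidHom) := le_extender F hνF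
    have hfinN : Finite ↥(extender S R (R.subtype.comp ν.toMonoidHom)) :=
      finite_of_le (extender_le _ _ _)
    have hlt : Nat.card R < Nat.card ↥(extender S R (R.subtype.comp ν.toMonoidHom)) :=
      Cfsg.Agent.Lib.Helper86.card_lt_of_le_of_not_mem hle hg hgR
    have h1 := dec_comp F E hdec (fun x => hle (h' x)) hψ
      (fun Q₁ hQ₁ ψ₁ hψ₁ => hbig Q₁ (lt_of_lt_of_le hlt hQ₁) ψ₁ hψ₁)
    refine dec_congr F E h1 (fun x => ?_)
    exact (hψext (φ x) (h' x) (hle (h' x))).symm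
  by_cases hc : F.IsCentric R
  · obtain ⟨ε, hε, ν, hν, rfl, hνA⟩ := frat hS F hfa hγ
    obtain ⟨g, hg, hgR⟩ := Cfsg.Agent.Lib.Helper86.exists_normalizerIn_not_mem hS hR hne
    have h1 := ext_step ν hν ⟨g, ext_normalizer hνA hg, hgR⟩
    have hrange1 : ((R.subtype.comp ν.toMonoidHom).comp (φ.codRestrict R h')).range = R := by
      apply le_antisymm
      · rintro _ ⟨x, rfl⟩; exact (ν _).2
      · intro y hy
        have hy' : ((ν⁻¹ ⟨y, hy⟩ : R) : Ω) ∈ φ.range := hrange.ge (ν⁻¹ ⟨y, hy⟩).2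
        obtain ⟨x, hx⟩ := hy'
        refine ⟨x, ?_⟩
        show ((ν ⟨φ x, h' x⟩ : R) : Ω) = y
        have : (⟨φ x, h' x⟩ : R) = ν⁻¹ ⟨y, hy⟩ := Subtype.ext hx
        rw [this, MulAut.apply_inv_self]
    have h2 := dec_aut F E p h hrange1 h1 hc hε (fun x => (ν _).2)
    exact dec_congr F E h2 (fun x => rfl)
  · have hfc : F.IsFullyCentralized R :=
      ⟨hR, fun Q hQ => card_centralizerIn_le_of_receptive F (isConj_symm F hQ) hrec⟩
    have hnot : ¬ centralizerIn S R ≤ R :=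
      fun hle => hc (isCentric_of_fullyCentralized F hF hfc hle)
    obtain ⟨c, hc1, hc2⟩ := SetLike.not_le_iff_exists.mp hnot
    exact ext_step γ hγ ⟨c, centralizerIn_le_extender S R _ hc1, hc2⟩

end

section
variable {Ω : Type*} [Group Ω] {S : Subgroup Ω}

theorem frattini_all [Finite S] {p : ℕ} [Fact p.Prime] (hS : IsPGroup p S) (F : FusionSystem S)
    (hF : F.IsSaturated p) (E : FusionSystem S)
    (h : ∀ P : Subgroup Ω, F.IsCentric P → OpF F p P ≤ E.autGroup P) :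
    ∀ (P : Subgroup Ω) (φ : P →* Ω), φ ∈ F.Hom P → Dec F E φ := by
  classical
  have main : ∀ n : ℕ, ∀ P : Subgroup Ω, Nat.card S - Nat.card P = n →
      ∀ φ : P →* Ω, φ ∈ F.Hom P → Dec F E φ := by
    intro n
    induction n using Nat.strong_induction_on with
    | _ n ih =>
    intro P hn φ hφ
    have hP : P ≤ S := (F.le_of_mem hφ).1
    have hPfin : Finite P := finite_of_le hP
    have hbig : ∀ Q : Subgroup Ω, Nat.card P < Nat.card Q → ∀ ψ : Q →* Ω, ψ ∈ F.Hom Q →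
        Dec F E ψ := by
      intro Q hlt ψ hψ
      have hQ : Q ≤ S := (F.le_of_mem hψ).1
      have h1 : Nat.card Q ≤ Nat.card S := Subgroup.card_le_of_le hQ
      exact ih (Nat.card S - Nat.card Q) (by omega) Q rfl ψ hψ
    by_cases hPS : P = S
    · have hrange : φ.range = S := by
        have hle : φ.range ≤ S := by rintro _ ⟨x, rfl⟩; exact (F.le_of_mem hφ).2 x
        apply Subgroup.eq_of_le_of_card_ge hle
        rw [← hPS]
        exact (Nat.card_congr (MonoidHom.ofInjective (F.injective_of_mem hφ)).toEquiv).le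
      obtain ⟨e, he, hex⟩ := Cfsg.Agent.Lib.Helper86.exists_isFIso F hφ hrange
      have hSP : S ≤ P := hPS.ge
      -- the automorphism of `S`
      have hαF : Cfsg.Agent.Lib.Helper86.IsFIso F
          ((MulEquiv.subgroupCongr hPS.symm).trans e) := by
        have h1 : Cfsg.Agent.Lib.Helper86.IsFIso F (MulEquiv.subgroupCongr hPS.symm) := by
          have h2 := subtype_mem F (le_refl S)
          exact Cfsg.Agent.Lib.Helper84.hom_of_eq F h2 (fun x => rfl)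
        exact h1.trans he
      refine ⟨(MulEquiv.subgroupCongr hPS.symm).trans e,
        (mem_autGroup_iff F le_rfl _).mpr hαF, P.subtype, subtype_mem E hP, fun x hx => ?_⟩
      have h3 := hex x
      rw [← h3]
      rfl
    · obtain ⟨R, hPR, hRfn⟩ := exists_fullyNormalized_conj F hP
      obtain ⟨hfa, hrec⟩ := Cfsg.Agent.Lib.Helper86.fullyNormalized_imp hS F hF hRfn
      have hR : R ≤ S := hrec.1
      have hRfin : Finite R := finite_of_le hR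
      obtain ⟨θ, hθ, hθR⟩ := hPR
      obtain ⟨e₀, he₀, -⟩ := Cfsg.Agent.Lib.Helper86.exists_isFIso F hθ hθR
      have hcardR : Nat.card R = Nat.card P := (Nat.card_congr e₀.toEquiv).symm
      have hRne : R ≠ S := by
        intro hRS
        apply hPS
        apply Subgroup.eq_of_le_of_card_ge hP
        rw [← hcardR, hRS]
      obtain ⟨χ₁, hχ₁, hχ₁N, hχ₁P⟩ :=
        Cfsg.Agent.Lib.Helper86.exists_hom_normalizer_onto hS F hfa hrec ⟨θ, hθ, hθR⟩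
      obtain ⟨g₁, hg₁, hg₁P⟩ := Cfsg.Agent.Lib.Helper86.exists_normalizerIn_not_mem hS hP hPS
      have hPN : P ≤ normalizerIn S P := Cfsg.Agent.Lib.Helper84.le_normalizerIn hP
      have hfinN : Finite ↥(normalizerIn S P) := finite_of_le inf_le_left
      have hlt₁ : Nat.card P < Nat.card ↥(normalizerIn S P) :=
        Cfsg.Agent.Lib.Helper86.card_lt_of_le_of_not_mem hPN hg₁ hg₁P
      have hdec₁ := dec_restrict F E (hbig _ hlt₁ χ₁ hχ₁) hPN
      have hφ₁ : χ₁.comp (Subgroup.inclusion hPN) ∈ F.Hom P := restrict_mem F hPN hχ₁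
      have hrange₁ : (χ₁.comp (Subgroup.inclusion hPN)).range = R := by
        rw [← hχ₁P]
        ext y
        constructor
        · rintro ⟨x, rfl⟩
          exact ⟨Subgroup.inclusion hPN x, Subgroup.mem_subgroupOf.mpr x.2, rfl⟩
        · rintro ⟨x, hx, rfl⟩
          exact ⟨⟨x, Subgroup.mem_subgroupOf.mp hx⟩, rfl⟩
      obtain ⟨e₁, he₁, he₁x⟩ := Cfsg.Agent.Lib.Helper86.exists_isFIso F hφ₁ hrange₁
      obtain ⟨eφ, heφ, heφx⟩ := Cfsg.Agent.Lib.Helper86.exists_isFIso F hφ rfl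
      have hP₂ : φ.range ≤ S := heφ.le_right
      have hP₂R : F.IsConj φ.range R :=
        isConj_trans F (isConj_symm F ⟨φ, hφ, rfl⟩) ⟨θ, hθ, hθR⟩
      obtain ⟨χ₂, hχ₂, hχ₂N, hχ₂P⟩ :=
        Cfsg.Agent.Lib.Helper86.exists_hom_normalizer_onto hS F hfa hrec hP₂R
      have hP₂N : φ.range ≤ normalizerIn S φ.range := Cfsg.Agent.Lib.Helper84.le_normalizerIn hP₂
      have hφ₂ : χ₂.comp (Subgroup.inclusion hP₂N) ∈ F.Hom φ.range := restrict_mem F hP₂N hχ₂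
      have hrange₂ : (χ₂.comp (Subgroup.inclusion hP₂N)).range = R := by
        rw [← hχ₂P]
        ext y
        constructor
        · rintro ⟨x, rfl⟩
          exact ⟨Subgroup.inclusion hP₂N x, Subgroup.mem_subgroupOf.mpr x.2, rfl⟩
        · rintro ⟨x, hx, rfl⟩
          exact ⟨⟨x, Subgroup.mem_subgroupOf.mp hx⟩, rfl⟩
      obtain ⟨e₂, he₂, he₂x⟩ := Cfsg.Agent.Lib.Helper86.exists_isFIso F hφ₂ hrange₂
      have hγF : Cfsg.Agent.Lib.Helper86.IsFIso F (e₁.symm.trans (eφ.trans e₂)) :=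
        he₁.symm.trans (heφ.trans he₂)
      have hγ : (e₁.symm.trans (eφ.trans e₂) : MulAut R) ∈ F.autGroup R :=
        (mem_autGroup_iff F hR _).mpr hγF
      have h'₁ : ∀ x : P, (χ₁.comp (Subgroup.inclusion hPN)) x ∈ R :=
        fun x => hrange₁.le ⟨x, rfl⟩
      have hstep := aut_step hS F hF E h hfa hrec hRne
        (fun Q hQ ψ hψ => hbig Q (by rw [← hcardR]; exact hQ) ψ hψ) hφ₁ hrange₁ hdec₁ h'₁ hγ
      have hkey : ∀ x : P, ((R.subtype.comp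
          (MulEquiv.toMonoidHom (e₁.symm.trans (eφ.trans e₂) : MulAut R))).comp
          ((χ₁.comp (Subgroup.inclusion hPN)).codRestrict R h'₁)) x =
          χ₂ (Subgroup.inclusion hP₂N (eφ x)) := by
        intro x
        have h1 : (⟨(χ₁.comp (Subgroup.inclusion hPN)) x, h'₁ x⟩ : R) = e₁ x :=
          Subtype.ext (he₁x x).symm
        show ((e₂ (eφ (e₁.symm ⟨(χ₁.comp (Subgroup.inclusion hPN)) x, h'₁ x⟩)) : R) : Ω) = _
        rw [h1, e₁.symm_apply_apply, he₂x]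
        rfl
      obtain ⟨ω, hω, hωx⟩ := F.inv_mem hχ₂
      have hcardφ : Nat.card φ.range = Nat.card P := (Nat.card_congr eφ.toEquiv).symm
      have hP₂ne : φ.range ≠ S := by
        intro hRS
        apply hPS
        apply Subgroup.eq_of_le_of_card_ge hP
        rw [← hcardφ, hRS]
      obtain ⟨g₂, hg₂, hg₂P⟩ :=
        Cfsg.Agent.Lib.Helper86.exists_normalizerIn_not_mem hS hP₂ hP₂ne
      have hfinN₂ : Finite ↥(normalizerIn S φ.range) := finite_of_le inf_le_left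
      have hlt₂' : Nat.card φ.range < Nat.card ↥(normalizerIn S φ.range) :=
        Cfsg.Agent.Lib.Helper86.card_lt_of_le_of_not_mem hP₂N hg₂ hg₂P
      have hcardχ : Nat.card ↥χ₂.range = Nat.card ↥(normalizerIn S φ.range) :=
        (Nat.card_congr (MonoidHom.ofInjective (F.injective_of_mem hχ₂)).toEquiv).symm
      have hlt₂ : Nat.card P < Nat.card ↥χ₂.range := by omega
      have hmem : ∀ x : P, ((R.subtype.comp
          (MulEquiv.toMonoidHom (e₁.symm.trans (eφ.trans e₂) : MulAut R))).comp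
          ((χ₁.comp (Subgroup.inclusion hPN)).codRestrict R h'₁)) x ∈ χ₂.range := by
        intro x
        rw [hkey x]
        exact ⟨_, rfl⟩
      have hfinal := dec_comp F E hstep hmem hω
        (fun Q₁ hQ₁ ψ₁ hψ₁ => hbig Q₁ (lt_of_lt_of_le hlt₂ hQ₁) ψ₁ hψ₁)
      refine dec_congr F E hfinal (fun x => ?_)
      have h3 := hωx (Subgroup.inclusion hP₂N (eφ x))
      have h4 : (⟨_, hmem x⟩ : χ₂.range) =
          ⟨χ₂ (Subgroup.inclusion hP₂N (eφ x)), ⟨_, rfl⟩⟩ := Subtype.ext (hkey x)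
      show φ x = ω ⟨_, hmem x⟩
      rw [h4, h3]
      exact (heφx x).symm
  intro P φ hφ
  exact main _ P rfl φ hφ

theorem opF_le_of_frattini [Finite S] {p : ℕ} [Fact p.Prime] (hS : IsPGroup p S)
    (F : FusionSystem S) (hF : F.IsSaturated p) (E : FusionSystem S)
    (hdec : ∀ (P : Subgroup Ω) (φ : P →* Ω), φ ∈ F.Hom P → Dec F E φ)
    {P : Subgroup Ω} (hP : P ≤ S) : OpF F p P ≤ E.autGroup P := by
  classical
  rw [opF_eq]
  refine (Subgroup.closure_le _).mpr ?_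
  rintro β ⟨hβ, k, hk⟩
  have hPfin : Finite P := finite_of_le hP
  obtain ⟨R, hPR, hRfn⟩ := exists_fullyNormalized_conj F hP
  obtain ⟨⟨hR, hsyl⟩, hrec⟩ := Cfsg.Agent.Lib.Helper86.fullyNormalized_imp hS F hF hRfn
  have hsyl' : IsSylIn p (autInducedBy S R) (F.autGroup R) := hsyl
  have hRfin : Finite R := finite_of_le hR
  obtain ⟨θ, hθ, hθR⟩ := hPR
  obtain ⟨e, he, -⟩ := Cfsg.Agent.Lib.Helper86.exists_isFIso F hθ hθR
  have hβ' : MulAut.congr e β ∈ F.autGroup R := he.congr_mem_autGroup hβ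
  have hzp : IsPGroup p ↥(Subgroup.zpowers (MulAut.congr e β)) := by
    have ho : orderOf (MulAut.congr e β) = p ^ k := by rw [MulEquiv.orderOf_eq]; exact hk
    rw [IsPGroup.iff_card]
    exact ⟨k, by rw [Nat.card_zpowers, ho]⟩
  have hzle : Subgroup.zpowers (MulAut.congr e β) ≤ F.autGroup R := by
    rw [Subgroup.zpowers_le]; exact hβ'
  obtain ⟨δ, hδ, hle⟩ := hsyl'.exists_conj_le hzle hzp
  have hc : δ * MulAut.congr e β * δ⁻¹ ∈ autInducedBy S R :=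
    hle ⟨_, Subgroup.mem_zpowers _, rfl⟩
  obtain ⟨s, hs, hsf⟩ := (mem_autInducedBy_iff S R _).mp hc
  have hδF : Cfsg.Agent.Lib.Helper86.IsFIso F δ := (mem_autGroup_iff F hR δ).mp hδ
  have he' : Cfsg.Agent.Lib.Helper86.IsFIso F (e.trans δ) := he.trans hδF
  obtain ⟨α, hα, φ₀, hφ₀, hφ⟩ := hdec P _ he'
  have hφ₀S : ∀ x : P, φ₀ x ∈ S := (E.le_of_mem hφ₀).2
  have hrS : φ₀.range ≤ S := by rintro _ ⟨x, rfl⟩; exact hφ₀S x
  have hconj := E.conj_mem (P := φ₀.range) (g := ((α⁻¹ ⟨s, hs⟩ : S) : Ω)) hrS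
    (α⁻¹ ⟨s, hs⟩ : S).2
  have hkey : ∀ x : P, ((α⁻¹ ⟨s, hs⟩ : S) : Ω) * φ₀ x * ((α⁻¹ ⟨s, hs⟩ : S) : Ω)⁻¹ =
      φ₀ (β x) := by
    intro x
    have h1 : α ⟨φ₀ x, hφ₀S x⟩ = ⟨((δ (e x) : R) : Ω), hR (δ (e x)).2⟩ :=
      Subtype.ext (hφ x _).symm
    have h2 : α ⟨φ₀ (β x), hφ₀S (β x)⟩ = ⟨((δ (e (β x)) : R) : Ω), hR (δ (e (β x))).2⟩ :=
      Subtype.ext (hφ (β x) _).symm
    have h3 := hsf (δ (e x))
    have h4 : (δ * MulAut.congr e β * δ⁻¹) (δ (e x)) = δ (e (β x)) := by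
      show δ (e (β (e.symm (δ⁻¹ (δ (e x)))))) = _
      rw [MulAut.inv_apply_self, e.symm_apply_apply]
    rw [h4] at h3
    have h5 : α (α⁻¹ ⟨s, hs⟩ * ⟨φ₀ x, hφ₀S x⟩ * (α⁻¹ ⟨s, hs⟩)⁻¹) =
        α ⟨φ₀ (β x), hφ₀S (β x)⟩ := by
      rw [map_mul, map_mul, map_inv, MulAut.apply_inv_self, h1, h2]
      exact Subtype.ext h3.symm
    have h6 := α.injective h5
    exact congrArg Subtype.val h6
  have h_a := E.comp_mem hφ₀ hconj (fun x => ⟨x, rfl⟩)
  obtain ⟨ψ, hψ, hψx⟩ := E.inv_mem hφ₀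
  have h_b := E.comp_mem h_a hψ (fun x => by
    show ((α⁻¹ ⟨s, hs⟩ : S) : Ω) * φ₀ x * ((α⁻¹ ⟨s, hs⟩ : S) : Ω)⁻¹ ∈ φ₀.range
    rw [hkey x]; exact ⟨β x, rfl⟩)
  refine (mem_autGroup_iff E hP β).mpr (Cfsg.Agent.Lib.Helper84.hom_of_eq E h_b (fun x => ?_))
  have h7 := hψx (β x)
  show ((β x : P) : Ω) = ψ ⟨((α⁻¹ ⟨s, hs⟩ : S) : Ω) * φ₀ x * ((α⁻¹ ⟨s, hs⟩ : S) : Ω)⁻¹, _⟩
  rw [← h7]
  congr 1
  exact Subtype.ext (hkey x).symm

theorem centric_iff_of_frattini (F E : FusionSystem S) (hEF : E.IsSubsystemOf F)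
    (hdec : ∀ (P : Subgroup Ω) (φ : P →* Ω), φ ∈ F.Hom P → Dec F E φ) (P : Subgroup Ω) :
    E.IsCentric P ↔ F.IsCentric P := by
  constructor
  · rintro ⟨hP, hE⟩
    refine ⟨hP, ?_⟩
    rintro Q ⟨φ, hφ, rfl⟩
    obtain ⟨α, hα, φ₀, hφ₀, hφe⟩ := hdec P φ hφ
    have hφ₀S : ∀ x : P, φ₀ x ∈ S := (E.le_of_mem hφ₀).2
    have h0 := hE φ₀.range ⟨φ₀, hφ₀, rfl⟩
    intro c hc
    have hcS : c ∈ S := hc.1
    have hcC := Subgroup.mem_centralizer_iff.mp hc.2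
    have h1 : ((α⁻¹ ⟨c, hcS⟩ : S) : Ω) ∈ centralizerIn S φ₀.range := by
      refine Subgroup.mem_inf.mpr ⟨(α⁻¹ ⟨c, hcS⟩ : S).2, ?_⟩
      rw [Subgroup.mem_centralizer_iff]
      rintro _ ⟨x, rfl⟩
      have h2 := hcC (φ x) ⟨x, rfl⟩
      have h3 : α (⟨φ₀ x, hφ₀S x⟩ * α⁻¹ ⟨c, hcS⟩) = α (α⁻¹ ⟨c, hcS⟩ * ⟨φ₀ x, hφ₀S x⟩) := by
        rw [map_mul, map_mul, MulAut.apply_inv_self]
        apply Subtype.ext
        show ((α ⟨φ₀ x, hφ₀S x⟩ : S) : Ω) * c = c * ((α ⟨φ₀ x, hφ₀S x⟩ : S) : Ω)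
        rw [← hφe x]
        exact h2
      exact congrArg Subtype.val (α.injective h3)
    obtain ⟨x, hx⟩ := h0 h1
    refine ⟨x, ?_⟩
    rw [hφe x (hφ₀S x)]
    have : (⟨φ₀ x, hφ₀S x⟩ : S) = α⁻¹ ⟨c, hcS⟩ := Subtype.ext hx
    rw [this, MulAut.apply_inv_self]
  · rintro ⟨hP, hFc⟩
    refine ⟨hP, ?_⟩
    rintro Q ⟨φ, hφ, rfl⟩
    exact hFc _ ⟨φ, hEF P hφ, rfl⟩

end

/-- Let F be a saturated fusion system over a finite p-group S and E a fusion system over S contained in F. If Aut_E(P) contains the subgroup of Aut_F(P) generated by its elements of p-power order for every subgroup P that is centric in F, then the same holds for every subgroup of S (E has index prime to p in F), every map of F with source a subgroup P of S is an element of Aut_F(S) composed with a map of E, and a subgroup is centric in E exactly when it is centric in F. -/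
theorem result {Ω : Type*} [Group Ω] {S : Subgroup Ω} [Finite S] (p : ℕ) [Fact p.Prime] (hS : IsPGroup p S) (F : Cfsg.FusionSystem S) (hF : F.IsSaturated p) (E : Cfsg.FusionSystem S) (hEF : E.IsSubsystemOf F) (h : ∀ P : Subgroup Ω, F.IsCentric P → (Subgroup.closure {α : ↥(F.autGroup P) | ∃ k : ℕ, orderOf α = p ^ k}).map (F.autGroup P).subtype ≤ E.autGroup P) : E.HasPrimeToPIndexIn F p ∧ (∀ (P : Subgroup Ω) (φ : P →* Ω), φ ∈ F.Hom P → ∃ α ∈ F.autGroup S, ∃ φ₀ ∈ E.Hom P, ∀ (x : P) (hx : φ₀ x ∈ S), φ x = ((α ⟨φ₀ x, hx⟩ : S) : Ω)) ∧ ∀ P : Subgroup Ω, E.IsCentric P ↔ F.IsCentric P := by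
  classical
  have hdec := frattini_all hS F hF E h
  exact ⟨⟨hEF, fun P hP => opF_le_of_frattini hS F hF E hdec hP⟩, hdec, centric_iff_of_frattini F E hEF hdec⟩

end Cfsg.Agent.S5114
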