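import Cfsg.Statements.S1896
import Cfsg.Agent.S0016
import Cfsg.Agent.Lib.Helper24.ClassTwo
import Cfsg.Agent.Lib.Helper42.OddAutAb

set_option autoImplicit false
open Cfsg

namespace Cfsg.Agent.S1896

open Cfsg.Agent.Lib.Helper20 Cfsg.Agent.Lib.Helper24 Cfsg.Agent.Lib.Helper42.OddAut
open scoped commutatorElement

/-- An automorphism of odd order of a 2-group with cyclic derived subgroup fixes the derived
subgroup pointwise. -/
theorem fix_commutator {X : Type*} [Group X] (hX : ∀ g : X, ∃ N : ℕ, g ^ 2 ^ N = 1)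
    (β : MulAut X) (k : ℕ) (hk : Odd k) (hβ : β ^ k = 1) (hcyc : IsCyclic (commutator X)) :
    ∀ c ∈ commutator X, β c = c := by
  obtain ⟨c₀, hc₀⟩ := hcyc.exists_generator
  have hchar : (commutator X).Characteristic := by
    rw [commutator_def]; infer_instance
  have hmem : ∀ x ∈ commutator X, β x ∈ commutator X := by
    intro x hx
    have h := Subgroup.characteristic_iff_comap_eq.mp hchar β
    have h' : x ∈ (commutator X).comap β.toMonoidHom := by rw [h]; exact hx
    exact h'
  have h1 : β (c₀ : X) ∈ Subgroup.zpowers (c₀ : X) := by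
    obtain ⟨i, hi⟩ := Subgroup.mem_zpowers_iff.mp (hc₀ ⟨β c₀, hmem _ c₀.2⟩)
    rw [Subgroup.mem_zpowers_iff]
    refine ⟨i, ?_⟩
    have h2 := congrArg Subtype.val hi
    rw [Subgroup.coe_zpow] at h2
    exact h2
  obtain ⟨N, hN⟩ := hX (c₀ : X)
  have h2 := cyclic_fix hX β k hk hβ N (c₀ : X) hN h1
  intro c hc
  obtain ⟨i, hi⟩ := Subgroup.mem_zpowers_iff.mp (hc₀ ⟨c, hc⟩)
  have h3 : (c₀ : X) ^ i = c := by
    have h4 := congrArg Subtype.val hi
    rw [Subgroup.coe_zpow] at h4
    exact h4
  rw [← h3, map_zpow, h2]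

/-- The class-two core of the argument. -/
theorem core {X : Type*} [Group X]
    (β : MulAut X) (hfix : ∀ c ∈ commutator X, β c = c)
    (hCab : ∀ c ∈ commutator X, ∀ d ∈ commutator X, c * d = d * c)
    (r : ℕ)
    (T2 : ∀ x : X, x ^ 2 ^ r ∈ commutator X)
    (T4 : ∀ x : X, ∃ w : X, ∃ c ∈ commutator X, x = w⁻¹ * β w * c) :
    (∀ c ∈ commutator X, ∀ x : X, c * x = x * c) ∧ (∀ c ∈ commutator X, c ^ 2 ^ r = 1) ∧
    (∀ s : ℕ, r ≤ s → (∀ c ∈ commutator X, c ^ (2 ^ s * (2 ^ s - 1) / 2) = 1) →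
      ∀ x : X, x ^ 2 ^ s = 1) := by
  have hnorm : (commutator X).Normal := inferInstance
  have hcommem : ∀ x y : X, ⁅x, y⁆ ∈ commutator X := by
    intro x y
    rw [commutator_def]
    exact Subgroup.commutator_mem_commutator (Subgroup.mem_top _) (Subgroup.mem_top _)
  have hcent : ∀ c ∈ commutator X, ∀ x : X, c * x = x * c := by
    intro c hc x
    obtain ⟨w, d, hd, rfl⟩ := T4 x
    have h1 : β (w * c * w⁻¹) = w * c * w⁻¹ := hfix _ (hnorm.conj_mem c hc w)
    rw [map_mul, map_mul, map_inv, hfix c hc] at h1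
    have h3 : β w * c = w * c * w⁻¹ * β w := by rw [← h1, inv_mul_cancel_right]
    have h2 : c * (w⁻¹ * β w) = (w⁻¹ * β w) * c := by
      rw [mul_assoc w⁻¹, h3]; group
    calc c * (w⁻¹ * β w * d) = (c * (w⁻¹ * β w)) * d := by simp only [mul_assoc]
      _ = (w⁻¹ * β w) * (c * d) := by rw [h2, mul_assoc]
      _ = (w⁻¹ * β w) * (d * c) := by rw [hCab c hc d hd]
      _ = w⁻¹ * β w * d * c := by simp only [mul_assoc]
  have hcomm_pow : ∀ x y : X, ⁅x, y⁆ ^ 2 ^ r = 1 := by
    intro x y
    have hcomm : Commute ⁅x, y⁆ x := hcent _ (hcommem x y) x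
    rw [← commutatorElement_pow_left_of_commute x y hcomm, commutatorElement_eq_one_iff_commute]
    exact hcent _ (T2 x) y
  have hCexp : ∀ c ∈ commutator X, c ^ 2 ^ r = 1 := by
    intro c hc
    rw [commutator_eq_closure] at hc
    induction hc using Subgroup.closure_induction with
    | mem x hx =>
      obtain ⟨g₁, g₂, rfl⟩ := hx
      exact hcomm_pow g₁ g₂
    | one => exact one_pow _
    | mul x y hx hy hx' hy' =>
      have hxC : x ∈ commutator X := by rw [commutator_eq_closure]; exact hx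
      rw [(show Commute x y from hcent x hxC y).mul_pow, hx', hy', one_mul]
    | inv x _ hx => rw [inv_pow, hx, inv_one]
  refine ⟨hcent, hCexp, ?_⟩
  intro s hrs hs x
  obtain ⟨w, d, hd, rfl⟩ := T4 x
  obtain ⟨t, rfl⟩ := Nat.exists_eq_add_of_le hrs
  have hpow_s : ∀ c ∈ commutator X, c ^ 2 ^ (r + t) = 1 := by
    intro c hc
    rw [pow_add, pow_mul, hCexp c hc, one_pow]
  have hws : w ^ 2 ^ (r + t) ∈ commutator X := by
    rw [pow_add, pow_mul]
    exact Subgroup.pow_mem _ (T2 w) _
  have hκ : ⁅(β w)⁻¹, w⁻¹⁻¹⁆ ∈ commutator X := hcommem _ _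
  have hyx : β w * w⁻¹ = w⁻¹ * β w * ⁅(β w)⁻¹, w⁻¹⁻¹⁆ := by
    rw [commutatorElement_def]; group
  have h1 := mul_pow_of_central w⁻¹ (β w) _ hyx (hcent _ hκ _) (hcent _ hκ _) (2 ^ (r + t))
  have hd' : Commute (w⁻¹ * β w) d := (hcent d hd _).symm
  rw [hd'.mul_pow, hpow_s d hd, mul_one, h1, hs _ hκ, mul_one, ← map_pow, hfix _ hws, inv_pow,
    inv_mul_cancel]

/-- The nonabelian case. -/
theorem nonabelian {X : Type*} [Group X] [Finite X] (hX : ∀ g : X, ∃ N : ℕ, g ^ 2 ^ N = 1)
    (N : Subgroup X) [hNn : N.Normal] (hNc : IsCyclic N) (hQc : IsCyclic (X ⧸ N))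
    (u v : X) (hgen : ∀ g : X, ∃ i j : ℕ, g = u ^ i * v ^ j)
    (β : MulAut X) (k : ℕ) (hk : Odd k) (hβ : β ^ k = 1) (hβ1 : β ≠ 1)
    (hab : ¬ ∀ x y : X, x * y = y * x) : Nonempty (X ≃* QuaternionGroup 2) := by
  classical
  have hCN : commutator X ≤ N := by
    letI : CommGroup (X ⧸ N) := IsCyclic.commGroup
    have h := Abelianization.commutator_subset_ker (QuotientGroup.mk' N)
    rwa [QuotientGroup.ker_mk'] at h
  have hCc : IsCyclic (commutator X) :=
    isCyclic_of_injective (Subgroup.inclusion hCN) (Subgroup.inclusion_injective hCN)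
  have hfix := fix_commutator hX β k hk hβ hCc
  have hCab : ∀ c ∈ commutator X, ∀ d ∈ commutator X, c * d = d * c := by
    intro c hc d hd
    letI := @IsCyclic.commGroup (commutator X) _ hCc
    exact congrArg Subtype.val (mul_comm (⟨c, hc⟩ : commutator X) ⟨d, hd⟩)
  have hcommem : ∀ x y : X, ⁅x, y⁆ ∈ commutator X := by
    intro x y
    rw [commutator_def]
    exact Subgroup.commutator_mem_commutator (Subgroup.mem_top _) (Subgroup.mem_top _)
  -- the induced automorphism of the abelianization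
  obtain ⟨γ, hγ⟩ : ∃ γ : MulAut (Abelianization X),
      ∀ x : X, γ (Abelianization.of x) = Abelianization.of (β x) :=
    ⟨β.abelianizationCongr, fun x => abelianizationCongr_of β x⟩
  have hγpow : ∀ (j : ℕ) (x : X),
      (γ ^ j) (Abelianization.of x) = Abelianization.of ((β ^ j) x) := by
    intro j
    induction j with
    | zero => intro x; rw [pow_zero, pow_zero, MulAut.one_apply, MulAut.one_apply]
    | succ j ih =>
      intro x
      rw [pow_succ, pow_succ, MulAut.mul_apply, MulAut.mul_apply, hγ, ih]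
  have hofsurj : Function.Surjective (Abelianization.of : X → Abelianization X) :=
    QuotientGroup.mk_surjective
  have hγk : γ ^ k = 1 := by
    ext z
    obtain ⟨x, rfl⟩ := hofsurj z
    rw [hγpow, hβ]; rfl
  have hmemC : ∀ x : X, x ∈ commutator X ↔ Abelianization.of x = 1 := by
    intro x; rw [← Abelianization.ker_of, MonoidHom.mem_ker]
  have hγ1 : γ ≠ 1 := by
    intro h
    apply hβ1
    ext x
    rw [MulAut.one_apply]
    have h1 : Abelianization.of (β x) = Abelianization.of x := by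
      rw [← hγ, h, MulAut.one_apply]
    have h2 : x⁻¹ * β x ∈ commutator X := by
      rw [hmemC, map_mul, map_inv, h1, inv_mul_cancel]
    exact aut_fix_of_mul hX β k hk hβ x (x⁻¹ * β x) (by rw [mul_inv_cancel_left]) (hfix _ h2)
  have hAbp : ∀ z : Abelianization X, ∃ N : ℕ, z ^ 2 ^ N = 1 := by
    intro z
    obtain ⟨x, rfl⟩ := hofsurj z
    obtain ⟨N, hN⟩ := hX x
    exact ⟨N, by rw [← map_pow, hN, map_one]⟩
  have hAbgen : ∀ z : Abelianization X,
      ∃ i j : ℕ, z = Abelianization.of u ^ i * Abelianization.of v ^ j := by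
    intro z
    obtain ⟨x, rfl⟩ := hofsurj z
    obtain ⟨i, j, rfl⟩ := hgen x
    exact ⟨i, j, by rw [map_mul, map_pow, map_pow]⟩
  obtain ⟨hfpf, r, hr1, hcardAb, hexpAb, -⟩ :=
    abelian_case (fun x y => mul_comm x y) hAbp _ _ hAbgen γ k hk hγk hγ1
  have T2 : ∀ x : X, x ^ 2 ^ r ∈ commutator X := by
    intro x; rw [hmemC, map_pow]; exact hexpAb _
  have T3 : Nat.card X = 2 ^ (2 * r) * Nat.card (commutator X) := by
    rw [← hcardAb]
    exact Subgroup.card_eq_card_quotient_mul_card_subgroup (commutator X)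
  have T4 : ∀ x : X, ∃ w : X, ∃ c ∈ commutator X, x = w⁻¹ * β w * c := by
    have hinj : Function.Injective (fun z : Abelianization X => z⁻¹ * γ z) := by
      intro z w hzw
      have h0 : z⁻¹ * γ z = w⁻¹ * γ w := hzw
      have h1 : γ (z * w⁻¹) = z * w⁻¹ := by
        have h2 : γ z = z * (w⁻¹ * γ w) := by rw [← h0, mul_inv_cancel_left]
        rw [map_mul, map_inv, h2, mul_assoc, mul_assoc, mul_inv_cancel, mul_one]
      exact mul_inv_eq_one.mp (hfpf _ h1)
    have hsurj := Finite.surjective_of_injective hinj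
    intro x
    obtain ⟨z, hz⟩ := hsurj (Abelianization.of x)
    obtain ⟨w, rfl⟩ := hofsurj z
    refine ⟨w, (w⁻¹ * β w)⁻¹ * x, ?_, by rw [mul_inv_cancel_left]⟩
    have hz' : (Abelianization.of w)⁻¹ * γ (Abelianization.of w) = Abelianization.of x := hz
    rw [hmemC, map_mul, map_inv, map_mul, map_inv, ← hγ, hz', inv_mul_cancel]
  obtain ⟨hcent, hCexp, hE⟩ := core β hfix hCab r T2 T4
  -- order bound
  have hbound : ∀ s : ℕ, (∀ x : X, x ^ 2 ^ s = 1) → Nat.card X ≤ 2 ^ s * 2 ^ r := by
    intro s hs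
    have h1 := Subgroup.card_eq_card_quotient_mul_card_subgroup N
    have h2 : Nat.card N ≤ 2 ^ s := by
      obtain ⟨a, ha⟩ := hNc.exists_generator
      rw [← orderOf_eq_card_of_forall_mem_zpowers ha]
      apply Nat.le_of_dvd (by positivity)
      apply orderOf_dvd_of_pow_eq_one
      exact Subtype.ext (by rw [Subgroup.coe_pow, Subgroup.coe_one]; exact hs _)
    have h3 : Nat.card (X ⧸ N) ≤ 2 ^ r := by
      obtain ⟨q, hq⟩ := hQc.exists_generator
      rw [← orderOf_eq_card_of_forall_mem_zpowers hq]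
      apply Nat.le_of_dvd (by positivity)
      apply orderOf_dvd_of_pow_eq_one
      obtain ⟨x, rfl⟩ := QuotientGroup.mk_surjective q
      rw [← QuotientGroup.mk_pow, QuotientGroup.eq_one_iff]
      exact hCN (T2 x)
    calc Nat.card X = Nat.card (X ⧸ N) * Nat.card N := h1
      _ ≤ 2 ^ r * 2 ^ s := Nat.mul_le_mul h3 h2
      _ = 2 ^ s * 2 ^ r := mul_comm _ _
  have hexp1 : ∀ x : X, x ^ 2 ^ (r + 1) = 1 := by
    apply hE (r + 1) (by omega)
    intro c hc
    have e : 2 ^ (r + 1) * (2 ^ (r + 1) - 1) / 2 = 2 ^ r * (2 ^ (r + 1) - 1) := by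
      generalize 2 ^ (r + 1) - 1 = m
      rw [pow_succ, mul_comm (2 ^ r) 2, mul_assoc, Nat.mul_div_cancel_left _ (by norm_num)]
    rw [e, pow_mul, hCexp c hc, one_pow]
  have hcardle : Nat.card (commutator X) ≤ 2 := by
    have h1 := hbound (r + 1) hexp1
    rw [T3] at h1
    have h2 : 2 ^ (r + 1) * 2 ^ r = 2 ^ (2 * r) * 2 := by
      rw [pow_succ, two_mul, pow_add]; ring
    rw [h2] at h1
    exact Nat.le_of_mul_le_mul_left h1 (by positivity)
  have hcard2 : Nat.card (commutator X) = 2 := by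
    apply le_antisymm hcardle
    have hCne : ∃ c ∈ commutator X, c ≠ 1 := by
      by_contra hcon
      push Not at hcon
      apply hab
      intro x y
      have h1 : ⁅x, y⁆ = 1 := hcon _ (hcommem x y)
      exact commutatorElement_eq_one_iff_mul_comm.mp h1
    obtain ⟨c, hc, hc1⟩ := hCne
    rw [Nat.succ_le_iff, Finite.one_lt_card_iff_nontrivial]
    exact ⟨⟨⟨c, hc⟩, 1, fun h => hc1 (congrArg Subtype.val h)⟩⟩
  have hCsq : ∀ c ∈ commutator X, c * c = 1 := by
    intro c hc
    have h1 : (⟨c, hc⟩ : commutator X) ^ Nat.card (commutator X) = 1 := pow_card_eq_one'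
    rw [hcard2] at h1
    have h2 := congrArg Subtype.val h1
    rw [Subgroup.coe_pow, Subgroup.coe_one, pow_two] at h2
    exact h2
  have hr : r = 1 := by
    by_contra hr'
    have hexp2 : ∀ x : X, x ^ 2 ^ r = 1 := by
      apply hE r le_rfl
      intro c hc
      obtain ⟨t, rfl⟩ : ∃ t, r = t + 2 := ⟨r - 2, by omega⟩
      have e : 2 ^ (t + 2) * (2 ^ (t + 2) - 1) / 2 = 2 * (2 ^ t * (2 ^ (t + 2) - 1)) := by
        generalize 2 ^ (t + 2) - 1 = m
        have e' : 2 ^ (t + 2) * m = 2 * (2 * (2 ^ t * m)) := by ring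
        rw [e', Nat.mul_div_cancel_left _ (by norm_num)]
      rw [e, pow_mul, pow_two, hCsq c hc, one_pow]
    have h1 := hbound r hexp2
    rw [T3, hcard2, two_mul, pow_add] at h1
    have h2 : 0 < 2 ^ r * 2 ^ r := by positivity
    linarith
  subst hr
  have hinvol : ∀ x : X, x * x = 1 → x ∈ commutator X := by
    intro x hxx
    by_contra hxC
    apply hab
    have hall : ∀ g : X, g * g = 1 := by
      haveI : Fintype (Abelianization X) := Fintype.ofFinite _
      obtain ⟨z, hz⟩ : ∃ z, z = Abelianization.of x := ⟨_, rfl⟩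
      have hz1 : z ≠ 1 := fun h => hxC ((hmemC x).mpr (by rw [← hz]; exact h))
      have hγz : γ z ≠ z := fun h => hz1 (hfpf z h)
      have hγγz : γ (γ z) ≠ z := by
        intro h
        obtain ⟨j, rfl⟩ := hk
        have h2 : ∀ i : ℕ, (γ ^ (2 * i)) z = z := by
          intro i
          induction i with
          | zero => rw [mul_zero, pow_zero, MulAut.one_apply]
          | succ i ih =>
            rw [mul_add, pow_add, MulAut.mul_apply, mul_one, pow_two, MulAut.mul_apply, h, ih]
        have h3 : (γ ^ (2 * j + 1)) z = z := by rw [hγk]; rfl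
        rw [pow_succ, MulAut.mul_apply] at h3
        exact hγz ((γ ^ (2 * j)).injective (h3.trans (h2 j).symm))
      have hS : ({1, z, γ z, γ (γ z)} : Finset (Abelianization X)).card = 4 := by
        rw [Finset.card_insert_of_notMem, Finset.card_insert_of_notMem,
          Finset.card_insert_of_notMem, Finset.card_singleton]
        · simp only [Finset.mem_singleton]
          intro h; exact hγz (γ.injective h).symm
        · simp only [Finset.mem_insert, Finset.mem_singleton, not_or]
          exact ⟨fun h => hγz h.symm, fun h => hγγz h.symm⟩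
        · simp only [Finset.mem_insert, Finset.mem_singleton, not_or]
          refine ⟨fun h => hz1 h.symm, fun h => hz1 ?_, fun h => hz1 ?_⟩
          · apply γ.injective; rw [← h, map_one]
          · apply γ.injective; apply γ.injective; rw [← h, map_one, map_one]
      have hSuniv : ({1, z, γ z, γ (γ z)} : Finset (Abelianization X)) = Finset.univ := by
        apply Finset.eq_univ_of_card
        rw [hS, ← Nat.card_eq_fintype_card, hcardAb]
        norm_num
      have hcoset : ∀ g y : X, y * y = 1 → Abelianization.of g = Abelianization.of y →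
          g * g = 1 := by
        intro g y hyy hgy
        have h1 : y⁻¹ * g ∈ commutator X := by
          rw [hmemC, map_mul, map_inv, hgy, inv_mul_cancel]
        have h2 : g = y * (y⁻¹ * g) := by rw [mul_inv_cancel_left]
        have h3 := hcent _ h1 y
        rw [h2]
        calc y * (y⁻¹ * g) * (y * (y⁻¹ * g))
            = y * ((y⁻¹ * g) * y) * (y⁻¹ * g) := by simp only [mul_assoc]
          _ = y * (y * (y⁻¹ * g)) * (y⁻¹ * g) := by rw [h3]
          _ = (y * y) * ((y⁻¹ * g) * (y⁻¹ * g)) := by simp only [mul_assoc]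
          _ = 1 := by rw [hyy, hCsq _ h1, one_mul]
      intro g
      have hg : Abelianization.of g ∈ ({1, z, γ z, γ (γ z)} : Finset (Abelianization X)) := by
        rw [hSuniv]; exact Finset.mem_univ _
      simp only [Finset.mem_insert, Finset.mem_singleton] at hg
      rcases hg with h | h | h | h
      · exact hCsq g ((hmemC g).mpr h)
      · exact hcoset g x hxx (by rw [h, hz])
      · exact hcoset g (β x) (by rw [← map_mul, hxx, map_one]) (by rw [h, hz, hγ])
      · exact hcoset g (β (β x)) (by rw [← map_mul, ← map_mul, hxx, map_one, map_one])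
          (by rw [h, hz, hγ, hγ])
    have hinv' : ∀ g : X, g⁻¹ = g := fun g => (eq_inv_of_mul_eq_one_left (hall g)).symm
    intro g h
    calc g * h = (g * h)⁻¹ := (hinv' _).symm
      _ = h⁻¹ * g⁻¹ := mul_inv_rev g h
      _ = h * g := by rw [hinv' h, hinv' g]
  haveI : Fact (Nat.Prime 2) := ⟨Nat.prime_two⟩
  have huniq : ∀ H K : Subgroup X, Nat.card H = 2 → Nat.card K = 2 → H = K := by
    have key : ∀ H : Subgroup X, Nat.card H = 2 → H = commutator X := by
      intro H hH
      have hle : H ≤ commutator X := by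
        intro h hh
        apply hinvol
        have h1 : (⟨h, hh⟩ : H) ^ Nat.card H = 1 := pow_card_eq_one'
        rw [hH] at h1
        have h2 := congrArg Subtype.val h1
        rw [Subgroup.coe_pow, Subgroup.coe_one, pow_two] at h2
        exact h2
      exact Subgroup.eq_of_le_of_card_ge hle (by rw [hH, hcard2])
    intro H K hH hK
    rw [key H hH, key K hK]
  have hpg : IsPGroup 2 X := hX
  rcases Cfsg.Agent.S0016.result 2 hpg huniq with hcyc | ⟨-, n, ⟨e⟩⟩
  · exfalso
    apply hab
    letI := @IsCyclic.commGroup X _ hcyc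
    intro x y
    exact mul_comm x y
  · have hcard8 : Nat.card X = 8 := by rw [T3, hcard2]; norm_num
    have h1 : Nat.card (QuaternionGroup (2 ^ n)) = 8 := by
      rw [← Nat.card_congr e.toEquiv, hcard8]
    rw [Nat.card_eq_fintype_card, QuaternionGroup.card] at h1
    have h2 : 2 ^ n = 2 := by omega
    rw [h2] at e
    exact ⟨e⟩

theorem result {X : Type*} [Group X] [Finite X] (hX : IsPGroup 2 X)
    (hm : Cfsg.IsMetacyclic X) (hA : ¬ IsPGroup 2 (MulAut X)) :
    Nonempty (X ≃* QuaternionGroup 2) ∨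
      ∃ n : ℕ, Nonempty (X ≃* Multiplicative (ZMod (2 ^ n)) × Multiplicative (ZMod (2 ^ n))) := by
  obtain ⟨N, hNn, hNc, hQc⟩ := hm
  obtain ⟨β, k, hk, hβ, hβ1⟩ := exists_odd_aut hA
  have hX' : ∀ g : X, ∃ N : ℕ, g ^ 2 ^ N = 1 := hX
  obtain ⟨a, ha⟩ := hNc.exists_generator
  obtain ⟨q, hq⟩ := hQc.exists_generator
  obtain ⟨b, rfl⟩ := QuotientGroup.mk_surjective q
  have hgen : ∀ g : X, ∃ i j : ℕ, g = (a : X) ^ i * b ^ j := by
    intro g
    have h1 := hq (QuotientGroup.mk g)
    rw [← (isOfFinOrder_of_finite _).mem_powers_iff_mem_zpowers, Submonoid.mem_powers_iff] at h1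
    obtain ⟨j, hj⟩ := h1
    have h2 : g * (b ^ j)⁻¹ ∈ N := by
      rw [← QuotientGroup.eq_one_iff, QuotientGroup.mk_mul, QuotientGroup.mk_inv,
        QuotientGroup.mk_pow, hj, mul_inv_cancel]
    have h3 := ha ⟨_, h2⟩
    rw [← (isOfFinOrder_of_finite _).mem_powers_iff_mem_zpowers, Submonoid.mem_powers_iff] at h3
    obtain ⟨i, hi⟩ := h3
    refine ⟨i, j, ?_⟩
    have h4 : (a : X) ^ i = g * (b ^ j)⁻¹ := by
      have h5 := congrArg Subtype.val hi
      rw [Subgroup.coe_pow] at h5
      exact h5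
    rw [h4, inv_mul_cancel_right]
  by_cases hab : ∀ x y : X, x * y = y * x
  · right
    obtain ⟨-, n, -, -, -, hiso⟩ := abelian_case hab hX' (a : X) b hgen β k hk hβ hβ1
    exact ⟨n, hiso⟩
  · left
    exact nonabelian hX' N hNc hQc (a : X) b hgen β k hk hβ hβ1 hab

end Cfsg.Agent.S1896
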