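import Cfsg.Statements.S5086
import Cfsg.Agent.Lib.Helper84.FusionApps

set_option autoImplicit false
open Cfsg

namespace Cfsg.Agent.S5086

/-- In a saturated fusion system over a finite p-group, a subgroup Q is normal in the system if and only if Q is strongly closed in the system and is contained in every centric-radical subgroup. -/
theorem result {Ω : Type*} [Group Ω] {S : Subgroup Ω} [Finite S] (p : ℕ) [Fact p.Prime] (hS : IsPGroup p S) (F : Cfsg.FusionSystem S) (hF : F.IsSaturated p) (Q : Subgroup Ω) : F.IsNormal Q ↔ (F.StronglyClosed Q ∧ ∀ P : Subgroup Ω, F.IsCentric P → F.IsRadical p P → Q ≤ P) := by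
  constructor
  · intro hQ
    exact ⟨Cfsg.Agent.Lib.Helper87.isNormal_stronglyClosed F hQ, fun P hc hr =>
      Cfsg.Agent.Lib.Helper84.le_of_normal_of_centric_of_pCore_le hS F hQ hc hr.2.le⟩
  · rintro ⟨hsc, hcr⟩
    apply Cfsg.Agent.Lib.Helper84.isNormal_of_forall_essential p hS F hF
    intro P hP
    have hPS : P ≤ S := by
      rcases hP with hP | hP
      · rw [hP]
      · exact hP.1.1
    have hQP : Q ≤ P := by
      rcases hP with hP | hP
      · rw [hP]; exact hsc.1
      · exact hcr P hP.1 (Cfsg.Agent.Lib.Helper84.radical_of_essential hS F hP)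
    refine ⟨hQP, fun α hα x hx => ?_⟩
    have hαF := (Cfsg.Agent.Lib.Helper84.mem_autGroup_iff F hPS α).1 hα
    exact hsc.2 Q le_rfl _ (Cfsg.Agent.Lib.Helper84.res_mem F hαF hQP) ⟨x, hx⟩

end Cfsg.Agent.S5086
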