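import Mathlib
import Cfsg.Statements.S4034
import Cfsg.Agent.Lib.Helper67.PRegB
import Cfsg.Agent.Lib.Helper1.Hall

set_option autoImplicit false
open Cfsg

namespace Cfsg.Agent.S4034

open Cfsg.Agent.Lib.Helper67 Cfsg.Agent.Lib.Helper67.PReg

/-- Let G be a finite group and p a prime. Every conjugacy class of p-regular elements of G (elements of order prime to p) has p-power size if and only if G has an abelian p-complement, i.e. an abelian subgroup of order prime to p and p-power index. -/
theorem result {G : Type*} [Group G] [Finite G] {p : ℕ} (hp : p.Prime) :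
    (∀ x : G, (orderOf x).Coprime p → ∃ k : ℕ, (ConjClasses.mk x).carrier.ncard = p ^ k) ↔
    (∃ H : Subgroup G, IsMulCommutative H ∧ ¬ p ∣ Nat.card H ∧ ∃ k : ℕ, H.index = p ^ k) := by
  constructor
  · intro h
    have hPRC : PRC p G := by
      intro x hx
      obtain ⟨k, hk⟩ := h x hx
      exact ⟨k, by rw [← ncard_conjClasses_carrier]; exact hk⟩
    have hsolv : Group.IsSolvable G := solvable_aux p hp _ G rfl hPRC
    have hn0 : Nat.card G ≠ 0 := Nat.card_pos.ne'
    have hG : Nat.card G = (Nat.card G / p ^ (Nat.card G).factorization p) *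
        p ^ (Nat.card G).factorization p := by
      rw [mul_comm]
      exact (Nat.ordProj_mul_ordCompl_eq_self (Nat.card G) p).symm
    have hmp : (Nat.card G / p ^ (Nat.card G).factorization p).Coprime p :=
      (Nat.coprime_ordCompl hp hn0).symm
    obtain ⟨H, hH⟩ := Cfsg.Agent.Lib.Helper1.hall_exists _ _ hG (Nat.Coprime.pow_right _ hmp)
    have hcomm := hall_comm_aux p hp _ G rfl hPRC _ _ hG hmp H hH
    refine ⟨H, ⟨⟨fun a b => Subtype.ext (hcomm a.1 a.2 b.1 b.2)⟩⟩, ?_, (Nat.card G).factorization p, ?_⟩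
    · rw [hH]
      exact (Nat.Prime.coprime_iff_not_dvd hp).mp hmp.symm
    · have h1 := H.card_mul_index
      rw [hH] at h1
      have hpos : 0 < Nat.card G / p ^ (Nat.card G).factorization p := by
        rcases Nat.eq_zero_or_pos (Nat.card G / p ^ (Nat.card G).factorization p) with h0 | h0
        · rw [h0, zero_mul] at hG
          exact absurd hG hn0
        · exact h0
      apply Nat.eq_of_mul_eq_mul_left hpos
      rw [h1]
      exact hG
  · rintro ⟨H, hHc, hpH, k, hidx⟩ x hx
    have hab : ∀ a ∈ H, ∀ b ∈ H, a * b = b * a := by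
      intro a ha b hb
      exact congrArg (fun t : ↥H => (t : G)) (hHc.is_comm.comm ⟨a, ha⟩ ⟨b, hb⟩)
    obtain ⟨d, -, hd⟩ := exists_conj_mem_hall hp H hab k hidx (orderOf x) ⊤ le_top x
      (Subgroup.mem_top x) (pow_orderOf_eq_one x) hx
    have hle : H ≤ Subgroup.centralizer ({d * x * d⁻¹} : Set G) := by
      intro h hh
      rw [Subgroup.mem_centralizer_singleton_iff]
      exact hab h hh _ hd
    have hdvd : (Subgroup.centralizer ({d * x * d⁻¹} : Set G)).index ∣ p ^ k := by
      rw [← hidx]
      exact Subgroup.index_dvd_of_le hle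
    obtain ⟨j, -, hj⟩ := (Nat.dvd_prime_pow hp).mp hdvd
    refine ⟨j, ?_⟩
    have hcl : ConjClasses.mk x = ConjClasses.mk (d * x * d⁻¹) :=
      ConjClasses.mk_eq_mk_iff_isConj.mpr (isConj_iff.mpr ⟨d, rfl⟩)
    rw [hcl, ncard_conjClasses_carrier]
    exact hj

end Cfsg.Agent.S4034
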