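import Mathlib
import Cfsg.Statements.S3802

set_option autoImplicit false
open Cfsg

namespace Cfsg.Agent.S3802

universe u

theorem aux : ∀ (n : ℕ) (G : Type u) [Group G] [Finite G], Nat.card G = n →
    ∀ (M N : Subgroup G), IsCoatom M → N.IsSubnormal → N ≤ M → N ≤ Subgroup.normalCore M := by
  intro n
  induction n using Nat.strong_induction_on with
  | _ n ih =>
    intro G _ _ hcard M N hM hN hNM
    have hNtop : N ≠ ⊤ := by
      rintro rfl
      exact hM.1 (top_le_iff.mp hNM)
    obtain ⟨K0, hK0n, hNK0, hK0top⟩ := hN.exists_normal_and_le_and_lt_top_of_ne hNtop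
    -- the normal closure of N
    set K : Subgroup G := Subgroup.normalClosure (N : Set G) with hK
    have hNK : N ≤ K := Subgroup.le_normalClosure
    have hKK0 : K ≤ K0 := Subgroup.normalClosure_le_normal hNK0
    have hKtop : K ≠ ⊤ := fun h => hK0top.ne (top_le_iff.mp (h ▸ hKK0))
    by_cases hKM : K ≤ M
    · exact hNK.trans (Subgroup.normal_le_normalCore.mpr hKM)
    · exfalso
      have hsup : K ⊔ M = ⊤ := by
        by_contra hne
        have h1 : M ≤ K ⊔ M := le_sup_right
        rcases eq_or_lt_of_le h1 with h2 | h2
        · exact hKM (h2 ▸ le_sup_left)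
        · exact hne (hM.2 _ h2)
      have hMK : M.subgroupOf K ≠ ⊤ := by
        intro h
        exact hKM (Subgroup.subgroupOf_eq_top.mp h)
      obtain ⟨X, hX, hMX⟩ := (eq_top_or_exists_le_coatom (M.subgroupOf K)).resolve_left hMK
      have hcardK : Nat.card K < n := by
        have h1 : Nat.card K ≤ Nat.card G := Subgroup.card_le_card_group K
        have h2 : Nat.card K ≠ Nat.card G := fun h => hKtop ((Subgroup.card_eq_iff_eq_top K).mp h)
        omega
      -- every conjugate of N lies in the core of X
      have hconj : ∀ g : G, ∀ x ∈ N, ∃ hx : g * x * g⁻¹ ∈ K,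
          (⟨g * x * g⁻¹, hx⟩ : K) ∈ Subgroup.normalCore X := by
        intro g x hx
        have hg : g ∈ K ⊔ M := by rw [hsup]; trivial
        rw [← SetLike.mem_coe, Subgroup.normal_mul, Set.mem_mul] at hg
        obtain ⟨k, hk, m, hm, rfl⟩ := hg
        -- the conjugate of N by m
        have hsub : (N.map (MulAut.conj m).toMonoidHom).IsSubnormal :=
          hN.map (MulAut.conj m).surjective
        have hsubK : ((N.map (MulAut.conj m).toMonoidHom).subgroupOf K).IsSubnormal :=
          hsub.subgroupOf
        have hle : (N.map (MulAut.conj m).toMonoidHom).subgroupOf K ≤ X := by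
          refine le_trans ?_ hMX
          intro y hy
          rw [Subgroup.mem_subgroupOf] at hy ⊢
          obtain ⟨z, hz, hzy⟩ := hy
          rw [← hzy]
          simp only [MulEquiv.toMonoidHom_eq_coe, MonoidHom.coe_coe, MulAut.conj_apply]
          exact M.mul_mem (M.mul_mem hm (hNM hz)) (M.inv_mem hm)
        have hcore := ih (Nat.card K) hcardK K rfl X _ hX hsubK hle
        have hmx : m * x * m⁻¹ ∈ K :=
          Subgroup.Normal.conj_mem inferInstance x (hNK hx) m
        have h1 : (⟨m * x * m⁻¹, hmx⟩ : K) ∈ Subgroup.normalCore X := by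
          apply hcore
          rw [Subgroup.mem_subgroupOf]
          exact ⟨x, hx, by simp⟩
        have hkx : k * m * x * (k * m)⁻¹ ∈ K :=
          Subgroup.Normal.conj_mem inferInstance x (hNK hx) (k * m)
        refine ⟨hkx, ?_⟩
        have h2 := Subgroup.Normal.conj_mem (Subgroup.normalCore_normal X) _ h1 ⟨k, hk⟩
        have e : (⟨k * m * x * (k * m)⁻¹, hkx⟩ : K) = ⟨k, hk⟩ * ⟨m * x * m⁻¹, hmx⟩ * ⟨k, hk⟩⁻¹ := by
          apply Subtype.ext
          simp only [Subgroup.coe_mul, Subgroup.coe_inv]
          group
        rw [e]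
        exact h2
      -- hence K ≤ image of the core of X
      have hKC : K ≤ (Subgroup.normalCore X).map K.subtype := by
        change Subgroup.closure (Group.conjugatesOfSet (N : Set G)) ≤ _
        rw [Subgroup.closure_le]
        intro y hy
        rw [Group.mem_conjugatesOfSet_iff] at hy
        obtain ⟨x, hx, hxy⟩ := hy
        rw [isConj_iff] at hxy
        obtain ⟨g, rfl⟩ := hxy
        obtain ⟨h1, h2⟩ := hconj g x hx
        exact ⟨⟨g * x * g⁻¹, h1⟩, h2, rfl⟩
      apply hX.1
      rw [eq_top_iff]
      intro y _
      obtain ⟨c, hc, hcy⟩ := hKC y.2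
      have : c = y := Subtype.ext hcy
      rw [← this]
      exact Subgroup.normalCore_le X hc

/-- Let G be a finite group, M a maximal subgroup of G and N a subnormal subgroup of G contained in M. Then N is contained in every conjugate of M, that is, N lies in the core of M in G. -/
theorem result {G : Type*} [Group G] [Finite G] (M N : Subgroup G) (hM : IsCoatom M) (hN : N.IsSubnormal) (hNM : N ≤ M) :
    N ≤ Subgroup.normalCore M := by
  exact aux (Nat.card G) G rfl M N hM hN hNM

end Cfsg.Agent.S3802
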