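import Cfsg.Statements.S2845
import Mathlib
import Cfsg.Agent.Lib.Helper47.Large
import Cfsg.Agent.Lib.Helper47.Subn
import Cfsg.Agent.Lib.Helper47.PRedSub
import Cfsg.Agent.Lib.Helper48.SPE
import Cfsg.Agent.Lib.Helper48.ChainStab

set_option autoImplicit false
open Cfsg

namespace Cfsg.Agent.S2845
open scoped commutatorElement

open Cfsg.Agent.Lib.Helper47 Cfsg.Agent.Lib.Helper48

/-- For a large `p`-subgroup `Q ≠ 1` inside `L` with `O_p(L) ≠ 1`: `C_H(O_p(L))` is a `p`-group. -/
theorem large_centralizer_isPGroup {H : Type*} [Group H] [Finite H] {p : ℕ} [Fact p.Prime]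
    (Q : Subgroup H) (hQp : IsPGroup p ↥Q) (hL : Cfsg.IsLarge Q)
    (L : Subgroup H) (hQL : Q ≤ L) (hne : Cfsg.pCore p ↥L ≠ ⊥) :
    IsPGroup p ↥(Subgroup.centralizer ((Cfsg.pCoreOf p L : Subgroup H) : Set H)) := by
  have hRp : IsPGroup p (Cfsg.pCoreOf p L) := pCoreOf_isPGroup p L
  have hLR : L ≤ Subgroup.normalizer ((Cfsg.pCoreOf p L : Subgroup H) : Set H) :=
    le_normalizer_pCoreOf p L
  have hRne : Cfsg.pCoreOf p L ≠ ⊥ := by
    intro h
    apply hne
    exact (Subgroup.map_eq_bot_iff_of_injective _ L.subtype_injective).mp h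
  have hK : IsPGroup p ↥(Q ⊔ Cfsg.pCoreOf p L) :=
    IsPGroup.to_sup_of_normal_right' hQp hRp (hQL.trans hLR)
  obtain ⟨z, hzR, hzo, hzc⟩ := exists_central_orderOf_eq_prime (Q ⊔ Cfsg.pCoreOf p L)
    (Cfsg.pCoreOf p L) hK le_sup_right hRne (sup_le (hQL.trans hLR) Subgroup.le_normalizer)
  have hU : Subgroup.zpowers z ≤ Subgroup.centralizer (Q : Set H) := by
    rw [Subgroup.zpowers_le, Subgroup.mem_centralizer_iff]
    intro q hq
    exact hzc q ((le_sup_left : Q ≤ Q ⊔ Cfsg.pCoreOf p L) hq)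
  have hUne : Subgroup.zpowers z ≠ ⊥ := by
    intro h
    rw [Subgroup.zpowers_eq_bot] at h
    rw [h, orderOf_one] at hzo
    exact (Fact.out : p.Prime).one_lt.ne hzo
  have hN := hL.2 _ hU hUne
  have hCN : Subgroup.centralizer ((Cfsg.pCoreOf p L : Subgroup H) : Set H) ≤
      Subgroup.normalizer (Q : Set H) := by
    intro c hc
    apply hN
    apply Subgroup.centralizer_le_normalizer
    rw [Subgroup.mem_centralizer_iff]
    rintro _ ⟨k, rfl⟩
    have hcz : Commute z c := (Subgroup.mem_centralizer_iff.mp hc) z hzR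
    exact (hcz.zpow_left k).eq
  have hLC : L ≤ Subgroup.normalizer
      ((Subgroup.centralizer ((Cfsg.pCoreOf p L : Subgroup H) : Set H) : Subgroup H) : Set H) :=
    hLR.trans (normalizer_le_normalizer_centralizer _)
  have hQ1R : Q ⊓ Subgroup.centralizer ((Cfsg.pCoreOf p L : Subgroup H) : Set H) ≤
      Cfsg.pCoreOf p L := by
    have hN1 : Subgroup.centralizer ((Cfsg.pCoreOf p L : Subgroup H) : Set H) ⊓ L ≤
        Subgroup.normalizer ((Q ⊓ Subgroup.centralizer ((Cfsg.pCoreOf p L : Subgroup H) : Set H)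
          : Subgroup H) : Set H) :=
      (le_inf (inf_le_left.trans hCN) (inf_le_left.trans Subgroup.le_normalizer)).trans
        Subgroup.inf_normalizer_le_normalizer_inf
    have h1 : Q ⊓ Subgroup.centralizer ((Cfsg.pCoreOf p L : Subgroup H) : Set H) ≤
        Cfsg.pCoreOf p (Subgroup.centralizer ((Cfsg.pCoreOf p L : Subgroup H) : Set H) ⊓ L) :=
      le_pCoreOf_of_le_normalizer (hQp.to_le inf_le_left)
        (le_inf inf_le_right (inf_le_left.trans hQL)) hN1
    have hLCL : L ≤ Subgroup.normalizer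
        ((Subgroup.centralizer ((Cfsg.pCoreOf p L : Subgroup H) : Set H) ⊓ L : Subgroup H) : Set H) :=
      (le_inf hLC Subgroup.le_normalizer).trans Subgroup.inf_normalizer_le_normalizer_inf
    have h2 : Cfsg.pCoreOf p (Subgroup.centralizer ((Cfsg.pCoreOf p L : Subgroup H) : Set H) ⊓ L) ≤
        Cfsg.pCoreOf p L :=
      le_pCoreOf_of_le_normalizer (pCoreOf_isPGroup p _) ((pCoreOf_le p _).trans inf_le_right)
        (hLCL.trans (normalizer_le_normalizer_pCoreOf p _))
    exact h1.trans h2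
  apply isPGroup_of_forall_coprime_eq_one
  intro x hx hcop
  have hxQ : x ∈ Subgroup.centralizer (Q : Set H) := by
    apply chainStab_coprime_centralizes
      (Q ⊓ Subgroup.centralizer ((Cfsg.pCoreOf p L : Subgroup H) : Set H)) Q
      (hQp.to_le inf_le_left) x _ hcop
    refine ⟨fun d hd => ?_, fun z hz => ⟨?_, ?_⟩⟩
    · have := (Subgroup.mem_centralizer_iff.mp hx) d (hQ1R hd)
      rw [← this]; group
    · exact Q.mul_mem ((Subgroup.mem_normalizer_iff.mp (hCN hx) z).mp hz) (Q.inv_mem hz)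
    · have h1 : z * x⁻¹ * z⁻¹ ∈ Subgroup.centralizer ((Cfsg.pCoreOf p L : Subgroup H) : Set H) :=
        (Subgroup.mem_normalizer_iff.mp (hLC (hQL hz)) x⁻¹).mp (Subgroup.inv_mem _ hx)
      have e : x * z * x⁻¹ * z⁻¹ = x * (z * x⁻¹ * z⁻¹) := by group
      rw [e]; exact Subgroup.mul_mem _ hx h1
  have hxQ' : x ∈ Q := hL.1 hxQ
  obtain ⟨k, hk⟩ := hQp ⟨x, hxQ'⟩
  have hk' : x ^ (p ^ k) = 1 := by simpa [Subtype.ext_iff] using hk
  have hdvd : orderOf x ∣ p ^ k := orderOf_dvd_of_pow_eq_one hk'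
  have : orderOf x = 1 := Nat.Coprime.eq_one_of_dvd (hcop.pow_right k) hdvd
  exact orderOf_eq_one_iff.mp this

/-- Characteristic `p` from the ambient form. -/
theorem charp_of_ambient {H : Type*} [Group H] {p : ℕ} (L : Subgroup H)
    (h : Subgroup.centralizer ((Cfsg.pCoreOf p L : Subgroup H) : Set H) ⊓ L ≤ Cfsg.pCoreOf p L) :
    Subgroup.centralizer (Cfsg.pCore p ↥L : Set ↥L) ≤ Cfsg.pCore p ↥L := by
  intro x hx
  have hx' : (x : H) ∈ Subgroup.centralizer ((Cfsg.pCoreOf p L : Subgroup H) : Set H) := by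
    rw [Subgroup.mem_centralizer_iff]
    rintro _ ⟨y, hy, rfl⟩
    have := (Subgroup.mem_centralizer_iff.mp hx) y hy
    exact congrArg Subtype.val this
  obtain ⟨y, hy, hyx⟩ := h ⟨hx', x.2⟩
  have : y = x := Subtype.ext hyx
  rw [← this]; exact hy

/-- A parabolic subgroup with `O_p ≠ 1` in a group with a large `p`-subgroup: `C_H(O_p(R)) ≤ O_p(R)`. -/
theorem large_parabolic {H : Type*} [Group H] [Finite H] {p : ℕ} [Fact p.Prime]
    (Q : Subgroup H) (hQp : IsPGroup p ↥Q) (hL : Cfsg.IsLarge Q)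
    (R : Subgroup H) (hR : Cfsg.IsParabolic p R) (hne : Cfsg.pCore p ↥R ≠ ⊥) :
    Subgroup.centralizer ((Cfsg.pCoreOf p R : Subgroup H) : Set H) ≤ Cfsg.pCoreOf p R := by
  obtain ⟨T, hTR⟩ := hR
  obtain ⟨T', hQT'⟩ := hQp.exists_le_sylow
  obtain ⟨g, hg⟩ := MulAction.exists_smul_eq H T' T
  -- the conjugate of Q by g lies in T
  have hQg : Q.map (MulAut.conj g).toMonoidHom ≤ (T : Subgroup H) := by
    rintro _ ⟨q, hq, rfl⟩
    rw [← hg, Sylow.coe_subgroup_smul]
    exact Subgroup.smul_mem_pointwise_smul _ _ _ (hQT' hq)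
  have hQgp : IsPGroup p ↥(Q.map (MulAut.conj g).toMonoidHom) := hQp.map _
  have hC := large_centralizer_isPGroup (Q.map (MulAut.conj g).toMonoidHom) hQgp
    (isLarge_map_conj hL g) R (hQg.trans hTR) hne
  have hRN : R ≤ Subgroup.normalizer
      ((Subgroup.centralizer ((Cfsg.pCoreOf p R : Subgroup H) : Set H) : Subgroup H) : Set H) :=
    (le_normalizer_pCoreOf p R).trans (normalizer_le_normalizer_centralizer _)
  have hTC : IsPGroup p ↥((T : Subgroup H) ⊔
      Subgroup.centralizer ((Cfsg.pCoreOf p R : Subgroup H) : Set H)) :=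
    IsPGroup.to_sup_of_normal_right' T.isPGroup' hC (hTR.trans hRN)
  have hCT : Subgroup.centralizer ((Cfsg.pCoreOf p R : Subgroup H) : Set H) ≤ (T : Subgroup H) := by
    have := T.is_maximal' hTC le_sup_left
    rw [← this]; exact le_sup_right
  exact le_pCoreOf_of_le_normalizer hC (hCT.trans hTR) hRN

/-- Let Q be a nontrivial large p-subgroup of the finite group H. Then for every subgroup L ≥ Q with O_p(L) ≠ 1, C_H(O_p(L)) is a p-group and L has characteristic p, and either the weak closure L° of Q in L equals Q or C_H(L°) = 1; for every subgroup R of H containing a Sylow p-subgroup of H with O_p(R) ≠ 1, C_H(O_p(R)) ≤ O_p(R); and H has parabolic characteristic p. -/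
theorem result {H : Type*} [Group H] [Finite H] {p : ℕ} [Fact p.Prime] (Q : Subgroup H) (hQp : IsPGroup p ↥Q) (hQ1 : Q ≠ ⊥) (hL : Cfsg.IsLarge Q) : (∀ L : Subgroup H, Q ≤ L → Cfsg.pCore p ↥L ≠ ⊥ → IsPGroup p ↥(Subgroup.centralizer (((Cfsg.pCoreOf p L) : Subgroup H) : Set H)) ∧ Subgroup.centralizer (Cfsg.pCore p ↥L : Set ↥L) ≤ Cfsg.pCore p ↥L ∧ (Cfsg.weakClosure Q L = Q ∨ Subgroup.centralizer (((Cfsg.weakClosure Q L) : Subgroup H) : Set H) = ⊥)) ∧ (∀ R : Subgroup H, Cfsg.IsParabolic p R → Cfsg.pCore p ↥R ≠ ⊥ → Subgroup.centralizer (((Cfsg.pCoreOf p R) : Subgroup H) : Set H) ≤ (Cfsg.pCoreOf p R)) ∧ Cfsg.IsOfParabolicCharacteristic p H := by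
  refine ⟨fun L hQL hne => ?_, fun R hR hne => large_parabolic Q hQp hL R hR hne, ?_⟩
  · have hC := large_centralizer_isPGroup Q hQp hL L hQL hne
    refine ⟨hC, ?_, ?_⟩
    · apply charp_of_ambient
      exact le_pCoreOf_of_le_normalizer (hC.to_le inf_le_left) inf_le_right
        ((le_inf ((le_normalizer_pCoreOf p L).trans (normalizer_le_normalizer_centralizer _))
          Subgroup.le_normalizer).trans Subgroup.inf_normalizer_le_normalizer_inf)
    · by_cases hW : Subgroup.centralizer (((Cfsg.weakClosure Q L) : Subgroup H) : Set H) = ⊥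
      · exact Or.inr hW
      · left
        have hQW : Q ≤ Cfsg.weakClosure Q L := by
          have h1 : Q.map (MulAut.conj (1 : H)).toMonoidHom ≤ L := by
            rintro _ ⟨q, hq, rfl⟩
            simpa using hQL hq
          have h2 := le_iSup (fun g : {g : H // Q.map (MulAut.conj g).toMonoidHom ≤ L} =>
            Q.map (MulAut.conj (g : H)).toMonoidHom) ⟨1, h1⟩
          intro q hq
          exact h2 ⟨q, hq, by simp⟩
        have hU : Subgroup.centralizer (((Cfsg.weakClosure Q L) : Subgroup H) : Set H) ≤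
            Subgroup.centralizer (Q : Set H) := Subgroup.centralizer_le hQW
        have hN := hL.2 _ hU hW
        have hWN : Cfsg.weakClosure Q L ≤ Subgroup.normalizer (Q : Set H) :=
          (Subgroup.le_normalizer.trans (normalizer_le_normalizer_centralizer _)).trans hN
        apply le_antisymm _ hQW
        apply iSup_le
        rintro ⟨g, hg⟩
        have hgW : Q.map (MulAut.conj g).toMonoidHom ≤ Cfsg.weakClosure Q L :=
          le_iSup (fun g : {g : H // Q.map (MulAut.conj g).toMonoidHom ≤ L} =>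
            Q.map (MulAut.conj (g : H)).toMonoidHom) ⟨g, hg⟩
        have hP : IsPGroup p ↥(Q.map (MulAut.conj g).toMonoidHom ⊔ Q) :=
          IsPGroup.to_sup_of_normal_right' (hQp.map _) hQp (hgW.trans hWN)
        obtain ⟨T, hT⟩ := hP.exists_le_sylow
        have hgn := IsLarge_mem_normalizer_of_le_sylow hL hQ1 T (le_sup_right.trans hT) g
          (le_sup_left.trans hT)
        exact (map_conj_eq_of_mem_normalizer hgn).le
  · intro R hRp hR1 hpar
    have hne : Cfsg.pCore p ↥(Subgroup.normalizer (R : Set H)) ≠ ⊥ := by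
      intro h
      apply hR1
      have h1 := le_pCoreOf_normalizer hRp
      have h2 : Cfsg.pCoreOf p (Subgroup.normalizer (R : Set H)) = ⊥ := by
        unfold Cfsg.pCoreOf
        rw [h, Subgroup.map_bot]
      rw [h2] at h1
      exact le_bot_iff.mp h1
    apply charp_of_ambient
    exact inf_le_left.trans (large_parabolic Q hQp hL _ hpar hne)

end Cfsg.Agent.S2845
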