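import Cfsg.Statements.S2815
import Mathlib
import Cfsg.Agent.Lib.Helper48.QuasiRes

set_option autoImplicit false
open Cfsg

namespace Cfsg.Agent.S2815

open Cfsg.Agent.Lib.Helper48
open scoped commutatorElement

/-- Let H be a finite group and p a prime dividing its order with O_p(H) = 1, and suppose K = O^p(H) (generated by the elements of order prime to p) is quasisimple. Then K = F*(H); for every nontrivial p-subgroup Y of H, K = [K, Y] and K lies in the subgroup generated by the K-conjugates of Y; every normal subgroup of H not containing K has order prime to p; and H is p-irreducible. -/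
theorem result {H : Type*} [Group H] [Finite H] {p : ℕ} [Fact p.Prime] (hp : p ∣ Nat.card H) (hO : Cfsg.pCore p H = ⊥) (hq : Cfsg.IsQuasisimple ↥(Cfsg.pResidual p H)) : Cfsg.pResidual p H = Cfsg.generalizedFittingSubgroup H ∧ (∀ Y : Subgroup H, IsPGroup p ↥Y → Y ≠ ⊥ → ⁅Cfsg.pResidual p H, Y⁆ = Cfsg.pResidual p H ∧ Cfsg.pResidual p H ≤ ⨆ k : ↥(Cfsg.pResidual p H), Y.map (MulAut.conj (k : H)).toMonoidHom) ∧ (∀ C : Subgroup H, C.Normal → ¬ Cfsg.pResidual p H ≤ C → (Nat.card ↥C).Coprime p) ∧ Cfsg.IsPIrreducible p H := by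
  classical
  haveI hKn : (Cfsg.pResidual p H).Normal := pResidual_normal' p H
  obtain ⟨hFstar, hcent, hcomm⟩ := quasiRes_structure hO hq
  have hKc : Cfsg.IsComponent (Cfsg.pResidual p H) := ⟨hKn.isSubnormal, hq⟩
  have hperf := Cfsg.Agent.Lib.Helper22.IsComponent.perfect hKc
  have hFp := not_dvd_card_fitting (p := p) hO
  have h3 : ∀ C : Subgroup H, C.Normal → ¬ Cfsg.pResidual p H ≤ C → (Nat.card ↥C).Coprime p := by
    intro C hCn hne
    haveI := hCn
    have hD : ⁅C ⊓ Cfsg.pResidual p H, Cfsg.pResidual p H⁆ = ⊥ := by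
      apply hcomm _ inf_le_right
      · have hn : (C ⊓ Cfsg.pResidual p H).Normal := inferInstance
        rw [Subgroup.normalizer_eq_top]; exact le_top
      · intro h; exact hne (le_trans h inf_le_left)
    have h1 : ⁅⁅C, Cfsg.pResidual p H⁆, Cfsg.pResidual p H⁆ = ⊥ := by
      rw [eq_bot_iff, ← hD]
      exact Subgroup.commutator_mono
        (le_inf (Subgroup.commutator_le_left _ _) (Subgroup.commutator_le_right _ _)) le_rfl
    have h2 := Cfsg.Agent.Lib.Helper22.commutator_eq_bot_of_perfect hperf h1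
    rw [Subgroup.commutator_comm, Subgroup.commutator_eq_bot_iff_le_centralizer] at h2
    have h5 := hcent C h2
    have h4 : ¬ p ∣ Nat.card C := fun hd => hFp (hd.trans (Subgroup.card_dvd_of_le h5))
    exact ((Nat.Prime.coprime_iff_not_dvd Fact.out).mpr h4).symm
  refine ⟨hFstar, ?_, h3, ?_⟩
  · intro Y hYp hY1
    have hKY : ⁅Cfsg.pResidual p H, Y⁆ = Cfsg.pResidual p H := by
      by_contra hne
      have hle : ⁅Cfsg.pResidual p H, Y⁆ ≤ Cfsg.pResidual p H := Subgroup.commutator_le_left _ _
      have hD := hcomm _ hle (Cfsg.Agent.Lib.Helper22.le_normalizer_commutator_left _ Y)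
        (fun h => hne (le_antisymm hle h))
      have h1 : ⁅⁅Y, Cfsg.pResidual p H⁆, Cfsg.pResidual p H⁆ = ⊥ := by
        rw [Subgroup.commutator_comm Y]; exact hD
      have h2 := Cfsg.Agent.Lib.Helper22.commutator_eq_bot_of_perfect hperf h1
      rw [Subgroup.commutator_comm, Subgroup.commutator_eq_bot_iff_le_centralizer] at h2
      exact hY1 (eq_bot_of_isPGroup_of_le hYp (hcent Y h2) hFp)
    refine ⟨hKY, ?_⟩
    have h6 : ⁅Cfsg.pResidual p H, Y⁆ ≤ conjSup (Cfsg.pResidual p H) Y := by
      rw [Subgroup.commutator_le]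
      intro k hk y hy
      rw [commutatorElement_def]
      have h1 : k * y * k⁻¹ ∈ conjSup (Cfsg.pResidual p H) Y :=
        (le_iSup (fun s : ↥(Cfsg.pResidual p H) => Y.map (MulAut.conj (s : H)).toMonoidHom)
          ⟨k, hk⟩) ⟨y, hy, rfl⟩
      exact Subgroup.mul_mem _ h1 (Subgroup.inv_mem _ (le_conjSup _ Y hy))
    rw [hKY] at h6
    exact h6
  · constructor
    · intro hcl
      have P : Sylow p H := default
      have hPn := hcl P
      have hle : (P : Subgroup H) ≤ Cfsg.pCore p H := le_pCore' hPn P.isPGroup'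
      rw [hO] at hle
      exact P.ne_bot_of_dvd_card hp (le_bot_iff.mp hle)
    · intro N hNn hncl
      by_contra hne
      apply hncl
      have hcop := h3 N hNn hne
      have hnd : ¬ p ∣ Nat.card N := (Nat.Prime.coprime_iff_not_dvd Fact.out).mp hcop.symm
      intro P
      have hPb : (P : Subgroup N) = ⊥ := by
        apply Subgroup.card_eq_one.mp
        rw [P.card_eq_multiplicity, Nat.factorization_eq_zero_of_not_dvd hnd, pow_zero]
      rw [hPb]; infer_instance

end Cfsg.Agent.S2815
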