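import Cfsg.Statements.S1003
import Cfsg.Agent.Lib.Helper17.Small
import Cfsg.Agent.Lib.Helper17.Simple

set_option autoImplicit false
open Cfsg
open Cfsg.Agent.Lib.Helper17

namespace Cfsg.Agent.S1003

/-- A simple group of order 168 has exactly 21 Sylow 2-subgroups, 28 Sylow 3-subgroups and 8 Sylow 7-subgroups. -/
theorem result {G : Type*} [Group G] [Finite G] [IsSimpleGroup G] (h : Nat.card G = 168) : Nat.card (Sylow 2 G) = 21 ∧ Nat.card (Sylow 3 G) = 28 ∧ Nat.card (Sylow 7 G) = 8 := by
  have hnp : ¬ (Nat.card G).Prime := by rw [h]; norm_num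
  have i2 : Fact (Nat.Prime 2) := ⟨by norm_num⟩
  have i3 : Fact (Nat.Prime 3) := ⟨by norm_num⟩
  have i7 : Fact (Nat.Prime 7) := ⟨by norm_num⟩
  -- n_7 = 8
  have h7 : Nat.card (Sylow 7 G) = 8 := by
    have hc := card_sylow_mem_cands (G := G) 7 1 24 (by rw [h]; norm_num) (by norm_num)
    have hcl : sylowCands 7 24 = [1, 8] := by decide +kernel
    rw [hcl] at hc
    have h1 : Nat.card (Sylow 7 G) ≠ 1 :=
      card_sylow_ne_one 7 (by rw [h]; norm_num) 2 (by norm_num) (by norm_num) (by rw [h]; norm_num)
    simp only [List.mem_cons, List.not_mem_nil, or_false] at hc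
    rcases hc with hc | hc
    · exact absurd hc h1
    · exact hc
  obtain ⟨P7⟩ := (Sylow.nonempty : Nonempty (Sylow 7 G))
  have hP7 : Nat.card (P7 : Subgroup G) = 7 := by
    have := card_sylow_eq_of_card_eq (G := G) 7 1 24 (by rw [h]; norm_num) (by norm_num) P7
    simpa using this
  have hN7 : Nat.card (Subgroup.normalizer ((P7 : Subgroup G) : Set G)) = 21 := by
    have := card_sylow_mul_card_normalizer 7 P7
    rw [h7, h] at this
    omega
  have hC7 : Nat.card (Subgroup.centralizer ((P7 : Subgroup G) : Set G)) = 7 := by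
    obtain ⟨r1, r2, r3, r4⟩ := relIndex_centralizer_sylow_prime hnp 7 P7 hP7
    rw [hN7] at r3
    have h7c : 7 ∣ Nat.card (Subgroup.centralizer ((P7 : Subgroup G) : Set G)) := by
      have := Subgroup.card_dvd_of_le r4
      rwa [hP7] at this
    generalize (Subgroup.centralizer ((P7 : Subgroup G) : Set G)).relIndex
        (Subgroup.normalizer ((P7 : Subgroup G) : Set G)) = ri at r1 r2 r3
    generalize Nat.card (Subgroup.centralizer ((P7 : Subgroup G) : Set G)) = c at r3 h7c ⊢
    have hri : ri ≤ 6 := Nat.le_of_dvd (by norm_num) r2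
    interval_cases ri <;> omega
  -- n_3 = 28
  have h3 : Nat.card (Sylow 3 G) = 28 := by
    have hc := card_sylow_mem_cands (G := G) 3 1 56 (by rw [h]; norm_num) (by norm_num)
    have hcl : sylowCands 3 56 = [1, 4, 7, 28] := by decide +kernel
    rw [hcl] at hc
    have h1 : Nat.card (Sylow 3 G) ≠ 1 :=
      card_sylow_ne_one 3 (by rw [h]; norm_num) 2 (by norm_num) (by norm_num) (by rw [h]; norm_num)
    have hf := card_dvd_factorial_card_sylow 3 h1
    rw [h] at hf
    simp only [List.mem_cons, List.not_mem_nil, or_false] at hc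
    rcases hc with hc | hc | hc | hc
    · exact absurd hc h1
    · exfalso
      rw [hc] at hf
      revert hf
      decide
    · exfalso
      obtain ⟨P3⟩ := (Sylow.nonempty : Nonempty (Sylow 3 G))
      have hP3 : Nat.card (P3 : Subgroup G) = 3 := by
        have := card_sylow_eq_of_card_eq (G := G) 3 1 56 (by rw [h]; norm_num) (by norm_num) P3
        simpa using this
      have hcount := card_orderOf_eq_prime 3 P3 hP3
      rw [hc] at hcount
      have hsub : ((Subgroup.normalizer ((P7 : Subgroup G) : Set G) : Set G) \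
          ((P7 : Subgroup G) : Set G)) ⊆ {x : G | orderOf x = 3} := fun y hy =>
        orderOf_eq_of_mem_normalizer_not_mem 7 3 (by norm_num) P7 hP7 hN7 hC7 y hy.1 hy.2
      have hcardA : ((Subgroup.normalizer ((P7 : Subgroup G) : Set G) : Set G) \
          ((P7 : Subgroup G) : Set G)).ncard = 14 := by
        rw [Set.ncard_sdiff (Subgroup.le_normalizer (H := (P7 : Subgroup G))) (Set.toFinite _)]
        have e1 : ((Subgroup.normalizer ((P7 : Subgroup G) : Set G) : Set G)).ncard = 21 := by
          rw [← Nat.card_coe_set_eq]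
          exact hN7
        have e2 : (((P7 : Subgroup G) : Set G)).ncard = 7 := by
          rw [← Nat.card_coe_set_eq]
          exact hP7
        rw [e1, e2]
      have hS : {x : G | orderOf x = 3}.ncard = 14 := by
        rw [← Nat.card_coe_set_eq]
        exact hcount
      have heq := Set.eq_of_subset_of_ncard_le hsub (by rw [hS, hcardA]) (Set.toFinite _)
      have hall : ∀ x : G, orderOf x = 3 →
          x ∈ Subgroup.normalizer ((P7 : Subgroup G) : Set G) := by
        intro x hx
        have hx' : x ∈ {x : G | orderOf x = 3} := hx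
        rw [← heq] at hx'
        exact hx'.1
      obtain ⟨x₀, hx₀⟩ := exists_prime_orderOf_dvd_card' (G := G) 3 (by rw [h]; norm_num)
      have htop := eq_top_of_forall_orderOf_mem 3 (by norm_num) x₀ hx₀ _ hall
      rw [htop, Subgroup.card_top, h] at hN7
      omega
    · exact hc
  -- centralizers of Sylow 3-subgroups
  have hC3 : ∀ P3 : Sylow 3 G, Nat.card (P3 : Subgroup G) = 3 ∧
      Nat.card (Subgroup.centralizer ((P3 : Subgroup G) : Set G)) = 3 := by
    intro P3
    have hP3 : Nat.card (P3 : Subgroup G) = 3 := by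
      have := card_sylow_eq_of_card_eq (G := G) 3 1 56 (by rw [h]; norm_num) (by norm_num) P3
      simpa using this
    have hN3 : Nat.card (Subgroup.normalizer ((P3 : Subgroup G) : Set G)) = 6 := by
      have := card_sylow_mul_card_normalizer 3 P3
      rw [h3, h] at this
      omega
    obtain ⟨r1, r2, r3, r4⟩ := relIndex_centralizer_sylow_prime hnp 3 P3 hP3
    rw [hN3] at r3
    have h3c : 3 ∣ Nat.card (Subgroup.centralizer ((P3 : Subgroup G) : Set G)) := by
      have := Subgroup.card_dvd_of_le r4
      rwa [hP3] at this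
    refine ⟨hP3, ?_⟩
    generalize (Subgroup.centralizer ((P3 : Subgroup G) : Set G)).relIndex
        (Subgroup.normalizer ((P3 : Subgroup G) : Set G)) = ri at r1 r2 r3
    generalize Nat.card (Subgroup.centralizer ((P3 : Subgroup G) : Set G)) = c at r3 h3c ⊢
    have hri : ri ≤ 2 := Nat.le_of_dvd (by norm_num) r2
    interval_cases ri <;> omega
  -- n_2 = 21
  have h2 : Nat.card (Sylow 2 G) = 21 := by
    have hc := card_sylow_mem_cands (G := G) 2 3 21 (by rw [h]; norm_num) (by norm_num)
    have hcl : sylowCands 2 21 = [1, 3, 7, 21] := by decide +kernel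
    rw [hcl] at hc
    have h1 : Nat.card (Sylow 2 G) ≠ 1 :=
      card_sylow_ne_one 2 (by rw [h]; norm_num) 3 (by norm_num) (by norm_num) (by rw [h]; norm_num)
    have hf := card_dvd_factorial_card_sylow 2 h1
    rw [h] at hf
    simp only [List.mem_cons, List.not_mem_nil, or_false] at hc
    rcases hc with hc | hc | hc | hc
    · exact absurd hc h1
    · exfalso
      rw [hc] at hf
      revert hf
      decide
    · exfalso
      obtain ⟨T⟩ := (Sylow.nonempty : Nonempty (Sylow 2 G))
      have hT : Nat.card (T : Subgroup G) = 8 := by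
        have := card_sylow_eq_of_card_eq (G := G) 2 3 21 (by rw [h]; norm_num) (by norm_num) T
        simpa using this
      have hNT : Nat.card (Subgroup.normalizer ((T : Subgroup G) : Set G)) = 24 := by
        have := card_sylow_mul_card_normalizer 2 T
        rw [hc, h] at this
        omega
      obtain ⟨x, hx⟩ := exists_prime_orderOf_dvd_card'
        (G := ↥(Subgroup.normalizer ((T : Subgroup G) : Set G))) 3 (by rw [hNT]; norm_num)
      have hx3 : orderOf (x : G) = 3 := by rw [Subgroup.orderOf_coe]; exact hx
      have hxp : (x : G) ^ 3 ^ 1 = 1 := by rw [pow_one, ← hx3]; exact pow_orderOf_eq_one _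
      obtain ⟨t, htT, ht1, hfix⟩ := exists_fixed_conj 3 (T : Subgroup G) (x : G) x.2 1 hxp
        (by rw [hT]; decide)
      have hpg : IsPGroup 3 (Subgroup.zpowers (x : G)) :=
        IsPGroup.of_card (n := 1) (by rw [Nat.card_zpowers, hx3, pow_one])
      obtain ⟨P3, hle⟩ := hpg.exists_le_sylow
      obtain ⟨hP3, hCP3⟩ := hC3 P3
      have hx1 : (x : G) ≠ 1 := by
        intro h1
        rw [h1, orderOf_one] at hx3
        omega
      have hz := zpowers_eq_of_mem_of_card_prime (by norm_num : Nat.Prime 3) (P3 : Subgroup G) hP3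
        (x : G) (hle (Subgroup.mem_zpowers _)) hx1
      have hcomm : Commute (x : G) t := by
        have : (x : G) * t = t * x := by
          calc (x : G) * t = (x : G) * t * (x : G)⁻¹ * x := by group
            _ = t * x := by rw [hfix]
        exact this
      have htC : t ∈ Subgroup.centralizer ((P3 : Subgroup G) : Set G) := by
        rw [Subgroup.mem_centralizer_iff]
        intro g hg
        have hg' : g ∈ Subgroup.zpowers (x : G) := by rw [hz]; exact hg
        obtain ⟨k, rfl⟩ := Subgroup.mem_zpowers_iff.mp hg'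
        exact (hcomm.zpow_left k).eq
      have hd3 : orderOf t ∣ 3 := by
        have := Subgroup.orderOf_dvd_natCard _ htC
        rwa [hCP3] at this
      have hd8 : orderOf t ∣ 8 := by
        have := Subgroup.orderOf_dvd_natCard _ htT
        rwa [hT] at this
      have hd1 : orderOf t ∣ 1 := by
        have := Nat.dvd_gcd hd3 hd8
        simpa using this
      exact ht1 (orderOf_eq_one_iff.mp (Nat.dvd_one.mp hd1))
    · exact hc
  exact ⟨h2, h3, h7⟩

end Cfsg.Agent.S1003
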