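import Cfsg.Statements.S1009
import Mathlib

set_option autoImplicit false
open Cfsg

namespace Cfsg.Agent.S1009

theorem mem_smul_sylow {G : Type*} [Group G] {p : ℕ} (g x : G) (P : Sylow p G) :
    x ∈ ((g • P : Sylow p G) : Subgroup G) ↔ g⁻¹ * x * g ∈ (P : Subgroup G) := by
  rw [Sylow.coe_subgroup_smul, Subgroup.mem_pointwise_smul_iff_inv_smul_mem]
  simp [MulAut.smul_def]

/-- Brodkey's Theorem: if a finite group has abelian Sylow p-subgroups, then there are two Sylow p-subgroups whose intersection equals the intersection of all Sylow p-subgroups. -/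
theorem result {G : Type*} [Group G] [Finite G] (p : ℕ) [Fact p.Prime] (hab : ∀ P : Sylow p G, IsMulCommutative ↥(P : Subgroup G)) : ∃ P Q : Sylow p G, (P : Subgroup G) ⊓ (Q : Subgroup G) = ⨅ R : Sylow p G, (R : Subgroup G) := by
  classical
  obtain ⟨P₀⟩ := (Sylow.nonempty : Nonempty (Sylow p G))
  -- choose a pair minimizing the cardinality of the intersection
  obtain ⟨⟨S, T⟩, -, hmin⟩ := Set.exists_min_image (Set.univ : Set (Sylow p G × Sylow p G))
    (fun ST => Nat.card ↥((ST.1 : Subgroup G) ⊓ (ST.2 : Subgroup G))) Set.finite_univ ⟨(P₀, P₀), trivial⟩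
  refine ⟨S, T, ?_⟩
  have hmin' : ∀ S' T' : Sylow p G, Nat.card ↥((S : Subgroup G) ⊓ (T : Subgroup G))
      ≤ Nat.card ↥((S' : Subgroup G) ⊓ (T' : Subgroup G)) := fun S' T' => hmin (S', T') trivial
  set D : Subgroup G := (S : Subgroup G) ⊓ (T : Subgroup G) with hD
  set N : Subgroup G := Subgroup.normalizer (D : Set G) with hN
  have hcomm : ∀ (P : Sylow p G) (a b : G), a ∈ (P : Subgroup G) → b ∈ (P : Subgroup G) → a * b = b * a := by
    intro P a b ha hb
    have := (hab P).1.1 ⟨a, ha⟩ ⟨b, hb⟩
    exact congrArg Subtype.val this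
  have hSN : (S : Subgroup G) ≤ N := by
    intro s hs
    rw [hN, Subgroup.mem_normalizer_iff]
    intro d
    constructor
    · intro hd
      have : s * d * s⁻¹ = d := by
        rw [hcomm S s d hs hd.1, mul_inv_cancel_right]
      rw [this]; exact hd
    · intro hd
      have h1 : s * d * s⁻¹ ∈ (S : Subgroup G) := hd.1
      have hdS : d ∈ (S : Subgroup G) := by
        have := (S : Subgroup G).mul_mem ((S : Subgroup G).mul_mem ((S : Subgroup G).inv_mem hs) h1) hs
        simpa [mul_assoc] using this
      have : s * d * s⁻¹ = d := by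
        rw [hcomm S s d hs hdS, mul_inv_cancel_right]
      rw [this] at hd; exact hd
  have hTN : (T : Subgroup G) ≤ N := by
    intro s hs
    rw [hN, Subgroup.mem_normalizer_iff]
    intro d
    constructor
    · intro hd
      have : s * d * s⁻¹ = d := by
        rw [hcomm T s d hs hd.2, mul_inv_cancel_right]
      rw [this]; exact hd
    · intro hd
      have h1 : s * d * s⁻¹ ∈ (T : Subgroup G) := hd.2
      have hdS : d ∈ (T : Subgroup G) := by
        have := (T : Subgroup G).mul_mem ((T : Subgroup G).mul_mem ((T : Subgroup G).inv_mem hs) h1) hs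
        simpa [mul_assoc] using this
      have : s * d * s⁻¹ = d := by
        rw [hcomm T s d hs hdS, mul_inv_cancel_right]
      rw [this] at hd; exact hd
  apply le_antisymm
  · apply le_iInf
    intro R
    -- the p-subgroup R ⊓ N of N lies in a conjugate of S under N
    have hpg : IsPGroup p (((R : Subgroup G) ⊓ N).subgroupOf N) :=
      (R.2.to_le inf_le_left).comap_subtype
    obtain ⟨Q', hQ'⟩ := hpg.exists_le_sylow
    obtain ⟨n, hn⟩ := MulAction.exists_smul_eq N Q' (S.subtype hSN)
    -- conjugation by n sends R ⊓ N into S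
    have hconj : ∀ x : G, x ∈ (R : Subgroup G) → x ∈ N → (n : G) * x * (n : G)⁻¹ ∈ (S : Subgroup G) := by
      intro x hxR hxN
      have h1 : (⟨x, hxN⟩ : N) ∈ (Q' : Subgroup N) := hQ' (by
        rw [Subgroup.mem_subgroupOf]; exact ⟨hxR, hxN⟩)
      have h2 : n * ⟨x, hxN⟩ * n⁻¹ ∈ ((n • Q' : Sylow p N) : Subgroup N) := by
        rw [mem_smul_sylow]
        simpa [mul_assoc] using h1
      rw [hn, Sylow.coe_subtype, Subgroup.mem_subgroupOf] at h2
      simpa using h2
    have hsub : (((n : G) • R : Sylow p G) : Subgroup G) ⊓ (T : Subgroup G) ≤ D := by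
      intro y hy
      have hyR := (mem_smul_sylow _ _ _).mp hy.1
      have hyN : (n : G)⁻¹ * y * (n : G) ∈ N :=
        N.mul_mem (N.mul_mem (N.inv_mem n.2) (hTN hy.2)) n.2
      have := hconj _ hyR hyN
      have hyS : y ∈ (S : Subgroup G) := by
        simpa [mul_assoc] using this
      exact ⟨hyS, hy.2⟩
    have heq : (((n : G) • R : Sylow p G) : Subgroup G) ⊓ (T : Subgroup G) = D :=
      Subgroup.eq_of_le_of_card_ge hsub (hmin' _ _)
    intro d hd
    -- n normalizes D
    have hnd : (n : G) * d * (n : G)⁻¹ ∈ D := by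
      have hn2 : (n : G) ∈ Subgroup.normalizer (D : Set G) := n.2
      rw [Subgroup.mem_normalizer_iff] at hn2
      exact (hn2 d).mp hd
    rw [← heq] at hnd
    have := (mem_smul_sylow _ _ _).mp hnd.1
    simpa [mul_assoc] using this
  · exact le_inf (iInf_le _ S) (iInf_le _ T)

end Cfsg.Agent.S1009
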