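import Mathlib
import Cfsg.Statements.S3028
import Cfsg.Agent.Lib.Helper96.MinNormal
import Cfsg.Agent.Lib.Helper49.SylSub
import Cfsg.Agent.Lib.Helper9.Subnormal

set_option autoImplicit false
open Cfsg

namespace Cfsg.Agent.S3028


open Subgroup Cfsg.Agent.Lib.Helper96 in
/-- For `A` subnormal and `S` Sylow, the image of `A ⊓ S` is all of `f A ⊓ f S`. -/
theorem map_inf_sylow_le {G G' : Type*} [Group G] [Group G'] [Finite G] {p : ℕ} [Fact p.Prime]
    (S : Sylow p G) (A : Subgroup G) (hA : A.IsSubnormal) (f : G →* G') :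
    A.map f ⊓ (S : Subgroup G).map f ≤ (A ⊓ (S : Subgroup G)).map f := by
  obtain ⟨Q, hQ⟩ := Cfsg.Agent.Lib.Helper49.exists_sylow_inf_subnormal S A hA
  have hg := MonoidHom.subgroupMap_surjective f A
  let Q' : Sylow p ↥(A.map f) := Q.mapSurjective hg
  have hQ' : (Q' : Subgroup ↥(A.map f)) = (Q : Subgroup ↥A).map (f.subgroupMap A) :=
    Sylow.coe_mapSurjective hg Q
  let X : Subgroup ↥(A.map f) := ((S : Subgroup G).map f).subgroupOf (A.map f)
  have hX : IsPGroup p X := (S.isPGroup'.map f).comap_subtype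
  have hle : (Q' : Subgroup ↥(A.map f)) ≤ X := by
    rw [hQ']
    rintro y ⟨a, ha, rfl⟩
    have ha' : (a : G) ∈ (S : Subgroup G) := by
      have : a ∈ (S : Subgroup G).subgroupOf A := by rw [← hQ]; exact ha
      exact mem_subgroupOf.mp this
    show ((f.subgroupMap A a : ↥(A.map f)) : G') ∈ (S : Subgroup G).map f
    exact ⟨a, ha', rfl⟩
  have hXQ : X = (Q' : Subgroup ↥(A.map f)) := Q'.is_maximal' hX hle
  rintro y ⟨hy1, hy2⟩
  have hyX : (⟨y, hy1⟩ : ↥(A.map f)) ∈ X := hy2
  rw [hXQ, hQ'] at hyX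
  obtain ⟨a, ha, hay⟩ := hyX
  have ha' : (a : G) ∈ (S : Subgroup G) := by
    have : a ∈ (S : Subgroup G).subgroupOf A := by rw [← hQ]; exact ha
    exact mem_subgroupOf.mp this
  refine ⟨a, ⟨a.2, ha'⟩, ?_⟩
  have := congrArg Subtype.val hay
  exact this


open Subgroup in
theorem map_subtype_sup_inf_le {G : Type*} [Group G] (M A₁ A₂ S : Subgroup G) (Q : Subgroup M)
    (hQ : Q = S.subgroupOf M) :
    ((A₁.subgroupOf M ⊓ Q) ⊔ (A₂.subgroupOf M ⊓ Q)).map M.subtype ≤ (A₁ ⊓ S) ⊔ (A₂ ⊓ S) := by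
  subst hQ
  rw [Subgroup.map_sup]
  apply sup_le_sup
  · rintro _ ⟨y, hy, rfl⟩
    obtain ⟨hy1, hy2⟩ := mem_inf.mp hy
    exact mem_inf.mpr ⟨mem_subgroupOf.mp hy1, mem_subgroupOf.mp hy2⟩
  · rintro _ ⟨y, hy, rfl⟩
    obtain ⟨hy1, hy2⟩ := mem_inf.mp hy
    exact mem_inf.mpr ⟨mem_subgroupOf.mp hy1, mem_subgroupOf.mp hy2⟩

open Subgroup in
theorem conj_mem_sup_inf {G : Type*} [Group G] (M A₁ A₂ : Subgroup G) [M.Normal]
    (hM1 : M ≤ normalizer (A₁ : Set G)) :
    ∀ a ∈ A₁, ∀ x ∈ (M ⊓ A₁) ⊔ (M ⊓ A₂), a * x * a⁻¹ ∈ (M ⊓ A₁) ⊔ (M ⊓ A₂) := by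
  intro a ha x hx
  have key : ((M ⊓ A₁) ⊔ (M ⊓ A₂)).map (MulAut.conj a).toMonoidHom ≤ (M ⊓ A₁) ⊔ (M ⊓ A₂) := by
    rw [Subgroup.map_sup]
    apply sup_le
    · rintro _ ⟨y, hy, rfl⟩
      obtain ⟨hy1, hy2⟩ := mem_inf.mp hy
      apply mem_sup_left
      show a * y * a⁻¹ ∈ M ⊓ A₁
      exact mem_inf.mpr ⟨‹M.Normal›.conj_mem _ hy1 a, mul_mem (mul_mem ha hy2) (inv_mem ha)⟩
    · rintro _ ⟨y, hy, rfl⟩
      obtain ⟨hy1, hy2⟩ := mem_inf.mp hy
      show a * y * a⁻¹ ∈ (M ⊓ A₁) ⊔ (M ⊓ A₂)
      have e : a * y * a⁻¹ = (a * y * a⁻¹ * y⁻¹) * y := by group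
      rw [e]
      refine mul_mem (mem_sup_left (mem_inf.mpr ⟨?_, ?_⟩)) (mem_sup_right hy)
      · exact mul_mem (‹M.Normal›.conj_mem _ hy1 a) (inv_mem hy1)
      · have h1 := (mem_normalizer_iff.mp (hM1 hy1) a⁻¹).mp (inv_mem ha)
        have h2 := mul_mem ha h1
        have e2 : a * (y * a⁻¹ * y⁻¹) = a * y * a⁻¹ * y⁻¹ := by group
        rwa [e2] at h2
  exact key ⟨x, hx, rfl⟩

universe u

open Subgroup Cfsg.Agent.Lib.Helper96 in
theorem key_aux (p : ℕ) [Fact p.Prime] (n : ℕ) : ∀ (G : Type u) [Group G] [Finite G],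
    Nat.card G = n → ∀ (S : Sylow p G) (A₁ A₂ : Subgroup G), A₁.IsSubnormal → A₂.IsSubnormal →
      A₁ ⊔ A₂ = ⊤ → (S : Subgroup G) ≤ (A₁ ⊓ (S : Subgroup G)) ⊔ (A₂ ⊓ (S : Subgroup G)) := by
  induction n using Nat.strong_induction_on with
  | _ n ih =>
    intro G _ _ hn S A₁ A₂ h₁ h₂ hsup
    by_contra hcon
    set T : Subgroup G := (A₁ ⊓ (S : Subgroup G)) ⊔ (A₂ ⊓ (S : Subgroup G)) with hT
    have hTS : T ≤ S := sup_le inf_le_right inf_le_right
    -- (a) quotient step
    have stepA : ∀ N : Subgroup G, N.Normal → N ≠ ⊥ → (S : Subgroup G) ≤ T ⊔ N := by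
      intro N hN hNne
      have := hN
      have hcard : Nat.card (G ⧸ N) < n := by
        rw [← hn, ← N.card_mul_index]
        have h1 : 1 < Nat.card N := (one_lt_card_iff_ne_bot N).mpr hNne
        have h2 : 0 < N.index := Nat.pos_of_ne_zero index_ne_zero_of_finite
        show N.index < Nat.card N * N.index
        nlinarith
      let f := QuotientGroup.mk' N
      have hf : Function.Surjective f := QuotientGroup.mk'_surjective N
      let S' : Sylow p (G ⧸ N) := S.mapSurjective hf
      have hS' : (S' : Subgroup (G ⧸ N)) = (S : Subgroup G).map f := Sylow.coe_mapSurjective hf S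
      have hsup' : A₁.map f ⊔ A₂.map f = ⊤ := by
        rw [← Subgroup.map_sup, hsup, map_top_of_surjective f hf]
      have h3 := ih _ hcard (G ⧸ N) rfl S' (A₁.map f) (A₂.map f) (h₁.map hf) (h₂.map hf) hsup'
      rw [hS'] at h3
      have h4 : (S : Subgroup G).map f ≤ T.map f := by
        refine h3.trans ?_
        rw [hT, Subgroup.map_sup]
        exact sup_le_sup (map_inf_sylow_le S A₁ h₁ f) (map_inf_sylow_le S A₂ h₂ f)
      intro s hs
      obtain ⟨t, ht, hts⟩ := h4 (mem_map_of_mem f hs)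
      have h5 : t⁻¹ * s ∈ N := by
        rw [← QuotientGroup.ker_mk' N, MonoidHom.mem_ker, map_mul, map_inv]
        show (f t)⁻¹ * f s = 1
        rw [hts, inv_mul_cancel]
      have e : s = t * (t⁻¹ * s) := by group
      rw [e]
      exact mul_mem (mem_sup_left ht) (mem_sup_right h5)
    -- minimal normal subgroups are central
    have stepB : ∀ M : Subgroup G, IsMinNormal M → M ≤ center G := by
      intro M hM
      have hM1 : M ≤ normalizer (A₁ : Set G) := hM.le_normalizer h₁
      have hM2 : M ≤ normalizer (A₂ : Set G) := hM.le_normalizer h₂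
      obtain ⟨hMn, hMne, hMmin⟩ := hM
      have := hMn
      set D : Subgroup G := (M ⊓ A₁) ⊔ (M ⊓ A₂) with hD
      have hDM : D ≤ M := sup_le inf_le_left inf_le_left
      have conj1 := conj_mem_sup_inf M A₁ A₂ hM1
      have conj2 := conj_mem_sup_inf M A₂ A₁ hM2
      rw [sup_comm] at conj2
      have hDn : D.Normal := by
        rw [← normalizer_eq_top_iff, eq_top_iff, ← hsup]
        apply sup_le
        · intro a ha
          rw [mem_normalizer_iff]
          intro h
          constructor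
          · exact conj1 a ha h
          · intro hh
            have := conj1 a⁻¹ (inv_mem ha) _ hh
            simpa [mul_assoc] using this
        · intro a ha
          rw [mem_normalizer_iff]
          intro h
          constructor
          · exact conj2 a ha h
          · intro hh
            have := conj2 a⁻¹ (inv_mem ha) _ hh
            simpa [mul_assoc] using this
      rcases hMmin D hDn hDM with hDb | hDe
      · -- D = ⊥ : M is central
        intro m hm
        rw [mem_center_iff]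
        have hc : (⊤ : Subgroup G) ≤ centralizer {m} := by
          rw [← hsup]
          apply sup_le
          · intro a ha
            rw [mem_centralizer_iff]
            intro h hh
            rw [Set.mem_singleton_iff] at hh
            subst hh
            have h1 : h * a * h⁻¹ * a⁻¹ ∈ M ⊓ A₁ := by
              refine mem_inf.mpr ⟨?_, ?_⟩
              · have h2 := mul_mem hm (hMn.conj_mem _ (inv_mem hm) a)
                have e : h * (a * h⁻¹ * a⁻¹) = h * a * h⁻¹ * a⁻¹ := by group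
                rwa [e] at h2
              · exact mul_mem ((mem_normalizer_iff.mp (hM1 hm) a).mp ha) (inv_mem ha)
            have h3 : h * a * h⁻¹ * a⁻¹ ∈ D := (le_sup_left : M ⊓ A₁ ≤ D) h1
            rw [hDb, mem_bot] at h3
            have h4 := mul_inv_eq_one.mp h3
            exact mul_inv_eq_iff_eq_mul.mp h4
          · intro a ha
            rw [mem_centralizer_iff]
            intro h hh
            rw [Set.mem_singleton_iff] at hh
            subst hh
            have h1 : h * a * h⁻¹ * a⁻¹ ∈ M ⊓ A₂ := by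
              refine mem_inf.mpr ⟨?_, ?_⟩
              · have h2 := mul_mem hm (hMn.conj_mem _ (inv_mem hm) a)
                have e : h * (a * h⁻¹ * a⁻¹) = h * a * h⁻¹ * a⁻¹ := by group
                rwa [e] at h2
              · exact mul_mem ((mem_normalizer_iff.mp (hM2 hm) a).mp ha) (inv_mem ha)
            have h3 : h * a * h⁻¹ * a⁻¹ ∈ D := (le_sup_right : M ⊓ A₂ ≤ D) h1
            rw [hDb, mem_bot] at h3
            have h4 := mul_inv_eq_one.mp h3
            exact mul_inv_eq_iff_eq_mul.mp h4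
        intro g
        have := mem_centralizer_iff.mp (hc (mem_top g)) m rfl
        exact this.symm
      · -- D = M : contradiction
        exfalso
        by_cases hMtop : M = ⊤
        · have hA1n : A₁.Normal := by
            rw [← normalizer_eq_top_iff, eq_top_iff, ← hMtop]; exact hM1
          have hA2n : A₂.Normal := by
            rw [← normalizer_eq_top_iff, eq_top_iff, ← hMtop]; exact hM2
          rcases hMmin A₁ hA1n (by rw [hMtop]; exact le_top) with e1 | e1
          · rcases hMmin A₂ hA2n (by rw [hMtop]; exact le_top) with e2 | e2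
            · apply hcon
              have h0 : (⊤ : Subgroup G) = ⊥ := by rw [← hsup, e1, e2, sup_bot_eq]
              intro s _
              have h1 : s ∈ (⊥ : Subgroup G) := h0 ▸ mem_top s
              rw [mem_bot] at h1
              subst h1
              exact one_mem _
            · apply hcon
              rw [hT, e2, hMtop, top_inf_eq]
              exact le_sup_right
          · apply hcon
            rw [hT, e1, hMtop, top_inf_eq]
            exact le_sup_left
        · have hcard : Nat.card M < n := by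
            rw [← hn]
            refine lt_of_le_of_ne (card_le_card_group M) ?_
            intro hc
            exact hMtop (eq_top_of_card_eq M hc)
          obtain ⟨Q, hQ⟩ :=
            Cfsg.Agent.Lib.Helper49.exists_sylow_inf_subnormal S M hMn.isSubnormal
          have hsupM : A₁.subgroupOf M ⊔ A₂.subgroupOf M = ⊤ := by
            rw [← inf_subgroupOf_left A₁ M, ← inf_subgroupOf_left A₂ M,
              ← subgroupOf_sup inf_le_left inf_le_left, ← hD, hDe, subgroupOf_self]
          have h3 := ih _ hcard M rfl Q (A₁.subgroupOf M) (A₂.subgroupOf M) h₁.subgroupOf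
            h₂.subgroupOf hsupM
          have h4 : (S : Subgroup G) ⊓ M ≤ T := by
            intro x hx
            have hxQ : (⟨x, hx.2⟩ : M) ∈ (Q : Subgroup M) := by
              rw [hQ, mem_subgroupOf]; exact hx.1
            exact map_subtype_sup_inf_le M A₁ A₂ S Q hQ ⟨⟨x, hx.2⟩, h3 hxQ, rfl⟩
          apply hcon
          intro s hs
          have h7 := stepA M hMn hMne hs
          rw [mem_sup_of_normal_right] at h7
          obtain ⟨t, ht, m, hm, rfl⟩ := h7
          have hmS : m ∈ (S : Subgroup G) := by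
            have e : m = t⁻¹ * (t * m) := by group
            rw [e]; exact mul_mem (inv_mem (hTS ht)) hs
          exact mul_mem ht (h4 ⟨hmS, hm⟩)
    -- G is nontrivial; pick a minimal normal subgroup
    have htop : (⊤ : Subgroup G) ≠ ⊥ := by
      intro h
      apply hcon
      intro s _
      have h1 : s ∈ (⊥ : Subgroup G) := h ▸ mem_top s
      rw [mem_bot] at h1
      subst h1
      exact one_mem _
    obtain ⟨M, hM, -⟩ := exists_isMinNormal_le (⊤ : Subgroup G) inferInstance htop
    have hMc := stepB M hM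
    have := hM.1
    have hSM := stepA M hM.1 hM.2.1
    -- commutators of S lie in T
    have hcomm : ∀ a ∈ (S : Subgroup G), ∀ b ∈ (S : Subgroup G), a * b * a⁻¹ * b⁻¹ ∈ T := by
      intro a ha b hb
      obtain ⟨t₁, ht₁, m₁, hm₁, rfl⟩ := mem_sup_of_normal_right.mp (hSM ha)
      obtain ⟨t₂, ht₂, m₂, hm₂, rfl⟩ := mem_sup_of_normal_right.mp (hSM hb)
      have c1 := mem_center_iff.mp (hMc hm₁)
      have c2 := mem_center_iff.mp (hMc hm₂)
      have e : t₁ * m₁ * (t₂ * m₂) * (t₁ * m₁)⁻¹ * (t₂ * m₂)⁻¹ = t₁ * t₂ * t₁⁻¹ * t₂⁻¹ := by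
        calc t₁ * m₁ * (t₂ * m₂) * (t₁ * m₁)⁻¹ * (t₂ * m₂)⁻¹
            = t₁ * (m₁ * (t₂ * m₂)) * m₁⁻¹ * t₁⁻¹ * (m₂⁻¹ * t₂⁻¹) := by group
          _ = t₁ * ((t₂ * m₂) * m₁) * m₁⁻¹ * t₁⁻¹ * (m₂⁻¹ * t₂⁻¹) := by rw [← c1 (t₂ * m₂)]
          _ = t₁ * t₂ * (m₂ * t₁⁻¹) * m₂⁻¹ * t₂⁻¹ := by group
          _ = t₁ * t₂ * (t₁⁻¹ * m₂) * m₂⁻¹ * t₂⁻¹ := by rw [← c2 t₁⁻¹]
          _ = t₁ * t₂ * t₁⁻¹ * t₂⁻¹ := by group
      rw [e]
      exact mul_mem (mul_mem (mul_mem ht₁ ht₂) (inv_mem ht₁)) (inv_mem ht₂)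
    -- a homomorphism from S to an abelian group with kernel T
    let T' : Subgroup (S : Subgroup G) := T.subgroupOf S
    let Qt := Abelianization (S : Subgroup G) ⧸ T'.map Abelianization.of
    let ϕ : (S : Subgroup G) →* Qt :=
      (QuotientGroup.mk' (T'.map Abelianization.of)).comp Abelianization.of
    have hϕ : ∀ s : (S : Subgroup G), ϕ s = 1 → (s : G) ∈ T := by
      intro s hs
      have h1 : Abelianization.of s ∈ T'.map Abelianization.of := by
        rw [← QuotientGroup.eq_one_iff]; exact hs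
      obtain ⟨t, ht, hts⟩ := h1
      have h2 : t⁻¹ * s ∈ (Abelianization.of : (S : Subgroup G) →* _).ker := by
        rw [MonoidHom.mem_ker, map_mul, map_inv, hts, inv_mul_cancel]
      rw [Abelianization.ker_of] at h2
      have h3 : _root_.commutator (S : Subgroup G) ≤ T' := by
        rw [_root_.commutator_def, commutator_le]
        intro g₁ _ g₂ _
        rw [mem_subgroupOf]
        have := hcomm g₁ g₁.2 g₂ g₂.2
        simpa [commutatorElement_def] using this
      have h5 : t * (t⁻¹ * s) ∈ T' := mul_mem ht (h3 h2)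
      have e : t * (t⁻¹ * s) = s := by group
      rw [e] at h5
      exact mem_subgroupOf.mp h5
    let V : G →* Qt := MonoidHom.transfer ϕ
    have hV : ∀ z ∈ center G, V z = 1 → z ^ (S : Subgroup G).index ∈ T := by
      intro z hz h1
      have key : ∀ (k : ℕ) (g₀ : G), g₀⁻¹ * z ^ k * g₀ ∈ (S : Subgroup G) →
          g₀⁻¹ * z ^ k * g₀ = z ^ k := by
        intro k g₀ _
        have := mem_center_iff.mp (pow_mem hz k) g₀
        rw [mul_assoc, ← this, inv_mul_cancel_left]
      have h2 := MonoidHom.transfer_eq_pow ϕ z key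
      rw [show ϕ.transfer z = V z from rfl, h1] at h2
      exact hϕ _ h2.symm
    have hn_cop : Nat.Coprime (S : Subgroup G).index p :=
      ((Nat.Prime.coprime_iff_not_dvd (Fact.out)).mpr S.not_dvd_index).symm
    have hker : V.ker = ⊥ := by
      by_contra hne
      obtain ⟨M', hM', hM'le⟩ := exists_isMinNormal_le V.ker (MonoidHom.normal_ker V) hne
      have hM'c := stepB M' hM'
      have := hM'.1
      have hSM' := stepA M' hM'.1 hM'.2.1
      obtain ⟨s, hs, hsT⟩ := SetLike.not_le_iff_exists.mp hcon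
      obtain ⟨t, ht, z, hz, rfl⟩ := mem_sup_of_normal_right.mp (hSM' hs)
      have hzS : z ∈ (S : Subgroup G) := by
        have e : z = t⁻¹ * (t * z) := by group
        rw [e]; exact mul_mem (inv_mem (hTS ht)) hs
      have hzT : z ∉ T := fun h => hsT (mul_mem ht h)
      have h1 : V z = 1 := hM'le hz
      have h2 := hV z (hM'c hz) h1
      obtain ⟨k, hk⟩ := S.isPGroup' ⟨z, hzS⟩
      have hk' : z ^ p ^ k = 1 := by
        have := congrArg Subtype.val hk
        simpa using this
      have hord : orderOf z ∣ p ^ k := orderOf_dvd_of_pow_eq_one hk'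
      have hcop : Nat.Coprime (S : Subgroup G).index (orderOf z) :=
        Nat.Coprime.coprime_dvd_right hord (Nat.Coprime.pow_right k hn_cop)
      obtain ⟨m, hm⟩ := exists_pow_eq_self_of_coprime hcop
      apply hzT
      rw [← hm]
      exact pow_mem h2 m
    have hinj : Function.Injective V := (MonoidHom.ker_eq_bot_iff V).mp hker
    have hQt : IsPGroup p Qt := by
      have hsurj : Function.Surjective ϕ :=
        (QuotientGroup.mk'_surjective _).comp (QuotientGroup.mk'_surjective _)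
      exact IsPGroup.of_surjective S.isPGroup' ϕ hsurj
    have hG : IsPGroup p G := IsPGroup.of_injective hQt V hinj
    have hStop : (⊤ : Subgroup G) = S := S.is_maximal' (hG.to_subgroup ⊤) le_top
    apply hcon
    rw [hT, ← hStop, inf_top_eq, inf_top_eq, hsup]

/-- Let G be a finite group, p a prime, S a Sylow p-subgroup of G and A₁, A₂ subnormal subgroups of G. Then the join of S ∩ A₁ and S ∩ A₂ is a Sylow p-subgroup of the join of A₁ and A₂; equivalently ⟨A₁, A₂⟩ ∩ S = ⟨A₁ ∩ S, A₂ ∩ S⟩. -/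
theorem result {G : Type*} [Group G] [Finite G] {p : ℕ} [Fact p.Prime] (S : Sylow p G) (A₁ A₂ : Subgroup G)
    (h₁ : A₁.IsSubnormal) (h₂ : A₂.IsSubnormal) :
    (A₁ ⊔ A₂) ⊓ (S : Subgroup G) = (A₁ ⊓ (S : Subgroup G)) ⊔ (A₂ ⊓ (S : Subgroup G)) := by
  apply le_antisymm
  · have hJs : (A₁ ⊔ A₂).IsSubnormal := Cfsg.Agent.Lib.Helper9.isSubnormal_sup h₁ h₂
    obtain ⟨Q, hQ⟩ := Cfsg.Agent.Lib.Helper49.exists_sylow_inf_subnormal S (A₁ ⊔ A₂) hJs
    have hsupJ : A₁.subgroupOf (A₁ ⊔ A₂) ⊔ A₂.subgroupOf (A₁ ⊔ A₂) = ⊤ := by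
      rw [← Subgroup.subgroupOf_sup le_sup_left le_sup_right]
      exact Subgroup.subgroupOf_self _
    have h3 := key_aux p _ ↥(A₁ ⊔ A₂) rfl Q (A₁.subgroupOf (A₁ ⊔ A₂)) (A₂.subgroupOf (A₁ ⊔ A₂))
      h₁.subgroupOf h₂.subgroupOf hsupJ
    intro x hx
    have hxQ : (⟨x, hx.1⟩ : ↥(A₁ ⊔ A₂)) ∈ (Q : Subgroup ↥(A₁ ⊔ A₂)) := by
      rw [hQ, Subgroup.mem_subgroupOf]; exact hx.2
    exact map_subtype_sup_inf_le (A₁ ⊔ A₂) A₁ A₂ S Q hQ ⟨⟨x, hx.1⟩, h3 hxQ, rfl⟩
  · exact sup_le (inf_le_inf_right _ le_sup_left) (inf_le_inf_right _ le_sup_right)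

end Cfsg.Agent.S3028
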