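import Mathlib
import Cfsg.Statements.S3494

set_option autoImplicit false
set_option linter.style.haveILetI false
set_option linter.unusedVariables false
open Cfsg

namespace Cfsg.Agent.S3494

open MulAction Pointwise

variable {G : Type*} [Group G] {Ω : Type*} [MulAction G Ω]

/-- A normal subgroup of a point stabilizer acting primitively on an orbit is transitive on
that orbit as soon as it moves its base point. -/
lemma trans_of_normal (x z : Ω) (C : Subgroup G) (hC : C ≤ stabilizer G x)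
    (hN : ∀ g ∈ stabilizer G x, ∀ c ∈ C, g * c * g⁻¹ ∈ C)
    (hep : IsPreprimitive (stabilizer G x) (orbit (stabilizer G x) z))
    (c₀ : G) (hc₀ : c₀ ∈ C) (hc : c₀ • z ≠ z) (g : G) (hg : g ∈ stabilizer G x) :
    ∃ c ∈ C, c • z = g • z := by
  let N : Subgroup (stabilizer G x) := C.subgroupOf (stabilizer G x)
  haveI : N.Normal := ⟨fun n hn g => by
    show ((g * n * g⁻¹ : stabilizer G x) : G) ∈ C
    simpa using hN g g.2 n hn⟩
  let z' : orbit (stabilizer G x) z := ⟨z, mem_orbit_self z⟩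
  have hB : IsBlock (stabilizer G x) (orbit N z') := IsBlock.orbit_of_normal z'
  rcases hB.subsingleton_or_eq_univ with hs | hu
  · exfalso
    have h1 : (⟨c₀, hC hc₀⟩ : stabilizer G x) • z' ∈ orbit N z' :=
      ⟨⟨⟨c₀, hC hc₀⟩, hc₀⟩, rfl⟩
    have h2 : z' ∈ orbit N z' := mem_orbit_self z'
    have h3 := hs h1 h2
    apply hc
    have h4 := congrArg Subtype.val h3
    simpa using h4
  · have h1 : (⟨g, hg⟩ : stabilizer G x) • z' ∈ orbit N z' := by rw [hu]; trivial
    obtain ⟨⟨n, hn⟩, hn'⟩ := h1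
    refine ⟨n, hn, ?_⟩
    have h4 := congrArg Subtype.val hn'
    exact h4

/-- The conjugate family of a subgroup `C` of the stabilizer of `α`. -/
def Cx (α : Ω) (C : Subgroup G) (x : Ω) : Subgroup G where
  carrier := {k | ∀ g : G, g • α = x → g⁻¹ * k * g ∈ C}
  mul_mem' := by
    intro a b ha hb g hg
    have := C.mul_mem (ha g hg) (hb g hg)
    simpa [mul_assoc] using this
  one_mem' := by intro g hg; simp
  inv_mem' := by
    intro a ha g hg
    have := C.inv_mem (ha g hg)
    simpa [mul_assoc] using this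

lemma mem_Cx_of (α : Ω) (C : Subgroup G)
    (hN : ∀ g ∈ stabilizer G α, ∀ c ∈ C, g * c * g⁻¹ ∈ C)
    {x : Ω} {g k : G} (hg : g • α = x) (hk : g⁻¹ * k * g ∈ C) : k ∈ Cx α C x := by
  intro g' hg'
  have h1 : g'⁻¹ * g ∈ stabilizer G α := by
    rw [mem_stabilizer_iff, mul_smul, hg, ← hg', inv_smul_smul]
  have := hN _ h1 _ hk
  have e : g'⁻¹ * g * (g⁻¹ * k * g) * (g'⁻¹ * g)⁻¹ = g'⁻¹ * k * g' := by group
  rwa [e] at this

lemma Cx_conj (α : Ω) (C : Subgroup G) {x : Ω} {k : G} (hk : k ∈ Cx α C x) (a : G) :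
    a * k * a⁻¹ ∈ Cx α C (a • x) := by
  intro g hg
  have h1 : (a⁻¹ * g) • α = x := by rw [mul_smul, hg, inv_smul_smul]
  have := hk _ h1
  have e : (a⁻¹ * g)⁻¹ * k * (a⁻¹ * g) = g⁻¹ * (a * k * a⁻¹) * g := by group
  rwa [e] at this

lemma Cx_le_stab [IsPretransitive G Ω] (α : Ω) (C : Subgroup G) (hC : C ≤ stabilizer G α)
    (x : Ω) : Cx α C x ≤ stabilizer G x := by
  intro k hk
  obtain ⟨g, hg⟩ := exists_smul_eq G α x
  have := hC (hk g hg)
  rw [mem_stabilizer_iff] at this ⊢
  rw [mul_smul, mul_smul, hg, inv_smul_eq_iff, hg] at this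
  exact this

/-- The relation: `z` is fixed by the conjugate of `C` attached to `x`. -/
def R (α : Ω) (C : Subgroup G) (x z : Ω) : Prop := ∀ k ∈ Cx α C x, k • z = z

lemma R_smul (α : Ω) (C : Subgroup G) {x z : Ω} (h : R α C x z) (a : G) :
    R α C (a • x) (a • z) := by
  intro k hk
  have h1 := Cx_conj α C hk a⁻¹
  rw [inv_smul_smul, inv_inv] at h1
  have h2 := h _ h1
  rw [mul_smul, mul_smul, inv_smul_eq_iff] at h2
  exact h2

lemma R_smul_iff (α : Ω) (C : Subgroup G) {x z : Ω} (a : G) :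
    R α C (a • x) (a • z) ↔ R α C x z := by
  refine ⟨fun h => ?_, fun h => R_smul α C h a⟩
  have := R_smul α C h a⁻¹
  rwa [inv_smul_smul, inv_smul_smul] at this

lemma R_refl [IsPretransitive G Ω] (α : Ω) (C : Subgroup G) (hC : C ≤ stabilizer G α)
    (x : Ω) : R α C x x := fun k hk => Cx_le_stab α C hC x hk

lemma mem_orbit_stab {y z w : Ω} :
    w ∈ orbit (stabilizer G y) z ↔ ∃ h ∈ stabilizer G y, h • z = w := by
  constructor
  · rintro ⟨⟨h, hh⟩, rfl⟩; exact ⟨h, hh, rfl⟩
  · rintro ⟨h, hh, rfl⟩; exact ⟨⟨h, hh⟩, rfl⟩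

lemma lemA (hprim : IsPretransitive G Ω)
    (hep : ∀ (α ω : Ω), IsPreprimitive (stabilizer G α) (orbit (stabilizer G α) ω))
    (α : Ω) (C : Subgroup G) (hC : C ≤ stabilizer G α) {x y z : Ω}
    (hxy : R α C x y) (hxz : ¬ R α C x z) (g : G) (hg : g ∈ stabilizer G x) :
    ∃ h ∈ stabilizer G y, h • z = g • z := by
  haveI := hprim
  unfold R at hxz
  push Not at hxz
  obtain ⟨c₀, hc₀, hc⟩ := hxz
  obtain ⟨c, hc1, hc2⟩ := trans_of_normal x z (Cx α C x) (Cx_le_stab α C hC x)
    (fun a ha c hc => by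
      have := Cx_conj α C hc a
      rwa [mem_stabilizer_iff.mp ha] at this) (hep x z) c₀ hc₀ hc g hg
  exact ⟨c, hxy c hc1, hc2⟩

lemma lemB [FaithfulSMul G Ω] (hprim : IsPreprimitive G Ω)
    (hH : ∀ α : Ω, stabilizer G α ≠ ⊥)
    {x y : Ω} (hxy : x ≠ y) (S : Set Ω) (hne : S.Nonempty) (hS : S ≠ Set.univ)
    (hx : ∀ g ∈ stabilizer G x, ∀ s ∈ S, g • s ∈ S)
    (hy : ∀ g ∈ stabilizer G y, ∀ s ∈ S, g • s ∈ S) : False := by
  haveI := hprim
  haveI : Nontrivial Ω := ⟨⟨x, y, hxy⟩⟩
  have key : ∀ {u v : Ω}, (∀ g ∈ stabilizer G u, ∀ s ∈ S, g • s ∈ S) →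
      (∀ g ∈ stabilizer G v, ∀ s ∈ S, g • s ∈ S) → stabilizer G v ≤ stabilizer G u := by
    intro u v hu hv
    have hco : IsCoatom (stabilizer G u) :=
      IsPreprimitive.isCoatom_stabilizer_of_isPreprimitive G u
    have h1 : ∀ w : Ω, (∀ g ∈ stabilizer G w, ∀ s ∈ S, g • s ∈ S) →
        stabilizer G w ≤ stabilizer G S := by
      intro w hw g hg
      rw [mem_stabilizer_iff]
      ext t
      rw [Set.mem_smul_set_iff_inv_smul_mem]
      constructor
      · intro ht
        have := hw g hg _ ht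
        rwa [smul_inv_smul] at this
      · intro ht
        exact hw g⁻¹ (inv_mem hg) _ ht
    have hT : stabilizer G S ≠ ⊤ := by
      intro htop
      apply hS
      obtain ⟨s, hs⟩ := hne
      ext w
      simp only [Set.mem_univ, iff_true]
      obtain ⟨g, rfl⟩ := exists_smul_eq G s w
      have hg : g ∈ stabilizer G S := by rw [htop]; trivial
      rw [mem_stabilizer_iff] at hg
      rw [← hg]
      exact Set.smul_mem_smul_set hs
    have h2 := (hco.le_iff_eq hT).mp (h1 u hu)
    rw [← h2]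
    exact h1 v hv
  have e : stabilizer G x = stabilizer G y := le_antisymm (key hy hx) (key hx hy)
  obtain ⟨g, hg⟩ := exists_smul_eq G x y
  have hco : IsCoatom (stabilizer G x) :=
    IsPreprimitive.isCoatom_stabilizer_of_isPreprimitive G x
  have hgN : g ∈ Subgroup.normalizer (stabilizer G x : Set G) := by
    rw [Subgroup.mem_normalizer_iff]
    intro k
    constructor
    · intro hk
      rw [e, mem_stabilizer_iff, ← hg, mul_smul, mul_smul, inv_smul_smul,
        mem_stabilizer_iff.mp hk]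
    · intro hk
      rw [e, mem_stabilizer_iff, ← hg, mul_smul, mul_smul, inv_smul_smul] at hk
      rw [mem_stabilizer_iff]
      exact smul_left_cancel g hk
  have hgx : g ∉ stabilizer G x := by
    intro h
    rw [mem_stabilizer_iff] at h
    exact hxy (h.symm.trans hg)
  have hlt : stabilizer G x < Subgroup.normalizer (stabilizer G x : Set G) :=
    lt_of_le_of_ne Subgroup.le_normalizer (fun h => hgx (by rw [h]; exact hgN))
  have htop := hco.2 _ hlt
  have hnorm : (stabilizer G x).Normal := Subgroup.normalizer_eq_top_iff.mp htop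
  apply hH x
  rw [eq_bot_iff]
  intro k hk
  rw [Subgroup.mem_bot]
  apply FaithfulSMul.eq_of_smul_eq_smul (α := Ω)
  intro w
  obtain ⟨a, rfl⟩ := exists_smul_eq G x w
  have h1 := hnorm.conj_mem k hk a⁻¹
  rw [mem_stabilizer_iff, inv_inv, mul_smul, mul_smul, inv_smul_eq_iff] at h1
  rw [one_smul]
  exact h1

lemma Fx_smul (α : Ω) (C : Subgroup G) (x : Ω) (a : G) :
    {z | R α C (a • x) z} = (fun z => a • z) '' {z | R α C x z} := by
  ext w
  simp only [Set.mem_ofPred_eq, Set.mem_image]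
  constructor
  · intro h
    refine ⟨a⁻¹ • w, ?_, smul_inv_smul a w⟩
    have := R_smul α C h a⁻¹
    rwa [inv_smul_smul] at this
  · rintro ⟨z, hz, rfl⟩
    exact R_smul α C hz a

lemma R_symm [Finite Ω] [FaithfulSMul G Ω] (hprim : IsPreprimitive G Ω)
    (hH : ∀ α : Ω, stabilizer G α ≠ ⊥)
    (hep : ∀ (α ω : Ω), IsPreprimitive (stabilizer G α) (orbit (stabilizer G α) ω))
    (α : Ω) (C : Subgroup G) (hC : C ≤ stabilizer G α) {x y : Ω}
    (hxy : R α C x y) : R α C y x := by
  haveI := hprim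
  by_contra hyx
  have hne : x ≠ y := by
    rintro rfl
    exact hyx hxy
  have hpt : IsPretransitive G Ω := inferInstance
  -- invariance of F_x under G_x
  have hinv : ∀ (u : Ω) (g : G), g ∈ stabilizer G u → ∀ w, R α C u w → R α C u (g • w) := by
    intro u g hg w hw
    have := R_smul α C hw g
    rwa [mem_stabilizer_iff.mp hg] at this
  -- E = F_x ∩ F_y is G_y-invariant
  have hE : ∀ h ∈ stabilizer G y, ∀ w, R α C x w → R α C y w →
      R α C x (h • w) := by
    intro h hh w hxw hyw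
    unfold R at hyx
    push Not at hyx
    obtain ⟨c₀, hc₀, hc⟩ := hyx
    obtain ⟨c, hc1, hc2⟩ := trans_of_normal y x (Cx α C y) (Cx_le_stab α C hC y)
      (fun a ha c hc => by
        have := Cx_conj α C hc a
        rwa [mem_stabilizer_iff.mp ha] at this) (hep y x) c₀ hc₀ hc h hh
    have hcy : c ∈ stabilizer G y := Cx_le_stab α C hC y hc1
    have hkx : c⁻¹ * h ∈ stabilizer G x := by
      rw [mem_stabilizer_iff, mul_smul, ← hc2, inv_smul_smul]
    have hky : c⁻¹ * h ∈ stabilizer G y := mul_mem (inv_mem hcy) hh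
    have h1 : R α C x ((c⁻¹ * h) • w) := hinv x _ hkx w hxw
    have h2 : R α C y ((c⁻¹ * h) • w) := hinv y _ hky w hyw
    have h3 : c • ((c⁻¹ * h) • w) = (c⁻¹ * h) • w := h2 c hc1
    have h4 : h • w = (c⁻¹ * h) • w := by
      rw [← h3, mul_smul, smul_inv_smul]
    rw [h4]
    exact h1
  -- F_y ⊆ F_x
  have hsub : {z | R α C y z} ⊆ {z | R α C x z} := by
    intro z hz
    simp only [Set.mem_ofPred_eq] at hz ⊢
    by_contra hxz
    have hΘ : ∀ w ∈ orbit (stabilizer G y) z, ¬ R α C x w := by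
      intro w hw0 hw
      obtain ⟨h, hh, rfl⟩ := mem_orbit_stab.mp hw0
      apply hxz
      have h1 : R α C y (h • z) := hinv y h hh z hz
      have := hE h⁻¹ (inv_mem hh) _ hw h1
      rwa [inv_smul_smul] at this
    refine lemB hprim hH hne (orbit (stabilizer G y) z) ⟨z, mem_orbit_self z⟩ ?_ ?_ ?_
    · intro hu
      have : x ∈ orbit (stabilizer G y) z := by rw [hu]; trivial
      exact hΘ x this (R_refl α C hC x)
    · intro g hg w hw
      obtain ⟨h, hh, hh'⟩ := lemA hpt hep α C hC hxy (hΘ w hw) g hg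
      rw [← hh']
      obtain ⟨k, hk, rfl⟩ := mem_orbit_stab.mp hw
      exact mem_orbit_stab.mpr ⟨h * k, mul_mem hh hk, mul_smul _ _ _⟩
    · intro g hg w hw
      obtain ⟨k, hk, rfl⟩ := mem_orbit_stab.mp hw
      exact mem_orbit_stab.mpr ⟨g * k, mul_mem hg hk, mul_smul _ _ _⟩
  obtain ⟨a, rfl⟩ := exists_smul_eq G x y
  have hcard : ({z | R α C x z} : Set Ω).ncard ≤ ({z | R α C (a • x) z} : Set Ω).ncard := by
    rw [Fx_smul, Set.ncard_image_of_injective _ (MulAction.injective a)]
  have heq := Set.eq_of_subset_of_ncard_le hsub hcard (Set.toFinite _)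
  have : x ∈ {z | R α C x z} := R_refl α C hC x
  rw [← heq] at this
  exact hyx this

lemma R_cover [Finite Ω] [FaithfulSMul G Ω] (hprim : IsPreprimitive G Ω)
    (hH : ∀ α : Ω, stabilizer G α ≠ ⊥)
    (hep : ∀ (α ω : Ω), IsPreprimitive (stabilizer G α) (orbit (stabilizer G α) ω))
    (α : Ω) (C : Subgroup G) (hC : C ≤ stabilizer G α) {x y : Ω}
    (hxy : R α C x y) (hne : x ≠ y) (z : Ω) : R α C x z ∨ R α C y z := by
  haveI := hprim
  have hpt : IsPretransitive G Ω := inferInstance
  have hyx := R_symm hprim hH hep α C hC hxy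
  by_contra hcon
  push Not at hcon
  obtain ⟨hxz, hyz⟩ := hcon
  have hinv : ∀ (u : Ω) (g : G), g ∈ stabilizer G u → ∀ w, R α C u w → R α C u (g • w) := by
    intro u g hg w hw
    have := R_smul α C hw g
    rwa [mem_stabilizer_iff.mp hg] at this
  have hΘ : ∀ w ∈ orbit (stabilizer G x) z, ¬ R α C x w ∧ ¬ R α C y w := by
    intro w hw
    obtain ⟨k, hk, rfl⟩ := mem_orbit_stab.mp hw
    constructor
    · intro h
      have := hinv x k⁻¹ (inv_mem hk) _ h
      rw [inv_smul_smul] at this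
      exact hxz this
    · intro h
      obtain ⟨h'', hh'', e⟩ := lemA hpt hep α C hC hxy hxz k hk
      rw [← e] at h
      have := hinv y h''⁻¹ (inv_mem hh'') _ h
      rw [inv_smul_smul] at this
      exact hyz this
  refine lemB hprim hH hne (orbit (stabilizer G x) z) ⟨z, mem_orbit_self z⟩ ?_ ?_ ?_
  · intro hu
    have : x ∈ orbit (stabilizer G x) z := by rw [hu]; trivial
    exact (hΘ x this).1 (R_refl α C hC x)
  · intro g hg w hw
    obtain ⟨k, hk, rfl⟩ := mem_orbit_stab.mp hw
    exact mem_orbit_stab.mpr ⟨g * k, mul_mem hg hk, mul_smul _ _ _⟩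
  · intro g hg w hw
    obtain ⟨h', hh', e⟩ := lemA hpt hep α C hC hyx (hΘ w hw).2 g hg
    rw [← e]
    obtain ⟨k, hk, rfl⟩ := mem_orbit_stab.mp hw
    exact mem_orbit_stab.mpr ⟨h' * k, mul_mem hh' hk, mul_smul _ _ _⟩

lemma main [Finite Ω] [FaithfulSMul G Ω] (hprim : IsPreprimitive G Ω)
    (hH : ∀ α : Ω, stabilizer G α ≠ ⊥)
    (hep : ∀ (α ω : Ω), IsPreprimitive (stabilizer G α) (orbit (stabilizer G α) ω))
    (α : Ω) (C : Subgroup G) (hC : C ≤ stabilizer G α)
    (hN : ∀ g ∈ stabilizer G α, ∀ c ∈ C, g * c * g⁻¹ ∈ C)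
    (ω : Ω) (hω : ω ≠ α) (hfix : ∀ c ∈ C, c • ω = ω) : C = ⊥ := by
  haveI := hprim
  by_contra hCne
  have hRα : ∀ z, R α C α z ↔ ∀ c ∈ C, c • z = z := by
    intro z
    constructor
    · intro h c hc
      exact h c (mem_Cx_of α C hN (one_smul G α) (by simpa using hc))
    · intro h k hk
      have := hk 1 (one_smul G α)
      exact h k (by simpa using this)
  have hαω : R α C α ω := (hRα ω).mpr hfix
  obtain ⟨c, hc, hc1⟩ : ∃ c ∈ C, c ≠ 1 := by
    by_contra hcon
    push Not at hcon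
    exact hCne (eq_bot_iff.mpr fun c hc => Subgroup.mem_bot.mpr (hcon c hc))
  obtain ⟨ζ, hζ⟩ : ∃ ζ : Ω, c • ζ ≠ ζ := by
    by_contra hcon
    push Not at hcon
    exact hc1 (FaithfulSMul.eq_of_smul_eq_smul (α := Ω) (fun w => by rw [hcon w, one_smul]))
  have hαζ : ¬ R α C α ζ := fun h => hζ ((hRα ζ).mp h c hc)
  let E : Ω → Ω → Prop := fun u v => u = v ∨ ¬ R α C u v
  have hsymm : ∀ {u v : Ω}, R α C u v → R α C v u := fun h => R_symm hprim hH hep α C hC h
  have hEsymm : ∀ {u v : Ω}, E u v → E v u := by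
    rintro u v (rfl | h)
    · exact Or.inl rfl
    · exact Or.inr fun h' => h (hsymm h')
  have hEtrans : ∀ {u v w : Ω}, E u v → E v w → E u w := by
    rintro u v w (rfl | h1) h2
    · exact h2
    rcases h2 with rfl | h2
    · exact Or.inr h1
    by_cases huw : u = w
    · exact Or.inl huw
    right
    intro h3
    rcases R_cover hprim hH hep α C hC h3 huw v with h4 | h4
    · exact h1 h4
    · exact h2 (hsymm h4)
  have hEsmul : ∀ {u v : Ω} (g : G), E u v ↔ E (g • u) (g • v) := by
    intro u v g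
    simp only [E]
    rw [R_smul_iff]
    constructor
    · rintro (rfl | h)
      · exact Or.inl rfl
      · exact Or.inr h
    · rintro (h | h)
      · exact Or.inl (MulAction.injective g h)
      · exact Or.inr h
  have hB : IsBlock G {v | E α v} := by
    rw [isBlock_iff_smul_eq_of_mem]
    intro g a ha hga
    have ha' : E α a := ha
    have hga' : E α (g • a) := hga
    have h1 : E (g • α) α := hEtrans ((hEsmul g).mp ha') (hEsymm hga')
    ext v
    rw [Set.mem_smul_set_iff_inv_smul_mem]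
    constructor
    · intro hv
      have hv' : E α (g⁻¹ • v) := hv
      have h2 : E (g • α) v := by
        have := (hEsmul g).mp hv'
        rwa [smul_inv_smul] at this
      exact hEtrans (hEsymm h1) h2
    · intro hv
      have hv' : E α v := hv
      have h2 : E (g • α) v := hEtrans h1 hv'
      have := (hEsmul g⁻¹).mp h2
      rwa [inv_smul_smul] at this
  rcases hB.subsingleton_or_eq_univ with hs | hu
  · have h1 : ζ ∈ {v | E α v} := Or.inr hαζ
    have h2 : α ∈ {v | E α v} := Or.inl rfl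
    have h3 : ζ = α := hs h1 h2
    rw [h3] at hαζ
    exact hαζ (R_refl α C hC α)
  · have : ω ∈ {v | E α v} := by rw [hu]; trivial
    rcases this with h | h
    · exact hω h.symm
    · exact h hαω

/-- Manning's Theorem on extremely primitive groups. Let a finite group G act faithfully and primitively on a finite set Ω with non-trivial point stabilizers, and suppose every point stabilizer G_α acts primitively on each of its orbits. Then G_α acts faithfully on each of its orbits other than {α}: an element of G_α fixing every point of one such orbit is the identity. -/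
theorem result {G : Type*} [Group G] [Finite G] {Ω : Type*} [Fintype Ω] [MulAction G Ω] [FaithfulSMul G Ω] (hprim : MulAction.IsPreprimitive G Ω) (hH : ∀ α : Ω, MulAction.stabilizer G α ≠ ⊥) (hep : ∀ (α : Ω) (ω : Ω), MulAction.IsPreprimitive (MulAction.stabilizer G α) (MulAction.orbit (MulAction.stabilizer G α) ω))
    (α ω : Ω) (hω : ω ≠ α) (h : MulAction.stabilizer G α) (hfix : ∀ x ∈ MulAction.orbit (MulAction.stabilizer G α) ω, h • x = x) : h = 1 := by
  by_contra hh
  let C : Subgroup G :=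
    { carrier := {k | k ∈ MulAction.stabilizer G α ∧
        ∀ x ∈ MulAction.orbit (MulAction.stabilizer G α) ω, k • x = x}
      mul_mem' := by
        rintro a b ⟨ha, ha'⟩ ⟨hb, hb'⟩
        exact ⟨mul_mem ha hb, fun x hx => by rw [mul_smul, hb' x hx, ha' x hx]⟩
      one_mem' := ⟨one_mem _, fun x _ => one_smul _ _⟩
      inv_mem' := by
        rintro a ⟨ha, ha'⟩
        exact ⟨inv_mem ha, fun x hx => by rw [inv_smul_eq_iff, ha' x hx]⟩ }
  have hC : C ≤ MulAction.stabilizer G α := fun k hk => hk.1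
  have hN : ∀ g ∈ MulAction.stabilizer G α, ∀ c ∈ C, g * c * g⁻¹ ∈ C := by
    intro g hg c hc
    refine ⟨mul_mem (mul_mem hg hc.1) (inv_mem hg), fun x hx => ?_⟩
    have hx' : g⁻¹ • x ∈ MulAction.orbit (MulAction.stabilizer G α) ω := by
      obtain ⟨k, hk, rfl⟩ := mem_orbit_stab.mp hx
      exact mem_orbit_stab.mpr ⟨g⁻¹ * k, mul_mem (inv_mem hg) hk, mul_smul _ _ _⟩
    rw [mul_smul, mul_smul, hc.2 _ hx', smul_inv_smul]
  have hbot := main hprim hH hep α C hC hN ω hω
    (fun c hc => hc.2 ω (MulAction.mem_orbit_self ω))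
  have hmem : (h : G) ∈ C := ⟨h.2, fun x hx => hfix x hx⟩
  rw [hbot, Subgroup.mem_bot] at hmem
  exact hh (Subtype.ext hmem)

end Cfsg.Agent.S3494
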