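import Cfsg.Statements.S3497
import Mathlib
import Cfsg.Agent.S3494
import Cfsg.Agent.Lib.Helper58.ElemAbGL

set_option autoImplicit false
open Cfsg

namespace Cfsg.Agent.S3497

open MulAction

section
variable {G : Type*} [Group G] {Ω : Type*} [MulAction G Ω]

lemma trans_of_normal' (α ω : Ω)
    (hfaith : ∀ h : stabilizer G α, (∀ x ∈ orbit (stabilizer G α) ω, h • x = x) → h = 1)
    (hep : IsPreprimitive (stabilizer G α) (orbit (stabilizer G α) ω))
    (N : Subgroup (stabilizer G α)) [hNn : N.Normal] (hN : N ≠ ⊥) (h : stabilizer G α) :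
    ∃ n ∈ N, n • ω = h • ω := by
  let ω' : orbit (stabilizer G α) ω := ⟨ω, mem_orbit_self ω⟩
  have hB : IsBlock (stabilizer G α) (orbit N ω') := IsBlock.orbit_of_normal ω'
  rcases hB.subsingleton_or_eq_univ with hs | hu
  · exfalso
    apply hN
    rw [eq_bot_iff]
    intro n hn
    rw [Subgroup.mem_bot]
    apply hfaith
    rintro x ⟨g, rfl⟩
    have h1 : (g⁻¹ * n * g) ∈ N := by
      have := hNn.conj_mem n hn g⁻¹
      simpa using this
    have h2 : (⟨g⁻¹ * n * g, h1⟩ : N) • ω' ∈ orbit N ω' := ⟨_, rfl⟩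
    have h3 := hs h2 (mem_orbit_self ω')
    have h4 : (g⁻¹ * n * g) • ω = ω := congrArg Subtype.val h3
    calc n • g • ω = g • (g⁻¹ * n * g) • ω := by simp [mul_smul]
      _ = g • ω := by rw [h4]
  · have h1 : h • ω' ∈ orbit N ω' := by rw [hu]; trivial
    obtain ⟨⟨n, hn⟩, hn'⟩ := h1
    exact ⟨n, hn, congrArg Subtype.val hn'⟩

lemma cent_semireg (α ω : Ω)
    (hfaith : ∀ h : stabilizer G α, (∀ x ∈ orbit (stabilizer G α) ω, h • x = x) → h = 1)
    (hep : IsPreprimitive (stabilizer G α) (orbit (stabilizer G α) ω))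
    (N : Subgroup (stabilizer G α)) [hNn : N.Normal] (hN : N ≠ ⊥)
    (c : stabilizer G α) (hc : ∀ n ∈ N, c * n = n * c) (hcω : c • ω = ω) : c = 1 := by
  apply hfaith
  rintro x ⟨g, rfl⟩
  obtain ⟨n, hn, hn'⟩ := trans_of_normal' α ω hfaith hep N hN g
  show c • g • ω = g • ω
  rw [← hn', ← mul_smul, hc n hn, mul_smul, hcω]

lemma cent_eq (α ω : Ω)
    (hfaith : ∀ h : stabilizer G α, (∀ x ∈ orbit (stabilizer G α) ω, h • x = x) → h = 1)
    (hep : IsPreprimitive (stabilizer G α) (orbit (stabilizer G α) ω))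
    (N : Subgroup (stabilizer G α)) [hNn : N.Normal] (hN : N ≠ ⊥)
    (hcomm : ∀ a ∈ N, ∀ b ∈ N, a * b = b * a)
    (c : stabilizer G α) (hc : ∀ n ∈ N, c * n = n * c) : c ∈ N := by
  obtain ⟨n, hn, hn'⟩ := trans_of_normal' α ω hfaith hep N hN c
  have h1 : n⁻¹ * c = 1 := by
    apply cent_semireg α ω hfaith hep N hN
    · intro m hm
      have h2 := hcomm n hn m hm
      have h3 : n⁻¹ * m = m * n⁻¹ := by
        calc n⁻¹ * m = n⁻¹ * (m * n) * n⁻¹ := by group
          _ = n⁻¹ * (n * m) * n⁻¹ := by rw [h2]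
          _ = m * n⁻¹ := by group
      rw [mul_assoc, hc m hm, ← mul_assoc, ← mul_assoc, h3]
    · rw [mul_smul, ← hn', inv_smul_smul]
  have : c = n := by rw [inv_mul_eq_one] at h1; exact h1.symm
  rw [this]; exact hn

/-- two nontrivial normal abelian subgroups of the stabilizer coincide -/
lemma normal_comm_le (α ω : Ω)
    (hfaith : ∀ h : stabilizer G α, (∀ x ∈ orbit (stabilizer G α) ω, h • x = x) → h = 1)
    (hep : IsPreprimitive (stabilizer G α) (orbit (stabilizer G α) ω))
    (N₁ N₂ : Subgroup (stabilizer G α)) [hN₁n : N₁.Normal] [hN₂n : N₂.Normal]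
    (hN₁ : N₁ ≠ ⊥) (hN₂ : N₂ ≠ ⊥)
    (hcomm₁ : ∀ a ∈ N₁, ∀ b ∈ N₁, a * b = b * a)
    (_hcomm₂ : ∀ a ∈ N₂, ∀ b ∈ N₂, a * b = b * a) : N₁ ≤ N₂ := by
  by_cases hM : N₁ ⊓ N₂ = ⊥
  · exfalso
    have h1 : N₂ ≤ N₁ := by
      intro a ha
      apply cent_eq α ω hfaith hep N₁ hN₁ hcomm₁
      intro n hn
      have h2 : a * n * a⁻¹ * n⁻¹ ∈ N₁ ⊓ N₂ := by
        refine ⟨N₁.mul_mem (hN₁n.conj_mem n hn a) (N₁.inv_mem hn), ?_⟩
        have := N₂.mul_mem ha (hN₂n.conj_mem a⁻¹ (N₂.inv_mem ha) n)
        simpa [mul_assoc] using this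
      rw [hM, Subgroup.mem_bot] at h2
      calc a * n = a * n * a⁻¹ * n⁻¹ * (n * a) := by group
        _ = n * a := by rw [h2, one_mul]
    apply hN₂
    rw [← hM]
    exact (inf_eq_right.mpr h1).symm
  · intro a ha
    have hcM : ∀ x ∈ N₁ ⊓ N₂, ∀ y ∈ N₁ ⊓ N₂, x * y = y * x :=
      fun x hx y hy => hcomm₁ x hx.1 y hy.1
    have := cent_eq α ω hfaith hep (N₁ ⊓ N₂) hM hcM a (fun n hn => hcomm₁ a ha n hn.1)
    exact this.2

/-- a nontrivial normal nilpotent subgroup of the stabilizer is abelian -/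
lemma nilp_comm (α ω : Ω)
    (hfaith : ∀ h : stabilizer G α, (∀ x ∈ orbit (stabilizer G α) ω, h • x = x) → h = 1)
    (hep : IsPreprimitive (stabilizer G α) (orbit (stabilizer G α) ω))
    (N : Subgroup (stabilizer G α)) [hNn : N.Normal] (hN : N ≠ ⊥)
    (hnil : Group.IsNilpotent N) :
    ∀ a ∈ N, ∀ b ∈ N, a * b = b * a := by
  haveI : Nontrivial N := (Subgroup.nontrivial_iff_ne_bot N).mpr hN
  have hZ : Subgroup.center N ≠ ⊥ := Group.IsNilpotent.center_ne_bot N
  let Z' : Subgroup (stabilizer G α) := (Subgroup.center N).map N.subtype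
  haveI : Z'.Normal := ConjAct.normal_of_characteristic_of_normal
  have hZ' : Z' ≠ ⊥ := by
    intro h
    apply hZ
    exact (Subgroup.map_eq_bot_iff_of_injective _ N.subtype_injective).mp h
  have hmem : ∀ x ∈ Z', ∃ z : N, z ∈ Subgroup.center N ∧ (z : stabilizer G α) = x := by
    intro x hx
    obtain ⟨z, hz, rfl⟩ := hx
    exact ⟨z, hz, rfl⟩
  have hcZ : ∀ x ∈ Z', ∀ y ∈ Z', x * y = y * x := by
    intro x hx y hy
    obtain ⟨z, hz, rfl⟩ := hmem x hx
    obtain ⟨w, hw, rfl⟩ := hmem y hy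
    have := Subgroup.mem_center_iff.mp hz w
    exact (congrArg Subtype.val this).symm
  have hle : N ≤ Z' := by
    intro a ha
    apply cent_eq α ω hfaith hep Z' hZ' hcZ
    intro x hx
    obtain ⟨z, hz, rfl⟩ := hmem x hx
    have := Subgroup.mem_center_iff.mp hz ⟨a, ha⟩
    exact congrArg Subtype.val this
  intro a ha b hb
  exact hcZ a (hle ha) b (hle hb)

end

/-- Restrictions on the point stabilizer of an extremely primitive group. Let a finite group G act faithfully and primitively on a finite set Ω with point stabilizers H = G_α whose order is neither 1 nor a prime, each acting primitively on every one of its orbits. Then H has trivial center, the Fitting subgroup F(H) is an elementary abelian p-group for some prime p, and if F(H) ≠ 1 has order p ^ e then p ^ e divides the number of points minus one and H / F(H) embeds in GL_e(p) (there is a homomorphism from H to GL_e(p) with kernel exactly F(H)). -/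
theorem result {G : Type*} [Group G] [Finite G] {Ω : Type*} [Fintype Ω] [MulAction G Ω] [FaithfulSMul G Ω] (hprim : MulAction.IsPreprimitive G Ω) (hep : ∀ (α : Ω) (ω : Ω), MulAction.IsPreprimitive (MulAction.stabilizer G α) (MulAction.orbit (MulAction.stabilizer G α) ω)) (α : Ω)
    (hH1 : MulAction.stabilizer G α ≠ ⊥) (hHp : ¬ (Nat.card (MulAction.stabilizer G α)).Prime) :
    Subgroup.center (MulAction.stabilizer G α) = ⊥ ∧
    IsMulCommutative (Cfsg.fittingSubgroup (MulAction.stabilizer G α)) ∧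
    ∃ p e : ℕ, p.Prime ∧ Nat.card (Cfsg.fittingSubgroup (MulAction.stabilizer G α)) = p ^ e ∧
      (∀ x ∈ Cfsg.fittingSubgroup (MulAction.stabilizer G α), x ^ p = 1) ∧
      (Cfsg.fittingSubgroup (MulAction.stabilizer G α) ≠ ⊥ →
        p ^ e ∣ Fintype.card Ω - 1 ∧
        ∃ φ : MulAction.stabilizer G α →* GL (Fin e) (ZMod p), φ.ker = Cfsg.fittingSubgroup (MulAction.stabilizer G α)) := by
  classical
  haveI : IsPretransitive G Ω := hprim.toIsPretransitive
  haveI : Finite Ω := Finite.of_fintype Ω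
  have hH' : ∀ β : Ω, stabilizer G β ≠ ⊥ := by
    intro β hβ
    obtain ⟨g, rfl⟩ := exists_smul_eq G α β
    apply hH1
    rw [stabilizer_smul_eq_stabilizer_map_conj] at hβ
    exact (Subgroup.map_eq_bot_iff_of_injective _ (MulAut.conj g).injective).mp hβ
  have hfaith : ∀ ω : Ω, ω ≠ α → ∀ h : stabilizer G α,
      (∀ x ∈ orbit (stabilizer G α) ω, h • x = x) → h = 1 :=
    fun ω hω h hfix => Cfsg.Agent.S3494.result hprim hH' hep α ω hω h hfix
  obtain ⟨ω₀, hω₀⟩ : ∃ ω : Ω, ω ≠ α := by
    by_contra hcon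
    push Not at hcon
    apply hH1
    rw [eq_bot_iff]
    intro g hg
    rw [Subgroup.mem_bot]
    apply FaithfulSMul.eq_of_smul_eq_smul (α := Ω)
    intro x
    rw [hcon x, one_smul]
    exact hg
  have hf := hfaith ω₀ hω₀
  have hp := hep α ω₀
  have hcenter : Subgroup.center (stabilizer G α) = ⊥ := by
    by_contra hZ
    have hcZ : ∀ x ∈ Subgroup.center (stabilizer G α),
        ∀ y ∈ Subgroup.center (stabilizer G α), x * y = y * x :=
      fun x hx y hy => (Subgroup.mem_center_iff.mp hx y).symm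
    have hall : ∀ c : stabilizer G α, c ∈ Subgroup.center (stabilizer G α) := by
      intro c
      apply cent_eq α ω₀ hf hp _ hZ hcZ
      intro n hn
      exact (Subgroup.mem_center_iff.mp hn c)
    have hcomm : ∀ a b : stabilizer G α, a * b = b * a :=
      fun a b => (Subgroup.mem_center_iff.mp (hall b) a)
    haveI hnt : Nontrivial (stabilizer G α) := (Subgroup.nontrivial_iff_ne_bot _).mpr hH1
    have hcard : 1 < Nat.card (stabilizer G α) := Finite.one_lt_card
    obtain ⟨p, hpp, hpd⟩ := Nat.exists_prime_and_dvd (ne_of_gt hcard)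
    haveI : Fact p.Prime := ⟨hpp⟩
    obtain ⟨g, hg⟩ := exists_prime_orderOf_dvd_card' p hpd
    let K : Subgroup (stabilizer G α) := Subgroup.zpowers g
    haveI : K.Normal := ⟨fun n hn x => by rw [hcomm x n, mul_inv_cancel_right]; exact hn⟩
    have hK : K ≠ ⊥ := by
      intro h
      have h1 : g = 1 := by
        have : g ∈ K := Subgroup.mem_zpowers g
        rw [h, Subgroup.mem_bot] at this
        exact this
      rw [h1, orderOf_one] at hg
      exact hpp.one_lt.ne hg
    have hKtop : K = ⊤ := by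
      rw [eq_top_iff]
      intro c _
      exact cent_eq α ω₀ hf hp K hK (fun a _ b _ => hcomm a b) c (fun n _ => hcomm c n)
    apply hHp
    have : Nat.card (stabilizer G α) = p := by
      rw [← Subgroup.card_top (G := stabilizer G α), ← hKtop, Nat.card_zpowers, hg]
    rw [this]; exact hpp
  refine ⟨hcenter, ?_⟩
  by_cases hS : ∀ N : Subgroup (stabilizer G α), N.Normal ∧ Group.IsNilpotent N → N = ⊥
  · have hF : Cfsg.fittingSubgroup (stabilizer G α) = ⊥ := by
      unfold Cfsg.fittingSubgroup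
      rw [sSup_eq_bot]
      exact fun N hN => hS N hN
    rw [hF]
    refine ⟨⟨⟨fun a b => Subsingleton.elim _ _⟩⟩, 2, 0, Nat.prime_two, by simp, ?_,
      fun h => absurd rfl h⟩
    intro x hx
    rw [Subgroup.mem_bot] at hx
    rw [hx, one_pow]
  · push Not at hS
    obtain ⟨N₀, ⟨hN₀n, hN₀nil⟩, hN₀⟩ := hS
    haveI := hN₀n
    have hc₀ := nilp_comm α ω₀ hf hp N₀ hN₀ hN₀nil
    have hF : Cfsg.fittingSubgroup (stabilizer G α) = N₀ := by
      unfold Cfsg.fittingSubgroup
      apply le_antisymm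
      · apply sSup_le
        rintro N ⟨hNn, hNnil⟩
        by_cases hN : N = ⊥
        · rw [hN]; exact bot_le
        · haveI := hNn
          exact normal_comm_le α ω₀ hf hp N N₀ hN hN₀ (nilp_comm α ω₀ hf hp N hN hNnil) hc₀
      · exact le_sSup ⟨hN₀n, hN₀nil⟩
    rw [hF]
    refine ⟨⟨⟨fun a b => Subtype.ext (hc₀ a a.2 b b.2)⟩⟩, ?_⟩
    haveI : Nontrivial N₀ := (Subgroup.nontrivial_iff_ne_bot N₀).mpr hN₀
    have hcard : 1 < Nat.card N₀ := Finite.one_lt_card
    obtain ⟨p, hpp, hpd⟩ := Nat.exists_prime_and_dvd (ne_of_gt hcard)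
    haveI : Fact p.Prime := ⟨hpp⟩
    obtain ⟨g, hg⟩ := exists_prime_orderOf_dvd_card' p hpd
    let M : Subgroup (stabilizer G α) :=
      { carrier := {x | x ∈ N₀ ∧ x ^ p = 1}
        mul_mem' := by
          rintro a b ⟨ha, ha'⟩ ⟨hb, hb'⟩
          refine ⟨N₀.mul_mem ha hb, ?_⟩
          rw [Commute.mul_pow (hc₀ a ha b hb), ha', hb', one_mul]
        one_mem' := ⟨N₀.one_mem, one_pow _⟩
        inv_mem' := by
          rintro a ⟨ha, ha'⟩
          exact ⟨N₀.inv_mem ha, by rw [inv_pow, ha', inv_one]⟩ }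
    haveI : M.Normal := ⟨by
      rintro n ⟨hn, hn'⟩ x
      refine ⟨hN₀n.conj_mem n hn x, ?_⟩
      rw [conj_pow, hn', mul_one, mul_inv_cancel]⟩
    have hM : M ≠ ⊥ := by
      intro h
      have h1 : (g : stabilizer G α) ∈ M := ⟨g.2, by
        have := pow_orderOf_eq_one g
        rw [hg] at this
        exact_mod_cast congrArg Subtype.val this⟩
      rw [h, Subgroup.mem_bot] at h1
      have h2 : g = 1 := Subtype.ext h1
      rw [h2, orderOf_one] at hg
      exact hpp.one_lt.ne hg
    have hexp : ∀ x ∈ N₀, x ^ p = 1 := by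
      intro x hx
      have := normal_comm_le α ω₀ hf hp N₀ M hN₀ hM hc₀
        (fun a ha b hb => hc₀ a ha.1 b hb.1) hx
      exact this.2
    have hpg : IsPGroup p N₀ := fun x => ⟨1, by rw [pow_one]; exact Subtype.ext (hexp x x.2)⟩
    obtain ⟨e, he⟩ := IsPGroup.iff_card.mp hpg
    refine ⟨p, e, hpp, he, hexp, fun _ => ⟨?_, ?_⟩⟩
    · have hfree : ∀ b : SubMulAction.ofStabilizer G α, stabilizer N₀ b = ⊥ := by
        intro b
        rw [eq_bot_iff]
        intro n hn
        rw [Subgroup.mem_bot]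
        have hb : (b : Ω) ≠ α := b.2
        have h1 : (n : stabilizer G α) • (b : Ω) = b := by
          have := congrArg Subtype.val (mem_stabilizer_iff.mp hn)
          exact this
        have := cent_semireg α (b : Ω) (hfaith b hb) (hep α b) N₀ hN₀ (n : stabilizer G α)
          (fun m hm => hc₀ n n.2 m hm) h1
        exact Subtype.ext this
      have e1 := selfEquivOrbitsQuotientProd hfree
      have h2 : Nat.card (SubMulAction.ofStabilizer G α) =
          Nat.card (Quotient (orbitRel N₀ (SubMulAction.ofStabilizer G α))) * Nat.card N₀ := by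
        rw [Nat.card_congr e1, Nat.card_prod]
      rw [SubMulAction.nat_card_ofStabilizer_eq, Nat.card_eq_fintype_card] at h2
      rw [h2, he]
      exact dvd_mul_left _ _
    · obtain ⟨ψ, hψ⟩ := Cfsg.Agent.Lib.Helper58.ElemAbGL.mulAut_embed_GL (A := N₀) p e
        (fun a b => Subtype.ext (hc₀ a a.2 b b.2)) (fun a => Subtype.ext (hexp a a.2)) he
      refine ⟨ψ.comp (MulAut.conjNormal (H := N₀)), ?_⟩
      ext x
      rw [MonoidHom.mem_ker, MonoidHom.comp_apply]
      constructor
      · intro hx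
        have h1 : MulAut.conjNormal (H := N₀) x = 1 := hψ (by rw [hx, map_one])
        apply cent_eq α ω₀ hf hp N₀ hN₀ hc₀
        intro n hn
        have h2 := congrArg (fun f : MulAut N₀ => ((f ⟨n, hn⟩ : N₀) : stabilizer G α)) h1
        simp only [MulAut.conjNormal_apply, MulAut.one_apply] at h2
        calc x * n = x * n * x⁻¹ * x := by group
          _ = n * x := by rw [h2]
      · intro hx
        have h1 : MulAut.conjNormal (H := N₀) x = 1 := by
          apply MulEquiv.ext; intro n; apply Subtype.ext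
          simp only [MulAut.conjNormal_apply, MulAut.one_apply]
          rw [hc₀ x hx n n.2, mul_inv_cancel_right]
        rw [h1, map_one]

end Cfsg.Agent.S3497
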