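import Cfsg.Statements.S3493
import Mathlib
import Cfsg.Agent.S3494
import Cfsg.Agent.S3497
import Cfsg.Agent.Lib.Helper10.PrimSolv
import Cfsg.Agent.Lib.Helper58.EPCore

set_option autoImplicit false
open Cfsg

namespace Cfsg.Agent.S3493

open MulAction

section
variable {G : Type*} [Group G] [Finite G] {Ω : Type*} [Fintype Ω] [MulAction G Ω]
  [FaithfulSMul G Ω]

/-- the stabilizer in `G_α` of a point `ω` is a maximal subgroup of `G_α` -/
lemma stab_coatom (α ω : Ω)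
    (hfaith : ∀ h : stabilizer G α, (∀ x ∈ orbit (stabilizer G α) ω, h • x = x) → h = 1)
    (hep : IsPreprimitive (stabilizer G α) (orbit (stabilizer G α) ω))
    (hH : stabilizer G α ≠ ⊥) :
    IsCoatom (stabilizer (stabilizer G α) ω) := by
  haveI : Nontrivial (orbit (stabilizer G α) ω) := by
    by_contra hnt
    rw [not_nontrivial_iff_subsingleton] at hnt
    apply hH
    rw [eq_bot_iff]
    intro g hg
    rw [Subgroup.mem_bot]
    have h0 := hfaith ⟨g, hg⟩ (by
      intro x hx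
      have hx' : (⟨g, hg⟩ : stabilizer G α) • x ∈ orbit (stabilizer G α) ω := by
        obtain ⟨k, rfl⟩ := hx
        exact ⟨⟨g, hg⟩ * k, mul_smul _ _ _⟩
      have h1 : (⟨(⟨g, hg⟩ : stabilizer G α) • x, hx'⟩ : orbit (stabilizer G α) ω) = ⟨x, hx⟩ :=
        Subsingleton.elim _ _
      exact congrArg Subtype.val h1)
    exact congrArg Subtype.val h0
  have h1 := IsPreprimitive.isCoatom_stabilizer_of_isPreprimitive (G := stabilizer G α)
    (⟨ω, mem_orbit_self ω⟩ : orbit (stabilizer G α) ω)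
  have h2 : stabilizer (stabilizer G α) (⟨ω, mem_orbit_self ω⟩ : orbit (stabilizer G α) ω) =
      stabilizer (stabilizer G α) ω := by
    ext h
    simp only [mem_stabilizer_iff]
    constructor
    · intro hh; exact congrArg Subtype.val hh
    · intro hh; exact Subtype.ext hh
  rw [h2] at h1
  exact h1

/-- Two commuting regular subgroups whose product is normal cannot occur in an extremely
primitive group. -/
lemma hs_false (hprim : IsPreprimitive G Ω)
    (hep : ∀ (α ω : Ω), IsPreprimitive (stabilizer G α) (orbit (stabilizer G α) ω))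
    (hH : ∀ β : Ω, stabilizer G β ≠ ⊥) (α : Ω)
    (T₁ T₂ : Subgroup G)
    (hcomm : ∀ a ∈ T₁, ∀ b ∈ T₂, a * b = b * a)
    (hint : ∀ a ∈ T₁, a ∈ T₂ → a = 1)
    (htr₁ : ∀ ω : Ω, ∃ t ∈ T₁, t • α = ω) (hreg₁ : ∀ t ∈ T₁, t • α = α → t = 1)
    (htr₂ : ∀ ω : Ω, ∃ t ∈ T₂, t • α = ω) (hreg₂ : ∀ t ∈ T₂, t • α = α → t = 1)
    (hconj₁ : ∀ g : G, (∀ t ∈ T₁, g * t * g⁻¹ ∈ T₁) ∨ (∀ t ∈ T₁, g * t * g⁻¹ ∈ T₂))
    (hconj₂ : ∀ g : G, (∀ c ∈ T₂, g * c * g⁻¹ ∈ T₂) ∨ (∀ c ∈ T₂, g * c * g⁻¹ ∈ T₁)) :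
    False := by
  classical
  have hfaith : ∀ ω : Ω, ω ≠ α → ∀ h : stabilizer G α,
      (∀ x ∈ orbit (stabilizer G α) ω, h • x = x) → h = 1 :=
    fun ω hω h hfix => Cfsg.Agent.S3494.result hprim hH hep α ω hω h hfix
  -- regularity in the form of injectivity
  have hinj₁ : ∀ s ∈ T₁, ∀ t ∈ T₁, s • α = t • α → s = t := by
    intro s hs t ht h
    have h1 : (t⁻¹ * s) • α = α := by rw [mul_smul, h, inv_smul_smul]
    have h2 := hreg₁ _ (T₁.mul_mem (T₁.inv_mem ht) hs) h1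
    rw [inv_mul_eq_one] at h2
    exact h2.symm
  have hinj₂ : ∀ s ∈ T₂, ∀ t ∈ T₂, s • α = t • α → s = t := by
    intro s hs t ht h
    have h1 : (t⁻¹ * s) • α = α := by rw [mul_smul, h, inv_smul_smul]
    have h2 := hreg₂ _ (T₂.mul_mem (T₂.inv_mem ht) hs) h1
    rw [inv_mul_eq_one] at h2
    exact h2.symm
  -- the product subgroup
  let N' : Subgroup G :=
    { carrier := {n | ∃ t ∈ T₁, ∃ c ∈ T₂, n = t * c}
      mul_mem' := by
        rintro _ _ ⟨t, ht, c, hc, rfl⟩ ⟨t', ht', c', hc', rfl⟩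
        refine ⟨t * t', T₁.mul_mem ht ht', c * c', T₂.mul_mem hc hc', ?_⟩
        have := hcomm t' ht' c hc
        calc t * c * (t' * c') = t * (c * t') * c' := by group
          _ = t * (t' * c) * c' := by rw [this]
          _ = t * t' * (c * c') := by group
      one_mem' := ⟨1, T₁.one_mem, 1, T₂.one_mem, by simp⟩
      inv_mem' := by
        rintro _ ⟨t, ht, c, hc, rfl⟩
        refine ⟨t⁻¹, T₁.inv_mem ht, c⁻¹, T₂.inv_mem hc, ?_⟩
        have := hcomm t⁻¹ (T₁.inv_mem ht) c⁻¹ (T₂.inv_mem hc)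
        rw [mul_inv_rev, this] }
  have hN'mem : ∀ n : G, n ∈ N' ↔ ∃ t ∈ T₁, ∃ c ∈ T₂, n = t * c := fun n => Iff.rfl
  haveI hN'n : N'.Normal := ⟨by
    rintro _ ⟨t, ht, c, hc, rfl⟩ g
    have e : g * (t * c) * g⁻¹ = (g * t * g⁻¹) * (g * c * g⁻¹) := by group
    rw [e]
    rcases hconj₁ g with h1 | h1 <;> rcases hconj₂ g with h2 | h2
    · exact ⟨_, h1 t ht, _, h2 c hc, rfl⟩
    · exact ⟨_, T₁.mul_mem (h1 t ht) (h2 c hc), 1, T₂.one_mem, by simp⟩
    · exact ⟨1, T₁.one_mem, _, T₂.mul_mem (h1 t ht) (h2 c hc), by simp⟩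
    · exact ⟨_, h2 c hc, _, h1 t ht, (hcomm _ (h2 c hc) _ (h1 t ht)).symm⟩⟩
  -- conjugation by elements of N' preserves T₁ and T₂
  have hK1 : ∀ e ∈ N', ∀ t ∈ T₁, e * t * e⁻¹ ∈ T₁ := by
    rintro _ ⟨t', ht', c', hc', rfl⟩ t ht
    have h1 := hcomm t ht c' hc'
    have e1 : t' * c' * t * (t' * c')⁻¹ = t' * (c' * t) * c'⁻¹ * t'⁻¹ := by group
    rw [e1, ← h1]
    have e2 : t' * (t * c') * c'⁻¹ * t'⁻¹ = t' * t * t'⁻¹ := by group
    rw [e2]
    exact T₁.mul_mem (T₁.mul_mem ht' ht) (T₁.inv_mem ht')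
  have hK1' : ∀ e ∈ N', ∀ c ∈ T₂, e * c * e⁻¹ ∈ T₂ := by
    rintro _ ⟨t', ht', c', hc', rfl⟩ c hc
    have h1 := hcomm t' ht' (c' * c * c'⁻¹) (T₂.mul_mem (T₂.mul_mem hc' hc) (T₂.inv_mem hc'))
    have e1 : t' * c' * c * (t' * c')⁻¹ = t' * (c' * c * c'⁻¹) * t'⁻¹ := by group
    rw [e1, h1]
    have e2 : c' * c * c'⁻¹ * t' * t'⁻¹ = c' * c * c'⁻¹ := by group
    rw [e2]
    exact T₂.mul_mem (T₂.mul_mem hc' hc) (T₂.inv_mem hc')
  have hK2 : ∀ t ∈ T₁, ∀ c ∈ T₂, ∀ t' ∈ T₁, ∀ c' ∈ T₂, t * c = t' * c' → t = t' := by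
    intro t ht c hc t' ht' c' hc' h
    have h1 : t'⁻¹ * t = c' * c⁻¹ := by
      calc t'⁻¹ * t = t'⁻¹ * (t * c) * c⁻¹ := by group
        _ = t'⁻¹ * (t' * c') * c⁻¹ := by rw [h]
        _ = c' * c⁻¹ := by group
    have h2 := hint _ (T₁.mul_mem (T₁.inv_mem ht') ht)
      (by rw [h1]; exact T₂.mul_mem hc' (T₂.inv_mem hc))
    rw [inv_mul_eq_one] at h2
    exact h2.symm
  -- stabilizer ↔ centralizer
  have hK3 : ∀ t ∈ T₁, ∀ c ∈ T₂, (t * c) • α = α → ∀ e ∈ N', e • α = α →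
      (e • (t • α) = t • α ↔ e * (t * c) = (t * c) * e) := by
    intro t ht c hc hd e he heα
    have heα' : e⁻¹ • α = α := by rw [inv_smul_eq_iff, heα]
    have hconjα : ∀ g : G, e • (g • α) = (e * g * e⁻¹) • α := by
      intro g
      rw [mul_smul, mul_smul, heα']
    constructor
    · intro h
      rw [hconjα] at h
      have h1 : e * t * e⁻¹ = t := hinj₁ _ (hK1 e he t ht) t ht h
      have h2 : (e * (t * c) * e⁻¹) • α = α := by rw [← hconjα, hd, heα]
      have e3 : e * (t * c) * e⁻¹ = (e * t * e⁻¹) * (e * c * e⁻¹) := by group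
      rw [e3, h1] at h2
      have h4 : (e * c * e⁻¹) • α = c • α := by
        have h5 : t • (e * c * e⁻¹) • α = t • c • α := by
          rw [← mul_smul, h2, ← mul_smul, hd]
        exact smul_left_cancel t h5
      have h6 : e * c * e⁻¹ = c := hinj₂ _ (hK1' e he c hc) c hc h4
      calc e * (t * c) = (e * t * e⁻¹) * (e * c * e⁻¹) * e := by group
        _ = t * c * e := by rw [h1, h6]
    · intro h
      have h1 : (e * t * e⁻¹) * (e * c * e⁻¹) = t * c := by
        calc (e * t * e⁻¹) * (e * c * e⁻¹) = e * (t * c) * e⁻¹ := by group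
          _ = t * c * e * e⁻¹ := by rw [h]
          _ = t * c := by group
      have h2 := hK2 _ (hK1 e he t ht) _ (hK1' e he c hc) t ht c hc h1
      rw [hconjα, h2]
  -- powers
  have hK4 : ∀ h : G, h • α = α → ∀ t ∈ T₁, h • (t • α) = t • α →
      ∀ j : ℕ, h • (t ^ j • α) = t ^ j • α := by
    intro h hα t ht hfix j
    have hα' : h⁻¹ • α = α := by rw [inv_smul_eq_iff, hα]
    have hn : (h * t * h⁻¹) • α = t • α := by rw [mul_smul, mul_smul, hα', hfix]
    have hcommn : Commute (h * t * h⁻¹) t := by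
      rcases hconj₁ h with h1 | h1
      · have := hinj₁ _ (h1 t ht) t ht hn
        rw [this]
      · exact (hcomm t ht _ (h1 t ht)).symm
    have hpow : ∀ j : ℕ, (h * t * h⁻¹) ^ j • α = t ^ j • α := by
      intro j
      induction j with
      | zero => simp
      | succ j ih =>
        rw [pow_succ, mul_smul, hn, ← mul_smul, (hcommn.pow_left j).eq, mul_smul, ih,
          ← mul_smul, ← pow_succ']
    have e1 : h * t ^ j * h⁻¹ = (h * t * h⁻¹) ^ j := by rw [conj_pow]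
    calc h • (t ^ j • α) = (h * t ^ j * h⁻¹) • α := by rw [mul_smul, mul_smul, hα']
      _ = t ^ j • α := by rw [e1, hpow]
  -- the normal subgroup `D'` of the stabilizer
  let D' : Subgroup (stabilizer G α) := N'.subgroupOf (stabilizer G α)
  haveI hD'n : D'.Normal := inferInstance
  have hD'mem : ∀ d : stabilizer G α, d ∈ D' ↔ (d : G) ∈ N' := fun d => Subgroup.mem_subgroupOf
  obtain ⟨ω₀, hω₀⟩ : ∃ ω : Ω, ω ≠ α := by
    by_contra hcon
    push Not at hcon
    apply hH α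
    rw [eq_bot_iff]
    intro g hg
    rw [Subgroup.mem_bot]
    apply FaithfulSMul.eq_of_smul_eq_smul (α := Ω)
    intro x
    rw [hcon x, one_smul]
    exact hg
  have hD'bot : D' ≠ ⊥ := by
    obtain ⟨t₁, ht₁, ht₁α⟩ := htr₁ ω₀
    obtain ⟨c₁, hc₁, hc₁α⟩ := htr₂ (t₁⁻¹ • α)
    have hfix : (t₁ * c₁) • α = α := by rw [mul_smul, hc₁α, smul_inv_smul]
    intro hbot
    have hmem : (⟨t₁ * c₁, hfix⟩ : stabilizer G α) ∈ D' :=
      (hD'mem _).mpr ⟨t₁, ht₁, c₁, hc₁, rfl⟩
    rw [hbot, Subgroup.mem_bot] at hmem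
    have h1 : t₁ * c₁ = 1 := congrArg Subtype.val hmem
    have h2 : t₁ = c₁⁻¹ := eq_inv_of_mul_eq_one_left h1
    have h3 := hint t₁ ht₁ (by rw [h2]; exact T₂.inv_mem hc₁)
    apply hω₀
    rw [← ht₁α, h3, one_smul]
  haveI : Nontrivial D' := (Subgroup.nontrivial_iff_ne_bot D').mpr hD'bot
  have htrans : ∀ ω : Ω, ω ≠ α → ∀ g : stabilizer G α, ∃ n ∈ D', n • ω = g • ω :=
    fun ω hω g =>
      Cfsg.Agent.S3497.trans_of_normal' α ω (hfaith ω hω) (hep α ω) D' hD'bot g
  have hco : ∀ ω : Ω, ω ≠ α → IsCoatom (stabilizer (stabilizer G α) ω) := fun ω hω =>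
    stab_coatom α ω (hfaith ω hω) (hep α ω) (hH α)
  let S : {ω : Ω // ω ≠ α} → Subgroup D' := fun x => stabilizer D' (x : Ω)
  let A : {ω : Ω // ω ≠ α} → Set (MulAut D') := fun x =>
    {φ | ∃ h ∈ stabilizer (stabilizer G α) (x : Ω), φ = MulAut.conjNormal h}
  have hSmem : ∀ (x : {ω : Ω // ω ≠ α}) (s : D'),
      s ∈ S x ↔ ((s : stabilizer G α) : G) • (x : Ω) = x := fun x s => Iff.rfl
  apply Cfsg.Agent.Lib.Helper58.EPCore.core_false (S := S) (A := A)
  refine ⟨?_, ?_, ?_, ?_, ?_, ?_⟩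
  · -- h1
    rintro x φ ⟨h, hh, rfl⟩ s
    rw [hSmem, hSmem]
    have hhx : (h : G) • (x : Ω) = x := hh
    have hhx' : (h : G)⁻¹ • (x : Ω) = x := by rw [inv_smul_eq_iff, hhx]
    have e : ((MulAut.conjNormal h s : D') : stabilizer G α) = h * s * h⁻¹ :=
      MulAut.conjNormal_apply h s
    have e' : (((MulAut.conjNormal h s : D') : stabilizer G α) : G) =
        (h : G) * ((s : stabilizer G α) : G) * (h : G)⁻¹ := by rw [e]; rfl
    rw [e', mul_smul, mul_smul, hhx']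
    constructor
    · intro h1
      have h2 := congrArg (fun y => (h : G)⁻¹ • y) h1
      simpa [hhx'] using h2
    · intro h1; rw [h1, hhx]
  · -- h2
    intro x M hle hinv
    let Q : Subgroup (stabilizer G α) :=
      { carrier := {g | ∃ m : D', m ∈ M ∧
          ∃ k ∈ stabilizer (stabilizer G α) (x : Ω), g = (m : stabilizer G α) * k}
        mul_mem' := by
          rintro _ _ ⟨m, hm, k, hk, rfl⟩ ⟨m', hm', k', hk', rfl⟩
          refine ⟨m * MulAut.conjNormal k m',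
            M.mul_mem hm (hinv _ ⟨k, hk, rfl⟩ m' hm'), k * k', mul_mem hk hk', ?_⟩
          rw [Subgroup.coe_mul, MulAut.conjNormal_apply]
          group
        one_mem' := ⟨1, M.one_mem, 1, one_mem _, by simp⟩
        inv_mem' := by
          rintro _ ⟨m, hm, k, hk, rfl⟩
          refine ⟨MulAut.conjNormal k⁻¹ m⁻¹,
            hinv _ ⟨k⁻¹, inv_mem hk, rfl⟩ _ (M.inv_mem hm), k⁻¹, inv_mem hk, ?_⟩
          rw [MulAut.conjNormal_apply, Subgroup.coe_inv]
          group }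
    have hQ : stabilizer (stabilizer G α) (x : Ω) ≤ Q :=
      fun k hk => ⟨1, M.one_mem, k, hk, by simp⟩
    rcases (hco x x.2).le_iff.mp hQ with h | h
    · right
      rw [eq_top_iff]
      intro d _
      have hd : (d : stabilizer G α) ∈ Q := by rw [h]; trivial
      obtain ⟨m, hm, k, hk, hdk⟩ := hd
      have hkD : k ∈ D' := by
        have h1 : k = (m : stabilizer G α)⁻¹ * d := by rw [hdk]; group
        rw [h1]
        exact D'.mul_mem (D'.inv_mem m.2) d.2
      have hkS : (⟨k, hkD⟩ : D') ∈ S x := hk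
      have h2 : d = m * ⟨k, hkD⟩ := Subtype.ext hdk
      rw [h2]
      exact M.mul_mem hm (hle hkS)
    · left
      apply le_antisymm _ hle
      intro m hm
      have h1 : (m : stabilizer G α) ∈ Q := ⟨m, hm, 1, one_mem _, by simp⟩
      rw [h] at h1
      exact h1
  · -- h3
    intro x K hKn hK
    rw [eq_bot_iff]
    intro k hk
    rw [Subgroup.mem_bot]
    apply Subtype.ext
    apply hfaith (x : Ω) x.2
    rintro _ ⟨g, rfl⟩
    obtain ⟨n, hn, hn'⟩ := htrans (x : Ω) x.2 g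
    show (k : stabilizer G α) • (g • (x : Ω)) = g • (x : Ω)
    rw [← hn']
    have h1 : (⟨n, hn⟩ : D')⁻¹ * k * ⟨n, hn⟩ ∈ K := by
      have h0 := hKn.conj_mem k hk (⟨n, hn⟩ : D')⁻¹
      simpa using h0
    have h2 := hK h1
    have h3 : (n⁻¹ * (k : stabilizer G α) * n) • (x : Ω) = x := h2
    calc (k : stabilizer G α) • (n • (x : Ω))
        = n • ((n⁻¹ * (k : stabilizer G α) * n) • (x : Ω)) := by
          rw [← mul_smul, ← mul_smul]; congr 1; group
      _ = n • (x : Ω) := by rw [h3]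
  · -- h4
    intro d hd1
    obtain ⟨t, ht, c, hc, hdtc⟩ := (hD'mem (d : stabilizer G α)).mp d.2
    have hdα : (t * c) • α = α := by rw [← hdtc]; exact (d : stabilizer G α).2
    have ht1 : t • α ≠ α := by
      intro h
      have h1 := hreg₁ t ht h
      have h2 : c • α = α := by rw [h1, one_mul] at hdα; exact hdα
      have h3 := hreg₂ c hc h2
      apply hd1
      apply Subtype.ext; apply Subtype.ext
      rw [hdtc, h1, h3]; simp
    refine ⟨⟨t • α, ht1⟩, ?_⟩
    ext e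
    rw [hSmem, Cfsg.Agent.Lib.Helper58.EPCore.mem_centralizer_singleton]
    have h0 := hK3 t ht c hc hdα ((e : stabilizer G α) : G) ((hD'mem _).mp e.2)
      (e : stabilizer G α).2
    show ((e : stabilizer G α) : G) • (t • α) = t • α ↔ _
    rw [h0, ← hdtc]
    constructor
    · intro h; apply Subtype.ext; apply Subtype.ext; exact h.symm
    · intro h; exact (congrArg (fun y : D' => ((y : stabilizer G α) : G)) h).symm
  · -- h4'
    intro d j hdj
    have hd1 : d ≠ 1 := fun h => hdj (by rw [h, one_pow])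
    obtain ⟨t, ht, c, hc, hdtc⟩ := (hD'mem (d : stabilizer G α)).mp d.2
    have hdα : (t * c) • α = α := by rw [← hdtc]; exact (d : stabilizer G α).2
    have htc : Commute t c := hcomm t ht c hc
    have hdj' : (((d ^ j : D') : stabilizer G α) : G) = t ^ j * c ^ j := by
      rw [Subgroup.coe_pow, Subgroup.coe_pow, hdtc, htc.mul_pow]
    have hdjα : (t ^ j * c ^ j) • α = α := by
      rw [← hdj']; exact ((d ^ j : D') : stabilizer G α).2
    have ht1 : t • α ≠ α := by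
      intro h
      have h1 := hreg₁ t ht h
      have h2 : c • α = α := by rw [h1, one_mul] at hdα; exact hdα
      have h3 := hreg₂ c hc h2
      apply hd1
      apply Subtype.ext; apply Subtype.ext
      rw [hdtc, h1, h3]; simp
    have htj1 : t ^ j • α ≠ α := by
      intro h
      have h1 := hreg₁ _ (T₁.pow_mem ht j) h
      have h2 : c ^ j • α = α := by rw [h1, one_mul] at hdjα; exact hdjα
      have h3 := hreg₂ _ (T₂.pow_mem hc j) h2
      apply hdj
      apply Subtype.ext; apply Subtype.ext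
      rw [hdj', h1, h3]; simp
    have hle : stabilizer (stabilizer G α) (t • α) ≤
        stabilizer (stabilizer G α) (t ^ j • α) := by
      intro h hh
      exact hK4 (h : G) h.2 t ht hh j
    have heq : stabilizer (stabilizer G α) (t ^ j • α) = stabilizer (stabilizer G α) (t • α) := by
      rcases (hco _ ht1).le_iff.mp hle with h | h
      · exact absurd h (hco _ htj1).1
      · exact h
    ext e
    rw [Cfsg.Agent.Lib.Helper58.EPCore.mem_centralizer_singleton,
      Cfsg.Agent.Lib.Helper58.EPCore.mem_centralizer_singleton]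
    have h1 := hK3 t ht c hc hdα ((e : stabilizer G α) : G) ((hD'mem _).mp e.2)
      (e : stabilizer G α).2
    have h2 := hK3 (t ^ j) (T₁.pow_mem ht j) (c ^ j) (T₂.pow_mem hc j) hdjα
      ((e : stabilizer G α) : G) ((hD'mem _).mp e.2) (e : stabilizer G α).2
    have h3 : ((e : stabilizer G α) : G) • (t ^ j • α) = t ^ j • α ↔
        ((e : stabilizer G α) : G) • (t • α) = t • α :=
      SetLike.ext_iff.mp heq (e : stabilizer G α)
    constructor
    · intro h
      have h4 : ((e : stabilizer G α) : G) * (t ^ j * c ^ j) =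
          (t ^ j * c ^ j) * ((e : stabilizer G α) : G) := by
        rw [← hdj']; exact (congrArg (fun y : D' => ((y : stabilizer G α) : G)) h).symm
      have h5 := h1.mp (h3.mp (h2.mpr h4))
      apply Subtype.ext; apply Subtype.ext
      show ((d : stabilizer G α) : G) * _ = _ * ((d : stabilizer G α) : G)
      rw [hdtc]; exact h5.symm
    · intro h
      have h4 : ((e : stabilizer G α) : G) * (t * c) = (t * c) * ((e : stabilizer G α) : G) := by
        rw [← hdtc]; exact (congrArg (fun y : D' => ((y : stabilizer G α) : G)) h).symm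
      have h5 := h2.mp (h3.mpr (h1.mpr h4))
      apply Subtype.ext; apply Subtype.ext
      show (((d ^ j : D') : stabilizer G α) : G) * _ = _ * (((d ^ j : D') : stabilizer G α) : G)
      rw [hdj']; exact h5.symm
  · -- h5
    rintro x y φ ⟨h, hh, rfl⟩ s ⟨e, he⟩
    rw [hSmem] at he
    obtain ⟨n, hn, hn'⟩ := htrans (y : Ω) y.2 (h⁻¹ * (e : stabilizer G α)⁻¹)
    refine ⟨(⟨n, hn⟩ : D')⁻¹, ?_⟩
    rw [hSmem]
    have e1 : ((e * MulAut.conjNormal h s * e⁻¹ : D') : stabilizer G α) =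
        (e : stabilizer G α) * (h * s * h⁻¹) * (e : stabilizer G α)⁻¹ := by
      rw [Subgroup.coe_mul, Subgroup.coe_mul, MulAut.conjNormal_apply, Subgroup.coe_inv]
    have he' : ((e : stabilizer G α) * (h * (s : stabilizer G α) * h⁻¹) *
        (e : stabilizer G α)⁻¹) • (y : Ω) = y := by
      rw [← e1]; exact he
    have hs : (s : stabilizer G α) • (n • (y : Ω)) = n • (y : Ω) := by
      rw [hn']
      have h2 := congrArg (fun z => (h⁻¹ * (e : stabilizer G α)⁻¹) • z) he'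
      simp only [← mul_smul] at h2 ⊢
      convert h2 using 2
      group
    show ((n⁻¹ * (s : stabilizer G α) * n⁻¹⁻¹ : stabilizer G α)) • (y : Ω) = y
    rw [inv_inv, mul_smul, mul_smul, hs, inv_smul_smul]

end

section
variable {G : Type*} [Group G]

/-- Existence of a minimal normal subgroup. -/
lemma exists_minNormal'' (G : Type*) [Group G] [Finite G] [Nontrivial G] :
    ∃ Q : Subgroup G, Q.Normal ∧ Q ≠ ⊥ ∧
      ∀ M : Subgroup G, M.Normal → M ≤ Q → M = ⊥ ∨ M = Q := by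
  obtain ⟨Q, -, hQ⟩ := Finite.exists_le_minimal (p := fun Q : Subgroup G => Q.Normal ∧ Q ≠ ⊥)
    (a := (⊤ : Subgroup G)) ⟨inferInstance, top_ne_bot⟩
  refine ⟨Q, hQ.prop.1, hQ.prop.2, ?_⟩
  intro M hM hMQ
  by_cases h : M = ⊥
  · exact Or.inl h
  · exact Or.inr (le_antisymm hMQ (hQ.le_of_le ⟨hM, h⟩ hMQ))

/-- the conjugate subgroup `g T g⁻¹` -/
def cj (g : G) (T : Subgroup G) : Subgroup G := T.map (MulAut.conj g).toMonoidHom

lemma mem_cj (g : G) (T : Subgroup G) (x : G) : x ∈ cj g T ↔ g⁻¹ * x * g ∈ T := by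
  unfold cj
  rw [Subgroup.mem_map]
  constructor
  · rintro ⟨t, ht, rfl⟩
    have e : g⁻¹ * (MulAut.conj g).toMonoidHom t * g = t := by
      show g⁻¹ * (g * t * g⁻¹) * g = t
      group
    rw [e]; exact ht
  · intro h
    refine ⟨_, h, ?_⟩
    show g * (g⁻¹ * x * g) * g⁻¹ = x
    group

lemma conj_mem_cj (g : G) (T : Subgroup G) {t : G} (ht : t ∈ T) : g * t * g⁻¹ ∈ cj g T := by
  rw [mem_cj]
  have e : g⁻¹ * (g * t * g⁻¹) * g = t := by group
  rw [e]; exact ht

lemma cj_mul (g g' : G) (T : Subgroup G) : cj g (cj g' T) = cj (g * g') T := by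
  ext x
  rw [mem_cj, mem_cj, mem_cj]
  have e : g'⁻¹ * (g⁻¹ * x * g) * g' = (g * g')⁻¹ * x * (g * g') := by group
  rw [e]

lemma cj_one (T : Subgroup G) : cj 1 T = T := by
  ext x
  rw [mem_cj]
  simp

lemma cj_mono (g : G) {U V : Subgroup G} (h : U ≤ V) : cj g U ≤ cj g V := by
  intro x hx
  rw [mem_cj] at hx ⊢
  exact h hx

lemma cj_ne_bot (g : G) {T : Subgroup G} (h : T ≠ ⊥) : cj g T ≠ ⊥ := by
  intro hbot
  apply h
  rw [eq_bot_iff]
  intro t ht
  have h1 := conj_mem_cj g T ht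
  rw [hbot, Subgroup.mem_bot] at h1
  rw [Subgroup.mem_bot]
  have e : t = g⁻¹ * (g * t * g⁻¹) * g := by group
  rw [e, h1]; group

lemma cj_inv {N : Subgroup G} [hN : N.Normal] (g : G) {T : Subgroup G}
    (h : ∀ n ∈ N, ∀ t ∈ T, n * t * n⁻¹ ∈ T) : ∀ n ∈ N, ∀ t ∈ cj g T, n * t * n⁻¹ ∈ cj g T := by
  intro n hn x hx
  rw [mem_cj] at hx ⊢
  have hn' : g⁻¹ * n * g ∈ N := by
    have := hN.conj_mem n hn g⁻¹
    simpa using this
  have h1 := h _ hn' _ hx
  have e : g⁻¹ * n * g * (g⁻¹ * x * g) * (g⁻¹ * n * g)⁻¹ = g⁻¹ * (n * x * n⁻¹) * g := by group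
  rw [e] at h1; exact h1

/-- `T` is a minimal nontrivial `N`-invariant subgroup of `N`. -/
def MinInv (N T : Subgroup G) : Prop :=
  T ≤ N ∧ T ≠ ⊥ ∧ (∀ n ∈ N, ∀ t ∈ T, n * t * n⁻¹ ∈ T) ∧
    ∀ U : Subgroup G, U ≤ T → U ≠ ⊥ → (∀ n ∈ N, ∀ u ∈ U, n * u * n⁻¹ ∈ U) → U = T

lemma minInv_conj {N T : Subgroup G} [hN : N.Normal] (h : MinInv N T) (g : G) :
    MinInv N (cj g T) := by
  obtain ⟨h1, h2, h3, h4⟩ := h
  refine ⟨?_, cj_ne_bot g h2, cj_inv g h3, ?_⟩
  · intro x hx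
    rw [mem_cj] at hx
    have h5 := hN.conj_mem _ (h1 hx) g
    have e : g * (g⁻¹ * x * g) * g⁻¹ = x := by group
    rw [e] at h5; exact h5
  · intro U hU hUbot hUinv
    have h5 : cj g⁻¹ U ≤ T := by
      have h6 := cj_mono g⁻¹ hU
      rw [cj_mul, inv_mul_cancel, cj_one] at h6
      exact h6
    have key : cj g⁻¹ U = T := h4 _ h5 (cj_ne_bot g⁻¹ hUbot) (cj_inv g⁻¹ hUinv)
    rw [← key, cj_mul, mul_inv_cancel, cj_one]

lemma minInv_disj {N U V : Subgroup G} (hU : MinInv N U) (hV : MinInv N V) :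
    U = V ∨ ((∀ u ∈ U, ∀ v ∈ V, u * v = v * u) ∧ ∀ x ∈ U, x ∈ V → x = 1) := by
  by_cases hbot : U ⊓ V = ⊥
  · right
    have hint : ∀ x ∈ U, x ∈ V → x = 1 := by
      intro x hx hx'
      have h0 : x ∈ U ⊓ V := ⟨hx, hx'⟩
      rw [hbot, Subgroup.mem_bot] at h0; exact h0
    refine ⟨?_, hint⟩
    intro u hu v hv
    have h1 : u * v * u⁻¹ * v⁻¹ ∈ U := by
      have h0 := hU.2.2.1 v (hV.1 hv) u⁻¹ (U.inv_mem hu)
      have e : u * v * u⁻¹ * v⁻¹ = u * (v * u⁻¹ * v⁻¹) := by group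
      rw [e]; exact U.mul_mem hu h0
    have h2 : u * v * u⁻¹ * v⁻¹ ∈ V := by
      have h0 := hV.2.2.1 u (hU.1 hu) v hv
      exact V.mul_mem h0 (V.inv_mem hv)
    have h3 := hint _ h1 h2
    calc u * v = (u * v * u⁻¹ * v⁻¹) * (v * u) := by group
      _ = v * u := by rw [h3, one_mul]
  · left
    have hinv : ∀ n ∈ N, ∀ x ∈ U ⊓ V, n * x * n⁻¹ ∈ U ⊓ V := fun n hn x hx =>
      ⟨hU.2.2.1 n hn x hx.1, hV.2.2.1 n hn x hx.2⟩
    have h1 := hU.2.2.2 (U ⊓ V) inf_le_left hbot hinv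
    have h2 := hV.2.2.2 (U ⊓ V) inf_le_right hbot hinv
    exact h1.symm.trans h2

lemma cj_eq_of_mem {N T : Subgroup G} (hT : MinInv N T) {n : G} (hn : n ∈ N) : cj n T = T := by
  ext x
  rw [mem_cj]
  constructor
  · intro h
    have h1 := hT.2.2.1 n hn _ h
    have e : n * (n⁻¹ * x * n) * n⁻¹ = x := by group
    rw [e] at h1; exact h1
  · intro h
    have h1 := hT.2.2.1 n⁻¹ (N.inv_mem hn) _ h
    simpa using h1

lemma exists_minInv [Finite G] (N : Subgroup G) (hNbot : N ≠ ⊥) (hns : ¬ IsSimpleGroup N) :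
    ∃ T : Subgroup G, MinInv N T ∧ T ≠ N := by
  haveI : Nontrivial N := (Subgroup.nontrivial_iff_ne_bot N).mpr hNbot
  have hK : ∃ K : Subgroup N, K.Normal ∧ K ≠ ⊥ ∧ K ≠ ⊤ := by
    by_contra h
    push Not at h
    apply hns
    exact { eq_bot_or_eq_top_of_normal := fun K hK => by
              by_cases hb : K = ⊥
              · exact Or.inl hb
              · exact Or.inr (h K hK hb) }
  obtain ⟨K, hKn, hKbot, hKtop⟩ := hK
  have hK'N : K.map N.subtype ≤ N := Subgroup.map_subtype_le K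
  have hK'bot : K.map N.subtype ≠ ⊥ := fun h =>
    hKbot ((Subgroup.map_eq_bot_iff_of_injective K N.subtype_injective).mp h)
  have hK'inv : ∀ n ∈ N, ∀ u ∈ K.map N.subtype, n * u * n⁻¹ ∈ K.map N.subtype := by
    rintro n hn _ ⟨k, hk, rfl⟩
    exact ⟨⟨n, hn⟩ * k * ⟨n, hn⟩⁻¹, hKn.conj_mem k hk ⟨n, hn⟩, rfl⟩
  obtain ⟨T, hTK, hT⟩ := Finite.exists_le_minimal
    (p := fun U : Subgroup G => U ≠ ⊥ ∧ ∀ n ∈ N, ∀ u ∈ U, n * u * n⁻¹ ∈ U)
    (a := K.map N.subtype) ⟨hK'bot, hK'inv⟩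
  refine ⟨T, ⟨hTK.trans hK'N, hT.prop.1, hT.prop.2, ?_⟩, ?_⟩
  · intro U hUT hUbot hUinv
    exact le_antisymm hUT (hT.le_of_le ⟨hUbot, hUinv⟩ hUT)
  · intro hTN
    apply hKtop
    rw [eq_top_iff]
    intro x _
    have h1 : (x : G) ∈ K.map N.subtype := hTK (by rw [hTN]; exact x.2)
    obtain ⟨k, hk, hkx⟩ := h1
    have h2 : k = x := Subtype.ext hkx
    rw [← h2]; exact hk

end

section
variable {G : Type*} [Group G] [Finite G] {Ω : Type*} [Fintype Ω] [MulAction G Ω]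
  [FaithfulSMul G Ω]

/-- In the case where `N` meets the point stabilizer, every minimal `N`-invariant subgroup of
`N` is transitive. -/
lemma minInv_trans [Nontrivial Ω] (hprim : IsPreprimitive G Ω)
    (hep : ∀ (α ω : Ω), IsPreprimitive (stabilizer G α) (orbit (stabilizer G α) ω))
    (hH : ∀ β : Ω, stabilizer G β ≠ ⊥) (α : Ω)
    (N : Subgroup G) [hNn : N.Normal] (hNtr : ∀ ω : Ω, ∃ n ∈ N, n • α = ω)
    (n₀ : G) (hn₀ : n₀ ∈ N) (hn₀1 : n₀ ≠ 1) (hn₀α : n₀ • α = α)
    (T : Subgroup G) (hT : MinInv N T) : ∀ ω : Ω, ∃ t ∈ T, t • α = ω := by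
  classical
  haveI : IsPretransitive G Ω := hprim.toIsPretransitive
  have hfaith : ∀ ω : Ω, ω ≠ α → ∀ h : stabilizer G α,
      (∀ x ∈ orbit (stabilizer G α) ω, h • x = x) → h = 1 :=
    fun ω hω h hfix => Cfsg.Agent.S3494.result hprim hH hep α ω hω h hfix
  let D₀ : Subgroup (stabilizer G α) := N.subgroupOf (stabilizer G α)
  haveI : D₀.Normal := inferInstance
  have hD₀ : D₀ ≠ ⊥ := by
    intro hbot
    have h0 : (⟨n₀, hn₀α⟩ : stabilizer G α) ∈ D₀ := Subgroup.mem_subgroupOf.mpr hn₀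
    rw [hbot, Subgroup.mem_bot] at h0
    exact hn₀1 (congrArg Subtype.val h0)
  have hBinv : ∀ h : G, h • α = α → ∀ t ∈ T, ∃ t' ∈ T, h • t • α = t' • α := by
    intro h hh t ht
    by_cases htα : t • α = α
    · exact ⟨1, T.one_mem, by rw [htα, hh, one_smul]⟩
    · obtain ⟨n, hn, hn'⟩ := Cfsg.Agent.S3497.trans_of_normal' α (t • α) (hfaith _ htα)
        (hep α _) D₀ hD₀ ⟨h, hh⟩
      have hnN : (n : G) ∈ N := Subgroup.mem_subgroupOf.mp hn
      refine ⟨(n : G) * t * (n : G)⁻¹, hT.2.2.1 _ hnN t ht, ?_⟩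
      have h1 : (n : G) • t • α = h • t • α := hn'
      have h2 : (n : G)⁻¹ • α = α := by rw [inv_smul_eq_iff]; exact n.2.symm
      rw [← h1, mul_smul, mul_smul, h2]
  let L : Subgroup G :=
    { carrier := {g | ∃ t ∈ T, g • α = t • α}
      one_mem' := ⟨1, T.one_mem, rfl⟩
      mul_mem' := by
        rintro g₁ g₂ ⟨t₁, ht₁, h₁⟩ ⟨t₂, ht₂, h₂⟩
        have hh : (t₁⁻¹ * g₁) • α = α := by rw [mul_smul, h₁, inv_smul_smul]
        obtain ⟨t', ht', h'⟩ := hBinv _ hh t₂ ht₂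
        refine ⟨t₁ * t', T.mul_mem ht₁ ht', ?_⟩
        calc (g₁ * g₂) • α = g₁ • t₂ • α := by rw [mul_smul, h₂]
          _ = t₁ • (t₁⁻¹ * g₁) • t₂ • α := by rw [mul_smul, smul_inv_smul]
          _ = (t₁ * t') • α := by rw [h', mul_smul]
      inv_mem' := by
        rintro g ⟨t, ht, h⟩
        have hh : (g⁻¹ * t) • α = α := by rw [mul_smul, ← h, inv_smul_smul]
        obtain ⟨t', ht', h'⟩ := hBinv _ hh t⁻¹ (T.inv_mem ht)
        refine ⟨t', ht', ?_⟩
        rw [← h', mul_smul, smul_inv_smul] }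
  have hHL : stabilizer G α ≤ L := fun h hh => ⟨1, T.one_mem, by rw [one_smul]; exact hh⟩
  have hco : IsCoatom (stabilizer G α) :=
    IsPreprimitive.isCoatom_stabilizer_of_isPreprimitive (G := G) α
  rcases hco.le_iff.mp hHL with h | h
  · intro ω
    obtain ⟨g, rfl⟩ := exists_smul_eq G α ω
    have h0 : g ∈ L := by rw [h]; trivial
    obtain ⟨t, ht, h'⟩ := h0
    exact ⟨t, ht, h'.symm⟩
  · exfalso
    apply hT.2.1
    rw [eq_bot_iff]
    intro t ht
    rw [Subgroup.mem_bot]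
    apply FaithfulSMul.eq_of_smul_eq_smul (α := Ω)
    intro ω
    obtain ⟨n, hn, rfl⟩ := hNtr ω
    have h1 : n⁻¹ * t * n ∈ T := by
      have h0 := hT.2.2.1 n⁻¹ (N.inv_mem hn) t ht
      simpa using h0
    have h2 : n⁻¹ * t * n ∈ L := ⟨_, h1, rfl⟩
    rw [h] at h2
    have h3 : (n⁻¹ * t * n) • α = α := h2
    rw [one_smul]
    calc t • n • α = n • (n⁻¹ * t * n) • α := by simp [mul_smul]
      _ = n • α := by rw [h3]

/-- Case B1: `N` meets the point stabilizer nontrivially. -/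
lemma caseB1 [Nontrivial Ω] (hprim : IsPreprimitive G Ω)
    (hep : ∀ (α ω : Ω), IsPreprimitive (stabilizer G α) (orbit (stabilizer G α) ω))
    (hH : ∀ β : Ω, stabilizer G β ≠ ⊥) (α : Ω)
    (N : Subgroup G) [hNn : N.Normal] (hNtr : ∀ ω : Ω, ∃ n ∈ N, n • α = ω)
    (n₀ : G) (hn₀ : n₀ ∈ N) (hn₀1 : n₀ ≠ 1) (hn₀α : n₀ • α = α)
    (T₁ : Subgroup G) (hT₁ : MinInv N T₁) (g₀ : G) (hg₀ : cj g₀ T₁ ≠ T₁) : False := by
  have htr := minInv_trans hprim hep hH α N hNtr n₀ hn₀ hn₀1 hn₀α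
  have hT₂ := minInv_conj hT₁ g₀
  obtain ⟨hcomm, hint⟩ := (minInv_disj hT₁ hT₂).resolve_left (Ne.symm hg₀)
  have hreg : ∀ (U V : Subgroup G), MinInv N V → (∀ u ∈ U, ∀ v ∈ V, u * v = v * u) →
      ∀ u ∈ U, u • α = α → u = 1 := by
    intro U V hV hc u hu huα
    apply FaithfulSMul.eq_of_smul_eq_smul (α := Ω)
    intro ω
    obtain ⟨v, hv, rfl⟩ := htr V hV ω
    rw [one_smul, ← mul_smul, hc u hu v hv, mul_smul, huα]
  have hthird : ∀ T₃, MinInv N T₃ → T₃ = T₁ ∨ T₃ = cj g₀ T₁ := by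
    intro T₃ hT₃
    by_contra hne
    push Not at hne
    obtain ⟨hc1, -⟩ := (minInv_disj hT₁ hT₃).resolve_left (Ne.symm hne.1)
    obtain ⟨hc2, -⟩ := (minInv_disj hT₂ hT₃).resolve_left (Ne.symm hne.2)
    obtain ⟨t₁, ht₁, ht₁1⟩ : ∃ t ∈ T₁, t ≠ 1 := by
      by_contra hcon
      push Not at hcon
      exact hT₁.2.1 ((Subgroup.eq_bot_iff_forall _).mpr hcon)
    obtain ⟨t₂, ht₂, ht₂α⟩ := htr _ hT₂ (t₁⁻¹ • α)
    have hfix : (t₁ * t₂) • α = α := by rw [mul_smul, ht₂α, smul_inv_smul]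
    have h1 : t₁ * t₂ = 1 := by
      apply FaithfulSMul.eq_of_smul_eq_smul (α := Ω)
      intro ω
      obtain ⟨v, hv, rfl⟩ := htr T₃ hT₃ ω
      have hcv : t₁ * t₂ * v = v * (t₁ * t₂) := by
        rw [mul_assoc, hc2 t₂ ht₂ v hv, ← mul_assoc, hc1 t₁ ht₁ v hv, mul_assoc]
      rw [one_smul, ← mul_smul, hcv, mul_smul, hfix]
    have h2 : t₁ = t₂⁻¹ := eq_inv_of_mul_eq_one_left h1
    exact ht₁1 (hint t₁ ht₁ (by rw [h2]; exact (cj g₀ T₁).inv_mem ht₂))
  apply hs_false hprim hep hH α T₁ (cj g₀ T₁) hcomm hint (htr T₁ hT₁)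
    (hreg T₁ _ hT₂ hcomm) (htr _ hT₂) (hreg _ T₁ hT₁ (fun u hu v hv => (hcomm v hv u hu).symm))
  · intro g
    rcases hthird _ (minInv_conj hT₁ g) with h | h
    · left; intro t ht
      have h0 := conj_mem_cj g T₁ ht
      rw [h] at h0; exact h0
    · right; intro t ht
      have h0 := conj_mem_cj g T₁ ht
      rw [h] at h0; exact h0
  · intro g
    rcases hthird _ (minInv_conj hT₂ g) with h | h
    · right; intro t ht
      have h0 := conj_mem_cj g _ ht
      rw [h] at h0; exact h0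
    · left; intro t ht
      have h0 := conj_mem_cj g _ ht
      rw [h] at h0; exact h0

/-- Case B2: `N` is regular. -/
lemma caseB2 [Nontrivial Ω] (hprim : IsPreprimitive G Ω)
    (hep : ∀ (α ω : Ω), IsPreprimitive (stabilizer G α) (orbit (stabilizer G α) ω))
    (hH : ∀ β : Ω, stabilizer G β ≠ ⊥) (α : Ω)
    (N : Subgroup G) [hNn : N.Normal] (hNtr : ∀ ω : Ω, ∃ n ∈ N, n • α = ω)
    (hNreg : ∀ n ∈ N, n • α = α → n = 1)
    (hNc : ¬ ∀ x ∈ N, ∀ y ∈ N, x * y = y * x)
    (T₁ : Subgroup G) (hT₁ : MinInv N T₁) (g₀ : G) (hg₀ : cj g₀ T₁ ≠ T₁) : False := by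
  classical
  have hfaith : ∀ ω : Ω, ω ≠ α → ∀ h : stabilizer G α,
      (∀ x ∈ orbit (stabilizer G α) ω, h • x = x) → h = 1 :=
    fun ω hω h hfix => Cfsg.Agent.S3494.result hprim hH hep α ω hω h hfix
  have hinjN : ∀ s ∈ N, ∀ t ∈ N, s • α = t • α → s = t := by
    intro s hs t ht h
    have h1 : (t⁻¹ * s) • α = α := by rw [mul_smul, h, inv_smul_smul]
    have h2 := hNreg _ (N.mul_mem (N.inv_mem ht) hs) h1
    rw [inv_mul_eq_one] at h2
    exact h2.symm
  have hfixcent : ∀ h : G, h • α = α → ∀ x ∈ N, h • x • α = x • α → h * x * h⁻¹ = x := by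
    intro h hh x hx hfix
    apply hinjN _ (hNn.conj_mem x hx h) x hx
    rw [mul_smul, mul_smul, inv_smul_eq_iff.mpr hh.symm, hfix]
  let NH : Subgroup (stabilizer G α) :=
    { carrier := {h | cj (h : G) T₁ = T₁}
      one_mem' := cj_one T₁
      mul_mem' := by
        intro a b ha hb
        show cj ((a : G) * (b : G)) T₁ = T₁
        rw [← cj_mul, show cj (b : G) T₁ = T₁ from hb]
        exact ha
      inv_mem' := by
        intro a ha
        show cj ((a : G)⁻¹) T₁ = T₁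
        have h0 : cj ((a : G)⁻¹) (cj (a : G) T₁) = T₁ := by rw [cj_mul, inv_mul_cancel, cj_one]
        rw [show cj (a : G) T₁ = T₁ from ha] at h0
        exact h0 }
  have hNHne : NH ≠ ⊤ := by
    intro htop
    apply hg₀
    obtain ⟨n, hn, hnα⟩ := hNtr (g₀ • α)
    have hh : (n⁻¹ * g₀) • α = α := by rw [mul_smul, ← hnα, inv_smul_smul]
    have h1 : (⟨n⁻¹ * g₀, hh⟩ : stabilizer G α) ∈ NH := by rw [htop]; trivial
    have h2 : cj (n⁻¹ * g₀) T₁ = T₁ := h1
    have h3 : g₀ = n * (n⁻¹ * g₀) := by group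
    rw [h3, ← cj_mul, h2]
    exact cj_eq_of_mem hT₁ hn
  have hNHstab : ∀ x ∈ T₁, x ≠ 1 → NH = stabilizer (stabilizer G α) (x • α) := by
    intro x hx hx1
    have hxα : x • α ≠ α := fun h => hx1 (hNreg x (hT₁.1 hx) h)
    have hco := stab_coatom α (x • α) (hfaith _ hxα) (hep α _) (hH α)
    have hle : stabilizer (stabilizer G α) (x • α) ≤ NH := by
      intro h hh
      have h1 : (h : G) * x * (h : G)⁻¹ = x := hfixcent (h : G) h.2 x (hT₁.1 hx) hh
      have h2 : x ∈ cj (h : G) T₁ := by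
        have h0 := conj_mem_cj (h : G) T₁ hx
        rw [h1] at h0; exact h0
      rcases minInv_disj (minInv_conj hT₁ (h : G)) hT₁ with h3 | ⟨-, h3⟩
      · exact h3
      · exact absurd (h3 x h2 hx) hx1
    rcases hco.le_iff.mp hle with h | h
    · exact absurd h hNHne
    · exact h
  have hstar : ∀ h : G, h • α = α → cj h T₁ = T₁ → ∀ x ∈ T₁, h * x * h⁻¹ = x := by
    intro h hh hcj x hx
    by_cases hx1 : x = 1
    · rw [hx1]; group
    · have h1 : (⟨h, hh⟩ : stabilizer G α) ∈ NH := hcj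
      rw [hNHstab x hx hx1] at h1
      exact hfixcent h hh x (hT₁.1 hx) h1
  obtain ⟨x₀, hx₀, hx₀1⟩ : ∃ t ∈ T₁, t ≠ 1 := by
    by_contra hcon
    push Not at hcon
    exact hT₁.2.1 ((Subgroup.eq_bot_iff_forall _).mpr hcon)
  have hcx : ∀ h : G, h • α = α → x₀ * (h * x₀ * h⁻¹) = (h * x₀ * h⁻¹) * x₀ := by
    intro h hh
    by_cases hcj : cj h T₁ = T₁
    · rw [hstar h hh hcj x₀ hx₀]
    · obtain ⟨hc, -⟩ := (minInv_disj hT₁ (minInv_conj hT₁ h)).resolve_left (Ne.symm hcj)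
      exact hc x₀ hx₀ _ (conj_mem_cj h T₁ hx₀)
  let O : Set G := {y | ∃ h : G, h • α = α ∧ y = h * x₀ * h⁻¹}
  have hOcomm : ∀ y ∈ O, ∀ y' ∈ O, y * y' = y' * y := by
    rintro _ ⟨h, hh, rfl⟩ _ ⟨h', hh', rfl⟩
    have hk : (h⁻¹ * h') • α = α := by rw [mul_smul, hh', inv_smul_eq_iff, hh]
    have hc := hcx _ hk
    calc h * x₀ * h⁻¹ * (h' * x₀ * h'⁻¹)
        = h * (x₀ * ((h⁻¹ * h') * x₀ * (h⁻¹ * h')⁻¹)) * h⁻¹ := by group
      _ = h * (((h⁻¹ * h') * x₀ * (h⁻¹ * h')⁻¹) * x₀) * h⁻¹ := by rw [hc]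
      _ = h' * x₀ * h'⁻¹ * (h * x₀ * h⁻¹) := by group
  let A : Subgroup G := Subgroup.closure O
  have hAcomm : ∀ a ∈ A, ∀ b ∈ A, a * b = b * a := by
    have h1 : A ≤ Subgroup.centralizer O := by
      apply (Subgroup.closure_le _).mpr
      intro y hy
      rw [SetLike.mem_coe, Subgroup.mem_centralizer_iff]
      intro z hz
      exact hOcomm z hz y hy
    have h2 : A ≤ Subgroup.centralizer (A : Set G) := by
      apply (Subgroup.closure_le _).mpr
      intro y hy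
      rw [SetLike.mem_coe, Subgroup.mem_centralizer_iff]
      intro a ha
      have h0 := h1 ha
      rw [Subgroup.mem_centralizer_iff] at h0
      exact (h0 y hy).symm
    intro a ha b hb
    have h0 := h2 hb
    rw [Subgroup.mem_centralizer_iff] at h0
    exact h0 a ha
  have hAN : A ≤ N := by
    apply (Subgroup.closure_le _).mpr
    rintro _ ⟨h, hh, rfl⟩
    exact hNn.conj_mem x₀ (hT₁.1 hx₀) h
  have hAinv : ∀ h : G, h • α = α → ∀ a ∈ A, h * a * h⁻¹ ∈ A := by
    intro h hh a ha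
    induction ha using Subgroup.closure_induction with
    | mem y hy =>
      obtain ⟨h', hh', rfl⟩ := hy
      apply Subgroup.subset_closure
      exact ⟨h * h', by rw [mul_smul, hh', hh], by group⟩
    | one =>
      have e : h * 1 * h⁻¹ = 1 := by group
      rw [e]; exact A.one_mem
    | mul a b _ _ iha ihb =>
      have e : h * (a * b) * h⁻¹ = (h * a * h⁻¹) * (h * b * h⁻¹) := by group
      rw [e]; exact A.mul_mem iha ihb
    | inv a _ iha =>
      have e : h * a⁻¹ * h⁻¹ = (h * a * h⁻¹)⁻¹ := by group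
      rw [e]; exact A.inv_mem iha
  have hx₀A : x₀ ∈ A := Subgroup.subset_closure ⟨1, one_smul _ _, by group⟩
  let AH : Subgroup G :=
    { carrier := {g | ∃ a ∈ A, ∃ h : G, h • α = α ∧ g = a * h}
      one_mem' := ⟨1, A.one_mem, 1, one_smul _ _, by group⟩
      mul_mem' := by
        rintro _ _ ⟨a, ha, h, hh, rfl⟩ ⟨a', ha', h', hh', rfl⟩
        exact ⟨a * (h * a' * h⁻¹), A.mul_mem ha (hAinv h hh a' ha'), h * h',
          by rw [mul_smul, hh', hh], by group⟩
      inv_mem' := by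
        rintro _ ⟨a, ha, h, hh, rfl⟩
        have hh' : h⁻¹ • α = α := by rw [inv_smul_eq_iff, hh]
        exact ⟨h⁻¹ * a⁻¹ * h⁻¹⁻¹, hAinv _ hh' _ (A.inv_mem ha), h⁻¹, hh', by group⟩ }
  have hHAH : stabilizer G α ≤ AH := fun h hh => ⟨1, A.one_mem, h, hh, by group⟩
  have hco : IsCoatom (stabilizer G α) :=
    IsPreprimitive.isCoatom_stabilizer_of_isPreprimitive (G := G) α
  rcases hco.le_iff.mp hHAH with h | h
  · apply hNc
    have hNA : ∀ n ∈ N, n ∈ A := by
      intro n hn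
      have h0 : n ∈ AH := by rw [h]; trivial
      obtain ⟨a, ha, k, hk, rfl⟩ := h0
      have hkN : k ∈ N := by
        have h4 := N.mul_mem (N.inv_mem (hAN ha)) hn
        simpa using h4
      rw [hNreg k hkN hk, mul_one]; exact ha
    intro x hx y hy
    exact hAcomm x (hNA x hx) y (hNA y hy)
  · have h0 : x₀ ∈ AH := ⟨x₀, hx₀A, 1, one_smul _ _, by group⟩
    rw [h] at h0
    exact hx₀1 (hNreg x₀ (hT₁.1 hx₀) h0)

end

/-- An extremely primitive permutation group is of affine type or almost simple. Let a finite group G act faithfully and primitively on a finite set Ω with at least two points, in such a way that every point stabilizer acts primitively on each of its own orbits in Ω (an orbit of size one counts as primitive). Then either G has a non-trivial abelian normal subgroup whose elements other than the identity fix no point (affine type), or G has a non-abelian simple normal subgroup with trivial centralizer (almost simple).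 -/
theorem result {G : Type*} [Group G] [Finite G] {Ω : Type*} [Fintype Ω] [MulAction G Ω] [FaithfulSMul G Ω] (hΩ : 2 ≤ Fintype.card Ω) (hprim : MulAction.IsPreprimitive G Ω) (hep : ∀ (α : Ω) (ω : Ω), MulAction.IsPreprimitive (MulAction.stabilizer G α) (MulAction.orbit (MulAction.stabilizer G α) ω)) :
    (∃ N : Subgroup G, N.Normal ∧ N ≠ ⊥ ∧ IsMulCommutative N ∧ ∀ ω : Ω, MulAction.stabilizer N ω = ⊥) ∨ (∃ T : Subgroup G, T.Normal ∧ IsSimpleGroup T ∧ ¬ IsMulCommutative T ∧ Subgroup.centralizer (T : Set G) = ⊥) := by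
  classical
  haveI : IsPretransitive G Ω := hprim.toIsPretransitive
  haveI : Nontrivial Ω := Fintype.one_lt_card_iff_nontrivial.mp hΩ
  obtain ⟨α⟩ := (inferInstance : Nonempty Ω)
  have hco : IsCoatom (stabilizer G α) :=
    IsPreprimitive.isCoatom_stabilizer_of_isPreprimitive (G := G) α
  by_cases hbot : stabilizer G α = ⊥
  · left
    rw [hbot] at hco
    have hcomm : ∀ a b : G, a * b = b * a := by
      intro a b
      by_cases ha : a = 1
      · rw [ha]; simp
      · have h1 : Subgroup.zpowers a = ⊤ := by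
          apply hco.2
          rw [bot_lt_iff_ne_bot]
          intro h0
          exact ha (Subgroup.zpowers_eq_bot.mp h0)
        have hb : b ∈ Subgroup.zpowers a := by rw [h1]; trivial
        obtain ⟨k, rfl⟩ := hb
        exact (Commute.zpow_right (Commute.refl a) k).eq
    refine ⟨⊤, inferInstance, hco.1.symm, ⟨⟨fun a b => Subtype.ext (hcomm a b)⟩⟩, ?_⟩
    intro ω
    rw [eq_bot_iff]
    intro n hn
    rw [Subgroup.mem_bot]
    obtain ⟨g, rfl⟩ := exists_smul_eq G α ω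
    have h1 : (g⁻¹ * (n : G) * g) • α = α := by
      have h0 : (n : G) • g • α = g • α := hn
      rw [mul_smul, mul_smul, h0, inv_smul_smul]
    have h2 : g⁻¹ * (n : G) * g ∈ stabilizer G α := h1
    rw [hbot, Subgroup.mem_bot] at h2
    apply Subtype.ext
    have h3 : (n : G) = g * (g⁻¹ * (n : G) * g) * g⁻¹ := by group
    rw [h3, h2]; simp
  have hH : ∀ β : Ω, stabilizer G β ≠ ⊥ := by
    intro β hβ
    apply hbot
    obtain ⟨g, rfl⟩ := exists_smul_eq G α β
    rw [stabilizer_smul_eq_stabilizer_map_conj] at hβ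
    exact (Subgroup.map_eq_bot_iff_of_injective _ (MulAut.conj g).injective).mp hβ
  haveI : Nontrivial G := by
    by_contra hnt
    rw [not_nontrivial_iff_subsingleton] at hnt
    exact hbot (Subsingleton.elim _ _)
  obtain ⟨N, hNn, hNbot, hNmin⟩ := exists_minNormal'' G
  haveI := hNn
  haveI hNtrI : IsPretransitive N Ω :=
    Cfsg.Agent.Lib.Helper10.isPretransitive_of_normal_of_preprimitive hprim N hNbot
  have hNtr : ∀ ω : Ω, ∃ n ∈ N, n • α = ω := by
    intro ω
    obtain ⟨n, hn⟩ := exists_smul_eq N α ω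
    exact ⟨n, n.2, hn⟩
  by_cases hNc : ∀ x ∈ N, ∀ y ∈ N, x * y = y * x
  · left
    exact ⟨N, hNn, hNbot, ⟨⟨fun a b => Subtype.ext (hNc a a.2 b b.2)⟩⟩, fun ω =>
      Cfsg.Agent.Lib.Helper10.stabilizer_eq_bot_of_comm_transitive N hNc ω⟩
  right
  by_contra hcon
  have hCn : (Subgroup.centralizer (N : Set G)).Normal := inferInstance
  have hZ : ∀ a ∈ N, a ∈ Subgroup.centralizer (N : Set G) → a = 1 := by
    rcases hNmin (N ⊓ Subgroup.centralizer (N : Set G)) inferInstance inf_le_left with h1 | h1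
    · intro a ha ha'
      have h0 : a ∈ N ⊓ Subgroup.centralizer (N : Set G) := ⟨ha, ha'⟩
      rw [h1, Subgroup.mem_bot] at h0; exact h0
    · exfalso
      apply hNc
      intro x hx y hy
      have h0 : y ∈ N ⊓ Subgroup.centralizer (N : Set G) := by rw [h1]; exact hy
      exact Subgroup.mem_centralizer_iff.mp h0.2 x hx
  by_cases hC : Subgroup.centralizer (N : Set G) = ⊥
  · by_cases hsimp : IsSimpleGroup N
    · exact hcon ⟨N, hNn, hsimp, fun hc => hNc (fun x hx y hy =>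
        congrArg Subtype.val (hc.is_comm.comm ⟨x, hx⟩ ⟨y, hy⟩)), hC⟩
    · obtain ⟨T₁, hT₁, hT₁N⟩ := exists_minInv N hNbot hsimp
      obtain ⟨g₀, hg₀⟩ : ∃ g₀, cj g₀ T₁ ≠ T₁ := by
        by_contra hall
        push Not at hall
        have hT₁n : T₁.Normal := ⟨fun t ht g => by
          have h0 := conj_mem_cj g T₁ ht
          rw [hall g] at h0; exact h0⟩
        rcases hNmin T₁ hT₁n hT₁.1 with h | h
        · exact hT₁.2.1 h
        · exact hT₁N h
      by_cases hNα : ∃ n ∈ N, n ≠ 1 ∧ n • α = α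
      · obtain ⟨n₀, hn₀, hn₀1, hn₀α⟩ := hNα
        exact caseB1 hprim hep hH α N hNtr n₀ hn₀ hn₀1 hn₀α T₁ hT₁ g₀ hg₀
      · push Not at hNα
        exact caseB2 hprim hep hH α N hNtr
          (fun n hn hα => by_contra fun h1 => hNα n hn h1 hα) hNc T₁ hT₁ g₀ hg₀
  · haveI hCtrI : IsPretransitive (Subgroup.centralizer (N : Set G)) Ω :=
      Cfsg.Agent.Lib.Helper10.isPretransitive_of_normal_of_preprimitive hprim _ hC
    apply hs_false hprim hep hH α N (Subgroup.centralizer (N : Set G))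
    · intro a ha b hb; exact Subgroup.mem_centralizer_iff.mp hb a ha
    · exact hZ
    · exact hNtr
    · intro t ht htα
      exact Cfsg.Agent.Lib.Helper10.eq_one_of_fix_of_centralizes
        (Subgroup.centralizer (N : Set G)) α htα (by
          rw [Subgroup.mem_centralizer_iff]
          intro c hc
          exact (Subgroup.mem_centralizer_iff.mp hc t ht).symm)
    · intro ω
      obtain ⟨c, hc⟩ := exists_smul_eq (Subgroup.centralizer (N : Set G)) α ω
      exact ⟨c, c.2, hc⟩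
    · intro c hc hcα
      exact Cfsg.Agent.Lib.Helper10.eq_one_of_fix_of_centralizes N α hcα hc
    · intro g; left; intro t ht; exact hNn.conj_mem t ht g
    · intro g; left; intro c hc; exact hCn.conj_mem c hc g

end Cfsg.Agent.S3493
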