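import Cfsg.Statements.S3751

set_option autoImplicit false
open Cfsg

namespace Cfsg.Agent.S3751

variable {G : Type*} [Group G]

theorem mem_map_conj {H : Subgroup G} {x y : G} :
    y ∈ H.map (MulAut.conj x).toMonoidHom ↔ x⁻¹ * y * x ∈ H := by
  constructor
  · rintro ⟨z, hz, rfl⟩
    simpa [mul_assoc] using hz
  · intro h
    exact ⟨x⁻¹ * y * x, h, by simp [mul_assoc]⟩

theorem pCore_isPGroup (p : ℕ) (H : Type*) [Group H] : IsPGroup p (Cfsg.pCore p H) := by
  obtain ⟨P⟩ := (inferInstance : Nonempty (Sylow p H))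
  refine P.isPGroup'.to_le (sSup_le ?_)
  rintro N ⟨hN, hp⟩
  have h1 : IsPGroup p ((P : Subgroup H) ⊔ N : Subgroup H) :=
    P.isPGroup'.to_sup_of_normal_right hp
  have h2 := P.is_maximal' h1 le_sup_left
  calc N ≤ (P : Subgroup H) ⊔ N := le_sup_right
    _ = P := h2

theorem opIn_le (p : ℕ) (H : Subgroup G) : (Cfsg.pCore p ↥H).map H.subtype ≤ H :=
  Subgroup.map_subtype_le _

theorem opIn_isPGroup (p : ℕ) (H : Subgroup G) :
    IsPGroup p ((Cfsg.pCore p ↥H).map H.subtype) :=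
  (pCore_isPGroup p ↥H).map H.subtype

theorem le_opIn {p : ℕ} {H Y : Subgroup G} (hYH : Y ≤ H) (hY : IsPGroup p Y)
    (hn : H ≤ Subgroup.normalizer (Y : Set G)) : Y ≤ (Cfsg.pCore p ↥H).map H.subtype := by
  have h1 : (Y.subgroupOf H).Normal := (Subgroup.normal_subgroupOf_iff_le_normalizer hYH).mpr hn
  have h2 : IsPGroup p (Y.subgroupOf H) := hY.comap_subtype
  have h3 : Y.subgroupOf H ≤ Cfsg.pCore p ↥H := le_sSup ⟨h1, h2⟩
  have h4 := Subgroup.map_mono (f := H.subtype) h3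
  rwa [Subgroup.map_subgroupOf_eq_of_le hYH] at h4

theorem le_normalizer_opIn (p : ℕ) (H : Subgroup G) :
    H ≤ Subgroup.normalizer (((Cfsg.pCore p ↥H).map H.subtype : Subgroup G) : Set G) := by
  have hn : (Cfsg.pCore p ↥H).Normal := Subgroup.sSup_normal _ (fun _ h => h.1)
  intro h hh
  rw [Subgroup.mem_normalizer_iff]
  intro x
  constructor
  · rintro ⟨y, hy, rfl⟩
    exact ⟨⟨h, hh⟩ * y * ⟨h, hh⟩⁻¹, hn.conj_mem y hy ⟨h, hh⟩, by simp⟩
  · rintro ⟨y, hy, hyx⟩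
    refine ⟨⟨h, hh⟩⁻¹ * y * ⟨h, hh⟩, ?_, ?_⟩
    · have := hn.conj_mem y hy ⟨h, hh⟩⁻¹
      simpa using this
    · have hyx' : (y : G) = h * x * h⁻¹ := hyx
      calc H.subtype (⟨h, hh⟩⁻¹ * y * ⟨h, hh⟩) = h⁻¹ * (y : G) * h := by simp
        _ = x := by rw [hyx']; group

theorem normalizer_le_normalizer_opIn (p : ℕ) (H : Subgroup G) :
    Subgroup.normalizer (H : Set G) ≤
      Subgroup.normalizer (((Cfsg.pCore p ↥H).map H.subtype : Subgroup G) : Set G) := by
  have key : ∀ g ∈ Subgroup.normalizer (H : Set G),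
      ((Cfsg.pCore p ↥H).map H.subtype).map (MulAut.conj g).toMonoidHom
        ≤ (Cfsg.pCore p ↥H).map H.subtype := by
    intro g hg
    have hg' : g⁻¹ ∈ Subgroup.normalizer (H : Set G) := Subgroup.inv_mem _ hg
    apply le_opIn
    · intro x hx
      rw [mem_map_conj] at hx
      have h1 := opIn_le p H hx
      have := (Subgroup.mem_normalizer_iff.mp hg _).mp h1
      simpa [mul_assoc] using this
    · exact (opIn_isPGroup p H).map _
    · intro h hh
      have hh' : g⁻¹ * h * g ∈ H := by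
        have := (Subgroup.mem_normalizer_iff.mp hg' h).mp hh
        simpa using this
      have hN := le_normalizer_opIn p H hh'
      rw [Subgroup.mem_normalizer_iff]
      intro x
      rw [mem_map_conj, mem_map_conj]
      have := Subgroup.mem_normalizer_iff.mp hN (g⁻¹ * x * g)
      rw [this]
      have e : g⁻¹ * h * g * (g⁻¹ * x * g) * (g⁻¹ * h * g)⁻¹ = g⁻¹ * (h * x * h⁻¹) * g := by group
      rw [e]
  intro g hg
  have hg' : g⁻¹ ∈ Subgroup.normalizer (H : Set G) := Subgroup.inv_mem _ hg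
  rw [Subgroup.mem_normalizer_iff]
  intro x
  constructor
  · intro hx
    apply key g hg
    rw [mem_map_conj]
    have e : g⁻¹ * (g * x * g⁻¹) * g = x := by group
    rw [e]; exact hx
  · intro hx
    have := key g⁻¹ hg' (mem_map_conj.mpr (by simpa using hx))
    simpa [mul_assoc] using this

/-- A `p`-local subgroup. -/
abbrev IsPL (p : ℕ) (M : Subgroup G) : Prop :=
  ∃ T : Subgroup G, IsPGroup p T ∧ T ≠ ⊥ ∧ M = Subgroup.normalizer (T : Set G)

/-- A maximal `p`-local subgroup. -/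
abbrev IsMaxPL (p : ℕ) (M : Subgroup G) : Prop :=
  IsPL p M ∧ ∀ L : Subgroup G, IsPL p L → M ≤ L → L = M

/-- `T` is a maximal `p`-subgroup of `H`. -/
abbrev IsMaxPSub (p : ℕ) (T H : Subgroup G) : Prop :=
  IsPGroup p T ∧ T ≤ H ∧ ∀ S : Subgroup G, IsPGroup p S → S ≤ H → T ≤ S → S ≤ T

theorem exists_max_of_isPL [Finite G] {p : ℕ} {L : Subgroup G} (hL : IsPL p L) :
    ∃ M, IsMaxPL p M ∧ L ≤ M := by
  obtain ⟨M, hLM, hM⟩ := Finite.exists_le_maximal (p := IsPL p) (a := L) hL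
  exact ⟨M, ⟨hM.1, fun L' hL' hML' => le_antisymm (hM.2 hL' hML') hML'⟩, hLM⟩

theorem opIn_of_isMaxPL {p : ℕ} {M : Subgroup G} (hM : IsMaxPL p M) :
    (Cfsg.pCore p ↥M).map M.subtype ≠ ⊥ ∧
      Subgroup.normalizer (((Cfsg.pCore p ↥M).map M.subtype : Subgroup G) : Set G) = M := by
  obtain ⟨⟨T, hT, hT0, rfl⟩, hmax⟩ := hM
  have hTQ : T ≤ (Cfsg.pCore p ↥(Subgroup.normalizer (T : Set G))).map
      (Subgroup.normalizer (T : Set G)).subtype :=
    le_opIn Subgroup.le_normalizer hT le_rfl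
  have hQ0 : (Cfsg.pCore p ↥(Subgroup.normalizer (T : Set G))).map
      (Subgroup.normalizer (T : Set G)).subtype ≠ ⊥ :=
    fun h => hT0 (le_bot_iff.mp (h ▸ hTQ))
  exact ⟨hQ0, hmax _ ⟨_, opIn_isPGroup p _, hQ0, rfl⟩ (le_normalizer_opIn p _)⟩

theorem normalizer_eq_of_isMaxPL {p : ℕ} {M : Subgroup G} (hM : IsMaxPL p M) :
    Subgroup.normalizer (M : Set G) = M :=
  le_antisymm ((normalizer_le_normalizer_opIn p M).trans (opIn_of_isMaxPL hM).2.le)
    Subgroup.le_normalizer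

theorem charp_of_isPL {p : ℕ} (hloc : Cfsg.IsOfLocalCharacteristic p G) {M : Subgroup G}
    (hM : IsPL p M) :
    Subgroup.centralizer (Cfsg.pCore p ↥M : Set ↥M) ≤ Cfsg.pCore p ↥M := by
  obtain ⟨T, hT, hT0, rfl⟩ := hM
  exact hloc.2 T hT hT0

theorem normalizer_le_of_isMaxPL {p : ℕ} (hloc : Cfsg.IsOfLocalCharacteristic p G)
    {M : Subgroup G} (hM : IsMaxPL p M) {A : Subgroup G} (hA0 : A ≠ ⊥) (hAM : A ≤ M)
    (hMA : M ≤ Subgroup.normalizer (A : Set G)) : Subgroup.normalizer (A : Set G) ≤ M := by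
  by_cases hY : (Cfsg.pCore p ↥A).map A.subtype = ⊥
  · exfalso
    have hQn := le_normalizer_opIn p M
    have h1 : A ⊓ (Cfsg.pCore p ↥M).map M.subtype ≤ (Cfsg.pCore p ↥A).map A.subtype := by
      apply le_opIn inf_le_left ((opIn_isPGroup p M).to_inf_right)
      intro a ha
      rw [Subgroup.mem_normalizer_iff]
      intro x
      have hn1 := Subgroup.mem_normalizer_iff.mp (Subgroup.le_normalizer ha) x
      have hn2 := Subgroup.mem_normalizer_iff.mp (hQn (hAM ha)) x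
      exact and_congr hn1 hn2
    rw [hY] at h1
    have hcomm : ∀ a ∈ A, ∀ q ∈ (Cfsg.pCore p ↥M).map M.subtype, a * q = q * a := by
      intro a ha q hq
      have hq' : q ∈ M := opIn_le p M hq
      have h2 : a * q * a⁻¹ * q⁻¹ ∈ A ⊓ (Cfsg.pCore p ↥M).map M.subtype := by
        constructor
        · have h3 : q * a⁻¹ * q⁻¹ ∈ A :=
            (Subgroup.mem_normalizer_iff.mp (hMA hq') a⁻¹).mp (A.inv_mem ha)
          have : a * q * a⁻¹ * q⁻¹ = a * (q * a⁻¹ * q⁻¹) := by group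
          rw [this]; exact A.mul_mem ha h3
        · have h3 : a * q * a⁻¹ ∈ (Cfsg.pCore p ↥M).map M.subtype :=
            (Subgroup.mem_normalizer_iff.mp (hQn (hAM ha)) q).mp hq
          exact Subgroup.mul_mem _ h3 (Subgroup.inv_mem _ hq)
      have h4 := h1 h2
      rw [Subgroup.mem_bot] at h4
      calc a * q = (a * q * a⁻¹ * q⁻¹) * (q * a) := by group
        _ = q * a := by rw [h4, one_mul]
    have hAQ : A ≤ (Cfsg.pCore p ↥M).map M.subtype := by
      intro a ha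
      have hc : (⟨a, hAM ha⟩ : ↥M) ∈ Subgroup.centralizer (Cfsg.pCore p ↥M : Set ↥M) := by
        rw [Subgroup.mem_centralizer_iff]
        intro y hy
        apply Subtype.ext
        exact (hcomm a ha y ⟨y, hy, rfl⟩).symm
      exact ⟨⟨a, hAM ha⟩, charp_of_isPL hloc hM.1 hc, rfl⟩
    apply hA0
    rw [eq_bot_iff]
    exact (le_inf le_rfl hAQ).trans h1
  · have hPL : IsPL p (Subgroup.normalizer
        (((Cfsg.pCore p ↥A).map A.subtype : Subgroup G) : Set G)) :=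
      ⟨_, opIn_isPGroup p A, hY, rfl⟩
    have h1 := normalizer_le_normalizer_opIn p A
    have h2 := hM.2 _ hPL (hMA.trans h1)
    exact h1.trans h2.le

theorem opIn_le_of_isMaxPSub {p : ℕ} {T H : Subgroup G} (hT : IsMaxPSub p T H) :
    (Cfsg.pCore p ↥H).map H.subtype ≤ T := by
  have h1 : IsPGroup p (T ⊔ (Cfsg.pCore p ↥H).map H.subtype : Subgroup G) :=
    hT.1.to_sup_of_normal_right' (opIn_isPGroup p H) (hT.2.1.trans (le_normalizer_opIn p H))
  exact le_sup_right.trans (hT.2.2 _ h1 (sup_le hT.2.1 (opIn_le p H)) le_sup_left)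

theorem pair_of_common {p : ℕ} (hloc : Cfsg.IsOfLocalCharacteristic p G)
    {M₁ M₂ T : Subgroup G} (h1 : IsMaxPL p M₁) (h2 : IsMaxPL p M₂) (hne : M₁ ≠ M₂)
    (hT1 : IsMaxPSub p T M₁) (hT2 : IsMaxPSub p T M₂) :
    M₁ ≠ M₂ ∧ (∀ A : Subgroup G, A ≠ ⊥ → A ≤ M₁ ⊓ M₂ → (M₁ ≤ Subgroup.normalizer (A : Set G) → M₂ ⊓ Subgroup.normalizer (A : Set G) = M₁ ⊓ M₂) ∧ (M₂ ≤ Subgroup.normalizer (A : Set G) → M₁ ⊓ Subgroup.normalizer (A : Set G) = M₁ ⊓ M₂)) ∧ Subgroup.centralizer (Cfsg.pCore p ↥M₁ : Set ↥M₁) ≤ Cfsg.pCore p ↥M₁ ∧ Subgroup.centralizer (Cfsg.pCore p ↥M₂ : Set ↥M₂) ≤ Cfsg.pCore p ↥M₂ ∧ (Cfsg.pCore p ↥M₁).map M₁.subtype ⊔ (Cfsg.pCore p ↥M₂).map M₂.subtype ≤ M₁ ⊓ M₂ := by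
  refine ⟨hne, ?_, charp_of_isPL hloc h1.1, charp_of_isPL hloc h2.1, ?_⟩
  · intro A hA0 hA
    constructor
    · intro hn
      have := normalizer_le_of_isMaxPL hloc h1 hA0 (hA.trans inf_le_left) hn
      exact le_antisymm (le_inf (inf_le_right.trans this) inf_le_left)
        (le_inf inf_le_right (inf_le_left.trans hn))
    · intro hn
      have := normalizer_le_of_isMaxPL hloc h2 hA0 (hA.trans inf_le_right) hn
      exact le_antisymm (le_inf inf_le_left (inf_le_right.trans this))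
        (le_inf inf_le_left (inf_le_right.trans hn))
  · exact sup_le ((opIn_le_of_isMaxPSub hT1).trans (le_inf hT1.2.1 hT2.2.1))
      ((opIn_le_of_isMaxPSub hT2).trans (le_inf hT1.2.1 hT2.2.1))

theorem exists_normalizing [Finite G] {p : ℕ} [Fact p.Prime] {T S : Subgroup G}
    (hS : IsPGroup p S) (hTS : T < S) :
    ∃ x ∈ S, x ∈ Subgroup.normalizer (T : Set G) ∧ x ∉ T := by
  have hnil : Group.IsNilpotent S := hS.isNilpotent
  have hnc := Group.normalizerCondition_of_isNilpotent (G := S)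
  have hlt : T.subgroupOf S < ⊤ := by
    rw [lt_top_iff_ne_top]
    intro h
    exact hTS.not_ge (Subgroup.subgroupOf_eq_top.mp h)
  obtain ⟨y, hyN, hyT⟩ := SetLike.exists_of_lt (hnc _ hlt)
  refine ⟨y, y.2, ?_, fun h => hyT (Subgroup.mem_subgroupOf.mpr h)⟩
  rw [Subgroup.mem_normalizer_iff]
  intro t
  have key := Subgroup.mem_normalizer_iff.mp hyN
  constructor
  · intro ht
    have := (key ⟨t, hTS.le ht⟩).mp (Subgroup.mem_subgroupOf.mpr ht)
    simpa [Subgroup.mem_subgroupOf] using this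
  · intro ht
    have htS : t ∈ S := by
      have : t = (y : G)⁻¹ * ((y : G) * t * (y : G)⁻¹) * (y : G) := by group
      rw [this]; exact S.mul_mem (S.mul_mem (S.inv_mem y.2) (hTS.le ht)) y.2
    have := (key ⟨t, htS⟩).mpr (by simpa [Subgroup.mem_subgroupOf] using ht)
    simpa [Subgroup.mem_subgroupOf] using this

theorem isPL_conj {p : ℕ} {M : Subgroup G} (hM : IsPL p M) (x : G) :
    IsPL p (M.map (MulAut.conj x).toMonoidHom) := by
  obtain ⟨T, hT, hT0, rfl⟩ := hM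
  refine ⟨T.map (MulAut.conj x).toMonoidHom, hT.map _, ?_, ?_⟩
  · intro h
    exact hT0 ((Subgroup.map_eq_bot_iff_of_injective T (MulAut.conj x).injective).mp h)
  · exact Subgroup.map_equiv_normalizer_eq T (MulAut.conj x)

theorem map_conj_inv_map_conj (H : Subgroup G) (x : G) :
    (H.map (MulAut.conj x).toMonoidHom).map (MulAut.conj x⁻¹).toMonoidHom = H := by
  ext y
  rw [mem_map_conj, mem_map_conj]
  have e : x⁻¹ * (x⁻¹⁻¹ * y * x⁻¹) * x = y := by group
  rw [e]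

theorem map_conj_map_conj_inv (H : Subgroup G) (x : G) :
    (H.map (MulAut.conj x⁻¹).toMonoidHom).map (MulAut.conj x).toMonoidHom = H := by
  have := map_conj_inv_map_conj H x⁻¹
  rwa [inv_inv] at this

theorem isMaxPL_conj {p : ℕ} {M : Subgroup G} (hM : IsMaxPL p M) (x : G) :
    IsMaxPL p (M.map (MulAut.conj x).toMonoidHom) := by
  refine ⟨isPL_conj hM.1 x, ?_⟩
  intro L hL hML
  have h1 : M ≤ L.map (MulAut.conj x⁻¹).toMonoidHom := by
    have := Subgroup.map_mono (f := (MulAut.conj x⁻¹).toMonoidHom) hML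
    rwa [map_conj_inv_map_conj] at this
  have h2 := hM.2 _ (isPL_conj hL x⁻¹) h1
  rw [← h2, map_conj_map_conj_inv]

theorem isMaxPSub_conj {p : ℕ} {T H : Subgroup G} (hT : IsMaxPSub p T H) (x : G) :
    IsMaxPSub p (T.map (MulAut.conj x).toMonoidHom) (H.map (MulAut.conj x).toMonoidHom) := by
  refine ⟨hT.1.map _, Subgroup.map_mono hT.2.1, ?_⟩
  intro S hS hSH hTS
  have h1 : S.map (MulAut.conj x⁻¹).toMonoidHom ≤ H := by
    have := Subgroup.map_mono (f := (MulAut.conj x⁻¹).toMonoidHom) hSH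
    rwa [map_conj_inv_map_conj] at this
  have h2 : T ≤ S.map (MulAut.conj x⁻¹).toMonoidHom := by
    have := Subgroup.map_mono (f := (MulAut.conj x⁻¹).toMonoidHom) hTS
    rwa [map_conj_inv_map_conj] at this
  have h3 := hT.2.2 _ (hS.map _) h1 h2
  have := Subgroup.map_mono (f := (MulAut.conj x).toMonoidHom) h3
  rwa [map_conj_map_conj_inv] at this

theorem map_conj_eq_of_mem_normalizer {T : Subgroup G} {x : G}
    (hx : x ∈ Subgroup.normalizer (T : Set G)) : T.map (MulAut.conj x).toMonoidHom = T := by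
  ext y
  rw [mem_map_conj]
  have := Subgroup.mem_normalizer_iff.mp (Subgroup.inv_mem _ hx) y
  rw [inv_inv] at this
  exact this.symm

theorem mem_normalizer_of_map_conj_eq {M : Subgroup G} {x : G}
    (h : M.map (MulAut.conj x).toMonoidHom = M) : x ∈ Subgroup.normalizer (M : Set G) := by
  rw [Subgroup.mem_normalizer_iff]
  intro y
  conv_rhs => rw [← h, mem_map_conj]
  have e : x⁻¹ * (x * y * x⁻¹) * x = y := by group
  rw [e]

theorem exists_pair [Finite G] {p : ℕ} [Fact p.Prime] {M : Subgroup G} (hM : IsMaxPL p M)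
    {g : G} (hg : g ∉ M)
    (hdvd : p ∣ Nat.card ↥(M ⊓ M.map (MulAut.conj g).toMonoidHom)) :
    ∃ M₁ M₂ T : Subgroup G, IsMaxPL p M₁ ∧ IsMaxPL p M₂ ∧ M₁ ≠ M₂ ∧ IsMaxPSub p T M₁ ∧
      IsMaxPSub p T M₂ := by
  have hp : p.Prime := Fact.out
  -- a first candidate
  obtain ⟨x, hx⟩ := exists_prime_orderOf_dvd_card' p hdvd
  have hx1 : (x : G) ≠ 1 := by
    intro h
    have : x = 1 := Subtype.ext h
    rw [this, orderOf_one] at hx
    exact hp.one_lt.ne hx
  have hT₀p : IsPGroup p (Subgroup.zpowers (x : G)) := by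
    apply IsPGroup.of_card (n := 1)
    rw [Nat.card_zpowers, Subgroup.orderOf_coe, hx, pow_one]
  have hT₀0 : Subgroup.zpowers (x : G) ≠ ⊥ := by
    intro h
    exact hx1 (Subgroup.zpowers_eq_bot.mp h)
  have hT₀le : Subgroup.zpowers (x : G) ≤ M ⊓ M.map (MulAut.conj g).toMonoidHom := by
    rw [Subgroup.zpowers_le]; exact x.2
  have hMg : M ≠ M.map (MulAut.conj g).toMonoidHom := by
    intro h
    have := mem_normalizer_of_map_conj_eq h.symm
    rw [normalizer_eq_of_isMaxPL hM] at this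
    exact hg this
  obtain ⟨T, hT₀T, hTmax⟩ := Finite.exists_le_maximal
    (p := fun T : Subgroup G => IsPGroup p T ∧ ∃ M₁ M₂ : Subgroup G, IsMaxPL p M₁ ∧
      IsMaxPL p M₂ ∧ M₁ ≠ M₂ ∧ T ≤ M₁ ⊓ M₂)
    (a := Subgroup.zpowers (x : G)) ⟨hT₀p, M, _, hM, isMaxPL_conj hM g, hMg, hT₀le⟩
  have hT0 : T ≠ ⊥ := fun h => hT₀0 (le_bot_iff.mp (h ▸ hT₀T))
  obtain ⟨⟨hTp, M₁, M₂, h1, h2, hne, hTle⟩, hmax⟩ := hTmax
  have hNT : IsPL p (Subgroup.normalizer (T : Set G)) := ⟨T, hTp, hT0, rfl⟩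
  have claimA : ∀ M₁ M₂ : Subgroup G, IsMaxPL p M₁ → IsMaxPL p M₂ → M₁ ≠ M₂ → T ≤ M₁ ⊓ M₂ →
      ¬ IsMaxPSub p T M₁ → ∃ x ∈ M₁, x ∈ Subgroup.normalizer (T : Set G) ∧ x ∉ T ∧
        IsPGroup p (T ⊔ Subgroup.zpowers x : Subgroup G) ∧
        Subgroup.normalizer (T : Set G) ≤ M₁ := by
    intro M₁ M₂ h1 h2 hne hTle hnot
    have hex : ∃ S : Subgroup G, IsPGroup p S ∧ S ≤ M₁ ∧ T ≤ S ∧ ¬ S ≤ T := by
      by_contra hcon
      apply hnot
      refine ⟨hTp, hTle.trans inf_le_left, ?_⟩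
      intro S hS hSM hTS
      by_contra hST
      exact hcon ⟨S, hS, hSM, hTS, hST⟩
    obtain ⟨S, hS, hSM, hTS, hST⟩ := hex
    obtain ⟨x, hxS, hxN, hxT⟩ := exists_normalizing hS (lt_of_le_not_ge hTS hST)
    have hRp : IsPGroup p (T ⊔ Subgroup.zpowers x : Subgroup G) :=
      hS.to_le (sup_le hTS (by rw [Subgroup.zpowers_le]; exact hxS))
    have hRN : T ⊔ Subgroup.zpowers x ≤ Subgroup.normalizer (T : Set G) :=
      sup_le Subgroup.le_normalizer (by rw [Subgroup.zpowers_le]; exact hxN)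
    have hRM : T ⊔ Subgroup.zpowers x ≤ M₁ :=
      (sup_le hTS (by rw [Subgroup.zpowers_le]; exact hxS)).trans hSM
    refine ⟨x, hSM hxS, hxN, hxT, hRp, ?_⟩
    obtain ⟨L, hL, hNL⟩ := exists_max_of_isPL hNT
    by_cases hLM : L = M₁
    · rw [← hLM]; exact hNL
    · exfalso
      have := hmax ⟨hRp, M₁, L, h1, hL, fun h => hLM h.symm, le_inf hRM (hRN.trans hNL)⟩
        le_sup_left
      apply hxT
      apply this
      exact Subgroup.mem_sup_right (Subgroup.mem_zpowers x)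
  by_cases hm1 : IsMaxPSub p T M₁
  · by_cases hm2 : IsMaxPSub p T M₂
    · exact ⟨M₁, M₂, T, h1, h2, hne, hm1, hm2⟩
    · obtain ⟨x, hxM, hxN, hxT, hRp, hN⟩ := claimA M₂ M₁ h2 h1 hne.symm
        (by rw [inf_comm]; exact hTle) hm2
      have hxM₁ : x ∉ M₁ := by
        intro hx1
        apply hxT
        have := hm1.2.2 _ hRp
          (sup_le hm1.2.1 (by rw [Subgroup.zpowers_le]; exact hx1)) le_sup_left
        exact this (Subgroup.mem_sup_right (Subgroup.mem_zpowers x))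
      refine ⟨M₁, M₁.map (MulAut.conj x).toMonoidHom, T, h1, isMaxPL_conj h1 x, ?_, hm1, ?_⟩
      · intro h
        have := mem_normalizer_of_map_conj_eq h.symm
        rw [normalizer_eq_of_isMaxPL h1] at this
        exact hxM₁ this
      · have := isMaxPSub_conj hm1 x
        rwa [map_conj_eq_of_mem_normalizer hxN] at this
  · by_cases hm2 : IsMaxPSub p T M₂
    · obtain ⟨x, hxM, hxN, hxT, hRp, hN⟩ := claimA M₁ M₂ h1 h2 hne hTle hm1
      have hxM₂ : x ∉ M₂ := by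
        intro hx2
        apply hxT
        have := hm2.2.2 _ hRp
          (sup_le hm2.2.1 (by rw [Subgroup.zpowers_le]; exact hx2)) le_sup_left
        exact this (Subgroup.mem_sup_right (Subgroup.mem_zpowers x))
      refine ⟨M₂, M₂.map (MulAut.conj x).toMonoidHom, T, h2, isMaxPL_conj h2 x, ?_, hm2, ?_⟩
      · intro h
        have := mem_normalizer_of_map_conj_eq h.symm
        rw [normalizer_eq_of_isMaxPL h2] at this
        exact hxM₂ this
      · have := isMaxPSub_conj hm2 x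
        rwa [map_conj_eq_of_mem_normalizer hxN] at this
    · exfalso
      obtain ⟨x, hxM, hxN, hxT, hRp, hN⟩ := claimA M₁ M₂ h1 h2 hne hTle hm1
      obtain ⟨x', hxM', hxN', hxT', hRp', hN'⟩ := claimA M₂ M₁ h2 h1 hne.symm
        (by rw [inf_comm]; exact hTle) hm2
      have hR : T ⊔ Subgroup.zpowers x ≤ M₁ ⊓ M₂ := by
        apply sup_le hTle
        rw [Subgroup.zpowers_le]
        exact ⟨hxM, hN' hxN⟩
      have := hmax ⟨hRp, M₁, M₂, h1, h2, hne, hR⟩ le_sup_left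
      exact hxT (this (Subgroup.mem_sup_right (Subgroup.mem_zpowers x)))

/-- Two distinct subgroups M₁, M₂ of G form a primitive pair when, for {i, j} = {1, 2}, every non-trivial normal subgroup A of M_i contained in M₁ ∩ M₂ satisfies N_{M_j}(A) = M₁ ∩ M₂; the pair has characteristic p when moreover C_{M_i}(O_p(M_i)) ≤ O_p(M_i) for both i and O_p(M₁)O_p(M₂) ≤ M₁ ∩ M₂. Let G be a finite group, p a prime dividing its order, with O_p(G) = 1 and every p-local subgroup of characteristic p. Then either G has a primitive pair of characteristic p, or every maximal p-local subgroup M of G is strongly p-embedded in G: M is a proper subgroup, p divides its order, and for every g ∉ M the order of M ∩ gMg⁻¹ is prime to p. -/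
theorem result {G : Type*} [Group G] [Finite G] {p : ℕ} [Fact p.Prime] (hloc : Cfsg.IsOfLocalCharacteristic p G) (hOp : Cfsg.pCore p G = ⊥) : (∃ M₁ M₂ : Subgroup G, M₁ ≠ M₂ ∧ (∀ A : Subgroup G, A ≠ ⊥ → A ≤ M₁ ⊓ M₂ → (M₁ ≤ Subgroup.normalizer (A : Set G) → M₂ ⊓ Subgroup.normalizer (A : Set G) = M₁ ⊓ M₂) ∧ (M₂ ≤ Subgroup.normalizer (A : Set G) → M₁ ⊓ Subgroup.normalizer (A : Set G) = M₁ ⊓ M₂)) ∧ Subgroup.centralizer (Cfsg.pCore p ↥M₁ : Set ↥M₁) ≤ Cfsg.pCore p ↥M₁ ∧ Subgroup.centralizer (Cfsg.pCore p ↥M₂ : Set ↥M₂) ≤ Cfsg.pCore p ↥M₂ ∧ (Cfsg.pCore p ↥M₁).map M₁.subtype ⊔ (Cfsg.pCore p ↥M₂).map M₂.subtype ≤ M₁ ⊓ M₂) ∨ (∀ M : Subgroup G, (∃ T : Subgroup G, IsPGroup p T ∧ T ≠ ⊥ ∧ M = Subgroup.normalizer (T : Set G)) → (∀ L : Subgroup G, (∃ T : Subgroup G, IsPGroup p T ∧ T ≠ ⊥ ∧ L = Subgroup.normalizer (T : Set G)) → M ≤ L → L = M) → M ≠ ⊤ ∧ p ∣ Nat.card M ∧ ∀ g : G, g ∉ M → ¬ p ∣ Nat.card ↥(M ⊓ M.map (MulAut.conj g).toMonoidHom))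 := by
  have hp : p.Prime := Fact.out
  by_cases hstr : ∀ M : Subgroup G, IsMaxPL p M → ∀ g : G, g ∉ M →
      ¬ p ∣ Nat.card ↥(M ⊓ M.map (MulAut.conj g).toMonoidHom)
  · right
    intro M hMpl hMmax
    refine ⟨?_, ?_, hstr M ⟨hMpl, hMmax⟩⟩
    · obtain ⟨T, hT, hT0, rfl⟩ := hMpl
      intro htop
      have hTn : T.Normal := Subgroup.normalizer_eq_top_iff.mp htop
      have : T ≤ Cfsg.pCore p G := le_sSup ⟨hTn, hT⟩
      rw [hOp] at this
      exact hT0 (le_bot_iff.mp this)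
    · obtain ⟨T, hT, hT0, rfl⟩ := hMpl
      have h1 : p ∣ Nat.card T := by
        obtain ⟨k, hk⟩ := hT.exists_card_eq
        have hk0 : k ≠ 0 := by
          rintro rfl
          rw [pow_zero] at hk
          exact hT0 (Subgroup.card_eq_one.mp hk)
        rw [hk]; exact dvd_pow_self p hk0
      exact h1.trans (Subgroup.card_dvd_of_le Subgroup.le_normalizer)
  · left
    push Not at hstr
    obtain ⟨M, hM, g, hg, hdvd⟩ := hstr
    obtain ⟨M₁, M₂, T, h1, h2, hne, hT1, hT2⟩ := exists_pair hM hg hdvd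
    exact ⟨M₁, M₂, pair_of_common hloc h1 h2 hne hT1 hT2⟩

end Cfsg.Agent.S3751
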