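import Cfsg.Statements.S3745
import Cfsg.Agent.Lib.Helper1.HallLe
import Cfsg.Agent.Lib.Helper91.Coprime2
import Cfsg.Agent.S3751

set_option autoImplicit false
open Cfsg
open scoped Pointwise

namespace Cfsg.Agent.S3745

universe u

/-- Splitting a positive integer into its `π`-part and its `π'`-part. -/
theorem exists_pi_split (π : Set ℕ) : ∀ n : ℕ, n ≠ 0 → ∃ m k : ℕ, n = m * k ∧
    (∀ p : ℕ, p.Prime → p ∣ m → p ∈ π) ∧ (∀ p : ℕ, p.Prime → p ∈ π → ¬ p ∣ k) := by
  intro n
  induction n using Nat.strong_induction_on with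
  | _ n ih =>
    intro hn
    by_cases h1 : n = 1
    · refine ⟨1, 1, by simp [h1], ?_, ?_⟩
      · intro p hp hd; exact absurd (Nat.dvd_one.mp hd ▸ hp) Nat.not_prime_one
      · intro p hp _ hd; exact absurd (Nat.dvd_one.mp hd ▸ hp) Nat.not_prime_one
    · have hp := Nat.minFac_prime h1
      obtain ⟨e, n', hpn', hn'⟩ := Nat.exists_eq_pow_mul_and_not_dvd hn n.minFac hp.ne_one
      have hn'0 : n' ≠ 0 := by
        rintro rfl
        rw [mul_zero] at hn'
        exact hn hn'
      have he : e ≠ 0 := by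
        rintro rfl
        rw [pow_zero, one_mul] at hn'
        exact hpn' (hn' ▸ Nat.minFac_dvd n)
      have hlt : n' < n := by
        have h2 : 2 ≤ n.minFac ^ e :=
          le_trans hp.two_le (Nat.le_self_pow he _)
        have hpos : 0 < n' := Nat.pos_of_ne_zero hn'0
        calc n' < 2 * n' := by omega
          _ ≤ n.minFac ^ e * n' := Nat.mul_le_mul_right _ h2
          _ = n := hn'.symm
      obtain ⟨m', k', hmk, hm', hk'⟩ := ih n' hlt hn'0
      by_cases hpπ : n.minFac ∈ π
      · refine ⟨n.minFac ^ e * m', k', by rw [mul_assoc, ← hmk]; exact hn', ?_, hk'⟩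
        intro q hq hd
        rcases (Nat.Prime.dvd_mul hq).mp hd with h | h
        · have := (Nat.prime_dvd_prime_iff_eq hq hp).mp (hq.dvd_of_dvd_pow h)
          rw [this]; exact hpπ
        · exact hm' q hq h
      · refine ⟨m', n.minFac ^ e * k', by rw [mul_left_comm, ← hmk]; exact hn', hm', ?_⟩
        intro q hq hqπ hd
        rcases (Nat.Prime.dvd_mul hq).mp hd with h | h
        · have := (Nat.prime_dvd_prime_iff_eq hq hp).mp (hq.dvd_of_dvd_pow h)
          rw [this] at hqπ; exact hpπ hqπ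
        · exact hk' q hq hqπ h

theorem pi_coprime {π : Set ℕ} {m k : ℕ} (hm : ∀ p : ℕ, p.Prime → p ∣ m → p ∈ π)
    (hk : ∀ p : ℕ, p.Prime → p ∈ π → ¬ p ∣ k) : m.Coprime k :=
  Nat.coprime_of_dvd fun p hp hpm => hk p hp (hm p hp hpm)

theorem pi_split_unique {π : Set ℕ} {m n h r : ℕ} (hm : ∀ p : ℕ, p.Prime → p ∣ m → p ∈ π)
    (hn : ∀ p : ℕ, p.Prime → p ∈ π → ¬ p ∣ n) (hh : ∀ p : ℕ, p.Prime → p ∣ h → p ∈ π)
    (hr : ∀ p : ℕ, p.Prime → p ∈ π → ¬ p ∣ r) (e : m * n = h * r) : h = m := by
  apply Nat.dvd_antisymm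
  · exact Nat.Coprime.dvd_of_dvd_mul_right (pi_coprime hh hn) (Dvd.intro _ e.symm)
  · exact Nat.Coprime.dvd_of_dvd_mul_right (pi_coprime hm hr) (Dvd.intro _ e)

variable {X : Type u} [Group X]

theorem isPiHallOf_iff_card {π : Set ℕ} {G H : Subgroup X} [Finite X] {m n : ℕ}
    (hG : Nat.card G = m * n) (hm : ∀ p : ℕ, p.Prime → p ∣ m → p ∈ π)
    (hn : ∀ p : ℕ, p.Prime → p ∈ π → ¬ p ∣ n) (hHG : H ≤ G) :
    Cfsg.IsPiHallOf π H G ↔ Nat.card H = m := by
  have hcard := Cfsg.Agent.Lib.Helper1.card_eq_card_mul_relIndex hHG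
  constructor
  · rintro ⟨-, h1, h2⟩
    exact pi_split_unique hm hn h1 h2 (hG.symm.trans hcard)
  · intro h
    refine ⟨hHG, by rw [h]; exact hm, ?_⟩
    have hm0 : 0 < m := by
      rw [← h]; exact Nat.card_pos
    have : H.relIndex G = n := by
      rw [hG, h] at hcard
      exact (Nat.eq_of_mul_eq_mul_left hm0 hcard).symm
    rw [this]; exact hn

section Hall

variable [Finite X] {G : Subgroup X} [hsolv : Group.IsSolvable G] {m n : ℕ}

theorem hall_ex_in (hG : Nat.card G = m * n) (hmn : m.Coprime n) :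
    ∃ H : Subgroup X, H ≤ G ∧ Nat.card H = m := by
  obtain ⟨H', hH'⟩ := Cfsg.Agent.Lib.Helper1.hall_exists (G := ↥G) m n hG hmn
  exact ⟨H'.map G.subtype, Subgroup.map_subtype_le _, by
    rw [Subgroup.card_map_of_injective G.subtype_injective, hH']⟩

theorem hall_conj_in (hG : Nat.card G = m * n) (hmn : m.Coprime n) {H K : Subgroup X}
    (hH : H ≤ G) (hK : K ≤ G) (hHc : Nat.card H = m) (hKc : Nat.card K = m) :
    ∃ g ∈ G, MulAut.conj g • H = K := by
  obtain ⟨g, hg⟩ := Cfsg.Agent.Lib.Helper1.hall_conj (G := ↥G) m n hG hmn (H.subgroupOf G)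
    (K.subgroupOf G) (by rw [Cfsg.Agent.Lib.Helper1.card_subgroupOf_of_le hH, hHc])
    (by rw [Cfsg.Agent.Lib.Helper1.card_subgroupOf_of_le hK, hKc])
  exact ⟨g, g.2, Cfsg.Agent.Lib.Helper1.conj_smul_of_subgroupOf hH hK g hg⟩

theorem hall_le_in (hG : Nat.card G = m * n) (hmn : m.Coprime n) {U : Subgroup X}
    (hU : U ≤ G) (hUc : (Nat.card U).Coprime n) :
    ∃ H : Subgroup X, H ≤ G ∧ Nat.card H = m ∧ U ≤ H := by
  obtain ⟨H', hH', hUH'⟩ := Cfsg.Agent.Lib.Helper1.hall_le (G := ↥G) m n hG hmn (U.subgroupOf G)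
    (by rw [Cfsg.Agent.Lib.Helper1.card_subgroupOf_of_le hU]; exact hUc)
  refine ⟨H'.map G.subtype, Subgroup.map_subtype_le _, by
    rw [Subgroup.card_map_of_injective G.subtype_injective, hH'], ?_⟩
  have := Subgroup.map_mono (f := G.subtype) hUH'
  rwa [Subgroup.map_subgroupOf_eq_of_le hU] at this

end Hall

theorem conj_eq_of_mem_normalizer {H : Subgroup X} {x : X}
    (hx : x ∈ Subgroup.normalizer (H : Set X)) : MulAut.conj x • H = H := by
  ext y
  rw [Cfsg.Agent.Lib.Helper1.mem_conj_smul]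
  have := Subgroup.mem_normalizer_iff.mp (Subgroup.inv_mem _ hx) y
  rw [inv_inv] at this
  exact this.symm

theorem mem_normalizer_of_conj_eq {H : Subgroup X} {x : X}
    (h : MulAut.conj x • H = H) : x ∈ Subgroup.normalizer (H : Set X) := by
  rw [Subgroup.mem_normalizer_iff]
  intro y
  conv_rhs => rw [← h, Cfsg.Agent.Lib.Helper1.mem_conj_smul]
  have e : x⁻¹ * (x * y * x⁻¹) * x = y := by group
  rw [e]

theorem conj_smul_le_of_mem {G H : Subgroup X} {g : X} (hg : g ∈ G) (hHG : H ≤ G) :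
    MulAut.conj g • H ≤ G := by
  intro x hx
  rw [Cfsg.Agent.Lib.Helper1.mem_conj_smul] at hx
  have : x = g * (g⁻¹ * x * g) * g⁻¹ := by group
  rw [this]
  exact G.mul_mem (G.mul_mem hg (hHG hx)) (G.inv_mem hg)

theorem conj_smul_le_of_mem_normalizer {G H : Subgroup X} {a : X}
    (ha : a ∈ Subgroup.normalizer (G : Set X)) (hHG : H ≤ G) : MulAut.conj a • H ≤ G := by
  intro x hx
  rw [Cfsg.Agent.Lib.Helper1.mem_conj_smul] at hx
  have h1 := hHG hx
  have h2 := (Subgroup.mem_normalizer_iff.mp ha _).mp h1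
  have e : a * (a⁻¹ * x * a) * a⁻¹ = x := by group
  rwa [e] at h2

/-- Glauberman-type existence: if the `K`-conjugates of `P` are permuted by `A` (Frattini
condition), then some `K`-conjugate of `P` is `A`-invariant. -/
theorem exists_invariant_conj [Finite X] (A K : Subgroup X)
    (hAK : A ≤ Subgroup.normalizer (K : Set X))
    (hcop : (Nat.card A).Coprime (Nat.card K)) (hsolv : Group.IsSolvable A ∨ Group.IsSolvable K)
    (P : Subgroup X) (hfr : ∀ a ∈ A, ∃ k ∈ K, k⁻¹ * a ∈ Subgroup.normalizer (P : Set X)) :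
    ∃ n ∈ K, A ≤ Subgroup.normalizer ((MulAut.conj n • P : Subgroup X) : Set X) := by
  set M : Subgroup X := (K ⊔ A) ⊓ Subgroup.normalizer (P : Set X) with hM
  have hKAn : K ⊔ A ≤ Subgroup.normalizer (K : Set X) := sup_le Subgroup.le_normalizer hAK
  have hMn : M ≤ Subgroup.normalizer (K : Set X) := inf_le_left.trans hKAn
  have hsup : K ⊔ M = K ⊔ A := by
    apply le_antisymm
    · exact sup_le le_sup_left inf_le_left
    · apply sup_le le_sup_left
      intro a ha
      obtain ⟨k, hk, hka⟩ := hfr a ha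
      have h1 : k⁻¹ * a ∈ M :=
        ⟨Subgroup.mul_mem _ (Subgroup.mem_sup_left (K.inv_mem hk)) (Subgroup.mem_sup_right ha), hka⟩
      have h2 : a = k * (k⁻¹ * a) := by group
      rw [h2]
      exact Subgroup.mul_mem_sup hk h1
  have hnorm : (K.subgroupOf M).Normal := Subgroup.normal_subgroupOf_of_le_normalizer hMn
  have hc1 : Nat.card (K.subgroupOf M) = Nat.card (K ⊓ M : Subgroup X) := by
    rw [← Subgroup.inf_subgroupOf_right K M]
    exact Cfsg.Agent.Lib.Helper1.card_subgroupOf_of_le inf_le_right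
  have hc2 : Nat.card (K.subgroupOf M) * (K.subgroupOf M).index = Nat.card M :=
    Subgroup.card_mul_index _
  have hc3 := Cfsg.Agent.Lib.Helper91.card_sup_mul_card_inf_of_le_normalizer K M hMn
  have hc4 := Cfsg.Agent.Lib.Helper91.card_sup_mul_card_inf_of_le_normalizer K A hAK
  have hKA : K ⊓ A = ⊥ := (Subgroup.disjoint_of_coprime_natCard hcop.symm).eq_bot
  rw [hKA, Subgroup.card_bot, mul_one] at hc4
  rw [hsup, hc4, ← hc1, ← hc2] at hc3
  have hpos : 0 < Nat.card (K.subgroupOf M) := Nat.card_pos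
  have hKpos : 0 < Nat.card K := Nat.card_pos
  have hidx : (K.subgroupOf M).index = Nat.card A := by
    have h5 : Nat.card K * Nat.card (K.subgroupOf M) * Nat.card A =
        Nat.card K * Nat.card (K.subgroupOf M) * (K.subgroupOf M).index := by
      calc Nat.card K * Nat.card (K.subgroupOf M) * Nat.card A
          = Nat.card K * Nat.card A * Nat.card (K.subgroupOf M) := by ring
        _ = Nat.card K * (Nat.card (K.subgroupOf M) * (K.subgroupOf M).index) := hc3
        _ = _ := by ring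
    exact (Nat.eq_of_mul_eq_mul_left (Nat.mul_pos hKpos hpos) h5).symm
  have hcopM : (Nat.card (K.subgroupOf M)).Coprime (K.subgroupOf M).index := by
    rw [hidx, hc1]
    exact (Nat.Coprime.coprime_dvd_right (Subgroup.card_dvd_of_le inf_le_left) hcop).symm
  obtain ⟨B₀, hB₀⟩ := Subgroup.exists_right_complement'_of_coprime hcopM
  set B : Subgroup X := B₀.map M.subtype with hBdef
  have hBcard : Nat.card B = Nat.card A := by
    rw [hBdef, Subgroup.card_map_of_injective M.subtype_injective, ← hidx]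
    exact hB₀.symm.index_eq_card.symm
  have hBM : B ≤ M := by
    rw [hBdef]; exact Subgroup.map_subtype_le _
  obtain ⟨n, hn, hnB⟩ := Cfsg.Agent.Lib.Helper91.coprime_conj_eq A K hAK hcop hsolv B
    (hBM.trans inf_le_left) hBcard
  refine ⟨n, hn, ?_⟩
  intro a ha
  apply Cfsg.Agent.Lib.Helper91.conj_mem_normalizer_conj_smul
  rw [← hnB, Cfsg.Agent.Lib.Helper1.mem_conj_smul] at ha
  exact (hBM ha).2

theorem exists_invariant_hall [Finite X] (A G : Subgroup X)
    (hAG : A ≤ Subgroup.normalizer (G : Set X)) (hcop : (Nat.card A).Coprime (Nat.card G))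
    (hsolv : Group.IsSolvable G) (π : Set ℕ) :
    ∃ H : Subgroup X, Cfsg.IsPiHallOf π H G ∧ A ≤ Subgroup.normalizer (H : Set X) := by
  obtain ⟨m, n, hG, hm, hn⟩ := exists_pi_split π (Nat.card G) (Nat.card_pos.ne')
  have hmn := pi_coprime hm hn
  obtain ⟨H, hHG, hHc⟩ := hall_ex_in hG hmn
  have hfr : ∀ a ∈ A, ∃ k ∈ G, k⁻¹ * a ∈ Subgroup.normalizer (H : Set X) := by
    intro a ha
    have hle : MulAut.conj a • H ≤ G := conj_smul_le_of_mem_normalizer (hAG ha) hHG
    obtain ⟨g, hg, hgH⟩ := hall_conj_in hG hmn hHG hle hHc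
      (by rw [Cfsg.Agent.Lib.Helper1.card_conj_smul, hHc])
    refine ⟨g, hg, ?_⟩
    apply mem_normalizer_of_conj_eq
    rw [map_mul, mul_smul, ← hgH, ← mul_smul, ← map_mul, inv_mul_cancel, map_one, one_smul]
  obtain ⟨k, hk, hkA⟩ := exists_invariant_conj A G hAG hcop (Or.inr hsolv) H hfr
  refine ⟨MulAut.conj k • H, ?_, hkA⟩
  rw [isPiHallOf_iff_card hG hm hn (conj_smul_le_of_mem hk hHG),
    Cfsg.Agent.Lib.Helper1.card_conj_smul, hHc]

theorem invariant_hall_conj [Finite X] (A G : Subgroup X)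
    (hAG : A ≤ Subgroup.normalizer (G : Set X)) (hcop : (Nat.card A).Coprime (Nat.card G))
    (hsolv : Group.IsSolvable G) (π : Set ℕ) (H₁ H₂ : Subgroup X)
    (h1 : Cfsg.IsPiHallOf π H₁ G) (hA1 : A ≤ Subgroup.normalizer (H₁ : Set X))
    (h2 : Cfsg.IsPiHallOf π H₂ G) (hA2 : A ≤ Subgroup.normalizer (H₂ : Set X)) :
    ∃ c ∈ G ⊓ Subgroup.centralizer (A : Set X), MulAut.conj c • H₁ = H₂ := by
  obtain ⟨m, n, hG, hm, hn⟩ := exists_pi_split π (Nat.card G) (Nat.card_pos.ne')
  have hmn := pi_coprime hm hn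
  have hc1 := (isPiHallOf_iff_card hG hm hn h1.1).mp h1
  have hc2 := (isPiHallOf_iff_card hG hm hn h2.1).mp h2
  obtain ⟨g, hg, hgH⟩ := hall_conj_in hG hmn h1.1 h2.1 hc1 hc2
  have hAD : A ≤ Subgroup.normalizer
      ((G ⊓ Subgroup.normalizer (H₁ : Set X) : Subgroup X) : Set X) := by
    intro a ha
    rw [Subgroup.mem_normalizer_iff]
    intro x
    have e1 := Subgroup.mem_normalizer_iff.mp (hAG ha) x
    have e2 : x ∈ Subgroup.normalizer (H₁ : Set X) ↔
        a * x * a⁻¹ ∈ Subgroup.normalizer (H₁ : Set X) := by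
      have haN := hA1 ha
      constructor
      · intro hx
        exact Subgroup.mul_mem _ (Subgroup.mul_mem _ haN hx) (Subgroup.inv_mem _ haN)
      · intro hx
        have : x = a⁻¹ * (a * x * a⁻¹) * a := by group
        rw [this]
        exact Subgroup.mul_mem _ (Subgroup.mul_mem _ (Subgroup.inv_mem _ haN) hx) haN
    exact and_congr e1 e2
  have hinv : ∀ a ∈ A, a⁻¹ * g⁻¹ * a * g ∈ G ⊓ Subgroup.normalizer (H₁ : Set X) := by
    intro a ha
    constructor
    · have h3 : a⁻¹ * g⁻¹ * a⁻¹⁻¹ ∈ G :=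
        (Subgroup.mem_normalizer_iff.mp (hAG (A.inv_mem ha)) _).mp (G.inv_mem hg)
      rw [inv_inv] at h3
      exact G.mul_mem h3 hg
    · apply mem_normalizer_of_conj_eq
      have e1 : MulAut.conj a • H₂ = H₂ := conj_eq_of_mem_normalizer (hA2 ha)
      have e2 : MulAut.conj a⁻¹ • H₁ = H₁ := conj_eq_of_mem_normalizer (hA1 (A.inv_mem ha))
      have e3 : MulAut.conj g⁻¹ • H₂ = H₁ := by
        rw [← hgH, ← mul_smul, ← map_mul, inv_mul_cancel, map_one, one_smul]
      rw [map_mul, map_mul, map_mul, mul_smul, mul_smul, mul_smul, hgH, e1, e3, e2]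
  obtain ⟨d, hd, hc⟩ := Cfsg.Agent.Lib.Helper91.exists_mem_centralizer_coset A G hAG hcop
    (Or.inr hsolv) (G ⊓ Subgroup.normalizer (H₁ : Set X)) inf_le_left hAD g hg hinv
  refine ⟨g * d, ⟨G.mul_mem hg hd.1, hc⟩, ?_⟩
  rw [map_mul, mul_smul, conj_eq_of_mem_normalizer hd.2, hgH]

section Quot

variable {Γ : Subgroup X} {Y : Type u} [Group Y] (f : ↥Γ →* Y)

theorem img_le_normalizer {S T : Subgroup X} (hST : S ≤ Subgroup.normalizer (T : Set X)) :
    (S.subgroupOf Γ).map f ≤
      Subgroup.normalizer (((T.subgroupOf Γ).map f : Subgroup Y) : Set Y) := by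
  refine le_trans (Subgroup.map_mono ?_) (Subgroup.le_normalizer_map f)
  intro x hx
  rw [Subgroup.mem_subgroupOf] at hx
  rw [Subgroup.mem_normalizer_iff]
  intro y
  simp only [Subgroup.mem_subgroupOf]
  exact Subgroup.mem_normalizer_iff.mp (hST hx) y

theorem pre_le_normalizer {S : Subgroup X} (hS : S ≤ Γ) {T : Subgroup Y}
    (h : (S.subgroupOf Γ).map f ≤ Subgroup.normalizer (T : Set Y)) :
    S ≤ Subgroup.normalizer (((T.comap f).map Γ.subtype : Subgroup X) : Set X) := by
  intro s hs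
  rw [Subgroup.mem_normalizer_iff]
  intro x
  have hsN : f ⟨s, hS hs⟩ ∈ Subgroup.normalizer (T : Set Y) :=
    h (Subgroup.mem_map_of_mem f (show (⟨s, hS hs⟩ : ↥Γ) ∈ S.subgroupOf Γ from hs))
  constructor
  · rintro ⟨y, hy, rfl⟩
    refine ⟨⟨s, hS hs⟩ * y * ⟨s, hS hs⟩⁻¹, ?_, rfl⟩
    rw [SetLike.mem_coe, Subgroup.mem_comap] at hy ⊢
    rw [map_mul, map_mul, map_inv]
    exact (Subgroup.mem_normalizer_iff.mp hsN _).mp hy
  · rintro ⟨y, hy, hyx⟩
    refine ⟨⟨s, hS hs⟩⁻¹ * y * ⟨s, hS hs⟩, ?_, ?_⟩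
    · rw [SetLike.mem_coe, Subgroup.mem_comap] at hy ⊢
      rw [map_mul, map_mul, map_inv]
      have := (Subgroup.mem_normalizer_iff.mp (Subgroup.inv_mem _ hsN) _).mp hy
      rwa [inv_inv] at this
    · have hyx' : (y : X) = s * x * s⁻¹ := hyx
      calc Γ.subtype (⟨s, hS hs⟩⁻¹ * y * ⟨s, hS hs⟩) = s⁻¹ * (y : X) * s := by simp
        _ = x := by rw [hyx']; group

end Quot

theorem not_prime_dvd_one {p : ℕ} (hp : p.Prime) (hd : p ∣ 1) : False :=
  absurd (Nat.dvd_one.mp hd ▸ hp) Nat.not_prime_one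

theorem contain_aux : ∀ (k : ℕ) (X : Type u) [Group X] [Finite X] (A G : Subgroup X),
    Nat.card G = k → A ≤ Subgroup.normalizer (G : Set X) →
    (Nat.card A).Coprime (Nat.card G) → Group.IsSolvable G → ∀ (π : Set ℕ) (U : Subgroup X),
    U ≤ G → A ≤ Subgroup.normalizer (U : Set X) →
    (∀ p : ℕ, p.Prime → p ∣ Nat.card U → p ∈ π) →
    ∃ H : Subgroup X, Cfsg.IsPiHallOf π H G ∧ A ≤ Subgroup.normalizer (H : Set X) ∧ U ≤ H := by
  intro k
  induction k using Nat.strong_induction_on with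
  | _ k ih =>
    intro X _ _ A G hk hAG hcop hsolv π U hUG hAU hUπ
    by_cases hbot : G = ⊥
    · subst hbot
      refine ⟨⊥, ⟨le_rfl, ?_, ?_⟩, hAG, hUG⟩
      · intro p hp hd
        rw [Subgroup.card_bot] at hd
        exact (not_prime_dvd_one hp hd).elim
      · intro p hp _ hd
        rw [Subgroup.relIndex_self] at hd
        exact not_prime_dvd_one hp hd
    · have hnt : Nontrivial ↥G := (Subgroup.nontrivial_iff_ne_bot G).mpr hbot
      obtain ⟨Q, p, e, hQn, -, hp, he, hQc⟩ := Cfsg.Agent.Lib.Helper1.exists_minNormal_pGroup ↥G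
      have hpf : Fact p.Prime := ⟨hp⟩
      set N : Subgroup X := (Cfsg.pCore p ↥G).map G.subtype with hNdef
      have hNp : IsPGroup p N := Cfsg.Agent.S3751.opIn_isPGroup p G
      have hNG : N ≤ G := Cfsg.Agent.S3751.opIn_le p G
      have hQle : Q ≤ Cfsg.pCore p ↥G := le_sSup ⟨hQn, IsPGroup.of_card hQc⟩
      have hQne : Q ≠ ⊥ := by
        rw [← Subgroup.one_lt_card_iff_ne_bot, hQc]
        exact Nat.one_lt_pow he.ne' hp.one_lt
      have hNne : N ≠ ⊥ := by
        intro hN
        rw [hNdef, Subgroup.map_eq_bot_iff_of_injective _ G.subtype_injective] at hN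
        rw [hN] at hQle
        exact hQne (le_bot_iff.mp hQle)
      have hN1 : 1 < Nat.card N := (Subgroup.one_lt_card_iff_ne_bot N).mpr hNne
      obtain ⟨j, hNj⟩ := hNp.exists_card_eq
      set Γ : Subgroup X := Subgroup.normalizer (N : Set X) with hΓ
      have hNΓ : N ≤ Γ := Subgroup.le_normalizer
      have hGΓ : G ≤ Γ := Cfsg.Agent.S3751.le_normalizer_opIn p G
      have hAΓ : A ≤ Γ := hAG.trans (Cfsg.Agent.S3751.normalizer_le_normalizer_opIn p G)
      have hN'n : (N.subgroupOf Γ).Normal := Subgroup.normal_in_normalizer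
      set q := QuotientGroup.mk' (N.subgroupOf Γ) with hq
      have hcN' : Nat.card (N.subgroupOf Γ) = Nat.card N :=
        Cfsg.Agent.Lib.Helper1.card_subgroupOf_of_le hNΓ
      have hcG : Nat.card ((G.subgroupOf Γ).map q) * Nat.card N = Nat.card G := by
        have h1 := Cfsg.Agent.Lib.Helper1.card_map_mk'_mul (N.subgroupOf Γ) (G.subgroupOf Γ)
        have h2 : N.subgroupOf Γ ⊓ G.subgroupOf Γ = N.subgroupOf Γ :=
          inf_of_le_left (fun x hx => hNG hx)
        rw [h2, hcN', Cfsg.Agent.Lib.Helper1.card_subgroupOf_of_le hGΓ] at h1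
        exact h1
      have hGpos : 0 < Nat.card ((G.subgroupOf Γ).map q) := Nat.card_pos
      have hlt : Nat.card ((G.subgroupOf Γ).map q) < k := by
        rw [← hk, ← hcG]
        calc Nat.card ((G.subgroupOf Γ).map q) = Nat.card ((G.subgroupOf Γ).map q) * 1 := by ring
          _ < Nat.card ((G.subgroupOf Γ).map q) * Nat.card N :=
            Nat.mul_lt_mul_of_pos_left hN1 hGpos
      have hdvdA : Nat.card ((A.subgroupOf Γ).map q) ∣ Nat.card A := by
        have := Subgroup.card_map_dvd (A.subgroupOf Γ) q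
        rwa [Cfsg.Agent.Lib.Helper1.card_subgroupOf_of_le hAΓ] at this
      have hdvdG : Nat.card ((G.subgroupOf Γ).map q) ∣ Nat.card G := Dvd.intro _ hcG
      have hdvdU : Nat.card ((U.subgroupOf Γ).map q) ∣ Nat.card U := by
        have := Subgroup.card_map_dvd (U.subgroupOf Γ) q
        rwa [Cfsg.Agent.Lib.Helper1.card_subgroupOf_of_le (hUG.trans hGΓ)] at this
      have hs1 : Group.IsSolvable ↥(G.subgroupOf Γ) :=
        Group.isSolvable_of_isSolvable_injective
          (f := (Subgroup.subgroupOfEquivOfLe hGΓ).toMonoidHom) (MulEquiv.injective _)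
      have hs2 : Group.IsSolvable ↥((G.subgroupOf Γ).map q) :=
        Group.isSolvable_of_surjective (f := q.subgroupMap (G.subgroupOf Γ))
          (q.subgroupMap_surjective _)
      obtain ⟨Hbar, hHbar, hAbar, hUbar⟩ := ih _ hlt (↥Γ ⧸ N.subgroupOf Γ)
        ((A.subgroupOf Γ).map q) ((G.subgroupOf Γ).map q) rfl (img_le_normalizer q hAG)
        (Nat.Coprime.coprime_dvd_left hdvdA (Nat.Coprime.coprime_dvd_right hdvdG hcop)) hs2 π
        ((U.subgroupOf Γ).map q) (Subgroup.map_mono (fun x hx => hUG hx))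
        (img_le_normalizer q hAU) (fun r hr hd => hUπ r hr (hd.trans hdvdU))
      set H₀ : Subgroup X := (Hbar.comap q).map Γ.subtype with hH₀def
      have hNH₀ : N ≤ H₀ := by
        intro x hx
        refine ⟨⟨x, hNΓ hx⟩, ?_, rfl⟩
        rw [SetLike.mem_coe, Subgroup.mem_comap]
        have : q ⟨x, hNΓ hx⟩ = 1 := (QuotientGroup.eq_one_iff _).mpr hx
        rw [this]
        exact Hbar.one_mem
      have hH₀G : H₀ ≤ G := by
        rintro x ⟨y, hy, rfl⟩
        rw [SetLike.mem_coe, Subgroup.mem_comap] at hy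
        obtain ⟨g, hg, hgy⟩ := hHbar.1 hy
        have h1 : g⁻¹ * y ∈ N.subgroupOf Γ := QuotientGroup.eq.mp hgy
        have h2 : (y : X) = (g : X) * ((g⁻¹ * y : ↥Γ) : X) := by
          simp
        have h3 : ((g⁻¹ * y : ↥Γ) : X) ∈ G := hNG h1
        change (y : X) ∈ G
        rw [h2]
        exact G.mul_mem hg h3
      have hUH₀ : U ≤ H₀ := by
        intro x hx
        refine ⟨⟨x, hGΓ (hUG hx)⟩, ?_, rfl⟩
        rw [SetLike.mem_coe, Subgroup.mem_comap]
        exact hUbar (Subgroup.mem_map_of_mem q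
          (show (⟨x, hGΓ (hUG hx)⟩ : ↥Γ) ∈ U.subgroupOf Γ from hx))
      have hAH₀ : A ≤ Subgroup.normalizer (H₀ : Set X) := pre_le_normalizer q hAΓ hAbar
      have hcH₀ : Nat.card H₀ = Nat.card Hbar * Nat.card N := by
        rw [hH₀def, Subgroup.card_map_of_injective Γ.subtype_injective, ← hcN']
        exact Cfsg.Agent.Lib.Helper1.card_comap_mk' (N.subgroupOf Γ) Hbar
      obtain ⟨m, n, hG, hm, hn⟩ := exists_pi_split π (Nat.card G) (Nat.card_pos.ne')
      have hmn := pi_coprime hm hn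
      have hNpos : 0 < Nat.card N := Nat.card_pos
      by_cases hpπ : p ∈ π
      · have hcopn : (Nat.card N).Coprime n := by
          rw [hNj]
          exact Nat.Coprime.pow_left j ((Nat.Prime.coprime_iff_not_dvd hp).mpr (hn p hp hpπ))
        have hNm : Nat.card N ∣ m := by
          apply Nat.Coprime.dvd_of_dvd_mul_right hcopn
          rw [← hG]
          exact Subgroup.card_dvd_of_le hNG
        obtain ⟨m', hm'⟩ := hNm
        have hGbar : Nat.card ((G.subgroupOf Γ).map q) = m' * n := by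
          have : Nat.card N * Nat.card ((G.subgroupOf Γ).map q) = Nat.card N * (m' * n) := by
            rw [mul_comm, hcG, hG, hm']; ring
          exact Nat.eq_of_mul_eq_mul_left hNpos this
        have hm'π : ∀ r : ℕ, r.Prime → r ∣ m' → r ∈ π := fun r hr hd =>
          hm r hr (hm' ▸ Dvd.dvd.mul_left hd _)
        have hcHbar := (isPiHallOf_iff_card hGbar hm'π hn hHbar.1).mp hHbar
        refine ⟨H₀, ?_, hAH₀, hUH₀⟩
        rw [isPiHallOf_iff_card hG hm hn hH₀G, hcH₀, hcHbar, hm', mul_comm]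
      · have hpm : ¬ p ∣ m := fun hd => hpπ (hm p hp hd)
        have hcopm : (Nat.card N).Coprime m := by
          rw [hNj]
          exact Nat.Coprime.pow_left j ((Nat.Prime.coprime_iff_not_dvd hp).mpr hpm)
        have hNn : Nat.card N ∣ n := by
          apply Nat.Coprime.dvd_of_dvd_mul_left hcopm
          rw [← hG]
          exact Subgroup.card_dvd_of_le hNG
        obtain ⟨n', hn'⟩ := hNn
        have hGbar : Nat.card ((G.subgroupOf Γ).map q) = m * n' := by
          have : Nat.card N * Nat.card ((G.subgroupOf Γ).map q) = Nat.card N * (m * n') := by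
            rw [mul_comm, hcG, hG, hn']; ring
          exact Nat.eq_of_mul_eq_mul_left hNpos this
        have hn'π : ∀ r : ℕ, r.Prime → r ∈ π → ¬ r ∣ n' := fun r hr hrπ hd =>
          hn r hr hrπ (hn' ▸ Dvd.dvd.mul_left hd _)
        have hcHbar := (isPiHallOf_iff_card hGbar hm hn'π hHbar.1).mp hHbar
        rw [hcHbar] at hcH₀
        have hπN : ∀ r : ℕ, r.Prime → r ∈ π → ¬ r ∣ Nat.card N := by
          intro r hr hrπ hd
          rw [hNj] at hd
          have := (Nat.prime_dvd_prime_iff_eq hr hp).mp (hr.dvd_of_dvd_pow hd)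
          exact hpπ (this ▸ hrπ)
        by_cases hH₀ : H₀ = G
        · rw [hH₀] at hcH₀
          obtain ⟨H₁, hH₁, hAH₁⟩ := exists_invariant_hall A G hAG hcop hsolv π
          have hcH₁ := (isPiHallOf_iff_card hG hm hn hH₁.1).mp hH₁
          have hH₁Γ : H₁ ≤ Γ := hH₁.1.trans hGΓ
          have hNH₁ : N ⊓ H₁ = ⊥ :=
            (Subgroup.disjoint_of_coprime_natCard (by rw [hcH₁]; exact hcopm)).eq_bot
          have hsupG : H₁ ⊔ N = G := by
            apply Subgroup.eq_of_le_of_card_ge (sup_le hH₁.1 hNG)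
            have h1 := Cfsg.Agent.Lib.Helper91.card_sup_mul_card_inf_of_le_normalizer N H₁ hH₁Γ
            rw [hNH₁, Subgroup.card_bot, mul_one, hcH₁] at h1
            rw [sup_comm, h1, hcH₀, mul_comm]
          set L : Subgroup X := U ⊔ N with hLdef
          have hLG : L ≤ G := sup_le hUG hNG
          have hAL : A ≤ Subgroup.normalizer (L : Set X) := by
            intro a ha
            apply mem_normalizer_of_conj_eq
            rw [hLdef, Subgroup.smul_sup, conj_eq_of_mem_normalizer (hAU ha),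
              conj_eq_of_mem_normalizer (hAΓ ha)]
          have hAHL : A ≤ Subgroup.normalizer ((H₁ ⊓ L : Subgroup X) : Set X) := by
            intro a ha
            apply mem_normalizer_of_conj_eq
            rw [Subgroup.smul_inf, conj_eq_of_mem_normalizer (hAH₁ ha),
              conj_eq_of_mem_normalizer (hAL ha)]
          have hcopUN : (Nat.card U).Coprime (Nat.card N) := pi_coprime hUπ hπN
          have hNU : N ⊓ U = ⊥ := (Subgroup.disjoint_of_coprime_natCard hcopUN.symm).eq_bot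
          have hcL : Nat.card L = Nat.card U * Nat.card N := by
            have h1 := Cfsg.Agent.Lib.Helper91.card_sup_mul_card_inf_of_le_normalizer N U
              (hUG.trans hGΓ)
            rw [hNU, Subgroup.card_bot, mul_one] at h1
            rw [hLdef, sup_comm, h1, mul_comm]
          have hD : (H₁ ⊓ L) ⊔ N = L := by
            apply le_antisymm (sup_le inf_le_right le_sup_right)
            intro x hx
            have hxG : x ∈ H₁ ⊔ N := by rw [hsupG]; exact hLG hx
            have hset := Subgroup.coe_mul_of_left_le_normalizer_right H₁ N hH₁Γ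
            have hx' : x ∈ ((H₁ ⊔ N : Subgroup X) : Set X) := hxG
            rw [hset] at hx'
            obtain ⟨h, hh, n₀, hn₀, rfl⟩ := Set.mem_mul.mp hx'
            have hhL : h ∈ L := by
              have : h = (h * n₀) * n₀⁻¹ := by group
              rw [this]
              exact L.mul_mem hx (L.inv_mem (Subgroup.mem_sup_right hn₀))
            exact Subgroup.mul_mem_sup ⟨hh, hhL⟩ hn₀
          have hcHL : Nat.card (H₁ ⊓ L : Subgroup X) = Nat.card U := by
            have h1 := Cfsg.Agent.Lib.Helper91.card_sup_mul_card_inf_of_le_normalizer N (H₁ ⊓ L)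
              (inf_le_left.trans hH₁Γ)
            have h2 : N ⊓ (H₁ ⊓ L) = ⊥ := by
              rw [← inf_assoc, hNH₁, bot_inf_eq]
            rw [h2, Subgroup.card_bot, mul_one, sup_comm, hD, hcL, mul_comm] at h1
            exact (Nat.eq_of_mul_eq_mul_left hNpos h1).symm
          have hsolvL : Group.IsSolvable ↥L :=
            Group.isSolvable_of_isSolvable_injective (f := Subgroup.inclusion hLG)
              (Subgroup.inclusion_injective hLG)
          have hcopL : (Nat.card A).Coprime (Nat.card L) :=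
            Nat.Coprime.coprime_dvd_right (Subgroup.card_dvd_of_le hLG) hcop
          have hall1 : Cfsg.IsPiHallOf π (H₁ ⊓ L) L :=
            (isPiHallOf_iff_card hcL hUπ hπN inf_le_right).mpr hcHL
          have hall2 : Cfsg.IsPiHallOf π U L :=
            (isPiHallOf_iff_card hcL hUπ hπN le_sup_left).mpr rfl
          obtain ⟨c, hc, hcU⟩ := invariant_hall_conj A L hAL hcopL hsolvL π (H₁ ⊓ L) U hall1
            hAHL hall2 hAU
          refine ⟨MulAut.conj c • H₁, ?_, ?_, ?_⟩
          · rw [isPiHallOf_iff_card hG hm hn (conj_smul_le_of_mem (hLG hc.1) hH₁.1),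
              Cfsg.Agent.Lib.Helper1.card_conj_smul, hcH₁]
          · intro a ha
            apply Cfsg.Agent.Lib.Helper91.conj_mem_normalizer_conj_smul
            have hca : a * c = c * a := Subgroup.mem_centralizer_iff.mp hc.2 a ha
            have : c⁻¹ * a * c = a := by
              rw [mul_assoc, hca, inv_mul_cancel_left]
            rw [this]
            exact hAH₁ ha
          · rw [← hcU]
            exact Subgroup.pointwise_smul_le_pointwise_smul_iff.mpr inf_le_left
        · have hH₀lt : H₀ < G := lt_of_le_of_ne hH₀G hH₀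
          have hlt2 : Nat.card H₀ < k := by
            rw [← hk]; exact Cfsg.Agent.Lib.Helper1.card_lt_card_of_lt hH₀lt
          have hsolv0 : Group.IsSolvable ↥H₀ :=
            Group.isSolvable_of_isSolvable_injective (f := Subgroup.inclusion hH₀G)
              (Subgroup.inclusion_injective hH₀G)
          obtain ⟨H, hH, hAH, hUH⟩ := ih _ hlt2 X A H₀ rfl hAH₀
            (Nat.Coprime.coprime_dvd_right (Subgroup.card_dvd_of_le hH₀G) hcop) hsolv0 π U hUH₀
            hAU hUπ
          have hcH := (isPiHallOf_iff_card hcH₀ hm hπN hH.1).mp hH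
          exact ⟨H, (isPiHallOf_iff_card hG hm hn (hH.1.trans hH₀G)).mpr hcH, hAH, hUH⟩

/-- Coprime action on a solvable group and Hall subgroups. Let A and G be subgroups of a finite group with A normalizing G, the orders of A and G coprime, and G solvable, and let π be a set of primes. Then (a) G has an A-invariant Hall π-subgroup; (b) any two A-invariant Hall π-subgroups of G are conjugate by an element of C_G(A); (c) every A-invariant π-subgroup of G lies in an A-invariant Hall π-subgroup of G. -/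
theorem result {X : Type*} [Group X] [Finite X] (A G : Subgroup X) (hAG : A ≤ Subgroup.normalizer (G : Set X)) (hcop : (Nat.card A).Coprime (Nat.card G)) (hsolv : Group.IsSolvable G) (π : Set ℕ) : (∃ H : Subgroup X, Cfsg.IsPiHallOf π H G ∧ A ≤ Subgroup.normalizer (H : Set X)) ∧ (∀ H₁ H₂ : Subgroup X, Cfsg.IsPiHallOf π H₁ G → A ≤ Subgroup.normalizer (H₁ : Set X) → Cfsg.IsPiHallOf π H₂ G → A ≤ Subgroup.normalizer (H₂ : Set X) → ∃ c ∈ G ⊓ Subgroup.centralizer (A : Set X), H₂ = H₁.map (MulAut.conj c).toMonoidHom) ∧ (∀ U : Subgroup X, U ≤ G → A ≤ Subgroup.normalizer (U : Set X) → (∀ p : ℕ, p.Prime → p ∣ Nat.card U → p ∈ π) → ∃ H : Subgroup X, Cfsg.IsPiHallOf π H G ∧ A ≤ Subgroup.normalizer (H : Set X) ∧ U ≤ H) := by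
  refine ⟨exists_invariant_hall A G hAG hcop hsolv π, ?_, ?_⟩
  · intro H₁ H₂ h1 hA1 h2 hA2
    obtain ⟨c, hc, hcH⟩ := invariant_hall_conj A G hAG hcop hsolv π H₁ H₂ h1 hA1 h2 hA2
    refine ⟨c, hc, ?_⟩
    rw [← hcH]
    ext y
    rw [Cfsg.Agent.Lib.Helper1.mem_conj_smul, Cfsg.Agent.S3751.mem_map_conj]
  · intro U hUG hAU hUπ
    exact contain_aux _ X A G rfl hAG hcop hsolv π U hUG hAU hUπ

end Cfsg.Agent.S3745
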