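import Mathlib
import Cfsg.Statements.S3982

set_option autoImplicit false
open Cfsg

namespace Cfsg.Agent.S3982

open scoped Pointwise

/-- an element of order two does not lie in a subgroup of odd order -/
theorem not_mem_of_odd {G : Type*} [Group G] [Finite G] (L : Subgroup G) (hL : Odd (Nat.card L))
    (y : G) (hy : orderOf y = 2) : y ∉ L := by
  intro h
  have h1 : orderOf (⟨y, h⟩ : L) ∣ Nat.card L := orderOf_dvd_natCard _
  rw [Subgroup.orderOf_mk, hy] at h1
  exact (Nat.not_even_iff_odd.mpr hL) (even_iff_two_dvd.mpr h1)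

/-- an involution normalizing a subgroup `L` of odd order: some Sylow `p`-subgroup of `L` has a
normalizer of even order -/
theorem exists_pgroup_even_normalizer {G : Type*} [Group G] [Finite G] (p : ℕ) [Fact p.Prime]
    (L : Subgroup G) (hL : Odd (Nat.card L)) (y : G) (hy : orderOf y = 2)
    (hyL : y ∈ Subgroup.normalizer (L : Set G)) (S : Subgroup G) (hS : IsPGroup p S)
    (hSL : S ≤ L) :
    ∃ P₂ : Subgroup G, IsPGroup p P₂ ∧ Nat.card S ≤ Nat.card P₂ ∧
      Even (Nat.card (Subgroup.normalizer (P₂ : Set G))) := by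
  have hp : p.Prime := Fact.out
  let N : Subgroup G := Subgroup.normalizer (L : Set G)
  let L' : Subgroup N := L.subgroupOf N
  have hL'n : L'.Normal := Subgroup.normal_in_normalizer
  have hcard : Nat.card L' = Nat.card L :=
    Nat.card_congr (Subgroup.subgroupOfEquivOfLe Subgroup.le_normalizer).toEquiv
  obtain ⟨P'⟩ : Nonempty (Sylow p L') := inferInstance
  have hfr := Sylow.normalizer_sup_eq_top P'
  let y' : N := ⟨y, hyL⟩
  have hy' : orderOf y' = 2 := by rw [Subgroup.orderOf_mk, hy]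
  have hy'y' : y' * y' = 1 := by
    have := pow_orderOf_eq_one y'
    rwa [hy', pow_two] at this
  have hL'odd : Odd (Nat.card L') := hcard ▸ hL
  have hy'L : y' ∉ L' := not_mem_of_odd L' hL'odd y' hy'
  have hmem : y' ∈ ((Subgroup.normalizer
      (((P' : Subgroup L').map L'.subtype : Subgroup N) : Set N) ⊔ L' : Subgroup N) : Set N) := by
    rw [hfr]; exact Subgroup.mem_top _
  rw [Subgroup.mul_normal] at hmem
  obtain ⟨h, hh, l, hl, hhl⟩ := hmem
  -- `h` has even order
  have hh2 : h * h ∈ L' := by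
    have e1 : h = y' * l⁻¹ := by rw [← hhl]; group
    have e2 : h * h = (y' * l⁻¹ * y'⁻¹) * (y' * y') * l⁻¹ := by rw [e1]; group
    rw [e2, hy'y', mul_one]
    exact L'.mul_mem (hL'n.conj_mem _ (L'.inv_mem hl) y') (L'.inv_mem hl)
  have heven : Even (orderOf h) := by
    by_contra hodd
    rw [Nat.not_even_iff_odd] at hodd
    obtain ⟨j, hj⟩ := hodd
    have h1 : h ^ (2 * j + 1) = 1 := by rw [← hj]; exact pow_orderOf_eq_one h
    have h2 : h = ((h * h) ^ j)⁻¹ := by
      rw [eq_inv_iff_mul_eq_one, ← pow_two, ← pow_mul, ← pow_succ']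
      exact h1
    have h3 : h ∈ L' := by
      rw [h2]
      exact L'.inv_mem (L'.pow_mem hh2 j)
    apply hy'L
    rw [← hhl]
    exact L'.mul_mem h3 hl
  refine ⟨((P' : Subgroup L').map L'.subtype).map N.subtype, ?_, ?_, ?_⟩
  · exact (P'.isPGroup'.map _).map _
  · rw [Subgroup.card_map_of_injective N.subtype_injective,
      Subgroup.card_map_of_injective L'.subtype_injective, Sylow.card_eq_multiplicity, hcard]
    obtain ⟨k, hk⟩ := IsPGroup.iff_card.mp hS
    rw [hk]
    apply Nat.pow_le_pow_right hp.pos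
    rw [← Nat.Prime.pow_dvd_iff_le_factorization hp Nat.card_pos.ne', ← hk]
    exact Subgroup.card_dvd_of_le hSL
  · have h1 : (h : G) ∈ Subgroup.normalizer
        ((((P' : Subgroup L').map L'.subtype).map N.subtype : Subgroup G) : Set G) :=
      Subgroup.le_normalizer_map N.subtype ⟨h, hh, rfl⟩
    have h2 : orderOf (h : G) ∣ Nat.card (Subgroup.normalizer
        ((((P' : Subgroup L').map L'.subtype).map N.subtype : Subgroup G) : Set G)) := by
      have := orderOf_dvd_natCard (⟨(h : G), h1⟩ : Subgroup.normalizer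
        ((((P' : Subgroup L').map L'.subtype).map N.subtype : Subgroup G) : Set G))
      rwa [Subgroup.orderOf_mk] at this
    rw [Subgroup.orderOf_coe] at h2
    exact even_iff_two_dvd.mpr (dvd_trans (even_iff_two_dvd.mp heven) h2)

/-- a fixed-point-free involution inverts -/
theorem inverts_of_fpf {G : Type*} [Group G] [Finite G] (R : Subgroup G) (y : G) (hyy : y * y = 1)
    (hyR : ∀ r ∈ R, y * r * y⁻¹ ∈ R) (hfpf : ∀ r ∈ R, y * r * y⁻¹ = r → r = 1) :
    ∀ r ∈ R, y * r * y⁻¹ = r⁻¹ := by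
  have hyinv : y⁻¹ = y := inv_eq_of_mul_eq_one_left hyy
  let φ : R → R := fun r => ⟨(r : G)⁻¹ * (y * r * y⁻¹), R.mul_mem (R.inv_mem r.2) (hyR r r.2)⟩
  have hinj : Function.Injective φ := by
    intro r s hrs
    have h1 : (r : G)⁻¹ * (y * r * y⁻¹) = (s : G)⁻¹ * (y * s * y⁻¹) := congrArg Subtype.val hrs
    have h2 : y * ((s : G) * (r : G)⁻¹) * y⁻¹ = (s : G) * (r : G)⁻¹ := by
      have e1 : y * ((s : G) * (r : G)⁻¹) * y⁻¹ = (y * s * y⁻¹) * (y * r * y⁻¹)⁻¹ := by group
      have e2 : y * (r : G) * y⁻¹ = (r : G) * ((s : G)⁻¹ * (y * s * y⁻¹)) := by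
        rw [← h1]; group
      rw [e1, e2]; group
    have h3 := hfpf _ (R.mul_mem s.2 (R.inv_mem r.2)) h2
    apply Subtype.ext
    exact (mul_inv_eq_one.mp h3).symm
  have hsurj : Function.Surjective φ := Finite.injective_iff_surjective.mp hinj
  intro t ht
  obtain ⟨r, hr⟩ := hsurj ⟨t, ht⟩
  have h1 : t = (r : G)⁻¹ * (y * r * y⁻¹) := (congrArg Subtype.val hr).symm
  rw [h1, hyinv]
  have e1 : y * ((r : G)⁻¹ * (y * (r : G) * y)) * y = y * (r : G)⁻¹ * y * r * (y * y) := by
    group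
  rw [e1, hyy, mul_one]
  have e2 : ((r : G)⁻¹ * (y * (r : G) * y))⁻¹ = y⁻¹ * (r : G)⁻¹ * y⁻¹ * r := by group
  rw [e2, hyinv]

/-- in a `p`-group a proper subgroup is properly contained in its normalizer -/
theorem exists_normalizing {G : Type*} [Group G] [Finite G] (p : ℕ) [Fact p.Prime]
    (Q R : Subgroup G) (hR : IsPGroup p R) (hlt : Q < R) :
    ∃ t ∈ R, t ∉ Q ∧ t ∈ Subgroup.normalizer (Q : Set G) := by
  have hQR : Q ≤ R := hlt.le
  have hnil : Group.IsNilpotent R := hR.isNilpotent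
  have hlt' : Q.subgroupOf R < ⊤ := by
    rw [lt_top_iff_ne_top]
    intro h
    rw [Subgroup.subgroupOf_eq_top] at h
    exact absurd (le_antisymm hQR h) (ne_of_lt hlt)
  obtain ⟨t, htN, htQ⟩ := SetLike.exists_of_lt (Group.normalizerCondition_of_isNilpotent _ hlt')
  refine ⟨t, t.2, fun h => htQ (Subgroup.mem_subgroupOf.mpr h), ?_⟩
  rw [Subgroup.mem_normalizer_iff] at htN ⊢
  intro q
  constructor
  · intro hq
    have := (htN ⟨q, hQR hq⟩).mp (Subgroup.mem_subgroupOf.mpr hq)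
    exact Subgroup.mem_subgroupOf.mp this
  · intro hq
    have hqR : q ∈ R := by
      have h1 : q = (t : G)⁻¹ * ((t : G) * q * (t : G)⁻¹) * (t : G) := by group
      rw [h1]
      exact R.mul_mem (R.mul_mem (R.inv_mem t.2) (hQR hq)) t.2
    have := (htN ⟨q, hqR⟩).mpr (Subgroup.mem_subgroupOf.mpr hq)
    exact Subgroup.mem_subgroupOf.mp this

/-- powers of `z * c` stay in `z ^ n * C` when `z` normalizes `C` -/
theorem mul_pow_mem {G : Type*} [Group G] (C : Subgroup G) (z c : G) (hc : c ∈ C)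
    (hz : ∀ c' ∈ C, z⁻¹ * c' * z ∈ C) (n : ℕ) : ∃ c' ∈ C, (z * c) ^ n = z ^ n * c' := by
  induction n with
  | zero => exact ⟨1, C.one_mem, by simp⟩
  | succ n ih =>
    obtain ⟨c', hc', h⟩ := ih
    refine ⟨z⁻¹ * c' * z * c, C.mul_mem (hz c' hc') hc, ?_⟩
    rw [pow_succ, h, pow_succ]
    group

/-- Let p be an odd prime and G a finite group of even order divisible by p in which the centralizer of every non-identity p-element has odd order. If some nontrivial p-subgroup of G has a normalizer of even order, then the normalizer of every Sylow p-subgroup of G has even order. -/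
theorem result {G : Type*} [Group G] [Finite G] (p : ℕ) [Fact p.Prime] (hp2 : p ≠ 2) (hpG : p ∣ Nat.card G) (h2G : 2 ∣ Nat.card G) (hC : ∀ g : G, g ≠ 1 → (∃ k : ℕ, orderOf g = p ^ k) → Odd (Nat.card ↥(Subgroup.centralizer ({g} : Set G)))) (Q : Subgroup G) (hQ : IsPGroup p ↥Q) (hQ1 : Q ≠ ⊥) (hev : Even (Nat.card ↥(Subgroup.normalizer (Q : Set G)))) (P : Sylow p G) : Even (Nat.card ↥(Subgroup.normalizer ((P : Subgroup G) : Set G))) := by
  classical
  have hp : p.Prime := Fact.out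
  have hpodd : Odd p := hp.odd_of_ne_two hp2
  -- it suffices to find one Sylow subgroup with a normalizer of even order
  suffices hmain : ∃ P₀ : Sylow p G, Even (Nat.card ↥(Subgroup.normalizer ((P₀ : Subgroup G) : Set G))) by
    obtain ⟨P₀, hP₀⟩ := hmain
    have h1 : Nat.card (Sylow p G) = (Subgroup.normalizer ((P : Subgroup G) : Set G)).index :=
      Sylow.card_eq_index_normalizer P
    have h2 : Nat.card (Sylow p G) = (Subgroup.normalizer ((P₀ : Subgroup G) : Set G)).index :=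
      Sylow.card_eq_index_normalizer P₀
    have h3 := Subgroup.card_mul_index (Subgroup.normalizer ((P : Subgroup G) : Set G))
    have h4 := Subgroup.card_mul_index (Subgroup.normalizer ((P₀ : Subgroup G) : Set G))
    rw [← h1] at h3
    rw [← h2, ← h3] at h4
    have hpos : 0 < Nat.card (Sylow p G) := Nat.card_pos
    have h5 := Nat.eq_of_mul_eq_mul_right hpos h4
    rw [← h5]
    exact hP₀
  -- a `p`-subgroup of maximal order with a normalizer of even order
  let 𝒮 : Set (Subgroup G) :=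
    {R | IsPGroup p R ∧ R ≠ ⊥ ∧ Even (Nat.card (Subgroup.normalizer (R : Set G)))}
  obtain ⟨R, ⟨hR, hR1, hRev⟩, hRmax⟩ := Set.exists_max_image 𝒮 (fun R => Nat.card R)
    (Set.toFinite 𝒮) ⟨Q, hQ, hQ1, hev⟩
  obtain ⟨P₀, hRP⟩ := hR.exists_le_sylow
  refine ⟨P₀, ?_⟩
  by_cases hRP' : R = (P₀ : Subgroup G)
  · rw [← hRP']; exact hRev
  exfalso
  have hlt : R < (P₀ : Subgroup G) := lt_of_le_of_ne hRP hRP'
  obtain ⟨x, hxP, hxR, hxN⟩ := exists_normalizing p R P₀ P₀.isPGroup' hlt
  -- an involution normalizing `R`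
  have : Fact (Nat.Prime 2) := ⟨Nat.prime_two⟩
  obtain ⟨y', hy'⟩ := exists_prime_orderOf_dvd_card' (G := Subgroup.normalizer (R : Set G)) 2
    (even_iff_two_dvd.mp hRev)
  let y : G := y'
  have hy : orderOf y = 2 := by rw [Subgroup.orderOf_coe, hy']
  have hyN : y ∈ Subgroup.normalizer (R : Set G) := y'.2
  have hyy : y * y = 1 := by
    have := pow_orderOf_eq_one y
    rwa [hy, pow_two] at this
  have hyinv : y⁻¹ = y := inv_eq_of_mul_eq_one_left hyy
  have hyR : ∀ r ∈ R, y * r * y⁻¹ ∈ R := fun r hr => (Subgroup.mem_normalizer_iff.mp hyN r).mp hr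
  have hpel : ∀ r ∈ R, ∃ k : ℕ, orderOf r = p ^ k := by
    intro r hr
    obtain ⟨k, hk⟩ := (IsPGroup.iff_orderOf.mp hR) ⟨r, hr⟩
    exact ⟨k, by rw [← hk, Subgroup.orderOf_mk]⟩
  have hfpf : ∀ r ∈ R, y * r * y⁻¹ = r → r = 1 := by
    intro r hr hyr
    by_contra hr1
    have hodd := hC r hr1 (hpel r hr)
    have hmem : y ∈ Subgroup.centralizer ({r} : Set G) := by
      rw [Subgroup.mem_centralizer_singleton_iff]
      have : y * r = (y * r * y⁻¹) * y := by group
      rw [this, hyr]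
    exact not_mem_of_odd _ hodd y hy hmem
  have hinv := inverts_of_fpf R y hyy hyR hfpf
  have hcomm : ∀ a ∈ R, ∀ b ∈ R, a * b = b * a := by
    intro a ha b hb
    have h1 := hinv (a * b) (R.mul_mem ha hb)
    have h2 : y * (a * b) * y⁻¹ = (y * a * y⁻¹) * (y * b * y⁻¹) := by group
    rw [h2, hinv a ha, hinv b hb, mul_inv_rev] at h1
    have h3 : a * b = (a⁻¹ * b⁻¹)⁻¹⁻¹ * (b⁻¹ * a⁻¹)⁻¹ * (a * b) := by rw [h1]; group
    calc a * b = ((a⁻¹ * b⁻¹)⁻¹)⁻¹⁻¹ := by rw [h1]; group
      _ = b * a := by group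
  -- the centralizer of `R`
  let C : Subgroup G := Subgroup.centralizer (R : Set G)
  have hRC : R ≤ C := by
    intro a ha
    rw [Subgroup.mem_centralizer_iff]
    intro b hb
    exact hcomm b hb a ha
  have hCodd : Odd (Nat.card C) := by
    obtain ⟨r₀, hr₀1⟩ := (Subgroup.ne_bot_iff_exists_ne_one).mp hR1
    have hr₀' : (r₀ : G) ≠ 1 := fun h => hr₀1 (Subtype.ext h)
    have hodd := hC r₀ hr₀' (hpel r₀ r₀.2)
    have hle : C ≤ Subgroup.centralizer ({(r₀ : G)} : Set G) :=
      Subgroup.centralizer_le (Set.singleton_subset_iff.mpr r₀.2)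
    exact Odd.of_dvd_nat hodd (Subgroup.card_dvd_of_le hle)
  -- normalizing elements normalize the centralizer
  have hnormC : ∀ g ∈ Subgroup.normalizer (R : Set G), ∀ c ∈ C, g * c * g⁻¹ ∈ C := by
    intro g hg c hc
    rw [Subgroup.mem_centralizer_iff] at hc ⊢
    intro r hr
    have hr' : g⁻¹ * r * g ∈ R := by
      have := (Subgroup.mem_normalizer_iff.mp (Subgroup.inv_mem _ hg) r).mp hr
      rwa [inv_inv] at this
    have h1 := hc _ hr'
    have e1 : r * (g * c * g⁻¹) = g * ((g⁻¹ * r * g) * c) * g⁻¹ := by group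
    have e2 : g * c * g⁻¹ * r = g * (c * (g⁻¹ * r * g)) * g⁻¹ := by group
    rw [e1, e2, h1]
  -- `y x y⁻¹ x⁻¹` centralizes `R`
  have hcomC : y * x * y⁻¹ * x⁻¹ ∈ C := by
    rw [Subgroup.mem_centralizer_iff]
    intro r hr
    have hr1 : x⁻¹ * r * x ∈ R := by
      have := (Subgroup.mem_normalizer_iff.mp (Subgroup.inv_mem _ hxN) r).mp hr
      rwa [inv_inv] at this
    have h1 := hinv _ hr1
    have h2 := hinv r hr
    -- `y x y⁻¹ x⁻¹ r (y x y⁻¹ x⁻¹)⁻¹ = r`
    have e : (y * x * y⁻¹ * x⁻¹) * r * (y * x * y⁻¹ * x⁻¹)⁻¹ = r := by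
      have e1 : (y * x * y⁻¹ * x⁻¹) * r * (y * x * y⁻¹ * x⁻¹)⁻¹ =
          y * (x * (y⁻¹ * (x⁻¹ * r * x) * y) * x⁻¹) * y⁻¹ := by group
      have e2 : y⁻¹ * (x⁻¹ * r * x) * y = (x⁻¹ * r * x)⁻¹ := by
        have : y⁻¹ * (x⁻¹ * r * x) * y = y * (x⁻¹ * r * x) * y⁻¹ := by rw [hyinv]
        rw [this, h1]
      rw [e1, e2]
      have e3 : x * (x⁻¹ * r * x)⁻¹ * x⁻¹ = r⁻¹ := by group
      rw [e3]
      have e4 : y * r⁻¹ * y⁻¹ = (y * r * y⁻¹)⁻¹ := by group
      rw [e4, h2, inv_inv]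
    have : r * (y * x * y⁻¹ * x⁻¹) = (y * x * y⁻¹ * x⁻¹) * r * (y * x * y⁻¹ * x⁻¹)⁻¹ *
        (y * x * y⁻¹ * x⁻¹) := by rw [e]
    rw [this]; group
  -- the subgroup `L`
  let L : Subgroup G := C ⊔ Subgroup.zpowers x
  have hxL : x ∈ L := Subgroup.mem_sup_right (Subgroup.mem_zpowers x)
  have hCL : C ≤ L := le_sup_left
  have hyL : y ∈ Subgroup.normalizer (L : Set G) := by
    have hle : L ≤ L.comap (MulAut.conj y).toMonoidHom := by
      apply sup_le
      · intro c hc
        exact hCL (hnormC y hyN c hc)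
      · rw [Subgroup.zpowers_le]
        show y * x * y⁻¹ ∈ L
        have : y * x * y⁻¹ = (y * x * y⁻¹ * x⁻¹) * x := by group
        rw [this]
        exact L.mul_mem (hCL hcomC) hxL
    rw [Subgroup.mem_normalizer_iff]
    intro r
    constructor
    · intro hr
      exact hle hr
    · intro hr
      have h1 := hle hr
      have h2 : (MulAut.conj y).toMonoidHom (y * r * y⁻¹) = r := by
        show y * (y * r * y⁻¹) * y⁻¹ = r
        rw [hyinv]
        calc y * (y * r * y) * y = (y * y) * r * (y * y) := by group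
          _ = r := by rw [hyy, one_mul, mul_one]
      rw [Subgroup.mem_comap, h2] at h1
      exact h1
  -- `L` has odd order
  have hxpow : ∃ k : ℕ, orderOf x = p ^ k := by
    obtain ⟨k, hk⟩ := (IsPGroup.iff_orderOf.mp P₀.isPGroup') ⟨x, hxP⟩
    exact ⟨k, by rw [← hk, Subgroup.orderOf_mk]⟩
  have hLodd : Odd (Nat.card L) := by
    by_contra hnodd
    rw [Nat.not_odd_iff_even] at hnodd
    obtain ⟨⟨t', ht'L⟩, ht'⟩ :=
      exists_prime_orderOf_dvd_card' (G := L) 2 (even_iff_two_dvd.mp hnodd)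
    have ht : orderOf (t' : G) = 2 := by rw [← ht', Subgroup.orderOf_mk]
    have hzn : Subgroup.zpowers x ≤ Subgroup.normalizer (C : Set G) := by
      rw [Subgroup.zpowers_le, Subgroup.mem_normalizer_iff]
      intro c
      constructor
      · intro hc; exact hnormC x hxN c hc
      · intro hc
        have := hnormC x⁻¹ (Subgroup.inv_mem _ hxN) _ hc
        have e : x⁻¹ * (x * c * x⁻¹) * x⁻¹⁻¹ = c := by group
        rwa [e] at this
    have hmem : (t' : G) ∈ ((Subgroup.zpowers x ⊔ C : Subgroup G) : Set G) := by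
      have h : t' ∈ C ⊔ Subgroup.zpowers x := ht'L
      rw [sup_comm] at h
      exact h
    rw [Subgroup.coe_mul_of_left_le_normalizer_right _ _ hzn] at hmem
    obtain ⟨z, hz, c, hc, hzc⟩ := hmem
    obtain ⟨k, hk⟩ := hxpow
    have hzk : z ^ (p ^ k) = 1 := by
      obtain ⟨i, rfl⟩ := Subgroup.mem_zpowers_iff.mp hz
      rw [← zpow_natCast, ← zpow_mul, mul_comm, zpow_mul, zpow_natCast, ← hk, pow_orderOf_eq_one,
        one_zpow]
    have hzC : ∀ c' ∈ C, z⁻¹ * c' * z ∈ C := by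
      intro c' hc'
      have hzN : z⁻¹ ∈ Subgroup.normalizer (C : Set G) := Subgroup.inv_mem _ (hzn hz)
      have := (Subgroup.mem_normalizer_iff.mp hzN c').mp hc'
      rwa [inv_inv] at this
    obtain ⟨c', hc', hpow⟩ := mul_pow_mem C z c hc hzC (p ^ k)
    have hzc' : z * c = t' := hzc
    rw [hzc', hzk, one_mul] at hpow
    have hoddpk : Odd (p ^ k) := hpodd.pow
    obtain ⟨j, hj⟩ := hoddpk
    have ht2 : (t' : G) ^ 2 = 1 := by rw [← ht]; exact pow_orderOf_eq_one _
    have htpow : (t' : G) ^ (p ^ k) = (t' : G) := by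
      rw [hj, pow_succ, pow_mul, ht2, one_pow, one_mul]
    rw [htpow] at hpow
    exact not_mem_of_odd C hCodd (t' : G) ht (hpow ▸ hc')
  -- the `p`-subgroup generated by `R` and `x`
  have hxpg : IsPGroup p (Subgroup.zpowers x) :=
    P₀.isPGroup'.to_le ((Subgroup.zpowers_le).mpr hxP)
  have hSp : IsPGroup p ↥(Subgroup.zpowers x ⊔ R) :=
    IsPGroup.to_sup_of_normal_right' hxpg hR ((Subgroup.zpowers_le).mpr hxN)
  have hSL : Subgroup.zpowers x ⊔ R ≤ L :=
    sup_le ((Subgroup.zpowers_le).mpr hxL) (hRC.trans hCL)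
  have hRS : R < Subgroup.zpowers x ⊔ R := by
    refine lt_of_le_of_ne le_sup_right ?_
    intro h
    apply hxR
    rw [h]
    exact Subgroup.mem_sup_left (Subgroup.mem_zpowers x)
  obtain ⟨P₂, hP₂, hcard, hP₂ev⟩ :=
    exists_pgroup_even_normalizer p L hLodd y hy hyL (Subgroup.zpowers x ⊔ R) hSp hSL
  have hlt2 : Nat.card R < Nat.card ↥(Subgroup.zpowers x ⊔ R) :=
    Set.Finite.card_lt_card (Set.toFinite _) (SetLike.coe_ssubset_coe.mpr hRS)
  have hP₂1 : P₂ ≠ ⊥ := by
    intro h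
    rw [h, Subgroup.card_bot] at hcard
    have : 0 < Nat.card R := Nat.card_pos
    omega
  have := hRmax P₂ ⟨hP₂, hP₂1, hP₂ev⟩
  have h' : Nat.card P₂ ≤ Nat.card R := this
  omega

end Cfsg.Agent.S3982
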