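import Mathlib
import Cfsg.Statements.S0105

set_option autoImplicit false
open Cfsg

namespace Cfsg.Agent.S0105

open scoped IsMulCommutative in
/-- With an abelian Sylow p-subgroup P, some quotient of G is isomorphic to the part of P central in N_G(P). -/
theorem result {G : Type*} [Group G] [Finite G] {p : ℕ} [Fact p.Prime] (P : Sylow p G) (hP : IsMulCommutative P) : ∃ (N : Subgroup G) (hN : N.Normal), Nonempty (G ⧸ N ≃* ((P : Subgroup G) ⊓ Subgroup.centralizer (Subgroup.normalizer (P : Set G) : Set G) : Subgroup G)) := by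
  classical
  have hp : p.Prime := Fact.out
  have hPN : (P : Subgroup G) ≤ Subgroup.normalizer (P : Set G) := Subgroup.le_normalizer
  have hP'n : ((P : Subgroup G).subgroupOf (Subgroup.normalizer (P : Set G))).Normal :=
    Subgroup.normal_in_normalizer
  have hP'p : IsPGroup p ((P : Subgroup G).subgroupOf (Subgroup.normalizer (P : Set G))) :=
    P.isPGroup'.comap_subtype
  have hidx : ((P : Subgroup G).subgroupOf (Subgroup.normalizer (P : Set G))).index ∣ (P : Subgroup G).index :=
    Dvd.intro _ (Subgroup.relIndex_mul_index hPN)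
  have hidxp : ¬ p ∣ ((P : Subgroup G).subgroupOf (Subgroup.normalizer (P : Set G))).index :=
    fun hdvd => P.not_dvd_index (hdvd.trans hidx)
  have hHall : Nat.Coprime (Nat.card ((P : Subgroup G).subgroupOf (Subgroup.normalizer (P : Set G))))
      ((P : Subgroup G).subgroupOf (Subgroup.normalizer (P : Set G))).index := by
    obtain ⟨k, hk⟩ := hP'p.exists_card_eq
    rw [hk]
    apply Nat.Coprime.pow_left
    rw [hp.coprime_iff_not_dvd]
    exact hidxp
  obtain ⟨K, hK⟩ := Subgroup.exists_right_complement'_of_coprime hHall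
  have : Fintype K := Fintype.ofFinite K
  have hcardK : Fintype.card K = ((P : Subgroup G).subgroupOf (Subgroup.normalizer (P : Set G))).index := by
    rw [← Nat.card_eq_fintype_card]
    exact (hK.symm.index_eq_card).symm
  -- conjugation by elements of K on P
  let f : K → ↥(P : Subgroup G) → ↥(P : Subgroup G) := fun k a =>
    ⟨((k : Subgroup.normalizer (P : Set G)) : G) * a * ((k : Subgroup.normalizer (P : Set G)) : G)⁻¹,
      (Subgroup.mem_normalizer_iff.mp k.1.2 a).mp a.2⟩
  have hf_mul : ∀ k a b, f k (a * b) = f k a * f k b := by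
    intro k a b
    ext
    simp only [f, Subgroup.coe_mul]
    group
  have hf_one : ∀ k, f k 1 = 1 := by
    intro k
    ext
    simp [f]
  let ν₀ : ↥(P : Subgroup G) →* ↥(P : Subgroup G) :=
    { toFun := fun a => ∏ k : K, f k a
      map_one' := by simp only [hf_one]; exact Finset.prod_const_one
      map_mul' := fun a b => by simp only [hf_mul]; exact Finset.prod_mul_distrib }
  have hb_conj : ∀ (a : (P : Subgroup G)) (k₀ : K) (s : Finset K),
      ((k₀ : Subgroup.normalizer (P : Set G)) : G) * ((∏ k ∈ s, f k a : (P : Subgroup G)) : G)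
        * ((k₀ : Subgroup.normalizer (P : Set G)) : G)⁻¹ = ((∏ k ∈ s, f (k₀ * k) a : (P : Subgroup G)) : G) := by
    intro a k₀ s
    induction s using Finset.induction_on with
    | empty => simp
    | insert x s hx ih =>
      rw [Finset.prod_insert hx, Finset.prod_insert hx, Subgroup.coe_mul, Subgroup.coe_mul, ← ih]
      simp only [f, Subgroup.coe_mul]
      group
  have hb_inv : ∀ (a : (P : Subgroup G)) (k₀ : K),
      ((k₀ : Subgroup.normalizer (P : Set G)) : G) * ((ν₀ a : (P : Subgroup G)) : G)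
        * ((k₀ : Subgroup.normalizer (P : Set G)) : G)⁻¹ = ((ν₀ a : (P : Subgroup G)) : G) := by
    intro a k₀
    have h1 := hb_conj a k₀ Finset.univ
    have h2 : (∏ k, f (k₀ * k) a : (P : Subgroup G)) = ∏ k, f k a :=
      Fintype.prod_equiv (Equiv.mulLeft k₀) _ _ (fun k => rfl)
    rw [h2] at h1
    exact h1
  have hν₀_central : ∀ a : (P : Subgroup G),
      ((ν₀ a : (P : Subgroup G)) : G) ∈ Subgroup.centralizer (Subgroup.normalizer (P : Set G) : Set G) := by
    intro a
    rw [Subgroup.mem_centralizer_iff]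
    intro n hn
    have hg : (⟨n, hn⟩ : Subgroup.normalizer (P : Set G)) ∈
        (P : Subgroup G).subgroupOf (Subgroup.normalizer (P : Set G)) ⊔ K := by
      rw [hK.sup_eq_top]; exact Subgroup.mem_top _
    obtain ⟨t, ht, k, hk, htk⟩ := Subgroup.mem_sup_of_normal_left.mp hg
    have hn_eq : n = (t : G) * (k : G) := by
      have := congrArg (fun y : Subgroup.normalizer (P : Set G) => (y : G)) htk
      simpa using this.symm
    have h1 := hb_inv a ⟨k, hk⟩
    have h2 : (t : G) * ((ν₀ a : (P : Subgroup G)) : G) = ((ν₀ a : (P : Subgroup G)) : G) * (t : G) := by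
      have := hP.is_comm.comm (⟨(t : G), ht⟩ : (P : Subgroup G)) (ν₀ a)
      exact congrArg (fun y : (P : Subgroup G) => (y : G)) this
    simp only at h1
    rw [hn_eq]
    calc (t : G) * (k : G) * ((ν₀ a : (P : Subgroup G)) : G)
        = (t : G) * ((k : G) * ((ν₀ a : (P : Subgroup G)) : G) * (k : G)⁻¹) * (k : G) := by group
      _ = (t : G) * ((ν₀ a : (P : Subgroup G)) : G) * (k : G) := by rw [h1]
      _ = ((ν₀ a : (P : Subgroup G)) : G) * (t : G) * (k : G) := by rw [h2]
      _ = ((ν₀ a : (P : Subgroup G)) : G) * ((t : G) * (k : G)) := by group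
  have hZc : IsMulCommutative ↥((P : Subgroup G) ⊓ Subgroup.centralizer (Subgroup.normalizer (P : Set G) : Set G)) := by
    refine ⟨⟨fun a b => ?_⟩⟩
    have := hP.is_comm.comm (⟨(a : G), a.2.1⟩ : (P : Subgroup G)) ⟨(b : G), b.2.1⟩
    ext
    exact congrArg (fun y : (P : Subgroup G) => (y : G)) this
  let ν : ↥(P : Subgroup G) →* ↥((P : Subgroup G) ⊓ Subgroup.centralizer (Subgroup.normalizer (P : Set G) : Set G)) :=
    { toFun := fun a => ⟨((ν₀ a : (P : Subgroup G)) : G), ⟨(ν₀ a).2, hν₀_central a⟩⟩
      map_one' := by ext; simp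
      map_mul' := fun a b => by ext; simp }
  -- value of ν on central elements
  have hν_central : ∀ (w : G) (hwP : w ∈ (P : Subgroup G)),
      w ∈ Subgroup.centralizer (Subgroup.normalizer (P : Set G) : Set G) →
      ((ν ⟨w, hwP⟩ : ↥((P : Subgroup G) ⊓ Subgroup.centralizer (Subgroup.normalizer (P : Set G) : Set G))) : G)
        = w ^ Fintype.card K := by
    intro w hwP hwC
    have hfk : ∀ k : K, f k ⟨w, hwP⟩ = ⟨w, hwP⟩ := by
      intro k
      ext
      simp only [f]
      have := (Subgroup.mem_centralizer_iff.mp hwC) ((k : Subgroup.normalizer (P : Set G)) : G) k.1.2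
      rw [this]; group
    have h1 : ν₀ ⟨w, hwP⟩ = (⟨w, hwP⟩ : (P : Subgroup G)) ^ Fintype.card K := by
      show (∏ k : K, f k ⟨w, hwP⟩) = _
      simp only [hfk]
      rw [Finset.prod_const, Finset.card_univ]
    show ((ν₀ ⟨w, hwP⟩ : (P : Subgroup G)) : G) = _
    rw [h1]
    rfl
  have hφ : ∀ z : ↥((P : Subgroup G) ⊓ Subgroup.centralizer (Subgroup.normalizer (P : Set G) : Set G)),
      ((MonoidHom.transfer ν (z : G) : ↥((P : Subgroup G) ⊓ Subgroup.centralizer (Subgroup.normalizer (P : Set G) : Set G))) : G)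
        = (z : G) ^ ((P : Subgroup G).index * Fintype.card K) := by
    intro z
    have key : ∀ (k : ℕ) (g₀ : G), g₀⁻¹ * (z : G) ^ k * g₀ ∈ (P : Subgroup G) →
        g₀⁻¹ * (z : G) ^ k * g₀ = (z : G) ^ k := by
      intro k g₀ hmem
      have hzk : (z : G) ^ k ∈ (P : Subgroup G) := Subgroup.pow_mem _ z.2.1 k
      obtain ⟨n, hn, hn_eq⟩ := P.conj_eq_normalizer_conj_of_mem ((z : G) ^ k) g₀ hzk hmem
      rw [hn_eq]
      have hzkC : (z : G) ^ k ∈ Subgroup.centralizer (Subgroup.normalizer (P : Set G) : Set G) :=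
        Subgroup.pow_mem _ z.2.2 k
      have := (Subgroup.mem_centralizer_iff.mp hzkC) n hn
      rw [mul_assoc, ← this]; group
    rw [MonoidHom.transfer_eq_pow ν (z : G) key]
    rw [hν_central _ _ (Subgroup.pow_mem _ z.2.2 _), pow_mul]
  have hsurj : Function.Surjective (MonoidHom.transfer ν) := by
    intro w
    have hcop : Nat.Coprime ((P : Subgroup G).index * Fintype.card K) (orderOf (w : G)) := by
      obtain ⟨k, hk⟩ := IsPGroup.iff_orderOf.mp P.isPGroup' ⟨(w : G), w.2.1⟩
      have hk' : orderOf (w : G) = p ^ k := by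
        rw [← hk]
        exact (Subgroup.orderOf_mk _ _).symm
      rw [hk']
      apply Nat.Coprime.pow_right
      apply Nat.Coprime.mul_left
      · exact (hp.coprime_iff_not_dvd.mpr P.not_dvd_index).symm
      · rw [hcardK]
        exact (hp.coprime_iff_not_dvd.mpr hidxp).symm
    obtain ⟨m, hm⟩ := exists_pow_eq_self_of_coprime hcop
    refine ⟨((w ^ m : ↥((P : Subgroup G) ⊓ Subgroup.centralizer (Subgroup.normalizer (P : Set G) : Set G))) : G), ?_⟩
    ext
    rw [hφ (w ^ m)]
    rw [Subgroup.coe_pow, ← pow_mul, mul_comm, pow_mul]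
    exact hm
  exact ⟨(MonoidHom.transfer ν).ker, inferInstance,
    ⟨QuotientGroup.quotientKerEquivOfSurjective (MonoidHom.transfer ν) hsurj⟩⟩

end Cfsg.Agent.S0105
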