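-- Statement S1454 (helper54): odd-order automorphism groups of narrow p-groups.
import Mathlib
import Cfsg.Statements.S1454
import Cfsg.Agent.S1448
import Cfsg.Agent.S1449
import Cfsg.Agent.Lib.Helper54.NarrowMax
import Cfsg.Agent.Lib.Helper1.RankTwoLin
import Cfsg.Agent.Lib.Helper5.GL2Sylow
import Cfsg.Agent.Lib.Helper42.EssP3
import Cfsg.Agent.Lib.Helper55.Cores

set_option autoImplicit false
open Cfsg

namespace Cfsg.Agent.S1454

open Cfsg.Agent.Lib.Helper54
open scoped commutatorElement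

universe u

/-- A normal `p`-subgroup of `A` containing all commutators (and all `(p-1)`-th powers when the
rank is at least three). -/
theorem exists_normal_p {G : Type u} [Group G] [Finite G] (p : ℕ) [Fact p.Prime] (hp : p ≠ 2)
    (R A : Subgroup G) (hR : IsPGroup p R) (hRn : Cfsg.IsNarrow p R)
    (hA : A ≤ Subgroup.normalizer (R : Set G)) (hAs : Group.IsSolvable A)
    (hAodd : Odd (Nat.card A)) (hfaith : A ⊓ Subgroup.centralizer (R : Set G) = ⊥) :
    ∃ N : Subgroup ↥A, N.Normal ∧ IsPGroup p N ∧ (∀ x y : ↥A, ⁅x, y⁆ ∈ N) ∧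
      (¬ Cfsg.PRankLE p 2 R → ∀ x : ↥A, x ^ (p - 1) ∈ N) := by
  by_cases hr : Cfsg.PRankLE p 2 R
  · have h := Cfsg.Agent.S1449.result p hp R A hR hr hA hAs hAodd hfaith
    have hmap : (commutator ↥A).map A.subtype = ⁅A, A⁆ := by
      rw [commutator_def, Subgroup.map_commutator, ← MonoidHom.range_eq_map,
        Subgroup.range_subtype]
    refine ⟨commutator ↥A, inferInstance, ?_, ?_, fun h' => absurd hr h'⟩
    · intro x
      have hmem : ((x : ↥A) : G) ∈ ⁅A, A⁆ := by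
        rw [← hmap]
        exact ⟨x.1, x.2, rfl⟩
      obtain ⟨k, hk⟩ := h ⟨_, hmem⟩
      refine ⟨k, Subtype.ext (Subtype.ext ?_)⟩
      have h1 := congrArg Subtype.val hk
      simpa using h1
    · intro x y
      rw [commutator_def]
      exact Subgroup.commutator_mem_commutator (Subgroup.mem_top x) (Subgroup.mem_top y)
  · obtain ⟨θ, hθdef⟩ : ∃ θ : A →* MulAut R,
        θ = (Subgroup.normalizerMonoidHom R).comp (Subgroup.inclusion hA) := ⟨_, rfl⟩
    have hθ : ∀ (a : A) (r : R), ((θ a r : R) : G) = a * r * (a : G)⁻¹ := by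
      intro a r
      rw [hθdef]
      rfl
    obtain ⟨N, hNn, hNc, hNpow, hNfix⟩ := narrow_action_of_isNarrow p hp hR hRn hr θ
    refine ⟨N, hNn, ?_, hNc, fun _ => hNpow⟩
    intro x
    obtain ⟨x, hx⟩ := x
    obtain ⟨k, hk⟩ := hNfix x hx
    refine ⟨k, Subtype.ext ?_⟩
    have hmemC : ((x ^ p ^ k : ↥A) : G) ∈ Subgroup.centralizer (R : Set G) := by
      rw [Subgroup.mem_centralizer_iff]
      intro r hr'
      have h1 := hθ (x ^ p ^ k) ⟨r, hr'⟩
      rw [hk] at h1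
      have h2 : r = ((x ^ p ^ k : ↥A) : G) * r * ((x ^ p ^ k : ↥A) : G)⁻¹ := h1
      calc r * ((x ^ p ^ k : ↥A) : G)
          = ((x ^ p ^ k : ↥A) : G) * r * ((x ^ p ^ k : ↥A) : G)⁻¹ * ((x ^ p ^ k : ↥A) : G) := by
            rw [← h2]
        _ = ((x ^ p ^ k : ↥A) : G) * r := by group
    have hmem : ((x ^ p ^ k : ↥A) : G) ∈ A ⊓ Subgroup.centralizer (R : Set G) :=
      Subgroup.mem_inf.mpr ⟨(x ^ p ^ k : ↥A).2, hmemC⟩
    rw [hfaith, Subgroup.mem_bot] at hmem
    exact Subtype.ext hmem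

/-- If `A' ≤ N` for a normal `p`-subgroup `N`, then `A' ≤ O_p(A)` and `O_p(A)` has index prime
to `p`. -/
theorem part_a {A : Type*} [Group A] [Finite A] (p : ℕ) [Fact p.Prime] (N : Subgroup A)
    (hNn : N.Normal) (hNp : IsPGroup p N) (hNc : ∀ x y : A, ⁅x, y⁆ ∈ N) :
    commutator A ≤ Cfsg.pCore p A ∧ ((Cfsg.pCore p A).index).Coprime p := by
  have hpp : p.Prime := Fact.out
  have hle : commutator A ≤ Cfsg.pCore p A := by
    refine le_trans ?_ (Cfsg.Agent.Lib.Helper55.le_pCore hNn hNp)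
    rw [commutator_def, Subgroup.commutator_le]
    intro a _ b _
    exact hNc a b
  refine ⟨hle, ?_⟩
  obtain S : Sylow p A := default
  have hle' : Cfsg.pCore p A ≤ S := Cfsg.Agent.Lib.Helper55.pCore_le_sylow S
  have hSn : (S : Subgroup A).Normal := by
    constructor
    intro s hs g
    have h2 : g * s * g⁻¹ = ⁅g, s⁆ * s := by rw [commutatorElement_def]; group
    rw [h2]
    have h3 : ⁅g, s⁆ ∈ commutator A := by
      rw [commutator_def]
      exact Subgroup.commutator_mem_commutator (Subgroup.mem_top g) (Subgroup.mem_top s)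
    exact (S : Subgroup A).mul_mem (hle' (hle h3)) hs
  have hSle : (S : Subgroup A) ≤ Cfsg.pCore p A := Cfsg.Agent.Lib.Helper55.le_pCore hSn S.2
  have hEq : Cfsg.pCore p A = S := le_antisymm hle' hSle
  rw [hEq]
  exact ((Nat.Prime.coprime_iff_not_dvd hpp).2 S.not_dvd_index).symm

/-- A group of prime order `q ∤ p (p - 1)` normalizing a cyclic `p`-group centralizes it. -/
theorem cyclic_centralized {G : Type*} [Group G] [Finite G] (p q : ℕ) [Fact p.Prime]
    (hq : q.Prime) (hqp : ¬ q ∣ p * (p - 1)) (A C : Subgroup G) (hA : Nat.card A = q)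
    (hC : IsCyclic C) (hCp : IsPGroup p C) (hAC : ∀ a ∈ A, ∀ y ∈ C, a * y * a⁻¹ ∈ C) :
    ∀ a ∈ A, ∀ y ∈ C, a * y * a⁻¹ = y := by
  have hpp : p.Prime := Fact.out
  have hqp1 : ¬ q ∣ p := fun h => hqp (h.mul_right _)
  have hqp2 : ¬ q ∣ p - 1 := fun h => hqp (h.mul_left _)
  have hAN : A ≤ Subgroup.normalizer (C : Set G) := by
    intro a ha
    rw [Subgroup.mem_normalizer_iff]
    intro h
    constructor
    · exact hAC a ha h
    · intro hh
      have h1 := hAC a⁻¹ (A.inv_mem ha) _ hh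
      have e : a⁻¹ * (a * h * a⁻¹) * a⁻¹⁻¹ = h := by group
      rwa [e] at h1
  obtain ⟨θ, hθdef⟩ : ∃ θ : A →* MulAut C,
      θ = (Subgroup.normalizerMonoidHom C).comp (Subgroup.inclusion hAN) := ⟨_, rfl⟩
  have hθ : ∀ (a : A) (r : C), ((θ a r : C) : G) = a * r * (a : G)⁻¹ := by
    intro a r
    rw [hθdef]
    rfl
  have hcop : q.Coprime (Nat.card (MulAut C)) := by
    rw [IsCyclic.card_mulAut]
    obtain ⟨k, hk⟩ := hCp.exists_card_eq
    rw [hk]
    rcases Nat.eq_zero_or_pos k with h0 | h0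
    · rw [h0, pow_zero, Nat.totient_one]
      exact Nat.coprime_one_right q
    · rw [Nat.totient_prime_pow hpp h0]
      exact Nat.Coprime.mul_right
        (Nat.Coprime.pow_right _ ((Nat.Prime.coprime_iff_not_dvd hq).mpr hqp1))
        ((Nat.Prime.coprime_iff_not_dvd hq).mpr hqp2)
  intro a ha y hy
  have hd1 : orderOf (θ ⟨a, ha⟩) ∣ q := by
    rw [← hA]
    exact (orderOf_map_dvd θ _).trans (orderOf_dvd_natCard _)
  have hd2 : orderOf (θ ⟨a, ha⟩) ∣ Nat.card (MulAut C) := orderOf_dvd_natCard _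
  have h1 : θ ⟨a, ha⟩ = 1 := orderOf_eq_one_iff.mp (Nat.eq_one_of_dvd_coprimes hcop hd1 hd2)
  have h2 := hθ ⟨a, ha⟩ ⟨y, hy⟩
  rw [h1] at h2
  exact h2.symm

/-- If `[R, A] = R` then an element of `C_R(A)` of order prime to `|A|` lies in `[R, R]`. -/
theorem mem_commutator_of_fixed {G : Type*} [Group G] [Finite G] (R A : Subgroup G)
    (hA : A ≤ Subgroup.normalizer (R : Set G)) (hRA : ⁅R, A⁆ = R) (y : G) (hy : y ∈ R)
    (hfix : ∀ a ∈ A, a * y * a⁻¹ = y) (hcop : (orderOf y).Coprime (Nat.card A)) :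
    y ∈ ⁅R, R⁆ := by
  classical
  have : Fintype ↥A := Fintype.ofFinite _
  obtain ⟨θ, hθdef⟩ : ∃ θ : A →* MulAut R,
      θ = (Subgroup.normalizerMonoidHom R).comp (Subgroup.inclusion hA) := ⟨_, rfl⟩
  have hθ : ∀ (a : A) (r : R), ((θ a r : R) : G) = a * r * (a : G)⁻¹ := by
    intro a r
    rw [hθdef]
    rfl
  obtain ⟨Nm, hNm⟩ : ∃ Nm : ↥R →* Abelianization ↥R,
      ∀ r : R, Nm r = ∏ x : A, Abelianization.of (θ x r) := by
    refine ⟨∏ x : A, (Abelianization.of.comp (θ x).toMonoidHom), ?_⟩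
    intro r
    rw [MonoidHom.finsetProd_apply]
    rfl
  have hinv : ∀ (x : A) (r : R), Nm (θ x r) = Nm r := by
    intro x r
    rw [hNm, hNm, ← Equiv.prod_comp (Equiv.mulRight x) (fun z : A => Abelianization.of (θ z r))]
    apply Finset.prod_congr rfl
    intro z _
    rw [Equiv.coe_mulRight, map_mul, MulAut.mul_apply]
  have hker : ∀ r : R, Nm r = 1 := by
    have hle : ⁅R, A⁆ ≤ Nm.ker.map R.subtype := by
      rw [Subgroup.commutator_le]
      intro r hr a ha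
      refine ⟨⟨r, hr⟩ * (θ ⟨a, ha⟩ ⟨r, hr⟩)⁻¹, ?_, ?_⟩
      · rw [SetLike.mem_coe, MonoidHom.mem_ker, map_mul, map_inv, hinv, mul_inv_cancel]
      · rw [commutatorElement_def]
        simp only [Subgroup.coe_subtype, Subgroup.coe_mul, Subgroup.coe_inv, hθ]
        group
    intro r
    have h1 : (r : G) ∈ Nm.ker.map R.subtype := hle (by rw [hRA]; exact r.2)
    obtain ⟨t, ht, hte⟩ := h1
    have h2 : t = r := Subtype.ext hte
    rw [← h2]
    exact ht
  have h1 : Nm ⟨y, hy⟩ = Abelianization.of (⟨y, hy⟩ : R) ^ Nat.card A := by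
    rw [hNm]
    have h0 : ∀ x : A, θ x ⟨y, hy⟩ = ⟨y, hy⟩ := fun x =>
      Subtype.ext (by rw [hθ]; exact hfix x x.2)
    simp only [h0, Finset.prod_const, Finset.card_univ, Nat.card_eq_fintype_card]
  have h2 : Abelianization.of (⟨y, hy⟩ : R) ^ Nat.card A = 1 := by rw [← h1]; exact hker _
  have h3 : Abelianization.of (⟨y, hy⟩ : R) ^ orderOf y = 1 := by
    rw [← map_pow]
    have h0 : (⟨y, hy⟩ : R) ^ orderOf y = 1 := Subtype.ext (by simp [pow_orderOf_eq_one])
    rw [h0, map_one]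
  have h4 : Abelianization.of (⟨y, hy⟩ : R) = 1 := by
    have h0 := pow_gcd_eq_one.mpr ⟨h3, h2⟩
    rwa [hcop, pow_one] at h0
  have h5 : (⟨y, hy⟩ : R) ∈ commutator ↥R := by
    rw [← Abelianization.ker_of]
    exact h4
  have h6 : (commutator ↥R).map R.subtype = ⁅R, R⁆ := by
    rw [commutator_def, Subgroup.map_commutator, ← MonoidHom.range_eq_map,
      Subgroup.range_subtype]
  rw [← h6]
  exact ⟨_, h5, rfl⟩

/-- The last clause: `R = [R, A]` non-abelian of rank two with `|A|` a prime not dividing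
`p (p - 1)` has order `p ^ 3`. -/
theorem card_eq_cube {G : Type*} [Group G] [Finite G] (p : ℕ) [Fact p.Prime] (hp : p ≠ 2)
    (R A : Subgroup G) (hR : IsPGroup p R) (hr : Cfsg.PRankLE p 2 R)
    (hA : A ≤ Subgroup.normalizer (R : Set G)) (hAodd : Odd (Nat.card A))
    (hq : (Nat.card A).Prime) (hnd : ¬ Nat.card A ∣ p * (p - 1))
    (hRA : ⁅R, A⁆ = R) (hnc : ¬ IsMulCommutative R) : Nat.card R = p ^ 3 := by
  have hpp : p.Prime := Fact.out
  have hqp : Nat.card A ≠ p := by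
    intro h
    exact hnd (h ▸ dvd_mul_right _ _)
  have hcop : (Nat.card A).Coprime p := (Nat.coprime_primes hq hpp).mpr hqp
  have hR1 : R ≠ ⊥ := by
    intro h
    apply hnc
    have h1 : ∀ g ∈ R, g = 1 := by
      intro g hg
      rw [h] at hg
      exact Subgroup.mem_bot.mp hg
    refine ⟨⟨fun a b => ?_⟩⟩
    apply Subtype.ext
    rw [Subgroup.coe_mul, Subgroup.coe_mul, h1 _ a.2, h1 _ b.2]
  obtain ⟨-, hab | ⟨R₁, R₂, hsup, hcomm, hnc₁, hcard₁, -, hcyc₂, hΩ⟩⟩ :=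
    Cfsg.Agent.S1448.result p hp R A hR hR1 hr hA hcop hAodd hRA
  · exact absurd hab hnc
  have hR₁R : R₁ ≤ R := hsup ▸ le_sup_left
  have hR₂R : R₂ ≤ R := hsup ▸ le_sup_right
  have hR₂ab : ∀ x ∈ R₂, ∀ y ∈ R₂, x * y = y * x := by
    intro x hx y hy
    have h1 := hcyc₂.commGroup.mul_comm (⟨x, hx⟩ : R₂) ⟨y, hy⟩
    exact congrArg Subtype.val h1
  have hdec : ∀ r ∈ R, ∃ a ∈ R₁, ∃ b ∈ R₂, r = a * b := by
    intro r hr'
    exact mem_sup_of_commute R₁ R₂ hcomm (hsup ▸ hr')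
  -- R₂ is central in R
  have hcen : ∀ y ∈ R₂, ∀ r ∈ R, y * r = r * y := by
    intro y hy r hr'
    obtain ⟨a, ha, b, hb, rfl⟩ := hdec r hr'
    calc y * (a * b) = (y * a) * b := by group
      _ = (a * y) * b := by rw [hcomm a ha y hy]
      _ = a * (y * b) := by group
      _ = a * (b * y) := by rw [hR₂ab y hy b hb]
      _ = a * b * y := by group
  -- the centre of R lies in R₂
  have hnc₁' : ¬ ∀ a b : ↥R₁, a * b = b * a := fun h => hnc₁ ⟨⟨h⟩⟩
  have hcz := (Cfsg.Agent.Lib.Helper42.EssP3.p3_struct hcard₁ hnc₁').1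
  have hmap₁ : (commutator ↥R₁).map R₁.subtype = ⁅R₁, R₁⁆ := by
    rw [commutator_def, Subgroup.map_commutator, ← MonoidHom.range_eq_map,
      Subgroup.range_subtype]
  have hΩle : ⁅R₁, R₁⁆ ≤ R₂ := by
    rw [← hΩ, Subgroup.closure_le]
    intro x hx
    exact hx.1
  have hZ : ∀ z ∈ R, (∀ r ∈ R, z * r = r * z) → z ∈ R₂ := by
    intro z hz hzc
    obtain ⟨a, ha, b, hb, rfl⟩ := hdec z hz
    have hac : (⟨a, ha⟩ : ↥R₁) ∈ Subgroup.center ↥R₁ := by
      rw [Subgroup.mem_center_iff]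
      intro g
      apply Subtype.ext
      rw [Subgroup.coe_mul, Subgroup.coe_mul]
      have h1 := hzc g (hR₁R g.2)
      have h2 := hcomm g g.2 b hb
      -- a * b * g = g * (a * b), b commutes with g
      have h3 : a * (g : G) * b = (g : G) * a * b := by
        calc a * (g : G) * b = a * ((g : G) * b) := by group
          _ = a * (b * (g : G)) := by rw [h2]
          _ = a * b * (g : G) := by group
          _ = (g : G) * (a * b) := h1
          _ = (g : G) * a * b := by group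
      exact (mul_right_cancel h3).symm
    rw [← hcz] at hac
    have h1 : a ∈ ⁅R₁, R₁⁆ := by
      rw [← hmap₁]
      exact ⟨_, hac, rfl⟩
    exact R₂.mul_mem (hΩle h1) hb
  -- A normalizes R₂
  have hAR₂ : ∀ a ∈ A, ∀ y ∈ R₂, a * y * a⁻¹ ∈ R₂ := by
    intro a ha y hy
    have han := Subgroup.mem_normalizer_iff.mp (hA ha)
    apply hZ _ ((han y).mp (hR₂R hy))
    intro r hr'
    have hr'' : a⁻¹ * r * a ∈ R := by
      rw [han]
      have e : a * (a⁻¹ * r * a) * a⁻¹ = r := by group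
      rw [e]
      exact hr'
    calc a * y * a⁻¹ * r = a * (y * (a⁻¹ * r * a)) * a⁻¹ := by group
      _ = a * ((a⁻¹ * r * a) * y) * a⁻¹ := by rw [hcen y hy _ hr'']
      _ = r * (a * y * a⁻¹) := by group
  have hfix := cyclic_centralized p (Nat.card A) hq hnd A R₂ rfl hcyc₂ (hR.to_le hR₂R) hAR₂
  -- [R, R] ≤ R₁
  have hRR : ⁅R, R⁆ ≤ R₁ := by
    rw [Subgroup.commutator_le]
    intro u hu v hv
    obtain ⟨a₁, ha₁, b₁, hb₁, rfl⟩ := hdec u hu
    obtain ⟨a₂, ha₂, b₂, hb₂, rfl⟩ := hdec v hv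
    have e : ⁅a₁ * b₁, a₂ * b₂⁆ = ⁅a₁, a₂⁆ := by
      rw [commutatorElement_def, commutatorElement_def]
      have h1 : b₁ * (a₂ * b₂) = (a₂ * b₂) * b₁ := hcen b₁ hb₁ _ hv
      have h2 : a₁ * b₂ = b₂ * a₁ := hcomm a₁ ha₁ b₂ hb₂
      calc a₁ * b₁ * (a₂ * b₂) * (a₁ * b₁)⁻¹ * (a₂ * b₂)⁻¹
          = a₁ * (b₁ * (a₂ * b₂)) * b₁⁻¹ * a₁⁻¹ * b₂⁻¹ * a₂⁻¹ := by group
        _ = a₁ * ((a₂ * b₂) * b₁) * b₁⁻¹ * a₁⁻¹ * b₂⁻¹ * a₂⁻¹ := by rw [h1]
        _ = a₁ * a₂ * (b₂ * a₁⁻¹) * b₂⁻¹ * a₂⁻¹ := by group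
        _ = a₁ * a₂ * (a₁⁻¹ * b₂) * b₂⁻¹ * a₂⁻¹ := by
            have h3 : b₂ * a₁⁻¹ = a₁⁻¹ * b₂ := by
              calc b₂ * a₁⁻¹ = a₁⁻¹ * (a₁ * b₂) * a₁⁻¹ := by group
                _ = a₁⁻¹ * (b₂ * a₁) * a₁⁻¹ := by rw [h2]
                _ = a₁⁻¹ * b₂ := by group
            rw [h3]
        _ = a₁ * a₂ * a₁⁻¹ * a₂⁻¹ := by group
    rw [e]
    exact R₁.mul_mem (R₁.mul_mem (R₁.mul_mem ha₁ ha₂) (R₁.inv_mem ha₁)) (R₁.inv_mem ha₂)
  have hR₂R₁ : R₂ ≤ R₁ := by
    intro y hy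
    apply hRR
    apply mem_commutator_of_fixed R A hA hRA y (hR₂R hy) (fun a ha => hfix a ha y hy)
    obtain ⟨k, hk⟩ := hR ⟨y, hR₂R hy⟩
    have hk' : y ^ p ^ k = 1 := by
      have := congrArg Subtype.val hk
      rwa [Subgroup.coe_pow] at this
    exact Nat.Coprime.coprime_dvd_left (orderOf_dvd_of_pow_eq_one hk')
      (Nat.Coprime.pow_left k hcop.symm)
  have hEq : R = R₁ := by rw [← hsup]; exact sup_eq_left.mpr hR₂R₁
  rw [hEq]
  exact hcard₁

/-- Let G be a finite group, p an odd prime, R a narrow p-subgroup and A a solvable subgroup of odd order normalizing R with A ∩ C_G(R) = 1. Then [A, A] ≤ O_p(A) and the index of O_p(A) in A is coprime to p; if R has an elementary abelian subgroup of order p ^ 3 then the order of every element of A of order coprime to p divides p − 1; and if the order of A is a prime not dividing p(p − 1), then 2·#A divides p + 1, and if in addition [R, A] = R and R is non-abelian then #R = p ^ 3.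 -/
theorem result {G : Type*} [Group G] [Finite G] (p : ℕ) [Fact p.Prime] (hp : p ≠ 2) (R A : Subgroup G) (hR : IsPGroup p R) (hRn : Cfsg.IsNarrow p R)
    (hA : (A ≤ Subgroup.normalizer (R : Set G))) (hAs : Group.IsSolvable A) (hAodd : Odd (Nat.card A)) (hfaith : A ⊓ Subgroup.centralizer (R : Set G) = ⊥) :
    (commutator ↥A ≤ Cfsg.pCore p ↥A ∧ ((Cfsg.pCore p ↥A).index).Coprime p) ∧
      (¬ Cfsg.PRankLE p 2 R → ∀ a ∈ A, (orderOf a).Coprime p → orderOf a ∣ p - 1) ∧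
      ((Nat.card A).Prime → ¬ Nat.card A ∣ p * (p - 1) →
        2 * Nat.card A ∣ p + 1 ∧ (⁅R, A⁆ = R → ¬ IsMulCommutative R → Nat.card R = p ^ 3)) := by
  have hpp : p.Prime := Fact.out
  obtain ⟨N, hNn, hNp, hNc, hNpow⟩ := exists_normal_p p hp R A hR hRn hA hAs hAodd hfaith
  have hb : ¬ Cfsg.PRankLE p 2 R → ∀ a ∈ A, (orderOf a).Coprime p → orderOf a ∣ p - 1 := by
    intro hr a ha hcop
    have h1 := hNpow hr ⟨a, ha⟩
    obtain ⟨k, hk⟩ := hNp ⟨_, h1⟩
    have hk' : (a ^ (p - 1)) ^ p ^ k = 1 := by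
      have h2 := congrArg Subtype.val (congrArg Subtype.val hk)
      simpa using h2
    have hd1 : orderOf (a ^ (p - 1)) ∣ p ^ k := orderOf_dvd_of_pow_eq_one hk'
    have hd2 : orderOf (a ^ (p - 1)) ∣ orderOf a := orderOf_pow_dvd _
    have h3 : orderOf (a ^ (p - 1)) = 1 :=
      Nat.eq_one_of_dvd_coprimes (Nat.Coprime.pow_right k hcop) hd2 hd1
    exact orderOf_dvd_of_pow_eq_one (orderOf_eq_one_iff.mp h3)
  refine ⟨part_a p N hNn hNp hNc, hb, ?_⟩
  intro hq hnd
  have hqp : Nat.card A ≠ p := by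
    intro h
    exact hnd (h ▸ dvd_mul_right _ _)
  have hcop : (Nat.card A).Coprime p := (Nat.coprime_primes hq hpp).mpr hqp
  have hqp2 : ¬ Nat.card A ∣ p - 1 := fun h => hnd (h.mul_left _)
  -- the rank is at most two
  have hr : Cfsg.PRankLE p 2 R := by
    by_contra hr
    have hnt : Nontrivial ↥A := Finite.one_lt_card_iff_nontrivial.mp hq.one_lt
    obtain ⟨x, hx⟩ := exists_ne (1 : ↥A)
    have ho : orderOf (x : G) = Nat.card A := by
      rw [Subgroup.orderOf_coe]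
      rcases (Nat.dvd_prime hq).mp (orderOf_dvd_natCard x) with h | h
      · exact absurd (orderOf_eq_one_iff.mp h) hx
      · exact h
    have h1 := hb hr (x : G) x.2 (by rw [ho]; exact hcop)
    rw [ho] at h1
    exact hqp2 h1
  obtain ⟨φ, hφ⟩ := Cfsg.Agent.Lib.Helper1.exists_linearization hp R A hR hr hA
  have hφinj : Function.Injective φ := by
    rw [injective_iff_map_eq_one]
    intro a ha
    have hco : (orderOf (a : G)).Coprime p := by
      rw [Subgroup.orderOf_coe]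
      exact Nat.Coprime.coprime_dvd_left (orderOf_dvd_natCard a) hcop
    have h1 : (a : G) ∈ A ⊓ Subgroup.centralizer (R : Set G) := ⟨a.2, hφ a ha hco⟩
    rw [hfaith, Subgroup.mem_bot] at h1
    exact Subtype.ext h1
  have hdvd : Nat.card A ∣ Nat.card (GL (Fin 2) (ZMod p)) :=
    Subgroup.card_dvd_of_injective φ hφinj
  rw [Cfsg.Agent.Lib.Helper5.GL2.card_GL2, ZMod.card] at hdvd
  have hq1 : Nat.card A ∣ p + 1 := by
    rcases (Nat.Prime.dvd_mul hq).mp hdvd with h | h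
    · exact h
    · exfalso
      rcases (Nat.Prime.dvd_mul hq).mp h with h | h
      · exact hqp ((Nat.prime_dvd_prime_iff_eq hq hpp).mp h)
      · exact hqp2 (hq.dvd_of_dvd_pow h)
  refine ⟨?_, fun hRA hnc => card_eq_cube p hp R A hR hr hA hAodd hq hnd hRA hnc⟩
  have h2 : 2 ∣ p + 1 := by
    obtain ⟨k, hk⟩ := hpp.odd_of_ne_two hp
    exact ⟨k + 1, by omega⟩
  have hc2 : Nat.Coprime 2 (Nat.card A) := by
    rw [Nat.coprime_comm]
    exact Nat.Coprime.symm ((Nat.coprime_primes Nat.prime_two hq).mpr (by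
      intro h
      rw [← h] at hAodd
      exact absurd hAodd (by decide)))
  exact Nat.Coprime.mul_dvd_of_dvd_of_dvd hc2 h2 hq1

end Cfsg.Agent.S1454
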