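import Cfsg.Statements.S4262
import Cfsg.Agent.Lib.Lead.Frobenius
import Cfsg.Agent.Lib.Helper71.FrobKernel

set_option autoImplicit false
open Cfsg

namespace Cfsg.Agent.S4262

open Cfsg.Agent.Lib.Helper71

universe u

variable {G : Type u} [Group G]

theorem mem_cent {x g : G} : g ∈ Subgroup.centralizer ({x} : Set G) ↔ x * g = g * x := by
  rw [Subgroup.mem_centralizer_singleton_iff]; exact eq_comm

theorem cent_eq_of_le (hC : ∀ x : G, x ≠ 1 → IsCoatom (Subgroup.centralizer ({x} : Set G)))
    {x y : G} (hx : x ≠ 1) (hy : y ≠ 1)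
    (hle : Subgroup.centralizer ({x} : Set G) ≤ Subgroup.centralizer ({y} : Set G)) :
    Subgroup.centralizer ({x} : Set G) = Subgroup.centralizer ({y} : Set G) := by
  rcases (hC x hx).le_iff.mp hle with h | h
  · exact absurd h (hC y hy).1
  · exact h.symm

theorem cent_pow_le (x : G) (k : ℕ) :
    Subgroup.centralizer ({x} : Set G) ≤ Subgroup.centralizer ({x ^ k} : Set G) := by
  intro g hg
  rw [mem_cent] at hg ⊢
  exact ((Commute.pow_left (show Commute x g from hg) k)).eq

/-- commuting elements with different centralizers: the order of one kills the other -/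
theorem pow_orderOf_eq_one_of_commute
    (hC : ∀ x : G, x ≠ 1 → IsCoatom (Subgroup.centralizer ({x} : Set G)))
    {x y : G} (hx : x ≠ 1) (hy : y ≠ 1) (hxy : x * y = y * x)
    (hne : Subgroup.centralizer ({x} : Set G) ≠ Subgroup.centralizer ({y} : Set G)) :
    y ^ orderOf x = 1 := by
  by_contra hw
  have hpow : (x * y) ^ orderOf x = y ^ orderOf x := by
    rw [(show Commute x y from hxy).mul_pow, pow_orderOf_eq_one, one_mul]
  have hxy1 : x * y ≠ 1 := by
    intro h
    rw [h, one_pow] at hpow
    exact hw hpow.symm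
  have h1 : Subgroup.centralizer ({y} : Set G) = Subgroup.centralizer ({y ^ orderOf x} : Set G) :=
    cent_eq_of_le hC hy hw (cent_pow_le y _)
  have h2 : Subgroup.centralizer ({x * y} : Set G) = Subgroup.centralizer ({y} : Set G) := by
    rw [h1, ← hpow]
    exact cent_eq_of_le hC hxy1 (by rw [hpow]; exact hw) (cent_pow_le (x * y) _)
  apply hne
  symm
  apply cent_eq_of_le hC hy hx
  intro g hg
  have hg2 : g ∈ Subgroup.centralizer ({x * y} : Set G) := by rw [h2]; exact hg
  rw [mem_cent] at hg hg2 ⊢
  have e : x * g * y = g * x * y := by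
    calc x * g * y = x * (g * y) := by group
      _ = x * (y * g) := by rw [hg]
      _ = x * y * g := by group
      _ = g * (x * y) := hg2
      _ = g * x * y := by group
  exact mul_right_cancel e

theorem orderOf_eq_of_commute [Finite G]
    (hC : ∀ x : G, x ≠ 1 → IsCoatom (Subgroup.centralizer ({x} : Set G)))
    {x y : G} (hx : x ≠ 1) (hy : y ≠ 1) (hxy : x * y = y * x)
    (hne : Subgroup.centralizer ({x} : Set G) ≠ Subgroup.centralizer ({y} : Set G)) :
    orderOf x = orderOf y := by
  apply Nat.dvd_antisymm
  · exact orderOf_dvd_of_pow_eq_one (pow_orderOf_eq_one_of_commute hC hy hx hxy.symm hne.symm)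
  · exact orderOf_dvd_of_pow_eq_one (pow_orderOf_eq_one_of_commute hC hx hy hxy hne)

/-- a non-abelian centralizer contains an element with a different centralizer -/
theorem exists_other {x : G}
    (hna : ¬ ∀ a ∈ Subgroup.centralizer ({x} : Set G), ∀ b ∈ Subgroup.centralizer ({x} : Set G),
      a * b = b * a) :
    ∃ y : G, y ≠ 1 ∧ x * y = y * x ∧
      Subgroup.centralizer ({y} : Set G) ≠ Subgroup.centralizer ({x} : Set G) := by
  push Not at hna
  obtain ⟨a, ha, b, hb, hab⟩ := hna
  refine ⟨a, ?_, mem_cent.mp ha, ?_⟩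
  · rintro rfl
    exact hab (by rw [one_mul, mul_one])
  · intro h
    rw [← h, mem_cent] at hb
    exact hab hb

theorem orderOf_prime [Finite G]
    (hC : ∀ x : G, x ≠ 1 → IsCoatom (Subgroup.centralizer ({x} : Set G)))
    (hna : ∀ x : G, x ≠ 1 → ¬ ∀ a ∈ Subgroup.centralizer ({x} : Set G),
      ∀ b ∈ Subgroup.centralizer ({x} : Set G), a * b = b * a)
    {x : G} (hx : x ≠ 1) : (orderOf x).Prime := by
  obtain ⟨y, hy, hxy, hne⟩ := exists_other (hna x hx)
  have hm1 : orderOf x ≠ 1 := by rwa [Ne, orderOf_eq_one_iff]
  have hm0 : 0 < orderOf x := orderOf_pos x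
  obtain ⟨r, hr, hrm⟩ := Nat.exists_prime_and_dvd hm1
  obtain ⟨s, hs⟩ := hrm
  have hs0 : 0 < s := by
    rcases Nat.eq_zero_or_pos s with h | h
    · rw [h, mul_zero] at hs; omega
    · exact h
  by_cases hs1 : s = 1
  · rw [hs, hs1, mul_one]; exact hr
  exfalso
  have hslt : s < orderOf x := by
    rw [hs]
    have := hr.two_le
    nlinarith
  have hxs : x ^ s ≠ 1 := pow_ne_one_of_lt_orderOf hs0.ne' hslt
  have hord : orderOf (x ^ s) = r := by
    rw [orderOf_pow' x hs0.ne']
    have hg : (orderOf x).gcd s = s := Nat.gcd_eq_right ⟨r, by rw [hs, mul_comm]⟩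
    rw [hg]
    nth_rewrite 1 [hs]
    exact Nat.mul_div_cancel _ hs0
  have hcs : Subgroup.centralizer ({x} : Set G) = Subgroup.centralizer ({x ^ s} : Set G) :=
    cent_eq_of_le hC hx hxs (cent_pow_le x s)
  have h1 := orderOf_eq_of_commute hC hx hy hxy hne.symm
  have hxsy : x ^ s * y = y * x ^ s := ((Commute.pow_left (show Commute x y from hxy) s)).eq
  have h2 := orderOf_eq_of_commute hC hxs hy hxsy (by rw [← hcs]; exact hne.symm)
  rw [hord, ← h1, hs] at h2
  have : s = 1 := by
    have hr0 := hr.pos
    nlinarith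
  exact hs1 this

/-- every element of the centralizer of `x` has the same prime order as `x` -/
theorem orderOf_eq_of_mem_cent [Finite G]
    (hC : ∀ x : G, x ≠ 1 → IsCoatom (Subgroup.centralizer ({x} : Set G)))
    (hna : ∀ x : G, x ≠ 1 → ¬ ∀ a ∈ Subgroup.centralizer ({x} : Set G),
      ∀ b ∈ Subgroup.centralizer ({x} : Set G), a * b = b * a)
    {x g : G} (hx : x ≠ 1) (hg1 : g ≠ 1) (hg : g ∈ Subgroup.centralizer ({x} : Set G)) :
    orderOf g = orderOf x := by
  by_cases hne : Subgroup.centralizer ({g} : Set G) = Subgroup.centralizer ({x} : Set G)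
  · obtain ⟨y, hy, hxy, hne'⟩ := exists_other (hna x hx)
    have hgy : g * y = y * g := by
      have : y ∈ Subgroup.centralizer ({g} : Set G) := by rw [hne, mem_cent]; exact hxy
      exact mem_cent.mp this
    rw [orderOf_eq_of_commute hC hg1 hy hgy (by rw [hne]; exact hne'.symm),
      orderOf_eq_of_commute hC hx hy hxy hne'.symm]
  · exact (orderOf_eq_of_commute hC hx hg1 (mem_cent.mp hg) (Ne.symm hne)).symm

/-- with trivial centre and non-abelian centralizers, centralizers are Sylow subgroups -/
theorem exists_sylow_eq_cent [Finite G] (hZ : Subgroup.center G = ⊥)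
    (hC : ∀ x : G, x ≠ 1 → IsCoatom (Subgroup.centralizer ({x} : Set G)))
    (hna : ∀ x : G, x ≠ 1 → ¬ ∀ a ∈ Subgroup.centralizer ({x} : Set G),
      ∀ b ∈ Subgroup.centralizer ({x} : Set G), a * b = b * a)
    {x : G} (hx : x ≠ 1) (p : ℕ) [Fact p.Prime] (hp : orderOf x = p) :
    ∃ Q : Sylow p G, (Q : Subgroup G) = Subgroup.centralizer ({x} : Set G) := by
  have hPG : IsPGroup p (Subgroup.centralizer ({x} : Set G)) := by
    intro g
    refine ⟨1, ?_⟩
    rw [pow_one]
    by_cases hg1 : g = 1
    · rw [hg1, one_pow]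
    · have h1 : orderOf (g : G) = p := by
        rw [orderOf_eq_of_mem_cent hC hna hx (fun h => hg1 (Subtype.ext h)) g.2, hp]
      apply Subtype.ext
      rw [Subgroup.coe_pow, ← h1, pow_orderOf_eq_one]; rfl
  obtain ⟨Q, hQ⟩ := hPG.exists_le_sylow
  rcases (hC x hx).le_iff.mp hQ with h | h
  · exfalso
    have hGp : IsPGroup p G := by
      have h1 := Q.isPGroup'
      rw [h] at h1
      exact h1.of_equiv Subgroup.topEquiv
    have : Nontrivial G := ⟨x, 1, hx⟩
    have h2 := hGp.center_nontrivial
    rw [hZ] at h2
    exact not_nontrivial _ h2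
  · exact ⟨Q, h⟩

/-- the centre of a non-abelian finite `p`-group has index at least `p²` -/
theorem card_center_mul_sq_le {Q : Type*} [Group Q] [Finite Q] (p : ℕ) [hp : Fact p.Prime]
    (hQ : IsPGroup p Q) (hna : ¬ ∀ a b : Q, a * b = b * a) :
    Nat.card (Subgroup.center Q) * p ^ 2 ≤ Nat.card Q := by
  obtain ⟨j, hj⟩ := hQ.index (Subgroup.center Q)
  have hmul := Subgroup.card_mul_index (Subgroup.center Q)
  have hj2 : 2 ≤ j := by
    by_contra hlt
    push Not at hlt
    apply hna
    interval_cases j
    · rw [pow_zero, Subgroup.index_eq_one] at hj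
      intro a b
      have : a ∈ Subgroup.center Q := by rw [hj]; trivial
      exact (Subgroup.mem_center_iff.mp this b).symm
    · rw [pow_one] at hj
      have hcard : Nat.card (Q ⧸ Subgroup.center Q) = p := by
        rw [← Subgroup.index_eq_card]; exact hj
      have := isCyclic_of_prime_card hcard
      have hcomm := MonoidHom.isMulCommutative_of_isCyclic_of_ker_le_center
        (QuotientGroup.mk' (Subgroup.center Q)) (by rw [QuotientGroup.ker_mk'])
      exact fun a b => hcomm.is_comm.comm a b
  rw [← hmul, hj]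
  exact Nat.mul_le_mul_left _ (Nat.pow_le_pow_right hp.out.pos hj2)

theorem sum_inv_sq_le (n : ℕ) (hn : 1 ≤ n) :
    ∑ k ∈ Finset.Icc 2 n, (1 : ℚ) / (k : ℚ) ^ 2 ≤ 1 - 1 / (n : ℚ) := by
  induction n, hn using Nat.le_induction with
  | base => simp
  | succ n hn ih =>
    rw [Finset.sum_Icc_succ_top (by omega)]
    have hn0 : (0 : ℚ) < n := by exact_mod_cast hn
    have h1 : (1 : ℚ) / ((n + 1 : ℕ) : ℚ) ^ 2 ≤ 1 / (n : ℚ) - 1 / ((n + 1 : ℕ) : ℚ) := by
      push_cast
      rw [div_sub_div _ _ hn0.ne' (by positivity), div_le_div_iff₀ (by positivity) (by positivity)]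
      nlinarith
    linarith

/-- trivial centre, all centralizers maximal and non-abelian: impossible -/
theorem false_of_nonabelian [Finite G] (hZ : Subgroup.center G = ⊥) (hnt : Nontrivial G)
    (hC : ∀ x : G, x ≠ 1 → IsCoatom (Subgroup.centralizer ({x} : Set G)))
    (hna : ∀ x : G, x ≠ 1 → ¬ ∀ a ∈ Subgroup.centralizer ({x} : Set G),
      ∀ b ∈ Subgroup.centralizer ({x} : Set G), a * b = b * a) : False := by
  classical
  have : Fintype G := Fintype.ofFinite G
  obtain ⟨n, hn⟩ : ∃ n, n = Nat.card G := ⟨_, rfl⟩
  have hn1 : 1 < n := by rw [hn]; exact Finite.one_lt_card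
  have hmaps : ∀ x ∈ (Finset.univ.erase (1 : G)), orderOf x ∈ n.primeFactors := by
    intro x hx
    rw [Finset.mem_erase] at hx
    rw [Nat.mem_primeFactors]
    exact ⟨orderOf_prime hC hna hx.1, by rw [hn]; exact orderOf_dvd_natCard x, by omega⟩
  have hsum : n - 1 = ∑ p ∈ n.primeFactors,
      (Finset.filter (fun x => orderOf x = p) (Finset.univ.erase (1 : G))).card := by
    rw [← Finset.card_eq_sum_card_fiberwise (fun x hx => hmaps x hx),
      Finset.card_erase_of_mem (Finset.mem_univ _), Finset.card_univ, hn,
      Nat.card_eq_fintype_card]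
  have hbound : ∀ p ∈ n.primeFactors,
      (Finset.filter (fun x => orderOf x = p) (Finset.univ.erase (1 : G))).card * p ^ 2 ≤ n - 1 := by
    intro p hp
    have hpp : p.Prime := Nat.prime_of_mem_primeFactors hp
    have : Fact p.Prime := ⟨hpp⟩
    have : Fintype (Sylow p G) := Fintype.ofFinite _
    obtain ⟨E, hE⟩ : ∃ E, E = Finset.filter (fun x => orderOf x = p) (Finset.univ.erase (1 : G)) :=
      ⟨_, rfl⟩
    rw [← hE]
    have hEmem : ∀ x, x ∈ E ↔ x ≠ 1 ∧ orderOf x = p := by
      intro x
      rw [hE, Finset.mem_filter, Finset.mem_erase]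
      simp
    let T : Sylow p G → Finset G := fun Q =>
      Finset.filter (fun x => Subgroup.centralizer ({x} : Set G) = (Q : Subgroup G)) E
    have hsub : E ⊆ Finset.univ.biUnion T := by
      intro x hx
      obtain ⟨hx1, hxp⟩ := (hEmem x).mp hx
      obtain ⟨Q, hQ⟩ := exists_sylow_eq_cent hZ hC hna hx1 p hxp
      rw [Finset.mem_biUnion]
      exact ⟨Q, Finset.mem_univ _, by rw [Finset.mem_filter]; exact ⟨hx, hQ.symm⟩⟩
    have hcardE : E.card ≤ ∑ Q : Sylow p G, (T Q).card :=
      (Finset.card_le_card hsub).trans Finset.card_biUnion_le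
    obtain ⟨a, ha⟩ : ∃ a, a = (Nat.card G).factorization p := ⟨_, rfl⟩
    have hTQ : ∀ Q : Sylow p G, (T Q).card * p ^ 2 < p ^ a := by
      intro Q
      have hQcard : Nat.card (Q : Subgroup G) = p ^ a := by rw [ha]; exact Q.card_eq_multiplicity
      by_cases hemp : T Q = ∅
      · rw [hemp, Finset.card_empty, zero_mul]; exact pow_pos hpp.pos a
      · obtain ⟨x₀, hx₀⟩ := Finset.nonempty_iff_ne_empty.mpr hemp
        rw [Finset.mem_filter] at hx₀
        obtain ⟨hx₀E, hx₀Q⟩ := hx₀
        have hx₀1 := ((hEmem x₀).mp hx₀E).1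
        have hQna : ¬ ∀ a b : (Q : Subgroup G), a * b = b * a := by
          intro hab
          apply hna x₀ hx₀1
          intro a ha b hb
          rw [hx₀Q] at ha hb
          exact congrArg Subtype.val (hab ⟨a, ha⟩ ⟨b, hb⟩)
        have hc := card_center_mul_sq_le p Q.isPGroup' hQna
        have hle : (T Q).card + 1 ≤ Nat.card (Subgroup.center (Q : Subgroup G)) := by
          have h1 : (insert 1 (T Q)).card = (T Q).card + 1 := by
            apply Finset.card_insert_of_notMem
            intro h
            rw [Finset.mem_filter] at h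
            exact ((hEmem 1).mp h.1).1 rfl
          rw [← h1, ← Subgroup.card_map_of_injective (K := Subgroup.center (Q : Subgroup G))
            (Subgroup.subtype_injective (Q : Subgroup G))]
          have hcoe : Nat.card ↥(Subgroup.map (Q : Subgroup G).subtype
              (Subgroup.center (Q : Subgroup G))) =
              ((Subgroup.map (Q : Subgroup G).subtype
              (Subgroup.center (Q : Subgroup G)) : Subgroup G) : Set G).ncard := rfl
          rw [hcoe, ← Set.ncard_coe_finset]
          apply Set.ncard_le_ncard _ (Set.toFinite _)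
          intro x hx
          rw [Finset.mem_coe, Finset.mem_insert] at hx
          rcases hx with rfl | hx
          · exact Subgroup.one_mem _
          · rw [Finset.mem_filter] at hx
            have hxQ : x ∈ (Q : Subgroup G) := by
              rw [← hx.2, mem_cent]
            refine ⟨⟨x, hxQ⟩, ?_, rfl⟩
            rw [SetLike.mem_coe, Subgroup.mem_center_iff]
            intro q
            apply Subtype.ext
            have hq : (q : G) ∈ Subgroup.centralizer ({x} : Set G) := by rw [hx.2]; exact q.2
            exact (mem_cent.mp hq).symm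
        calc (T Q).card * p ^ 2 < ((T Q).card + 1) * p ^ 2 := by
              have := hpp.pos
              nlinarith [pow_pos this 2]
          _ ≤ Nat.card (Subgroup.center (Q : Subgroup G)) * p ^ 2 := Nat.mul_le_mul_right _ hle
          _ ≤ Nat.card (Q : Subgroup G) := hc
          _ = p ^ a := hQcard
    have hnp : Nat.card (Sylow p G) * p ^ a ≤ n := by
      let Q0 : Sylow p G := default
      have h1 := Q0.card_dvd_index
      have h2 := Subgroup.index_mul_card (Q0 : Subgroup G)
      rw [Q0.card_eq_multiplicity, ← ha, ← hn] at h2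
      have h3 : Nat.card (Sylow p G) ≤ (Q0 : Subgroup G).index :=
        Nat.le_of_dvd (Nat.pos_of_ne_zero Subgroup.index_ne_zero_of_finite) h1
      calc Nat.card (Sylow p G) * p ^ a ≤ (Q0 : Subgroup G).index * p ^ a :=
            Nat.mul_le_mul_right _ h3
        _ = n := h2
    have hlt : E.card * p ^ 2 < n := by
      calc E.card * p ^ 2 ≤ (∑ Q : Sylow p G, (T Q).card) * p ^ 2 := Nat.mul_le_mul_right _ hcardE
        _ = ∑ Q : Sylow p G, (T Q).card * p ^ 2 := Finset.sum_mul _ _ _
        _ < ∑ Q : Sylow p G, p ^ a :=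
            Finset.sum_lt_sum_of_nonempty Finset.univ_nonempty (fun Q _ => hTQ Q)
        _ = Nat.card (Sylow p G) * p ^ a := by
            rw [Finset.sum_const, Finset.card_univ, smul_eq_mul, Nat.card_eq_fintype_card]
        _ ≤ n := hnp
    omega
  -- the final inequality
  have hq1 : ((n - 1 : ℕ) : ℚ) ≤ ((n - 1 : ℕ) : ℚ) * ∑ p ∈ n.primeFactors, (1 : ℚ) / (p : ℚ) ^ 2 := by
    rw [Finset.mul_sum]
    nth_rewrite 1 [hsum]
    push_cast
    apply Finset.sum_le_sum
    intro p hp
    have hpp : p.Prime := Nat.prime_of_mem_primeFactors hp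
    have hp0 : (0 : ℚ) < (p : ℚ) ^ 2 := by
      have : (0 : ℚ) < p := by exact_mod_cast hpp.pos
      positivity
    have hb := hbound p hp
    have hb' : ((Finset.filter (fun x => orderOf x = p) (Finset.univ.erase (1 : G))).card : ℚ) *
        (p : ℚ) ^ 2 ≤ ((n - 1 : ℕ) : ℚ) := by exact_mod_cast hb
    rw [mul_one_div, le_div_iff₀ hp0]
    exact hb'
  have hq2 : ∑ p ∈ n.primeFactors, (1 : ℚ) / (p : ℚ) ^ 2 ≤ 1 - 1 / (n : ℚ) := by
    refine le_trans ?_ (sum_inv_sq_le n (by omega))
    apply Finset.sum_le_sum_of_subset_of_nonneg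
    · intro p hp
      have hpp : p.Prime := Nat.prime_of_mem_primeFactors hp
      rw [Finset.mem_Icc]
      exact ⟨hpp.two_le, Nat.le_of_dvd (by omega) (Nat.dvd_of_mem_primeFactors hp)⟩
    · intro k _ _
      positivity
  have hn0 : (0 : ℚ) < ((n - 1 : ℕ) : ℚ) := by
    have : 0 < n - 1 := by omega
    exact_mod_cast this
  have hnq : (0 : ℚ) < 1 / (n : ℚ) := by
    have : (0 : ℚ) < n := by exact_mod_cast (by omega : 0 < n)
    positivity
  nlinarith


/-- abelian normal subgroup with abelian quotient -/
theorem solvable_of_abelian_of_quot (N : Subgroup G) [N.Normal]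
    (hN : ∀ a ∈ N, ∀ b ∈ N, a * b = b * a) (hQ : ∀ a b : G ⧸ N, a * b = b * a) :
    Group.IsSolvable G := by
  have h1 : Group.IsSolvable N :=
    Group.isSolvable_of_comm (fun a b => Subtype.ext (hN a a.2 b b.2))
  have h2 : Group.IsSolvable (G ⧸ N) := Group.isSolvable_of_comm hQ
  refine Group.isSolvable_of_ker_le_range N.subtype (QuotientGroup.mk' N) ?_
  rw [QuotientGroup.ker_mk', Subgroup.range_subtype]

/-- a normal coatom has abelian (cyclic) quotient -/
theorem quot_comm_of_normal_coatom (M : Subgroup G) [M.Normal] (hM : IsCoatom M) :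
    ∀ a b : G ⧸ M, a * b = b * a := by
  obtain ⟨g, hg⟩ : ∃ g : G, g ∉ M := by
    by_contra hne
    push Not at hne
    exact hM.1 (eq_top_iff.mpr (fun g _ => hne g))
  have h1 : M ⊔ Subgroup.zpowers g = ⊤ := by
    apply hM.2
    apply lt_of_le_of_ne le_sup_left
    intro h
    apply hg
    rw [h]
    exact (le_sup_right : Subgroup.zpowers g ≤ M ⊔ Subgroup.zpowers g) (Subgroup.mem_zpowers g)
  have h2 : Subgroup.map (QuotientGroup.mk' M) (M ⊔ Subgroup.zpowers g) = ⊤ := by
    rw [h1, ← MonoidHom.range_eq_map]
    exact MonoidHom.range_eq_top.mpr (QuotientGroup.mk'_surjective M)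
  rw [Subgroup.map_sup, MonoidHom.map_zpowers, QuotientGroup.map_mk'_self, bot_sup_eq] at h2
  have hcyc : IsCyclic (G ⧸ M) := isCyclic_iff_exists_zpowers_eq_top.mpr ⟨_, h2⟩
  intro a b
  exact hcyc.isMulCommutative.is_comm.comm a b

/-- trivial centre, all centralizers maximal, one of them abelian: solvable -/
theorem solvable_of_abelian_cent [Finite G]
    (hC : ∀ x : G, x ≠ 1 → IsCoatom (Subgroup.centralizer ({x} : Set G)))
    {x : G} (hx : x ≠ 1)
    (hab : ∀ a ∈ Subgroup.centralizer ({x} : Set G), ∀ b ∈ Subgroup.centralizer ({x} : Set G),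
      a * b = b * a) : Group.IsSolvable G := by
  obtain ⟨M, hM⟩ : ∃ M, M = Subgroup.centralizer ({x} : Set G) := ⟨_, rfl⟩
  rw [← hM] at hab
  have hMco : IsCoatom M := by rw [hM]; exact hC x hx
  have hxM : x ∈ M := by rw [hM, mem_cent]
  -- centralizers of nonidentity elements of `M` equal `M`
  have hcentM : ∀ y ∈ M, y ≠ 1 → Subgroup.centralizer ({y} : Set G) = M := by
    intro y hy hy1
    symm
    rw [hM]
    apply cent_eq_of_le hC hx hy1
    rw [← hM]
    intro g hg
    rw [mem_cent]
    exact hab y hy g hg
  by_cases hnorm : M.Normal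
  · exact solvable_of_abelian_of_quot M hab (quot_comm_of_normal_coatom M hMco)
  · -- `M` is a Frobenius complement
    have hMbot : M ≠ ⊥ := by
      intro h
      rw [h, Subgroup.mem_bot] at hxM
      exact hx hxM
    have hself : ∀ g : G, (∀ m ∈ M, g⁻¹ * m * g ∈ M) → g ∈ M := by
      intro g hg
      by_contra hgM
      apply hnorm
      -- the normalizer is everything
      have hle : M ≤ Subgroup.normalizer (M : Set G) := Subgroup.le_normalizer
      have hgN : g⁻¹ ∈ Subgroup.normalizer (M : Set G) := by
        rw [Subgroup.mem_normalizer_iff]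
        have hcard : ∀ m : G, m ∈ M ↔ g⁻¹ * m * g⁻¹⁻¹ ∈ M := by
          -- conjugation by g⁻¹ maps M into M injectively, hence onto
          have hinj : Function.Injective (fun m : M => (⟨g⁻¹ * m * g, hg m m.2⟩ : M)) := by
            intro a b h
            have h' : g⁻¹ * (a : G) * g = g⁻¹ * b * g := congrArg Subtype.val h
            apply Subtype.ext
            exact mul_left_cancel (mul_right_cancel h')
          have hsurj := Finite.surjective_of_injective hinj
          intro m
          constructor
          · intro hm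
            rw [inv_inv]; exact hg m hm
          · intro hm
            rw [inv_inv] at hm
            obtain ⟨a, ha⟩ := hsurj ⟨_, hm⟩
            have h' : g⁻¹ * (a : G) * g = g⁻¹ * m * g := congrArg Subtype.val ha
            have : (a : G) = m := mul_left_cancel (mul_right_cancel h')
            rw [← this]; exact a.2
        exact hcard
      have hNtop : Subgroup.normalizer (M : Set G) = ⊤ := by
        apply hMco.2
        apply lt_of_le_of_ne hle
        intro h
        apply hgM
        have : g⁻¹ ∈ M := by rw [h]; exact hgN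
        simpa using M.inv_mem this
      exact Subgroup.normalizer_eq_top_iff.mp hNtop
    have hFrob : Cfsg.IsFrobeniusComplement M := by
      rw [isFrobeniusComplement_iff]
      refine ⟨hMbot, hMco.1, ?_⟩
      intro g hg k hk hk2
      by_contra hk1
      apply hg
      apply hself
      intro m hm
      -- `g⁻¹ m g` commutes with `g⁻¹ k g ∈ M`, which is not the identity
      have hk3 : g⁻¹ * k * g ≠ 1 := by
        intro h
        apply hk1
        have e : k = g * (g⁻¹ * k * g) * g⁻¹ := by group
        rw [e, h]; group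
      rw [← hcentM _ hk2 hk3, mem_cent]
      have hmk : m * k = k * m := hab m hm k hk
      calc g⁻¹ * k * g * (g⁻¹ * m * g) = g⁻¹ * (k * m) * g := by group
        _ = g⁻¹ * (m * k) * g := by rw [hmk]
        _ = g⁻¹ * m * g * (g⁻¹ * k * g) := by group
    obtain ⟨N, hNK, hNn, hNc0⟩ := Cfsg.Agent.Lib.Lead.frobenius_kernel_subgroup M hFrob
    have hNc : Subgroup.IsComplement' N M := hNc0
    have hNK' : Cfsg.frobeniusKernel M = (N : Set G) := hNK.symm
    have hNtop : N ≠ ⊤ := by
      intro h
      have h1 := hNc.isCompl.inf_eq_bot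
      rw [h, top_inf_eq] at h1
      exact hMbot h1
    -- centralizers of nonidentity elements of the kernel
    have hcentN : ∀ k ∈ N, k ≠ 1 → Subgroup.centralizer ({k} : Set G) = N := by
      intro k hk hk1
      have hle : Subgroup.centralizer ({k} : Set G) ≤ N := by
        intro g hg
        by_contra hgN
        obtain ⟨hg1, c, hc⟩ := exists_conj_mem_of_not_mem_kernel hNK' hgN
        have hc1 : c⁻¹ * g * c ≠ 1 := by
          intro h
          apply hg1
          have e : g = c * (c⁻¹ * g * c) * c⁻¹ := by group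
          rw [e, h]; group
        rw [mem_cent] at hg
        have hkM : c⁻¹ * k * c ∈ M := by
          apply mem_of_commute_of_isFrobeniusComplement hFrob hc hc1
          calc c⁻¹ * k * c * (c⁻¹ * g * c) = c⁻¹ * (k * g) * c := by group
            _ = c⁻¹ * (g * k) * c := by rw [hg]
            _ = c⁻¹ * g * c * (c⁻¹ * k * c) := by group
        exact hk1 (eq_one_of_mem_kernel_of_conj_mem hNK' hk hkM)
      rcases (hC k hk1).le_iff.mp hle with h | h
      · exact absurd h hNtop
      · exact h.symm
    have hNab : ∀ a ∈ N, ∀ b ∈ N, a * b = b * a := by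
      intro a ha b hb
      by_cases ha1 : a = 1
      · rw [ha1, one_mul, mul_one]
      · have : b ∈ Subgroup.centralizer ({a} : Set G) := by rw [hcentN a ha ha1]; exact hb
        exact mem_cent.mp this
    have hrep : ∀ a : G, ∃ m ∈ M, (a : G ⧸ N) = (m : G ⧸ N) := by
      intro a
      have ha : a ∈ N ⊔ M := by rw [hNc.sup_eq_top]; trivial
      obtain ⟨n, hn, m, hm, rfl⟩ := Subgroup.mem_sup_of_normal_left.mp ha
      refine ⟨m, hm, ?_⟩
      rw [QuotientGroup.mk_mul, (QuotientGroup.eq_one_iff n).mpr hn, one_mul]
    refine solvable_of_abelian_of_quot N hNab ?_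
    intro a b
    induction a using QuotientGroup.induction_on with
    | H a =>
      induction b using QuotientGroup.induction_on with
      | H b =>
        obtain ⟨m₁, hm₁, e₁⟩ := hrep a
        obtain ⟨m₂, hm₂, e₂⟩ := hrep b
        rw [e₁, e₂, ← QuotientGroup.mk_mul, ← QuotientGroup.mk_mul, hab m₁ hm₁ m₂ hm₂]

/-- the hypothesis passes to the quotient by the centre -/
theorem quot_center_hyp
    (h : ∀ g : G, g ∉ Subgroup.center G → IsCoatom (Subgroup.centralizer ({g} : Set G))) :
    ∀ q : G ⧸ Subgroup.center G, q ∉ Subgroup.center (G ⧸ Subgroup.center G) →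
      IsCoatom (Subgroup.centralizer ({q} : Set (G ⧸ Subgroup.center G))) := by
  intro q hq
  induction q using QuotientGroup.induction_on with
  | H g =>
    have hsurj := QuotientGroup.mk'_surjective (Subgroup.center G)
    have hgZ : g ∉ Subgroup.center G := by
      intro hg
      apply hq
      rw [(QuotientGroup.eq_one_iff g).mpr hg]
      exact Subgroup.one_mem _
    have hco := h g hgZ
    obtain ⟨C, hCdef⟩ : ∃ C, C = Subgroup.centralizer
      ({(g : G ⧸ Subgroup.center G)} : Set (G ⧸ Subgroup.center G)) := ⟨_, rfl⟩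
    rw [← hCdef]
    have hCtop : C ≠ ⊤ := by
      intro htop
      apply hq
      rw [Subgroup.mem_center_iff]
      intro y
      have : y ∈ C := by rw [htop]; trivial
      rw [hCdef, Subgroup.mem_centralizer_singleton_iff] at this
      exact this
    have hle : Subgroup.centralizer ({g} : Set G) ≤
        Subgroup.comap (QuotientGroup.mk' (Subgroup.center G)) C := by
      intro k hk
      rw [Subgroup.mem_centralizer_singleton_iff] at hk
      rw [Subgroup.mem_comap, hCdef, Subgroup.mem_centralizer_singleton_iff]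
      show (k : G ⧸ Subgroup.center G) * (g : G ⧸ Subgroup.center G) = g * k
      rw [← QuotientGroup.mk_mul, ← QuotientGroup.mk_mul, hk]
    have hcomap : Subgroup.comap (QuotientGroup.mk' (Subgroup.center G)) C =
        Subgroup.centralizer ({g} : Set G) := by
      rcases hco.le_iff.mp hle with h1 | h1
      · exfalso
        apply hCtop
        apply Subgroup.comap_injective hsurj
        rw [h1, Subgroup.comap_top]
      · exact h1
    refine ⟨hCtop, ?_⟩
    intro L hL
    apply Subgroup.comap_injective hsurj
    rw [Subgroup.comap_top]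
    apply hco.2
    rw [← hcomap]
    apply lt_of_le_of_ne (Subgroup.comap_mono hL.le)
    intro heq
    exact hL.ne (Subgroup.comap_injective hsurj heq)

theorem solvable_aux (n : ℕ) : ∀ (G : Type u) [Group G] [Finite G], Nat.card G ≤ n →
    (∀ g : G, g ∉ Subgroup.center G → IsCoatom (Subgroup.centralizer ({g} : Set G))) →
    Group.IsSolvable G := by
  induction n with
  | zero =>
    intro G _ _ hcard _
    have := Nat.card_pos (α := G)
    omega
  | succ n ih =>
    intro G _ _ hcard h
    by_cases hZ : Subgroup.center G = ⊥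
    · by_cases hnt : Nontrivial G
      · have hC : ∀ x : G, x ≠ 1 → IsCoatom (Subgroup.centralizer ({x} : Set G)) := by
          intro x hx
          apply h
          rw [hZ, Subgroup.mem_bot]
          exact hx
        by_cases hex : ∃ x : G, x ≠ 1 ∧ ∀ a ∈ Subgroup.centralizer ({x} : Set G),
            ∀ b ∈ Subgroup.centralizer ({x} : Set G), a * b = b * a
        · obtain ⟨x, hx, hab⟩ := hex
          exact solvable_of_abelian_cent hC hx hab
        · exfalso
          push Not at hex
          apply false_of_nonabelian hZ hnt hC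
          intro x hx hab
          obtain ⟨a, ha, b, hb, hne⟩ := hex x hx
          exact hne (hab a ha b hb)
      · rw [not_nontrivial_iff_subsingleton] at hnt
        infer_instance
    · -- pass to the quotient by the centre
      have hlt : Nat.card (G ⧸ Subgroup.center G) < Nat.card G := by
        have h1 := Subgroup.card_mul_index (Subgroup.center G)
        have h2 : 1 < Nat.card (Subgroup.center G) := by
          rw [Subgroup.one_lt_card_iff_ne_bot]; exact hZ
        have h3 : (Subgroup.center G).index = Nat.card (G ⧸ Subgroup.center G) := rfl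
        have h4 : 0 < (Subgroup.center G).index :=
          Nat.pos_of_ne_zero Subgroup.index_ne_zero_of_finite
        rw [← h3, ← h1]
        nlinarith
      have hsolv : Group.IsSolvable (G ⧸ Subgroup.center G) :=
        ih (G ⧸ Subgroup.center G) (by omega) (quot_center_hyp h)
      have hZs : Group.IsSolvable (Subgroup.center G) :=
        Group.isSolvable_of_comm (fun a b => Subtype.ext (Subgroup.mem_center_iff.mp b.2 a))
      refine Group.isSolvable_of_ker_le_range (Subgroup.center G).subtype
        (QuotientGroup.mk' (Subgroup.center G)) ?_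
      rw [QuotientGroup.ker_mk', Subgroup.range_subtype]
/-- Let G be a finite group in which the centralizer of every non-central element is a maximal subgroup of G. Then G is solvable. -/
theorem result {G : Type*} [Group G] [Finite G]
    (h : ∀ g : G, g ∉ Subgroup.center G → IsCoatom (Subgroup.centralizer ({g} : Set G))) :
    Group.IsSolvable G :=
  solvable_aux (Nat.card G) G le_rfl h

end Cfsg.Agent.S4262
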