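import Mathlib
import Cfsg.Agent.Lib.Helper5.Simple168
import Cfsg.Agent.S0255
import Cfsg.Statements.S0495

set_option autoImplicit false
open Cfsg

namespace Cfsg.Agent.S0495

open Cfsg.Agent.Lib.Helper5 Cfsg.Agent.S0255 Matrix

/-- `PSL₂(7)` is the group presented by `Pres168.rels`. -/
theorem nonempty_presented_psl {F : Type*} [Field F] [Fintype F] (hF : Fintype.card F = 7) :
    Nonempty (PresentedGroup Pres168.rels ≃* Matrix.ProjectiveSpecialLinearGroup (Fin 2) F) := by
  haveI : Fact (Nat.Prime 7) := ⟨by norm_num⟩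
  haveI : CharP F 7 := charP_of_card_eq_prime hF
  let φ : ZMod 7 →+* F := ZMod.castHom (dvd_refl 7) F
  haveI : IsSimpleGroup (Matrix.ProjectiveSpecialLinearGroup (Fin 2) F) :=
    Matrix.ProjectiveSpecialLinearGroup.rank_two_simple (by
      rw [Nat.card_eq_fintype_card, hF]; norm_num)
  refine Pres168.nonempty_mulEquiv (card_PSL2_seven hF) (pslOf φ x7 x7_det) (pslOf φ y7 y7_det)
    ?_ ?_ ?_ ?_ ?_ ?_ ?_
  · rw [pslOf_pow, pslOf_congr φ x7_pow _ neg_one_det7, pslOf_neg_one]
  · rw [pslOf_pow, pslOf_congr φ y7_pow _ neg_one_det7, pslOf_neg_one]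
  · rw [pslOf_mul, pslOf_pow, pslOf_congr φ xy7_pow _ neg_one_det7, pslOf_neg_one]
  · rw [pslOf_mul, pslOf_mul, pslOf_mul, pslOf_mul, pslOf_pow,
      pslOf_congr φ c7_pow _ neg_one_det7, pslOf_neg_one]
  · refine pslOf_ne_one φ x7 x7_det 0 1 (by decide) ?_
    rw [Ne, map_eq_zero]
    exact x7_01
  · refine pslOf_ne_one φ y7 y7_det 0 1 (by decide) ?_
    rw [Ne, map_eq_zero]
    exact y7_01
  · rw [pslOf_mul]
    refine pslOf_ne_one φ (x7 * y7) _ 0 1 (by decide) ?_
    rw [Ne, map_eq_zero]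
    exact xy7_01

/-- A simple group of order 168 is isomorphic to the projective special linear group of dimension 2 over the field with
7 elements. -/
theorem result {G : Type*} [Group G] [Finite G] [IsSimpleGroup G]
    (h : Nat.card G = 168) {F : Type*} [Field F] [Fintype F] (hF : Fintype.card F = 7) :
    Nonempty (G ≃* Matrix.ProjectiveSpecialLinearGroup (Fin 2) F) := by
  obtain ⟨e1⟩ := Simple168.nonempty_presented_mulEquiv h
  obtain ⟨e2⟩ := nonempty_presented_psl hF
  exact ⟨e1.symm.trans e2⟩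

end Cfsg.Agent.S0495
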