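import Cfsg.Statements.S4517
import Cfsg.Agent.Lib.Helper79.RealBlock2

set_option autoImplicit false
open Cfsg

namespace Cfsg.Agent.S4517

/-- Let G be a finite group, M a maximal ideal of the algebraic integers containing 2, and k a natural number coprime to the order of G with g ^ k = g⁻¹ for every element g of odd order (so that g ↦ g ^ k induces a field automorphism of the character values inverting the roots of unity of odd order). If B is a 2-block of full defect (its defect equals the exponent of 2 in the order of G) that is stable under χ ↦ χ ∘ (· ^ k), then B is the principal 2-block. -/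
theorem result {G : Type*} [Group G] [Finite G] (M : Ideal Cfsg.AlgInt) (hM : Cfsg.IsPModular 2 M) (k : ℕ) (hk : Nat.Coprime k (Nat.card G)) (hk₂ : ∀ g : G, Odd (orderOf g) → g ^ k = g⁻¹) (B : Set (Cfsg.IrrCharacter G)) (hB : Cfsg.IsPBlock M B) (hdef : Cfsg.blockDefect 2 B = (Nat.card G).factorization 2) (hstab : ∀ χ ∈ B, ∃ ψ ∈ B, ∀ g : G, (ψ : G → ℂ) g = (χ : G → ℂ) (g ^ k)) : B = Cfsg.principalBlock M G := by
  classical
  let _ : Fintype G := Fintype.ofFinite G
  let _ : Fintype (Cfsg.IrrCharacter G) := Fintype.ofFinite _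
  have : Fact (Nat.Prime 2) := ⟨Nat.prime_two⟩
  have hMp := Cfsg.Agent.Lib.Helper16.isPrime_of_isPModular hM
  choose! f hfB hfval using hstab
  obtain ⟨f', hf'⟩ : ∃ f' : Cfsg.IrrCharacter G → Cfsg.IrrCharacter G,
      ∀ χ, f' χ = if χ ∈ B then f χ else χ := ⟨fun χ => if χ ∈ B then f χ else χ, fun χ => rfl⟩
  have hpow : ∀ y : G, ∃ g : G, g ^ k = y := by
    intro y
    exact ⟨(powCoprime hk.symm).symm y, (powCoprime hk.symm).apply_symm_apply y⟩
  have hinj : Function.Injective f' := by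
    intro χ₁ χ₂ h12
    rw [hf' χ₁, hf' χ₂] at h12
    by_cases h1 : χ₁ ∈ B
    · by_cases h2 : χ₂ ∈ B
      · rw [if_pos h1, if_pos h2] at h12
        apply Subtype.ext
        funext y
        obtain ⟨g, rfl⟩ := hpow y
        rw [← hfval χ₁ h1 g, ← hfval χ₂ h2 g, h12]
      · rw [if_pos h1, if_neg h2] at h12
        exact absurd (h12 ▸ hfB χ₁ h1) h2
    · by_cases h2 : χ₂ ∈ B
      · rw [if_neg h1, if_pos h2] at h12
        exact absurd (h12 ▸ hfB χ₂ h2) h1
      · rw [if_neg h1, if_neg h2] at h12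
        exact h12
  have hbij : Function.Bijective f' := Finite.injective_iff_bijective.mp hinj
  have hbinv : ∀ g : G, Cfsg.blockCoeff B g⁻¹ = Cfsg.blockCoeff B g := by
    intro g
    by_cases h2 : 2 ∣ orderOf g
    · rw [Cfsg.Agent.Lib.Helper77.blockCoeff_eq_zero_of_singular hM B hB h2,
        Cfsg.Agent.Lib.Helper77.blockCoeff_eq_zero_of_singular hM B hB
          (by rwa [orderOf_inv])]
    · have hodd : Odd (orderOf g) :=
        Nat.not_even_iff_odd.mp (fun he => h2 (even_iff_two_dvd.mp he))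
      unfold Cfsg.blockCoeff
      congr 1
      rw [Cfsg.Agent.Lib.Helper16.finsum_mem_eq_sum_ite,
        Cfsg.Agent.Lib.Helper16.finsum_mem_eq_sum_ite]
      refine Fintype.sum_equiv (Equiv.ofBijective f' hbij) _ _ (fun χ => ?_)
      show (if χ ∈ B then (χ : G → ℂ) 1 * (starRingEnd ℂ) ((χ : G → ℂ) g⁻¹) else 0) =
        if f' χ ∈ B then ((f' χ : Cfsg.IrrCharacter G) : G → ℂ) 1 *
          (starRingEnd ℂ) (((f' χ : Cfsg.IrrCharacter G) : G → ℂ) g) else 0
      by_cases hχ : χ ∈ B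
      · have e1 : f' χ = f χ := by rw [hf' χ, if_pos hχ]
        rw [if_pos hχ, e1, if_pos (hfB χ hχ), hfval χ hχ 1, hfval χ hχ g, one_pow,
          hk₂ g hodd]
      · have e1 : f' χ = χ := by rw [hf' χ, if_neg hχ]
        rw [if_neg hχ, e1, if_neg hχ]
  -- a character of odd degree in `B`
  obtain ⟨ψ₀, hψ₀, hψ₀odd⟩ : ∃ ψ₀ ∈ B, ¬ 2 ∣ Cfsg.charDegree (ψ₀ : G → ℂ) := by
    unfold Cfsg.blockDefect at hdef
    have hne : ((fun χ : Cfsg.IrrCharacter G =>
        (Cfsg.charDegree (χ : G → ℂ)).factorization 2) '' B).Nonempty :=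
      (Cfsg.Agent.Lib.Helper16.IsPBlock.nonempty hMp hB).image _
    obtain ⟨ψ₀, hψ₀, hψ₀s⟩ := Nat.sInf_mem hne
    refine ⟨ψ₀, hψ₀, ?_⟩
    obtain ⟨-, hpos, hdvd⟩ := Cfsg.Agent.Lib.Helper79.irr_charDegree ψ₀.2
    have hle : (Cfsg.charDegree (ψ₀ : G → ℂ)).factorization 2 ≤ (Nat.card G).factorization 2 :=
      (Nat.factorization_le_iff_dvd hpos.ne' Nat.card_pos.ne').mpr hdvd 2
    have hzero : (Cfsg.charDegree (ψ₀ : G → ℂ)).factorization 2 = 0 := by
      simp only at hψ₀s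
      omega
    rcases (Nat.factorization_eq_zero_iff _ _).mp hzero with h | h | h
    · exact absurd Nat.prime_two h
    · exact h
    · exact absurd h hpos.ne'
  have hsymm : ∀ h : G, ¬ 2 ∣ orderOf h → Cfsg.MemLocalIdeal M
      (Cfsg.centralChar (ψ₀ : G → ℂ) h⁻¹ - Cfsg.centralChar (ψ₀ : G → ℂ) h) := by
    intro h h2
    have hodd : Odd (orderOf h) :=
      Nat.not_even_iff_odd.mp (fun he => h2 (even_iff_two_dvd.mp he))
    have hsb := Cfsg.Agent.Lib.Helper16.IsPBlock.sameBlock hMp hB (hfB ψ₀ hψ₀) hψ₀ h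
    have e : Cfsg.centralChar ((f ψ₀ : Cfsg.IrrCharacter G) : G → ℂ) h =
        Cfsg.centralChar (ψ₀ : G → ℂ) h⁻¹ := by
      unfold Cfsg.centralChar
      rw [hfval ψ₀ hψ₀ h, hfval ψ₀ hψ₀ 1, one_pow, hk₂ h hodd,
        Cfsg.Agent.Lib.Helper79.centralizer_inv_eq h]
    rw [← e]
    exact hsb
  exact Cfsg.Agent.Lib.Helper79.principal_of_inv_symm hM B hB hbinv ψ₀ hψ₀ hψ₀odd hsymm

end Cfsg.Agent.S4517
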