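import Mathlib
import Cfsg.Statements.S3807

set_option autoImplicit false
open Cfsg

namespace Cfsg.Agent.S3807

open scoped commutatorElement

section general

variable {S : Type*} [Group S]

theorem maximal_of_index_prime {p : ℕ} (hp : p.Prime) {A : Subgroup S}
    (hAi : A.index = p) {K : Subgroup S} (hAK : A ≤ K) {k : S} (hk : k ∈ K) (hkA : k ∉ A) :
    K = ⊤ := by
  have h1 := Subgroup.relIndex_mul_index hAK
  rw [hAi] at h1
  have h2 : K.index ∣ p := Dvd.intro_left _ h1
  rcases (Nat.dvd_prime hp).mp h2 with h | h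
  · exact Subgroup.index_eq_one.mp h
  · exfalso
    rw [h] at h1
    have h3 : A.relIndex K = 1 := by
      have := hp.pos
      nlinarith
    exact hkA (Subgroup.relIndex_eq_one.mp h3 hk)

theorem isMulCommutative_of_center_eq_top (h : Subgroup.center S = ⊤) : IsMulCommutative S := by
  refine ⟨⟨fun a b => ?_⟩⟩
  have hb : b ∈ Subgroup.center S := by rw [h]; trivial
  exact (Subgroup.mem_center_iff.mp hb a)

theorem center_le {p : ℕ} (hp : p.Prime) (hna : ¬ IsMulCommutative S) {A : Subgroup S}
    (hA : IsMulCommutative A) (hAi : A.index = p) : Subgroup.center S ≤ A := by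
  intro z hz
  by_contra hzA
  apply hna
  have h1 : Subgroup.centralizer (A : Set S) = ⊤ :=
    maximal_of_index_prime hp hAi (Subgroup.le_centralizer A)
      (Subgroup.center_le_centralizer _ hz) hzA
  have h2 : A ≤ Subgroup.center S := by
    intro a ha
    rw [Subgroup.mem_center_iff]
    intro g
    have hg : g ∈ Subgroup.centralizer (A : Set S) := by rw [h1]; trivial
    exact (Subgroup.mem_centralizer_iff.mp hg a ha).symm
  have h3 : Subgroup.center S = ⊤ := maximal_of_index_prime hp hAi h2 hz hzA
  exact isMulCommutative_of_center_eq_top h3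

/-- an element centralizing `A` and an element outside `A` is central -/
theorem mem_center_of_comm {p : ℕ} (hp : p.Prime) {A : Subgroup S} (hAi : A.index = p) {x : S}
    (hx : x ∉ A) {g : S} (hgA : ∀ a ∈ A, a * g = g * a) (hgx : x * g = g * x) :
    g ∈ Subgroup.center S := by
  have h1 : Subgroup.centralizer ({g} : Set S) = ⊤ := by
    apply maximal_of_index_prime hp hAi (k := x) _ _ hx
    · intro a ha
      rw [Subgroup.mem_centralizer_iff]
      intro h hh
      rw [Set.mem_singleton_iff] at hh
      rw [hh]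
      exact (hgA a ha).symm
    · rw [Subgroup.mem_centralizer_iff]
      intro h hh
      rw [Set.mem_singleton_iff] at hh
      rw [hh]
      exact hgx.symm
  rw [Subgroup.mem_center_iff]
  intro h
  have hh : h ∈ Subgroup.centralizer ({g} : Set S) := by rw [h1]; trivial
  exact (Subgroup.mem_centralizer_iff.mp hh g rfl).symm

/-- The commutator map `a ↦ a x a⁻¹ x⁻¹` on an abelian normal subgroup. -/
def commHom (A : Subgroup S) [hA : IsMulCommutative A] [hAn : A.Normal] (x : S) : A →* S :=
  MonoidHom.mk' (fun a => (a : S) * x * (a : S)⁻¹ * x⁻¹) (by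
    intro a b
    have h1 : x * (a : S)⁻¹ * x⁻¹ ∈ A := hAn.conj_mem _ (A.inv_mem a.2) x
    have h2 : (x * (a : S)⁻¹ * x⁻¹) * (b : S) = (b : S) * (x * (a : S)⁻¹ * x⁻¹) :=
      setLike_mul_comm h1 b.2
    have h3 : (a : S) * b = b * a := setLike_mul_comm a.2 b.2
    have h3' : ((a : S) * b)⁻¹ = (a : S)⁻¹ * (b : S)⁻¹ := by rw [h3, mul_inv_rev]
    simp only [Subgroup.coe_mul]
    calc (a : S) * b * x * ((a : S) * b)⁻¹ * x⁻¹
        = a * (b * (x * (a : S)⁻¹ * x⁻¹)) * (x * (b : S)⁻¹ * x⁻¹) := by rw [h3']; group
      _ = a * ((x * (a : S)⁻¹ * x⁻¹) * b) * (x * (b : S)⁻¹ * x⁻¹) := by rw [h2]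
      _ = _ := by group)

theorem commHom_apply (A : Subgroup S) [hA : IsMulCommutative A] [hAn : A.Normal] (x : S)
    (a : A) : commHom A x a = (a : S) * x * (a : S)⁻¹ * x⁻¹ := rfl

theorem commHom_mem (A : Subgroup S) [hA : IsMulCommutative A] [hAn : A.Normal] (x : S)
    (a : A) : commHom A x a ∈ A := by
  rw [commHom_apply]
  have h1 : x * (a : S)⁻¹ * x⁻¹ ∈ A := hAn.conj_mem _ (A.inv_mem a.2) x
  have := A.mul_mem a.2 h1
  have e : (a : S) * (x * (a : S)⁻¹ * x⁻¹) = (a : S) * x * (a : S)⁻¹ * x⁻¹ := by group
  rwa [e] at this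

theorem ker_commHom {p : ℕ} (hp : p.Prime) (hna : ¬ IsMulCommutative S) (A : Subgroup S)
    [hA : IsMulCommutative A] [hAn : A.Normal] (hAi : A.index = p) (x : S) (hx : x ∉ A) :
    (commHom A x).ker.map A.subtype = Subgroup.center S := by
  ext g
  constructor
  · rintro ⟨a, ha, rfl⟩
    have ha : a ∈ (commHom A x).ker := ha
    rw [MonoidHom.mem_ker, commHom_apply] at ha
    have h1 : (a : S) * x = x * a := by
      have := mul_inv_eq_one.mp ha
      exact mul_inv_eq_iff_eq_mul.mp this
    exact mem_center_of_comm hp hAi hx (fun b hb => setLike_mul_comm hb a.2) h1.symm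
  · intro hg
    have hgA : g ∈ A := center_le hp hna hA hAi hg
    refine ⟨⟨g, hgA⟩, ?_, rfl⟩
    show _ ∈ (commHom A x).ker
    rw [MonoidHom.mem_ker, commHom_apply]
    have := Subgroup.mem_center_iff.mp hg x
    simp only
    rw [← this]; group

theorem range_commHom {p : ℕ} (hp : p.Prime) [Finite S] (A : Subgroup S)
    [hA : IsMulCommutative A] [hAn : A.Normal] (hAi : A.index = p) (x : S) (hx : x ∉ A) :
    (commHom A x).range = commutator S := by
  apply le_antisymm
  · rintro _ ⟨a, rfl⟩
    rw [commHom_apply, commutator_def]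
    exact Subgroup.commutator_mem_commutator (Subgroup.mem_top (a : S)) (Subgroup.mem_top x)
  · obtain ⟨I, hI⟩ : ∃ I : Subgroup S, I = (commHom A x).range := ⟨_, rfl⟩
    rw [← hI]
    have hIA : I ≤ A := by
      rw [hI]
      rintro _ ⟨a, rfl⟩
      exact commHom_mem A x a
    have hIn : I.Normal := by
      rw [← Subgroup.normalizer_eq_top_iff]
      apply maximal_of_index_prime hp hAi (k := x) _ _ hx
      · intro a ha
        apply Subgroup.mem_normalizer_fintype
        intro i hi
        have h1 : a * i = i * a := setLike_mul_comm ha (hIA hi)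
        have h2 : a * i * a⁻¹ = i := by rw [h1]; group
        rw [h2]; exact hi
      · apply Subgroup.mem_normalizer_fintype
        intro i hi
        have hi' : i ∈ I := hi
        rw [hI] at hi'
        obtain ⟨a, rfl⟩ := hi'
        have h1 : x * (a : S) * x⁻¹ ∈ A := hAn.conj_mem _ a.2 x
        have h2 : x * commHom A x a * x⁻¹ = commHom A x ⟨_, h1⟩ := by
          rw [commHom_apply, commHom_apply]; group
        rw [h2]
        show _ ∈ I
        rw [hI]
        exact ⟨_, rfl⟩
    -- the quotient is commutative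
    have hq1 : ∀ a ∈ A, (QuotientGroup.mk' I a) * (QuotientGroup.mk' I x)
        = (QuotientGroup.mk' I x) * (QuotientGroup.mk' I a) := by
      intro a ha
      have h1 : QuotientGroup.mk' I (a * x * a⁻¹ * x⁻¹) = 1 := by
        rw [QuotientGroup.mk'_apply, QuotientGroup.eq_one_iff, hI]
        exact ⟨⟨a, ha⟩, rfl⟩
      rw [map_mul, map_mul, map_mul, map_inv, map_inv] at h1
      have := mul_inv_eq_one.mp h1
      exact mul_inv_eq_iff_eq_mul.mp this
    have hqA : ∀ a ∈ A, ∀ g : S, (QuotientGroup.mk' I g) * (QuotientGroup.mk' I a)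
        = (QuotientGroup.mk' I a) * (QuotientGroup.mk' I g) := by
      intro a ha g
      have h1 : (Subgroup.centralizer ({QuotientGroup.mk' I a} : Set (S ⧸ I))).comap
          (QuotientGroup.mk' I) = ⊤ := by
        apply maximal_of_index_prime hp hAi (k := x) _ _ hx
        · intro b hb
          rw [Subgroup.mem_comap, Subgroup.mem_centralizer_iff]
          intro h hh
          rw [Set.mem_singleton_iff] at hh
          rw [hh, ← map_mul, ← map_mul, setLike_mul_comm ha hb]
        · rw [Subgroup.mem_comap, Subgroup.mem_centralizer_iff]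
          intro h hh
          rw [Set.mem_singleton_iff] at hh
          rw [hh]
          exact hq1 a ha
      have hg : g ∈ (Subgroup.centralizer ({QuotientGroup.mk' I a} : Set (S ⧸ I))).comap
          (QuotientGroup.mk' I) := by rw [h1]; trivial
      rw [Subgroup.mem_comap, Subgroup.mem_centralizer_iff] at hg
      exact (hg _ rfl).symm
    have hqx : ∀ g : S, (QuotientGroup.mk' I g) * (QuotientGroup.mk' I x)
        = (QuotientGroup.mk' I x) * (QuotientGroup.mk' I g) := by
      intro g
      have h1 : (Subgroup.centralizer ({QuotientGroup.mk' I x} : Set (S ⧸ I))).comap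
          (QuotientGroup.mk' I) = ⊤ := by
        apply maximal_of_index_prime hp hAi (k := x) _ _ hx
        · intro b hb
          rw [Subgroup.mem_comap, Subgroup.mem_centralizer_iff]
          intro h hh
          rw [Set.mem_singleton_iff] at hh
          rw [hh]
          exact (hq1 b hb).symm
        · rw [Subgroup.mem_comap, Subgroup.mem_centralizer_iff]
          intro h hh
          rw [Set.mem_singleton_iff] at hh
          rw [hh]
      have hg : g ∈ (Subgroup.centralizer ({QuotientGroup.mk' I x} : Set (S ⧸ I))).comap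
          (QuotientGroup.mk' I) := by rw [h1]; trivial
      rw [Subgroup.mem_comap, Subgroup.mem_centralizer_iff] at hg
      exact (hg _ rfl).symm
    have hqall : ∀ h g : S, (QuotientGroup.mk' I g) * (QuotientGroup.mk' I h)
        = (QuotientGroup.mk' I h) * (QuotientGroup.mk' I g) := by
      intro h
      have h1 : (Subgroup.center (S ⧸ I)).comap (QuotientGroup.mk' I) = ⊤ := by
        apply maximal_of_index_prime hp hAi (k := x) _ _ hx
        · intro b hb
          rw [Subgroup.mem_comap, Subgroup.mem_center_iff]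
          intro g
          obtain ⟨g, rfl⟩ := QuotientGroup.mk'_surjective I g
          exact hqA b hb g
        · rw [Subgroup.mem_comap, Subgroup.mem_center_iff]
          intro g
          obtain ⟨g, rfl⟩ := QuotientGroup.mk'_surjective I g
          exact hqx g
      have hh : h ∈ (Subgroup.center (S ⧸ I)).comap (QuotientGroup.mk' I) := by
        rw [h1]; trivial
      rw [Subgroup.mem_comap, Subgroup.mem_center_iff] at hh
      intro g
      exact hh _
    rw [commutator_def, Subgroup.commutator_le]
    intro g _ h _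
    rw [← QuotientGroup.eq_one_iff, commutatorElement_def]
    have := hqall h g
    have e : ((g * h * g⁻¹ * h⁻¹ : S) : S ⧸ I) = QuotientGroup.mk' I g * QuotientGroup.mk' I h
        * (QuotientGroup.mk' I g)⁻¹ * (QuotientGroup.mk' I h)⁻¹ := rfl
    rw [e, this]; group

theorem card_A_eq {p : ℕ} (hp : p.Prime) [Finite S] (hna : ¬ IsMulCommutative S) (A : Subgroup S)
    [hA : IsMulCommutative A] [hAn : A.Normal] (hAi : A.index = p) (x : S) (hx : x ∉ A) :
    Nat.card A = Nat.card (Subgroup.center S) * Nat.card (commutator S) := by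
  have h1 := Subgroup.card_eq_card_quotient_mul_card_subgroup (commHom A x).ker
  have h2 : Nat.card (A ⧸ (commHom A x).ker) = Nat.card (commHom A x).range :=
    Nat.card_congr (QuotientGroup.quotientKerEquivRange (commHom A x)).toEquiv
  have h3 : Nat.card (commHom A x).ker = Nat.card (Subgroup.center S) := by
    rw [← ker_commHom hp hna A hAi x hx, Subgroup.card_map_of_injective A.subtype_injective]
  rw [h1, h2, h3, range_commHom hp A hAi x hx, mul_comm]

theorem center_index {p : ℕ} (hp : p.Prime) [Finite S] (hna : ¬ IsMulCommutative S)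
    (A : Subgroup S) [hA : IsMulCommutative A] [hAn : A.Normal] (hAi : A.index = p) :
    (Subgroup.center S).index = p * Nat.card (commutator S) := by
  obtain ⟨x, hx⟩ : ∃ x, x ∉ A := by
    by_contra hcon
    push Not at hcon
    have : A = ⊤ := (Subgroup.eq_top_iff' A).mpr hcon
    rw [this, Subgroup.index_top] at hAi
    exact hp.one_lt.ne hAi
  have h1 := card_A_eq hp hna A hAi x hx
  have h2 := Subgroup.card_mul_index A
  have h3 := Subgroup.card_mul_index (Subgroup.center S)
  rw [hAi, h1] at h2
  have hpos : 0 < Nat.card (Subgroup.center S) := Nat.card_pos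
  apply Nat.eq_of_mul_eq_mul_left hpos
  rw [h3, ← h2]; ring

theorem card_subgroups_order_p {Q : Type*} [Group Q] [Finite Q] {p : ℕ} (hp : p.Prime)
    (hQ : Nat.card Q = p ^ 2) (hexp : ∀ a : Q, a ^ p = 1) :
    Nat.card {H : Subgroup Q // Nat.card H = p} = p + 1 := by
  classical
  have := Fintype.ofFinite Q
  have : Fact p.Prime := ⟨hp⟩
  have hord : ∀ g : Q, g ≠ 1 → Nat.card (Subgroup.zpowers g) = p := by
    intro g hg
    rw [Nat.card_zpowers]
    exact orderOf_eq_prime (hexp g) hg
  let f : {g : Q // g ≠ 1} → {H : Subgroup Q // Nat.card H = p} :=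
    fun g => ⟨Subgroup.zpowers g.1, hord g.1 g.2⟩
  have hfib : ∀ y : {H : Subgroup Q // Nat.card H = p},
      Nat.card {x : {g : Q // g ≠ 1} // f x = y} = p - 1 := by
    intro y
    have e : {x : {g : Q // g ≠ 1} // f x = y} ≃ {g : y.1 // g ≠ 1} :=
      { toFun := fun x => ⟨⟨x.1.1, by
          have h := congrArg Subtype.val x.2
          have h' : Subgroup.zpowers x.1.1 = y.1 := h
          rw [← h']; exact Subgroup.mem_zpowers _⟩, by
            intro h; exact x.1.2 (congrArg Subtype.val h)⟩
        invFun := fun g => ⟨⟨g.1.1, fun h => g.2 (Subtype.ext h)⟩, by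
          apply Subtype.ext
          show Subgroup.zpowers g.1.1 = y.1
          apply Subgroup.eq_of_le_of_card_ge (Subgroup.zpowers_le.mpr g.1.2)
          rw [y.2, hord _ (fun h => g.2 (Subtype.ext h))]⟩
        left_inv := fun x => by rfl
        right_inv := fun g => by rfl }
    rw [Nat.card_congr e]
    have := Fintype.ofFinite y.1
    rw [Nat.card_eq_fintype_card, Fintype.card_subtype_compl, Fintype.card_subtype_eq,
      ← Nat.card_eq_fintype_card, y.2]
  have h1 : Nat.card {g : Q // g ≠ 1} = p ^ 2 - 1 := by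
    rw [Nat.card_eq_fintype_card, Fintype.card_subtype_compl, Fintype.card_subtype_eq,
      ← Nat.card_eq_fintype_card, hQ]
  have := Fintype.ofFinite {H : Subgroup Q // Nat.card H = p}
  have h2 : Nat.card {g : Q // g ≠ 1} = Nat.card {H : Subgroup Q // Nat.card H = p} * (p - 1) := by
    rw [← Nat.card_congr (Equiv.sigmaFiberEquiv f), Nat.card_sigma]
    simp only [hfib]
    rw [Finset.sum_const, Finset.card_univ, smul_eq_mul, Nat.card_eq_fintype_card]
  rw [h1] at h2
  have hp2 := hp.two_le
  have h3 : p ^ 2 - 1 = (p + 1) * (p - 1) := by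
    obtain ⟨k, rfl⟩ : ∃ k, p = k + 1 := ⟨p - 1, by omega⟩
    simp only [Nat.add_sub_cancel]
    have : (k + 1) ^ 2 = (k + 1 + 1) * k + 1 := by ring
    rw [this]; simp
  rw [h3] at h2
  exact (Nat.eq_of_mul_eq_mul_right (by omega) h2).symm

theorem card_abelian_index_p [Finite S] {p : ℕ} (hp : p.Prime) (hna : ¬ IsMulCommutative S)
    (hZ : Nat.card (S ⧸ Subgroup.center S) = p ^ 2)
    (hexp : ∀ a : S ⧸ Subgroup.center S, a ^ p = 1) :
    Nat.card {B : Subgroup S // IsMulCommutative ↥B ∧ B.index = p} = p + 1 := by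
  rw [← card_subgroups_order_p hp hZ hexp]
  apply Nat.card_congr
  have hpos := hp.pos
  refine
    { toFun := fun B => ⟨B.1.map (QuotientGroup.mk' (Subgroup.center S)), ?_⟩
      invFun := fun H => ⟨H.1.comap (QuotientGroup.mk' (Subgroup.center S)), ?_, ?_⟩
      left_inv := fun B => Subtype.ext (Subgroup.comap_map_eq_self (by
        rw [QuotientGroup.ker_mk']; exact center_le hp hna B.2.1 B.2.2))
      right_inv := fun H => Subtype.ext
        (Subgroup.map_comap_eq_self_of_surjective (QuotientGroup.mk'_surjective _) _) }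
  · have h1 := Subgroup.index_map B.1 (QuotientGroup.mk' (Subgroup.center S))
    rw [QuotientGroup.ker_mk', sup_eq_left.mpr (center_le hp hna B.2.1 B.2.2),
      MonoidHom.range_eq_top.mpr (QuotientGroup.mk'_surjective _), Subgroup.index_top,
      mul_one, B.2.2] at h1
    have h2 := Subgroup.card_mul_index (B.1.map (QuotientGroup.mk' (Subgroup.center S)))
    rw [h1, hZ, sq] at h2
    exact Nat.eq_of_mul_eq_mul_right hpos h2
  · -- commutative
    have hcyc : IsCyclic H.1 := isCyclic_of_prime_card (hp := ⟨hp⟩) H.2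
    obtain ⟨h0, hh0⟩ := IsCyclic.exists_generator (α := H.1)
    obtain ⟨g0, hg0⟩ := QuotientGroup.mk'_surjective (Subgroup.center S) h0.1
    have key : ∀ u : S, QuotientGroup.mk' (Subgroup.center S) u ∈ H.1 →
        ∃ i : ℤ, ∃ z ∈ Subgroup.center S, u = g0 ^ i * z := by
      intro u hu
      obtain ⟨i, hi⟩ := Subgroup.mem_zpowers_iff.mp (hh0 ⟨_, hu⟩)
      have hi' : (h0 : S ⧸ Subgroup.center S) ^ i = QuotientGroup.mk' (Subgroup.center S) u := by
        have := congrArg Subtype.val hi
        simpa using this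
      rw [← hg0, ← map_zpow] at hi'
      have h3 : (g0 ^ i)⁻¹ * u ∈ Subgroup.center S := by
        rw [← QuotientGroup.eq]
        exact hi'
      exact ⟨i, _, h3, by group⟩
    refine ⟨⟨fun a b => Subtype.ext ?_⟩⟩
    obtain ⟨i, z, hz, hu⟩ := key a.1 a.2
    obtain ⟨j, z', hz', hv⟩ := key b.1 b.2
    have hzc := Subgroup.mem_center_iff.mp hz
    have hzc' := Subgroup.mem_center_iff.mp hz'
    show (a : S) * (b : S) = (b : S) * (a : S)
    rw [hu, hv]
    calc g0 ^ i * z * (g0 ^ j * z') = g0 ^ i * (g0 ^ j * z) * z' := by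
          rw [hzc (g0 ^ j)]; group
      _ = g0 ^ (i + j) * (z' * z) := by rw [zpow_add, ← hzc' z]; group
      _ = g0 ^ j * (g0 ^ i * z') * z := by rw [add_comm, zpow_add]; group
      _ = g0 ^ j * z' * (g0 ^ i * z) := by rw [hzc' (g0 ^ i)]; group
  · rw [Subgroup.index_comap_of_surjective _ (QuotientGroup.mk'_surjective _)]
    have h2 := Subgroup.card_mul_index H.1
    rw [H.2, hZ, sq] at h2
    exact Nat.eq_of_mul_eq_mul_left hpos h2

end general

/-- Let S be a non-abelian finite p-group with an abelian subgroup A of index p. Then [S : Z(S)] = p·#[S,S], and either [S,S] has order p, S/Z(S) is elementary abelian of order p², and S has exactly p + 1 abelian subgroups of index p; or [S,S] has order at least p² and A is the only abelian subgroup of index p in S. -/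
theorem result {S : Type*} [Group S] [Finite S] (p : ℕ) [Fact p.Prime] (hS : IsPGroup p S) (hna : ¬ IsMulCommutative S)
    (A : Subgroup S) (hA : IsMulCommutative ↥A) (hAi : A.index = p) :
    (Subgroup.center S).index = p * Nat.card (commutator S) ∧
      ((Nat.card (commutator S) = p ∧ Cfsg.IsElementaryAbelian p (⊤ : Subgroup (S ⧸ Subgroup.center S)) ∧
          Nat.card (S ⧸ Subgroup.center S) = p ^ 2 ∧
          Nat.card {B : Subgroup S // IsMulCommutative ↥B ∧ B.index = p} = p + 1) ∨
        (p ^ 2 ≤ Nat.card (commutator S) ∧ ∀ B : Subgroup S, IsMulCommutative ↥B → B.index = p → B = A)) := by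
  have hp : p.Prime := Fact.out
  have hAn : A.Normal := by
    obtain ⟨n, hn⟩ := IsPGroup.iff_card.mp hS
    apply Subgroup.normal_of_index_eq_minFac_card
    rw [hAi, hn]
    have hn0 : n ≠ 0 := by
      rintro rfl
      have h := Subgroup.card_mul_index A
      rw [hn, hAi, pow_zero] at h
      have : p ∣ 1 := Dvd.intro_left _ h
      exact hp.one_lt.ne' (Nat.dvd_one.mp this)
    exact (Nat.Prime.pow_minFac hp hn0).symm
  have hidx := center_index hp hna A hAi
  refine ⟨hidx, ?_⟩
  obtain ⟨k, hk⟩ := IsPGroup.iff_card.mp (hS.to_subgroup (commutator S))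
  have hk0 : k ≠ 0 := by
    rintro rfl
    apply hna
    rw [pow_zero] at hk
    have hbot : commutator S = ⊥ := Subgroup.eq_bot_of_card_eq _ hk
    refine ⟨⟨fun a b => ?_⟩⟩
    have : ⁅a, b⁆ ∈ commutator S := by
      rw [commutator_def]
      exact Subgroup.commutator_mem_commutator (Subgroup.mem_top a) (Subgroup.mem_top b)
    rw [hbot, Subgroup.mem_bot, commutatorElement_eq_one_iff_mul_comm] at this
    exact this
  by_cases hk1 : k = 1
  · left
    subst hk1
    rw [pow_one] at hk
    rw [hk] at hidx
    have hZ : Nat.card (S ⧸ Subgroup.center S) = p ^ 2 := by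
      rw [← Subgroup.index_eq_card, hidx, sq]
    have hexp : ∀ a : S ⧸ Subgroup.center S, a ^ p = 1 := by
      intro a
      have h1 : orderOf a ∣ p ^ 2 := hZ ▸ orderOf_dvd_natCard a
      obtain ⟨j, hj, hj2⟩ := (Nat.dvd_prime_pow hp).mp h1
      have hjne : j ≠ 2 := by
        rintro rfl
        apply hna
        have hcyc : IsCyclic (S ⧸ Subgroup.center S) :=
          isCyclic_of_orderOf_eq_card a (by rw [hj2, hZ])
        exact MonoidHom.isMulCommutative_of_isCyclic_of_ker_le_center
          (QuotientGroup.mk' (Subgroup.center S)) (by rw [QuotientGroup.ker_mk'])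
      have hj1 : j ≤ 1 := by omega
      have h2 : orderOf a ∣ p := by
        rw [hj2]
        have := pow_dvd_pow p hj1
        rwa [pow_one] at this
      exact orderOf_dvd_iff_pow_eq_one.mp h2
    refine ⟨hk, ⟨?_, fun a _ => hexp a⟩, hZ, ?_⟩
    · have hc := IsPGroup.isMulCommutative_of_card_eq_prime_sq hZ
      exact ⟨⟨fun a b => Subtype.ext (hc.is_comm.comm a.1 b.1)⟩⟩
    · exact card_abelian_index_p hp hna hZ hexp
  · right
    have hk2 : 2 ≤ k := by omega
    refine ⟨by rw [hk]; exact Nat.pow_le_pow_right hp.pos hk2, ?_⟩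
    intro B hB hBi
    by_contra hBA
    have hex : ∃ b ∈ B, b ∉ A := by
      by_contra hcon
      push Not at hcon
      have hBleA : B ≤ A := hcon
      have h1 := Subgroup.relIndex_mul_index hBleA
      rw [hAi, hBi] at h1
      have h3 : B.relIndex A = 1 := by
        have := hp.pos
        nlinarith
      exact hBA (le_antisymm hBleA (Subgroup.relIndex_eq_one.mp h3))
    obtain ⟨b, hbB, hbA⟩ := hex
    have hle : A ⊓ B ≤ Subgroup.center S := by
      intro g hg
      exact mem_center_of_comm hp hAi hbA (fun a ha => setLike_mul_comm ha hg.1)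
        (setLike_mul_comm hbB hg.2)
    have h1 : (Subgroup.center S).index ∣ (A ⊓ B).index := Subgroup.index_dvd_of_le hle
    have h2 : (A ⊓ B).index ≤ p * p := by
      have := Subgroup.index_inf_le (H := A) (K := B)
      rwa [hAi, hBi] at this
    have h3 : (A ⊓ B).index ≠ 0 := Subgroup.index_ne_zero_of_finite
    have h4 := Nat.le_of_dvd (Nat.pos_of_ne_zero h3) h1
    rw [hidx, hk] at h4
    have h5 : p ^ 2 ≤ p ^ k := Nat.pow_le_pow_right hp.pos hk2
    have h6 : p * p ^ 2 ≤ p * p := (Nat.mul_le_mul_left p h5).trans (h4.trans h2)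
    have h7 : p ^ 2 ≤ p := Nat.le_of_mul_le_mul_left h6 hp.pos
    have := hp.two_le
    nlinarith

end Cfsg.Agent.S3807
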