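import Mathlib
import Cfsg.Statements.S0662
import Cfsg.Agent.Lib.Helper73.MaxClass
import Cfsg.Agent.S3807

set_option autoImplicit false
open Cfsg

namespace Cfsg.Agent.S0662

/-- a group of order `p ^ r`, `r ≥ 2`, has class at most `r - 1`. -/
theorem lcs_eq_bot {Q : Type*} [Group Q] [Finite Q] {p : ℕ} [Fact p.Prime] (r : ℕ) (hr : 2 ≤ r)
    (hQ : Nat.card Q = p ^ r) : (⊤ : Subgroup Q).lowerCentralSeries (r - 1) = ⊥ := by
  have hp : p.Prime := Fact.out
  have hPQ : IsPGroup p Q := IsPGroup.of_card hQ
  haveI : Group.IsNilpotent Q := hPQ.isNilpotent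
  rw [Subgroup.lowerCentralSeries_eq_bot_iff_nilpotencyClass_le]
  by_contra hlt
  push Not at hlt
  have h1 := Cfsg.Agent.Lib.Helper73.pow_le_card_lowerCentralSeries hPQ
    (Group.nilpotencyClass Q - 1) 1 (by omega)
  rw [Subgroup.top_lowerCentralSeries_one] at h1
  have h2 := (commutator Q).card_mul_index
  rw [hQ] at h2
  obtain ⟨k, hkr, hk⟩ : ∃ k ≤ r, (commutator Q).index = p ^ k :=
    (Nat.dvd_prime_pow hp).mp (Dvd.intro_left _ h2)
  have hk0 : k ≠ 0 := by
    rintro rfl
    rw [pow_zero, Subgroup.index_eq_one] at hk
    have hlt' := Cfsg.Agent.Lib.Helper73.lowerCentralSeries_succ_lt (X := Q) (i := 0) (by omega)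
    rw [zero_add, Subgroup.top_lowerCentralSeries_one, hk, Subgroup.lowerCentralSeries_zero] at hlt'
    exact lt_irrefl _ hlt'
  have hk1 : k ≠ 1 := by
    rintro rfl
    rw [pow_one] at hk
    have hbot := Cfsg.Agent.Lib.Helper73.commutator_eq_bot_of_index_prime hPQ hk
    rw [← Subgroup.top_lowerCentralSeries_one,
      Subgroup.lowerCentralSeries_eq_bot_iff_nilpotencyClass_le] at hbot
    omega
  have h3 : p ^ (Group.nilpotencyClass Q - 1) * p ^ k ≤ p ^ r := by
    rw [← h2, hk]
    exact Nat.mul_le_mul_right _ h1
  rw [← pow_add] at h3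
  have := (Nat.pow_le_pow_iff_right hp.one_lt).mp h3
  omega

/-- In a p-group of maximal class of order at least p³ the normal subgroups of index at least p² are exactly the terms of the lower central series, and there are exactly p + 1 normal subgroups of index p. -/
theorem result {G : Type*} [Group G] [Finite G] {p : ℕ} [Fact p.Prime] (n : ℕ) (hG : Nat.card G = p ^ n) (hcl : Group.nilpotencyClass G = n - 1) (hn : 3 ≤ n) : (∀ (N : Subgroup G) [N.Normal] (r : ℕ), 2 ≤ r → N.index = p ^ r → N = (⊤ : Subgroup G).lowerCentralSeries (r - 1)) ∧ Nat.card {N : Subgroup G // N.Normal ∧ N.index = p} = p + 1 := by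
  classical
  have hp : p.Prime := Fact.out
  have hP : IsPGroup p G := IsPGroup.of_card hG
  haveI hnil : Group.IsNilpotent G := hP.isNilpotent
  refine ⟨?_, ?_⟩
  · intro N hN r hr hNr
    have h2 := N.card_mul_index
    rw [hG, hNr] at h2
    have hrn : r ≤ n := by
      have hd : p ^ r ∣ p ^ n := Dvd.intro_left _ h2
      exact (Nat.pow_dvd_pow_iff_le_right hp.one_lt).mp hd
    have hcN : Nat.card N = p ^ (n - r) := by
      have e : p ^ n = p ^ (n - r) * p ^ r := by
        rw [← pow_add]
        congr 1
        omega
      rw [e] at h2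
      exact Nat.eq_of_mul_eq_mul_right (pow_pos hp.pos r) h2
    have hQ : Nat.card (G ⧸ N) = p ^ r := by
      rw [← Subgroup.index_eq_card]
      exact hNr
    have hbot := lcs_eq_bot (Q := G ⧸ N) r hr hQ
    have hle : (⊤ : Subgroup G).lowerCentralSeries (r - 1) ≤ N := by
      have hm := Subgroup.map_lowerCentralSeries (⊤ : Subgroup G) (QuotientGroup.mk' N) (r - 1)
      rw [← MonoidHom.range_eq_map, MonoidHom.range_eq_top.mpr (QuotientGroup.mk'_surjective N),
        hbot] at hm
      exact ((Subgroup.map_eq_bot_iff _).mp hm).trans (QuotientGroup.ker_mk' N).le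
    symm
    apply Subgroup.eq_of_le_of_card_ge hle
    rw [hcN]
    exact Cfsg.Agent.Lib.Helper73.pow_le_card_lowerCentralSeries hP (n - r) (r - 1)
      (by rw [hcl]; omega)
  · have hci := Cfsg.Agent.Lib.Helper73.commutator_index_of_maximal_class n hn hG hcl
    have hQcard : Nat.card (Abelianization G) = p ^ 2 := by
      rw [← hci, Subgroup.index_eq_card]
      rfl
    have hsurj : Function.Surjective (Abelianization.of : G →* Abelianization G) :=
      QuotientGroup.mk_surjective
    have hexp : ∀ a : Abelianization G, a ^ p = 1 := by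
      intro a
      by_contra ha
      obtain ⟨g, rfl⟩ := hsurj a
      have hord : orderOf (Abelianization.of g) = p ^ 2 := by
        have hd : orderOf (Abelianization.of g) ∣ p ^ 2 := by
          rw [← hQcard]
          exact orderOf_dvd_natCard _
        obtain ⟨k, hk2, hk⟩ := (Nat.dvd_prime_pow hp).mp hd
        have hk1 : ¬ k ≤ 1 := by
          intro hk1
          apply ha
          apply orderOf_dvd_iff_pow_eq_one.mp
          rw [hk]
          have hd1 := pow_dvd_pow p hk1
          rwa [pow_one] at hd1
        have : k = 2 := by omega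
        rw [hk, this]
      have hgen : ∀ b : Abelianization G, b ∈ Subgroup.zpowers (Abelianization.of g) := by
        have ht : Subgroup.zpowers (Abelianization.of g) = ⊤ := by
          apply Subgroup.eq_top_of_card_eq
          rw [Nat.card_zpowers, hord, hQcard]
        intro b
        rw [ht]
        trivial
      have htop : Subgroup.zpowers g = ⊤ := by
        by_contra hne
        obtain ⟨M, hM, hgM⟩ := (eq_top_or_exists_le_coatom (Subgroup.zpowers g)).resolve_left hne
        have hle : commutator G ≤ M :=
          Cfsg.Agent.Lib.Helper1.commutator_le_coatom_of_pGroup p hP M hM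
        apply hM.1
        rw [eq_top_iff]
        intro x _
        obtain ⟨k, hk⟩ := Subgroup.mem_zpowers_iff.mp (hgen (Abelianization.of x))
        have hker : (g ^ k)⁻¹ * x ∈ commutator G := by
          rw [← Abelianization.ker_of, MonoidHom.mem_ker, map_mul, map_inv, map_zpow, hk,
            inv_mul_cancel]
        have hgk : g ^ k ∈ M := hgM (Subgroup.zpow_mem_zpowers g k)
        have e : x = g ^ k * ((g ^ k)⁻¹ * x) := by group
        rw [e]
        exact M.mul_mem hgk (hle hker)
      have hcomm : commutator G = ⊥ := by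
        apply Cfsg.Agent.Lib.Helper73.commutator_eq_bot_of_comm
        intro x y
        have hx : x ∈ Subgroup.zpowers g := by rw [htop]; trivial
        have hy : y ∈ Subgroup.zpowers g := by rw [htop]; trivial
        obtain ⟨i, rfl⟩ := Subgroup.mem_zpowers_iff.mp hx
        obtain ⟨j, rfl⟩ := Subgroup.mem_zpowers_iff.mp hy
        exact ((Commute.refl g).zpow_zpow i j).eq
      rw [hcomm, Subgroup.index_bot, hG] at hci
      have := Nat.pow_right_injective hp.two_le hci
      omega
    have hcount := Cfsg.Agent.S3807.card_subgroups_order_p hp hQcard hexp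
    rw [← hcount]
    have hker : ∀ N : Subgroup G, N.Normal → N.index = p →
        (Abelianization.of : G →* Abelianization G).ker ≤ N := by
      intro N hN hNi
      rw [Abelianization.ker_of]
      have hcard : Nat.card (G ⧸ N) = p := by
        rw [← Subgroup.index_eq_card]
        exact hNi
      have : IsCyclic (G ⧸ N) := isCyclic_of_prime_card hcard
      let _ : CommGroup (G ⧸ N) := IsCyclic.commGroup
      have := Abelianization.commutator_subset_ker (QuotientGroup.mk' N)
      rwa [QuotientGroup.ker_mk'] at this
    apply Nat.card_congr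
    refine
      { toFun := fun N => ⟨N.1.map Abelianization.of, ?_⟩
        invFun := fun H => ⟨H.1.comap Abelianization.of, inferInstance, ?_⟩
        left_inv := ?_
        right_inv := ?_ }
    · have hi := Subgroup.index_map_eq (H := N.1) hsurj (hker N.1 N.2.1 N.2.2)
      have h2 := (N.1.map (Abelianization.of : G →* Abelianization G)).card_mul_index
      rw [hi, N.2.2, hQcard, pow_two] at h2
      exact Nat.eq_of_mul_eq_mul_right hp.pos h2
    · rw [Subgroup.index_comap_of_surjective _ hsurj]
      have h2 := H.1.card_mul_index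
      rw [H.2, hQcard, pow_two] at h2
      exact Nat.eq_of_mul_eq_mul_left hp.pos h2
    · intro N
      exact Subtype.ext (Subgroup.comap_map_eq_self (hker N.1 N.2.1 N.2.2))
    · intro H
      exact Subtype.ext (Subgroup.map_comap_eq_self_of_surjective hsurj H.1)

end Cfsg.Agent.S0662
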