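import Cfsg.Statements.S0727
import Mathlib
import Cfsg.Agent.Lib.Helper58.NearFieldOfSharp
import Cfsg.Agent.Lib.Helper58.Moebius

set_option autoImplicit false
open Cfsg

namespace Cfsg.Agent.S0727

theorem nf_zero_mul {A : Type*} [nf : Cfsg.NearField A] (a : A) : (0 : A) * a = 0 := by
  have h := nf.right_distrib 0 0 a
  rw [add_zero] at h
  exact add_eq_left.mp h.symm

/-- A commutative near-field is a ring. -/
@[reducible] def ringOfNearField (A : Type*) [nf : Cfsg.NearField A]
    (hc : ∀ a b : A, a * b = b * a) : Ring A :=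
  { nf.toAddGroup, nf.toMonoid with
    add_comm := by
      intro a b
      have ld : ∀ x y z : A, x * (y + z) = x * y + x * z := fun x y z => by
        rw [hc x (y + z), nf.right_distrib, hc y x, hc z x]
      have h1 : ((1 : A) + 1) * (a + b) = (a + b) + (a + b) := by
        rw [nf.right_distrib, one_mul]
      have h2 : ((1 : A) + 1) * (a + b) = (a + a) + (b + b) := by
        rw [ld, nf.right_distrib, nf.right_distrib, one_mul, one_mul]
      have h3 : (a + b) + (a + b) = (a + a) + (b + b) := h1.symm.trans h2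
      have h4 : a + (b + a + b) = a + (a + b + b) := by
        simpa only [add_assoc] using h3
      have h5 := add_left_cancel h4
      exact (add_right_cancel h5).symm
    left_distrib := fun x y z => by rw [hc x (y + z), nf.right_distrib, hc y x, hc z x]
    right_distrib := nf.right_distrib
    zero_mul := fun a => nf_zero_mul a
    mul_zero := nf.mul_zero }

open MulAction in
/-- In a sharply 3-transitive group of odd degree, the two-point stabilizer is abelian and
inverted by the involution swapping the two points. -/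
theorem sharp3_swap {α : Type*} [Fintype α] [DecidableEq α] {G : Type*} [Group G] [Finite G]
    [MulAction G α]
    (hT : ∀ a b c a' b' c' : α, a ≠ b → a ≠ c → b ≠ c → a' ≠ b' → a' ≠ c' → b' ≠ c' →
      ∃ g : G, g • a = a' ∧ g • b = b' ∧ g • c = c')
    (hS : ∀ (g : G) (a b c : α), a ≠ b → a ≠ c → b ≠ c → g • a = a → g • b = b → g • c = c →
      g = 1)
    (hodd : Odd (Fintype.card α))
    (p : α) [nf : Cfsg.NearField (SubMulAction.ofStabilizer G p)]
    (h2 : ∀ a b : SubMulAction.ofStabilizer G p, a ≠ 0 →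
      ∃ g : stabilizer G p, ∀ x : SubMulAction.ofStabilizer G p, g • x = x * a + b) :
    (∀ a b : SubMulAction.ofStabilizer G p, a * b = b * a) ∧
    ∃ s : G, s • p = ((0 : SubMulAction.ofStabilizer G p) : α) ∧
      s • ((0 : SubMulAction.ofStabilizer G p) : α) = p ∧
      ∀ x : SubMulAction.ofStabilizer G p, x ≠ 0 →
        ∃ y : SubMulAction.ofStabilizer G p, y * x = 1 ∧ s • (x : α) = (y : α) := by
  classical
  have hne : ∀ x : SubMulAction.ofStabilizer G p, (x : α) ≠ p := fun x =>
    (SubMulAction.mem_ofStabilizer_iff G p).mp x.2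
  have ho : ((0 : SubMulAction.ofStabilizer G p) : α) ≠ p := hne 0
  have he : ((1 : SubMulAction.ofStabilizer G p) : α) ≠ p := hne 1
  have hoe : ((0 : SubMulAction.ofStabilizer G p) : α) ≠
      ((1 : SubMulAction.ofStabilizer G p) : α) := fun h => nf.zero_ne_one (Subtype.ext h)
  obtain ⟨s, hs1, hs2, hs3⟩ := hT p ((0 : SubMulAction.ofStabilizer G p) : α)
    ((1 : SubMulAction.ofStabilizer G p) : α) ((0 : SubMulAction.ofStabilizer G p) : α) p
    ((1 : SubMulAction.ofStabilizer G p) : α) ho.symm he.symm hoe ho hoe he.symm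
  have hss : s * s = 1 := hS (s * s) p _ _ ho.symm he.symm hoe (by rw [mul_smul, hs1, hs2])
    (by rw [mul_smul, hs2, hs1]) (by rw [mul_smul, hs3, hs3])
  have hsinv : s⁻¹ = s := inv_eq_of_mul_eq_one_left hss
  have hs_ne : s ≠ 1 := by
    intro h
    rw [h, one_smul] at hs1
    exact ho hs1.symm
  have hfix : ∀ x : α, s • x = x → x = ((1 : SubMulAction.ofStabilizer G p) : α) := by
    intro x hxfix
    by_contra hx
    have hσ : (MulAction.toPerm s : Equiv.Perm α) ^ 2 ^ 1 = 1 := by
      ext y
      simp [pow_two, ← mul_smul, hss]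
    have hmod := Equiv.Perm.card_compl_support_modEq (p := 2) (n := 1) hσ
    have hsupp : (MulAction.toPerm s : Equiv.Perm α).supportᶜ =
        {((1 : SubMulAction.ofStabilizer G p) : α), x} := by
      ext y
      simp only [Finset.mem_compl, Equiv.Perm.mem_support, not_not, Finset.mem_insert,
        Finset.mem_singleton, MulAction.toPerm_apply]
      constructor
      · intro hy
        by_contra hcon
        push Not at hcon
        exact hs_ne (hS s _ x y (Ne.symm hx) hcon.1.symm hcon.2.symm hs3 hxfix hy)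
      · rintro (rfl | rfl)
        · exact hs3
        · exact hxfix
    rw [hsupp, Finset.card_pair (Ne.symm hx)] at hmod
    have := Nat.odd_iff.mp hodd
    unfold Nat.ModEq at hmod
    omega
  let H : Subgroup G := stabilizer G p ⊓ stabilizer G ((0 : SubMulAction.ofStabilizer G p) : α)
  have hsH : ∀ h ∈ H, s * h * s⁻¹ ∈ H := by
    intro h hh
    rw [Subgroup.mem_inf, mem_stabilizer_iff, mem_stabilizer_iff] at hh ⊢
    rw [hsinv]
    constructor
    · rw [mul_smul, mul_smul, hs1, hh.2, hs2]
    · rw [mul_smul, mul_smul, hs2, hh.1, hs1]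
  let φ : H →* H := MonoidHom.mk' (fun h => ⟨s * h * s⁻¹, hsH h h.2⟩) (by
    intro a b
    apply Subtype.ext
    show s * (a * b : G) * s⁻¹ = (s * a * s⁻¹) * (s * b * s⁻¹)
    group)
  have hφf : MonoidHom.FixedPointFree φ := by
    intro h hh
    have h1 : s * (h : G) * s⁻¹ = h := congrArg Subtype.val hh
    have h2' : s * (h : G) = h * s := mul_inv_eq_iff_eq_mul.mp h1
    have h3 : s • ((h : G) • ((1 : SubMulAction.ofStabilizer G p) : α)) =
        (h : G) • ((1 : SubMulAction.ofStabilizer G p) : α) := by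
      rw [← mul_smul, h2', mul_smul, hs3]
    have h4 := hfix _ h3
    have hh' := h.2
    rw [Subgroup.mem_inf, mem_stabilizer_iff, mem_stabilizer_iff] at hh'
    apply Subtype.ext
    exact hS (h : G) p _ _ ho.symm he.symm hoe hh'.1 hh'.2 h4
  have hφi : Function.Involutive φ := by
    intro h
    apply Subtype.ext
    show s * (s * (h : G) * s⁻¹) * s⁻¹ = h
    rw [hsinv]
    calc s * (s * (h : G) * s) * s = (s * s) * h * (s * s) := by group
    _ = h := by rw [hss, one_mul, mul_one]
  have hinv : ∀ h : H, s * (h : G) * s⁻¹ = (h : G)⁻¹ := by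
    intro h
    have := congrFun (MonoidHom.FixedPointFree.coe_eq_inv_of_involutive hφf hφi) h
    exact congrArg Subtype.val this
  have hcommH : ∀ h h' : H, (h : G) * h' = h' * h := fun h h' =>
    congrArg Subtype.val (MonoidHom.FixedPointFree.commute_all_of_involutive hφf hφi h h').eq
  have hμ : ∀ a : SubMulAction.ofStabilizer G p, a ≠ 0 →
      ∃ h : H, ∀ x : SubMulAction.ofStabilizer G p, (h : G) • (x : α) =
        ((x * a : SubMulAction.ofStabilizer G p) : α) := by
    intro a ha
    obtain ⟨g, hg⟩ := h2 a 0 ha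
    have hg' : ∀ x : SubMulAction.ofStabilizer G p, (g : G) • (x : α) =
        ((x * a : SubMulAction.ofStabilizer G p) : α) := by
      intro x
      have := congrArg Subtype.val (hg x)
      rw [add_zero] at this
      exact this
    refine ⟨⟨g, ?_⟩, hg'⟩
    rw [Subgroup.mem_inf]
    refine ⟨g.2, ?_⟩
    rw [mem_stabilizer_iff, hg' 0, nf_zero_mul]
  have hc : ∀ a b : SubMulAction.ofStabilizer G p, a * b = b * a := by
    intro a b
    by_cases ha : a = 0
    · rw [ha, nf_zero_mul, nf.mul_zero]
    by_cases hb : b = 0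
    · rw [hb, nf_zero_mul, nf.mul_zero]
    obtain ⟨ga, hga⟩ := hμ a ha
    obtain ⟨gb, hgb⟩ := hμ b hb
    have h := hcommH ga gb
    have h' := congrArg (fun g : G => g • ((1 : SubMulAction.ofStabilizer G p) : α)) h
    simp only [mul_smul] at h'
    rw [hgb 1, hga (1 * b), hga 1, hgb (1 * a), one_mul, one_mul] at h'
    exact (Subtype.ext h').symm
  refine ⟨hc, s, hs1, hs2, ?_⟩
  intro x hx
  obtain ⟨gx, hgx⟩ := hμ x hx
  have hgxs : (gx : G)⁻¹ ∈ stabilizer G p := inv_mem (Subgroup.mem_inf.mp gx.2).1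
  let y : SubMulAction.ofStabilizer G p :=
    (⟨(gx : G)⁻¹, hgxs⟩ : stabilizer G p) • (1 : SubMulAction.ofStabilizer G p)
  have hy : (y : α) = (gx : G)⁻¹ • ((1 : SubMulAction.ofStabilizer G p) : α) := rfl
  refine ⟨y, ?_, ?_⟩
  · apply Subtype.ext
    rw [← hgx y, hy, smul_inv_smul]
  · have h1 : (x : α) = (gx : G) • ((1 : SubMulAction.ofStabilizer G p) : α) := by
      rw [hgx, one_mul]
    rw [h1, hy, ← hinv gx, mul_smul, mul_smul, hsinv, hs3]


/-- A sharply triply transitive permutation group of degree `2^f + 1` is isomorphic to the projective general linear group of degree 2 over the field with `2^f` elements. -/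
theorem result {α : Type*} [Fintype α] [DecidableEq α] {f : ℕ} (hf : 1 ≤ f) (hα : Fintype.card α = 2 ^ f + 1) (G : Subgroup (Equiv.Perm α)) (h3 : MulAction.IsMultiplyPretransitive G α 3) (hsharp : ∀ x : Fin 3 ↪ α, MulAction.stabilizer G x = ⊥) : ∃ (F : Type) (_ : Field F) (_ : Fintype F), Fintype.card F = 2 ^ f ∧ Nonempty (G ≃* Matrix.ProjGenLinGroup (Fin 2) F) := by
  classical
  have emb : ∀ a b c : α, a ≠ b → a ≠ c → b ≠ c →
      ∃ x : Fin 3 ↪ α, x 0 = a ∧ x 1 = b ∧ x 2 = c := by
    intro a b c hab hac hbc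
    refine ⟨⟨![a, b, c], ?_⟩, rfl, rfl, rfl⟩
    intro i j hij
    fin_cases i <;> fin_cases j <;> simp_all
  have hT : ∀ a b c a' b' c' : α, a ≠ b → a ≠ c → b ≠ c → a' ≠ b' → a' ≠ c' → b' ≠ c' →
      ∃ g : G, g • a = a' ∧ g • b = b' ∧ g • c = c' := by
    intro a b c a' b' c' hab hac hbc hab' hac' hbc'
    obtain ⟨x, hx0, hx1, hx2⟩ := emb a b c hab hac hbc
    obtain ⟨y, hy0, hy1, hy2⟩ := emb a' b' c' hab' hac' hbc'
    obtain ⟨g, hg⟩ := h3.exists_smul_eq x y
    refine ⟨g, ?_, ?_, ?_⟩
    · rw [← hx0, ← hy0, ← hg]; rfl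
    · rw [← hx1, ← hy1, ← hg]; rfl
    · rw [← hx2, ← hy2, ← hg]; rfl
  have hS : ∀ (g : G) (a b c : α), a ≠ b → a ≠ c → b ≠ c → g • a = a → g • b = b → g • c = c →
      g = 1 := by
    intro g a b c hab hac hbc ha hb hc
    obtain ⟨x, hx0, hx1, hx2⟩ := emb a b c hab hac hbc
    have : g ∈ MulAction.stabilizer G x := by
      rw [MulAction.mem_stabilizer_iff]
      ext i
      fin_cases i
      · show g • x 0 = x 0
        rw [hx0, ha]
      · show g • x 1 = x 1
        rw [hx1, hb]
      · show g • x 2 = x 2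
        rw [hx2, hc]
    rw [hsharp] at this
    exact Subgroup.mem_bot.mp this
  have h2f : 2 ≤ 2 ^ f := by
    calc 2 = 2 ^ 1 := by norm_num
    _ ≤ 2 ^ f := Nat.pow_le_pow_right (by norm_num) hf
  have hodd : Odd (Fintype.card α) := by
    rw [hα]
    have : 2 ^ f = 2 * 2 ^ (f - 1) := by
      rw [← pow_succ']
      congr 1
      omega
    exact ⟨2 ^ (f - 1), by omega⟩
  obtain ⟨p⟩ : Nonempty α := Fintype.card_pos_iff.mp (by omega)
  have hne : ∀ x : SubMulAction.ofStabilizer G p, (x : α) ≠ p := fun x =>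
    (SubMulAction.mem_ofStabilizer_iff G p).mp x.2
  have S : Lib.Helper58.SharpTwo (MulAction.stabilizer G p) (SubMulAction.ofStabilizer G p) := by
    refine ⟨fun a b c d hab hcd => ?_, fun g a b hab ha hb => ?_⟩
    · obtain ⟨g, hg1, hg2, hg3⟩ := hT p a b p c d (hne a).symm (hne b).symm
        (fun h => hab (Subtype.ext h)) (hne c).symm (hne d).symm (fun h => hcd (Subtype.ext h))
      exact ⟨⟨g, hg1⟩, Subtype.ext hg2, Subtype.ext hg3⟩
    · apply Subtype.ext
      exact hS g p a b (hne a).symm (hne b).symm (fun h => hab (Subtype.ext h)) g.2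
        (congrArg Subtype.val ha) (congrArg Subtype.val hb)
  have hcA : Nat.card (SubMulAction.ofStabilizer G p) = 2 ^ f := by
    rw [SubMulAction.nat_card_ofStabilizer_eq, Nat.card_eq_fintype_card, hα]
    simp
  haveI : Finite (SubMulAction.ofStabilizer G p) := Nat.finite_of_card_ne_zero (by omega)
  haveI : Nontrivial (SubMulAction.ofStabilizer G p) := by
    rw [← Finite.one_lt_card_iff_nontrivial]
    omega
  obtain ⟨nf, h1, h2⟩ := S.exists_nearField
  obtain ⟨hc, s, hs1, hs2, hs3⟩ := sharp3_swap (nf := nf) hT hS hodd p h2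
  letI rg : Ring (SubMulAction.ofStabilizer G p) := @ringOfNearField _ nf hc
  have hfld : IsField (SubMulAction.ofStabilizer G p) :=
    ⟨⟨0, 1, nf.zero_ne_one⟩, hc, fun {a} ha => (nf.exists_inv a ha).imp (fun b hb => hb.1)⟩
  letI fld : Field (SubMulAction.ofStabilizer G p) := hfld.toField
  let pt : OnePoint (SubMulAction.ofStabilizer G p) → α := fun o => o.elim p (fun x => (x : α))
  have hpt : Function.Bijective pt := by
    constructor
    · intro x y h
      cases x with
      | infty =>
        cases y with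
        | infty => rfl
        | coe y => exact absurd h.symm (hne y)
      | coe x =>
        cases y with
        | infty => exact absurd h (hne x)
        | coe y =>
          have : x = y := Subtype.ext h
          rw [this]
    · intro y
      by_cases hy : y = p
      · exact ⟨OnePoint.infty, hy.symm⟩
      · exact ⟨((⟨y, (SubMulAction.mem_ofStabilizer_iff G p).mpr hy⟩ :
          SubMulAction.ofStabilizer G p) : OnePoint (SubMulAction.ofStabilizer G p)), rfl⟩
  have hM := Lib.Helper58.moebius_of_affine_swap (F := SubMulAction.ofStabilizer G p) (G := G) pt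
    hpt.2
    (fun g hg => by
      obtain ⟨a, b, ha0, hab⟩ := h1 ⟨g, hg⟩
      exact ⟨a, b, ha0, fun x => congrArg Subtype.val (hab x)⟩)
    (fun a b ha => by
      obtain ⟨g, hg⟩ := h2 a b ha
      exact ⟨g.1, g.2, fun x => congrArg Subtype.val (hg x)⟩)
    s hs1 hs2
    (fun x hx => by
      obtain ⟨y, hy1, hy2⟩ := hs3 x hx
      have : y = x⁻¹ := eq_inv_of_mul_eq_one_left hy1
      rw [← this]
      exact hy2)
  obtain ⟨hM1, hM2⟩ := hM
  obtain ⟨iso⟩ := Lib.Helper58.pgl_equiv_of_moebius G pt hpt (fun g hg => hM1 ⟨g, hg⟩)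
    (fun M => by
      obtain ⟨g, hg⟩ := hM2 M
      exact ⟨g.1, g.2, hg⟩)
  haveI : Fintype (GaloisField 2 f) := Fintype.ofFinite _
  haveI : Fintype (SubMulAction.ofStabilizer G p) := Fintype.ofFinite _
  have hcF : Fintype.card (GaloisField 2 f) = 2 ^ f := by
    rw [← Nat.card_eq_fintype_card, GaloisField.card 2 f (by omega)]
  have e : SubMulAction.ofStabilizer G p ≃+* GaloisField 2 f :=
    FiniteField.ringEquivOfCardEq (by rw [hcF, ← Nat.card_eq_fintype_card, hcA])
  exact ⟨GaloisField 2 f, inferInstance, inferInstance, hcF,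
    ⟨iso.trans (Lib.Helper58.pglCongr e)⟩⟩

end Cfsg.Agent.S0727
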