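import Mathlib
import Cfsg.Statements.S1230
import Cfsg.Agent.S1229
import Cfsg.Agent.S0727

set_option autoImplicit false
open Cfsg

namespace Cfsg.Agent.S1230

/-- `PSL₂ ≅ PGL₂` over a finite field with `2 ^ f` elements. -/
theorem psl_equiv_pgl {F : Type*} [Field F] [Fintype F] {f : ℕ} (hf : 1 ≤ f)
    (hF : Fintype.card F = 2 ^ f) :
    Nonempty (Matrix.ProjectiveSpecialLinearGroup (Fin 2) F ≃* Matrix.ProjGenLinGroup (Fin 2) F) := by
  refine ⟨MulEquiv.ofBijective Matrix.ProjectiveSpecialLinearGroup.toPGL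
    ⟨Matrix.ProjectiveSpecialLinearGroup.toPGL_injective,
     Matrix.ProjectiveSpecialLinearGroup.toPGL_surj_of_roots ?_⟩⟩
  intro r
  refine ⟨r ^ (2 ^ (f - 1)), ?_⟩
  rw [Fintype.card_fin, ← pow_mul]
  have h2 : 2 ^ (f - 1) * 2 = 2 ^ f := by
    rw [← pow_succ]; congr 1; omega
  rw [h2]
  apply Units.ext
  rw [Units.val_pow_eq_pow_val, ← hF]
  exact FiniteField.pow_card _

/-- Let G be a finite group with a Sylow 2-subgroup T that is neither cyclic nor normal, such that the centralizer of every involution is an elementary abelian 2-group. Then G ≅ PSL(2,F) for a finite field F with |F| = |T|. -/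
theorem result {G : Type*} [Group G] [Finite G] (T : Sylow 2 G) (hnc : ¬ IsCyclic (T : Subgroup G)) (hnn : ¬ (T : Subgroup G).Normal) (hC : ∀ t : G, orderOf t = 2 → IsMulCommutative (Subgroup.centralizer ({t} : Set G)) ∧ ∀ c ∈ Subgroup.centralizer ({t} : Set G), c ^ 2 = 1) : ∃ (F : Type) (_ : Field F) (_ : Fintype F), Fintype.card F = Nat.card T ∧ Nonempty (G ≃* Matrix.ProjectiveSpecialLinearGroup (Fin 2) F) := by
  classical
  obtain ⟨h3t, hsh, hreg⟩ := Cfsg.Agent.S1229.result T hnc hnn hC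
  have hHtop : Subgroup.normalizer ((T : Subgroup G) : Set G) ≠ ⊤ := fun h =>
    hnn (Subgroup.normalizer_eq_top_iff.mp h)
  obtain ⟨g₀, hg₀⟩ : ∃ g₀ : G, g₀ ∉ Subgroup.normalizer ((T : Subgroup G) : Set G) := by
    by_contra hcon
    push Not at hcon
    exact hHtop (eq_top_iff.mpr fun g _ => hcon g)
  have hx₀ : (QuotientGroup.mk g₀ : G ⧸ Subgroup.normalizer ((T : Subgroup G) : Set G)) ≠
      QuotientGroup.mk 1 := by
    intro h
    rw [QuotientGroup.eq] at h
    apply hg₀
    have := Subgroup.inv_mem _ h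
    simpa using this
  have hTH : (T : Subgroup G) ≤ Subgroup.normalizer ((T : Subgroup G) : Set G) :=
    Subgroup.le_normalizer
  have hTfix : ∀ t ∈ T, t • (QuotientGroup.mk 1 : G ⧸ Subgroup.normalizer ((T : Subgroup G) : Set G)) =
      QuotientGroup.mk 1 := by
    intro t ht
    rw [MulAction.Quotient.smul_mk, QuotientGroup.eq]
    have := Subgroup.inv_mem _ (hTH ht)
    simpa using this
  have hmove : ∀ t ∈ T, t • (QuotientGroup.mk g₀ : G ⧸ Subgroup.normalizer ((T : Subgroup G) : Set G)) ≠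
      QuotientGroup.mk 1 := by
    intro t ht h
    apply hx₀
    have h1 : t⁻¹ • (t • (QuotientGroup.mk g₀ : G ⧸ Subgroup.normalizer ((T : Subgroup G) : Set G))) =
        t⁻¹ • (QuotientGroup.mk 1 : G ⧸ Subgroup.normalizer ((T : Subgroup G) : Set G)) := by rw [h]
    rw [inv_smul_smul, hTfix _ (Subgroup.inv_mem _ ht)] at h1
    exact h1
  -- cardinalities
  have hcardT : Nat.card (T : Subgroup G) = 2 ^ (Nat.card G).factorization 2 :=
    T.card_eq_multiplicity
  have hbij : Function.Bijective (fun t : (T : Subgroup G) =>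
      (⟨(t : G) • (QuotientGroup.mk g₀ : G ⧸ Subgroup.normalizer ((T : Subgroup G) : Set G)),
        hmove t t.2⟩ : {y : G ⧸ Subgroup.normalizer ((T : Subgroup G) : Set G) // y ≠ QuotientGroup.mk 1})) := by
    constructor
    · intro t₁ t₂ h
      have h' : (t₁ : G) • (QuotientGroup.mk g₀ : G ⧸ Subgroup.normalizer ((T : Subgroup G) : Set G)) =
          (t₂ : G) • (QuotientGroup.mk g₀ : G ⧸ Subgroup.normalizer ((T : Subgroup G) : Set G)) :=
        congrArg Subtype.val h
      obtain ⟨s, -, hs⟩ := hreg _ _ hx₀ (hmove t₂ t₂.2)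
      have e1 := hs t₁ ⟨t₁.2, h'⟩
      have e2 := hs t₂ ⟨t₂.2, rfl⟩
      exact Subtype.ext (e1.trans e2.symm)
    · rintro ⟨y, hy⟩
      obtain ⟨s, ⟨hsT, hsy⟩, -⟩ := hreg _ _ hx₀ hy
      exact ⟨⟨s, hsT⟩, Subtype.ext hsy⟩
  have hcard : Nat.card (G ⧸ Subgroup.normalizer ((T : Subgroup G) : Set G)) =
      2 ^ (Nat.card G).factorization 2 + 1 := by
    rw [← hcardT, Nat.card_eq_of_bijective _ hbij, ← Finite.card_option]
    exact (Nat.card_congr (Equiv.optionSubtypeNe _)).symm
  have hf : 1 ≤ (Nat.card G).factorization 2 := by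
    by_contra hcon
    have h0 : (Nat.card G).factorization 2 = 0 := by omega
    rw [h0, pow_zero] at hcardT
    have : Subsingleton (T : Subgroup G) := (Nat.card_eq_one_iff_unique.mp hcardT).1
    exact hnc isCyclic_of_subsingleton
  -- a non-identity element of `T`
  obtain ⟨t₁, ht₁T, ht₁⟩ : ∃ t₁ : G, t₁ ∈ T ∧ t₁ ≠ 1 := by
    by_contra hcon
    push Not at hcon
    have : Subsingleton (T : Subgroup G) :=
      ⟨fun a b => Subtype.ext ((hcon a a.2).trans (hcon b b.2).symm)⟩
    exact hnc isCyclic_of_subsingleton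
  have hz₁ : t₁ • (QuotientGroup.mk g₀ : G ⧸ Subgroup.normalizer ((T : Subgroup G) : Set G)) ≠
      QuotientGroup.mk g₀ := by
    intro h
    obtain ⟨s, -, hs⟩ := hreg _ _ hx₀ hx₀
    have e1 := hs t₁ ⟨ht₁T, h⟩
    have e2 := hs 1 ⟨Subgroup.one_mem _, one_smul _ _⟩
    exact ht₁ (e1.trans e2.symm)
  -- faithfulness
  have hinj : Function.Injective
      (MulAction.toPermHom G (G ⧸ Subgroup.normalizer ((T : Subgroup G) : Set G))) := by
    rw [injective_iff_map_eq_one]
    intro g hg
    have hga : ∀ a : G ⧸ Subgroup.normalizer ((T : Subgroup G) : Set G), g • a = a := by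
      intro a
      have := congrArg (fun σ : Equiv.Perm (G ⧸ Subgroup.normalizer ((T : Subgroup G) : Set G)) => σ a) hg
      simpa using this
    exact hsh g _ _ _ hx₀.symm (hmove t₁ ht₁T).symm hz₁.symm (hga _) (hga _) (hga _)
  have : Fintype (G ⧸ Subgroup.normalizer ((T : Subgroup G) : Set G)) := Fintype.ofFinite _
  have hα : Fintype.card (G ⧸ Subgroup.normalizer ((T : Subgroup G) : Set G)) =
      2 ^ (Nat.card G).factorization 2 + 1 := by
    rw [← Nat.card_eq_fintype_card]; exact hcard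
  have h3 : MulAction.IsMultiplyPretransitive
      (MulAction.toPermHom G (G ⧸ Subgroup.normalizer ((T : Subgroup G) : Set G))).range
      (G ⧸ Subgroup.normalizer ((T : Subgroup G) : Set G)) 3 := by
    refine ⟨fun x y => ?_⟩
    have hx01 : x 0 ≠ x 1 := fun h => absurd (x.injective h) (by decide)
    have hx02 : x 0 ≠ x 2 := fun h => absurd (x.injective h) (by decide)
    have hx12 : x 1 ≠ x 2 := fun h => absurd (x.injective h) (by decide)
    have hy01 : y 0 ≠ y 1 := fun h => absurd (y.injective h) (by decide)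
    have hy02 : y 0 ≠ y 2 := fun h => absurd (y.injective h) (by decide)
    have hy12 : y 1 ≠ y 2 := fun h => absurd (y.injective h) (by decide)
    obtain ⟨g, h0, h1, h2⟩ := h3t (x 0) (x 1) (x 2) (y 0) (y 1) (y 2) hx01 hx02 hx12 hy01 hy02 hy12
    refine ⟨⟨MulAction.toPermHom G _ g, ⟨g, rfl⟩⟩, ?_⟩
    ext i
    fin_cases i
    · exact h0
    · exact h1
    · exact h2
  have hsharp : ∀ x : Fin 3 ↪ (G ⧸ Subgroup.normalizer ((T : Subgroup G) : Set G)),
      MulAction.stabilizer
        (MulAction.toPermHom G (G ⧸ Subgroup.normalizer ((T : Subgroup G) : Set G))).range x = ⊥ := by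
    intro x
    rw [eq_bot_iff]
    rintro ⟨σ, g, rfl⟩ hσ
    rw [MulAction.mem_stabilizer_iff] at hσ
    have hx01 : x 0 ≠ x 1 := fun h => absurd (x.injective h) (by decide)
    have hx02 : x 0 ≠ x 2 := fun h => absurd (x.injective h) (by decide)
    have hx12 : x 1 ≠ x 2 := fun h => absurd (x.injective h) (by decide)
    have hi : ∀ i : Fin 3, g • x i = x i := by
      intro i
      have := congrArg (fun e : Fin 3 ↪ (G ⧸ Subgroup.normalizer ((T : Subgroup G) : Set G)) => e i) hσ
      exact this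
    have hg1 : g = 1 := hsh g _ _ _ hx01 hx02 hx12 (hi 0) (hi 1) (hi 2)
    subst hg1
    rw [Subgroup.mem_bot]
    apply Subtype.ext
    exact map_one (MulAction.toPermHom G (G ⧸ Subgroup.normalizer ((T : Subgroup G) : Set G)))
  obtain ⟨F, hFd, hFt, hFc, ⟨e⟩⟩ := Cfsg.Agent.S0727.result hf hα _ h3 hsharp
  obtain ⟨e2⟩ := psl_equiv_pgl hf hFc
  refine ⟨F, hFd, hFt, ?_, ⟨(MonoidHom.ofInjective hinj).trans (e.trans e2.symm)⟩⟩
  rw [hFc]; exact hcardT.symm

end Cfsg.Agent.S1230
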