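import Cfsg.Statements.S3619
-- import your own Cfsg.Agent.* helpers here

set_option autoImplicit false
open Cfsg
open scoped Pointwise

namespace Cfsg.Agent.S3619

/-- Quasiprimitive with a Jordan set on which the pointwise stabilizer of the complement is
primitive: the group is primitive. -/
theorem prim_of_quasi {G Ω : Type*} [Group G] [MulAction G Ω]
    (hqp : ∀ N : Subgroup G, N.Normal → N ≠ ⊥ → MulAction.IsPretransitive ↥N Ω)
    (Γ : Set Ω) (hΓ1 : Γ.Nontrivial)
    (hJp : MulAction.IsPreprimitive ↥(fixingSubgroup G Γᶜ) ↥(SubMulAction.ofFixingSubgroup G Γᶜ)) :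
    MulAction.IsPreprimitive G Ω := by
  classical
  obtain ⟨a, ha, b, hb, hab⟩ := hΓ1
  have ha' : a ∈ SubMulAction.ofFixingSubgroup G Γᶜ := by
    rw [SubMulAction.mem_ofFixingSubgroup_iff]; simpa using ha
  have hb' : b ∈ SubMulAction.ofFixingSubgroup G Γᶜ := by
    rw [SubMulAction.mem_ofFixingSubgroup_iff]; simpa using hb
  have hJ : MulAction.IsPretransitive ↥(fixingSubgroup G Γᶜ)
      ↥(SubMulAction.ofFixingSubgroup G Γᶜ) := hJp.toIsPretransitive
  have hHne : fixingSubgroup G Γᶜ ≠ ⊥ := by
    intro h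
    obtain ⟨g, hg⟩ := hJ.exists_smul_eq ⟨a, ha'⟩ ⟨b, hb'⟩
    have h1 : (g : G) = 1 := by
      have h3 : (g : G) ∈ (⊥ : Subgroup G) := by
        rw [← h]; exact g.2
      simpa using h3
    apply hab
    have h2 := congrArg Subtype.val hg
    simp only [SubMulAction.val_smul] at h2
    rw [← h2]
    change a = (g : G) • a
    rw [h1, one_smul]
  have hGtop : (⊤ : Subgroup G) ≠ ⊥ := by
    intro h
    apply hHne
    rw [eq_bot_iff, ← h]
    exact le_top
  have htrans : MulAction.IsPretransitive G Ω := by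
    have := hqp ⊤ inferInstance hGtop
    constructor
    intro x y
    obtain ⟨g, hg⟩ := this.exists_smul_eq x y
    exact ⟨g, hg⟩
  refine { toIsPretransitive := htrans, isTrivialBlock_of_isBlock := ?_ }
  intro B hB
  by_contra hBt
  rw [MulAction.IsTrivialBlock, not_or] at hBt
  obtain ⟨hBs, hBu⟩ := hBt
  have hN : (MulAction.stabilizer G B).normalCore = ⊥ := by
    by_contra hne
    have := hqp _ (Subgroup.normalCore_normal _) hne
    obtain ⟨x, hx⟩ : B.Nonempty := by
      by_contra h
      rw [Set.not_nonempty_iff_eq_empty] at h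
      exact hBs (h ▸ Set.subsingleton_empty)
    obtain ⟨y, hy⟩ : ∃ y, y ∉ B := by
      by_contra h
      push Not at h
      exact hBu (Set.eq_univ_of_forall h)
    obtain ⟨n, hn⟩ := this.exists_smul_eq x y
    have hnB : (n : G) ∈ MulAction.stabilizer G B := Subgroup.normalCore_le _ n.2
    rw [MulAction.mem_stabilizer_iff] at hnB
    apply hy
    rw [← hn]
    have h5 : (n : G) • x ∈ (n : G) • B := Set.smul_mem_smul_set hx
    rw [hnB] at h5
    exact h5
  apply hHne
  rw [eq_bot_iff, ← hN]
  intro h hh g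
  rw [MulAction.mem_stabilizer_iff]
  suffices h • (g⁻¹ • B) = g⁻¹ • B by
    rw [mul_smul, mul_smul, this, smul_inv_smul]
  have hB' : MulAction.IsBlock G (g⁻¹ • B) := hB.translate g⁻¹
  have hB's : ¬ (g⁻¹ • B).Subsingleton := by
    intro hs
    apply hBs
    intro x hx y hy
    have := hs (Set.smul_mem_smul_set (a := g⁻¹) hx) (Set.smul_mem_smul_set (a := g⁻¹) hy)
    exact smul_left_cancel _ this
  by_cases hc : ∃ x ∈ g⁻¹ • B, x ∈ Γᶜ
  · obtain ⟨x, hx, hxc⟩ := hc
    have hfix : h • x = x := (mem_fixingSubgroup_iff G).mp hh x hxc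
    exact hB'.smul_eq_of_mem hx (hfix.symm ▸ hx)
  · push Not at hc
    have hblk := hB'.preimage (SubMulAction.ofFixingSubgroup_equivariantMap G Γᶜ)
    rcases hJp.isTrivialBlock_of_isBlock hblk with hsub | huniv
    · exfalso
      apply hB's
      intro x hx y hy
      have hx' : x ∈ SubMulAction.ofFixingSubgroup G Γᶜ := by
        rw [SubMulAction.mem_ofFixingSubgroup_iff]; exact hc x hx
      have hy' : y ∈ SubMulAction.ofFixingSubgroup G Γᶜ := by
        rw [SubMulAction.mem_ofFixingSubgroup_iff]; exact hc y hy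
      have := @hsub ⟨x, hx'⟩ hx ⟨y, hy'⟩ hy
      exact congrArg Subtype.val this
    · -- the translate equals Γ
      have hΓB : ∀ x, x ∈ g⁻¹ • B ↔ x ∈ Γ := by
        intro x
        constructor
        · intro hx
          simpa using hc x hx
        · intro hx
          have hx' : x ∈ SubMulAction.ofFixingSubgroup G Γᶜ := by
            rw [SubMulAction.mem_ofFixingSubgroup_iff]; simpa using hx
          have : (⟨x, hx'⟩ : ↥(SubMulAction.ofFixingSubgroup G Γᶜ)) ∈
              (SubMulAction.ofFixingSubgroup_equivariantMap G Γᶜ) ⁻¹' (g⁻¹ • B) := by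
            rw [huniv]; exact Set.mem_univ _
          exact this
      have hBΓ : g⁻¹ • B = Γ := Set.ext hΓB
      rw [hBΓ]
      ext x
      constructor
      · rintro ⟨y, hy, rfl⟩
        have hy' : y ∈ SubMulAction.ofFixingSubgroup G Γᶜ := by
          rw [SubMulAction.mem_ofFixingSubgroup_iff]; simpa using hy
        have := ((⟨h, hh⟩ : fixingSubgroup G Γᶜ) • (⟨y, hy'⟩ :
          ↥(SubMulAction.ofFixingSubgroup G Γᶜ))).2
        rw [SubMulAction.mem_ofFixingSubgroup_iff] at this
        simpa using this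
      · intro hx
        refine ⟨h⁻¹ • x, ?_, by simp⟩
        have hx' : x ∈ SubMulAction.ofFixingSubgroup G Γᶜ := by
          rw [SubMulAction.mem_ofFixingSubgroup_iff]; simpa using hx
        have := ((⟨h⁻¹, (fixingSubgroup G Γᶜ).inv_mem hh⟩ : fixingSubgroup G Γᶜ) • (⟨x, hx'⟩ :
          ↥(SubMulAction.ofFixingSubgroup G Γᶜ))).2
        rw [SubMulAction.mem_ofFixingSubgroup_iff] at this
        simpa using this

/-- Let G act faithfully on a finite set in such a way that every non-trivial normal subgroup of G is transitive (G is quasiprimitive). Let Γ be a subset with more than one point and not the whole set, such that the pointwise stabilizer of the complement of Γ acts transitively on Γ (a Jordan set). If that pointwise stabilizer acts primitively on Γ, then G is k-fold transitive where k is one more than the number of points outside Γ (the Jordan set is a trivial one). -/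
theorem result {G Ω : Type*} [Group G] [Finite G] [MulAction G Ω] [FaithfulSMul G Ω] [Finite Ω]
    (hqp : ∀ N : Subgroup G, N.Normal → N ≠ ⊥ → MulAction.IsPretransitive ↥N Ω)
    (Γ : Set Ω) (hΓ1 : 1 < Γ.ncard) (hΓ2 : Γ.ncard < Nat.card Ω)
    (hJ : MulAction.IsPretransitive ↥(fixingSubgroup G Γᶜ) ↥(SubMulAction.ofFixingSubgroup G Γᶜ))
    (hJp : MulAction.IsPreprimitive ↥(fixingSubgroup G Γᶜ) ↥(SubMulAction.ofFixingSubgroup G Γᶜ)) :
    MulAction.IsMultiplyPretransitive G Ω (Nat.card Ω - Γ.ncard + 1) := by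
  classical
  have _ := hJ
  have hprim : MulAction.IsPreprimitive G Ω :=
    prim_of_quasi hqp Γ ((Set.one_lt_ncard_iff_nontrivial).mp hΓ1) hJp
  have hc : Γᶜ.ncard = Nat.card Ω - Γ.ncard := by
    have := Set.ncard_add_ncard_compl Γ
    omega
  obtain ⟨n, hn⟩ : ∃ n, Nat.card Ω - Γ.ncard = n + 1 := ⟨Nat.card Ω - Γ.ncard - 1, by omega⟩
  have h1 : Γᶜ.ncard = n + 1 := by omega
  have h2 : n + 2 < Nat.card Ω := by omega
  have := hprim.isMultiplyPreprimitive h1 h2 hJp
  rw [hn]
  exact this.isMultiplyPretransitive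

end Cfsg.Agent.S3619
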