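import Mathlib
import Cfsg.Statements.S3430
import Cfsg.Agent.Lib.Helper16.PrimPart
import Cfsg.Agent.S4422

set_option autoImplicit false
open Cfsg

namespace Cfsg.Agent.S3430

open Cfsg.Agent.Lib.Helper16

theorem case_two (q : ℕ) (hq : 2 ≤ q) (h : ¬ ∃ s t : ℕ, t ≤ 1 ∧ q + 1 = 2 ^ s * 3 ^ t) :
    ∃ p : ℕ, p.Prime ∧ p ∣ q ^ 2 - 1 ∧ (∀ i : ℕ, 1 ≤ i → i < 2 → ¬ p ∣ q ^ i - 1) ∧
      (2 + 1 < p ∨ p ^ 2 ∣ q ^ 2 - 1) := by
  have hfac : q ^ 2 - 1 = (q - 1) * (q + 1) := by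
    obtain ⟨t, rfl⟩ : ∃ t, q = t + 1 := ⟨q - 1, by omega⟩
    have : (t + 1) ^ 2 = t * (t + 1 + 1) + 1 := by ring
    rw [this]
    simp
  have hdvd : q + 1 ∣ q ^ 2 - 1 := by
    rw [hfac]
    exact dvd_mul_left _ _
  have key : ∀ p : ℕ, p.Prime → p ≠ 2 → p ∣ q + 1 →
      ∀ i : ℕ, 1 ≤ i → i < 2 → ¬ p ∣ q ^ i - 1 := by
    intro p hp hp2 hpq i hi1 hi2 hpi
    have hi : i = 1 := by omega
    subst hi
    rw [pow_one] at hpi
    have h2 : p ∣ (q + 1) - (q - 1) := Nat.dvd_sub hpq hpi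
    have h3 : (q + 1) - (q - 1) = 2 := by omega
    rw [h3] at h2
    have h4 := (Nat.prime_dvd_prime_iff_eq hp Nat.prime_two).mp h2
    exact hp2 h4
  by_cases h9 : 9 ∣ q + 1
  · have h3 : 3 ∣ q + 1 := dvd_trans (by norm_num) h9
    exact ⟨3, Nat.prime_three, dvd_trans h3 hdvd, key 3 Nat.prime_three (by norm_num) h3,
      Or.inr (dvd_trans (by norm_num) (dvd_trans h9 hdvd))⟩
  · obtain ⟨s, a, ha, hsa⟩ := Nat.exists_eq_pow_mul_and_not_dvd (by omega : q + 1 ≠ 0) 2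
      (by norm_num)
    have ha0 : a ≠ 0 := by
      rintro rfl
      rw [mul_zero] at hsa
      omega
    obtain ⟨t, c, hc, htc⟩ := Nat.exists_eq_pow_mul_and_not_dvd ha0 3 (by norm_num)
    have haq : a ∣ q + 1 := ⟨2 ^ s, by rw [hsa]; ring⟩
    have hca : c ∣ a := ⟨3 ^ t, by rw [htc]; ring⟩
    have ht : t ≤ 1 := by
      by_contra hcon
      apply h9
      have h1 : (3 : ℕ) ^ 2 ∣ 3 ^ t := pow_dvd_pow 3 (by omega)
      have h2 : (3 : ℕ) ^ t ∣ a := ⟨c, htc⟩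
      exact dvd_trans (by norm_num) (dvd_trans h1 (dvd_trans h2 haq))
    have hc1 : c ≠ 1 := by
      rintro rfl
      apply h
      exact ⟨s, t, ht, by rw [hsa, htc, mul_one]⟩
    obtain ⟨p, hp, hpc⟩ := Nat.exists_prime_and_dvd hc1
    have hp2 : p ≠ 2 := by
      rintro rfl
      exact ha (dvd_trans hpc hca)
    have hp3 : p ≠ 3 := by
      rintro rfl
      exact hc hpc
    have hp5 : 3 < p := by
      have := hp.two_le
      rcases Nat.lt_or_ge p 5 with h5 | h5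
      · have : p = 4 := by omega
        subst this
        exact absurd hp (by norm_num)
      · omega
    have hpq : p ∣ q + 1 := dvd_trans hpc (dvd_trans hca haq)
    exact ⟨p, hp, dvd_trans hpq hdvd, key p hp hp2 hpq, Or.inl hp5⟩

theorem case_general (q n : ℕ) (hq : 2 ≤ q) (hn : 3 ≤ n) (hexc : PP.isExc q n = false) :
    ∃ p : ℕ, p.Prime ∧ p ∣ q ^ n - 1 ∧ (∀ i : ℕ, 1 ≤ i → i < n → ¬ p ∣ q ^ i - 1) ∧
      (n + 1 < p ∨ p ^ 2 ∣ q ^ n - 1) := by
  obtain ⟨m, hm, hcop, hle⟩ := PP.exists_large_primDiv hq hn hexc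
  have hprim : ∀ p : ℕ, p.Prime → p ∣ m →
      p ∣ q ^ n - 1 ∧ (∀ i : ℕ, 1 ≤ i → i < n → ¬ p ∣ q ^ i - 1) ∧ n + 1 ≤ p := by
    intro p hp hpm
    refine ⟨dvd_trans hpm hm, ?_, ?_⟩
    · intro i hi1 hi2 hpi
      have h1 := Nat.dvd_gcd hpm hpi
      rw [Nat.Coprime.gcd_eq_one (hcop i hi1 hi2)] at h1
      exact hp.one_lt.ne' (Nat.dvd_one.mp h1)
    · have h1 := Cfsg.Agent.S4422.prime_modEq_one q n m hq (by omega) hm hcop p hp hpm
      have h2 : n ∣ p - 1 := (Nat.modEq_iff_dvd' hp.one_lt.le).mp h1.symm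
      have h3 : 0 < p - 1 := by have := hp.two_le; omega
      have h4 := Nat.le_of_dvd h3 h2
      omega
  by_cases hbig : ∃ p : ℕ, p.Prime ∧ p ∣ m ∧ n + 1 < p
  · obtain ⟨p, hp, hpm, hlt⟩ := hbig
    obtain ⟨h1, h2, -⟩ := hprim p hp hpm
    exact ⟨p, hp, h1, h2, Or.inl hlt⟩
  · push Not at hbig
    have hm0 : m ≠ 0 := by omega
    have hm1 : m ≠ 1 := by omega
    obtain ⟨p, hp, hpm⟩ := Nat.exists_prime_and_dvd hm1
    have hpn : p = n + 1 := le_antisymm (hbig p hp hpm) (hprim p hp hpm).2.2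
    have hall : ∀ {d : ℕ}, d.Prime → d ∣ m → d = p := by
      intro d hd hdm
      rw [hpn]
      exact le_antisymm (hbig d hd hdm) (hprim d hd hdm).2.2
    have hmp := Nat.eq_prime_pow_of_unique_prime_dvd hm0 hall
    have hL : 2 ≤ m.primeFactorsList.length := by
      by_contra hcon
      have hL1 : m.primeFactorsList.length ≤ 1 := by omega
      have h1 : p ^ m.primeFactorsList.length ≤ p ^ 1 := Nat.pow_le_pow_right hp.pos hL1
      rw [← hmp, pow_one] at h1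
      omega
    have hp2 : p ^ 2 ∣ m := by
      rw [hmp]
      exact pow_dvd_pow p hL
    obtain ⟨h1, h2, -⟩ := hprim p hp hpm
    exact ⟨p, hp, h1, h2, Or.inr (dvd_trans hp2 hm)⟩


/-- Let q, n ≥ 2 be integers. Unless (n = 2 and q + 1 = 2^s·3^t for some s ≥ 0 and t ≤ 1), or (q = 2 and n ∈ {4, 6, 10, 12, 18}), or (q = 3 and n ∈ {4, 6}), or (q, n) = (5, 6), there is a prime p dividing q^n − 1 but no q^i − 1 with 1 ≤ i < n (a primitive prime divisor), such that p > n + 1 or p² divides q^n − 1. -/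
theorem result (q n : ℕ) (hq : 2 ≤ q) (hn : 2 ≤ n)
    (h1 : ¬ (n = 2 ∧ ∃ s t : ℕ, t ≤ 1 ∧ q + 1 = 2 ^ s * 3 ^ t))
    (h2 : ¬ (q = 2 ∧ (n = 4 ∨ n = 6 ∨ n = 10 ∨ n = 12 ∨ n = 18)))
    (h3 : ¬ (q = 3 ∧ (n = 4 ∨ n = 6))) (h4 : ¬ (q = 5 ∧ n = 6)) :
    ∃ p : ℕ, p.Prime ∧ p ∣ q ^ n - 1 ∧ (∀ i : ℕ, 1 ≤ i → i < n → ¬ p ∣ q ^ i - 1) ∧ (n + 1 < p ∨ p ^ 2 ∣ q ^ n - 1) := by

  rcases Nat.lt_or_ge n 3 with hn3 | hn3
  · have hn2 : n = 2 := by omega
    subst hn2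
    exact case_two q hq (fun h => h1 ⟨rfl, h⟩)
  · by_cases hexc : PP.isExc q n = true
    · have hmem := (PP.isExc_iff q n).mp hexc
      simp only [List.mem_cons, Prod.mk.injEq, List.not_mem_nil, or_false] at hmem
      rcases hmem with ⟨rfl, rfl⟩ | ⟨rfl, rfl⟩ | ⟨rfl, rfl⟩ | ⟨rfl, rfl⟩ | ⟨rfl, rfl⟩ |
        ⟨rfl, rfl⟩ | ⟨rfl, rfl⟩ | ⟨rfl, rfl⟩ | ⟨rfl, rfl⟩ | ⟨rfl, rfl⟩ | ⟨rfl, rfl⟩ |
        ⟨rfl, rfl⟩ | ⟨rfl, rfl⟩
      · exact absurd (by norm_num) h2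
      · exact absurd (by norm_num) h2
      · exact absurd (by norm_num) h2
      · exact absurd (by norm_num) h2
      · exact absurd (by norm_num) h2
      · exact absurd (by norm_num) h3
      · exact absurd (by norm_num) h3
      · exact absurd (by norm_num) h4
      · refine ⟨7, by norm_num, by norm_num, ?_, Or.inl (by norm_num)⟩
        intro i hi1 hi2
        interval_cases i <;> norm_num
      · refine ⟨17, by norm_num, by norm_num, ?_, Or.inl (by norm_num)⟩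
        intro i hi1 hi2
        interval_cases i <;> norm_num
      · refine ⟨41, by norm_num, by norm_num, ?_, Or.inl (by norm_num)⟩
        intro i hi1 hi2
        interval_cases i <;> norm_num
      · refine ⟨7, by norm_num, by norm_num, ?_, Or.inl (by norm_num)⟩
        intro i hi1 hi2
        interval_cases i <;> norm_num
      · refine ⟨13, by norm_num, by norm_num, ?_, Or.inl (by norm_num)⟩
        intro i hi1 hi2
        interval_cases i <;> norm_num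
    · exact case_general q n hq hn3 (by simpa using hexc)

end Cfsg.Agent.S3430
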