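import Mathlib
import Cfsg.Statements.S2119
-- import your own Cfsg.Agent.* helpers here

set_option autoImplicit false
set_option linter.unusedSectionVars false
open Cfsg

namespace Cfsg.Agent.S2119

open Equiv Equiv.Perm

variable {α : Type*} [Fintype α] [DecidableEq α]

/-- the 3-cycle `x → y → z → x` -/
def cyc (x y z : α) : Perm α := swap x y * swap y z

theorem cyc_apply_fst {x y z : α} (hxy : x ≠ y) (hxz : x ≠ z) : cyc x y z x = y := by
  simp [cyc, swap_apply_of_ne_of_ne hxy hxz]

theorem cyc_apply_snd {x y z : α} (hxz : x ≠ z) (hyz : y ≠ z) : cyc x y z y = z := by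
  simp [cyc, swap_apply_of_ne_of_ne hxz.symm hyz.symm]

theorem cyc_apply_thd {x y z : α} : cyc x y z z = x := by
  simp [cyc]

theorem cyc_apply_of_ne {x y z w : α} (hx : w ≠ x) (hy : w ≠ y) (hz : w ≠ z) : cyc x y z w = w := by
  simp [cyc, swap_apply_of_ne_of_ne hy hz, swap_apply_of_ne_of_ne hx hy]

theorem cyc_isThreeCycle {x y z : α} (hxy : x ≠ y) (hxz : x ≠ z) (hyz : y ≠ z) :
    IsThreeCycle (cyc x y z) := by
  have h := isThreeCycle_swap_mul_swap_same hxy.symm hyz hxz
  rwa [swap_comm y x] at h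

theorem cyc_rot {x y z : α} (hxy : x ≠ y) (hxz : x ≠ z) (hyz : y ≠ z) : cyc x y z = cyc y z x := by
  ext w
  by_cases hx : w = x
  · subst hx; rw [cyc_apply_fst hxy hxz, cyc_apply_thd]
  by_cases hy : w = y
  · subst hy; rw [cyc_apply_snd hxz hyz, cyc_apply_fst hyz hxy.symm]
  by_cases hz : w = z
  · subst hz; rw [cyc_apply_thd, cyc_apply_snd hxy.symm hxz.symm]
  rw [cyc_apply_of_ne hx hy hz, cyc_apply_of_ne hy hz hx]

theorem cyc_inv {x y z : α} : (cyc x y z)⁻¹ = cyc z y x := by
  simp [cyc, swap_comm]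

theorem conj_cyc (g : Perm α) (x y z : α) : g * cyc x y z * g⁻¹ = cyc (g x) (g y) (g z) := by
  unfold cyc
  rw [swap_apply_apply, swap_apply_apply]
  group

/-! ### pointwise facts on three-cycles -/

theorem tc_cube {t : Perm α} (ht : IsThreeCycle t) (x : α) : t (t (t x)) = x := by
  have h : t ^ 3 = 1 := by rw [← ht.orderOf]; exact pow_orderOf_eq_one t
  have h2 := congrArg (fun f : Perm α => f x) h
  simpa [pow_succ] using h2

theorem tc_ne1 {t : Perm α} (ht : IsThreeCycle t) {x : α} (hx : t x ≠ x) : t (t x) ≠ x := by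
  intro h
  apply hx
  have := tc_cube ht x
  rw [h] at this
  exact this

theorem tc_ne2 {t : Perm α} {x : α} (hx : t x ≠ x) : t (t x) ≠ t x := by
  intro h
  exact hx (t.injective h)

theorem tc_fix {t : Perm α} (ht : IsThreeCycle t) {x : α} (hx : t x ≠ x) {w : α}
    (h1 : w ≠ x) (h2 : w ≠ t x) (h3 : w ≠ t (t x)) : t w = w := by
  have hs := ht.support_eq_iff_mem_support.mpr (mem_support.mpr hx)
  by_contra hw
  have : w ∈ t.support := mem_support.mpr hw
  rw [hs] at this
  simp at this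
  tauto

theorem tc_mem {t : Perm α} (ht : IsThreeCycle t) {x : α} (hx : t x ≠ x) {w : α}
    (hw : t w ≠ w) : w = x ∨ w = t x ∨ w = t (t x) := by
  by_contra h
  push Not at h
  exact hw (tc_fix ht hx h.1 h.2.1 h.2.2)

theorem tc_eq_cyc {t : Perm α} (ht : IsThreeCycle t) {x : α} (hx : t x ≠ x) :
    t = cyc x (t x) (t (t x)) :=
  ht.eq_swap_mul_swap_iff_mem_support.mpr (mem_support.mpr hx)

/-- four distinct moved points are impossible -/
theorem tc_four {t : Perm α} (ht : IsThreeCycle t) {a b c d : α}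
    (ha : t a ≠ a) (hb : t b ≠ b) (hc : t c ≠ c) (hd : t d ≠ d)
    (hab : a ≠ b) (hac : a ≠ c) (had : a ≠ d) (hbc : b ≠ c) (hbd : b ≠ d) (hcd : c ≠ d) : False := by
  rcases tc_mem ht ha hb with h | h | h <;> rcases tc_mem ht ha hc with h' | h' | h' <;>
    rcases tc_mem ht ha hd with h'' | h'' | h'' <;> simp_all

/-- an even involution moves at least four points -/
theorem four_le_support {σ : Perm α} (h2 : σ * σ = 1) (hne : σ ≠ 1) (hs : sign σ = 1) :
    4 ≤ σ.support.card := by
  by_contra hlt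
  push Not at hlt
  have h2le : 2 ≤ σ.support.card := two_le_card_support_of_ne_one hne
  have : σ.support.card = 2 ∨ σ.support.card = 3 := by omega
  rcases this with h | h
  · rw [card_support_eq_two] at h
    have := h.sign_eq
    rw [hs] at this
    exact absurd this (by decide)
  · rw [card_support_eq_three_iff] at h
    have h3 : σ ^ 3 = 1 := by rw [← h.orderOf]; exact pow_orderOf_eq_one σ
    apply hne
    calc σ = σ ^ 3 * (σ * σ)⁻¹ := by group
      _ = 1 := by rw [h3, h2]; simp

/-- two three-cycles whose product is an involution share an oriented edge -/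
theorem pair_struct {s t : Perm α} (hs : IsThreeCycle s) (ht : IsThreeCycle t)
    (h2 : (s * t) * (s * t) = 1) (hne : s * t ≠ 1) :
    ∃ a, s a ≠ a ∧ t a = s a ∧ s (t (s a)) = t (s a) := by
  have h4 : 4 ≤ (s * t).support.card :=
    four_le_support h2 hne (by simp [hs.sign, ht.sign])
  have hex : ∃ d, d ∈ (s * t).support ∧ d ∉ s.support := by
    by_contra hcon
    push Not at hcon
    have hsub : (s * t).support ⊆ s.support := hcon
    have := Finset.card_le_card hsub
    rw [hs.card_support] at this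
    omega
  obtain ⟨d, hd1, hd2⟩ := hex
  have hsd : s d = d := by simpa using hd2
  have htd : t d ≠ d := by
    intro h
    apply (mem_support.mp hd1)
    simp [h, hsd]
  have hp : ∀ x, s (t (s (t x))) = x := fun x => by
    have := congrArg (fun f : Perm α => f x) h2
    simpa using this
  have hb : t (s (t d)) = d := by
    apply s.injective; rw [hp d, hsd]
  refine ⟨t d, ?_, ?_, ?_⟩
  · intro h
    rw [h] at hb
    exact tc_ne1 ht htd hb
  · have := tc_cube ht (s (t d))
    rw [hb] at this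
    exact this
  · rw [hb, hsd]

theorem triple {s t u : Perm α} (hs : IsThreeCycle s) (ht : IsThreeCycle t) (hu : IsThreeCycle u)
    {a : α} (ha : s a ≠ a) (hta : t a = s a) (hfix : s (t (s a)) = t (s a))
    (h2s : (s * u) * (s * u) = 1) (hnes : s * u ≠ 1)
    (h2t : (t * u) * (t * u) = 1) (hnet : t * u ≠ 1) : u a = s a := by
  obtain ⟨a₁, h1, h1', -⟩ := pair_struct hs hu h2s hnes
  obtain ⟨a₂, h2, h2', -⟩ := pair_struct ht hu h2t hnet
  have hta' : t a ≠ a := by rw [hta]; exact ha
  have hab : a ≠ s a := fun h => ha h.symm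
  have hbc : s a ≠ s (s a) := (tc_ne2 ha).symm
  have hac : a ≠ s (s a) := (tc_ne1 hs ha).symm
  have hbd : s a ≠ t (s a) := by
    have := tc_ne2 hta'
    rw [hta] at this
    exact this.symm
  have had : a ≠ t (s a) := by
    have := tc_ne1 ht hta'
    rw [hta] at this
    exact this.symm
  have hsc : s (s (s a)) = a := tc_cube hs a
  have htd : t (t (s a)) = a := by have := tc_cube ht a; rw [hta] at this; exact this
  have hcd : s (s a) ≠ t (s a) := by
    intro h
    apply had
    calc a = s (s (s a)) := hsc.symm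
      _ = s (t (s a)) := by rw [h]
      _ = t (s a) := hfix
  rcases tc_mem hs ha h1 with e1 | e1 | e1
  · rw [e1] at h1'; exact h1'
  · rcases tc_mem ht hta' h2 with e2 | e2 | e2
    · rw [e2, hta] at h2'; exact h2'
    · -- u (s a) = s (s a) and u (s a) = t (s a)
      exfalso
      rw [e1] at h1'
      rw [e2, hta] at h2'
      exact hcd (h1'.symm.trans h2')
    · -- u b = c, u d = a
      exfalso
      rw [e1] at h1'
      rw [e2, hta, htd] at h2'
      -- h1' : u (s a) = s (s a);  h2' : u (t (s a)) = a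
      have m1 : u (s a) ≠ s a := by rw [h1']; exact hbc.symm
      have m2 : u (s (s a)) ≠ s (s a) := by
        intro h
        exact hbc (u.injective (h1'.trans h.symm))
      have m3 : u (t (s a)) ≠ t (s a) := by rw [h2']; exact had
      have m4 : u a ≠ a := by
        intro h
        exact had (u.injective (h.trans h2'.symm))
      exact tc_four hu m4 m1 m2 m3 hab hac had hbc hbd hcd
  · rcases tc_mem ht hta' h2 with e2 | e2 | e2
    · rw [e2, hta] at h2'; exact h2'
    · -- u c = a, u b = d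
      exfalso
      rw [e1, hsc] at h1'
      rw [e2, hta] at h2'
      -- h1' : u (s (s a)) = a ; h2' : u (s a) = t (s a)
      have m1 : u (s a) ≠ s a := by rw [h2']; exact hbd.symm
      have m2 : u (s (s a)) ≠ s (s a) := by rw [h1']; exact hac
      have m3 : u (t (s a)) ≠ t (s a) := by
        intro h
        exact hbd (u.injective (h2'.trans h.symm))
      have m4 : u a ≠ a := by
        intro h
        exact hac (u.injective (h.trans h1'.symm))
      exact tc_four hu m4 m1 m2 m3 hab hac had hbc hbd hcd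
    · -- u c = a, u d = a
      exfalso
      rw [e1, hsc] at h1'
      rw [e2, hta, htd] at h2'
      exact hcd (u.injective (h1'.trans h2'.symm))

/-- a subgroup containing the three-cycles `p → q → k` contains all three-cycles -/
theorem gen_mem (N : Subgroup (Perm α)) {p q : α} (hpq : p ≠ q)
    (hgen : ∀ k, k ≠ p → k ≠ q → cyc p q k ∈ N) :
    ∀ t : Perm α, IsThreeCycle t → t ∈ N := by
  have hconj : ∀ (g : Perm α) (x y z : α), g ∈ N → cyc x y z ∈ N →
      cyc (g x) (g y) (g z) ∈ N := by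
    intro g x y z hg h
    rw [← conj_cyc]
    exact N.mul_mem (N.mul_mem hg h) (N.inv_mem hg)
  have hp1 : ∀ y, y ≠ p → y ≠ q → cyc p y q ∈ N := by
    intro y hyp hyq
    have h := N.inv_mem (hgen y hyp hyq)
    rw [cyc_inv, cyc_rot hyq hyp hpq.symm, cyc_rot hpq.symm hyq.symm hyp.symm] at h
    exact h
  have hp2 : ∀ y z, y ≠ p → y ≠ q → z ≠ p → z ≠ q → y ≠ z → cyc p z y ∈ N := by
    intro y z hyp hyq hzp hzq hyz
    have h := hconj (cyc p y q) p q z (hp1 y hyp hyq) (hgen z hzp hzq)
    rw [cyc_apply_fst hyp.symm hpq, cyc_apply_thd, cyc_apply_of_ne hzp hyz.symm hzq] at h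
    rw [cyc_rot hyp hyz hzp.symm] at h
    exact h
  have hp : ∀ y z, y ≠ p → z ≠ p → y ≠ z → cyc p y z ∈ N := by
    intro y z hyp hzp hyz
    by_cases hyq : y = q
    · rw [hyq]; exact hgen z hzp (fun h => hyz (hyq.trans h.symm))
    by_cases hzq : z = q
    · rw [hzq]; exact hp1 y hyp hyq
    exact hp2 z y hzp hzq hyp hyq (Ne.symm hyz)
  have hall : ∀ x y z, x ≠ y → x ≠ z → y ≠ z → cyc x y z ∈ N := by
    intro x y z hxy hxz hyz
    by_cases hx : x = p
    · rw [hx]; exact hp y z (fun h => hxy (hx.trans h.symm)) (fun h => hxz (hx.trans h.symm)) hyz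
    by_cases hy : y = p
    · rw [cyc_rot hxy hxz hyz, hy]
      exact hp z x (fun h => hyz (hy.trans h.symm)) hx hxz.symm
    by_cases hz : z = p
    · rw [cyc_rot hxy hxz hyz, cyc_rot hyz hxy.symm hxz.symm, hz]
      exact hp x y hx hy hxy
    have h := hconj (cyc p x y) p x z (hp x y hx hy hxy) (hp x z hx hz hxz)
    rw [cyc_apply_fst (Ne.symm hx) (Ne.symm hy), cyc_apply_snd (Ne.symm hy) hxy,
      cyc_apply_of_ne hz hxz.symm hyz.symm] at h
    exact h
  intro t ht
  obtain ⟨x, hx⟩ : ∃ x, t x ≠ x := by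
    by_contra h
    push Not at h
    exact ht.ne_one (Equiv.ext h)
  rw [tc_eq_cyc ht hx]
  exact hall _ _ _ (Ne.symm hx) (tc_ne1 ht hx).symm (tc_ne2 hx).symm

theorem cyc_mul_sq {p q k l : α} (hpq : p ≠ q) (hpk : p ≠ k) (hpl : p ≠ l) (hqk : q ≠ k)
    (hql : q ≠ l) (hkl : k ≠ l) :
    (cyc p q k * cyc p q l) * (cyc p q k * cyc p q l) = 1 := by
  ext w
  simp only [Perm.mul_apply, Perm.one_apply]
  by_cases hwp : w = p
  · rw [hwp, cyc_apply_fst hpq hpl, cyc_apply_snd hpk hqk,
      cyc_apply_of_ne hpk.symm hqk.symm hkl, cyc_apply_thd]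
  by_cases hwq : w = q
  · rw [hwq, cyc_apply_snd hpl hql, cyc_apply_of_ne hpl.symm hql.symm hkl.symm, cyc_apply_thd,
      cyc_apply_fst hpq hpk]
  by_cases hwk : w = k
  · rw [hwk, cyc_apply_of_ne hpk.symm hqk.symm hkl, cyc_apply_thd, cyc_apply_fst hpq hpl,
      cyc_apply_snd hpk hqk]
  by_cases hwl : w = l
  · rw [hwl, cyc_apply_thd, cyc_apply_fst hpq hpk, cyc_apply_snd hpl hql,
      cyc_apply_of_ne hpl.symm hql.symm hkl.symm]
  · rw [cyc_apply_of_ne hwp hwq hwl, cyc_apply_of_ne hwp hwq hwk, cyc_apply_of_ne hwp hwq hwl,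
      cyc_apply_of_ne hwp hwq hwk]

theorem cyc_mul_ne_one {p q k l : α} (hpq : p ≠ q) (hpk : p ≠ k) (hpl : p ≠ l) (hqk : q ≠ k) :
    cyc p q k * cyc p q l ≠ 1 := by
  intro h
  have h1 := congrArg (fun f : Perm α => f p) h
  simp only [Perm.mul_apply, Perm.one_apply] at h1
  rw [cyc_apply_fst hpq hpl, cyc_apply_snd hpk hqk] at h1
  exact hpk h1.symm

theorem exists_four (h4 : 4 ≤ Fintype.card α) :
    ∃ p q k₀ k₁ : α, p ≠ q ∧ p ≠ k₀ ∧ p ≠ k₁ ∧ q ≠ k₀ ∧ q ≠ k₁ ∧ k₀ ≠ k₁ := by
  have : Fintype.card (Fin 4) ≤ Fintype.card α := by simpa using h4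
  obtain ⟨e⟩ := Function.Embedding.nonempty_of_card_le this
  refine ⟨e 0, e 1, e 2, e 3, ?_, ?_, ?_, ?_, ?_, ?_⟩ <;>
    · intro h
      have := e.injective h
      revert this
      decide

theorem exists_conj (h4 : 4 ≤ Fintype.card α) (φ : MulAut (alternatingGroup α))
    (hφ : ∀ g : alternatingGroup α, IsThreeCycle (g : Perm α) → IsThreeCycle (φ g : Perm α)) :
    ∃ σ : Perm α, ∀ g : alternatingGroup α, (φ g : Perm α) = σ * g * σ⁻¹ := by
  classical
  obtain ⟨p, q, k₀, k₁, hpq, hpk₀, hpk₁, hqk₀, hqk₁, hk₀k₁⟩ := exists_four h4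
  have hmem : ∀ k, k ≠ p → k ≠ q → cyc p q k ∈ alternatingGroup α := fun k hkp hkq =>
    (cyc_isThreeCycle hpq hkp.symm hkq.symm).mem_alternatingGroup
  let D : α → Perm α := fun k =>
    if h : cyc p q k ∈ alternatingGroup α then (φ ⟨cyc p q k, h⟩ : Perm α) else 1
  have hD : ∀ k (hkp : k ≠ p) (hkq : k ≠ q),
      D k = (φ ⟨cyc p q k, hmem k hkp hkq⟩ : Perm α) := by
    intro k hkp hkq
    simp only [D, dif_pos (hmem k hkp hkq)]
  have hD3 : ∀ k, k ≠ p → k ≠ q → IsThreeCycle (D k) := by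
    intro k hkp hkq
    rw [hD k hkp hkq]
    exact hφ _ (cyc_isThreeCycle hpq hkp.symm hkq.symm)
  have hprod : ∀ k l, k ≠ p → k ≠ q → l ≠ p → l ≠ q → k ≠ l →
      (D k * D l) * (D k * D l) = 1 ∧ D k * D l ≠ 1 := by
    intro k l hkp hkq hlp hlq hkl
    rw [hD k hkp hkq, hD l hlp hlq]
    constructor
    · rw [← Subgroup.coe_mul, ← map_mul, ← Subgroup.coe_mul, ← map_mul]
      have : (⟨cyc p q k, hmem k hkp hkq⟩ * ⟨cyc p q l, hmem l hlp hlq⟩ *
          (⟨cyc p q k, hmem k hkp hkq⟩ * ⟨cyc p q l, hmem l hlp hlq⟩) : alternatingGroup α) = 1 := by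
        apply Subtype.ext
        exact cyc_mul_sq hpq hkp.symm hlp.symm hkq.symm hlq.symm hkl
      rw [this, map_one]; rfl
    · rw [← Subgroup.coe_mul, ← map_mul]
      intro h
      have h1 : φ (⟨cyc p q k, hmem k hkp hkq⟩ * ⟨cyc p q l, hmem l hlp hlq⟩) = 1 :=
        Subtype.ext h
      rw [map_eq_one_iff φ φ.injective] at h1
      have h2 := congrArg Subtype.val h1
      exact cyc_mul_ne_one hpq hkp.symm hlp.symm hkq.symm h2
  have hDinj : ∀ k l, k ≠ p → k ≠ q → l ≠ p → l ≠ q → D k = D l → k = l := by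
    intro k l hkp hkq hlp hlq h
    rw [hD k hkp hkq, hD l hlp hlq] at h
    have h1 := φ.injective (Subtype.ext h)
    have h2 := congrArg (fun f : alternatingGroup α => (f : Perm α) q) h1
    simp only at h2
    rw [cyc_apply_snd hkp.symm hkq.symm, cyc_apply_snd hlp.symm hlq.symm] at h2
    exact h2
  obtain ⟨a, ha, hta, hfix⟩ := pair_struct (hD3 k₀ hpk₀.symm hqk₀.symm) (hD3 k₁ hpk₁.symm hqk₁.symm)
    (hprod k₀ k₁ hpk₀.symm hqk₀.symm hpk₁.symm hqk₁.symm hk₀k₁).1
    (hprod k₀ k₁ hpk₀.symm hqk₀.symm hpk₁.symm hqk₁.symm hk₀k₁).2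
  have hall : ∀ k, k ≠ p → k ≠ q → D k a = D k₀ a := by
    intro k hkp hkq
    by_cases e0 : k = k₀
    · rw [e0]
    by_cases e1 : k = k₁
    · rw [e1]; exact hta
    exact triple (hD3 k₀ hpk₀.symm hqk₀.symm) (hD3 k₁ hpk₁.symm hqk₁.symm) (hD3 k hkp hkq) ha hta hfix
      (hprod k₀ k hpk₀.symm hqk₀.symm hkp hkq (Ne.symm e0)).1
      (hprod k₀ k hpk₀.symm hqk₀.symm hkp hkq (Ne.symm e0)).2
      (hprod k₁ k hpk₁.symm hqk₁.symm hkp hkq (Ne.symm e1)).1
      (hprod k₁ k hpk₁.symm hqk₁.symm hkp hkq (Ne.symm e1)).2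
  obtain ⟨b, hb⟩ : ∃ b, b = D k₀ a := ⟨_, rfl⟩
  rw [← hb] at hall ha
  -- ha : b ≠ a
  have hmove : ∀ k, k ≠ p → k ≠ q → D k a ≠ a := by
    intro k hkp hkq; rw [hall k hkp hkq]; exact ha
  have hx1 : ∀ k, k ≠ p → k ≠ q → D k b ≠ a := by
    intro k hkp hkq
    have := tc_ne1 (hD3 k hkp hkq) (hmove k hkp hkq)
    rwa [hall k hkp hkq] at this
  have hx2 : ∀ k, k ≠ p → k ≠ q → D k b ≠ b := by
    intro k hkp hkq
    have := tc_ne2 (hmove k hkp hkq)
    rwa [hall k hkp hkq] at this
  have hx3 : ∀ k, k ≠ p → k ≠ q → D k (D k b) = a := by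
    intro k hkp hkq
    have := tc_cube (hD3 k hkp hkq) a
    rwa [hall k hkp hkq] at this
  have hxinj : ∀ k l, k ≠ p → k ≠ q → l ≠ p → l ≠ q → D k b = D l b → k = l := by
    intro k l hkp hkq hlp hlq h
    apply hDinj k l hkp hkq hlp hlq
    rw [tc_eq_cyc (hD3 k hkp hkq) (hmove k hkp hkq), tc_eq_cyc (hD3 l hlp hlq) (hmove l hlp hlq),
      hall k hkp hkq, hall l hlp hlq, h]
  let f : α → α := fun i => if i = p then a else if i = q then b else D i b
  have hfp : f p = a := by simp [f]
  have hfq : f q = b := by simp [f, hpq.symm]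
  have hfk : ∀ k, k ≠ p → k ≠ q → f k = D k b := by
    intro k hkp hkq; simp [f, hkp, hkq]
  have hinj : Function.Injective f := by
    intro i j hij
    by_cases hip : i = p
    · by_cases hjp : j = p
      · rw [hip, hjp]
      · by_cases hjq : j = q
        · rw [hip, hjq, hfp, hfq] at hij; exact absurd hij.symm ha
        · rw [hip, hfp, hfk j hjp hjq] at hij; exact absurd hij.symm (hx1 j hjp hjq)
    · by_cases hiq : i = q
      · by_cases hjp : j = p
        · rw [hiq, hjp, hfp, hfq] at hij; exact absurd hij ha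
        · by_cases hjq : j = q
          · rw [hiq, hjq]
          · rw [hiq, hfq, hfk j hjp hjq] at hij; exact absurd hij.symm (hx2 j hjp hjq)
      · by_cases hjp : j = p
        · rw [hjp, hfp, hfk i hip hiq] at hij; exact absurd hij (hx1 i hip hiq)
        · by_cases hjq : j = q
          · rw [hjq, hfq, hfk i hip hiq] at hij; exact absurd hij (hx2 i hip hiq)
          · rw [hfk i hip hiq, hfk j hjp hjq] at hij
            exact hxinj i j hip hiq hjp hjq hij
  let σ : Perm α := Equiv.ofBijective f (Finite.injective_iff_bijective.mp hinj)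
  have hσ : ∀ i, σ i = f i := fun i => rfl
  have hconj : ∀ k, k ≠ p → k ≠ q → D k = σ * cyc p q k * σ⁻¹ := by
    intro k hkp hkq
    rw [eq_mul_inv_iff_mul_eq]
    ext w
    simp only [Perm.mul_apply, hσ]
    by_cases hwp : w = p
    · rw [hwp, hfp, cyc_apply_fst hpq hkp.symm, hfq, hall k hkp hkq]
    by_cases hwq : w = q
    · rw [hwq, hfq, cyc_apply_snd hkp.symm hkq.symm, hfk k hkp hkq]
    by_cases hwk : w = k
    · rw [hwk, cyc_apply_thd, hfp, hfk k hkp hkq, hx3 k hkp hkq]
    · rw [cyc_apply_of_ne hwp hwq hwk, hfk w hwp hwq]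
      apply tc_fix (hD3 k hkp hkq) (hmove k hkp hkq)
      · exact hx1 w hwp hwq
      · rw [hall k hkp hkq]; exact hx2 w hwp hwq
      · rw [hall k hkp hkq]
        intro h
        exact hwk (hxinj w k hwp hwq hkp hkq h)
  refine ⟨σ, ?_⟩
  let ψ₁ : alternatingGroup α →* Perm α := (alternatingGroup α).subtype.comp φ.toMonoidHom
  let ψ₂ : alternatingGroup α →* Perm α :=
    (MulAut.conj σ).toMonoidHom.comp (alternatingGroup α).subtype
  let M : Subgroup (alternatingGroup α) := MonoidHom.eqLocus ψ₁ ψ₂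
  have h3 : ∀ t : Perm α, IsThreeCycle t → t ∈ M.map (alternatingGroup α).subtype := by
    apply gen_mem _ hpq
    intro k hkp hkq
    refine ⟨⟨cyc p q k, hmem k hkp hkq⟩, ?_, rfl⟩
    show ψ₁ _ = ψ₂ _
    simp only [ψ₁, ψ₂, MonoidHom.coe_comp, Function.comp_apply, Subgroup.coe_subtype,
      MulEquiv.coe_toMonoidHom, MulAut.conj_apply]
    rw [← hD k hkp hkq, hconj k hkp hkq]
  have hM : M = ⊤ := by
    rw [eq_top_iff, ← alternatingGroup.closure_isThreeCycles_eq_top, Subgroup.closure_le]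
    intro g hg
    obtain ⟨g', hg', hgg'⟩ := h3 g hg
    have : g' = g := Subtype.ext hgg'
    rw [← this]; exact hg'
  intro g
  have hg : g ∈ M := by rw [hM]; trivial
  have : ψ₁ g = ψ₂ g := hg
  simpa [ψ₁, ψ₂] using this

theorem card_centralizer_aut (φ : MulAut (alternatingGroup α)) (g : alternatingGroup α) :
    Nat.card (Subgroup.centralizer {φ g}) = Nat.card (Subgroup.centralizer {g}) := by
  apply Nat.card_congr
  symm
  refine Equiv.subtypeEquiv φ.toEquiv ?_
  intro x
  simp only [Subgroup.mem_centralizer_iff, Set.mem_singleton_iff, forall_eq,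
    MulEquiv.toEquiv_eq_coe, MulEquiv.coe_toEquiv]
  constructor
  · intro h; rw [← map_mul, ← map_mul, h]
  · intro h; apply φ.injective; rw [map_mul, map_mul, h]

theorem card_centralizer_le (g : alternatingGroup α) :
    Nat.card (Subgroup.centralizer {g}) ≤ Nat.card (Subgroup.centralizer {(g : Perm α)}) := by
  refine Nat.card_le_card_of_injective
    (fun x => (⟨(x.1 : Perm α), ?_⟩ : Subgroup.centralizer {(g : Perm α)})) ?_
  · have hx := x.2
    rw [Subgroup.mem_centralizer_iff] at hx ⊢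
    intro h hh
    rw [Set.mem_singleton_iff] at hh
    rw [hh]
    have := hx g rfl
    exact congrArg Subtype.val this
  · intro x y hxy
    apply Subtype.ext
    apply Subtype.ext
    have := congrArg (fun z : Subgroup.centralizer {(g : Perm α)} => (z : Perm α)) hxy
    exact this

theorem card_centralizer_ge (g : alternatingGroup α) :
    Nat.card (Subgroup.centralizer {(g : Perm α)}) ≤ 2 * Nat.card (Subgroup.centralizer {g}) := by
  let C := Subgroup.centralizer {(g : Perm α)}
  let f : C →* ℤˣ := Perm.sign.comp C.subtype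
  have h1 : Nat.card f.ker * f.ker.index = Nat.card C := Subgroup.card_mul_index _
  have h2 : f.ker.index ≤ 2 := by
    rw [Subgroup.index_ker]
    calc Nat.card f.range ≤ Nat.card ℤˣ := Subgroup.card_le_card_group _
      _ = 2 := by simp [Nat.card_eq_fintype_card]
  have h3 : Nat.card f.ker ≤ Nat.card (Subgroup.centralizer {g}) := by
    refine Nat.card_le_card_of_injective
      (fun x => (⟨⟨(x.1 : Perm α), ?_⟩, ?_⟩ : Subgroup.centralizer {g})) ?_
    · exact mem_alternatingGroup.mpr x.2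
    · have hx := x.1.2
      rw [Subgroup.mem_centralizer_iff] at hx ⊢
      intro h hh
      rw [Set.mem_singleton_iff] at hh
      rw [hh]
      apply Subtype.ext
      exact hx g rfl
    · intro x y hxy
      apply Subtype.ext
      apply Subtype.ext
      have := congrArg (fun z : Subgroup.centralizer {g} => ((z : alternatingGroup α) : Perm α)) hxy
      exact this
  have h4 : Nat.card C ≤ Nat.card f.ker * 2 := by
    rw [← h1]; exact Nat.mul_le_mul_left _ h2
  show Nat.card C ≤ _
  omega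

theorem cycleType_of_order_three {h : Perm α} (h3 : orderOf h = 3) :
    h.cycleType = Multiset.replicate (Multiset.card h.cycleType) 3 := by
  rw [Multiset.eq_replicate_card]
  intro m hm
  have h1 := dvd_of_mem_cycleType hm
  rw [h3] at h1
  have h2 := two_le_of_mem_cycleType hm
  have := (Nat.prime_three).eq_one_or_self_of_dvd m h1
  omega

open Nat in
theorem card_cent_of_type {h : Perm α} {k : ℕ} (hk : 1 ≤ k)
    (hc : h.cycleType = Multiset.replicate k 3) :
    Nat.card (Subgroup.centralizer {h}) = (Fintype.card α - 3 * k)! * 3 ^ k * k ! := by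
  rw [nat_card_centralizer, hc]
  have hk0 : k ≠ 0 := by omega
  simp [Multiset.toFinset_replicate, hk0, mul_comm]

open Nat in
theorem fact_aux (j : ℕ) : 2 * 3 ^ (j + 3) * (j + 3)! < 3 * (3 * j + 6)! := by
  induction j with
  | zero => decide
  | succ j ih =>
    have e1 : (3 * (j + 1) + 6)! = (3 * j + 9) * ((3 * j + 8) * ((3 * j + 7) * (3 * j + 6)!)) := by
      have : 3 * (j + 1) + 6 = 3 * j + 6 + 1 + 1 + 1 := by ring
      rw [this, Nat.factorial_succ, Nat.factorial_succ, Nat.factorial_succ]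
    have e2 : (j + 1 + 3)! = (j + 4) * (j + 3)! := by
      have : j + 1 + 3 = j + 3 + 1 := by ring
      rw [this, Nat.factorial_succ]
    have e3 : 3 ^ (j + 1 + 3) = 3 * 3 ^ (j + 3) := by ring
    rw [e1, e2, e3]
    have hpos : 0 < (3 * j + 6)! := Nat.factorial_pos _
    have h1 : 2 * (3 * 3 ^ (j + 3)) * ((j + 4) * (j + 3)!) =
        (3 * (j + 4)) * (2 * 3 ^ (j + 3) * (j + 3)!) := by ring
    rw [h1]
    have h2 : (3 * (j + 4)) * (2 * 3 ^ (j + 3) * (j + 3)!) < (3 * (j + 4)) * (3 * (3 * j + 6)!) :=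
      Nat.mul_lt_mul_of_pos_left ih (by omega)
    have h3 : 3 * (j + 4) * (3 * (3 * j + 6)!) ≤
        3 * ((3 * j + 9) * ((3 * j + 8) * ((3 * j + 7) * (3 * j + 6)!))) := by
      have h56 : 8 * 7 ≤ (3 * j + 8) * (3 * j + 7) := Nat.mul_le_mul (by omega) (by omega)
      have : 3 * (j + 4) ≤ (3 * j + 9) * ((3 * j + 8) * (3 * j + 7)) :=
        calc 3 * (j + 4) ≤ (3 * j + 9) * (8 * 7) := by omega
          _ ≤ _ := Nat.mul_le_mul_left _ h56
      calc 3 * (j + 4) * (3 * (3 * j + 6)!) = 3 * ((3 * (j + 4)) * (3 * j + 6)!) := by ring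
        _ ≤ 3 * (((3 * j + 9) * ((3 * j + 8) * (3 * j + 7))) * (3 * j + 6)!) :=
            Nat.mul_le_mul_left _ (Nat.mul_le_mul_right _ this)
        _ = _ := by ring
    omega

open Nat in
theorem fact_ineq (n k : ℕ) (hk : 2 ≤ k) (hn : 3 * k ≤ n) (h6 : n ≠ 6) :
    2 * ((n - 3 * k)! * 3 ^ k * k !) < (n - 3)! * 3 := by
  obtain ⟨m, rfl⟩ : ∃ m, n = m + 3 * k := ⟨n - 3 * k, by omega⟩
  have e0 : m + 3 * k - 3 * k = m := by omega
  rw [e0]
  have hm : 0 < m ! := Nat.factorial_pos _
  rcases Nat.lt_or_ge k 3 with hk3 | hk3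
  · have hk2 : k = 2 := by omega
    subst hk2
    obtain ⟨m', rfl⟩ : ∃ m', m = m' + 1 := ⟨m - 1, by omega⟩
    have e1 : m' + 1 + 3 * 2 - 3 = m' + 1 + 1 + 1 + 1 := by omega
    rw [e1, Nat.factorial_succ (m' + 1 + 1 + 1), Nat.factorial_succ (m' + 1 + 1),
      Nat.factorial_succ (m' + 1)]
    have : (2 : ℕ)! = 2 := rfl
    rw [this]
    have h24 : 4 * (3 * 2) ≤ (m' + 1 + 1 + 1 + 1) * ((m' + 1 + 1 + 1) * (m' + 1 + 1)) :=
      Nat.mul_le_mul (by omega) (Nat.mul_le_mul (by omega) (by omega))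
    have : 4 * (3 * 2) * (m' + 1)! ≤ (m' + 1 + 1 + 1 + 1) * ((m' + 1 + 1 + 1) * (m' + 1 + 1)) * (m' + 1)! :=
      Nat.mul_le_mul_right _ h24
    nlinarith
  · obtain ⟨j, rfl⟩ : ∃ j, k = j + 3 := ⟨k - 3, by omega⟩
    have e1 : m + 3 * (j + 3) - 3 = m + (3 * j + 6) := by omega
    rw [e1]
    have h1 := fact_aux j
    have h2 : m ! * (3 * j + 6)! ≤ (m + (3 * j + 6))! :=
      Nat.le_of_dvd (Nat.factorial_pos _) (Nat.factorial_mul_factorial_dvd_factorial_add _ _)
    calc 2 * (m ! * 3 ^ (j + 3) * (j + 3)!) = m ! * (2 * 3 ^ (j + 3) * (j + 3)!) := by ring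
      _ < m ! * (3 * (3 * j + 6)!) := Nat.mul_lt_mul_of_pos_left h1 hm
      _ = (m ! * (3 * j + 6)!) * 3 := by ring
      _ ≤ (m + (3 * j + 6))! * 3 := Nat.mul_le_mul_right _ h2

theorem aut_threeCycle (h6 : Fintype.card α ≠ 6) (φ : MulAut (alternatingGroup α))
    (g : alternatingGroup α) (hg : IsThreeCycle (g : Perm α)) : IsThreeCycle (φ g : Perm α) := by
  have ho : orderOf (φ g : Perm α) = 3 := by
    rw [Subgroup.orderOf_coe, MulEquiv.orderOf_eq, ← Subgroup.orderOf_coe, hg.orderOf]
  have hct := cycleType_of_order_three ho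
  obtain ⟨k, hk⟩ : ∃ k, k = Multiset.card (φ g : Perm α).cycleType := ⟨_, rfl⟩
  rw [← hk] at hct
  have hk1 : 1 ≤ k := by
    by_contra h0
    have hk0 : k = 0 := by omega
    rw [hk0, Multiset.replicate_zero, cycleType_eq_zero] at hct
    rw [hct] at ho
    simp at ho
  have hsum : 3 * k ≤ Fintype.card α := by
    have := (φ g : Perm α).support.card_le_univ
    rw [← sum_cycleType, hct] at this
    simpa [mul_comm] using this
  by_contra hne
  have hk2 : 2 ≤ k := by
    by_contra hlt
    have hk1' : k = 1 := by omega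
    apply hne
    rw [IsThreeCycle, hct, hk1']
    rfl
  have hc1 := card_centralizer_ge g
  have hc2 := card_centralizer_le (φ g)
  have hc3 := card_centralizer_aut φ g
  have hg' : (g : Perm α).cycleType = Multiset.replicate 1 3 := by
    rw [hg.cycleType]; rfl
  rw [card_cent_of_type le_rfl hg'] at hc1
  rw [card_cent_of_type hk1 hct] at hc2
  have := fact_ineq (Fintype.card α) k hk2 hsum h6
  simp only [mul_one, pow_one, Nat.factorial_one] at hc1
  omega

theorem main (h4 : 4 ≤ Fintype.card α) (h6 : Fintype.card α ≠ 6) :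
    Function.Bijective (MulAut.conjNormal : Perm α →* MulAut (alternatingGroup α)) := by
  constructor
  · rw [injective_iff_map_eq_one]
    intro σ hσ
    ext i
    by_contra hi
    rw [Perm.one_apply] at hi
    -- two more points
    have hcard : 2 ≤ (Finset.univ \ {i, σ i} : Finset α).card := by
      have h1 : ((Finset.univ : Finset α) \ {i, σ i}).card = Fintype.card α - ({i, σ i} : Finset α).card :=
        Finset.card_univ_sdiff _
      have h2 : ({i, σ i} : Finset α).card ≤ 2 := Finset.card_le_two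
      omega
    obtain ⟨k, hk, l, hl, hkl⟩ := Finset.one_lt_card.1 hcard
    simp only [Finset.mem_sdiff, Finset.mem_univ, Finset.mem_insert, Finset.mem_singleton,
      true_and, not_or] at hk hl
    have ht : cyc (σ i) k l ∈ alternatingGroup α :=
      (cyc_isThreeCycle (Ne.symm hk.2) (Ne.symm hl.2) hkl).mem_alternatingGroup
    have h1 := congrArg (fun f : MulAut (alternatingGroup α) =>
      ((f ⟨cyc (σ i) k l, ht⟩ : alternatingGroup α) : Perm α)) hσ
    simp only [MulAut.conjNormal_apply, MulAut.one_apply] at h1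
    rw [mul_inv_eq_iff_eq_mul] at h1
    have h2 := congrArg (fun f : Perm α => f i) h1
    simp only [Perm.mul_apply] at h2
    rw [cyc_apply_of_ne (Ne.symm hi) (Ne.symm hk.1) (Ne.symm hl.1),
      cyc_apply_fst (Ne.symm hk.2) (Ne.symm hl.2)] at h2
    exact hk.2 h2.symm
  · intro φ
    obtain ⟨σ, hσ⟩ := exists_conj h4 φ (fun g hg => aut_threeCycle h6 φ g hg)
    refine ⟨σ, ?_⟩
    apply MulEquiv.ext
    intro g
    apply Subtype.ext
    rw [MulAut.conjNormal_apply, hσ]


/-- Automorphisms of the alternating groups: for n ≥ 4 with n ≠ 6, every automorphism of the alternating group of degree n is conjugation by a unique permutation, i.e. conjugation induces an isomorphism from the symmetric group of degree n onto the automorphism group of the alternating group (so the outer automorphism group has order 2). -/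
theorem result (n : ℕ) (hn : 4 ≤ n) (h6 : n ≠ 6) : Function.Bijective (MulAut.conjNormal : Equiv.Perm (Fin n) →* MulAut ↥(alternatingGroup (Fin n))) := by
  exact main (by simpa using hn) (by simpa using h6)

end Cfsg.Agent.S2119
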