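import Cfsg.Statements.S0350
import Cfsg.Agent.Lib.Helper93.Steiner

set_option autoImplicit false
open Cfsg

namespace Cfsg.Agent.S0350

/-- Counting pairs (t-subset, block containing it) in two ways: the number of blocks of a Steiner system with parameters (t, k, v), multiplied by C(k, t), equals C(v, t). -/
theorem result {α : Type*} [Fintype α] [DecidableEq α] {t k : ℕ} {B : Set (Finset α)} (hB : Cfsg.IsSteinerSystem t k B) : B.ncard * Nat.choose k t = Nat.choose (Fintype.card α) t := by
  classical
  set Bf : Finset (Finset α) := Finset.univ.filter (· ∈ B) with hBfdef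
  have hBf : ∀ b, b ∈ Bf ↔ b ∈ B := by intro b; simp [hBfdef]
  have h := Cfsg.Agent.Lib.Helper93.steiner_lambda hB Bf hBf ∅ (by simp)
  simp only [Finset.card_empty, Nat.sub_zero, Finset.empty_subset, Finset.filter_true] at h
  have hcard : B.ncard = Bf.card := by
    rw [← Set.ncard_coe_finset]
    congr 1
    ext b
    simp [hBf]
  rw [hcard]
  exact h

end Cfsg.Agent.S0350
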