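import Cfsg.Statements.S0352
import Cfsg.Agent.Lib.Helper93.Steiner24

set_option autoImplicit false
open Cfsg

namespace Cfsg.Agent.S0352

/-- In a Steiner system S(5, 8, 24), two distinct blocks intersect in 0, 2 or 4 points. -/
theorem result {α : Type*} [Fintype α] [DecidableEq α] (hα : Fintype.card α = 24) {B : Set (Finset α)} (hB : Cfsg.IsSteinerSystem 5 8 B) {b c : Finset α} (hb : b ∈ B) (hc : c ∈ B) (hbc : b ≠ c) : (b ∩ c).card = 0 ∨ (b ∩ c).card = 2 ∨ (b ∩ c).card = 4 := by
  classical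
  set Bf : Finset (Finset α) := Finset.univ.filter (· ∈ B) with hBfdef
  have hBf : ∀ b, b ∈ Bf ↔ b ∈ B := by intro b; simp [hBfdef]
  obtain ⟨-, h1, -, h3, -, h5, h6, h7, h8⟩ :=
    Cfsg.Agent.Lib.Helper93.s5824_counts hα hB Bf hBf hb
  have hc8 : c.card = 8 := hB.1 c hc
  have hle : (c ∩ b).card ≤ 8 := (Finset.card_le_card Finset.inter_subset_left).trans hc8.le
  have hmem : ∀ i, (c ∩ b).card = i → c ∈ Bf.filter (fun c => (c ∩ b).card = i) :=
    fun i hi => by simp [hBf, hc, hi]
  rw [Finset.inter_comm]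
  have key : ∀ i, (Bf.filter (fun c => (c ∩ b).card = i)).card = 0 → (c ∩ b).card ≠ i := by
    intro i h0 hi
    have h := hmem i hi
    rw [Finset.card_eq_zero] at h0
    rw [h0] at h
    simp at h
  have k8 : (c ∩ b).card ≠ 8 := by
    intro hi
    have h1' := hmem 8 hi
    have hb' : b ∈ Bf.filter (fun c => (c ∩ b).card = 8) := by simp [hBf, hb, hB.1 b hb]
    rw [Finset.card_eq_one] at h8
    obtain ⟨x, hx⟩ := h8
    rw [hx] at h1' hb'
    simp only [Finset.mem_singleton] at h1' hb'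
    exact hbc (hb'.trans h1'.symm)
  have k1 := key 1 h1
  have k3 := key 3 h3
  have k5 := key 5 h5
  have k6 := key 6 h6
  have k7 := key 7 h7
  omega

end Cfsg.Agent.S0352
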