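import Cfsg.Statements.S0353
import Cfsg.Agent.S0352

set_option autoImplicit false
open Cfsg

namespace Cfsg.Agent.S0353

/-- In an S(5, 8, 24), the symmetric difference of two blocks meeting in four points is a block. -/
theorem result {α : Type*} [Fintype α] [DecidableEq α] (hα : Fintype.card α = 24) {B : Set (Finset α)} (hB : Cfsg.IsSteinerSystem 5 8 B) {b c : Finset α} (hb : b ∈ B) (hc : c ∈ B) (h4 : (b ∩ c).card = 4) : symmDiff b c ∈ B := by
  classical
  by_contra hnot
  have hI : ∀ d e : Finset α, d ∈ B → e ∈ B → d ≠ e →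
      (d ∩ e).card = 0 ∨ (d ∩ e).card = 2 ∨ (d ∩ e).card = 4 :=
    fun d e hd he hne => Cfsg.Agent.S0352.result hα hB hd he hne
  have hb8 : b.card = 8 := hB.1 b hb
  have hc8 : c.card = 8 := hB.1 c hc
  have huniq : ∀ d e : Finset α, d ∈ B → e ∈ B → 5 ≤ (d ∩ e).card → d = e := by
    intro d e hd he h5
    by_contra hne
    rcases hI d e hd he hne with h | h | h <;> omega
  have hex : ∀ s : Finset α, s.card = 5 → ∃ d ∈ B, s ⊆ d := by
    intro s hs
    obtain ⟨d, ⟨hd, hsd⟩, -⟩ := hB.2 s hs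
    exact ⟨d, hd, hsd⟩
  have hT1card : (b \ c).card = 4 := by
    have := Finset.card_sdiff_add_card_inter b c
    omega
  have hT2card : (c \ b).card = 4 := by
    have := Finset.card_sdiff_add_card_inter c b
    rw [Finset.inter_comm] at this
    omega
  have hsymm : symmDiff b c = (b \ c) ∪ (c \ b) := Finset.symmDiff_def b c
  have hdisj12 : Disjoint (b \ c) (c \ b) := by
    rw [Finset.disjoint_left]
    intro x hx hx'
    exact (Finset.mem_sdiff.mp hx').2 (Finset.mem_sdiff.mp hx).1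
  have key : ∀ y ∈ c \ b, ∀ D ∈ B, b \ c ⊆ D → y ∈ D →
      (D ∩ c).card = 2 ∧ D ∩ c ⊆ c \ b := by
    intro y hy D hD hT1D hyD
    have hyc : y ∈ c := (Finset.mem_sdiff.mp hy).1
    have hyb : y ∉ b := (Finset.mem_sdiff.mp hy).2
    have hDb : D ≠ b := by rintro rfl; exact hyb hyD
    have hT1Db : b \ c ⊆ D ∩ b := Finset.subset_inter hT1D Finset.sdiff_subset
    have h1 : (D ∩ b).card = 4 := by
      have := Finset.card_le_card hT1Db
      rcases hI D b hD hb hDb with h | h | h <;> omega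
    have hDbT1 : D ∩ b = b \ c := (Finset.eq_of_subset_of_card_le hT1Db (by omega)).symm
    have hDcT2 : D ∩ c ⊆ c \ b := by
      intro x hx
      rw [Finset.mem_inter] at hx
      rw [Finset.mem_sdiff]
      refine ⟨hx.2, fun hxb => ?_⟩
      have h2 : x ∈ D ∩ b := Finset.mem_inter.mpr ⟨hx.1, hxb⟩
      rw [hDbT1, Finset.mem_sdiff] at h2
      exact h2.2 hx.2
    have hDc : D ≠ c := by
      rintro rfl
      obtain ⟨t, ht⟩ := Finset.card_pos.mp (by omega : 0 < (b \ D).card)
      exact (Finset.mem_sdiff.mp ht).2 (hT1D ht)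
    have h2 : (D ∩ c).card = 2 := by
      have hpos : 0 < (D ∩ c).card := Finset.card_pos.mpr ⟨y, Finset.mem_inter.mpr ⟨hyD, hyc⟩⟩
      rcases hI D c hD hc hDc with h | h | h
      · omega
      · exact h
      · exfalso
        have hT2D : c \ b ⊆ D := by
          have h3 : D ∩ c = c \ b := Finset.eq_of_subset_of_card_le hDcT2 (by omega)
          rw [← h3]; exact Finset.inter_subset_left
        have hsub : (b \ c) ∪ (c \ b) ⊆ D := Finset.union_subset hT1D hT2D
        have hcard : ((b \ c) ∪ (c \ b)).card = 8 := by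
          rw [Finset.card_union_of_disjoint hdisj12]; omega
        have h4' : (b \ c) ∪ (c \ b) = D :=
          Finset.eq_of_subset_of_card_le hsub (by rw [hB.1 D hD, hcard])
        apply hnot
        rw [hsymm, h4']; exact hD
    exact ⟨h2, hDcT2⟩
  obtain ⟨y1, hy1⟩ := Finset.card_pos.mp (by omega : 0 < (c \ b).card)
  have hy1T1 : y1 ∉ b \ c := fun h => (Finset.disjoint_left.mp hdisj12) h hy1
  obtain ⟨D1, hD1, hS1⟩ := hex (insert y1 (b \ c))
    (by rw [Finset.card_insert_of_notMem hy1T1]; omega)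
  have hT1D1 : b \ c ⊆ D1 := (Finset.subset_insert _ _).trans hS1
  have hy1D1 : y1 ∈ D1 := hS1 (Finset.mem_insert_self _ _)
  obtain ⟨hA1card, hA1sub⟩ := key y1 hy1 D1 hD1 hT1D1 hy1D1
  have hpos3 : 0 < ((c \ b) \ (D1 ∩ c)).card := by
    have h1 := Finset.card_sdiff_add_card_inter (c \ b) (D1 ∩ c)
    have h2 := Finset.card_le_card (Finset.inter_subset_right : (c \ b) ∩ (D1 ∩ c) ⊆ D1 ∩ c)
    omega
  obtain ⟨y3, hy3⟩ := Finset.card_pos.mp hpos3
  have hy3T2 : y3 ∈ c \ b := (Finset.mem_sdiff.mp hy3).1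
  have hy3A1 : y3 ∉ D1 ∩ c := (Finset.mem_sdiff.mp hy3).2
  have hy3T1 : y3 ∉ b \ c := fun h => (Finset.disjoint_left.mp hdisj12) h hy3T2
  obtain ⟨D2, hD2, hS2⟩ := hex (insert y3 (b \ c))
    (by rw [Finset.card_insert_of_notMem hy3T1]; omega)
  have hT1D2 : b \ c ⊆ D2 := (Finset.subset_insert _ _).trans hS2
  have hy3D2 : y3 ∈ D2 := hS2 (Finset.mem_insert_self _ _)
  obtain ⟨hA2card, hA2sub⟩ := key y3 hy3T2 D2 hD2 hT1D2 hy3D2
  have hy3c : y3 ∈ c := (Finset.mem_sdiff.mp hy3T2).1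
  have hy1c : y1 ∈ c := (Finset.mem_sdiff.mp hy1).1
  have hy1A1 : y1 ∈ D1 ∩ c := Finset.mem_inter.mpr ⟨hy1D1, hy1c⟩
  have hy3A2 : y3 ∈ D2 ∩ c := Finset.mem_inter.mpr ⟨hy3D2, hy3c⟩
  have hD12 : D1 ≠ D2 := by
    intro h
    rw [← h] at hy3D2
    exact hy3A1 (Finset.mem_inter.mpr ⟨hy3D2, hy3c⟩)
  have hA12 : Disjoint (D1 ∩ c) (D2 ∩ c) := by
    rw [Finset.disjoint_left]
    intro z hz1 hz2
    apply hD12
    apply huniq D1 D2 hD1 hD2
    have hsub : insert z (b \ c) ⊆ D1 ∩ D2 := by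
      intro x hx
      rw [Finset.mem_insert] at hx
      rcases hx with rfl | hx
      · exact Finset.mem_inter.mpr ⟨(Finset.mem_inter.mp hz1).1, (Finset.mem_inter.mp hz2).1⟩
      · exact Finset.mem_inter.mpr ⟨hT1D1 hx, hT1D2 hx⟩
    have hzT1 : z ∉ b \ c := fun h => (Finset.disjoint_left.mp hdisj12) h (hA1sub hz1)
    have h5 := Finset.card_le_card hsub
    rw [Finset.card_insert_of_notMem hzT1] at h5
    omega
  obtain ⟨t4, ht4⟩ := Finset.card_pos.mp (by omega : 0 < (b \ c).card)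
  have hT1'card : ((b \ c).erase t4).card = 3 := by rw [Finset.card_erase_of_mem ht4]; omega
  have hT1'sub : (b \ c).erase t4 ⊆ b \ c := Finset.erase_subset _ _
  have hy13 : y1 ≠ y3 := by rintro rfl; exact hy3A1 hy1A1
  have hy1T1' : y1 ∉ (b \ c).erase t4 := fun h => hy1T1 (hT1'sub h)
  have hy3T1' : y3 ∉ (b \ c).erase t4 := fun h => hy3T1 (hT1'sub h)
  have hy1ins : y1 ∉ insert y3 ((b \ c).erase t4) := by
    rw [Finset.mem_insert]
    rintro (h | h)
    · exact hy13 h
    · exact hy1T1' h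
  obtain ⟨F, hF, hSF⟩ := hex (insert y1 (insert y3 ((b \ c).erase t4))) (by
    rw [Finset.card_insert_of_notMem hy1ins, Finset.card_insert_of_notMem hy3T1']; omega)
  have hy1F : y1 ∈ F := hSF (Finset.mem_insert_self _ _)
  have hy3F : y3 ∈ F := hSF (Finset.mem_insert_of_mem (Finset.mem_insert_self _ _))
  have hT1'F : (b \ c).erase t4 ⊆ F :=
    fun x hx => hSF (Finset.mem_insert_of_mem (Finset.mem_insert_of_mem hx))
  have hFb : F ≠ b := by rintro rfl; exact (Finset.mem_sdiff.mp hy1).2 hy1F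
  have hFD1 : F ≠ D1 := by
    intro h
    rw [h] at hy3F
    exact hy3A1 (Finset.mem_inter.mpr ⟨hy3F, hy3c⟩)
  have hFD2 : F ≠ D2 := by
    intro h
    rw [h] at hy1F
    exact (Finset.disjoint_left.mp hA12) hy1A1 (Finset.mem_inter.mpr ⟨hy1F, hy1c⟩)
  have ht4F : t4 ∉ F := by
    intro h
    apply hFD1
    apply huniq F D1 hF hD1
    have hsub : insert y1 (b \ c) ⊆ F ∩ D1 := by
      intro x hx
      rw [Finset.mem_insert] at hx
      rcases hx with rfl | hx
      · exact Finset.mem_inter.mpr ⟨hy1F, hy1D1⟩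
      · refine Finset.mem_inter.mpr ⟨?_, hT1D1 hx⟩
        by_cases hxt : x = t4
        · rw [hxt]; exact h
        · exact hT1'F (Finset.mem_erase.mpr ⟨hxt, hx⟩)
    have h5 := Finset.card_le_card hsub
    rw [Finset.card_insert_of_notMem hy1T1] at h5
    omega
  have hT1'Fb : (b \ c).erase t4 ⊆ F ∩ b :=
    Finset.subset_inter hT1'F (hT1'sub.trans Finset.sdiff_subset)
  have hFb4 : (F ∩ b).card = 4 := by
    have := Finset.card_le_card hT1'Fb
    rcases hI F b hF hb hFb with h | h | h <;> omega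
  have hFT1 : F ∩ (b \ c) = (b \ c).erase t4 := by
    ext x
    simp only [Finset.mem_inter, Finset.mem_erase]
    constructor
    · rintro ⟨hxF, hxT1⟩
      exact ⟨fun h => ht4F (h ▸ hxF), hxT1⟩
    · rintro ⟨hne, hxT1⟩
      exact ⟨hT1'F (Finset.mem_erase.mpr ⟨hne, hxT1⟩), hxT1⟩
  have hFX : (F ∩ (b ∩ c)).card = 1 := by
    have hsplit : F ∩ b = (F ∩ (b \ c)) ∪ (F ∩ (b ∩ c)) := by
      ext x
      simp only [Finset.mem_inter, Finset.mem_union, Finset.mem_sdiff]
      tauto
    have hd : Disjoint (F ∩ (b \ c)) (F ∩ (b ∩ c)) := by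
      rw [Finset.disjoint_left]
      intro x hx hx'
      simp only [Finset.mem_inter, Finset.mem_sdiff] at hx hx'
      exact hx.2.2 hx'.2.2
    have h5 := congrArg Finset.card hsplit
    rw [Finset.card_union_of_disjoint hd, hFT1] at h5
    omega
  have hFc : F ≠ c := by
    rintro rfl
    obtain ⟨t, ht⟩ := Finset.card_pos.mp (by omega : 0 < ((b \ F).erase t4).card)
    exact (Finset.mem_sdiff.mp (hT1'sub ht)).2 (hT1'F ht)
  have hT2split : c \ b = (D1 ∩ c) ∪ (D2 ∩ c) := by
    symm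
    apply Finset.eq_of_subset_of_card_le (Finset.union_subset hA1sub hA2sub)
    rw [Finset.card_union_of_disjoint hA12]; omega
  have hFcsplit : F ∩ c = (F ∩ (b ∩ c)) ∪ ((F ∩ (D1 ∩ c)) ∪ (F ∩ (D2 ∩ c))) := by
    ext x
    constructor
    · intro hx
      rw [Finset.mem_inter] at hx
      by_cases hxb : x ∈ b
      · exact Finset.mem_union_left _ (Finset.mem_inter.mpr ⟨hx.1, Finset.mem_inter.mpr ⟨hxb, hx.2⟩⟩)
      · have hxT2 : x ∈ c \ b := Finset.mem_sdiff.mpr ⟨hx.2, hxb⟩
        rw [hT2split, Finset.mem_union] at hxT2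
        apply Finset.mem_union_right
        rcases hxT2 with h | h
        · exact Finset.mem_union_left _ (Finset.mem_inter.mpr ⟨hx.1, h⟩)
        · exact Finset.mem_union_right _ (Finset.mem_inter.mpr ⟨hx.1, h⟩)
    · intro hx
      rw [Finset.mem_union, Finset.mem_union] at hx
      rw [Finset.mem_inter]
      rcases hx with h | h | h
      · exact ⟨(Finset.mem_inter.mp h).1, (Finset.mem_inter.mp (Finset.mem_inter.mp h).2).2⟩
      · exact ⟨(Finset.mem_inter.mp h).1, (Finset.mem_inter.mp (Finset.mem_inter.mp h).2).2⟩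
      · exact ⟨(Finset.mem_inter.mp h).1, (Finset.mem_inter.mp (Finset.mem_inter.mp h).2).2⟩
  have hFc_card : (F ∩ c).card = 1 + ((F ∩ (D1 ∩ c)).card + (F ∩ (D2 ∩ c)).card) := by
    have hd1 : Disjoint (F ∩ (D1 ∩ c)) (F ∩ (D2 ∩ c)) :=
      Finset.disjoint_of_subset_left Finset.inter_subset_right
        (Finset.disjoint_of_subset_right Finset.inter_subset_right hA12)
    have hd2 : Disjoint (F ∩ (b ∩ c)) ((F ∩ (D1 ∩ c)) ∪ (F ∩ (D2 ∩ c))) := by
      rw [Finset.disjoint_left]
      intro x hx hx'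
      have hxb : x ∈ b := (Finset.mem_inter.mp (Finset.mem_inter.mp hx).2).1
      have hxT2 : x ∈ c \ b := by
        rcases Finset.mem_union.mp hx' with h | h
        · exact hA1sub (Finset.mem_inter.mp h).2
        · exact hA2sub (Finset.mem_inter.mp h).2
      exact (Finset.mem_sdiff.mp hxT2).2 hxb
    rw [hFcsplit, Finset.card_union_of_disjoint hd2, Finset.card_union_of_disjoint hd1, hFX]
  have hFc4 : (F ∩ c).card = 4 := by
    have h1 : 1 ≤ (F ∩ (D1 ∩ c)).card :=
      Finset.card_pos.mpr ⟨y1, Finset.mem_inter.mpr ⟨hy1F, hy1A1⟩⟩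
    have h2 : 1 ≤ (F ∩ (D2 ∩ c)).card :=
      Finset.card_pos.mpr ⟨y3, Finset.mem_inter.mpr ⟨hy3F, hy3A2⟩⟩
    rcases hI F c hF hc hFc with h | h | h <;> omega
  have hle1 : (F ∩ (D1 ∩ c)).card ≤ 2 :=
    (Finset.card_le_card Finset.inter_subset_right).trans hA1card.le
  have hle2 : (F ∩ (D2 ∩ c)).card ≤ 2 :=
    (Finset.card_le_card Finset.inter_subset_right).trans hA2card.le
  have hcase : D1 ∩ c ⊆ F ∨ D2 ∩ c ⊆ F := by
    have h3 : (F ∩ (D1 ∩ c)).card = 2 ∨ (F ∩ (D2 ∩ c)).card = 2 := by omega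
    rcases h3 with h | h
    · left
      have h5 : F ∩ (D1 ∩ c) = D1 ∩ c :=
        Finset.eq_of_subset_of_card_le Finset.inter_subset_right (by omega)
      rw [← h5]; exact Finset.inter_subset_left
    · right
      have h5 : F ∩ (D2 ∩ c) = D2 ∩ c :=
        Finset.eq_of_subset_of_card_le Finset.inter_subset_right (by omega)
      rw [← h5]; exact Finset.inter_subset_left
  rcases hcase with h | h
  · apply hFD1
    apply huniq F D1 hF hD1
    have hsub : (b \ c).erase t4 ∪ (D1 ∩ c) ⊆ F ∩ D1 := by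
      apply Finset.union_subset
      · exact Finset.subset_inter hT1'F (hT1'sub.trans hT1D1)
      · exact Finset.subset_inter h Finset.inter_subset_left
    have hd : Disjoint ((b \ c).erase t4) (D1 ∩ c) :=
      Finset.disjoint_of_subset_left hT1'sub (Finset.disjoint_of_subset_right hA1sub hdisj12)
    have h5 := Finset.card_le_card hsub
    rw [Finset.card_union_of_disjoint hd] at h5
    omega
  · apply hFD2
    apply huniq F D2 hF hD2
    have hsub : (b \ c).erase t4 ∪ (D2 ∩ c) ⊆ F ∩ D2 := by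
      apply Finset.union_subset
      · exact Finset.subset_inter hT1'F (hT1'sub.trans hT1D2)
      · exact Finset.subset_inter h Finset.inter_subset_left
    have hd : Disjoint ((b \ c).erase t4) (D2 ∩ c) :=
      Finset.disjoint_of_subset_left hT1'sub (Finset.disjoint_of_subset_right hA2sub hdisj12)
    have h5 := Finset.card_le_card hsub
    rw [Finset.card_union_of_disjoint hd] at h5
    omega

end Cfsg.Agent.S0353
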