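import Cfsg.Statements.S0354
import Cfsg.Agent.Lib.Helper93.Steiner24

set_option autoImplicit false
open Cfsg

namespace Cfsg.Agent.S0354

/-- In an S(5, 8, 24), each block is disjoint from exactly 30 blocks. -/
theorem result {α : Type*} [Fintype α] [DecidableEq α] (hα : Fintype.card α = 24) {B : Set (Finset α)} (hB : Cfsg.IsSteinerSystem 5 8 B) {b : Finset α} (hb : b ∈ B) : {c : Finset α | c ∈ B ∧ Disjoint b c}.ncard = 30 := by
  classical
  set Bf : Finset (Finset α) := Finset.univ.filter (· ∈ B) with hBfdef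
  have hBf : ∀ b, b ∈ Bf ↔ b ∈ B := by intro b; simp [hBfdef]
  obtain ⟨h0, -⟩ := Cfsg.Agent.Lib.Helper93.s5824_counts hα hB Bf hBf hb
  rw [← h0, ← Set.ncard_coe_finset]
  congr 1
  ext c
  simp only [Set.mem_ofPred_eq, Finset.coe_filter, hBf, Finset.card_eq_zero,
    Finset.disjoint_iff_inter_eq_empty, Finset.inter_comm]

end Cfsg.Agent.S0354
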