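import Cfsg.Statements.S0355
import Cfsg.Agent.Lib.Helper93.Steiner23

set_option autoImplicit false
open Cfsg

namespace Cfsg.Agent.S0355

/-- In a Steiner system S(4, 7, 23), two distinct blocks intersect in 1 or 3 points. -/
theorem result {α : Type*} [Fintype α] [DecidableEq α] (hα : Fintype.card α = 23) {B : Set (Finset α)} (hB : Cfsg.IsSteinerSystem 4 7 B) {b c : Finset α} (hb : b ∈ B) (hc : c ∈ B) (hbc : b ≠ c) : (b ∩ c).card = 1 ∨ (b ∩ c).card = 3 := by
  classical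
  set Bf : Finset (Finset α) := Finset.univ.filter (· ∈ B) with hBfdef
  have hBf : ∀ b, b ∈ Bf ↔ b ∈ B := by intro b; simp [hBfdef]
  obtain ⟨h0, -, h2, -, h4, h5, h6, h7⟩ :=
    Cfsg.Agent.Lib.Helper93.s4723_counts hα hB Bf hBf hb
  have hb7 : b.card = 7 := hB.1 b hb
  have hc7 : c.card = 7 := hB.1 c hc
  have hle : (c ∩ b).card ≤ 7 := (Finset.card_le_card Finset.inter_subset_left).trans hc7.le
  rw [Finset.inter_comm]
  have k0 := Cfsg.Agent.Lib.Helper93.inter_card_ne_of_count_zero Bf hBf (b := b) hc 0 h0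
  have k2 := Cfsg.Agent.Lib.Helper93.inter_card_ne_of_count_zero Bf hBf (b := b) hc 2 h2
  have k4 := Cfsg.Agent.Lib.Helper93.inter_card_ne_of_count_zero Bf hBf (b := b) hc 4 h4
  have k5 := Cfsg.Agent.Lib.Helper93.inter_card_ne_of_count_zero Bf hBf (b := b) hc 5 h5
  have k6 := Cfsg.Agent.Lib.Helper93.inter_card_ne_of_count_zero Bf hBf (b := b) hc 6 h6
  have k7 := Cfsg.Agent.Lib.Helper93.inter_card_ne_of_count_one Bf hBf hb hc (Ne.symm hbc)
    (by rw [hb7]; exact h7)
  rw [hb7] at k7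
  omega

end Cfsg.Agent.S0355
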