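import Cfsg.Statements.S5626
import Cfsg.Agent.Lib.Helper93.P4d

set_option autoImplicit false
open Cfsg

namespace Cfsg.Agent.S5626

/-- Uniqueness of the projective plane of order 4: any two Steiner systems S(2, 5, 21) (21 points, lines of 5 points, two points on exactly one line) are isomorphic. -/
theorem result {α β : Type*} [Fintype α] [DecidableEq α] [Fintype β] [DecidableEq β] (hα : Fintype.card α = 21) (hβ : Fintype.card β = 21) {L : Set (Finset α)} {L' : Set (Finset β)} (hL : Cfsg.IsSteinerSystem 2 5 L) (hL' : Cfsg.IsSteinerSystem 2 5 L') : Cfsg.SetSystemIso L L' := by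
  classical
  have P : Cfsg.Agent.Lib.Helper93.P4.Plane L := ⟨hα, hL⟩
  have P' : Cfsg.Agent.Lib.Helper93.P4.Plane L' := ⟨hβ, hL'⟩
  obtain ⟨H, hH⟩ : (Cfsg.Agent.Lib.Helper93.P4.arcs L 6).Nonempty := by
    rw [← Finset.card_pos, P.card_arcs_six]; norm_num
  obtain ⟨H', hH'⟩ : (Cfsg.Agent.Lib.Helper93.P4.arcs L' 6).Nonempty := by
    rw [← Finset.card_pos, P'.card_arcs_six]; norm_num
  rw [Cfsg.Agent.Lib.Helper93.P4.mem_arcs] at hH hH'
  obtain ⟨a0, ha0⟩ : H.Nonempty := by rw [← Finset.card_pos, hH.1]; norm_num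
  let f : ↥H ≃ ↥H' := Finset.equivOfCardEq (by rw [hH.1, hH'.1])
  let s : α → β := fun x => if h : x ∈ H then ((f ⟨x, h⟩ : ↥H') : β) else ((f ⟨a0, ha0⟩ : ↥H') : β)
  have hs : ∀ a (ha : a ∈ H), s a = ((f ⟨a, ha⟩ : ↥H') : β) := fun a ha => dif_pos ha
  have M : Cfsg.Agent.Lib.Helper93.P4.HypMap L L' H H' s := by
    refine ⟨⟨P, hH.1, hH.2⟩, ⟨P', hH'.1, hH'.2⟩, ?_, ?_⟩
    · intro a ha
      rw [hs a ha]
      exact (f ⟨a, ha⟩).2
    · intro a ha b hb h
      rw [hs a ha, hs b hb] at h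
      have := f.injective (Subtype.ext h)
      exact congrArg Subtype.val this
  obtain ⟨e, -, himg⟩ := M.exists_iso
  exact ⟨e, himg⟩

end Cfsg.Agent.S5626
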