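import Mathlib
import Cfsg.Statements.S3224
import Cfsg.Agent.Lib.Helper54.Dihedral

set_option autoImplicit false
open Cfsg

namespace Cfsg.Agent.S3224

universe u

/-- In a cyclic group `⟨a⟩` of order `2 * k`, an element with trivial square is `1` or `a ^ k`. -/
theorem eq_one_or_eq_pow_of_sq {S : Type*} [Group S] {a y : S} {k : ℕ}
    (ha : orderOf a = 2 * k) (hy : y ∈ Subgroup.zpowers a) (hy2 : y ^ 2 = 1) :
    y = 1 ∨ y = a ^ k := by
  obtain ⟨j, rfl⟩ := Subgroup.mem_zpowers_iff.mp hy
  have h1 : a ^ (j * 2) = 1 := by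
    rw [zpow_mul]; exact_mod_cast hy2
  have h2 : ((2 * k : ℕ) : ℤ) ∣ j * 2 := by
    rw [← ha]; exact orderOf_dvd_iff_zpow_eq_one.mpr h1
  have h3 : (k : ℤ) ∣ j := by
    push_cast at h2
    have : (2 : ℤ) * k ∣ 2 * j := by rwa [mul_comm j 2] at h2
    exact (mul_dvd_mul_iff_left (by norm_num : (2 : ℤ) ≠ 0)).mp this
  obtain ⟨t, rfl⟩ := h3
  have hk2 : (a ^ k) ^ 2 = 1 := by rw [← pow_mul, mul_comm, ← ha, pow_orderOf_eq_one]
  rcases Int.even_or_odd' t with ⟨s, rfl | rfl⟩
  · left
    rw [zpow_mul, zpow_natCast, zpow_mul, zpow_ofNat, hk2, one_zpow]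
  · right
    rw [zpow_mul, zpow_natCast, zpow_add, zpow_mul, zpow_ofNat, hk2, one_zpow, one_mul, zpow_one]

/-- A proper subgroup of a group of order at most 4 has order at most 2. -/
theorem card_le_two_of_ne {S : Type*} [Group S] [Finite S] {H C : Subgroup S} (hle : H ≤ C)
    (hne : H ≠ C) (hC : Nat.card C ≤ 4) : Nat.card H ≤ 2 := by
  have hdvd := Subgroup.card_dvd_of_le hle
  have hlt : Nat.card H < Nat.card C := by
    by_contra hge
    exact hne (Subgroup.eq_of_le_of_card_ge hle (not_lt.mp hge))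
  obtain ⟨t, ht⟩ := hdvd
  rcases t with _ | _ | t
  · omega
  · omega
  · nlinarith

/-- An element of a subgroup of order at most 2 has trivial square. -/
theorem sq_eq_one_of_card_le_two {S : Type*} [Group S] [Finite S] {H : Subgroup S}
    (hH : Nat.card H ≤ 2) {g : S} (hg : g ∈ H) : g ^ 2 = 1 := by
  have h1 : orderOf g ∣ Nat.card H := Subgroup.orderOf_dvd_natCard H hg
  have h2 : orderOf g ≤ 2 := (Nat.le_of_dvd Nat.card_pos h1).trans hH
  have h3 : 0 < orderOf g := orderOf_pos g
  rw [← orderOf_dvd_iff_pow_eq_one]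
  interval_cases orderOf g <;> norm_num

/-- If `x` is a power of `g` then `⟨g⟩` centralizes `x`. -/
theorem zpowers_le_centralizer {S : Type*} [Group S] {x g : S} (hx : x ∈ Subgroup.zpowers g) :
    Subgroup.zpowers g ≤ Subgroup.centralizer ({x} : Set S) := by
  intro y hy
  rw [Subgroup.mem_centralizer_singleton_iff]
  exact setLike_mul_comm (S := Subgroup S) (s := Subgroup.zpowers g) hy hx

/-- The action of `x` on a cyclic subgroup `⟨a⟩` of index 2 not containing `x`. -/
theorem conj_eq {S : Type*} [Group S] [Finite S] {x a : S} {k : ℕ}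
    (hx2 : x ^ 2 = 1) (hC : Nat.card (Subgroup.centralizer ({x} : Set S)) ≤ 4)
    (ha : orderOf a = 2 * k) (hcard : Nat.card S = 4 * k) (hxa : x ∉ Subgroup.zpowers a) :
    x * a * x⁻¹ = a⁻¹ ∨ x * a * x⁻¹ = a⁻¹ * a ^ k := by
  have hk : 0 < k := by
    have := orderOf_pos a
    omega
  have hidx : (Subgroup.zpowers a).index = 2 := by
    have h := Subgroup.card_mul_index (Subgroup.zpowers a)
    rw [Nat.card_zpowers, ha, hcard] at h
    have : 2 * k * (Subgroup.zpowers a).index = 2 * k * 2 := by rw [h]; ring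
    exact Nat.eq_of_mul_eq_mul_left (by omega) this
  have hnorm : (Subgroup.zpowers a).Normal := Subgroup.normal_of_index_eq_two hidx
  have hconj_mem : x * a * x⁻¹ ∈ Subgroup.zpowers a :=
    hnorm.conj_mem a (Subgroup.mem_zpowers a) x
  have hKne : Subgroup.centralizer ({x} : Set S) ⊓ Subgroup.zpowers a
      ≠ Subgroup.centralizer ({x} : Set S) := by
    intro h
    apply hxa
    have : x ∈ Subgroup.centralizer ({x} : Set S) ⊓ Subgroup.zpowers a := by
      rw [h]; exact Subgroup.mem_centralizer_singleton_iff.mpr rfl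
    exact this.2
  have hKcard := card_le_two_of_ne inf_le_left hKne hC
  have hcomm : a * (x * a * x⁻¹) = (x * a * x⁻¹) * a :=
    setLike_mul_comm (S := Subgroup S) (s := Subgroup.zpowers a) (Subgroup.mem_zpowers a) hconj_mem
  have hxx : x * x = 1 := by rw [← sq]; exact hx2
  have hxinv : x⁻¹ = x := inv_eq_of_mul_eq_one_left hxx
  have hzC : a * (x * a * x⁻¹) ∈ Subgroup.centralizer ({x} : Set S) := by
    rw [Subgroup.mem_centralizer_singleton_iff]
    rw [hxinv] at hcomm ⊢
    calc a * (x * a * x) * x = a * x * a * (x * x) := by simp only [mul_assoc]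
      _ = a * x * a := by rw [hxx, mul_one]
      _ = (x * x) * a * x * a := by rw [hxx, one_mul]
      _ = x * ((x * a * x) * a) := by simp only [mul_assoc]
      _ = x * (a * (x * a * x)) := by rw [hcomm]
  have hz2 : (a * (x * a * x⁻¹)) ^ 2 = 1 :=
    sq_eq_one_of_card_le_two hKcard ⟨hzC, mul_mem (Subgroup.mem_zpowers a) hconj_mem⟩
  rcases eq_one_or_eq_pow_of_sq ha (mul_mem (Subgroup.mem_zpowers a) hconj_mem) hz2 with h | h
  · left
    exact eq_inv_of_mul_eq_one_right h
  · right
    exact eq_inv_mul_of_mul_eq h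


/-- The centralizer of the image of `x` in `S ⧸ Z(S)` has order at most 4. -/
theorem card_centralizer_quotient_le {S : Type*} [Group S] [Finite S] (x : S)
    (hZ : Nat.card (Subgroup.center S) = 2)
    (hC : Nat.card (Subgroup.centralizer ({x} : Set S)) ≤ 4) :
    Nat.card (Subgroup.centralizer
      ({(QuotientGroup.mk x : S ⧸ Subgroup.center S)} : Set (S ⧸ Subgroup.center S))) ≤ 4 := by
  have hmem : ∀ g : S, g ∈ (Subgroup.centralizer
      ({(QuotientGroup.mk x : S ⧸ Subgroup.center S)} : Set (S ⧸ Subgroup.center S))).comap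
        (QuotientGroup.mk' (Subgroup.center S)) → g * x * g⁻¹ * x⁻¹ ∈ Subgroup.center S := by
    intro g hg
    rw [Subgroup.mem_comap, Subgroup.mem_centralizer_singleton_iff] at hg
    rw [← QuotientGroup.eq_one_iff]
    have hg' : (g : S ⧸ Subgroup.center S) * (x : S ⧸ Subgroup.center S)
        = (x : S ⧸ Subgroup.center S) * (g : S ⧸ Subgroup.center S) := hg
    rw [QuotientGroup.mk_mul, QuotientGroup.mk_mul, QuotientGroup.mk_mul, QuotientGroup.mk_inv,
      QuotientGroup.mk_inv, hg']
    group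
  let φ : (Subgroup.centralizer
      ({(QuotientGroup.mk x : S ⧸ Subgroup.center S)} : Set (S ⧸ Subgroup.center S))).comap
        (QuotientGroup.mk' (Subgroup.center S)) →* Subgroup.center S :=
    MonoidHom.mk' (fun g => ⟨g.1 * x * g.1⁻¹ * x⁻¹, hmem g.1 g.2⟩) (by
      intro g h
      apply Subtype.ext
      have hc := Subgroup.mem_center_iff.mp (hmem h.1 h.2)
      change (g.1 * h.1) * x * (g.1 * h.1)⁻¹ * x⁻¹
        = (g.1 * x * g.1⁻¹ * x⁻¹) * (h.1 * x * h.1⁻¹ * x⁻¹)
      calc (g.1 * h.1) * x * (g.1 * h.1)⁻¹ * x⁻¹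
          = g.1 * (h.1 * x * h.1⁻¹ * x⁻¹) * (x * g.1⁻¹ * x⁻¹) := by group
        _ = (h.1 * x * h.1⁻¹ * x⁻¹) * g.1 * (x * g.1⁻¹ * x⁻¹) := by rw [hc g.1]
        _ = (h.1 * x * h.1⁻¹ * x⁻¹) * (g.1 * x * g.1⁻¹ * x⁻¹) := by group
        _ = (g.1 * x * g.1⁻¹ * x⁻¹) * (h.1 * x * h.1⁻¹ * x⁻¹) := (hc _).symm)
  have hker : Nat.card φ.ker ≤ 4 := by
    have hle : φ.ker.map (Subgroup.subtype _) ≤ Subgroup.centralizer ({x} : Set S) := by
      rintro _ ⟨g, hg, rfl⟩
      have hg1 : φ g = 1 := hg
      have h1 : g.1 * x * g.1⁻¹ * x⁻¹ = 1 := congrArg Subtype.val hg1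
      rw [Subgroup.mem_centralizer_singleton_iff]
      have h2 : g.1 * x * g.1⁻¹ = x := by rwa [mul_inv_eq_one] at h1
      change g.1 * x = x * g.1
      calc g.1 * x = g.1 * x * g.1⁻¹ * g.1 := by group
        _ = x * g.1 := by rw [h2]
    calc Nat.card φ.ker = Nat.card (φ.ker.map (Subgroup.subtype _)) :=
          (Subgroup.card_map_of_injective (Subgroup.subtype_injective _)).symm
      _ ≤ Nat.card (Subgroup.centralizer ({x} : Set S)) := Subgroup.card_le_of_le hle
      _ ≤ 4 := hC
  have hN0card : Nat.card ((Subgroup.centralizer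
      ({(QuotientGroup.mk x : S ⧸ Subgroup.center S)} : Set (S ⧸ Subgroup.center S))).comap
        (QuotientGroup.mk' (Subgroup.center S))) ≤ 8 := by
    rw [← Subgroup.card_mul_index φ.ker, Subgroup.index_ker]
    have : Nat.card φ.range ≤ 2 := by
      rw [← hZ]; exact Subgroup.card_le_card_group _
    nlinarith
  have hidx := Subgroup.index_comap_of_surjective (Subgroup.centralizer
      ({(QuotientGroup.mk x : S ⧸ Subgroup.center S)} : Set (S ⧸ Subgroup.center S)))
      (QuotientGroup.mk'_surjective (Subgroup.center S))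
  have h1 := Subgroup.card_mul_index ((Subgroup.centralizer
      ({(QuotientGroup.mk x : S ⧸ Subgroup.center S)} : Set (S ⧸ Subgroup.center S))).comap
        (QuotientGroup.mk' (Subgroup.center S)))
  have h2 := Subgroup.card_mul_index (Subgroup.centralizer
      ({(QuotientGroup.mk x : S ⧸ Subgroup.center S)} : Set (S ⧸ Subgroup.center S)))
  have h3 := Subgroup.card_eq_card_quotient_mul_card_subgroup (Subgroup.center S)
  have hidxpos : 0 < (Subgroup.centralizer
      ({(QuotientGroup.mk x : S ⧸ Subgroup.center S)} : Set (S ⧸ Subgroup.center S))).index :=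
    Nat.pos_of_ne_zero Subgroup.index_ne_zero_of_finite
  rw [hidx] at h1
  rw [h3, ← h2, hZ] at h1
  have h4 : Nat.card ((Subgroup.centralizer
      ({(QuotientGroup.mk x : S ⧸ Subgroup.center S)} : Set (S ⧸ Subgroup.center S))).comap
        (QuotientGroup.mk' (Subgroup.center S))) = 2 * Nat.card (Subgroup.centralizer
      ({(QuotientGroup.mk x : S ⧸ Subgroup.center S)} : Set (S ⧸ Subgroup.center S))) := by
    apply Nat.eq_of_mul_eq_mul_right hidxpos
    rw [h1]; ring
  omega


/-- A lift of an element of order `|S|/4` of `S ⧸ Z(S)` has order `|S|/2` when `|S| ≥ 16`. -/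
theorem lift_order {S : Type*} [Group S] [Finite S] (x a : S) (m : ℕ) (hm : 0 < m)
    (hC : Nat.card (Subgroup.centralizer ({x} : Set S)) ≤ 4)
    (hZ : Nat.card (Subgroup.center S) = 2) (hcard : Nat.card S = 16 * m)
    (ha : orderOf (QuotientGroup.mk a : S ⧸ Subgroup.center S) = 4 * m)
    (hxa : (QuotientGroup.mk x : S ⧸ Subgroup.center S) ∉
      Subgroup.zpowers (QuotientGroup.mk a : S ⧸ Subgroup.center S)) :
    orderOf a = 8 * m ∧ x ∉ Subgroup.zpowers a := by
  have hZ2 : ∀ z ∈ Subgroup.center S, z ^ 2 = 1 := fun z hz => sq_eq_one_of_card_le_two hZ.le hz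
  have h1 : a ^ (4 * m) ∈ Subgroup.center S := by
    rw [← QuotientGroup.eq_one_iff, QuotientGroup.mk_pow, ← ha]
    exact pow_orderOf_eq_one _
  have h2 : a ^ (8 * m) = 1 := by
    have h := hZ2 _ h1
    rw [← pow_mul] at h
    have h8 : 8 * m = 4 * m * 2 := by ring
    rw [h8]; exact h
  have h3 : 4 * m ∣ orderOf a := by
    rw [← ha]; exact orderOf_map_dvd (QuotientGroup.mk' (Subgroup.center S)) a
  have h4 : orderOf a ∣ 8 * m := orderOf_dvd_of_pow_eq_one h2
  have h5 : orderOf a = 4 * m ∨ orderOf a = 8 * m := by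
    obtain ⟨t, ht⟩ := h3
    rw [ht] at h4 ⊢
    have h8 : 8 * m = 4 * m * 2 := by ring
    rw [h8] at h4
    have ht2 : t ∣ 2 := (Nat.mul_dvd_mul_iff_left (by omega)).mp h4
    rcases (Nat.dvd_prime Nat.prime_two).mp ht2 with rfl | rfl
    · left; ring
    · right; ring
  have hxnot : x ∉ Subgroup.zpowers a := by
    intro hxin
    apply hxa
    obtain ⟨j, rfl⟩ := Subgroup.mem_zpowers_iff.mp hxin
    rw [QuotientGroup.mk_zpow]
    exact Subgroup.zpow_mem_zpowers _ j
  refine ⟨?_, hxnot⟩
  rcases h5 with h5 | h5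
  swap
  · exact h5
  exfalso
  have hu_ord : orderOf (a ^ (2 * m)) = 2 := by
    rw [orderOf_pow_of_dvd (by omega) (by rw [h5]; exact ⟨2, by ring⟩), h5]
    exact Nat.div_eq_of_eq_mul_left (by omega) (by ring)
  have hu2 : (a ^ (2 * m)) ^ 2 = 1 := by
    have h := pow_orderOf_eq_one (a ^ (2 * m))
    rwa [hu_ord] at h
  have hu1 : a ^ (2 * m) ≠ 1 := by
    intro h
    rw [h, orderOf_one] at hu_ord
    omega
  have hcardQ : Nat.card (S ⧸ Subgroup.center S) = 8 * m := by
    have h := Subgroup.card_eq_card_quotient_mul_card_subgroup (Subgroup.center S)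
    rw [hcard, hZ] at h
    omega
  have hidx : (Subgroup.zpowers (QuotientGroup.mk a : S ⧸ Subgroup.center S)).index = 2 := by
    have h := Subgroup.card_mul_index (Subgroup.zpowers (QuotientGroup.mk a : S ⧸ Subgroup.center S))
    rw [Nat.card_zpowers, ha, hcardQ] at h
    have h' : 4 * m * (Subgroup.zpowers (QuotientGroup.mk a : S ⧸ Subgroup.center S)).index
        = 4 * m * 2 := by rw [h]; ring
    exact Nat.eq_of_mul_eq_mul_left (by omega) h'
  have hnorm : (Subgroup.zpowers (QuotientGroup.mk a : S ⧸ Subgroup.center S)).Normal :=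
    Subgroup.normal_of_index_eq_two hidx
  have hb : ((x * a ^ m * x⁻¹ : S) : S ⧸ Subgroup.center S) ∈
      Subgroup.zpowers (QuotientGroup.mk a : S ⧸ Subgroup.center S) := by
    rw [QuotientGroup.mk_mul, QuotientGroup.mk_mul, QuotientGroup.mk_inv, QuotientGroup.mk_pow]
    exact hnorm.conj_mem _ (pow_mem (Subgroup.mem_zpowers _) m) _
  obtain ⟨i, hi⟩ := Subgroup.mem_zpowers_iff.mp hb
  have hz1 : (a ^ i)⁻¹ * (x * a ^ m * x⁻¹) ∈ Subgroup.center S := by
    rw [← QuotientGroup.eq, QuotientGroup.mk_zpow]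
    exact hi
  have hbz : x * a ^ m * x⁻¹ = a ^ i * ((a ^ i)⁻¹ * (x * a ^ m * x⁻¹)) := by group
  have hz1c := Subgroup.mem_center_iff.mp hz1
  have hconj : x * a ^ (2 * m) * x⁻¹ = a ^ (i + i) := by
    have hpow : a ^ (2 * m) = (a ^ m) ^ 2 := by rw [mul_comm, pow_mul]
    rw [hpow, ← conj_pow, hbz]
    generalize (a ^ i)⁻¹ * (x * a ^ m * x⁻¹) = z1 at hz1 hz1c
    rw [sq]
    calc a ^ i * z1 * (a ^ i * z1) = a ^ i * (z1 * a ^ i) * z1 := by group
      _ = a ^ i * (a ^ i * z1) * z1 := by rw [← hz1c (a ^ i)]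
      _ = a ^ (i + i) * (z1 ^ 2) := by rw [zpow_add, sq]; group
      _ = a ^ (i + i) := by rw [hZ2 z1 hz1, mul_one]
  have hconj_mem : x * a ^ (2 * m) * x⁻¹ ∈ Subgroup.zpowers a := by
    rw [hconj]; exact Subgroup.zpow_mem_zpowers a _
  have hconj2 : (x * a ^ (2 * m) * x⁻¹) ^ 2 = 1 := by
    rw [conj_pow, hu2]; group
  have h5' : orderOf a = 2 * (2 * m) := by rw [h5]; ring
  have hfix : x * a ^ (2 * m) * x⁻¹ = a ^ (2 * m) := by
    rcases eq_one_or_eq_pow_of_sq h5' hconj_mem hconj2 with h | h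
    · exfalso
      apply hu1
      calc a ^ (2 * m) = x⁻¹ * (x * a ^ (2 * m) * x⁻¹) * x := by group
        _ = 1 := by rw [h]; group
    · exact h
  have huC : a ^ (2 * m) ∈ Subgroup.centralizer ({x} : Set S) := by
    rw [Subgroup.mem_centralizer_singleton_iff]
    calc a ^ (2 * m) * x = (x * a ^ (2 * m) * x⁻¹) * x := by rw [hfix]
      _ = x * a ^ (2 * m) := by group
  have hxA : x ∉ (Subgroup.zpowers (QuotientGroup.mk a : S ⧸ Subgroup.center S)).comap
      (QuotientGroup.mk' (Subgroup.center S)) := hxa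
  have hKne : Subgroup.centralizer ({x} : Set S) ⊓
      (Subgroup.zpowers (QuotientGroup.mk a : S ⧸ Subgroup.center S)).comap
        (QuotientGroup.mk' (Subgroup.center S)) ≠ Subgroup.centralizer ({x} : Set S) := by
    intro h
    apply hxA
    have : x ∈ Subgroup.centralizer ({x} : Set S) ⊓
      (Subgroup.zpowers (QuotientGroup.mk a : S ⧸ Subgroup.center S)).comap
        (QuotientGroup.mk' (Subgroup.center S)) := by
      rw [h]; exact Subgroup.mem_centralizer_singleton_iff.mpr rfl
    exact this.2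
  have hKcard := card_le_two_of_ne inf_le_left hKne hC
  have hZK : Subgroup.center S ≤ Subgroup.centralizer ({x} : Set S) ⊓
      (Subgroup.zpowers (QuotientGroup.mk a : S ⧸ Subgroup.center S)).comap
        (QuotientGroup.mk' (Subgroup.center S)) := by
    refine le_inf (Subgroup.center_le_centralizer _) ?_
    intro z hz
    rw [Subgroup.mem_comap]
    have : (QuotientGroup.mk' (Subgroup.center S)) z = 1 := (QuotientGroup.eq_one_iff z).mpr hz
    rw [this]; exact one_mem _
  have hZeq := Subgroup.eq_of_le_of_card_ge hZK (by rw [hZ]; exact hKcard)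
  have huZ : a ^ (2 * m) ∈ Subgroup.center S := by
    rw [hZeq]
    refine Subgroup.mem_inf.mpr ⟨huC, ?_⟩
    rw [Subgroup.mem_comap]
    change ((a ^ (2 * m) : S) : S ⧸ Subgroup.center S) ∈ _
    rw [QuotientGroup.mk_pow]
    exact pow_mem (Subgroup.mem_zpowers _) _
  have hpow1 : (QuotientGroup.mk a : S ⧸ Subgroup.center S) ^ (2 * m) = 1 := by
    rw [← QuotientGroup.mk_pow]; exact (QuotientGroup.eq_one_iff _).mpr huZ
  have hdvd := orderOf_dvd_of_pow_eq_one hpow1
  rw [ha] at hdvd
  have := Nat.le_of_dvd (by omega) hdvd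
  omega


/-- A 2-group of order at least 8 with an involution whose centralizer has order at most 4 has a
cyclic subgroup of index 2 not containing the involution. -/
theorem exists_cyclic (N : ℕ) : ∀ (S : Type u) [Group S] [Finite S], Nat.card S = N →
    IsPGroup 2 S → 8 ≤ N → ∀ x : S, orderOf x = 2 →
    Nat.card (Subgroup.centralizer ({x} : Set S)) ≤ 4 →
    ∃ a : S, orderOf a * 2 = N ∧ x ∉ Subgroup.zpowers a := by
  induction N using Nat.strong_induction_on with
  | _ N ih =>
  intro S _ _ hcard hS hN x hx hC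
  have : Fact (Nat.Prime 2) := ⟨Nat.prime_two⟩
  have hx2 : x ^ 2 = 1 := by rw [← hx]; exact pow_orderOf_eq_one x
  have hx1 : x ≠ 1 := by
    rintro rfl
    rw [orderOf_one] at hx
    omega
  have hxZ : x ∉ Subgroup.center S := by
    intro h
    have htop : Subgroup.centralizer ({x} : Set S) = ⊤ :=
      Subgroup.centralizer_eq_top_iff_subset.mpr (by simpa using h)
    rw [htop, Subgroup.card_top, hcard] at hC
    omega
  have hnt : Nontrivial S := (Finite.one_lt_card_iff_nontrivial).mp (by omega)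
  have hZnt := hS.center_nontrivial
  have hZ : Nat.card (Subgroup.center S) = 2 := by
    have hne : Subgroup.center S ≠ Subgroup.centralizer ({x} : Set S) := by
      intro h
      apply hxZ
      rw [h]; exact Subgroup.mem_centralizer_singleton_iff.mpr rfl
    have hle := card_le_two_of_ne (Subgroup.center_le_centralizer _) hne hC
    have h1 : 1 < Nat.card (Subgroup.center S) := Finite.one_lt_card
    omega
  obtain ⟨e, he⟩ := IsPGroup.iff_card.mp hS
  rw [hcard] at he
  have he3 : 3 ≤ e := by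
    by_contra h
    have h2 : e ≤ 2 := by omega
    have h3 : 2 ^ e ≤ 2 ^ 2 := Nat.pow_le_pow_right (by norm_num) h2
    omega
  rcases Nat.lt_or_ge e 4 with he4 | he4
  · -- order 8
    have he' : e = 3 := by omega
    subst he'
    have hN8 : N = 8 := by rw [he]; norm_num
    have hex : ∃ g : S, g ^ 2 ≠ 1 := by
      by_contra hall
      have hall' : ∀ g : S, g ^ 2 = 1 := fun g => by
        by_contra hg
        exact hall ⟨g, hg⟩
      apply hxZ
      rw [Subgroup.mem_center_iff]
      intro g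
      have hinv : ∀ y : S, y⁻¹ = y := fun y =>
        inv_eq_of_mul_eq_one_left (by rw [← sq]; exact hall' y)
      calc g * x = (g * x)⁻¹ := (hinv _).symm
        _ = x⁻¹ * g⁻¹ := mul_inv_rev g x
        _ = x * g := by rw [hinv x, hinv g]
    obtain ⟨g, hg⟩ := hex
    have hgdvd : orderOf g ∣ 2 ^ 3 := by
      rw [← he, ← hcard]; exact orderOf_dvd_natCard g
    obtain ⟨j, hj, hgo⟩ := (Nat.dvd_prime_pow Nat.prime_two).mp hgdvd
    have hj2 : 2 ≤ j := by
      by_contra h
      have hj1 : j ≤ 1 := by omega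
      apply hg
      rw [← orderOf_dvd_iff_pow_eq_one, hgo]
      exact (pow_dvd_pow 2 hj1).trans (by norm_num)
    have hle4 : ∀ y : S, x ∈ Subgroup.zpowers y → orderOf y ≤ 4 := by
      intro y hy
      have h := Subgroup.card_le_of_le (zpowers_le_centralizer hy)
      rw [Nat.card_zpowers] at h
      omega
    have hj' : j = 2 := by
      by_contra hne
      have hj3 : j = 3 := by omega
      have htop : Subgroup.zpowers g = ⊤ := by
        apply Subgroup.eq_top_of_card_eq
        rw [Nat.card_zpowers, hgo, hj3, hcard, he]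
      have h := hle4 g (by rw [htop]; exact Subgroup.mem_top x)
      rw [hgo, hj3] at h
      omega
    subst hj'
    refine ⟨g, by rw [hgo, hN8]; norm_num, ?_⟩
    intro hxg
    have heq : Subgroup.zpowers g = Subgroup.centralizer ({x} : Set S) :=
      Subgroup.eq_of_le_of_card_ge (zpowers_le_centralizer hxg)
        (by rw [Nat.card_zpowers, hgo]; omega)
    obtain ⟨z, hz1⟩ := exists_ne (1 : Subgroup.center S)
    have hzmem : (z : S) ∈ Subgroup.zpowers g := by
      rw [heq]; exact Subgroup.center_le_centralizer _ z.2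
    have hz2 : (z : S) ^ 2 = 1 := sq_eq_one_of_card_le_two hZ.le z.2
    have hgo' : orderOf g = 2 * 2 := by rw [hgo]; norm_num
    have hzg : (z : S) = g ^ 2 := by
      rcases eq_one_or_eq_pow_of_sq hgo' hzmem hz2 with h | h
      · exact absurd (Subtype.ext h) hz1
      · exact h
    have hxg2 : x = g ^ 2 := by
      rcases eq_one_or_eq_pow_of_sq hgo' hxg hx2 with h | h
      · exact absurd h hx1
      · exact h
    apply hxZ
    rw [hxg2, ← hzg]; exact z.2
  · -- order at least 16
    obtain ⟨i, rfl⟩ : ∃ i, e = i + 4 := ⟨e - 4, by omega⟩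
    have hmpos : 0 < 2 ^ i := by positivity
    have hN16 : N = 16 * 2 ^ i := by rw [he, pow_add]; ring
    have hcardQ : Nat.card (S ⧸ Subgroup.center S) = 8 * 2 ^ i := by
      have h := Subgroup.card_eq_card_quotient_mul_card_subgroup (Subgroup.center S)
      rw [hcard, hZ, hN16] at h
      omega
    have hQ : IsPGroup 2 (S ⧸ Subgroup.center S) := hS.to_quotient _
    have hxbar : orderOf (QuotientGroup.mk x : S ⧸ Subgroup.center S) = 2 := by
      apply orderOf_eq_prime
      · rw [← QuotientGroup.mk_pow, hx2]; rfl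
      · intro h
        exact hxZ ((QuotientGroup.eq_one_iff x).mp h)
    have hCbar := card_centralizer_quotient_le x hZ hC
    obtain ⟨abar, habar, hxabar⟩ := ih (8 * 2 ^ i) (by omega) (S ⧸ Subgroup.center S) hcardQ hQ
      (by omega) _ hxbar hCbar
    obtain ⟨a, rfl⟩ := QuotientGroup.mk_surjective abar
    have ha4 : orderOf (QuotientGroup.mk a : S ⧸ Subgroup.center S) = 4 * 2 ^ i := by omega
    obtain ⟨h1, h2⟩ := lift_order x a (2 ^ i) hmpos hC hZ (by rw [hcard, hN16]) ha4 hxabar
    exact ⟨a, by rw [h1, hN16]; ring, h2⟩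

/-- A finite 2-group containing an involution whose centralizer has order 4 is dihedral, quasi-dihedral (semidihedral), or of order 4. -/
theorem result {S : Type*} [Group S] [Finite S] (hS : IsPGroup 2 S)
    (x : S) (hx : orderOf x = 2) (hC : Nat.card ↥(Subgroup.centralizer ({x} : Set S)) = 4) :
    (∃ n : ℕ, Nonempty (S ≃* DihedralGroup n)) ∨ Cfsg.IsQuasiDihedral S ∨ Nat.card S = 4 := by
  have : Fact (Nat.Prime 2) := ⟨Nat.prime_two⟩
  obtain ⟨e, he⟩ := IsPGroup.iff_card.mp hS
  have hx2 : x ^ 2 = 1 := by rw [← hx]; exact pow_orderOf_eq_one x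
  have hdvd : 4 ∣ 2 ^ e := by
    rw [← he, ← hC]; exact Subgroup.card_subgroup_dvd_card _
  have he2 : 2 ≤ e := by
    by_contra h
    have h1 : e ≤ 1 := by omega
    have h2 : 2 ^ e ≤ 2 ^ 1 := Nat.pow_le_pow_right (by norm_num) h1
    have h3 := Nat.le_of_dvd (by positivity) hdvd
    omega
  rcases Nat.lt_or_ge e 3 with he3 | he3
  · right; right
    have h2 : e = 2 := by omega
    rw [he, h2]; norm_num
  · obtain ⟨i, rfl⟩ : ∃ i, e = i + 3 := ⟨e - 3, by omega⟩
    have hipos : 0 < 2 ^ i := by positivity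
    have hN8 : 8 ≤ Nat.card S := by rw [he, pow_add]; omega
    obtain ⟨a, ha, hxa⟩ := exists_cyclic (Nat.card S) S rfl hS hN8 x hx hC.le
    have hcard4 : Nat.card S = 4 * 2 ^ (i + 1) := by rw [he]; ring
    have hao : orderOf a = 2 * 2 ^ (i + 1) := by omega
    rcases conj_eq hx2 hC.le hao hcard4 hxa with hconj | hconj
    · left
      exact ⟨2 * 2 ^ (i + 1), Cfsg.Agent.Lib.Helper54.nonempty_mulEquiv_dihedralGroup hx2 hao
        (by rw [hcard4]; ring) hxa hconj⟩
    · rcases Nat.eq_zero_or_pos i with hi0 | hi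
      · exfalso
        subst hi0
        have hcomm : x * a * x⁻¹ = a := by
          rw [hconj]
          norm_num [sq]
        have haC : a ∈ Subgroup.centralizer ({x} : Set S) := by
          rw [Subgroup.mem_centralizer_singleton_iff]
          calc a * x = (x * a * x⁻¹) * x := by rw [hcomm]
            _ = x * a := by group
        have hle : Subgroup.zpowers a ≤ Subgroup.centralizer ({x} : Set S) := by
          rw [Subgroup.zpowers_le]; exact haC
        have heq := Subgroup.eq_of_le_of_card_ge hle (by rw [Nat.card_zpowers, hao, hC]; norm_num)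
        apply hxa
        rw [heq]; exact Subgroup.mem_centralizer_singleton_iff.mpr rfl
      · right; left
        refine ⟨i + 2, by omega, by rw [he], a, x, ?_, hx, ?_⟩
        · rw [hao]; ring
        · rw [hconj]
          have h1 : i + 2 - 1 = i + 1 := by omega
          rw [h1]
          have hkpos : 0 < 2 ^ (i + 1) := by positivity
          obtain ⟨k', hk'⟩ : ∃ k', 2 ^ (i + 1) = k' + 1 := ⟨2 ^ (i + 1) - 1, by omega⟩
          rw [hk', pow_succ', inv_mul_cancel_left, Nat.add_sub_cancel]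

end Cfsg.Agent.S3224
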