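import Cfsg.Statements.S2253
import Cfsg.Agent.Lib.Helper95.NilpNum
import Mathlib

set_option autoImplicit false
open Cfsg

namespace Cfsg.Agent.S2253

open Cfsg.Agent.Lib.Helper95.NilpNum

/-- In a finite nilpotent group the Sylow `p`-subgroup and its centralizer generate the group. -/
theorem centralizer_sup_sylow {Γ : Type*} [Group Γ] [Finite Γ] [Group.IsNilpotent Γ] (p : ℕ)
    [Fact p.Prime] (P : Sylow p Γ) :
    Subgroup.centralizer ((P : Subgroup Γ) : Set Γ) ⊔ (P : Subgroup Γ) = ⊤ := by
  have hnc : NormalizerCondition Γ := Group.normalizerCondition_of_isNilpotent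
  have hPn : (P : Subgroup Γ).Normal := Sylow.normal_of_normalizerCondition hnc P
  rw [← Subgroup.index_eq_one]
  by_contra hne
  obtain ⟨q, hq, hqd⟩ := Nat.exists_prime_and_dvd hne
  have : Fact q.Prime := ⟨hq⟩
  by_cases hqp : q = p
  · subst hqp
    exact P.not_dvd_index (hqd.trans (Subgroup.index_dvd_of_le le_sup_right))
  · obtain ⟨Q⟩ : Nonempty (Sylow q Γ) := inferInstance
    have hQn : (Q : Subgroup Γ).Normal := Sylow.normal_of_normalizerCondition hnc Q
    have hQH : (Q : Subgroup Γ) ≤
        Subgroup.centralizer ((P : Subgroup Γ) : Set Γ) ⊔ (P : Subgroup Γ) := by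
      intro x hx
      apply Subgroup.mem_sup_left
      rw [Subgroup.mem_centralizer_iff]
      intro y hy
      exact (Subgroup.commute_of_normal_of_disjoint _ _ hPn hQn
        (IsPGroup.disjoint_of_ne p q (Ne.symm hqp) _ _ P.isPGroup' Q.isPGroup') y x hy hx).eq
    exact Q.not_dvd_index (hqd.trans (Subgroup.index_dvd_of_le hQH))

/-- The Sylow `p`-subgroup of a transitive nilpotent permutation group embeds in the symmetric
group on one of its orbits, whose size is a power of `p` dividing the degree. -/
theorem sylow_bound {Γ α : Type*} [Group Γ] [Finite Γ] [Group.IsNilpotent Γ] [MulAction Γ α]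
    [FaithfulSMul Γ α] [MulAction.IsPretransitive Γ α] [Finite α] [Nonempty α] (p : ℕ)
    (hp : p.Prime) :
    (Nat.card Γ).factorization p ≤ ((p ^ (Nat.card α).factorization p).factorial).factorization p := by
  have : Fact p.Prime := ⟨hp⟩
  obtain ⟨P⟩ : Nonempty (Sylow p Γ) := inferInstance
  have hnc : NormalizerCondition Γ := Group.normalizerCondition_of_isNilpotent
  have hPn : (P : Subgroup Γ).Normal := Sylow.normal_of_normalizerCondition hnc P
  obtain ⟨ω⟩ : Nonempty α := inferInstance
  set O : Set α := MulAction.orbit (P : Subgroup Γ) ω with hO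
  have hfaith : Function.Injective (MulAction.toPermHom (P : Subgroup Γ) O) := by
    rw [injective_iff_map_eq_one]
    intro u hu
    have hu' : ∀ x ∈ O, (u : Γ) • x = x := by
      intro x hx
      have := congrArg (fun f => ((f ⟨x, hx⟩ : O) : α)) hu
      have h2 : ((u • (⟨x, hx⟩ : O) : O) : α) = x := by simpa using this
      exact h2
    have hall : ∀ y : α, (u : Γ) • y = y := by
      intro y
      obtain ⟨g, rfl⟩ := MulAction.exists_smul_eq Γ ω y
      have hg : g ∈ Subgroup.centralizer ((P : Subgroup Γ) : Set Γ) ⊔ (P : Subgroup Γ) := by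
        rw [centralizer_sup_sylow p P]; trivial
      obtain ⟨c, hc, v, hv, rfl⟩ := Subgroup.mem_sup_of_normal_right.mp hg
      have hcu : (u : Γ) * c = c * u := Subgroup.mem_centralizer_iff.mp hc u u.2
      have hvω : v • ω ∈ O := ⟨⟨v, hv⟩, rfl⟩
      rw [mul_smul, ← mul_smul, hcu, mul_smul, hu' _ hvω]
    have : (u : Γ) = 1 := by
      apply FaithfulSMul.eq_of_smul_eq_smul (α := α)
      intro y; rw [hall y, one_smul]
    exact Subtype.ext this
  have h1 : Nat.card (P : Subgroup Γ) ∣ (Nat.card O).factorial := by
    have := Subgroup.card_dvd_of_injective _ hfaith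
    rwa [Nat.card_perm] at this
  have h2 : Nat.card O ∣ Nat.card (P : Subgroup Γ) := by
    rw [Nat.card_coe_set_eq, hO, ← MulAction.index_stabilizer]
    exact Subgroup.index_dvd_card _
  have hcardP : Nat.card (P : Subgroup Γ) = p ^ (Nat.card Γ).factorization p :=
    Sylow.card_eq_multiplicity P
  rw [hcardP] at h2
  obtain ⟨e, he, hOe⟩ := (Nat.dvd_prime_pow hp).mp h2
  have h3 : Nat.card O ∣ Nat.card α := by
    rw [Nat.card_coe_set_eq]
    exact (MulAction.IsBlock.orbit_of_normal (G := Γ) (N := (P : Subgroup Γ)) ω).ncard_dvd_card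
      (MulAction.nonempty_orbit _)
  rw [hOe] at h3
  have hαne : Nat.card α ≠ 0 := Nat.card_pos.ne'
  have h4 : e ≤ (Nat.card α).factorization p := (hp.pow_dvd_iff_le_factorization hαne).mp h3
  have h5 : (Nat.card O).factorial ∣ (p ^ (Nat.card α).factorization p).factorial := by
    rw [hOe]
    exact Nat.factorial_dvd_factorial (Nat.pow_le_pow_right hp.pos h4)
  rw [hcardP] at h1
  exact (hp.pow_dvd_iff_le_factorization (Nat.factorial_ne_zero _)).mp (h1.trans h5)

/-- restriction of a group of permutations to an invariant subset -/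
def restr {α : Type*} (N : Subgroup (Equiv.Perm α)) (s : Set α)
    (hs : ∀ σ ∈ N, ∀ x, σ x ∈ s ↔ x ∈ s) : N →* Equiv.Perm ↥s where
  toFun σ := (σ : Equiv.Perm α).subtypePerm (hs σ σ.2)
  map_one' := by ext; simp
  map_mul' := by intros; ext; rfl

theorem card_le_of_restr {α : Type*} [Finite α] (N : Subgroup (Equiv.Perm α)) (s : Set α)
    (hs : ∀ σ ∈ N, ∀ x, σ x ∈ s ↔ x ∈ s) (hs' : ∀ σ ∈ N, ∀ x, σ x ∈ sᶜ ↔ x ∈ sᶜ) :
    Nat.card N ≤ Nat.card (restr N s hs).range * Nat.card (restr N sᶜ hs').range := by
  rw [← Nat.card_prod]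
  apply Nat.card_le_card_of_injective
    (fun σ => ((restr N s hs).rangeRestrict σ, (restr N sᶜ hs').rangeRestrict σ))
  intro σ τ h
  simp only [Prod.mk.injEq] at h
  obtain ⟨h1, h2⟩ := h
  have h1' : restr N s hs σ = restr N s hs τ := congrArg Subtype.val h1
  have h2' : restr N sᶜ hs' σ = restr N sᶜ hs' τ := congrArg Subtype.val h2
  apply Subtype.ext
  ext x
  by_cases hx : x ∈ s
  · have := congrArg (fun f => ((f ⟨x, hx⟩ : s) : α)) h1'
    simpa [restr] using this
  · have := congrArg (fun f => ((f ⟨x, hx⟩ : (sᶜ : Set α)) : α)) h2'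
    simpa [restr] using this

theorem main : ∀ m : ℕ, ∀ (α : Type) [Finite α], Nat.card α = m →
    ∀ N : Subgroup (Equiv.Perm α), Group.IsNilpotent N → Nat.card N ≤ g m := by
  intro m
  induction m using Nat.strong_induction_on with
  | _ m ih =>
    intro α _ hα N hN
    rcases isEmpty_or_nonempty α with hempty | hne
    · have : Nat.card N ≤ 1 := by
        have : Subsingleton (Equiv.Perm α) := inferInstance
        exact Finite.card_le_one_iff_subsingleton.mpr inferInstance
      exact this.trans (g_pos m)
    · obtain ⟨ω⟩ := hne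
      by_cases htr : MulAction.orbit N ω = Set.univ
      · have : MulAction.IsPretransitive N α := by
          refine ⟨fun x y => ?_⟩
          have hx : x ∈ MulAction.orbit N ω := by rw [htr]; trivial
          have hy : y ∈ MulAction.orbit N ω := by rw [htr]; trivial
          obtain ⟨a, rfl⟩ := hx
          obtain ⟨b, rfl⟩ := hy
          exact ⟨b * a⁻¹, by simp [mul_smul]⟩
        have : Nonempty α := ⟨ω⟩
        have hm1 : 1 ≤ m := by rw [← hα]; exact Nat.card_pos
        have hk : Nat.card N ≠ 0 := Nat.card_pos.ne'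
        have := numeric_bound m hm1 (Nat.card N) hk (fun p hp => by
          have := sylow_bound (Γ := N) (α := α) p hp
          rwa [hα] at this)
        exact this.trans (T_le_g m)
      · set s := MulAction.orbit N ω with hs
        have hinv : ∀ σ ∈ N, ∀ x, σ x ∈ s ↔ x ∈ s := by
          intro σ hσ x
          have : σ x = (⟨σ, hσ⟩ : N) • x := rfl
          rw [this, hs, ← MulAction.orbit_eq_iff, ← MulAction.orbit_eq_iff (a := x),
            MulAction.orbit_smul]
        have hinv' : ∀ σ ∈ N, ∀ x, σ x ∈ sᶜ ↔ x ∈ sᶜ := by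
          intro σ hσ x
          simp only [Set.mem_compl_iff, hinv σ hσ x]
        have hcard := card_le_of_restr N s hinv hinv'
        have hsne : s.Nonempty := ⟨ω, MulAction.mem_orbit_self ω⟩
        have hscne : sᶜ.Nonempty := Set.nonempty_compl.mpr htr
        have hadd : Nat.card s + Nat.card ↥sᶜ = m := by
          rw [Nat.card_coe_set_eq, Nat.card_coe_set_eq, Set.ncard_add_ncard_compl, hα]
        have hs0 : 0 < Nat.card s := by
          have := hsne.to_subtype
          exact Nat.card_pos
        have hsc0 : 0 < Nat.card ↥sᶜ := by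
          have := hscne.to_subtype
          exact Nat.card_pos
        have hn1 : Group.IsNilpotent (restr N s hinv).range :=
          Group.nilpotent_of_surjective (restr N s hinv).rangeRestrict
            (MonoidHom.rangeRestrict_surjective _)
        have hn2 : Group.IsNilpotent (restr N sᶜ hinv').range :=
          Group.nilpotent_of_surjective (restr N sᶜ hinv').rangeRestrict
            (MonoidHom.rangeRestrict_surjective _)
        have h1 := ih (Nat.card s) (by omega) s rfl (restr N s hinv).range hn1
        have h2 := ih (Nat.card ↥sᶜ) (by omega) ↥sᶜ rfl (restr N sᶜ hinv').range hn2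
        calc Nat.card N ≤ _ := hcard
          _ ≤ g (Nat.card s) * g (Nat.card ↥sᶜ) := Nat.mul_le_mul h1 h2
          _ ≤ g (Nat.card s + Nat.card ↥sᶜ) := g_mul_le _ _
          _ = g m := by rw [hadd]

/-- Let n be a natural number not congruent to 3 modulo 4. Then every nilpotent subgroup of the symmetric group on n letters has order at most the order of a Sylow 2-subgroup (so the nilpotent subgroups of largest order are exactly the Sylow 2-subgroups). -/
theorem result  (n : ℕ) (hn : n % 4 ≠ 3)
    (N : Subgroup (Equiv.Perm (Fin n))) (hN : Group.IsNilpotent N)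
    (P : Sylow 2 (Equiv.Perm (Fin n))) :
    Nat.card N ≤ Nat.card P := by
  have h := main n (Fin n) (Nat.card_fin n) N hN
  rw [g_of_mod hn] at h
  have : Fact (Nat.Prime 2) := ⟨Nat.prime_two⟩
  have hP : Nat.card P = 2 ^ (Nat.card (Equiv.Perm (Fin n))).factorization 2 :=
    Sylow.card_eq_multiplicity P
  rw [hP, Nat.card_perm, Nat.card_fin]
  exact h

end Cfsg.Agent.S2253
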