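import Cfsg.Statements.S2255
import Cfsg.Agent.S2253
import Cfsg.Agent.Lib.Helper95.NilpNum2
import Mathlib

set_option autoImplicit false
open Cfsg

namespace Cfsg.Agent.S2255

open Cfsg.Agent.Lib.Helper95.NilpNum

/-- restriction of a group of permutations to an invariant predicate -/
def restrP {α : Type*} (N : Subgroup (Equiv.Perm α)) (p : α → Prop)
    (hp : ∀ σ ∈ N, ∀ x, p (σ x) ↔ p x) : N →* Equiv.Perm {x // p x} where
  toFun σ := (σ : Equiv.Perm α).subtypePerm (hp σ σ.2)
  map_one' := by ext; simp
  map_mul' := by intros; ext; rfl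

theorem sign_eq_mul {α : Type*} [DecidableEq α] [Fintype α] (σ : Equiv.Perm α) (p : α → Prop)
    [DecidablePred p] (hp : ∀ x, p (σ x) ↔ p x) (hp' : ∀ x, ¬ p (σ x) ↔ ¬ p x) :
    Equiv.Perm.sign σ =
      Equiv.Perm.sign (σ.subtypePerm hp) *
        Equiv.Perm.sign (Equiv.Perm.subtypePerm (p := fun x => ¬ p x) σ hp') := by
  rw [← Equiv.Perm.sign_subtypeCongr]
  congr 1
  ext x
  by_cases h : p x
  · rw [Equiv.Perm.subtypeCongr.left_apply _ _ h]; rfl
  · rw [Equiv.Perm.subtypeCongr.right_apply _ _ h]; rfl

theorem restrP_injective {α : Type*} (N : Subgroup (Equiv.Perm α)) (p : α → Prop)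
    (hp : ∀ σ ∈ N, ∀ x, p (σ x) ↔ p x) (hp' : ∀ σ ∈ N, ∀ x, ¬ p (σ x) ↔ ¬ p x) :
    Function.Injective (fun σ : N => ((restrP N p hp).rangeRestrict σ,
      (restrP N (fun x => ¬ p x) hp').rangeRestrict σ)) := by
  intro σ τ h
  simp only [Prod.mk.injEq] at h
  obtain ⟨h1, h2⟩ := h
  have h1' : restrP N p hp σ = restrP N p hp τ := congrArg Subtype.val h1
  have h2' : restrP N (fun x => ¬ p x) hp' σ = restrP N (fun x => ¬ p x) hp' τ :=
    congrArg Subtype.val h2
  apply Subtype.ext
  ext x
  by_cases hx : p x
  · have := congrArg (fun f => ((f ⟨x, hx⟩ : {x // p x}) : α)) h1'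
    simpa [restrP] using this
  · have := congrArg (fun f => ((f ⟨x, hx⟩ : {x // ¬ p x}) : α)) h2'
    simpa [restrP] using this

theorem transitive_even {α : Type} [Fintype α] [DecidableEq α] (N : Subgroup (Equiv.Perm α))
    (hN : Group.IsNilpotent N) (heven : N ≤ alternatingGroup α)
    [MulAction.IsPretransitive N α] [Nonempty α] : Nat.card N ≤ h (Nat.card α) := by
  set m := Nat.card α with hm
  have hm1 : 1 ≤ m := Nat.card_pos
  have hk : Nat.card N ≠ 0 := Nat.card_pos.ne'
  have hsyl : ∀ p : ℕ, p.Prime → (Nat.card N).factorization p ≤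
      ((p ^ m.factorization p).factorial).factorization p :=
    fun p hp => Cfsg.Agent.S2253.sylow_bound (Γ := N) (α := α) p hp
  by_cases h2 : ∃ a : ℕ, 1 ≤ a ∧ m = 2 ^ a
  · obtain ⟨a, ha, hma⟩ := h2
    have h2p : ∀ p : ℕ, p.Prime → p ≠ 2 → (2 : ℕ).factorization p = 0 := by
      intro p hp hp2
      apply Nat.factorization_eq_zero_of_not_dvd
      intro hd
      exact hp2 ((Nat.prime_dvd_prime_iff_eq hp Nat.prime_two).mp hd)
    have hodd : ∀ p : ℕ, p.Prime → p ≠ 2 → (Nat.card N).factorization p = 0 := by
      intro p hp hp2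
      have := hsyl p hp
      have hz : m.factorization p = 0 := by
        rw [hma, Nat.factorization_pow]
        simp [h2p p hp hp2]
      rw [hz, pow_zero, Nat.factorial_one, Nat.factorization_one] at this
      simpa using this
    set j := (Nat.card N).factorization 2 with hj
    have hkj : Nat.card N = 2 ^ j := by
      apply Nat.eq_of_factorization_eq hk (by positivity)
      intro p
      by_cases hp : p.Prime
      · by_cases hp2 : p = 2
        · subst hp2
          rw [Nat.factorization_pow]
          simp [Nat.prime_two.factorization_self, hj]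
        · rw [hodd p hp hp2, Nat.factorization_pow]
          simp [h2p p hp hp2]
      · simp [Nat.factorization_eq_zero_of_not_prime _ hp]
    have hm2 : 2 ≤ m := by
      rw [hma]
      calc 2 = 2 ^ 1 := rfl
        _ ≤ 2 ^ a := Nat.pow_le_pow_right (by norm_num) ha
    have : Nontrivial α := (Finite.one_lt_card_iff_nontrivial).mp (by omega)
    have hdvd : Nat.card N ∣ Nat.card (alternatingGroup α) := Subgroup.card_dvd_of_le heven
    have hA : 2 * Nat.card (alternatingGroup α) = m.factorial := by
      rw [two_mul_nat_card_alternatingGroup, Nat.card_perm]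
    have hdvd2 : 2 ^ (j + 1) ∣ m.factorial := by
      rw [pow_succ, ← hA, mul_comm]
      exact Nat.mul_dvd_mul_left 2 (hkj ▸ hdvd)
    have hle : j + 1 ≤ e2 m :=
      (Nat.prime_two.pow_dvd_iff_le_factorization (Nat.factorial_ne_zero m)).mp hdvd2
    have hF : Nat.card N ≤ F m / 2 := by
      rw [Nat.le_div_iff_mul_le (by norm_num), hkj, ← pow_succ]
      exact Nat.pow_le_pow_right (by norm_num) hle
    exact hF.trans (F_half_le_h m)
  · push Not at h2
    have := numeric_bound2 m hm1 (fun a ha hma => h2 a ha hma) (Nat.card N) hk hsyl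
    exact this.trans (T2_le_h m)

theorem main_alt : ∀ m : ℕ, ∀ (α : Type) [Fintype α] [DecidableEq α], Nat.card α = m →
    ∀ N : Subgroup (Equiv.Perm α), Group.IsNilpotent N → N ≤ alternatingGroup α →
    Nat.card N ≤ h m := by
  intro m
  induction m using Nat.strong_induction_on with
  | _ m ih =>
    intro α _ _ hα N hN heven
    classical
    rcases isEmpty_or_nonempty α with hempty | hne
    · have : Nat.card N ≤ 1 := Finite.card_le_one_iff_subsingleton.mpr inferInstance
      exact this.trans (h_pos m)
    · obtain ⟨ω⟩ := hne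
      by_cases htr : MulAction.orbit N ω = Set.univ
      · have : MulAction.IsPretransitive N α := by
          refine ⟨fun x y => ?_⟩
          have hx : x ∈ MulAction.orbit N ω := by rw [htr]; trivial
          have hy : y ∈ MulAction.orbit N ω := by rw [htr]; trivial
          obtain ⟨a, rfl⟩ := hx
          obtain ⟨b, rfl⟩ := hy
          exact ⟨b * a⁻¹, by simp [mul_smul]⟩
        have : Nonempty α := ⟨ω⟩
        have := transitive_even N hN heven
        rwa [hα] at this
      · set s := MulAction.orbit N ω with hs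
        have hinv : ∀ σ ∈ N, ∀ x, σ x ∈ s ↔ x ∈ s := by
          intro σ hσ x
          have : σ x = (⟨σ, hσ⟩ : N) • x := rfl
          rw [this, hs, ← MulAction.orbit_eq_iff, ← MulAction.orbit_eq_iff (a := x),
            MulAction.orbit_smul]
        have hinv' : ∀ σ ∈ N, ∀ x, ¬ σ x ∈ s ↔ ¬ x ∈ s :=
          fun σ hσ x => not_congr (hinv σ hσ x)
        set ρ₁ := restrP N (· ∈ s) hinv with hρ₁
        set ρ₂ := restrP N (fun x => ¬ x ∈ s) hinv' with hρ₂
        have hinj := restrP_injective N (· ∈ s) hinv hinv'
        have hadd : Nat.card {x // x ∈ s} + Nat.card {x // ¬ x ∈ s} = m := by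
          rw [← hα, Nat.card_eq_fintype_card, Nat.card_eq_fintype_card,
            Nat.card_eq_fintype_card, Fintype.card_subtype_compl]
          have := Fintype.card_subtype_le (· ∈ s)
          omega
        have hs0 : 0 < Nat.card {x // x ∈ s} := by
          have : Nonempty {x // x ∈ s} := ⟨⟨ω, MulAction.mem_orbit_self ω⟩⟩
          exact Nat.card_pos
        have hsc0 : 0 < Nat.card {x // ¬ x ∈ s} := by
          obtain ⟨y, hy⟩ := (Set.ne_univ_iff_exists_notMem s).mp htr
          have : Nonempty {x // ¬ x ∈ s} := ⟨⟨y, hy⟩⟩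
          exact Nat.card_pos
        have hn1 : Group.IsNilpotent ρ₁.range :=
          Group.nilpotent_of_surjective ρ₁.rangeRestrict (MonoidHom.rangeRestrict_surjective _)
        have hn2 : Group.IsNilpotent ρ₂.range :=
          Group.nilpotent_of_surjective ρ₂.rangeRestrict (MonoidHom.rangeRestrict_surjective _)
        have hsign : ∀ σ : N, Equiv.Perm.sign (ρ₁ σ) * Equiv.Perm.sign (ρ₂ σ) = 1 := by
          intro σ
          have h1 : Equiv.Perm.sign (σ : Equiv.Perm α) = 1 :=
            Equiv.Perm.mem_alternatingGroup.mp (heven σ.2)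
          rw [sign_eq_mul (σ : Equiv.Perm α) (· ∈ s) (hinv σ σ.2) (hinv' σ σ.2)] at h1
          exact h1
        have hcard : Nat.card N ≤ Nat.card ρ₁.range * Nat.card ρ₂.range := by
          rw [← Nat.card_prod]
          exact Nat.card_le_card_of_injective _ hinj
        by_cases hev1 : ρ₁.range ≤ alternatingGroup {x // x ∈ s}
        · have hev2 : ρ₂.range ≤ alternatingGroup {x // ¬ x ∈ s} := by
            rintro _ ⟨σ, rfl⟩
            rw [Equiv.Perm.mem_alternatingGroup]
            have h1 := hsign σ
            have h2 : Equiv.Perm.sign (ρ₁ σ) = 1 :=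
              Equiv.Perm.mem_alternatingGroup.mp (hev1 ⟨σ, rfl⟩)
            rw [h2, one_mul] at h1
            exact h1
          have h1 := ih _ (by omega) {x // x ∈ s} rfl ρ₁.range hn1 hev1
          have h2 := ih _ (by omega) {x // ¬ x ∈ s} rfl ρ₂.range hn2 hev2
          calc Nat.card N ≤ _ := hcard
            _ ≤ h (Nat.card {x // x ∈ s}) * h (Nat.card {x // ¬ x ∈ s}) := Nat.mul_le_mul h1 h2
            _ ≤ h (Nat.card {x // x ∈ s} + Nat.card {x // ¬ x ∈ s}) := h_mul_le _ _ hs0 hsc0
            _ = h m := by rw [hadd]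
        · obtain ⟨x₀, hx₀, hx₀odd⟩ : ∃ x₀ ∈ ρ₁.range, x₀ ∉ alternatingGroup {x // x ∈ s} :=
            SetLike.not_le_iff_exists.mp hev1
          let ψ : ρ₁.range × ρ₂.range →* ℤˣ :=
            (Equiv.Perm.sign.comp (ρ₁.range.subtype.comp (MonoidHom.fst _ _))) *
              (Equiv.Perm.sign.comp (ρ₂.range.subtype.comp (MonoidHom.snd _ _)))
          have hψ : ∀ z : ρ₁.range × ρ₂.range, ψ z =
              Equiv.Perm.sign (z.1 : Equiv.Perm {x // x ∈ s}) *
                Equiv.Perm.sign (z.2 : Equiv.Perm {x // ¬ x ∈ s}) :=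
            fun z => rfl
          have hK : ∀ σ : N, (ρ₁.rangeRestrict σ, ρ₂.rangeRestrict σ) ∈ ψ.ker := by
            intro σ
            rw [MonoidHom.mem_ker, hψ]
            exact hsign σ
          have hcardK : Nat.card N ≤ Nat.card ψ.ker := by
            apply Nat.card_le_card_of_injective (fun σ : N => (⟨_, hK σ⟩ : ψ.ker))
            intro σ τ hστ
            exact hinj (congrArg Subtype.val hστ)
          have hKne : ψ.ker ≠ ⊤ := by
            intro htop
            have hmem : ((⟨x₀, hx₀⟩ : ρ₁.range), (1 : ρ₂.range)) ∈ ψ.ker := by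
              rw [htop]; trivial
            rw [MonoidHom.mem_ker, hψ] at hmem
            simp at hmem
            exact hx₀odd (Equiv.Perm.mem_alternatingGroup.mpr hmem)
          have hidx : 2 ≤ ψ.ker.index := by
            have h0 : ψ.ker.index ≠ 0 := Subgroup.index_ne_zero_of_finite
            have h1 : ψ.ker.index ≠ 1 := fun h => hKne (Subgroup.index_eq_one.mp h)
            omega
          have hmul := Subgroup.card_mul_index ψ.ker
          rw [Nat.card_prod] at hmul
          have h1 := Cfsg.Agent.S2253.main _ {x // x ∈ s} rfl ρ₁.range hn1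
          have h2 := Cfsg.Agent.S2253.main _ {x // ¬ x ∈ s} rfl ρ₂.range hn2
          have h3 := g_mul_le (Nat.card {x // x ∈ s}) (Nat.card {x // ¬ x ∈ s})
          rw [hadd] at h3
          have h4 := g_le_two_h m
          have h5 : Nat.card ψ.ker * 2 ≤ Nat.card ρ₁.range * Nat.card ρ₂.range := by
            rw [← hmul]; exact Nat.mul_le_mul_left _ hidx
          have h6 : Nat.card ρ₁.range * Nat.card ρ₂.range ≤
              g (Nat.card {x // x ∈ s}) * g (Nat.card {x // ¬ x ∈ s}) := Nat.mul_le_mul h1 h2
          have h7 : Nat.card N * 2 ≤ 2 * h m :=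
            calc Nat.card N * 2 ≤ Nat.card ψ.ker * 2 := Nat.mul_le_mul_right _ hcardK
              _ ≤ _ := h5
              _ ≤ _ := h6
              _ ≤ _ := h3
              _ ≤ _ := h4
          omega

/-- Let n be a natural number not congruent to 3 modulo 4, with n ∉ {5, 6, 9}. Then every nilpotent subgroup of the alternating group on n letters has order at most the order of a Sylow 2-subgroup of the alternating group (so the nilpotent subgroups of largest order are exactly the Sylow 2-subgroups). -/
theorem result  (n : ℕ) (hn : n % 4 ≠ 3)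
    (h5 : n ≠ 5) (h6 : n ≠ 6) (h9 : n ≠ 9)
    (N : Subgroup (alternatingGroup (Fin n))) (hN : Group.IsNilpotent N)
    (P : Sylow 2 (alternatingGroup (Fin n))) :
    Nat.card N ≤ Nat.card P := by
  set N' : Subgroup (Equiv.Perm (Fin n)) := N.map (alternatingGroup (Fin n)).subtype with hN'
  have hcard : Nat.card N' = Nat.card N :=
    Nat.card_congr (N.equivMapOfInjective _ (Subgroup.subtype_injective _)).toEquiv.symm
  have hnil : Group.IsNilpotent N' :=
    Group.nilpotent_of_surjective
      (N.equivMapOfInjective _ (Subgroup.subtype_injective _)).toMonoidHom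
      (MulEquiv.surjective _)
  have heven : N' ≤ alternatingGroup (Fin n) := by
    rintro _ ⟨x, -, rfl⟩
    exact x.2
  have hmain := main_alt n (Fin n) (Nat.card_fin n) N' hnil heven
  rw [hcard] at hmain
  refine hmain.trans ?_
  by_cases h2 : 2 ≤ n
  · rw [h_of_generic hn h2 h5 h6 h9]
    have : Fact (Nat.Prime 2) := ⟨Nat.prime_two⟩
    have hP : Nat.card P = 2 ^ (Nat.card (alternatingGroup (Fin n))).factorization 2 :=
      Sylow.card_eq_multiplicity P
    have : Nontrivial (Fin n) := Fin.nontrivial_iff_two_le.mpr h2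
    rw [hP, nat_card_alternatingGroup, Nat.card_fin]
    have hdvd : 2 ∣ n.factorial := Nat.dvd_factorial (by norm_num) h2
    have hfac : (n.factorial / 2).factorization 2 = e2 n - 1 := by
      rw [Nat.factorization_div hdvd]
      simp [e2, Nat.prime_two.factorization_self]
    rw [hfac]
    have he : 1 ≤ e2 n := by
      have := e2_mono h2
      rw [e2_two] at this
      exact this
    unfold F
    obtain ⟨d, hd⟩ : ∃ d, e2 n = d + 1 := ⟨e2 n - 1, by omega⟩
    rw [hd, pow_succ]
    simp
  · have hh : h n = 1 := by unfold h; rw [if_pos (by omega)]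
    rw [hh]; exact Nat.card_pos

end Cfsg.Agent.S2255
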