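import Cfsg.Statements.S2254
import Cfsg.Agent.S2253
import Cfsg.Agent.S2255
import Mathlib

set_option autoImplicit false
open Cfsg

namespace Cfsg.Agent.S2254

open Cfsg.Agent.Lib.Helper95.NilpNum
open Cfsg.Agent.S2253 (restr card_le_of_restr main sylow_bound)
open Cfsg.Agent.S2255 (restrP)

theorem T_lt_g {m : ℕ} (hm : m % 4 = 3) (h3 : m ≠ 3) : T m < g m := by
  obtain ⟨j, rfl⟩ : ∃ j, m = 4 * j + 3 := ⟨m / 4, by omega⟩
  unfold T
  rw [if_neg h3, g_add_three, F_four_mul_add_three]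
  have := F_pos (4 * j)
  omega

theorem F_four_mul_add_one (j : ℕ) : F (4 * j + 1) = F (4 * j) := by
  unfold F; rw [e2_four_mul_add_one, e2_four_mul]

theorem F_four_mul_add_two (j : ℕ) : F (4 * j + 2) = 2 * F (4 * j) := by
  unfold F; rw [e2_four_mul_add_two, e2_four_mul, pow_succ]; ring

theorem g_mul_lt {a b : ℕ} (ha : a % 4 = 1) (hb : b % 4 = 2) : g a * g b < g (a + b) := by
  obtain ⟨i, rfl⟩ : ∃ i, a = 4 * i + 1 := ⟨a / 4, by omega⟩
  obtain ⟨j, rfl⟩ : ∃ j, b = 4 * j + 2 := ⟨b / 4, by omega⟩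
  rw [g_of_mod (by omega), g_of_mod (by omega), F_four_mul_add_one, F_four_mul_add_two]
  have e : 4 * i + 1 + (4 * j + 2) = 4 * (i + j) + 3 := by ring
  rw [e, g_add_three]
  have h1 := F_mul_le (4 * i) (4 * j)
  have e2' : 4 * i + 4 * j = 4 * (i + j) := by ring
  rw [e2'] at h1
  have h2 := F_pos (4 * (i + j))
  nlinarith

theorem orbit_invariant {α : Type*} (N : Subgroup (Equiv.Perm α)) (ω : α) :
    ∀ σ ∈ N, ∀ x, σ x ∈ MulAction.orbit N ω ↔ x ∈ MulAction.orbit N ω := by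
  intro σ hσ x
  have : σ x = (⟨σ, hσ⟩ : N) • x := rfl
  rw [this, ← MulAction.orbit_eq_iff, ← MulAction.orbit_eq_iff (a := x), MulAction.orbit_smul]

theorem orbit_restr {α : Type*} (N : Subgroup (Equiv.Perm α)) (s : Set α)
    (hs : ∀ σ ∈ N, ∀ x, σ x ∈ s ↔ x ∈ s) (y : ↥s) :
    Subtype.val '' (MulAction.orbit (restr N s hs).range y) = MulAction.orbit N (y : α) := by
  ext z
  constructor
  · rintro ⟨w, ⟨⟨x, ⟨σ, rfl⟩⟩, rfl⟩, rfl⟩
    exact ⟨σ, rfl⟩
  · rintro ⟨σ, rfl⟩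
    exact ⟨restr N s hs σ • y, ⟨⟨restr N s hs σ, ⟨σ, rfl⟩⟩, rfl⟩, rfl⟩

theorem exists_orbit_three : ∀ m : ℕ, ∀ (α : Type) [Finite α], Nat.card α = m → m % 4 = 3 →
    ∀ N : Subgroup (Equiv.Perm α), Group.IsNilpotent N → Nat.card N = g m →
    ∃ ω : α, (MulAction.orbit N ω).ncard = 3 := by
  intro m
  induction m using Nat.strong_induction_on with
  | _ m ih =>
    intro α _ hα hm N hN hcard
    have hne : Nonempty α := by
      by_contra h
      rw [not_nonempty_iff] at h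
      have : Nat.card α = 0 := Nat.card_of_isEmpty
      omega
    obtain ⟨ω⟩ := hne
    by_cases htr : MulAction.orbit N ω = Set.univ
    · have : MulAction.IsPretransitive N α := by
        refine ⟨fun x y => ?_⟩
        have hx : x ∈ MulAction.orbit N ω := by rw [htr]; trivial
        have hy : y ∈ MulAction.orbit N ω := by rw [htr]; trivial
        obtain ⟨a, rfl⟩ := hx
        obtain ⟨b, rfl⟩ := hy
        exact ⟨b * a⁻¹, by simp [mul_smul]⟩
      have : Nonempty α := ⟨ω⟩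
      have hm1 : 1 ≤ m := by omega
      have hk : Nat.card N ≠ 0 := Nat.card_pos.ne'
      have hT := numeric_bound m hm1 (Nat.card N) hk (fun p hp => by
        have := sylow_bound (Γ := N) (α := α) p hp
        rwa [hα] at this)
      have hm3 : m = 3 := by
        by_contra h3
        have := T_lt_g hm h3
        omega
      refine ⟨ω, ?_⟩
      rw [htr, Set.ncard_univ, hα, hm3]
    · set s := MulAction.orbit N ω with hs
      have hinv : ∀ σ ∈ N, ∀ x, σ x ∈ s ↔ x ∈ s := orbit_invariant N ω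
      have hinv' : ∀ σ ∈ N, ∀ x, σ x ∈ sᶜ ↔ x ∈ sᶜ := by
        intro σ hσ x
        simp only [Set.mem_compl_iff, hinv σ hσ x]
      have hcardle := card_le_of_restr N s hinv hinv'
      have hsne : s.Nonempty := ⟨ω, MulAction.mem_orbit_self ω⟩
      have hscne : sᶜ.Nonempty := Set.nonempty_compl.mpr htr
      have hadd : Nat.card s + Nat.card ↥sᶜ = m := by
        rw [Nat.card_coe_set_eq, Nat.card_coe_set_eq, Set.ncard_add_ncard_compl, hα]
      have hs0 : 0 < Nat.card s := by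
        have := hsne.to_subtype
        exact Nat.card_pos
      have hsc0 : 0 < Nat.card ↥sᶜ := by
        have := hscne.to_subtype
        exact Nat.card_pos
      have hn1 : Group.IsNilpotent (restr N s hinv).range :=
        Group.nilpotent_of_surjective (restr N s hinv).rangeRestrict
          (MonoidHom.rangeRestrict_surjective _)
      have hn2 : Group.IsNilpotent (restr N sᶜ hinv').range :=
        Group.nilpotent_of_surjective (restr N sᶜ hinv').rangeRestrict
          (MonoidHom.rangeRestrict_surjective _)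
      have h1 := main (Nat.card s) s rfl (restr N s hinv).range hn1
      have h2 := main (Nat.card ↥sᶜ) ↥sᶜ rfl (restr N sᶜ hinv').range hn2
      have h3 := g_mul_le (Nat.card s) (Nat.card ↥sᶜ)
      rw [hadd] at h3
      have hga := g_pos (Nat.card s)
      have hgb := g_pos (Nat.card ↥sᶜ)
      have hprod : Nat.card (restr N s hinv).range * Nat.card (restr N sᶜ hinv').range =
          g (Nat.card s) * g (Nat.card ↥sᶜ) :=
        le_antisymm (Nat.mul_le_mul h1 h2) (by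
          calc g (Nat.card s) * g (Nat.card ↥sᶜ) ≤ g m := h3
            _ = Nat.card N := hcard.symm
            _ ≤ _ := hcardle)
      have hn1eq : Nat.card (restr N s hinv).range = g (Nat.card s) := by
        by_contra hne
        have hlt := lt_of_le_of_ne h1 hne
        have : Nat.card (restr N s hinv).range * Nat.card (restr N sᶜ hinv').range <
            g (Nat.card s) * g (Nat.card ↥sᶜ) :=
          calc Nat.card (restr N s hinv).range * Nat.card (restr N sᶜ hinv').range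
              ≤ Nat.card (restr N s hinv).range * g (Nat.card ↥sᶜ) := Nat.mul_le_mul_left _ h2
            _ < g (Nat.card s) * g (Nat.card ↥sᶜ) := Nat.mul_lt_mul_of_pos_right hlt hgb
        omega
      have hn2eq : Nat.card (restr N sᶜ hinv').range = g (Nat.card ↥sᶜ) := by
        rw [hn1eq] at hprod
        exact Nat.eq_of_mul_eq_mul_left hga hprod
      have hgeq : g (Nat.card s) * g (Nat.card ↥sᶜ) = g m := by
        apply le_antisymm h3
        rw [← hprod, ← hcard]; exact hcardle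
      by_cases ha3 : Nat.card s % 4 = 3
      · by_cases haa : Nat.card s = 3
        · exact ⟨ω, by rw [← hs, ← Nat.card_coe_set_eq]; exact haa⟩
        · obtain ⟨y, hy⟩ := ih (Nat.card s) (by omega) s rfl ha3 (restr N s hinv).range hn1 hn1eq
          refine ⟨(y : α), ?_⟩
          rw [← orbit_restr N s hinv y, Set.ncard_image_of_injective _ Subtype.val_injective]
          exact hy
      · by_cases hb3 : Nat.card ↥sᶜ % 4 = 3
        · obtain ⟨y, hy⟩ := ih (Nat.card ↥sᶜ) (by omega) ↥sᶜ rfl hb3 (restr N sᶜ hinv').range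
            hn2 hn2eq
          refine ⟨(y : α), ?_⟩
          rw [← orbit_restr N sᶜ hinv' y, Set.ncard_image_of_injective _ Subtype.val_injective]
          exact hy
        · exfalso
          have hab : (Nat.card s % 4 = 1 ∧ Nat.card ↥sᶜ % 4 = 2) ∨
              (Nat.card s % 4 = 2 ∧ Nat.card ↥sᶜ % 4 = 1) := by omega
          rcases hab with ⟨h1', h2'⟩ | ⟨h1', h2'⟩
          · have := g_mul_lt h1' h2'
            rw [hadd] at this
            omega
          · have := g_mul_lt h2' h1'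
            rw [add_comm, hadd, mul_comm] at this
            omega


theorem structure_of_three {α : Type} [Fintype α] [DecidableEq α] (N : Subgroup (Equiv.Perm α))
    (hN : Group.IsNilpotent N) (s : Set α) [DecidablePred (· ∈ s)]
    (hinv : ∀ σ ∈ N, ∀ x, σ x ∈ s ↔ x ∈ s) (hs3 : s.ncard = 3) (hm : Nat.card α % 4 = 3)
    (hcard : Nat.card N = g (Nat.card α)) :
    ∃ (A : Subgroup (Equiv.Perm {x // x ∈ s})) (Q : Subgroup (Equiv.Perm {x // ¬ x ∈ s})),
      Nat.card A = 3 ∧ Nat.card Q = F (Nat.card α - 3) ∧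
      N = (A.prod Q).map (Equiv.Perm.subtypeCongrHom (· ∈ s)) := by
  have hinv' : ∀ σ ∈ N, ∀ x, ¬ σ x ∈ s ↔ ¬ x ∈ s := fun σ hσ x => not_congr (hinv σ hσ x)
  set ρ₁ := restrP N (· ∈ s) hinv with hρ₁
  set ρ₂ := restrP N (fun x => ¬ x ∈ s) hinv' with hρ₂
  have hc1 : Nat.card {x // x ∈ s} = 3 := by rw [← hs3]; exact Nat.card_coe_set_eq s
  have hc2 : Nat.card {x // ¬ x ∈ s} = Nat.card α - 3 := by
    rw [← hc1, Nat.card_eq_fintype_card, Nat.card_eq_fintype_card, Nat.card_eq_fintype_card,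
      Fintype.card_subtype_compl]
  have hn1 : Group.IsNilpotent ρ₁.range :=
    Group.nilpotent_of_surjective ρ₁.rangeRestrict (MonoidHom.rangeRestrict_surjective _)
  have hn2 : Group.IsNilpotent ρ₂.range :=
    Group.nilpotent_of_surjective ρ₂.rangeRestrict (MonoidHom.rangeRestrict_surjective _)
  have h1 := main _ {x // x ∈ s} hc1 ρ₁.range hn1
  have h2 := main _ {x // ¬ x ∈ s} hc2 ρ₂.range hn2
  have hg3 : g 3 = 3 := by unfold g; simp [F_zero]
  obtain ⟨j, hj⟩ : ∃ j, Nat.card α = 4 * j + 3 := ⟨Nat.card α / 4, by omega⟩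
  have hgm : g (Nat.card α) = 3 * F (4 * j) := by rw [hj, g_add_three]
  have hsub : Nat.card α - 3 = 4 * j := by omega
  have hg2 : g (Nat.card α - 3) = F (4 * j) := by rw [hsub]; exact g_of_mod (by omega)
  have hle : N ≤ (ρ₁.range.prod ρ₂.range).map (Equiv.Perm.subtypeCongrHom (· ∈ s)) := by
    intro σ hσ
    refine ⟨(ρ₁ ⟨σ, hσ⟩, ρ₂ ⟨σ, hσ⟩), ⟨⟨⟨σ, hσ⟩, rfl⟩, ⟨⟨σ, hσ⟩, rfl⟩⟩, ?_⟩
    ext x
    by_cases hx : x ∈ s
    · rw [Equiv.Perm.subtypeCongrHom_apply, Equiv.Perm.subtypeCongr.left_apply _ _ hx]; rfl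
    · rw [Equiv.Perm.subtypeCongrHom_apply, Equiv.Perm.subtypeCongr.right_apply _ _ hx]; rfl
  have hcardmap : Nat.card ((ρ₁.range.prod ρ₂.range).map (Equiv.Perm.subtypeCongrHom (· ∈ s))) =
      Nat.card ρ₁.range * Nat.card ρ₂.range := by
    rw [Nat.card_congr ((ρ₁.range.prod ρ₂.range).equivMapOfInjective _
      (Equiv.Perm.subtypeCongrHom_injective _)).toEquiv.symm,
      Nat.card_congr (Subgroup.prodEquiv _ _).toEquiv, Nat.card_prod]
  have hNle : Nat.card N ≤ Nat.card ρ₁.range * Nat.card ρ₂.range := by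
    rw [← hcardmap]; exact Subgroup.card_le_of_le hle
  have hF := F_pos (4 * j)
  rw [hg3] at h1
  rw [hg2] at h2
  rw [hcard, hgm] at hNle
  have hA : Nat.card ρ₁.range = 3 := by
    by_contra hne
    have h' : Nat.card ρ₁.range ≤ 2 := by omega
    have := Nat.mul_le_mul h' h2
    omega
  have hQ : Nat.card ρ₂.range = F (4 * j) := by
    rw [hA] at hNle
    omega
  refine ⟨ρ₁.range, ρ₂.range, hA, by rw [hQ, hsub], ?_⟩
  exact Subgroup.eq_of_le_of_card_ge hle (by rw [hcardmap, hA, hQ, hcard, hgm])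

theorem eq_of_card_three {Γ : Type*} [Group Γ] [Finite Γ] (h6 : Nat.card Γ = 6) (A B : Subgroup Γ)
    (hA : Nat.card A = 3) (hB : Nat.card B = 3) : A = B := by
  have : Fact (Nat.Prime 3) := ⟨Nat.prime_three⟩
  have hfac : (Nat.card Γ).factorization 3 = 1 := by
    rw [h6, show (6 : ℕ) = 3 * 2 from rfl, Nat.factorization_mul (by norm_num) (by norm_num)]
    simp [Nat.prime_three.factorization_self,
      Nat.factorization_eq_zero_of_not_dvd (by norm_num : ¬ 3 ∣ 2)]
  have hAn : A.Normal := by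
    apply Subgroup.normal_of_index_eq_two
    have := Subgroup.card_mul_index A
    rw [hA, h6] at this
    omega
  have hSA : Nat.card A = 3 ^ (Nat.card Γ).factorization 3 := by rw [hA, hfac, pow_one]
  have hSB : Nat.card B = 3 ^ (Nat.card Γ).factorization 3 := by rw [hB, hfac, pow_one]
  obtain ⟨g, hg⟩ := MulAction.exists_smul_eq Γ (Sylow.ofCard A hSA) (Sylow.ofCard B hSB)
  have hnorm : ((Sylow.ofCard A hSA : Sylow 3 Γ) : Subgroup Γ).Normal := by
    rw [Sylow.coe_ofCard]; exact hAn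
  have h1 : g • Sylow.ofCard A hSA = Sylow.ofCard A hSA := Sylow.smul_eq_of_normal
  rw [h1] at hg
  have := congrArg (fun S : Sylow 3 Γ => (S : Subgroup Γ)) hg
  simpa using this

theorem conj_invariant {α : Type*} (N : Subgroup (Equiv.Perm α)) (γ : Equiv.Perm α)
    (s₁ s₂ : Set α) (hγ : ∀ x, γ x ∈ s₂ ↔ x ∈ s₁)
    (hinv : ∀ σ ∈ N, ∀ x, σ x ∈ s₁ ↔ x ∈ s₁) :
    ∀ σ ∈ N.map (MulAut.conj γ).toMonoidHom, ∀ x, σ x ∈ s₂ ↔ x ∈ s₂ := by
  rintro _ ⟨σ, hσ, rfl⟩ x
  simp only [MulEquiv.coe_toMonoidHom, MulAut.conj_apply, Equiv.Perm.coe_mul,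
    Function.comp_apply]
  rw [hγ, hinv σ hσ, ← hγ]
  simp

theorem conj_extremal {α : Type} [Fintype α] [DecidableEq α] (hm : Nat.card α % 4 = 3)
    (N₁ N₂ : Subgroup (Equiv.Perm α)) (h1 : Group.IsNilpotent N₁) (h2 : Group.IsNilpotent N₂)
    (hc1 : Nat.card N₁ = g (Nat.card α)) (hc2 : Nat.card N₂ = g (Nat.card α)) :
    ∃ γ : Equiv.Perm α, N₂ = N₁.map (MulAut.conj γ).toMonoidHom := by
  classical
  obtain ⟨ω₁, hω₁⟩ := exists_orbit_three _ α rfl hm N₁ h1 hc1
  obtain ⟨ω₂, hω₂⟩ := exists_orbit_three _ α rfl hm N₂ h2 hc2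
  set s₁ := MulAction.orbit N₁ ω₁ with hs₁
  set s₂ := MulAction.orbit N₂ ω₂ with hs₂
  have hinv₁ : ∀ σ ∈ N₁, ∀ x, σ x ∈ s₁ ↔ x ∈ s₁ := orbit_invariant N₁ ω₁
  have hinv₂ : ∀ σ ∈ N₂, ∀ x, σ x ∈ s₂ ↔ x ∈ s₂ := orbit_invariant N₂ ω₂
  have hcard12 : Nat.card {x // x ∈ s₁} = Nat.card {x // x ∈ s₂} := by
    have e1 : Nat.card {x // x ∈ s₁} = s₁.ncard := Nat.card_coe_set_eq s₁
    have e2 : Nat.card {x // x ∈ s₂} = s₂.ncard := Nat.card_coe_set_eq s₂
    rw [e1, e2, hω₁, hω₂]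
  obtain ⟨e⟩ : Nonempty ({x // x ∈ s₁} ≃ {x // x ∈ s₂}) := Finite.card_eq.mp hcard12
  set γ : Equiv.Perm α := e.extendSubtype with hγdef
  have hγ : ∀ x, γ x ∈ s₂ ↔ x ∈ s₁ := by
    intro x
    constructor
    · intro h
      by_contra hx
      exact e.extendSubtype_not_mem x hx h
    · intro hx
      exact e.extendSubtype_mem x hx
  set N₁' := N₁.map (MulAut.conj γ).toMonoidHom with hN₁'def
  have hinv₁' := conj_invariant N₁ γ s₁ s₂ hγ hinv₁
  have hN₁'nil : Group.IsNilpotent N₁' :=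
    Group.nilpotent_of_mulEquiv (N₁.equivMapOfInjective _ (MulEquiv.injective _))
  have hN₁'card : Nat.card N₁' = g (Nat.card α) := by
    rw [← hc1]
    exact Nat.card_congr (N₁.equivMapOfInjective _ (MulEquiv.injective _)).toEquiv.symm
  obtain ⟨A₁, Q₁, hA₁, hQ₁, hN₁'⟩ := structure_of_three N₁' hN₁'nil s₂ hinv₁' hω₂ hm hN₁'card
  obtain ⟨A₂, Q₂, hA₂, hQ₂, hN₂⟩ := structure_of_three N₂ h2 s₂ hinv₂ hω₂ hm hc2
  have hc3 : Nat.card {x // x ∈ s₂} = 3 := by rw [← hω₂]; exact Nat.card_coe_set_eq s₂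
  have hP6 : Nat.card (Equiv.Perm {x // x ∈ s₂}) = 6 := by
    rw [Nat.card_perm, hc3]; rfl
  have hA : A₁ = A₂ := eq_of_card_three hP6 A₁ A₂ hA₁ hA₂
  have : Fact (Nat.Prime 2) := ⟨Nat.prime_two⟩
  have hcc : Nat.card {x // ¬ x ∈ s₂} = Nat.card α - 3 := by
    rw [← hc3, Nat.card_eq_fintype_card, Nat.card_eq_fintype_card, Nat.card_eq_fintype_card,
      Fintype.card_subtype_compl]
  have hfac : (Nat.card (Equiv.Perm {x // ¬ x ∈ s₂})).factorization 2 = e2 (Nat.card α - 3) := by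
    rw [Nat.card_perm, hcc]; rfl
  have hSQ₁ : Nat.card Q₁ = 2 ^ (Nat.card (Equiv.Perm {x // ¬ x ∈ s₂})).factorization 2 := by
    rw [hQ₁, hfac]; rfl
  have hSQ₂ : Nat.card Q₂ = 2 ^ (Nat.card (Equiv.Perm {x // ¬ x ∈ s₂})).factorization 2 := by
    rw [hQ₂, hfac]; rfl
  obtain ⟨τ', hτ'⟩ := MulAction.exists_smul_eq (Equiv.Perm {x // ¬ x ∈ s₂})
    (Sylow.ofCard Q₁ hSQ₁) (Sylow.ofCard Q₂ hSQ₂)
  have hQ : ∀ q ∈ Q₁, τ' * q * τ'⁻¹ ∈ Q₂ := by
    intro q hq
    have hmem : τ' * q * τ'⁻¹ ∈ ((τ' • Sylow.ofCard Q₁ hSQ₁ : Sylow 2 _) : Subgroup _) := by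
      rw [Sylow.coe_subgroup_smul, Subgroup.mem_smul_pointwise_iff_exists]
      exact ⟨q, by simpa using hq, by simp [MulAut.smul_def]⟩
    rw [hτ'] at hmem
    simpa using hmem
  set τ : Equiv.Perm α := Equiv.Perm.subtypeCongrHom (· ∈ s₂) (1, τ') with hτdef
  refine ⟨τ * γ, ?_⟩
  have hmapmap : N₁.map (MulAut.conj (τ * γ)).toMonoidHom =
      N₁'.map (MulAut.conj τ).toMonoidHom := by
    rw [hN₁'def, Subgroup.map_map]
    congr 1
  rw [hmapmap]
  symm
  apply Subgroup.eq_of_le_of_card_ge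
  · rintro _ ⟨y, hy, rfl⟩
    rw [hN₁'] at hy
    obtain ⟨⟨a, q⟩, ⟨ha, hq⟩, rfl⟩ := hy
    rw [hN₂]
    refine ⟨(a, τ' * q * τ'⁻¹), ⟨hA ▸ ha, hQ q hq⟩, ?_⟩
    show Equiv.Perm.subtypeCongrHom (· ∈ s₂) (a, τ' * q * τ'⁻¹) =
      τ * Equiv.Perm.subtypeCongrHom (· ∈ s₂) (a, q) * τ⁻¹
    rw [hτdef, ← map_inv, ← map_mul, ← map_mul]
    congr 1
  · rw [hc2, ← hN₁'card]
    exact (Nat.card_congr (N₁'.equivMapOfInjective _ (MulEquiv.injective _)).toEquiv).le

/-- Let n ≡ 3 (mod 4). Then every nilpotent subgroup of the symmetric group on n letters has order at most 3 times the order of a Sylow 2-subgroup of the symmetric group on n − 3 letters; the bound is attained by a nilpotent subgroup isomorphic to the direct product of such a Sylow 2-subgroup with a cyclic group of order 3; and any two nilpotent subgroups attaining the bound are conjugate. -/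
theorem result  (n : ℕ) (hn : n % 4 = 3)
    (P : Sylow 2 (Equiv.Perm (Fin (n - 3)))) :
    (∀ N : Subgroup (Equiv.Perm (Fin n)), Group.IsNilpotent N → Nat.card N ≤ 3 * Nat.card P) ∧
    (∃ M : Subgroup (Equiv.Perm (Fin n)), Group.IsNilpotent M ∧ Nat.card M = 3 * Nat.card P ∧
      Nonempty (M ≃* (↥(P : Subgroup (Equiv.Perm (Fin (n - 3)))) × Multiplicative (ZMod 3)))) ∧
    (∀ N₁ N₂ : Subgroup (Equiv.Perm (Fin n)), Group.IsNilpotent N₁ → Group.IsNilpotent N₂ →
      Nat.card N₁ = 3 * Nat.card P → Nat.card N₂ = 3 * Nat.card P →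
      ∃ g : Equiv.Perm (Fin n), N₂ = N₁.map (MulAut.conj g).toMonoidHom) := by
  have : Fact (Nat.Prime 2) := ⟨Nat.prime_two⟩
  have hP : Nat.card P = F (n - 3) := by
    rw [Sylow.card_eq_multiplicity P, Nat.card_perm, Nat.card_fin]; rfl
  have hg : g n = 3 * Nat.card P := by
    unfold g; rw [if_pos hn, hP]
  refine ⟨?_, ?_, ?_⟩
  · intro N hN
    rw [← hg]; exact main n (Fin n) (Nat.card_fin n) N hN
  · let e : Fin (n - 3) ⊕ Fin 3 ≃ Fin n := finSumFinEquiv.trans (finCongr (by omega))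
    let ι : Equiv.Perm (Fin (n - 3)) × Equiv.Perm (Fin 3) →* Equiv.Perm (Fin n) :=
      e.permCongrHom.toMonoidHom.comp (Equiv.Perm.sumCongrHom _ _)
    have hι : Function.Injective ι :=
      (e.permCongrHom.injective).comp Equiv.Perm.sumCongrHom_injective
    have h3 : 3 ∣ Nat.card (Equiv.Perm (Fin 3)) := by
      rw [Nat.card_perm, Nat.card_fin]; decide
    have : Fact (Nat.Prime 3) := ⟨Nat.prime_three⟩
    obtain ⟨c, hc⟩ := exists_prime_orderOf_dvd_card' 3 h3
    have hC : Nat.card (Subgroup.zpowers c) = 3 := by rw [Nat.card_zpowers, hc]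
    have hZ : Nat.card (Multiplicative (ZMod 3)) = 3 := by
      rw [Nat.card_eq_fintype_card, Fintype.card_multiplicative, ZMod.card]
    let eM : ((P : Subgroup (Equiv.Perm (Fin (n - 3)))).prod (Subgroup.zpowers c)).map ι ≃*
        (↥(P : Subgroup (Equiv.Perm (Fin (n - 3)))) × Multiplicative (ZMod 3)) :=
      (((P : Subgroup (Equiv.Perm (Fin (n - 3)))).prod
        (Subgroup.zpowers c)).equivMapOfInjective ι hι).symm.trans
        ((Subgroup.prodEquiv _ _).trans
          (MulEquiv.prodCongr (MulEquiv.refl _) (mulEquivOfPrimeCardEq (p := 3) hC hZ)))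
    refine ⟨_, ?_, ?_, ⟨eM⟩⟩
    · have : Group.IsNilpotent (P : Subgroup (Equiv.Perm (Fin (n - 3)))) :=
        P.isPGroup'.isNilpotent
      exact Group.nilpotent_of_mulEquiv eM.symm
    · rw [Nat.card_congr eM.toEquiv, Nat.card_prod, hZ]; ring
  · intro N₁ N₂ h1 h2 hc1 hc2
    have hm : Nat.card (Fin n) % 4 = 3 := by rw [Nat.card_fin]; exact hn
    exact conj_extremal hm N₁ N₂ h1 h2 (by rw [hc1, Nat.card_fin, hg])
      (by rw [hc2, Nat.card_fin, hg])

end Cfsg.Agent.S2254
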