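import Mathlib
import Cfsg.Statements.S0064

set_option autoImplicit false
open Cfsg

namespace Cfsg.Agent.S0064

theorem subnormal_of_nc {G : Type*} [Group G] [Finite G] (hnc : NormalizerCondition G) :
    ∀ (n : ℕ) (H : Subgroup G), Nat.card G - Nat.card H = n → H.IsSubnormal := by
  intro n
  induction n using Nat.strong_induction_on with
  | _ n ih =>
    intro H hH
    by_cases htop : H = ⊤
    · subst htop; exact Subgroup.IsSubnormal.top
    · have hlt : H < Subgroup.normalizer (H : Set G) := hnc H (lt_top_iff_ne_top.mpr htop)
      have hcard : Nat.card H < Nat.card (Subgroup.normalizer (H : Set G)) :=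
        Set.Finite.card_lt_card (Set.toFinite _) hlt
      have hle : Nat.card (Subgroup.normalizer (H : Set G)) ≤ Nat.card G :=
        Subgroup.card_le_card_group _
      have hsub := ih (Nat.card G - Nat.card (Subgroup.normalizer (H : Set G))) (by omega)
        (Subgroup.normalizer (H : Set G)) rfl
      exact Subgroup.IsSubnormal.step H _ Subgroup.le_normalizer hsub Subgroup.normal_in_normalizer

/-- A finite group is nilpotent exactly when each of its subgroups is subnormal. -/
theorem result {G : Type*} [Group G] [Finite G] :
    Group.IsNilpotent G ↔ ∀ H : Subgroup G, H.IsSubnormal := by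
  constructor
  · intro h H
    exact subnormal_of_nc Group.normalizerCondition_of_isNilpotent _ H rfl
  · intro h
    apply (Group.isNilpotent_of_finite_tfae (G := G)).out 1 0 rfl rfl |>.mp
    intro H hH
    rcases Subgroup.IsSubnormal.iff_eq_top_or_exists.mp (h H) with htop | ⟨K, hK, -, hN⟩
    · exact absurd htop hH.ne
    · exact lt_of_lt_of_le hK ((Subgroup.normal_subgroupOf_iff_le_normalizer hK.le).mp hN)

end Cfsg.Agent.S0064
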