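import Cfsg.Statements.S0066
-- import your own Cfsg.Agent.* helpers here
import Mathlib
import Cfsg.Agent.Lib.Helper9.Subnormal2

set_option autoImplicit false
open Pointwise
open Cfsg

namespace Cfsg.Agent.S0066

section aux
open Subgroup
open Cfsg.Agent.Lib.Helper9

/-- relative subnormality of `A` in `V`, both subgroups of the ambient group. -/
def RelSN {G : Type*} [Group G] (A V : Subgroup G) : Prop :=
  A ≤ V ∧ (A.subgroupOf V).IsSubnormal

theorem relSN_refl {G : Type*} [Group G] (V : Subgroup G) : RelSN V V :=
  ⟨le_rfl, by rw [subgroupOf_self]; exact IsSubnormal.top⟩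

theorem relSN_step {G : Type*} [Group G] {A B V : Subgroup G} (hAB : A ≤ B)
    (hn : B ≤ normalizer (A : Set G)) (hB : RelSN B V) : RelSN A V := by
  refine ⟨hAB.trans hB.1, IsSubnormal.step _ (B.subgroupOf V) ?_ hB.2 ?_⟩
  · intro x hx
    exact hAB hx
  · refine ⟨fun n hn' g => ?_⟩
    have hg : ((g : V) : G) ∈ normalizer (A : Set G) := hn g.2
    have hn'' : ((n : V) : G) ∈ A := hn'
    show ((g : V) : G) * ((n : V) : G) * ((g : V) : G)⁻¹ ∈ A
    exact (mem_normalizer_iff.mp hg _).mp hn''

theorem relSN_of_chain {G : Type*} [Group G] (F : ℕ → Subgroup G) (V : Subgroup G)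
    (hmono : Monotone F) (hnorm : ∀ i, F (i + 1) ≤ normalizer (F i : Set G)) (n : ℕ)
    (hn : RelSN (F n) V) : RelSN (F 0) V := by
  have key : ∀ k, k ≤ n → RelSN (F (n - k)) V := by
    intro k
    induction k with
    | zero => intro _; simpa using hn
    | succ k ih =>
      intro hk
      have h1 := ih (by omega)
      have h2 : n - k = (n - (k + 1)) + 1 := by omega
      refine relSN_step (hmono (by omega)) ?_ h1
      rw [h2]
      exact hnorm _
  simpa using key n le_rfl

theorem relSN_trans {G : Type*} [Group G] {A K V : Subgroup G} (h1 : RelSN A K)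
    (h2 : RelSN K V) : RelSN A V := by
  obtain ⟨n, F, hF0, hFn, hmono, hnorm, -⟩ := exists_chain_of_subgroupOf_isSubnormal h1.1 h1.2
  have := relSN_of_chain F V hmono hnorm n (by rw [hFn]; exact h2)
  rwa [hF0] at this

theorem relSN_conj {G : Type*} [Group G] {A V : Subgroup G} (g : G) (h1 : RelSN A V) :
    RelSN (MulAut.conj g • A) (MulAut.conj g • V) := by
  obtain ⟨n, F, hF0, hFn, hmono, hnorm, -⟩ := exists_chain_of_subgroupOf_isSubnormal h1.1 h1.2
  have := relSN_of_chain (fun i => MulAut.conj g • F i) (MulAut.conj g • V)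
    (fun i j hij => pointwise_smul_le_pointwise_smul_iff.mpr (hmono hij)) ?_ n
    (by simp only [hFn]; exact relSN_refl _)
  · simpa only [hF0] using this
  · intro i
    have h2 : MulAut.conj g • F (i + 1) ≤ MulAut.conj g • normalizer (F i : Set G) :=
      pointwise_smul_le_pointwise_smul_iff.mpr (hnorm i)
    refine h2.trans (le_of_eq ?_)
    exact map_equiv_normalizer_eq (F i) (MulAut.conj g)

theorem relSN_sup {G : Type*} [Group G] [Finite G] {A B V : Subgroup G} (h1 : RelSN A V)
    (h2 : RelSN B V) : RelSN (A ⊔ B) V := by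
  refine ⟨sup_le h1.1 h2.1, ?_⟩
  rw [subgroupOf_sup h1.1 h2.1]
  exact isSubnormal_sup h1.2 h2.2

theorem card_lt_of_lt {G : Type*} [Group G] [Finite G] {S T : Subgroup G} (h : S < T) :
    Nat.card S < Nat.card T :=
  Set.Finite.card_lt_card (Set.toFinite _) (SetLike.coe_ssubset_coe.mpr h)

theorem mem_normalizer_of_conj_le {G : Type*} [Group G] [Finite G] {S : Subgroup G} {x : G}
    (h : MulAut.conj x • S ≤ S) : x ∈ normalizer (S : Set G) := by
  apply mem_normalizer_iff_map_conj_eq.mpr
  have hc : Nat.card (MulAut.conj x • S : Subgroup G) = Nat.card S :=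
    Subgroup.card_map_of_injective (MulAut.conj x).injective
  exact eq_of_le_of_card_ge h hc.ge

theorem zipper {G : Type*} [Group G] [Finite G] (H : Subgroup G) :
    ∀ (n : ℕ) (S : Subgroup G), Nat.card H - Nat.card S = n → S ≤ H →
      (∀ K, S ≤ K → K < H → RelSN S K) → ¬ RelSN S H →
      ∃ M, M < H ∧ ∀ K, S ≤ K → K < H → K ≤ M := by
  intro n
  induction n using Nat.strong_induction_on with
  | _ n ih =>
    intro S hn hSH hprop hnot
    have hNlt : normalizer (S : Set G) ⊓ H < H := by
      refine lt_of_le_of_ne inf_le_right ?_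
      intro heq
      apply hnot
      have : H ≤ normalizer (S : Set G) := by rw [← heq]; exact inf_le_left
      exact relSN_step hSH this (relSN_refl H)
    obtain ⟨M, hNM, hMmax⟩ := Finite.exists_le_maximal (p := fun K : Subgroup G => K < H) hNlt
    refine ⟨M, hMmax.prop, ?_⟩
    have key : ∀ K, S ≤ K → Maximal (fun K : Subgroup G => K < H) K → K ≤ M := by
      intro K hSK hKmax
      have hKH : K < H := hKmax.prop
      have hSsnK := hprop K hSK hKH
      by_cases hKn : K ≤ normalizer (S : Set G)
      · exact (le_inf hKn hKH.le).trans hNM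
      · obtain ⟨m, F, hF0, hFm, hmono, hnorm, hFV⟩ :=
          exists_chain_of_subgroupOf_isSubnormal hSsnK.1 hSsnK.2
        have hex : ∃ i, ¬ F i ≤ normalizer (S : Set G) := ⟨m, by rw [hFm]; exact hKn⟩
        classical
        have hi : ¬ F (Nat.find hex) ≤ normalizer (S : Set G) := Nat.find_spec hex
        have hi0 : Nat.find hex ≠ 0 := by
          intro h0
          apply hi; rw [h0, hF0]; exact le_normalizer
        obtain ⟨j, hj⟩ : ∃ j, Nat.find hex = j + 1 := Nat.exists_eq_succ_of_ne_zero hi0
        have hjn : F j ≤ normalizer (S : Set G) := by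
          by_contra hc
          have := Nat.find_min' hex hc
          omega
        rw [hj] at hi
        obtain ⟨x, hx, hxn⟩ := SetLike.not_le_iff_exists.mp hi
        have hxK : x ∈ K := hFV (j+1) hx
        have hxH : x ∈ H := hKH.le hxK
        have hSFj : S ≤ F j := by rw [← hF0]; exact hmono (Nat.zero_le j)
        have hxS : MulAut.conj x • S ≤ F j := by
          have h1 : MulAut.conj x • F j = F j := conj_smul_eq_of_mem_normalizer (hnorm j hx)
          rw [← h1]
          exact pointwise_smul_le_pointwise_smul_iff.mpr hSFj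
        have hTFj : S ⊔ MulAut.conj x • S ≤ F j := sup_le hSFj hxS
        have hTn : S ⊔ MulAut.conj x • S ≤ normalizer (S : Set G) := hTFj.trans hjn
        have hTK : S ⊔ MulAut.conj x • S ≤ K := hTFj.trans (hFV j)
        have hTM : S ⊔ MulAut.conj x • S ≤ M := (le_inf hTn (hTK.trans hKH.le)).trans hNM
        have hST : S ≤ S ⊔ MulAut.conj x • S := le_sup_left
        have hSltT : S < S ⊔ MulAut.conj x • S := by
          refine lt_of_le_of_ne hST ?_
          intro heq
          apply hxn
          apply mem_normalizer_of_conj_le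
          calc MulAut.conj x • S ≤ S ⊔ MulAut.conj x • S := le_sup_right
            _ = S := heq.symm
        have hT1 : ∀ L, S ⊔ MulAut.conj x • S ≤ L → L < H → RelSN (S ⊔ MulAut.conj x • S) L := by
          intro L hTL hLH
          have hSL : RelSN S L := hprop L (hST.trans hTL) hLH
          have hxSL : MulAut.conj x • S ≤ L := le_sup_right.trans hTL
          have hH' : MulAut.conj x⁻¹ • H = H :=
            conj_smul_eq_of_mem_normalizer (le_normalizer (inv_mem hxH))
          have hS' : S ≤ MulAut.conj x⁻¹ • L := by
            have := pointwise_smul_le_pointwise_smul_iff (a := MulAut.conj x⁻¹) |>.mpr hxSL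
            rwa [conj_smul_conj_smul, inv_mul_cancel, map_one, one_smul] at this
          have hL' : MulAut.conj x⁻¹ • L < H := by
            rw [← hH']
            exact lt_of_le_of_ne (pointwise_smul_le_pointwise_smul_iff.mpr hLH.le)
              (fun h => hLH.ne (smul_left_cancel _ h))
          have h3 := relSN_conj x (hprop _ hS' hL')
          rw [conj_smul_conj_smul, mul_inv_cancel, map_one, one_smul] at h3
          exact relSN_sup hSL h3
        have hT2 : ¬ RelSN (S ⊔ MulAut.conj x • S) H := by
          intro hT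
          exact hnot (relSN_trans (relSN_step hST hTn (relSN_refl _)) hT)
        have hcard : Nat.card H - Nat.card (S ⊔ MulAut.conj x • S : Subgroup G) < n := by
          have h1 := card_lt_of_lt hSltT
          have h2 : Nat.card (S ⊔ MulAut.conj x • S : Subgroup G) ≤ Nat.card H :=
            Subgroup.card_le_of_le (hTK.trans hKH.le)
          omega
        obtain ⟨M', hM'H, hM'⟩ := ih _ hcard _ rfl (hTK.trans hKH.le) hT1 hT2
        have h1 : M ≤ M' := hM' M hTM hMmax.prop
        have h2 : K ≤ M' := hM' K hTK hKH
        exact h2.trans (hMmax.le_of_ge hM'H h1)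
    intro K hSK hKH
    obtain ⟨K', hKK', hK'max⟩ := Finite.exists_le_maximal (p := fun K : Subgroup G => K < H) hKH
    exact hKK'.trans (key K' (hSK.trans hKK') hK'max)

theorem main_rel {G : Type*} [Group G] [Finite G] (A : Subgroup G)
    (h : ∀ g : G, (A.subgroupOf (A ⊔ MulAut.conj g • A)).IsSubnormal) :
    ∀ (n : ℕ) (H : Subgroup G), Nat.card H = n → A ≤ H → RelSN A H := by
  intro n
  induction n using Nat.strong_induction_on with
  | _ n ih =>
    intro H hn hAH
    by_contra hnot
    have hprop : ∀ K, A ≤ K → K < H → RelSN A K := fun K hAK hKH =>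
      ih (Nat.card K) (by rw [← hn]; exact card_lt_of_lt hKH) K rfl hAK
    obtain ⟨M, hMH, hM⟩ := zipper H _ A rfl hAH hprop hnot
    have hconj : ∀ g ∈ H, MulAut.conj g • A ≤ M := by
      intro g hg
      have hgA : MulAut.conj g • A ≤ H := by
        have h1 : MulAut.conj g • H = H := conj_smul_eq_of_mem_normalizer (le_normalizer hg)
        rw [← h1]
        exact pointwise_smul_le_pointwise_smul_iff.mpr hAH
      have hle : A ⊔ MulAut.conj g • A ≤ H := sup_le hAH hgA
      have hlt : A ⊔ MulAut.conj g • A < H := by
        refine lt_of_le_of_ne hle ?_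
        intro heq
        apply hnot
        refine ⟨hAH, ?_⟩
        have := h g
        rw [heq] at this
        exact this
      exact le_sup_right.trans (hM _ le_sup_left hlt)
    have hNM : (⨆ c : H, MulAut.conj (c : G) • A) ≤ M := iSup_le fun c => hconj c c.2
    have hAN : A ≤ ⨆ c : H, MulAut.conj (c : G) • A := by
      have := le_iSup (fun c : H => MulAut.conj (c : G) • A) 1
      simpa using this
    have hNH : (⨆ c : H, MulAut.conj (c : G) • A) < H := lt_of_le_of_lt hNM hMH
    have hHn : H ≤ normalizer ((⨆ c : H, MulAut.conj (c : G) • A : Subgroup G) : Set G) := by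
      intro b hb
      exact mem_normalizer_iff_map_conj_eq.mpr (conj_smul_iSup_conj A H b hb)
    exact hnot (relSN_trans (hprop _ hAN hNH) (relSN_step hNH.le hHn (relSN_refl H)))

theorem main_aux {G : Type*} [Group G] [Finite G] (A : Subgroup G)
    (h : ∀ g : G, (A.subgroupOf (A ⊔ MulAut.conj g • A)).IsSubnormal) : A.IsSubnormal := by
  have h1 := main_rel A h _ ⊤ rfl le_top
  exact IsSubnormal.trans le_top h1.2 IsSubnormal.top

end aux

/-- Wielandt's subnormality criterion: a subgroup that is subnormal in its join with each of its conjugates is subnormal in the whole finite group. -/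
theorem result {G : Type*} [Group G] [Finite G] (A : Subgroup G)
    (h : ∀ g : G, (A.subgroupOf (A ⊔ MulAut.conj g • A)).IsSubnormal) : A.IsSubnormal := by
  exact main_aux A h

end Cfsg.Agent.S0066
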