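import Mathlib
import Cfsg.Statements.S0109
import Cfsg.Agent.Lib.Helper2.ThompsonFact
import Cfsg.Agent.Lib.Helper11.PSolvStable
import Cfsg.Agent.Lib.Helper79.SolvPSolv
import Cfsg.Agent.Lib.Helper55.Cores

set_option autoImplicit false
open Cfsg

namespace Cfsg.Agent.S0109

open Cfsg.Agent.Lib.Helper11 Cfsg.Agent.Lib.Helper2.TF

/-- The Thompson factorization Theorem for solvable groups states that, with p odd (and abelian Sylow 2-subgroups when p = 3) and no nontrivial normal subgroup of order prime to p, every element of G is a product of an element normalizing J(P) and an element centralizing the elements of order dividing p in the centre of P. -/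
theorem result {G : Type*} [Group G] [Finite G] {p : ℕ} [Fact p.Prime] (hp : p ≠ 2) (hs : Group.IsSolvable G) (h3 : p = 3 → ∀ T : Sylow 2 G, IsMulCommutative T) (hF : ∀ N : Subgroup G, N.Normal → Nat.Coprime (Nat.card N) p → N = ⊥) (P : Sylow p G) (g : G) : ∃ a ∈ Subgroup.normalizer (Cfsg.thompsonSubgroupOf p (P : Subgroup G) : Set G), ∃ c ∈ Subgroup.centralizer {x : G | x ∈ (P : Subgroup G) ∧ (∀ y ∈ (P : Subgroup G), x * y = y * x) ∧ x ^ p = 1}, g = a * c := by
  have hpp : p.Prime := Fact.out
  have hc : Subgroup.centralizer (Cfsg.pCore p G : Set G) ≤ Cfsg.pCore p G :=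
    Cfsg.Agent.Lib.Helper55.centralizer_pCore_le hF
  have hns : NoSL2 p (⊤ : Subgroup G) := by
    by_cases h3' : p = 3
    · exact noSL2_of_twoAb hp (twoAb_of_forall_sylow (h3 h3'))
    · have h5 : 5 ≤ p := by
        have h2 := hpp.two_le
        by_contra hlt
        have h4 : p = 4 := by omega
        rw [h4] at hpp
        exact absurd hpp (by decide)
      exact noSL2_of_isPSolvable h5 (Cfsg.Agent.Lib.Helper79.isPSolvable_of_isSolvable p hs)
  exact thompson_factorization hp hc hns P g

end Cfsg.Agent.S0109
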