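import Cfsg.Statements.S0112
import Mathlib
import Cfsg.Agent.Lib.Helper73.Suzuki

set_option autoImplicit false
open Cfsg

namespace Cfsg.Agent.S0112

open Cfsg.Agent.Lib.Helper73 in
/-- If a finite p-group X of order p^n contains a subgroup A of order p^2 with C_X(A) = A, then X has nilpotency class n - 1 (maximal class). -/
theorem result {X : Type*} [Group X] [Finite X] {p : ℕ} [Fact p.Prime] (n : ℕ) (hX : Nat.card X = p ^ n) (A : Subgroup X) (hA : Nat.card A = p ^ 2) (hC : Subgroup.centralizer (A : Set X) = A) : Group.nilpotencyClass X = n - 1 := by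
  have hp : p.Prime := Fact.out
  apply nilpotencyClass_of_card_centralizer_eq_sq n X hX
  have hP : IsPGroup p X := IsPGroup.of_card hX
  have hn2 : 2 ≤ n := by
    have h1 : Nat.card A ∣ Nat.card X := Subgroup.card_subgroup_dvd_card _
    rw [hA, hX] at h1
    exact (Nat.pow_dvd_pow_iff_le_right hp.one_lt).mp h1
  have hnt : Nontrivial X := by
    rw [← Finite.one_lt_card_iff_nontrivial, hX]
    exact Nat.one_lt_pow (by omega) hp.one_lt
  by_cases hAZ : A ≤ Subgroup.center X
  · have htop : Subgroup.centralizer (A : Set X) = ⊤ :=
      Subgroup.centralizer_eq_top_iff_subset.mpr hAZ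
    rw [hC] at htop
    refine ⟨1, ?_⟩
    have h1 : Subgroup.centralizer ({1} : Set X) = ⊤ := by
      rw [Subgroup.centralizer_eq_top_iff_subset]
      intro y hy
      rw [Set.mem_singleton_iff] at hy
      rw [hy]; exact one_mem _
    rw [h1, ← hA, htop]
  · obtain ⟨a, haA, haZ⟩ := SetLike.not_le_iff_exists.mp hAZ
    refine ⟨a, ?_⟩
    have hZA : Subgroup.center X ≤ A := by
      have := Subgroup.center_le_centralizer (A : Set X)
      rwa [hC] at this
    have hAcomm : ∀ y ∈ A, ∀ h ∈ A, h * y = y * h := by
      intro y hy
      have hy' : y ∈ Subgroup.centralizer (A : Set X) := by rw [hC]; exact hy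
      exact Subgroup.mem_centralizer_iff.mp hy'
    have heq : Subgroup.centralizer ({a} : Set X) = A := by
      apply le_antisymm
      · intro x hx
        rw [Subgroup.mem_centralizer_singleton_iff] at hx
        have hZD : Subgroup.center X ≤ A ⊓ Subgroup.centralizer ({x} : Set X) :=
          le_inf hZA (Subgroup.center_le_centralizer _)
        have haD : a ∈ A ⊓ Subgroup.centralizer ({x} : Set X) := by
          rw [Subgroup.mem_inf, Subgroup.mem_centralizer_singleton_iff]
          exact ⟨haA, hx.symm⟩
        have hcardlt : Nat.card (Subgroup.center X)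
            < Nat.card ↥(A ⊓ Subgroup.centralizer ({x} : Set X)) := by
          by_contra hle
          push Not at hle
          have := Subgroup.eq_of_le_of_card_ge hZD hle
          exact haZ (this ▸ haD)
        have hZp := prime_le_card_center hP
        have hd : Nat.card ↥(A ⊓ Subgroup.centralizer ({x} : Set X)) ∣ p ^ 2 := by
          rw [← hA]; exact Subgroup.card_dvd_of_le inf_le_left
        obtain ⟨k, hk2, hk⟩ := (Nat.dvd_prime_pow hp).mp hd
        have hk2' : k = 2 := by
          by_contra hne
          have hk1 : k ≤ 1 := by omega
          have : p ^ k ≤ p := by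
            calc p ^ k ≤ p ^ 1 := Nat.pow_le_pow_right hp.pos hk1
              _ = p := pow_one p
          omega
        have hDA : A ⊓ Subgroup.centralizer ({x} : Set X) = A :=
          Subgroup.eq_of_le_of_card_ge inf_le_left (by rw [hk, hk2', hA])
        have hAle : A ≤ Subgroup.centralizer ({x} : Set X) := by
          rw [← hDA]; exact inf_le_right
        have hxC : x ∈ Subgroup.centralizer (A : Set X) := by
          rw [Subgroup.mem_centralizer_iff]
          intro h hh
          have := hAle hh
          rw [Subgroup.mem_centralizer_singleton_iff] at this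
          exact this
        rw [hC] at hxC
        exact hxC
      · intro y hy
        rw [Subgroup.mem_centralizer_singleton_iff]
        exact (hAcomm y hy a haA).symm
    rw [heq, hA]

end Cfsg.Agent.S0112
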