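-- Statement S0160: real irreducible characters and real conjugacy classes.
import Mathlib
import Cfsg.Statements.S0160
import Cfsg.Agent.Lib.Helper74.BrauerPerm
import Cfsg.Agent.Lib.Helper74.CharOps

set_option autoImplicit false
open scoped ComplexConjugate
open Cfsg

namespace Cfsg.Agent.S0160

open Cfsg.Agent.Lib.Helper74 Cfsg.Agent.Lib.Helper3

/-- A finite group has as many real-valued irreducible complex characters as conjugacy classes closed under taking inverses. -/
theorem result {G : Type*} [Group G] [Finite G] : Nat.card {χ : Cfsg.IrrCharacter G // ∀ g : G, ((χ : G → ℂ) g).im = 0} = Nat.card {C : ConjClasses G // ∀ g : G, ConjClasses.mk g = C → IsConj g g⁻¹} := by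
  classical
  have : Fintype G := Fintype.ofFinite G
  let σ : Cfsg.IrrCharacter G → Cfsg.IrrCharacter G :=
    fun χ => ⟨fun g => conj ((χ : G → ℂ) g), isIrrCharacter_conj χ.2⟩
  have h := brauer_perm_count σ (fun g => g⁻¹)
    (fun χ g => (isCharacter_inv (isCharacter_of_irr χ.2) g).symm)
    (fun C => ∀ g : G, ConjClasses.mk g = C → IsConj g g⁻¹) (fun g => by
      constructor
      · intro h
        exact (h g rfl).symm
      · intro h x hx
        rw [ConjClasses.mk_eq_mk_iff_isConj] at hx
        -- x is conjugate to g, g⁻¹ is conjugate to g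
        obtain ⟨c, hc⟩ := isConj_iff.1 hx
        have h1 : IsConj x⁻¹ g⁻¹ := by
          rw [isConj_iff]
          refine ⟨c, ?_⟩
          rw [← hc]; group
        exact hx.trans (h.symm.trans h1.symm))
  rw [← h]
  refine Nat.card_congr (Equiv.subtypeEquivRight fun χ => ?_)
  constructor
  · intro hχ
    apply Subtype.ext
    funext g
    exact Complex.conj_eq_iff_im.2 (hχ g)
  · intro hχ g
    have := congrFun (congrArg Subtype.val hχ) g
    exact Complex.conj_eq_iff_im.1 this

end Cfsg.Agent.S0160
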