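import Mathlib
import Cfsg.Statements.S0214
import Cfsg.Agent.Lib.Helper4.StrongEmb
import Cfsg.Agent.Lib.Helper4.SylowTwo

set_option autoImplicit false
open Cfsg

namespace Cfsg.Agent.S0214

open Cfsg.Agent.Lib.Helper4

/-- Sylow conjugacy inside a subgroup, stated in the ambient group. -/
lemma sylow_conj_in {G : Type*} [Group G] [Finite G] (H : Subgroup G) (P : Sylow 2 ↥H)
    (Q : Subgroup G) (hQH : Q ≤ H) (hQ : IsPGroup 2 Q) :
    ∃ h ∈ H, ∀ q ∈ Q, h⁻¹ * q * h ∈ (P : Subgroup ↥H).map H.subtype := by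
  have h1 : IsPGroup 2 (Q.subgroupOf H) := hQ.comap_subtype
  obtain ⟨R, hR⟩ := h1.exists_le_sylow
  obtain ⟨h, hh⟩ := MulAction.exists_smul_eq ↥H P R
  refine ⟨h.1, h.2, ?_⟩
  intro q hq
  have h2 : (⟨q, hQH hq⟩ : ↥H) ∈ R := hR (Subgroup.mem_subgroupOf.mpr hq)
  rw [← hh, mem_sylow_smul_iff] at h2
  exact ⟨_, h2, rfl⟩

/-- Normalizers grow in 2-groups. -/
lemma normalizer_grows {G : Type*} [Group G] [Finite G] (Q P' : Subgroup G)
    (hP' : IsPGroup 2 P') (hle : Q ≤ P') (hne : Q ≠ P') :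
    ∃ n ∈ P', n ∉ Q ∧ n ∈ Subgroup.normalizer (Q : Set G) := by
  have hnil : Group.IsNilpotent ↥P' := hP'.isNilpotent
  have hnc : NormalizerCondition ↥P' := Group.normalizerCondition_of_isNilpotent
  have hlt : Q.subgroupOf P' < ⊤ := by
    rw [lt_top_iff_ne_top]
    intro h
    rw [Subgroup.subgroupOf_eq_top] at h
    exact hne (le_antisymm hle h)
  obtain ⟨n, hn1, hn2⟩ := SetLike.exists_of_lt (hnc _ hlt)
  refine ⟨n.1, n.2, ?_, ?_⟩
  · intro h; exact hn2 (Subgroup.mem_subgroupOf.mpr h)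
  · rw [Subgroup.mem_normalizer_iff]
    rw [Subgroup.mem_normalizer_iff] at hn1
    intro x
    constructor
    · intro hx
      have := (hn1 ⟨x, hle hx⟩).mp (Subgroup.mem_subgroupOf.mpr hx)
      exact Subgroup.mem_subgroupOf.mp this
    · intro hx
      have hx' : x ∈ P' := by
        have h1 : n.1 * x * n.1⁻¹ ∈ P' := hle hx
        have h2 : x = n.1⁻¹ * (n.1 * x * n.1⁻¹) * n.1 := by group
        rw [h2]
        exact P'.mul_mem (P'.mul_mem (P'.inv_mem n.2) h1) n.2
      have := (hn1 ⟨x, hx'⟩).mpr (Subgroup.mem_subgroupOf.mpr hx)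
      exact Subgroup.mem_subgroupOf.mp this

/-- The hypothesis on normalizers, restated for subgroups of the ambient group. -/
lemma hyp_restate {G : Type*} [Group G] (H : Subgroup G) (P : Sylow 2 ↥H)
    (hN : ∀ X : Subgroup ↥H, X ≤ (P : Subgroup ↥H) → X ≠ ⊥ →
      Subgroup.normalizer ((X.map H.subtype : Subgroup G) : Set G) ≤ H)
    (Y : Subgroup G) (hY : Y ≤ (P : Subgroup ↥H).map H.subtype) (hY1 : Y ≠ ⊥) :
    Subgroup.normalizer (Y : Set G) ≤ H := by
  have hYH : Y ≤ H := hY.trans (Subgroup.map_subtype_le _)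
  have hmap : (Y.subgroupOf H).map H.subtype = Y := by
    rw [Subgroup.subgroupOf_map_subtype]; exact inf_eq_left.mpr hYH
  have h1 : Y.subgroupOf H ≤ (P : Subgroup ↥H) := by
    intro x hx
    obtain ⟨p, hp, hpx⟩ := hY (Subgroup.mem_subgroupOf.mp hx)
    have : p = x := Subtype.ext hpx
    rw [← this]; exact hp
  have h2 : Y.subgroupOf H ≠ ⊥ := by
    intro h
    apply hY1
    rw [← hmap, h, Subgroup.map_bot]
  have := hN _ h1 h2
  rwa [hmap] at this

/-- Conjugating a normalizing element. -/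
lemma conj_mem_normalizer {G : Type*} [Group G] (Q : Subgroup G) (a n : G)
    (hn : n ∈ Subgroup.normalizer (Q : Set G)) :
    a⁻¹ * n * a ∈ Subgroup.normalizer ((Q.map (MulAut.conj a⁻¹).toMonoidHom : Subgroup G) : Set G) := by
  rw [Subgroup.mem_normalizer_iff] at hn ⊢
  intro x
  rw [mem_map_conj, mem_map_conj, inv_inv, hn (a * x * a⁻¹)]
  have : n * (a * x * a⁻¹) * n⁻¹ = a * (a⁻¹ * n * a * x * (a⁻¹ * n * a)⁻¹) * a⁻¹ := by group
  rw [this]

lemma main_backward {G : Type*} [Group G] [Finite G] (H : Subgroup G) (P : Sylow 2 ↥H)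
    (hP : (P : Subgroup ↥H) ≠ ⊥)
    (hN : ∀ Y : Subgroup G, Y ≤ (P : Subgroup ↥H).map H.subtype → Y ≠ ⊥ →
      Subgroup.normalizer (Y : Set G) ≤ H)
    (g : G) (hg : g ∉ H) :
    Odd (Nat.card ↥(H ⊓ H.map (MulAut.conj g).toMonoidHom)) := by
  by_contra hodd
  set D := H ⊓ H.map (MulAut.conj g).toMonoidHom with hD
  have h2D : 2 ∣ Nat.card ↥D := by
    rw [Nat.not_odd_iff_even, even_iff_two_dvd] at hodd; exact hodd
  set P' := (P : Subgroup ↥H).map H.subtype with hP'
  have hP'H : P' ≤ H := Subgroup.map_subtype_le _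
  have hP'2 : IsPGroup 2 P' := P.2.map _
  have hP'ne : P' ≠ ⊥ := by
    intro h
    apply hP
    exact (Subgroup.map_eq_bot_iff_of_injective _ H.subtype_injective).mp h
  obtain ⟨Q₀⟩ : Nonempty (Sylow 2 ↥D) := inferInstance
  set Q := (Q₀ : Subgroup ↥D).map D.subtype with hQ
  have hQD : Q ≤ D := Subgroup.map_subtype_le _
  have hQ2 : IsPGroup 2 Q := Q₀.2.map _
  have hQne : Q ≠ ⊥ := by
    intro h
    have h0 : (Q₀ : Subgroup ↥D) = ⊥ :=
      (Subgroup.map_eq_bot_iff_of_injective _ D.subtype_injective).mp h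
    have h1 := Q₀.dvd_card_of_dvd_card h2D
    rw [h0, Subgroup.card_bot] at h1
    omega
  have hmax : ∀ R : Subgroup G, IsPGroup 2 R → Q ≤ R → R ≤ D → R ≤ Q := by
    intro R hR hQR hRD
    have h1 : IsPGroup 2 (R.subgroupOf D) := hR.comap_subtype
    have h2 : (Q₀ : Subgroup ↥D) ≤ R.subgroupOf D := by
      intro q hq
      exact Subgroup.mem_subgroupOf.mpr (hQR ⟨q, hq, rfl⟩)
    have h3 := Q₀.is_maximal' h1 h2
    intro r hr
    have : (⟨r, hRD hr⟩ : ↥D) ∈ R.subgroupOf D := Subgroup.mem_subgroupOf.mpr hr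
    rw [h3] at this
    exact ⟨_, this, rfl⟩
  have hQH : Q ≤ H := hQD.trans inf_le_left
  -- the conjugate of Q by g⁻¹ lies in H
  have hQg : Q.map (MulAut.conj g⁻¹).toMonoidHom ≤ H := by
    intro x hx
    rw [mem_map_conj, inv_inv] at hx
    have := (Subgroup.mem_inf.mp (hQD hx)).2
    rw [mem_map_conj] at this
    have e : g⁻¹ * (g * x * g⁻¹) * g = x := by group
    rwa [e] at this
  obtain ⟨h, hhH, hh⟩ := sylow_conj_in H P Q hQH hQ2
  obtain ⟨k, hkH, hk⟩ := sylow_conj_in H P _ hQg (hQ2.map _)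
  -- general facts for a conjugating element a
  have hconj_le : ∀ a : G, (∀ q ∈ Q, a⁻¹ * q * a ∈ P') →
      Q.map (MulAut.conj a⁻¹).toMonoidHom ≤ P' := by
    intro a ha x hx
    rw [mem_map_conj, inv_inv] at hx
    have := ha _ hx
    have e : a⁻¹ * (a * x * a⁻¹) * a = x := by group
    rwa [e] at this
  have hconj_ne : ∀ a : G, Q.map (MulAut.conj a⁻¹).toMonoidHom ≠ ⊥ := by
    intro a h
    apply hQne
    exact (Subgroup.map_eq_bot_iff_of_injective _ (MulAut.conj a⁻¹).injective).mp h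
  have hnorm : ∀ a : G, (∀ q ∈ Q, a⁻¹ * q * a ∈ P') →
      ∀ n ∈ Subgroup.normalizer (Q : Set G), a⁻¹ * n * a ∈ H := by
    intro a ha n hn
    exact hN _ (hconj_le a ha) (hconj_ne a) (conj_mem_normalizer Q a n hn)
  have ha2 : ∀ q ∈ Q, (g * k)⁻¹ * q * (g * k) ∈ P' := by
    intro q hq
    have hq' : g⁻¹ * q * g ∈ Q.map (MulAut.conj g⁻¹).toMonoidHom := by
      rw [mem_map_conj, inv_inv]
      have e : g * (g⁻¹ * q * g) * g⁻¹ = q := by group
      rwa [e]
    have := hk _ hq'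
    have e : (g * k)⁻¹ * q * (g * k) = k⁻¹ * (g⁻¹ * q * g) * k := by group
    rwa [e]
  -- the normalizer of Q lies in D
  have hND : Subgroup.normalizer (Q : Set G) ≤ D := by
    intro n hn
    refine Subgroup.mem_inf.mpr ⟨?_, ?_⟩
    · have h1 := hnorm h hh n hn
      have e : n = h * (h⁻¹ * n * h) * h⁻¹ := by group
      rw [e]
      exact H.mul_mem (H.mul_mem hhH h1) (H.inv_mem hhH)
    · rw [mem_map_conj]
      have h1 := hnorm (g * k) ha2 n hn
      have e : g⁻¹ * n * g = k * ((g * k)⁻¹ * n * (g * k)) * k⁻¹ := by group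
      rw [e]
      exact H.mul_mem (H.mul_mem hkH h1) (H.inv_mem hkH)
  -- each conjugate equals P'
  have heq : ∀ a : G, (∀ q ∈ Q, a⁻¹ * q * a ∈ P') →
      Q.map (MulAut.conj a⁻¹).toMonoidHom = P' := by
    intro a ha
    by_contra hne
    obtain ⟨m, hmP, hmQ, hmN⟩ := normalizer_grows _ P' hP'2 (hconj_le a ha) hne
    -- the element a m a⁻¹ normalizes Q
    have hn' : a * m * a⁻¹ ∈ Subgroup.normalizer (Q : Set G) := by
      have := conj_mem_normalizer _ a⁻¹ m hmN
      rw [inv_inv] at this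
      have hQQ : (Q.map (MulAut.conj a⁻¹).toMonoidHom).map (MulAut.conj a).toMonoidHom = Q := by
        ext x
        rw [mem_map_conj, mem_map_conj, inv_inv]
        have e : a * (a⁻¹ * x * a) * a⁻¹ = x := by group
        rw [e]
      rwa [hQQ] at this
    let R : Subgroup G := Subgroup.normalizer (Q : Set G) ⊓ P'.map (MulAut.conj a).toMonoidHom
    have hR2 : IsPGroup 2 R := (hP'2.map _).to_le inf_le_right
    have hQR : Q ≤ R := by
      intro q hq
      refine Subgroup.mem_inf.mpr ⟨Subgroup.le_normalizer hq, ?_⟩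
      rw [mem_map_conj]
      exact ha q hq
    have hRD : R ≤ D := inf_le_left.trans hND
    have hRQ := hmax R hR2 hQR hRD
    have hmem : a * m * a⁻¹ ∈ R := by
      refine Subgroup.mem_inf.mpr ⟨hn', ?_⟩
      rw [mem_map_conj]
      have e : a⁻¹ * (a * m * a⁻¹) * a = m := by group
      rwa [e]
    have := hRQ hmem
    apply hmQ
    rw [mem_map_conj, inv_inv]
    exact this
  have e1 := heq h hh
  have e2 := heq (g * k) ha2
  -- h⁻¹ g k normalizes P'
  have hnP : h⁻¹ * (g * k) ∈ Subgroup.normalizer (P' : Set G) := by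
    rw [Subgroup.mem_normalizer_iff]
    intro x
    constructor
    · intro hx
      rw [← e2, mem_map_conj, inv_inv] at hx
      rw [← e1, mem_map_conj, inv_inv]
      have e : h * (h⁻¹ * (g * k) * x * (h⁻¹ * (g * k))⁻¹) * h⁻¹ = g * k * x * (g * k)⁻¹ := by
        group
      rwa [e]
    · intro hx
      rw [← e1, mem_map_conj, inv_inv] at hx
      rw [← e2, mem_map_conj, inv_inv]
      have e : h * (h⁻¹ * (g * k) * x * (h⁻¹ * (g * k))⁻¹) * h⁻¹ = g * k * x * (g * k)⁻¹ := by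
        group
      rwa [e] at hx
  have h3 : h⁻¹ * (g * k) ∈ H := hN P' le_rfl hP'ne hnP
  apply hg
  have e : g = h * (h⁻¹ * (g * k)) * k⁻¹ := by group
  rw [e]
  exact H.mul_mem (H.mul_mem hhH h3) (H.inv_mem hkH)

/-- Let H be a proper subgroup of the finite group G and P a nontrivial Sylow 2-subgroup of H. Then H is strongly embedded in G if and only if N_G(X) ≤ H for every nontrivial subgroup X of P. -/
theorem result {G : Type*} [Group G] [Finite G] (H : Subgroup G) (hH : H ≠ ⊤) (P : Sylow 2 ↥H) (hP : (P : Subgroup ↥H) ≠ ⊥) : Cfsg.IsStronglyEmbedded H ↔ (∀ X : Subgroup ↥H, X ≤ (P : Subgroup ↥H) → X ≠ ⊥ → Subgroup.normalizer ((X.map H.subtype : Subgroup G) : Set G) ≤ H) := by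
  constructor
  · intro hSE X hX hX1 n hn
    have hX2 : IsPGroup 2 X := P.2.to_le hX
    have hnt : Nontrivial ↥X := (Subgroup.nontrivial_iff_ne_bot _).mpr hX1
    obtain ⟨j, hj⟩ := IsPGroup.iff_card.mp hX2
    have hj0 : j ≠ 0 := by
      rintro rfl
      rw [pow_zero] at hj
      have := Finite.one_lt_card (α := ↥X)
      omega
    have h2 : 2 ∣ Nat.card ↥X := by rw [hj]; exact dvd_pow_self 2 hj0
    obtain ⟨r, hr⟩ := exists_prime_orderOf_dvd_card' 2 h2
    have hr2 : orderOf (((r : ↥H) : G)) = 2 := by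
      rw [Subgroup.orderOf_coe, Subgroup.orderOf_coe]; exact hr
    have hrX : ((r : ↥H) : G) ∈ X.map H.subtype := ⟨r.1, r.2, rfl⟩
    have hrH : ((r : ↥H) : G) ∈ H := (r : ↥H).2
    rw [Subgroup.mem_normalizer_iff] at hn
    have h3 := (hn _).mp hrX
    exact se_mem_of_conj_mem hSE hrH hr2 (Subgroup.map_subtype_le _ h3)
  · intro hN
    have hN' := hyp_restate H P hN
    refine ⟨hH, ?_, fun g hg => main_backward H P hP hN' g hg⟩
    have hnt : Nontrivial ↥(P : Subgroup ↥H) := (Subgroup.nontrivial_iff_ne_bot _).mpr hP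
    obtain ⟨j, hj⟩ := IsPGroup.iff_card.mp P.2
    have hj0 : j ≠ 0 := by
      rintro rfl
      rw [pow_zero] at hj
      have := Finite.one_lt_card (α := ↥(P : Subgroup ↥H))
      omega
    have h2 : 2 ∣ Nat.card ↥(P : Subgroup ↥H) := by rw [hj]; exact dvd_pow_self 2 hj0
    exact even_iff_two_dvd.mpr (h2.trans (Subgroup.card_subgroup_dvd_card _))

end Cfsg.Agent.S0214
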