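import Mathlib
import Cfsg.Statements.S0223
import Cfsg.Agent.Lib.Helper4.StrongEmb

set_option autoImplicit false
open Cfsg

namespace Cfsg.Agent.S0223

/-- Let H be a proper subgroup of even order of the finite group G. Then H is strongly embedded if and only if (i) C_G(t) ≤ H for every involution t of H and (ii) H controls fusion of its involutions: involutions of H conjugate in G are conjugate in H. -/
theorem result {G : Type*} [Group G] [Finite G] (H : Subgroup G) (hH : H ≠ ⊤) (heven : Even (Nat.card H)) : Cfsg.IsStronglyEmbedded H ↔ ((∀ t ∈ H, orderOf t = 2 → Subgroup.centralizer ({t} : Set G) ≤ H) ∧ (∀ t ∈ H, ∀ s ∈ H, orderOf t = 2 → orderOf s = 2 → IsConj t s → ∃ h ∈ H, h * t * h⁻¹ = s)) := by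
  constructor
  · intro hSE
    refine ⟨?_, ?_⟩
    · intro t ht ht2 g hg
      rw [Subgroup.mem_centralizer_iff] at hg
      have h1 : t * g = g * t := hg t rfl
      apply Cfsg.Agent.Lib.Helper4.se_mem_of_conj_mem hSE ht ht2
      rw [← h1, mul_inv_cancel_right]; exact ht
    · intro t ht s hs ht2 hs2 hconj
      obtain ⟨c, hc⟩ := isConj_iff.mp hconj
      refine ⟨c, ?_, hc⟩
      apply Cfsg.Agent.Lib.Helper4.se_mem_of_conj_mem hSE ht ht2
      rw [hc]; exact hs
  · rintro ⟨h1, h2⟩
    refine ⟨hH, heven, ?_⟩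
    intro g hg
    by_contra hodd
    obtain ⟨t, ht, ht2, hgt⟩ := Cfsg.Agent.Lib.Helper4.exists_invol_of_not_odd hodd
    have hs2 : orderOf (g * t * g⁻¹) = 2 := by
      rw [Cfsg.Agent.Lib.Helper4.orderOf_conj_eq, ht2]
    obtain ⟨h, hh, hht⟩ := h2 t ht (g * t * g⁻¹) hgt ht2 hs2 (isConj_iff.mpr ⟨g, rfl⟩)
    apply hg
    have hmem : h⁻¹ * g ∈ Subgroup.centralizer ({t} : Set G) := by
      rw [Subgroup.mem_centralizer_iff]
      intro k hk
      rw [Set.mem_singleton_iff] at hk
      rw [hk]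
      have e1 : t = h⁻¹ * (g * t * g⁻¹) * h := by rw [← hht]; group
      calc t * (h⁻¹ * g) = h⁻¹ * (g * t * g⁻¹) * h * (h⁻¹ * g) := by rw [← e1]
        _ = h⁻¹ * g * t := by group
    have := H.mul_mem hh (h1 t ht ht2 hmem)
    rwa [mul_inv_cancel_left] at this

end Cfsg.Agent.S0223
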