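import Mathlib
import Cfsg.Statements.S0224
import Cfsg.Agent.Lib.Helper4.StrongEmb

set_option autoImplicit false
open Cfsg

namespace Cfsg.Agent.S0224

/-- Let H be a proper subgroup of even order of the finite group G. Then H is strongly embedded if and only if each involution of H fixes exactly one point (namely the coset H) in the action of G on the cosets of H. -/
theorem result {G : Type*} [Group G] [Finite G] (H : Subgroup G) (hH : H ≠ ⊤) (heven : Even (Nat.card H)) : Cfsg.IsStronglyEmbedded H ↔ ∀ t ∈ H, orderOf t = 2 → Nat.card {c : G ⧸ H // t • c = c} = 1 := by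
  have hfix : ∀ (t g : G), t • (g : G ⧸ H) = (g : G ⧸ H) ↔ g⁻¹ * t * g ∈ H := by
    intro t g
    rw [MulAction.Quotient.smul_mk, eq_comm, QuotientGroup.eq]
    simp [mul_assoc]
  constructor
  · intro hSE t ht ht2
    rw [Nat.card_eq_one_iff_unique]
    refine ⟨⟨?_⟩, ⟨⟨((1 : G) : G ⧸ H), ?_⟩⟩⟩
    · have key : ∀ c : {c : G ⧸ H // t • c = c}, c.1 = ((1 : G) : G ⧸ H) := by
        rintro ⟨c, hc⟩
        induction c using QuotientGroup.induction_on with
        | H g =>
          rw [hfix] at hc
          have hg : g⁻¹ ∈ H := by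
            apply Cfsg.Agent.Lib.Helper4.se_mem_of_conj_mem hSE ht ht2
            rw [inv_inv]; exact hc
          show (g : G ⧸ H) = ((1 : G) : G ⧸ H)
          rw [eq_comm, QuotientGroup.eq]
          simpa using H.inv_mem hg
      intro a b
      apply Subtype.ext
      rw [key a, key b]
    · rw [hfix]; simpa using ht
  · intro h
    refine ⟨hH, heven, ?_⟩
    intro g hg
    by_contra hodd
    obtain ⟨t, ht, ht2, hgt⟩ := Cfsg.Agent.Lib.Helper4.exists_invol_of_not_odd hodd
    have hs2 : orderOf (g * t * g⁻¹) = 2 := by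
      rw [Cfsg.Agent.Lib.Helper4.orderOf_conj_eq, ht2]
    have hcard := h (g * t * g⁻¹) hgt hs2
    rw [Nat.card_eq_one_iff_unique] at hcard
    obtain ⟨hsub, -⟩ := hcard
    have f1 : (g * t * g⁻¹) • ((1 : G) : G ⧸ H) = ((1 : G) : G ⧸ H) := by
      rw [hfix]; simpa using hgt
    have f2 : (g * t * g⁻¹) • ((g : G) : G ⧸ H) = ((g : G) : G ⧸ H) := by
      rw [hfix]
      have : g⁻¹ * (g * t * g⁻¹) * g = t := by group
      rw [this]; exact ht
    have := hsub.elim ⟨_, f1⟩ ⟨_, f2⟩
    have h3 : ((1 : G) : G ⧸ H) = ((g : G) : G ⧸ H) := congrArg Subtype.val this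
    rw [QuotientGroup.eq] at h3
    apply hg
    simpa using h3

end Cfsg.Agent.S0224
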