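import Cfsg.Statements.S0341
import Cfsg.Agent.Lib.Helper83.ZassReg

set_option autoImplicit false
open Cfsg

namespace Cfsg.Agent.S0341

/-- If a finite group acts faithfully and doubly transitively, no non-identity element fixes three points, some
non-identity element fixes two points, and some normal subgroup acts regularly, then the number of points
is `2^p` with `p` prime. -/
theorem result {G Ω : Type*} [Group G]
    [MulAction G Ω] [Fintype Ω] [FaithfulSMul G Ω] (h2 : MulAction.IsMultiplyPretransitive G Ω 2)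
    (h3 : ∀ g : G, ∀ a b c : Ω, a ≠ b → b ≠ c → a ≠ c → g • a = a → g • b = b → g • c = c → g = 1)
    (hfix : ∃ g : G, g ≠ 1 ∧ ∃ a b : Ω, a ≠ b ∧ g • a = a ∧ g • b = b)
    (N : Subgroup G) [N.Normal] (hNt : MulAction.IsPretransitive N Ω)
    (hNr : ∀ a : Ω, MulAction.stabilizer N a = ⊥) :
    ∃ p : ℕ, p.Prime ∧ Fintype.card Ω = 2 ^ p := by
  classical
  have hfinG : Finite G := Finite.of_injective (MulAction.toPerm : G → Equiv.Perm Ω)
    MulAction.toPerm_injective
  obtain ⟨g₀, hg₀1, a, b, hab, hg₀a, hg₀b⟩ := hfix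
  have hne : ∃ g : G, g ≠ 1 ∧ g • a = a ∧ g • b = b := ⟨g₀, hg₀1, hg₀a, hg₀b⟩
  have hc : ∃ c : Ω, c ≠ a ∧ c ≠ b := by
    by_contra hno
    push Not at hno
    apply hg₀1
    apply FaithfulSMul.eq_of_smul_eq_smul (α := Ω)
    intro c
    rw [one_smul]
    by_cases hca : c = a
    · rw [hca, hg₀a]
    · rw [hno c hca, hg₀b]
  have hNt' : ∀ ω ω' : Ω, ∃ n ∈ N, n • ω = ω' := by
    intro ω ω'
    obtain ⟨n, hn⟩ := hNt.exists_smul_eq ω ω'
    exact ⟨n, n.2, hn⟩
  have hNr' : ∀ n ∈ N, ∀ ω : Ω, n • ω = ω → n = 1 := by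
    intro n hn ω h
    have h4 : (⟨n, hn⟩ : N) ∈ MulAction.stabilizer N ω := MulAction.mem_stabilizer_iff.mpr h
    rw [hNr ω, Subgroup.mem_bot] at h4
    exact congrArg Subtype.val h4
  obtain ⟨p, hp, hcard⟩ := Cfsg.Agent.Lib.Helper83.zass_reg_degree hab h2 h3 hne hc N hNt' hNr'
  exact ⟨p, hp, by rw [← Nat.card_eq_fintype_card, hcard]⟩

end Cfsg.Agent.S0341
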