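import Cfsg.Statements.S0345
import Cfsg.Agent.S0739
import Cfsg.Agent.Lib.Helper13.Zass
import Cfsg.Agent.Lib.Helper83.ZassSimple
import Cfsg.Agent.Lib.Helper83.ZassPSL2
import Cfsg.Agent.Lib.Helper83.ZassCyc

set_option autoImplicit false
open Cfsg

namespace Cfsg.Agent.S0345

open Cfsg.Agent.Lib.Helper83 Cfsg.Agent.Lib.Helper13 in
/-- In a finite simple Zassenhaus group the stabiliser `H` of two points `a ≠ b` is cyclic, and some involution
interchanging `a` and `b` inverts every element of `H`. -/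
theorem result {G Ω : Type*} [Group G] [Finite G] [MulAction G Ω] [Finite Ω]
    (hZ : Cfsg.IsZassenhausGroup G Ω) [IsSimpleGroup G]
    {a b : Ω} (hab : a ≠ b) :
    IsCyclic ↥(MulAction.stabilizer G a ⊓ MulAction.stabilizer G b) ∧
      ∃ v : G, orderOf v = 2 ∧ v • a = b ∧ v • b = a ∧ ∀ h ∈ MulAction.stabilizer G a ⊓ MulAction.stabilizer G b, v * h * v⁻¹ = h⁻¹ := by
  classical
  have : Fintype Ω := Fintype.ofFinite Ω
  have memH : ∀ g : G, g ∈ MulAction.stabilizer G a ⊓ MulAction.stabilizer G b ↔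
      g • a = a ∧ g • b = b := by
    intro g
    rw [Subgroup.mem_inf, MulAction.mem_stabilizer_iff, MulAction.mem_stabilizer_iff]
  by_cases heven : Even (Nat.card ↥(MulAction.stabilizer G a ⊓ MulAction.stabilizer G b))
  · have hd := zass_simple_even hZ hab heven
    have : Fact (Nat.Prime 2) := ⟨Nat.prime_two⟩
    obtain ⟨t0, ht0⟩ := exists_prime_orderOf_dvd_card'
      (G := ↥(MulAction.stabilizer G a ⊓ MulAction.stabilizer G b)) 2 heven.two_dvd
    obtain ⟨t, htdef⟩ : ∃ t : G, t = (t0 : G) := ⟨_, rfl⟩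
    have ht : orderOf t = 2 := by rw [htdef, Subgroup.orderOf_coe]; exact ht0
    have hta : t • a = a := by rw [htdef]; exact ((memH _).mp t0.2).1
    have htb : t • b = b := by rw [htdef]; exact ((memH _).mp t0.2).2
    have ht1 : t ≠ 1 := ne_one_of_orderOf_two ht
    obtain ⟨hswap_sq, -⟩ := zass_even_swaps hZ hab ht hta htb
      (by rw [← Nat.card_eq_fintype_card]; omega)
    obtain ⟨σ, hσa, hσb⟩ := zass_two_trans hZ hab (Ne.symm hab)
    have hσσ := hswap_sq σ hσa hσb
    have hσinv : σ⁻¹ = σ := inv_eq_of_mul_eq_one_right hσσ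
    have hσ1 : σ ≠ 1 := by
      intro h
      rw [h, one_smul] at hσa
      exact hab hσa
    have hσo : orderOf σ = 2 := orderOf_eq_prime (by rw [pow_two]; exact hσσ) hσ1
    have hσH : ∀ h ∈ MulAction.stabilizer G a ⊓ MulAction.stabilizer G b, σ * h * σ⁻¹ = h⁻¹ := by
      intro h hh
      have h1 := hswap_sq (σ * h) (by rw [mul_smul, ((memH h).mp hh).1, hσa])
        (by rw [mul_smul, ((memH h).mp hh).2, hσb])
      have h2 : σ * h * σ * h = 1 := by rw [← h1]; group
      rw [hσinv]
      exact eq_inv_of_mul_eq_one_left h2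
    have hHcomm : ∀ x ∈ MulAction.stabilizer G a ⊓ MulAction.stabilizer G b,
        ∀ y ∈ MulAction.stabilizer G a ⊓ MulAction.stabilizer G b, x * y = y * x := by
      intro x hx y hy
      have h1 := hσH (x * y) (Subgroup.mul_mem _ hx hy)
      have h2 : σ * (x * y) * σ⁻¹ = (σ * x * σ⁻¹) * (σ * y * σ⁻¹) := by group
      rw [h2, hσH x hx, hσH y hy, mul_inv_rev] at h1
      have h4 : (x⁻¹ * y⁻¹)⁻¹ = (y⁻¹ * x⁻¹)⁻¹ := by rw [h1]
      rw [mul_inv_rev, mul_inv_rev, inv_inv, inv_inv] at h4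
      exact h4.symm
    have hc := exists_third (zass_three_le hZ) a b
    exact ⟨zass_comm_cyclic hab hZ.2.1 hZ.2.2.1 ⟨t, ht1, hta, htb⟩ hc hHcomm,
      σ, hσo, hσa, hσb, hσH⟩
  · have hodd : Odd (Nat.card ↥(MulAction.stabilizer G a ⊓ MulAction.stabilizer G b)) :=
      Nat.not_even_iff_odd.mp heven
    obtain ⟨t, ht⟩ := zass_exists_involution hZ hab
    have h2G : 2 ∣ Nat.card G := by
      rw [← ht]
      exact orderOf_dvd_natCard t
    have hnil : ∀ q : ℕ, q.Prime →
        q ∣ Nat.card ↥(MulAction.stabilizer G a ⊓ MulAction.stabilizer G b) →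
        ¬ ∃ N : Subgroup G, N.Normal ∧ N.index = q ^ (Nat.card G).factorization q := by
      rintro q hq hqd ⟨N, hNn, hNi⟩
      rcases hNn.eq_bot_or_eq_top with h | h
      · rw [h, Subgroup.index_bot] at hNi
        rw [hNi] at h2G
        have h3 : 2 ∣ q := Nat.Prime.dvd_of_dvd_pow Nat.prime_two h2G
        have h4 : 2 = q := (Nat.prime_dvd_prime_iff_eq Nat.prime_two hq).mp h3
        rw [← h4] at hqd
        exact heven (even_iff_two_dvd.mpr hqd)
      · rw [h, Subgroup.index_top] at hNi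
        have h3 : (Nat.card G).factorization q = 0 := by
          by_contra hne
          have : 1 < q ^ (Nat.card G).factorization q := Nat.one_lt_pow hne hq.one_lt
          omega
        have h4 : q ∣ Nat.card G := hqd.trans (Subgroup.card_subgroup_dvd_card _)
        rcases (Nat.factorization_eq_zero_iff _ _).mp h3 with h5 | h5 | h5
        · exact h5 hq
        · exact h5 h4
        · exact Nat.card_pos.ne' h5
    obtain ⟨hcyc, -, hinv⟩ := Cfsg.Agent.S0739.result hZ hab hodd hnil
    obtain ⟨x, hxa, hxb⟩ := zass_exists_conj_swap hZ ht hab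
    exact ⟨hcyc, x * t * x⁻¹, by rw [orderOf_conj_eq]; exact ht, hxa, hxb, hinv _ hxa hxb⟩

end Cfsg.Agent.S0345
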