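import Mathlib
import Cfsg.Statements.S0346
import Cfsg.Agent.Lib.Helper25.Zass1
import Cfsg.Agent.Lib.Helper25.Zass2

set_option autoImplicit false
open Cfsg

namespace Cfsg.Agent.S0346

/-- The number of points of a finite simple Zassenhaus group is `p^k + 1` for some prime power `p^k` (the regular normal
subgroup of a point stabiliser is a `p`-group). -/
theorem result {G Ω : Type*} [Group G] [Finite G] [MulAction G Ω] [Fintype Ω]
    (hZ : Cfsg.IsZassenhausGroup G Ω) [IsSimpleGroup G] :
    IsPrimePow (Fintype.card Ω - 1) := by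
  classical
  haveI : Fintype G := Fintype.ofFinite G
  obtain ⟨K, hK1, hTI, hlt, hC, hidx, hcard⟩ := Cfsg.Agent.Lib.Helper25.zass_kernel hZ
  haveI : Fintype ↥(Subgroup.normalizer (K : Set G)) := Fintype.ofFinite _
  have hcard' : Fintype.card Ω - 1 = Nat.card K := by omega
  rw [hcard']
  by_contra hnpp
  obtain ⟨M, hMn, hM1, hM2⟩ :=
    Cfsg.Agent.Lib.Helper25.ti_frob_not_simple K hK1 hTI hlt hC hidx hnpp
  rcases hMn.eq_bot_or_eq_top with h | h
  · exact hM1 h
  · exact hM2 h

end Cfsg.Agent.S0346
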