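import Mathlib
import Cfsg.Statements.S0457
import Cfsg.Agent.Lib.Helper35.J1Card
import Cfsg.Agent.Lib.Helper35.SimpleAux
-- import your own Cfsg.Agent.* helpers here

set_option autoImplicit false
open Cfsg
open scoped commutatorElement

namespace Cfsg.Agent.S0457

open Cfsg.Agent.Lib.Helper60.J1 Cfsg.Agent.Lib.Helper35 Cfsg.Spor

/-! ### data: a few more elements of `J1` -/

/-- `Y⁴` -/
def Y4p : ℕ := mulP (mulP (mulP Yp Yp) Yp) Yp

theorem toMat_Y4p : toMat Y4p = toMat Yp ^ 4 := by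
  simp only [Y4p, toMat_mulP, pow_succ, pow_zero, one_mul]

theorem jY_pow : jankoY ^ 5 = 1 :=
  pow_eq_one_of jankoY Yp jankoY_val 5 (pw5 Yp) (toMat_pw5 Yp) (by decide +kernel)

theorem jY_order : orderOf jankoY = 5 := by
  have hp : Fact (Nat.Prime 5) := ⟨by norm_num⟩
  refine orderOf_eq_prime jY_pow ?_
  have h := pow_ne_one_of jankoY Yp jankoY_val 1 (pw1 Yp) (toMat_pw1 Yp) (by decide +kernel)
  rwa [pow_one] at h

theorem jY_inv : jankoY⁻¹ = jankoY ^ 4 := by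
  apply inv_eq_of_mul_eq_one_right
  rw [← pow_succ', jY_pow]

theorem j1a_inv : j1a⁻¹ = j1a := inv_eq_of_mul_eq_one_right j1_aa

/-- the commutator `⁅a, Y⁆`, of order `19` -/
def D2 : ℕ := mulP (mulP (mulP jA Yp) jA) Y4p

theorem d2_val : ((⁅j1a, jankoY⁆ : GLm) : Mat) = toMat D2 := by
  rw [commutatorElement_def, j1a_inv, jY_inv]
  simp only [D2, Units.val_mul, Units.val_pow_eq_pow_val, j1a_val, jankoY_val, toMat_mulP,
    toMat_Y4p]

theorem d2_order : orderOf (⁅j1a, jankoY⁆ : GLm) = 19 := by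
  have hp : Fact (Nat.Prime 19) := ⟨by norm_num⟩
  refine orderOf_eq_prime
    (pow_eq_one_of _ D2 d2_val 19 (pw19 D2) (toMat_pw19 D2) (by decide +kernel)) ?_
  have h := pow_ne_one_of _ D2 d2_val 1 (pw1 D2) (toMat_pw1 D2) (by decide +kernel)
  rwa [pow_one] at h

/-- an element of order `3` -/
def g3 : GLm := jankoX * jankoY * jankoY * jankoY * jankoX * jankoY * jankoY * jankoY
def G3 : ℕ := mulP (mulP (mulP (mulP (mulP (mulP (mulP Xp Yp) Yp) Yp) Xp) Yp) Yp) Yp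

theorem g3_mem : g3 ∈ J1 :=
  Subgroup.mul_mem _ (Subgroup.mul_mem _ (Subgroup.mul_mem _ (Subgroup.mul_mem _
    (Subgroup.mul_mem _ (Subgroup.mul_mem _ (Subgroup.mul_mem _ jX_mem jY_mem) jY_mem) jY_mem)
    jX_mem) jY_mem) jY_mem) jY_mem

theorem g3_val : (g3 : Mat) = toMat G3 := by
  simp only [g3, G3, Units.val_mul, jankoX_val, jankoY_val, toMat_mulP]

theorem g3_pow : g3 ^ 3 = 1 :=
  pow_eq_one_of g3 G3 g3_val 3 (pw3 G3) (toMat_pw3 G3) (by decide +kernel)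

theorem g3_order : orderOf g3 = 3 := by
  have hp : Fact (Nat.Prime 3) := ⟨by norm_num⟩
  refine orderOf_eq_prime g3_pow ?_
  have h := pow_ne_one_of g3 G3 g3_val 1 (pw1 G3) (toMat_pw1 G3) (by decide +kernel)
  rwa [pow_one] at h

theorem g3_inv : g3⁻¹ = g3 ^ 2 := by
  apply inv_eq_of_mul_eq_one_right
  rw [← pow_succ', g3_pow]

/-- the commutator `⁅g₃, Y⁆`, of order `5` -/
def D3 : ℕ := mulP (mulP (mulP G3 Yp) (mulP G3 G3)) Y4p

theorem d3_val : ((⁅g3, jankoY⁆ : GLm) : Mat) = toMat D3 := by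
  rw [commutatorElement_def, g3_inv, jY_inv]
  simp only [D3, Units.val_mul, Units.val_pow_eq_pow_val, g3_val, jankoY_val, toMat_mulP,
    toMat_Y4p, pow_two]

theorem d3_order : orderOf (⁅g3, jankoY⁆ : GLm) = 5 := by
  have hp : Fact (Nat.Prime 5) := ⟨by norm_num⟩
  refine orderOf_eq_prime
    (pow_eq_one_of _ D3 d3_val 5 (pw5 D3) (toMat_pw5 D3) (by decide +kernel)) ?_
  have h := pow_ne_one_of _ D3 d3_val 1 (pw1 D3) (toMat_pw1 D3) (by decide +kernel)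
  rwa [pow_one] at h

/-! ### generation and perfectness -/

theorem J1_gen :
    Subgroup.closure ({⟨jankoX, jX_mem⟩, ⟨jankoY, jY_mem⟩} : Set ↥J1) = ⊤ := by
  have h := Subgroup.closure_closure_coe_preimage (k := ({jankoX, jankoY} : Set GLm))
  have e : ((↑) : ↥(Subgroup.closure ({jankoX, jankoY} : Set GLm)) → GLm) ⁻¹'
      ({jankoX, jankoY} : Set GLm) = ({⟨jankoX, jX_mem⟩, ⟨jankoY, jY_mem⟩} : Set ↥J1) := by
    ext g
    constructor
    · rintro (h | h)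
      · exact Or.inl (Subtype.ext h)
      · exact Or.inr (Subtype.ext h)
    · rintro (h | h)
      · exact Or.inl (congrArg Subtype.val h)
      · exact Or.inr (congrArg Subtype.val h)
  rw [e] at h
  exact h

theorem J1_perfect : commutator ↥J1 = ⊤ := by
  have hx7 : Abelianization.of (⟨jankoX, jX_mem⟩ : ↥J1) ^ 7 = 1 := by
    rw [← map_pow]
    have h : (⟨jankoX, jX_mem⟩ : ↥J1) ^ 7 = 1 := Subtype.ext e7_pow
    rw [h, map_one]
  have hy5 : Abelianization.of (⟨jankoY, jY_mem⟩ : ↥J1) ^ 5 = 1 := by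
    rw [← map_pow]
    have h : (⟨jankoY, jY_mem⟩ : ↥J1) ^ 5 = 1 := Subtype.ext jY_pow
    rw [h, map_one]
  have h19 : (Abelianization.of (⟨jankoY, jY_mem⟩ : ↥J1) *
      Abelianization.of (⟨jankoX, jX_mem⟩ : ↥J1) * Abelianization.of (⟨jankoX, jX_mem⟩ : ↥J1) *
      Abelianization.of (⟨jankoX, jX_mem⟩ : ↥J1)) ^ 19 = 1 := by
    rw [← map_mul, ← map_mul, ← map_mul, ← map_pow]
    have h : ((⟨jankoY, jY_mem⟩ : ↥J1) * ⟨jankoX, jX_mem⟩ * ⟨jankoX, jX_mem⟩ *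
        ⟨jankoX, jX_mem⟩) ^ 19 = 1 := Subtype.ext e19_pow
    rw [h, map_one]
  obtain ⟨x, hx⟩ : ∃ x, x = Abelianization.of (⟨jankoX, jX_mem⟩ : ↥J1) := ⟨_, rfl⟩
  obtain ⟨y, hy⟩ : ∃ y, y = Abelianization.of (⟨jankoY, jY_mem⟩ : ↥J1) := ⟨_, rfl⟩
  rw [← hx] at hx7 h19
  rw [← hy] at hy5 h19
  have h1 : y ^ 4 * x = 1 := by
    have e : (y * x * x * x) ^ 19 = (y ^ 5) ^ 3 * y ^ 4 * ((x ^ 7) ^ 8 * x) := by
      rw [← pow_mul, ← pow_mul, ← pow_add, ← pow_succ]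
      simp only [mul_assoc, ← pow_two, ← pow_succ]
      rw [mul_pow, ← pow_mul]
    rw [e, hy5, hx7, one_pow, one_pow, one_mul, one_mul] at h19
    exact h19
  have h2 : x ^ 5 = 1 := by
    have e : x ^ 5 = (y ^ 4 * x) ^ 5 * ((y ^ 5) ^ 4)⁻¹ := by
      rw [mul_pow, ← pow_mul, ← pow_mul]
      simp
    rw [e, h1, hy5, one_pow, one_pow, inv_one, mul_one]
  have hx1 : x = 1 := by
    have e : x = (x ^ 5) ^ 3 * ((x ^ 7) ^ 2)⁻¹ := by
      rw [← pow_mul, ← pow_mul, show 5 * 3 = 7 * 2 + 1 from rfl, pow_succ]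
      simp
    rw [e, h2, hx7, one_pow, one_pow, inv_one, mul_one]
  have hy1 : y = 1 := by
    rw [hx1, mul_one] at h1
    have e : y = y ^ 5 * (y ^ 4)⁻¹ := by
      rw [pow_succ]
      simp
    rw [e, hy5, h1, inv_one, mul_one]
  rw [eq_top_iff, ← J1_gen, Subgroup.closure_le]
  intro g hg
  rw [SetLike.mem_coe, ← Abelianization.ker_of, MonoidHom.mem_ker]
  rcases hg with h | h
  · rw [h, ← hx, hx1]
  · rw [Set.mem_singleton_iff.mp h, ← hy, hy1]

/-! ### simplicity -/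

theorem eq_top_of_normal (N : Subgroup ↥J1) [hN : N.Normal] (hne : N ≠ ⊥) : N = ⊤ := by
  have hfin : Finite ↥J1 := Nat.finite_of_card_ne_zero (by rw [card_J1]; norm_num)
  have hcomm : ⁅(⟨jankoX, jX_mem⟩ : ↥J1), (⟨jankoY, jY_mem⟩ : ↥J1)⁆ ∈ N → N = ⊤ :=
    eq_top_of_comm_mem_of_perfect N J1_gen J1_perfect
  have case7 : (⟨jankoX, jX_mem⟩ : ↥J1) ∈ N → N = ⊤ := fun h =>
    hcomm (comm_mem_of_eq_zpow_mul N h 0 (by simp))
  have case5 : (⟨jankoY, jY_mem⟩ : ↥J1) ∈ N → N = ⊤ := fun h =>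
    hcomm (comm_mem_of_eq_mul_zpow N h 0 (by simp))
  have case11 : (⟨e11, e11_mem⟩ : ↥J1) ∈ N → N = ⊤ := fun h => by
    have he : (⟨e11, e11_mem⟩ : ↥J1) =
        (⟨jankoY, jY_mem⟩ : ↥J1) * ⟨jankoY, jY_mem⟩ * ⟨jankoX, jX_mem⟩ := rfl
    rw [he] at h
    exact hcomm (comm_mem_of_eq_zpow_mul N h (-2) (by group))
  have case19 : (⟨e19, e19_mem⟩ : ↥J1) ∈ N → N = ⊤ := fun h => by
    have he : (⟨e19, e19_mem⟩ : ↥J1) =
        (⟨jankoY, jY_mem⟩ : ↥J1) * ⟨jankoX, jX_mem⟩ * ⟨jankoX, jX_mem⟩ * ⟨jankoX, jX_mem⟩ := rfl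
    rw [he] at h
    exact hcomm (comm_mem_of_eq_mul_zpow N h (-3) (by group))
  -- a prime dividing the order of N
  have hcard : Nat.card N ≠ 1 := by
    intro h
    exact hne (Subgroup.card_eq_one.mp h)
  obtain ⟨p, hp, hpN⟩ := Nat.exists_prime_and_dvd hcard
  have hpG : p ∣ 8 * 3 * 5 * 7 * 11 * 19 := by
    have h := dvd_trans hpN (Subgroup.card_subgroup_dvd_card N)
    rw [card_J1] at h
    exact h
  have hpf : Fact p.Prime := ⟨hp⟩
  obtain ⟨x, hx⟩ := exists_prime_orderOf_dvd_card' p hpN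
  have hxN : (x : ↥J1) ∈ N := x.2
  have hxo : orderOf (x : ↥J1) = p := by rw [Subgroup.orderOf_coe]; exact hx
  have hsq : ∀ q : ℕ, q ∈ [3, 5, 7, 11, 19] → ¬ q ^ 2 ∣ Nat.card ↥J1 := by
    intro q hq
    rw [card_J1]
    simp only [List.mem_cons, List.not_mem_nil, or_false] at hq
    rcases hq with rfl | rfl | rfl | rfl | rfl <;> norm_num
  have hcases : p = 2 ∨ p = 3 ∨ p = 5 ∨ p = 7 ∨ p = 11 ∨ p = 19 := by
    rcases (Nat.Prime.dvd_mul hp).mp hpG with h | h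
    · rcases (Nat.Prime.dvd_mul hp).mp h with h | h
      · rcases (Nat.Prime.dvd_mul hp).mp h with h | h
        · rcases (Nat.Prime.dvd_mul hp).mp h with h | h
          · rcases (Nat.Prime.dvd_mul hp).mp h with h | h
            · left
              have h8 : p ∣ 2 ^ 3 := h
              exact (Nat.prime_dvd_prime_iff_eq hp Nat.prime_two).mp (hp.dvd_of_dvd_pow h8)
            · right; left
              exact (Nat.prime_dvd_prime_iff_eq hp Nat.prime_three).mp h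
          · right; right; left
            exact (Nat.prime_dvd_prime_iff_eq hp (by norm_num)).mp h
        · right; right; right; left
          exact (Nat.prime_dvd_prime_iff_eq hp (by norm_num)).mp h
      · right; right; right; right; left
        exact (Nat.prime_dvd_prime_iff_eq hp (by norm_num)).mp h
    · right; right; right; right; right
      exact (Nat.prime_dvd_prime_iff_eq hp (by norm_num)).mp h
  rcases hcases with rfl | rfl | rfl | rfl | rfl | rfl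
  · -- p = 2
    obtain ⟨e1, e2, e3, hb2, hc2, hbc, -, -, -⟩ :=
      c2cube_basic j1s_aa j1s_ta j1s_tb j1s_tc j1s_ab
    have hP : IsPGroup 2 (Subgroup.closure ({⟨j1a, j1a_mem⟩, ⟨j1b, j1b_mem⟩, ⟨j1c, j1c_mem⟩} :
        Set ↥J1)) := by
      apply isPGroup_closure_of_comm _ (c2cube_pair_comm j1s_aa j1s_ta j1s_tb j1s_tc j1s_ab j1s_ac)
      intro y hy
      rcases hy with h | h | h
      · rw [h, pow_two]; exact j1s_aa
      · rw [h, pow_two]; exact hb2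
      · rw [Set.mem_singleton_iff.mp h, pow_two]; exact hc2
    have h8 := c2cube_card j1s_aa j1s_ta j1s_tb j1s_tc j1s_ab j1s_ac j1s_ne
    have hidx : ¬ 2 ∣ (Subgroup.closure ({⟨j1a, j1a_mem⟩, ⟨j1b, j1b_mem⟩, ⟨j1c, j1c_mem⟩} :
        Set ↥J1)).index := by
      intro h2
      have h := Subgroup.card_mul_index (Subgroup.closure
        ({⟨j1a, j1a_mem⟩, ⟨j1b, j1b_mem⟩, ⟨j1c, j1c_mem⟩} : Set ↥J1))
      have h16 : 8 * 2 ∣ Nat.card ↥J1 := by rw [← h]; exact Nat.mul_dvd_mul h8 h2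
      rw [card_J1] at h16
      norm_num at h16
    obtain ⟨g, hg⟩ := exists_conj_mem_of_orderOf_prime _ hP hidx hxo
    have hy1 : g * (x : ↥J1) * g⁻¹ ≠ 1 := by
      intro h
      have hx1 : (x : ↥J1) = 1 := by
        have e : (x : ↥J1) = g⁻¹ * (g * (x : ↥J1) * g⁻¹) * g := by group
        rw [e, h]; group
      rw [hx1, orderOf_one] at hxo
      norm_num at hxo
    have haN : (⟨j1a, j1a_mem⟩ : ↥J1) ∈ N :=
      c2cube_mem_normal N j1s_aa j1s_ta j1s_tb j1s_tc j1s_ab j1s_ac hg hy1 (hN.conj_mem _ hxN g)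
    have hd : ⁅(⟨j1a, j1a_mem⟩ : ↥J1), (⟨jankoY, jY_mem⟩ : ↥J1)⁆ ∈ N := by
      have e : ⁅(⟨j1a, j1a_mem⟩ : ↥J1), (⟨jankoY, jY_mem⟩ : ↥J1)⁆ =
          (⟨j1a, j1a_mem⟩ : ↥J1) * ((⟨jankoY, jY_mem⟩ : ↥J1) * (⟨j1a, j1a_mem⟩ : ↥J1)⁻¹ *
            (⟨jankoY, jY_mem⟩ : ↥J1)⁻¹) := by
        simp only [commutatorElement_def]; group
      rw [e]
      exact N.mul_mem haN (hN.conj_mem _ (N.inv_mem haN) _)
    have hdo : orderOf ⁅(⟨j1a, j1a_mem⟩ : ↥J1), (⟨jankoY, jY_mem⟩ : ↥J1)⁆ = 19 := by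
      rw [← Subgroup.orderOf_coe]
      exact d2_order
    have hp19 : Fact (Nat.Prime 19) := ⟨by norm_num⟩
    exact case19 (mem_normal_of_orderOf_prime N (hsq 19 (by simp)) hd hdo
      (by rw [Subgroup.orderOf_mk]; exact e19_order))
  · -- p = 3
    have hg3 : (⟨g3, g3_mem⟩ : ↥J1) ∈ N :=
      mem_normal_of_orderOf_prime N (hsq 3 (by simp)) hxN hxo
        (by rw [Subgroup.orderOf_mk]; exact g3_order)
    have hd : ⁅(⟨g3, g3_mem⟩ : ↥J1), (⟨jankoY, jY_mem⟩ : ↥J1)⁆ ∈ N := by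
      have e : ⁅(⟨g3, g3_mem⟩ : ↥J1), (⟨jankoY, jY_mem⟩ : ↥J1)⁆ =
          (⟨g3, g3_mem⟩ : ↥J1) * ((⟨jankoY, jY_mem⟩ : ↥J1) * (⟨g3, g3_mem⟩ : ↥J1)⁻¹ *
            (⟨jankoY, jY_mem⟩ : ↥J1)⁻¹) := by
        simp only [commutatorElement_def]; group
      rw [e]
      exact N.mul_mem hg3 (hN.conj_mem _ (N.inv_mem hg3) _)
    have hdo : orderOf ⁅(⟨g3, g3_mem⟩ : ↥J1), (⟨jankoY, jY_mem⟩ : ↥J1)⁆ = 5 := by
      rw [← Subgroup.orderOf_coe]
      exact d3_order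
    have hp5 : Fact (Nat.Prime 5) := ⟨by norm_num⟩
    exact case5 (mem_normal_of_orderOf_prime N (hsq 5 (by simp)) hd hdo
      (by rw [Subgroup.orderOf_mk]; exact jY_order))
  · exact case5 (mem_normal_of_orderOf_prime N (hsq 5 (by simp)) hxN hxo
      (by rw [Subgroup.orderOf_mk]; exact jY_order))
  · exact case7 (mem_normal_of_orderOf_prime N (hsq 7 (by simp)) hxN hxo
      (by rw [Subgroup.orderOf_mk]; exact e7_order))
  · exact case11 (mem_normal_of_orderOf_prime N (hsq 11 (by simp)) hxN hxo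
      (by rw [Subgroup.orderOf_mk]; exact e11_order))
  · exact case19 (mem_normal_of_orderOf_prime N (hsq 19 (by simp)) hxN hxo
      (by rw [Subgroup.orderOf_mk]; exact e19_order))

theorem J1_simple : IsSimpleGroup ↥J1 := by
  have hfin : Finite ↥J1 := Nat.finite_of_card_ne_zero (by rw [card_J1]; norm_num)
  have hnt : Nontrivial ↥J1 := Finite.one_lt_card_iff_nontrivial.mp (by rw [card_J1]; norm_num)
  refine ⟨fun N hN => ?_⟩
  by_cases h : N = ⊥
  · exact Or.inl h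
  · exact Or.inr (eq_top_of_normal N h)


/-- The subgroup of GL(7, 11) generated by the two explicit Janko matrices is simple of order 175560. -/
theorem result : ∃ x y : GL (Fin 7) (ZMod 11), (x : Matrix (Fin 7) (Fin 7) (ZMod 11)) = Cfsg.jankoMatrixX ∧ (y : Matrix (Fin 7) (Fin 7) (ZMod 11)) = Cfsg.jankoMatrixY ∧ Cfsg.IsJ1 (Subgroup.closure ({x, y} : Set (GL (Fin 7) (ZMod 11)))) := by
  exact ⟨jankoX, jankoY, rfl, rfl, J1_simple, card_J1⟩

end Cfsg.Agent.S0457
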