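import Mathlib
import Cfsg.Statements.S0521
import Cfsg.Agent.Lib.Helper54.PStableOdd
import Cfsg.Agent.Lib.Helper63.FrattiniAction
import Cfsg.Agent.Lib.Helper79.SolvPSolv
import Cfsg.Agent.Lib.Helper2.FrattiniP
import Cfsg.Agent.Lib.Helper11.ZJ
import Cfsg.Agent.Lib.Helper11.Quadratic

set_option autoImplicit false
open Cfsg
open scoped commutatorElement

namespace Cfsg.Agent.S0521

open Cfsg.Agent.Lib

universe u

/-- A `p`-element `x` normalising the cyclic `p`-group `D = ⟨d₀⟩`: `[x, c]` is a `p`-th power of an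
element of `D`, for every `c ∈ D`. -/
theorem comm_mem_pow {G : Type*} [Group G] [Finite G] {p : ℕ} [Fact p.Prime] (x d₀ : G)
    (hx : ∃ m : ℕ, orderOf x = p ^ m) (hd : ∃ j : ℕ, orderOf d₀ = p ^ j)
    (hconj : x * d₀ * x⁻¹ ∈ Subgroup.zpowers d₀) (c : G) (hc : c ∈ Subgroup.zpowers d₀) :
    ∃ e ∈ Subgroup.zpowers d₀, x * c * x⁻¹ * c⁻¹ = e ^ p := by
  have hp : p.Prime := Fact.out
  obtain ⟨k, hk⟩ := Subgroup.mem_zpowers_iff.mp hconj
  obtain ⟨i, rfl⟩ := Subgroup.mem_zpowers_iff.mp hc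
  obtain ⟨m, hm⟩ := hx
  obtain ⟨j, hj⟩ := hd
  -- conjugation by x on zpowers
  have hz : ∀ e : ℤ, x * d₀ ^ e * x⁻¹ = d₀ ^ (k * e) := by
    intro e
    have h1 : x * d₀ ^ e * x⁻¹ = (x * d₀ * x⁻¹) ^ e := by
      have := map_zpow (MulAut.conj x) d₀ e
      simpa [MulAut.conj_apply] using this
    rw [h1, ← hk, ← zpow_mul]
  have hiter : ∀ n : ℕ, x ^ n * d₀ * (x ^ n)⁻¹ = d₀ ^ (k ^ n) := by
    intro n
    induction n with
    | zero => simp
    | succ n ih =>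
      have h1 : x ^ (n + 1) * d₀ * (x ^ (n + 1))⁻¹ = x * (x ^ n * d₀ * (x ^ n)⁻¹) * x⁻¹ := by
        rw [pow_succ']; group
      rw [h1, ih, hz, pow_succ']
  by_cases hj0 : j = 0
  · -- d₀ = 1
    have hd1 : d₀ = 1 := by
      rw [hj0, pow_zero] at hj
      exact orderOf_eq_one_iff.mp hj
    refine ⟨1, one_mem _, ?_⟩
    rw [hd1]; simp
  · have h2 := hiter (orderOf x)
    rw [pow_orderOf_eq_one, one_mul, inv_one, mul_one] at h2
    have h3 : d₀ ^ (k ^ orderOf x - 1) = 1 := by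
      rw [zpow_sub, zpow_one, ← h2, mul_inv_cancel]
    have h4 : (orderOf d₀ : ℤ) ∣ k ^ orderOf x - 1 := orderOf_dvd_iff_zpow_eq_one.mpr h3
    have h5 : (p : ℤ) ∣ k ^ orderOf x - 1 := by
      refine dvd_trans ?_ h4
      rw [hj]
      exact_mod_cast dvd_pow_self p hj0
    have h6 : ((k : ZMod p)) ^ (p ^ m) = 1 := by
      have := (ZMod.intCast_zmod_eq_zero_iff_dvd (k ^ orderOf x - 1) p).mpr h5
      rw [hm] at this
      push_cast at this
      exact sub_eq_zero.mp this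
    have h7 : (k : ZMod p) = 1 := by
      rw [ZMod.pow_card_pow] at h6
      exact h6
    have h8 : (p : ℤ) ∣ k - 1 := by
      have : ((k - 1 : ℤ) : ZMod p) = 0 := by push_cast; rw [h7, sub_self]
      exact (ZMod.intCast_zmod_eq_zero_iff_dvd (k - 1) p).mp this
    obtain ⟨t, ht⟩ := h8
    refine ⟨d₀ ^ (t * i), Subgroup.zpow_mem _ (Subgroup.mem_zpowers d₀) _, ?_⟩
    rw [hz, ← zpow_neg, ← zpow_add, ← zpow_natCast, ← zpow_mul]
    congr 1
    have : k = 1 + p * t := by linarith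
    rw [this]; ring

/-- Reduced case: `O_{p'}(G) = 1`. -/
theorem core_case {G : Type u} [Group G] [Finite G] [Group.IsSolvable G]
    (hodd : Odd (Nat.card G)) (p : ℕ) [Fact p.Prime] (hp : p ≠ 2)
    (h0 : Cfsg.pPrimeCore p G = ⊥) (S : Sylow p G)
    (hS : ∃ c₀ : G, ∀ u ∈ (S : Subgroup G), ∀ v ∈ (S : Subgroup G), ⁅u, v⁆ ∈ Subgroup.zpowers c₀) :
    (S : Subgroup G) ≤ Cfsg.pCore p G := by
  obtain ⟨c₀, hc₀⟩ := hS
  have hQn : (Cfsg.pCore p G).Normal := Helper11.pCore_normal' p G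
  have hQp : IsPGroup p (Cfsg.pCore p G) := Helper11.pCore_isPGroup' p G
  have hQS : Cfsg.pCore p G ≤ (S : Subgroup G) := by
    have h1 : IsPGroup p (Cfsg.pCore p G ⊔ (S : Subgroup G) : Subgroup G) :=
      IsPGroup.to_sup_of_normal_left hQp S.2
    have h2 := S.is_maximal' h1 le_sup_right
    rw [← h2]; exact le_sup_left
  have hΦn : ((frattini ↥(Cfsg.pCore p G)).map (Cfsg.pCore p G).subtype).Normal :=
    ConjAct.normal_of_characteristic_of_normal
  have hl : ∃ k, Cfsg.PLengthLE p k G :=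
    Helper63.exists_plengthLE_of_isPSolvable (Helper79.isPSolvable_of_isSolvable p inferInstance)
  generalize hΦ : (frattini ↥(Cfsg.pCore p G)).map (Cfsg.pCore p G).subtype = Φ at hΦn
  have hpowΦ : ∀ y ∈ Cfsg.pCore p G, y ^ p ∈ Φ := by
    intro y hy
    rw [← hΦ]
    exact ⟨⟨y, hy⟩ ^ p, Helper2.pow_mem_frattini hQp ⟨y, hy⟩, rfl⟩
  -- the quotient by Φ
  have hVn : ((Cfsg.pCore p G).map (QuotientGroup.mk' Φ)).Normal :=
    Subgroup.Normal.map hQn _ (QuotientGroup.mk'_surjective Φ)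
  have hVp : IsPGroup p ((Cfsg.pCore p G).map (QuotientGroup.mk' Φ)) := hQp.map _
  have hNtop : Subgroup.normalizer (((Cfsg.pCore p G).map (QuotientGroup.mk' Φ) : Subgroup (G ⧸ Φ)) : Set (G ⧸ Φ)) = ⊤ :=
    Subgroup.normalizer_eq_top_iff.mpr hVn
  have hmemN : ∀ g : G, QuotientGroup.mk' Φ g ∈
      Subgroup.normalizer (((Cfsg.pCore p G).map (QuotientGroup.mk' Φ) : Subgroup (G ⧸ Φ)) : Set (G ⧸ Φ)) := by
    intro g; rw [hNtop]; exact Subgroup.mem_top _
  have hodd₁ : Odd (Nat.card (G ⧸ Φ)) := Odd.of_dvd_nat hodd (Subgroup.card_quotient_dvd_card Φ)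
  let ψ : G →* _ := (QuotientGroup.mk' ((Subgroup.centralizer
      (((Cfsg.pCore p G).map (QuotientGroup.mk' Φ) : Subgroup (G ⧸ Φ)) : Set (G ⧸ Φ))).subgroupOf
      (Subgroup.normalizer (((Cfsg.pCore p G).map (QuotientGroup.mk' Φ) : Subgroup (G ⧸ Φ)) : Set (G ⧸ Φ))))).comp
    ((QuotientGroup.mk' Φ).codRestrict _ hmemN)
  have hker : ψ.ker ≤ Cfsg.pCore p G := by
    intro g hg
    apply Helper63.mem_pCore_of_trivial_on_frattini h0 hl g
    intro r hr
    rw [hΦ]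
    have h1 : (QuotientGroup.mk' Φ).codRestrict _ hmemN g ∈ (Subgroup.centralizer
      (((Cfsg.pCore p G).map (QuotientGroup.mk' Φ) : Subgroup (G ⧸ Φ)) : Set (G ⧸ Φ))).subgroupOf
      (Subgroup.normalizer (((Cfsg.pCore p G).map (QuotientGroup.mk' Φ) : Subgroup (G ⧸ Φ)) : Set (G ⧸ Φ))) := by
      have := MonoidHom.mem_ker.mp hg
      exact (QuotientGroup.eq_one_iff _).mp this
    rw [Subgroup.mem_subgroupOf, Subgroup.mem_centralizer_iff] at h1
    have h2 := h1 (QuotientGroup.mk' Φ r) ⟨r, hr, rfl⟩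
    have h3 : QuotientGroup.mk' Φ (g * r * g⁻¹ * r⁻¹) = 1 := by
      have h4 : QuotientGroup.mk' Φ r * QuotientGroup.mk' Φ g = QuotientGroup.mk' Φ g * QuotientGroup.mk' Φ r := h2
      rw [map_mul, map_mul, map_mul, map_inv, map_inv, ← h4]
      group
    exact (QuotientGroup.eq_one_iff _).mp h3
  have hKp : IsPGroup p ((Cfsg.pCore p _).comap ψ) :=
    IsPGroup.comap_of_ker_isPGroup (Helper11.pCore_isPGroup' p _) ψ (hQp.to_le hker)
  have hKn : ((Cfsg.pCore p _).comap ψ).Normal := (Helper11.pCore_normal' p _).comap ψ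
  have hKQ : (Cfsg.pCore p _).comap ψ ≤ Cfsg.pCore p G := Helper11.le_pCore' hKn hKp
  intro x hx
  apply hKQ
  rw [Subgroup.mem_comap]
  -- quadratic action of the image of x
  have hq : Helper54.Quad ((Cfsg.pCore p G).map (QuotientGroup.mk' Φ)) (QuotientGroup.mk' Φ x) := by
    rintro _ ⟨r, hr, rfl⟩
    -- c = ⁅r, x⁆ ∈ zpowers c₀ ⊓ Q
    have hrS : r ∈ (S : Subgroup G) := hQS hr
    have hcQ : ⁅r, x⁆ ∈ Cfsg.pCore p G := by
      rw [commutatorElement_def]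
      have := hQn.conj_mem r⁻¹ (inv_mem hr) x
      have e : r * x * r⁻¹ * x⁻¹ = r * (x * r⁻¹ * x⁻¹) := by group
      rw [e]
      exact mul_mem hr this
    -- generator of D = zpowers c₀ ⊓ Q
    obtain ⟨d, hd⟩ := (inferInstance : IsCyclic ↥((Subgroup.zpowers c₀ ⊓ Cfsg.pCore p G).subgroupOf (Subgroup.zpowers c₀)))
    have hdD : ((d : ↥(Subgroup.zpowers c₀)) : G) ∈ Subgroup.zpowers c₀ ⊓ Cfsg.pCore p G :=
      Subgroup.mem_subgroupOf.mp d.2
    have hgen : ∀ y ∈ Subgroup.zpowers c₀ ⊓ Cfsg.pCore p G,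
        y ∈ Subgroup.zpowers ((d : ↥(Subgroup.zpowers c₀)) : G) := by
      intro y hy
      obtain ⟨k, hk⟩ := Subgroup.mem_zpowers_iff.mp
        (hd ⟨⟨y, hy.1⟩, Subgroup.mem_subgroupOf.mpr hy⟩)
      rw [Subgroup.mem_zpowers_iff]
      refine ⟨k, ?_⟩
      have := congrArg (fun z : ↥((Subgroup.zpowers c₀ ⊓ Cfsg.pCore p G).subgroupOf (Subgroup.zpowers c₀)) =>
        ((z : ↥(Subgroup.zpowers c₀)) : G)) hk
      simpa using this
    set d₀ : G := ((d : ↥(Subgroup.zpowers c₀)) : G) with hd₀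
    have hd₀S : d₀ ∈ (S : Subgroup G) := hQS hdD.2
    have hxd : x * d₀ * x⁻¹ ∈ Subgroup.zpowers d₀ := by
      apply hgen
      refine ⟨?_, hQn.conj_mem d₀ hdD.2 x⟩
      have e : x * d₀ * x⁻¹ = ⁅x, d₀⁆ * d₀ := by rw [commutatorElement_def]; group
      rw [e]
      exact mul_mem (hc₀ x hx d₀ hd₀S) hdD.1
    have hxo : ∃ m : ℕ, orderOf x = p ^ m := by
      obtain ⟨m, hm⟩ := (IsPGroup.iff_orderOf.mp S.2) ⟨x, hx⟩
      exact ⟨m, by rw [← hm, Subgroup.orderOf_mk]⟩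
    have hdo : ∃ j : ℕ, orderOf d₀ = p ^ j := by
      obtain ⟨m, hm⟩ := (IsPGroup.iff_orderOf.mp S.2) ⟨d₀, hd₀S⟩
      exact ⟨m, by rw [← hm, Subgroup.orderOf_mk]⟩
    obtain ⟨e, he, hee⟩ := comm_mem_pow x d₀ hxo hdo hxd ⁅r, x⁆ (hgen _ ⟨hc₀ r hrS x hx, hcQ⟩)
    have heQ : e ∈ Cfsg.pCore p G := by
      obtain ⟨k, rfl⟩ := Subgroup.mem_zpowers_iff.mp he
      exact Subgroup.zpow_mem _ hdD.2 k
    have hΦmem : x * ⁅r, x⁆ * x⁻¹ * ⁅r, x⁆⁻¹ ∈ Φ := by rw [hee]; exact hpowΦ e heQ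
    have h3 : QuotientGroup.mk' Φ (x * ⁅r, x⁆ * x⁻¹ * ⁅r, x⁆⁻¹) = 1 :=
      (QuotientGroup.eq_one_iff _).mpr hΦmem
    rw [← map_commutatorElement, ← map_mul, ← map_mul]
    have h4 : x * ⁅r, x⁆ = (x * ⁅r, x⁆ * x⁻¹ * ⁅r, x⁆⁻¹) * (⁅r, x⁆ * x) := by group
    rw [h4, map_mul, h3, one_mul]
  exact Helper54.quad_mem_pCore hodd₁ p hp _ hVp (QuotientGroup.mk' Φ x) (hmemN x) hq

theorem result {X : Type*} [Group X] [Finite X] [Group.IsSolvable X]
    (hX : Odd (Nat.card X)) (p : ℕ) [Fact p.Prime] (S : Sylow p X) (hS : IsCyclic (commutator (S : Subgroup X))) :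
    (Cfsg.pPrimeCore p X ⊔ (S : Subgroup X)).Normal := by
  by_cases hp : p = 2
  · subst hp
    have hSbot : (S : Subgroup X) = ⊥ := by
      rw [← Subgroup.card_eq_one]
      obtain ⟨n, hn⟩ := IsPGroup.iff_card.mp S.2
      have hdvd : Nat.card (S : Subgroup X) ∣ Nat.card X := Subgroup.card_subgroup_dvd_card _
      have hoddS : Odd (Nat.card (S : Subgroup X)) := Odd.of_dvd_nat hX hdvd
      rw [hn] at hoddS ⊢
      rcases Nat.eq_zero_or_pos n with h | h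
      · rw [h, pow_zero]
      · exfalso
        have : Even (2 ^ n) := (Nat.even_pow.mpr ⟨even_two, h.ne'⟩)
        exact (Nat.not_even_iff_odd.mpr hoddS) this
    rw [hSbot, sup_bot_eq]
    infer_instance
  · have hsurj : Function.Surjective (QuotientGroup.mk' (Cfsg.pPrimeCore p X)) :=
      QuotientGroup.mk'_surjective _
    have h0 := Helper63.pPrimeCore_quotient_eq_bot p X
    have hodd₁ : Odd (Nat.card (X ⧸ Cfsg.pPrimeCore p X)) :=
      Odd.of_dvd_nat hX (Subgroup.card_quotient_dvd_card _)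
    -- cyclic derived subgroup, elementwise
    obtain ⟨g, hg⟩ := hS.exists_generator
    have hc : ∀ u ∈ (S : Subgroup X), ∀ v ∈ (S : Subgroup X),
        ⁅u, v⁆ ∈ Subgroup.zpowers (((g : ↥(S : Subgroup X)) : X)) := by
      intro u hu v hv
      have h1 : ⁅(⟨u, hu⟩ : ↥(S : Subgroup X)), (⟨v, hv⟩ : ↥(S : Subgroup X))⁆ ∈ commutator ↥(S : Subgroup X) := by
        rw [commutator_def]
        exact Subgroup.commutator_mem_commutator (Subgroup.mem_top _) (Subgroup.mem_top _)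
      obtain ⟨k, hk⟩ := Subgroup.mem_zpowers_iff.mp (hg ⟨_, h1⟩)
      rw [Subgroup.mem_zpowers_iff]
      refine ⟨k, ?_⟩
      have := congrArg (fun z : ↥(commutator ↥(S : Subgroup X)) => ((z : ↥(S : Subgroup X)) : X)) hk
      simpa [commutatorElement_def] using this
    have hcase := core_case hodd₁ p hp h0 (S.mapSurjective hsurj)
      ⟨QuotientGroup.mk' _ ((g : ↥(S : Subgroup X)) : X), by
        rintro _ ⟨u, hu, rfl⟩ _ ⟨v, hv, rfl⟩
        rw [← map_commutatorElement]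
        obtain ⟨k, hk⟩ := Subgroup.mem_zpowers_iff.mp (hc u hu v hv)
        rw [Subgroup.mem_zpowers_iff]
        exact ⟨k, by rw [← hk, map_zpow]⟩⟩
    have hQp : IsPGroup p (Cfsg.pCore p (X ⧸ Cfsg.pPrimeCore p X)) := Helper11.pCore_isPGroup' p _
    have heq : Cfsg.pCore p (X ⧸ Cfsg.pPrimeCore p X) = ((S.mapSurjective hsurj : Sylow p _) : Subgroup _) :=
      (S.mapSurjective hsurj).is_maximal' hQp hcase
    have hn : (((S.mapSurjective hsurj : Sylow p _) : Subgroup (X ⧸ Cfsg.pPrimeCore p X))).Normal := by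
      rw [← heq]; exact Helper11.pCore_normal' p _
    have hcomap : Cfsg.pPrimeCore p X ⊔ (S : Subgroup X) =
        (((S.mapSurjective hsurj : Sylow p _) : Subgroup (X ⧸ Cfsg.pPrimeCore p X))).comap
          (QuotientGroup.mk' (Cfsg.pPrimeCore p X)) := by
      rw [Sylow.coe_mapSurjective, Subgroup.comap_map_eq, QuotientGroup.ker_mk', sup_comm]
    rw [hcomap]
    exact hn.comap _

end Cfsg.Agent.S0521
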