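import Cfsg.Statements.S0563
import Mathlib
import Cfsg.Agent.Lib.Helper57.WieE
import Cfsg.Agent.S0561

set_option autoImplicit false
set_option linter.style.haveILetI false
open Pointwise
open Cfsg

namespace Cfsg.Agent.S0563

open Cfsg.Agent.Lib.Helper57.Wie

universe u

/-- Wielandt: a finite product of two nilpotent subgroups of coprime orders is solvable -/
theorem solvable_aux : ∀ (n : ℕ) (G : Type u) [Group G] [Finite G] (A B : Subgroup G),
    Nat.card G = n → Cfg A B → Group.IsSolvable G := by
  intro n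
  induction n using Nat.strong_induction_on with
  | _ n ih =>
  intro G _ _ A B hn hcfg
  by_contra hns
  have hih : ∀ S : Subgroup G, S ≠ ⊤ → Fac A B S → Group.IsSolvable S := by
    intro S hS hfac
    have hlt : Nat.card S < n := by
      rw [← hn]
      by_contra hge
      push Not at hge
      exact hS (Subgroup.eq_top_of_le_card S hge)
    refine ih (Nat.card S) hlt S ((A ⊓ S).subgroupOf S) ((B ⊓ S).subgroupOf S) rfl ?_
    refine ⟨?_, ?_, ?_, ?_⟩
    · haveI := nil_of_le hcfg.nilA (inf_le_left : A ⊓ S ≤ A)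
      exact Group.nilpotent_of_mulEquiv
        (Subgroup.subgroupOfEquivOfLe (inf_le_right : A ⊓ S ≤ S)).symm
    · haveI := nil_of_le hcfg.nilB (inf_le_left : B ⊓ S ≤ B)
      exact Group.nilpotent_of_mulEquiv
        (Subgroup.subgroupOfEquivOfLe (inf_le_right : B ⊓ S ≤ S)).symm
    · rw [Nat.card_congr (Subgroup.subgroupOfEquivOfLe (inf_le_right : A ⊓ S ≤ S)).toEquiv,
        Nat.card_congr (Subgroup.subgroupOfEquivOfLe (inf_le_right : B ⊓ S ≤ S)).toEquiv]
      exact hcfg.cop_inf S S
    · intro g
      obtain ⟨a, ha, b, hb, e⟩ := hfac g.1 g.2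
      exact ⟨⟨a, ha.2⟩, Subgroup.mem_subgroupOf.2 ha, ⟨b, hb.2⟩, Subgroup.mem_subgroupOf.2 hb,
        Subtype.ext e⟩
  have hsimple : IsSimpleGroup G := by
    haveI : Nontrivial G := by
      by_contra hnt
      rw [not_nontrivial_iff_subsingleton] at hnt
      exact hns inferInstance
    refine IsSimpleGroup.mk (fun N hN => ?_)
    by_contra hcon
    push Not at hcon
    obtain ⟨hNbot, hNtop⟩ := hcon
    have hfacN : Fac A B N := by
      intro s hs
      obtain ⟨a, ha, b, hb, e⟩ := hcfg.fact s
      have h1 : (QuotientGroup.mk' N a) = (QuotientGroup.mk' N b)⁻¹ := by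
        have h0 : QuotientGroup.mk' N (a * b) = 1 := by
          rw [← e]; exact (QuotientGroup.eq_one_iff s).2 hs
        rw [map_mul] at h0
        exact eq_inv_of_mul_eq_one_left h0
      have h2 : orderOf (QuotientGroup.mk' N a) ∣ Nat.card A :=
        (orderOf_map_dvd _ a).trans (Subgroup.orderOf_dvd_natCard A ha)
      have h3 : orderOf (QuotientGroup.mk' N a) ∣ Nat.card B := by
        rw [h1, orderOf_inv]
        exact (orderOf_map_dvd _ b).trans (Subgroup.orderOf_dvd_natCard B hb)
      have h4 : orderOf (QuotientGroup.mk' N a) = 1 :=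
        Nat.eq_one_of_dvd_coprimes hcfg.cop h2 h3
      have haN : a ∈ N := (QuotientGroup.eq_one_iff a).1 (orderOf_eq_one_iff.1 h4)
      have hbN : b ∈ N := by
        have e2 : b = a⁻¹ * s := by rw [e]; group
        rw [e2]; exact N.mul_mem (N.inv_mem haN) hs
      exact ⟨a, ⟨ha, haN⟩, b, ⟨hb, hbN⟩, e⟩
    haveI hNs : Group.IsSolvable N := hih N hNtop hfacN
    haveI hQs : Group.IsSolvable (G ⧸ N) := by
      have hlt : Nat.card (G ⧸ N) < n := by
        rw [← hn, Subgroup.card_eq_card_quotient_mul_card_subgroup N]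
        have h1 : 1 < Nat.card N := (Subgroup.one_lt_card_iff_ne_bot N).2 hNbot
        have h2 : 0 < Nat.card (G ⧸ N) := Nat.card_pos
        nlinarith
      refine ih (Nat.card (G ⧸ N)) hlt (G ⧸ N) (A.map (QuotientGroup.mk' N))
        (B.map (QuotientGroup.mk' N)) rfl ?_
      refine ⟨?_, ?_, ?_, ?_⟩
      · haveI := hcfg.nilA
        exact Group.nilpotent_of_surjective ((QuotientGroup.mk' N).subgroupMap A)
          ((QuotientGroup.mk' N).subgroupMap_surjective A)
      · haveI := hcfg.nilB
        exact Group.nilpotent_of_surjective ((QuotientGroup.mk' N).subgroupMap B)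
          ((QuotientGroup.mk' N).subgroupMap_surjective B)
      · exact Nat.Coprime.coprime_dvd_left (Subgroup.card_map_dvd A _)
          (Nat.Coprime.coprime_dvd_right (Subgroup.card_map_dvd B _) hcfg.cop)
      · intro g
        obtain ⟨g', rfl⟩ := QuotientGroup.mk'_surjective N g
        obtain ⟨a, ha, b, hb, e⟩ := hcfg.fact g'
        exact ⟨_, Subgroup.mem_map_of_mem _ ha, _, Subgroup.mem_map_of_mem _ hb,
          by rw [e, map_mul]⟩
    exact hns (Group.isSolvable_of_ker_le_range N.subtype (QuotientGroup.mk' N)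
      (by rw [QuotientGroup.ker_mk', Subgroup.range_subtype]))
  exact (MinCex.mk hcfg hsimple hns hih).false

theorem le_normalizer_map_sylow {G : Type*} [Group G] [Finite G] {A : Subgroup G}
    (hA : Group.IsNilpotent A) {p : ℕ} [Fact p.Prime] (P : Sylow p A) :
    A ≤ Subgroup.normalizer (((P : Subgroup A).map A.subtype : Subgroup G) : Set G) := by
  have hn0 : ∀ (q : ℕ), Fact (Nat.Prime q) → ∀ (Q : Sylow q A), (Q : Subgroup A).Normal :=
    ((Group.isNilpotent_of_finite_tfae (G := A)).out 0 3).1 hA
  have hn : (P : Subgroup A).Normal := hn0 p inferInstance P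
  apply le_normalizer_of_conj_mem
  intro a ha x hx
  obtain ⟨y, hy, rfl⟩ := Subgroup.mem_map.1 hx
  exact Subgroup.mem_map.2 ⟨⟨a, ha⟩ * y * ⟨a, ha⟩⁻¹, hn.conj_mem y hy ⟨a, ha⟩, by simp⟩

theorem hall_map_sylow {G : Type*} [Group G] [Finite G] {A B : Subgroup G} (hcfg : Cfg A B)
    {p : ℕ} [Fact p.Prime] (P : Sylow p A) :
    (Nat.card ((P : Subgroup A).map A.subtype : Subgroup G)).Coprime
      ((P : Subgroup A).map A.subtype : Subgroup G).index := by
  have hcard : Nat.card ((P : Subgroup A).map A.subtype : Subgroup G) =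
      Nat.card (P : Subgroup A) :=
    (Nat.card_congr (Subgroup.equivMapOfInjective _ _ A.subtype_injective).toEquiv).symm
  have h1 := Subgroup.card_mul_index ((P : Subgroup A).map A.subtype : Subgroup G)
  have h2 := Subgroup.card_mul_index (P : Subgroup A)
  have hidx : ((P : Subgroup A).map A.subtype : Subgroup G).index =
      (P : Subgroup A).index * Nat.card B := by
    apply Nat.eq_of_mul_eq_mul_left
      (Nat.card_pos : 0 < Nat.card ((P : Subgroup A).map A.subtype : Subgroup G))
    rw [h1, hcfg.card_eq, ← h2, hcard, mul_assoc]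
  rw [hidx]
  apply Nat.Coprime.mul_right
  · rw [hcard]
    obtain ⟨k, hk⟩ := IsPGroup.iff_card.1 P.isPGroup'
    rw [hk]
    exact Nat.Coprime.pow_left k ((Nat.Prime.coprime_iff_not_dvd Fact.out).2 P.not_dvd_index)
  · have hd : Nat.card ((P : Subgroup A).map A.subtype : Subgroup G) ∣ Nat.card A := by
      rw [hcard]; exact Subgroup.card_subgroup_dvd_card _
    exact Nat.Coprime.coprime_dvd_left hd hcfg.cop

/-- If a finite group G is the product AB of two nilpotent subgroups of coprime orders, then G is solvable, and for every Sylow p-subgroup P of A and Sylow q-subgroup Q of B the product set PQ is a subgroup. -/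
theorem result {G : Type*} [Group G] [Finite G] (A B : Subgroup G) (hA : Group.IsNilpotent A) (hB : Group.IsNilpotent B) (hcop : (Nat.card A).Coprime (Nat.card B)) (hAB : ∀ g : G, ∃ a ∈ A, ∃ b ∈ B, g = a * b) : Group.IsSolvable G ∧ ∀ (p q : ℕ) [Fact p.Prime] [Fact q.Prime] (P : Sylow p A) (Q : Sylow q B), ∃ S : Subgroup G, (S : Set G) = (((P : Subgroup A).map A.subtype : Subgroup G) : Set G) * (((Q : Subgroup B).map B.subtype : Subgroup G) : Set G) := by
  have hcfg : Cfg A B := ⟨hA, hB, hcop, hAB⟩
  have hsolv : Group.IsSolvable G := solvable_aux _ G A B rfl hcfg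
  refine ⟨hsolv, ?_⟩
  intro p q _ _ P Q
  haveI := hsolv
  obtain ⟨S, hS⟩ := Cfsg.Agent.S0561.result A B ((P : Subgroup A).map A.subtype)
    ((Q : Subgroup B).map B.subtype) hAB (Subgroup.map_subtype_le _)
    ((Subgroup.normal_subgroupOf_iff_le_normalizer (Subgroup.map_subtype_le _)).2
      (le_normalizer_map_sylow hA P))
    (Subgroup.map_subtype_le _)
    ((Subgroup.normal_subgroupOf_iff_le_normalizer (Subgroup.map_subtype_le _)).2
      (le_normalizer_map_sylow hB Q))
    (hall_map_sylow hcfg P) (hall_map_sylow hcfg.symm Q) 1 1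
  rw [map_one, one_smul, one_smul] at hS
  exact ⟨S, hS⟩

end Cfsg.Agent.S0563
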