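import Mathlib
import Cfsg.Statements.S0564
import Cfsg.Agent.S0560
import Cfsg.Agent.S0563
import Cfsg.Agent.Lib.Helper64.Kegel

set_option autoImplicit false
open Cfsg

namespace Cfsg.Agent.S0564

open Pointwise
open Cfsg.Agent.Lib.Helper64.Kegel

universe u

/-- Kegel–Wielandt, by induction on the order -/
theorem solvable_aux : ∀ (n : ℕ) (G : Type u) [Group G] [Finite G] (A B : Subgroup G),
    Nat.card G = n → Group.IsNilpotent A → Group.IsNilpotent B →
    (∀ g : G, ∃ a ∈ A, ∃ b ∈ B, g = a * b) → Group.IsSolvable G := by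
  intro n
  induction n using Nat.strong_induction_on with
  | _ n ih =>
  intro G _ _ A B hn hA hB hAB
  have hquot : ∀ (N : Subgroup G) [N.Normal], N ≠ ⊥ → Group.IsSolvable (G ⧸ N) := by
    intro N hN hne
    have hlt : Nat.card (G ⧸ N) < n := by
      have h1 := Subgroup.card_eq_card_quotient_mul_card_subgroup N
      have h2 : 1 < Nat.card N := (Subgroup.one_lt_card_iff_ne_bot (H := N)).mpr hne
      have h3 : 0 < Nat.card (G ⧸ N) := Nat.card_pos
      rw [← hn, h1]
      nlinarith
    refine ih _ hlt (G ⧸ N) (A.map (QuotientGroup.mk' N)) (B.map (QuotientGroup.mk' N)) rfl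
      ?_ ?_ ?_
    · exact Group.nilpotent_of_surjective ((QuotientGroup.mk' N).subgroupMap A)
        ((QuotientGroup.mk' N).subgroupMap_surjective A)
    · exact Group.nilpotent_of_surjective ((QuotientGroup.mk' N).subgroupMap B)
        ((QuotientGroup.mk' N).subgroupMap_surjective B)
    · intro g
      obtain ⟨g, rfl⟩ := QuotientGroup.mk'_surjective N g
      obtain ⟨a, ha, b, hb, rfl⟩ := hAB g
      exact ⟨_, Subgroup.mem_map_of_mem _ ha, _, Subgroup.mem_map_of_mem _ hb, map_mul _ _ _⟩
  by_cases hcop : (Nat.card A).Coprime (Nat.card B)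
  · exact (Cfsg.Agent.S0563.result A B hA hB hcop hAB).1
  · obtain ⟨p, hp, hpA, hpB⟩ := Nat.Prime.not_coprime_iff_dvd.mp hcop
    have : Fact p.Prime := ⟨hp⟩
    obtain ⟨P, Q, R, hR⟩ := Cfsg.Agent.S0560.result A B hAB p
    obtain ⟨X, hX⟩ : ∃ X : Subgroup G, X = (P : Subgroup A).map A.subtype := ⟨_, rfl⟩
    obtain ⟨Y, hY⟩ : ∃ Y : Subgroup G, Y = (Q : Subgroup B).map B.subtype := ⟨_, rfl⟩
    rw [← hX, ← hY] at hR
    have hXp : IsPGroup p X := by rw [hX]; exact P.isPGroup'.map _
    have hYp : IsPGroup p Y := by rw [hY]; exact Q.isPGroup'.map _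
    have hXne : X ≠ ⊥ := by
      rw [hX]
      intro h
      rw [Subgroup.map_eq_bot_iff_of_injective _ A.subtype_injective] at h
      exact P.ne_bot_of_dvd_card hpA h
    have hYne : Y ≠ ⊥ := by
      rw [hY]
      intro h
      rw [Subgroup.map_eq_bot_iff_of_injective _ B.subtype_injective] at h
      exact Q.ne_bot_of_dvd_card hpB h
    have hAi : Group.IsNilpotent A := hA
    have hBi : Group.IsNilpotent B := hB
    have hPn : (P : Subgroup A).Normal := inferInstance
    have hQn : (Q : Subgroup B).Normal := inferInstance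
    have hXA : ∀ a ∈ A, MulAut.conj a • X = X := by
      have key : ∀ a ∈ A, ∀ y ∈ X, a * y * a⁻¹ ∈ X := by
        intro a ha y hy
        rw [hX] at hy ⊢
        obtain ⟨y', hy', rfl⟩ := Subgroup.mem_map.mp hy
        exact Subgroup.mem_map.mpr ⟨⟨a, ha⟩ * y' * ⟨a, ha⟩⁻¹, hPn.conj_mem y' hy' ⟨a, ha⟩, rfl⟩
      intro a ha
      apply conj_smul_eq_of_forall X a (key a ha)
      intro y hy
      have := key a⁻¹ (A.inv_mem ha) y hy
      rwa [inv_inv] at this
    have hYB : ∀ b ∈ B, MulAut.conj b • Y = Y := by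
      have key : ∀ b ∈ B, ∀ y ∈ Y, b * y * b⁻¹ ∈ Y := by
        intro b hb y hy
        rw [hY] at hy ⊢
        obtain ⟨y', hy', rfl⟩ := Subgroup.mem_map.mp hy
        exact Subgroup.mem_map.mpr ⟨⟨b, hb⟩ * y' * ⟨b, hb⟩⁻¹, hQn.conj_mem y' hy' ⟨b, hb⟩, rfl⟩
      intro b hb
      apply conj_smul_eq_of_forall Y b (key b hb)
      intro y hy
      have := key b⁻¹ (B.inv_mem hb) y hy
      rwa [inv_inv] at this
    have hperm0 : Perm X Y := perm_of_mul_eq hR
    have hperm : ∀ g h : G, Perm (MulAut.conj g • X) (MulAut.conj h • Y) := by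
      intro g h
      obtain ⟨a, ha, b, hb, hgh⟩ := hAB (g⁻¹ * h)
      have e1 : MulAut.conj g • X = MulAut.conj (g * a) • X := by
        rw [map_mul, mul_smul, hXA a ha]
      have e2 : MulAut.conj h • Y = MulAut.conj (g * a) • Y := by
        have h1 : g * a = h * b⁻¹ := by
          have h2 : h = g * (g⁻¹ * h) := by group
          rw [h2, hgh]; group
        rw [h1, map_mul, mul_smul, hYB b⁻¹ (B.inv_mem hb)]
      rw [e1, e2]
      exact hperm0.conj (g * a)
    rcases kegel_dichotomy p X Y hXp hYp hperm with ⟨Z, hZn, hZne, hZp⟩ | hcomm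
    · have h1 : Group.IsSolvable Z := by
        have : Group.IsNilpotent Z := hZp.isNilpotent
        infer_instance
      have h2 : Group.IsSolvable (G ⧸ Z) := hquot Z hZne
      exact Group.isSolvable_of_ker_le_range Z.subtype (QuotientGroup.mk' Z) (by simp)
    · obtain ⟨V, hV⟩ : ∃ V : Subgroup G, V = Subgroup.normalClosure (X : Set G) := ⟨_, rfl⟩
      obtain ⟨W, hW⟩ : ∃ W : Subgroup G, W = Subgroup.normalClosure (Y : Set G) := ⟨_, rfl⟩
      rw [← hV, ← hW] at hcomm
      have hVn : V.Normal := by rw [hV]; infer_instance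
      have hWn : W.Normal := by rw [hW]; infer_instance
      have hVne : V ≠ ⊥ := by
        intro h
        apply hXne
        rw [eq_bot_iff, ← h, hV]
        exact Subgroup.le_normalClosure
      have hWne : W ≠ ⊥ := by
        intro h
        apply hYne
        rw [eq_bot_iff, ← h, hW]
        exact Subgroup.le_normalClosure
      have h1 : Group.IsSolvable (G ⧸ V) := hquot V hVne
      have h2 : Group.IsSolvable (G ⧸ W) := hquot W hWne
      have h3 : Group.IsSolvable (V ⊓ W : Subgroup G) :=
        Group.isSolvable_of_comm (fun a b => Subtype.ext (hcomm a.1 a.2.1 b.1 b.2.2))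
      refine Group.isSolvable_of_ker_le_range (V ⊓ W : Subgroup G).subtype
        ((QuotientGroup.mk' V).prod (QuotientGroup.mk' W)) ?_
      rw [MonoidHom.ker_prod, QuotientGroup.ker_mk', QuotientGroup.ker_mk', Subgroup.range_subtype]

/-- The Kegel–Wielandt Theorem: a finite group G = AB with A and B nilpotent subgroups is solvable. -/
theorem result {G : Type*} [Group G] [Finite G] (A B : Subgroup G) (hA : Group.IsNilpotent A) (hB : Group.IsNilpotent B) (hAB : ∀ g : G, ∃ a ∈ A, ∃ b ∈ B, g = a * b) : Group.IsSolvable G := by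
  exact solvable_aux _ G A B rfl hA hB hAB

end Cfsg.Agent.S0564
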