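import Mathlib
import Cfsg.Statements.S0565
import Cfsg.Agent.S0564

set_option autoImplicit false
open Cfsg

namespace Cfsg.Agent.S0565

universe u

/-- pull back a proper normal subgroup from a quotient -/
theorem pullback {G : Type u} [Group G] (A B : Subgroup G) (M : Subgroup G) [M.Normal]
    (h : ∃ K : Subgroup (G ⧸ M), K.Normal ∧ K ≠ ⊤ ∧
      (A.map (QuotientGroup.mk' M) ≤ K ∨ B.map (QuotientGroup.mk' M) ≤ K)) :
    ∃ N : Subgroup G, N.Normal ∧ N ≠ ⊤ ∧ (A ≤ N ∨ B ≤ N) := by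
  obtain ⟨K, hKn, hKne, hK⟩ := h
  refine ⟨K.comap (QuotientGroup.mk' M), hKn.comap _, ?_, ?_⟩
  · intro htop
    apply hKne
    rw [eq_top_iff]
    intro q _
    obtain ⟨g, rfl⟩ := QuotientGroup.mk'_surjective M q
    have : g ∈ K.comap (QuotientGroup.mk' M) := by rw [htop]; exact Subgroup.mem_top g
    exact this
  · rcases hK with h | h
    · left; exact Subgroup.map_le_iff_le_comap.mp h
    · right; exact Subgroup.map_le_iff_le_comap.mp h

/-- if the image of `C` in `G ⧸ M` is everything then `G = C M` -/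
theorem exists_mul_of_map_eq_top {G : Type u} [Group G] (C M : Subgroup G) [M.Normal]
    (htop : C.map (QuotientGroup.mk' M) = ⊤) (g : G) : ∃ c ∈ C, ∃ m ∈ M, g = c * m := by
  have h1 : (QuotientGroup.mk' M g) ∈ C.map (QuotientGroup.mk' M) := by
    rw [htop]; exact Subgroup.mem_top _
  obtain ⟨c, hc, hcg⟩ := Subgroup.mem_map.mp h1
  refine ⟨c, hc, c⁻¹ * g, ?_, by group⟩
  exact QuotientGroup.eq.mp hcg

/-- by induction on the order -/
theorem normal_aux : ∀ (n : ℕ) (G : Type u) [Group G] [Finite G] (A B : Subgroup G),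
    Nat.card G = n → Group.IsNilpotent A → Group.IsNilpotent B →
    (∀ g : G, ∃ a ∈ A, ∃ b ∈ B, g = a * b) → (A ≠ ⊤ ∨ B ≠ ⊤) →
    ∃ N : Subgroup G, N.Normal ∧ N ≠ ⊤ ∧ (A ≤ N ∨ B ≤ N) := by
  intro n
  induction n using Nat.strong_induction_on with
  | _ n ih =>
  intro G _ _ A B hn hA hB hAB hproper
  have hAi : Group.IsNilpotent A := hA
  have hBi : Group.IsNilpotent B := hB
  -- the case where one factor is the whole group
  have hnil : ∀ (C D : Subgroup G), C = ⊤ → D ≠ ⊤ → Group.IsNilpotent C →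
      ∃ N : Subgroup G, N.Normal ∧ N ≠ ⊤ ∧ D ≤ N := by
    intro C D hC hD hCnil
    have hG : Group.IsNilpotent G := by
      subst hC
      exact Group.nilpotent_of_mulEquiv Subgroup.topEquiv
    obtain ⟨M, hM, hDM⟩ := (eq_top_or_exists_le_coatom D).resolve_left hD
    exact ⟨M, Subgroup.NormalizerCondition.normal_of_coatom M
      Group.normalizerCondition_of_isNilpotent hM, hM.1, hDM⟩
  by_cases hAtop : A = ⊤
  · have hBtop : B ≠ ⊤ := by
      rcases hproper with h | h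
      · exact absurd hAtop h
      · exact h
    obtain ⟨N, h1, h2, h3⟩ := hnil A B hAtop hBtop hA
    exact ⟨N, h1, h2, Or.inr h3⟩
  by_cases hBtop : B = ⊤
  · obtain ⟨N, h1, h2, h3⟩ := hnil B A hBtop hAtop hB
    exact ⟨N, h1, h2, Or.inl h3⟩
  -- both factors are proper
  have hsolv : Group.IsSolvable G := Cfsg.Agent.S0564.result A B hA hB hAB
  have hquot : ∀ (M : Subgroup G) [M.Normal], M ≠ ⊥ →
      (A.map (QuotientGroup.mk' M) ≠ ⊤ ∨ B.map (QuotientGroup.mk' M) ≠ ⊤) →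
      ∃ N : Subgroup G, N.Normal ∧ N ≠ ⊤ ∧ (A ≤ N ∨ B ≤ N) := by
    intro M hM hne hpr
    have hlt : Nat.card (G ⧸ M) < n := by
      have h1 := Subgroup.card_eq_card_quotient_mul_card_subgroup M
      have h2 : 1 < Nat.card M := (Subgroup.one_lt_card_iff_ne_bot (H := M)).mpr hne
      have h3 : 0 < Nat.card (G ⧸ M) := Nat.card_pos
      rw [← hn, h1]
      nlinarith
    apply pullback A B M
    refine ih _ hlt (G ⧸ M) (A.map (QuotientGroup.mk' M)) (B.map (QuotientGroup.mk' M)) rfl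
      ?_ ?_ ?_ hpr
    · exact Group.nilpotent_of_surjective ((QuotientGroup.mk' M).subgroupMap A)
        ((QuotientGroup.mk' M).subgroupMap_surjective A)
    · exact Group.nilpotent_of_surjective ((QuotientGroup.mk' M).subgroupMap B)
        ((QuotientGroup.mk' M).subgroupMap_surjective B)
    · intro g
      obtain ⟨g, rfl⟩ := QuotientGroup.mk'_surjective M g
      obtain ⟨a, ha, b, hb, rfl⟩ := hAB g
      exact ⟨_, Subgroup.mem_map_of_mem _ ha, _, Subgroup.mem_map_of_mem _ hb, map_mul _ _ _⟩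
  -- a minimal normal subgroup
  have hGnt : (⊤ : Subgroup G) ≠ ⊥ := by
    intro h
    apply hAtop
    rw [eq_top_iff, h]
    exact bot_le
  obtain ⟨N, ⟨hNn, hNne⟩, hNmin⟩ := Set.exists_min_image
    {N : Subgroup G | N.Normal ∧ N ≠ ⊥} (fun N : Subgroup G => Nat.card N) (Set.toFinite _)
    ⟨⊤, inferInstance, hGnt⟩
  have hmin : ∀ K : Subgroup G, K.Normal → K ≤ N → K = ⊥ ∨ K = N := by
    intro K hKn hKN
    by_cases hK : K = ⊥
    · left; exact hK
    · right; exact Subgroup.eq_of_le_of_card_ge hKN (hNmin K ⟨hKn, hK⟩)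
  have hNab : ∀ x ∈ N, ∀ y ∈ N, x * y = y * x := by
    have hcn : (⁅N, N⁆ : Subgroup G).Normal := inferInstance
    have hlt : ⁅N, N⁆ < N := Group.IsSolvable.commutator_lt_of_ne_bot hNne
    rcases hmin _ hcn hlt.le with h | h
    · have h1 := Subgroup.commutator_eq_bot_iff_le_centralizer.mp h
      intro x hx y hy
      exact (Subgroup.mem_centralizer_iff.mp (h1 hx) y hy).symm
    · exact absurd h hlt.ne
  by_cases hq : A.map (QuotientGroup.mk' N) ≠ ⊤ ∨ B.map (QuotientGroup.mk' N) ≠ ⊤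
  · exact hquot N hNne hq
  push Not at hq
  have hAN := exists_mul_of_map_eq_top A N hq.1
  have hBN := exists_mul_of_map_eq_top B N hq.2
  -- the factors meet `N` trivially
  have key1 : ∀ C : Subgroup G, (∀ g : G, ∃ c ∈ C, ∃ m ∈ N, g = c * m) → C ≠ ⊤ →
      C ⊓ N = ⊥ := by
    intro C hCN hCtop
    have hn' : (C ⊓ N).Normal := by
      constructor
      intro x hx g
      obtain ⟨c, hc, m, hm, rfl⟩ := hCN g
      have e : c * m * x * (c * m)⁻¹ = c * (m * x * m⁻¹) * c⁻¹ := by group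
      have e2 : m * x * m⁻¹ = x := by rw [hNab m hm x hx.2, mul_inv_cancel_right]
      rw [e, e2]
      exact ⟨C.mul_mem (C.mul_mem hc hx.1) (C.inv_mem hc), hNn.conj_mem x hx.2 c⟩
    rcases hmin _ hn' inf_le_right with h | h
    · exact h
    · exfalso
      apply hCtop
      rw [eq_top_iff]
      intro g _
      obtain ⟨c, hc, m, hm, rfl⟩ := hCN g
      have h1 : m ∈ C ⊓ N := by rw [h]; exact hm
      exact C.mul_mem hc h1.1
  have hAN0 := key1 A hAN hAtop
  have hBN0 := key1 B hBN hBtop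
  -- the centralizers of `N` in the factors
  have key2 : ∀ C : Subgroup G, (∀ g : G, ∃ c ∈ C, ∃ m ∈ N, g = c * m) → C ≠ ⊤ →
      C ⊓ Subgroup.centralizer (N : Set G) ≠ ⊥ →
      ∃ (D : Subgroup G) (_ : D.Normal), D ≠ ⊥ ∧ C.map (QuotientGroup.mk' D) ≠ ⊤ := by
    intro C hCN hCtop hne
    obtain ⟨D, hD⟩ : ∃ D : Subgroup G, D = C ⊓ Subgroup.centralizer (N : Set G) := ⟨_, rfl⟩
    rw [← hD] at hne
    have hDn : D.Normal := by
      constructor
      intro x hx g
      rw [hD] at hx ⊢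
      obtain ⟨c, hc, m, hm, rfl⟩ := hCN g
      have e : c * m * x * (c * m)⁻¹ = c * (m * x * m⁻¹) * c⁻¹ := by group
      have e2 : m * x * m⁻¹ = x := by
        have h1 := Subgroup.mem_centralizer_iff.mp hx.2 m hm
        rw [h1, mul_inv_cancel_right]
      rw [e, e2]
      exact ⟨C.mul_mem (C.mul_mem hc hx.1) (C.inv_mem hc),
        (inferInstance : (Subgroup.centralizer (N : Set G)).Normal).conj_mem x hx.2 c⟩
    refine ⟨D, hDn, hne, ?_⟩
    intro htop
    apply hCtop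
    rw [eq_top_iff]
    intro g _
    obtain ⟨c, hc, m, hm, rfl⟩ := exists_mul_of_map_eq_top C D htop g
    rw [hD] at hm
    exact C.mul_mem hc hm.1
  by_cases hDA : A ⊓ Subgroup.centralizer (N : Set G) = ⊥
  swap
  · obtain ⟨D, hDn, hDne, hDmap⟩ := key2 A hAN hAtop hDA
    exact hquot D hDne (Or.inl hDmap)
  by_cases hDB : B ⊓ Subgroup.centralizer (N : Set G) = ⊥
  swap
  · obtain ⟨D, hDn, hDne, hDmap⟩ := key2 B hBN hBtop hDB
    exact hquot D hDne (Or.inr hDmap)
  exfalso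
  -- a nontrivial central element of `A`
  have hAnt : Nontrivial A := by
    rw [Subgroup.nontrivial_iff_ne_bot]
    intro hA0
    have hNtop : N = ⊤ := by
      rw [eq_top_iff]
      intro g _
      obtain ⟨a, ha, m, hm, rfl⟩ := hAN g
      rw [hA0, Subgroup.mem_bot] at ha
      rw [ha, one_mul]; exact hm
    have hB0 : B = ⊥ := by rw [← hBN0, hNtop, inf_top_eq]
    apply hNne
    rw [eq_bot_iff]
    intro g _
    obtain ⟨a, ha, b, hb, rfl⟩ := hAB g
    rw [hA0, Subgroup.mem_bot] at ha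
    rw [hB0, Subgroup.mem_bot] at hb
    rw [ha, hb, mul_one]; exact Subgroup.mem_bot.mpr rfl
  have hcen : Subgroup.center A ≠ ⊥ := Group.IsNilpotent.center_ne_bot A
  obtain ⟨z', hz'c, hz'1⟩ := (Subgroup.bot_or_exists_ne_one (Subgroup.center A)).resolve_left hcen
  obtain ⟨z, hzdef⟩ : ∃ z : G, z = (z' : G) := ⟨_, rfl⟩
  have hzA : z ∈ A := by rw [hzdef]; exact z'.2
  have hz1 : z ≠ 1 := by
    intro h
    apply hz'1
    apply Subtype.ext
    rw [← hzdef, h]; rfl
  have hzc : ∀ a ∈ A, a * z = z * a := by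
    intro a ha
    have h1 := Subgroup.mem_center_iff.mp hz'c ⟨a, ha⟩
    have h2 := congrArg Subtype.val h1
    rw [hzdef]
    exact h2
  -- `z` acts fixed-point-freely on `N`
  have hfix : ∀ m ∈ N, m * z = z * m → m = 1 := by
    obtain ⟨F, hF⟩ : ∃ F : Subgroup G, F = N ⊓ Subgroup.centralizer ({z} : Set G) := ⟨_, rfl⟩
    have hFmem : ∀ x, x ∈ F ↔ x ∈ N ∧ z * x = x * z := by
      intro x
      rw [hF, Subgroup.mem_inf, Subgroup.mem_centralizer_iff]
      constructor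
      · rintro ⟨h1, h2⟩
        exact ⟨h1, h2 z rfl⟩
      · rintro ⟨h1, h2⟩
        refine ⟨h1, fun y hy => ?_⟩
        rw [Set.mem_singleton_iff.mp hy]; exact h2
    have hFn : F.Normal := by
      constructor
      intro x hx g
      rw [hFmem] at hx ⊢
      obtain ⟨a, ha, m, hm, rfl⟩ := hAN g
      have e : a * m * x * (a * m)⁻¹ = a * (m * x * m⁻¹) * a⁻¹ := by group
      have e2 : m * x * m⁻¹ = x := by rw [hNab m hm x hx.1, mul_inv_cancel_right]
      rw [e, e2]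
      refine ⟨hNn.conj_mem x hx.1 a, ?_⟩
      have h1 : a * z = z * a := hzc a ha
      have h2 : a⁻¹ * z = z * a⁻¹ := hzc a⁻¹ (A.inv_mem ha)
      calc z * (a * x * a⁻¹) = (z * a) * x * a⁻¹ := by group
        _ = a * (z * x) * a⁻¹ := by rw [← h1]; group
        _ = a * (x * z) * a⁻¹ := by rw [hx.2]
        _ = a * x * (z * a⁻¹) := by group
        _ = a * x * a⁻¹ * z := by rw [← h2]; group
    rcases hmin F hFn (by rw [hF]; exact inf_le_left) with h | h
    · intro m hm hmz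
      have h1 : m ∈ F := (hFmem m).mpr ⟨hm, hmz.symm⟩
      rw [h, Subgroup.mem_bot] at h1
      exact h1
    · exfalso
      apply hz1
      have hzD : z ∈ A ⊓ Subgroup.centralizer (N : Set G) := by
        refine Subgroup.mem_inf.mpr ⟨hzA, ?_⟩
        rw [Subgroup.mem_centralizer_iff]
        intro m hm
        have h1 : m ∈ F := by rw [h]; exact hm
        exact ((hFmem m).mp h1).2.symm
      rw [hDA, Subgroup.mem_bot] at hzD
      exact hzD
  -- an element of `B` conjugate to `z` under `N`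
  obtain ⟨w, hwB, m₀, hm₀, hwz⟩ : ∃ w ∈ B, ∃ m ∈ N, w = m * z := by
    obtain ⟨b, hb, m, hm, hz⟩ := hBN z
    refine ⟨b, hb, z * m⁻¹ * z⁻¹, hNn.conj_mem _ (N.inv_mem hm) z, ?_⟩
    have h1 : b = z * m⁻¹ := by rw [hz]; group
    rw [h1]; group
  obtain ⟨n₀, hn₀, hconj⟩ : ∃ n₀ ∈ N, n₀ * z * n₀⁻¹ = w := by
    obtain ⟨φ, hφ⟩ : ∃ φ : N → N, ∀ m : N, (φ m : G) = (m : G) * z * (m : G)⁻¹ * z⁻¹ := by
      refine ⟨fun m => ⟨(m : G) * z * (m : G)⁻¹ * z⁻¹, ?_⟩, fun m => rfl⟩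
      have h1 : (m : G) * z * (m : G)⁻¹ * z⁻¹ = (m : G) * (z * (m : G)⁻¹ * z⁻¹) := by group
      rw [h1]
      exact N.mul_mem m.2 (hNn.conj_mem _ (N.inv_mem m.2) z)
    have hinj : Function.Injective φ := by
      intro m m' h
      have h1 : (m : G) * z * (m : G)⁻¹ * z⁻¹ = (m' : G) * z * (m' : G)⁻¹ * z⁻¹ := by
        rw [← hφ m, ← hφ m', h]
      have h3 : (m : G) * z * (m : G)⁻¹ = (m' : G) * z * (m' : G)⁻¹ := mul_right_cancel h1
      have h2 : ((m' : G)⁻¹ * (m : G)) * z = z * ((m' : G)⁻¹ * (m : G)) := by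
        calc ((m' : G)⁻¹ * (m : G)) * z
            = (m' : G)⁻¹ * ((m : G) * z * (m : G)⁻¹) * (m : G) := by group
          _ = (m' : G)⁻¹ * ((m' : G) * z * (m' : G)⁻¹) * (m : G) := by rw [h3]
          _ = z * ((m' : G)⁻¹ * (m : G)) := by group
      have h4 := hfix _ (N.mul_mem (N.inv_mem m'.2) m.2) h2
      exact Subtype.ext (inv_mul_eq_one.mp h4).symm
    have hsurj : Function.Surjective φ := Finite.injective_iff_surjective.mp hinj
    obtain ⟨n₀, hn₀⟩ := hsurj ⟨m₀, hm₀⟩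
    refine ⟨n₀, n₀.2, ?_⟩
    have h1 : (n₀ : G) * z * (n₀ : G)⁻¹ * z⁻¹ = m₀ := by
      rw [← hφ n₀, hn₀]
    rw [hwz, ← h1]; group
  -- `w` is central in `B`
  have hwc : ∀ b ∈ B, w * b = b * w := by
    intro b hb
    have h1 : w * b * w⁻¹ * b⁻¹ ∈ B :=
      B.mul_mem (B.mul_mem (B.mul_mem hwB hb) (B.inv_mem hwB)) (B.inv_mem hb)
    have h2 : w * b * w⁻¹ * b⁻¹ ∈ N := by
      obtain ⟨a, ha, m, hm, rfl⟩ := hAN b
      have e : w * (a * m) * w⁻¹ * (a * m)⁻¹ =
          m₀ * (a * ((z * m * z⁻¹) * m₀⁻¹ * m⁻¹) * a⁻¹) := by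
        calc w * (a * m) * w⁻¹ * (a * m)⁻¹
            = m₀ * (z * a) * m * z⁻¹ * m₀⁻¹ * m⁻¹ * a⁻¹ := by rw [hwz]; group
          _ = m₀ * (a * z) * m * z⁻¹ * m₀⁻¹ * m⁻¹ * a⁻¹ := by rw [hzc a ha]
          _ = m₀ * (a * ((z * m * z⁻¹) * m₀⁻¹ * m⁻¹) * a⁻¹) := by group
      rw [e]
      exact N.mul_mem hm₀ (hNn.conj_mem _
        (N.mul_mem (N.mul_mem (hNn.conj_mem m hm z) (N.inv_mem hm₀)) (N.inv_mem hm)) a)
    have h3 : w * b * w⁻¹ * b⁻¹ ∈ B ⊓ N := ⟨h1, h2⟩
    rw [hBN0, Subgroup.mem_bot] at h3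
    have h4 : w * b = (w * b * w⁻¹ * b⁻¹) * (b * w) := by group
    rw [h4, h3, one_mul]
  -- the centralizer of `z` lies in `A`
  have hCz : ∀ g : G, g * z = z * g → g ∈ A := by
    intro g hg
    obtain ⟨a, ha, m, hm, rfl⟩ := hAN g
    have h1 : m * z = z * m := by
      have h2 : a * (m * z) = a * (z * m) := by
        calc a * (m * z) = a * m * z := by group
          _ = z * (a * m) := hg
          _ = (z * a) * m := by group
          _ = (a * z) * m := by rw [hzc a ha]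
          _ = a * (z * m) := by group
      exact mul_left_cancel h2
    rw [hfix m hm h1, mul_one]; exact ha
  have hBA : ∀ b ∈ B, n₀⁻¹ * b * n₀ ∈ A := by
    intro b hb
    apply hCz
    have h1 := hwc b hb
    rw [← hconj] at h1
    calc n₀⁻¹ * b * n₀ * z = n₀⁻¹ * (b * (n₀ * z * n₀⁻¹)) * n₀ := by group
      _ = n₀⁻¹ * (n₀ * z * n₀⁻¹ * b) * n₀ := by rw [h1]
      _ = z * (n₀⁻¹ * b * n₀) := by group
  obtain ⟨a, ha, b, hb, hn0⟩ := hAB n₀⁻¹
  have h1 := hBA b hb
  have h2 : n₀ ∈ A := by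
    have hb' : b = a⁻¹ * n₀⁻¹ := by rw [hn0]; group
    rw [hb'] at h1
    have e : n₀⁻¹ * (a⁻¹ * n₀⁻¹) * n₀ = n₀⁻¹ * a⁻¹ := by group
    rw [e] at h1
    have h3 : n₀⁻¹ ∈ A := by
      have h4 := A.mul_mem h1 ha
      rwa [inv_mul_cancel_right] at h4
    have h5 := A.inv_mem h3
    rwa [inv_inv] at h5
  have h3 : n₀ ∈ A ⊓ N := ⟨h2, hn₀⟩
  rw [hAN0, Subgroup.mem_bot] at h3
  apply hAtop
  rw [eq_top_iff]
  intro g _
  obtain ⟨a', ha', b', hb', rfl⟩ := hAB g
  have h4 := hBA b' hb'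
  rw [h3] at h4
  simp only [inv_one, one_mul, mul_one] at h4
  exact A.mul_mem ha' h4

/-- Let the finite group G be the product AB of nilpotent subgroups A and B, not both equal to G. Then there is a proper normal subgroup of G containing A or containing B. -/
theorem result {G : Type*} [Group G] [Finite G] (A B : Subgroup G) (hA : Group.IsNilpotent A) (hB : Group.IsNilpotent B) (hAB : ∀ g : G, ∃ a ∈ A, ∃ b ∈ B, g = a * b) (hproper : A ≠ ⊤ ∨ B ≠ ⊤) : ∃ N : Subgroup G, N.Normal ∧ N ≠ ⊤ ∧ (A ≤ N ∨ B ≤ N) := by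
  exact normal_aux _ G A B rfl hA hB hAB hproper

end Cfsg.Agent.S0565
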