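import Cfsg.Statements.S0574
import Mathlib
import Cfsg.Agent.S0572
import Cfsg.Agent.S0564

set_option autoImplicit false
set_option linter.style.haveILetI false
open Cfsg

namespace Cfsg.Agent.S0574

open scoped commutatorElement

universe u

/-- If `G^(j) ≤ X` then `G^(j+k) ≤ X^(k)`. -/
theorem derivedSeries_add_le_map {G : Type*} [Group G] (X : Subgroup G) (j : ℕ)
    (h : derivedSeries G j ≤ X) (k : ℕ) :
    derivedSeries G (j + k) ≤ (derivedSeries X k).map X.subtype := by
  induction k with
  | zero =>
    rw [add_zero, derivedSeries_zero, ← MonoidHom.range_eq_map, X.range_subtype]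
    exact h
  | succ k ih =>
    rw [← add_assoc, derivedSeries_succ, derivedSeries_succ, Subgroup.map_commutator]
    exact Subgroup.commutator_mono ih ih

/-- The number of prime factors strictly drops on proper divisors. -/
theorem primeFactors_length_lt {d n : ℕ} (hn : 0 < n) (hd : d ∣ n) (hne : d ≠ n) :
    d.primeFactorsList.length < n.primeFactorsList.length := by
  obtain ⟨m, rfl⟩ := hd
  have hd0 : d ≠ 0 := by rintro rfl; simp at hn
  have hm0 : m ≠ 0 := by rintro rfl; simp at hn
  have hm1 : m ≠ 1 := by rintro rfl; simp at hne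
  have hperm := Nat.perm_primeFactorsList_mul hd0 hm0
  rw [hperm.length_eq, List.length_append]
  have : 0 < m.primeFactorsList.length := by
    rw [List.length_pos_iff]
    intro h
    rcases (Nat.primeFactorsList_eq_nil _).mp h with h | h
    · exact hm0 h
    · exact hm1 h
  omega

/-- The step lemma: with `K` the normal closure of `B'`, the subgroup `B ∩ AK` has its derived
subgroup inside `K'`. -/
theorem step {G : Type*} [Group G] (A B : Subgroup G)
    (hA : ∀ x ∈ A, ∀ y ∈ A, x * y = y * x)
    (hB : ∀ z ∈ (⁅B, B⁆ : Subgroup G), ∀ x ∈ B, z * x = x * z)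
    (hAB : ∀ g : G, ∃ a ∈ A, ∃ b ∈ B, g = a * b) :
    ⁅B ⊓ (A ⊔ Subgroup.normalClosure ((⁅B, B⁆ : Subgroup G) : Set G)),
      B ⊓ (A ⊔ Subgroup.normalClosure ((⁅B, B⁆ : Subgroup G) : Set G))⁆ ≤
      ⁅Subgroup.normalClosure ((⁅B, B⁆ : Subgroup G) : Set G),
        Subgroup.normalClosure ((⁅B, B⁆ : Subgroup G) : Set G)⁆ := by
  set Z : Subgroup G := ⁅B, B⁆ with hZdef
  set K : Subgroup G := Subgroup.normalClosure (Z : Set G) with hKdef
  haveI hKn : K.Normal := Subgroup.normalClosure_normal
  haveI hK'n : (⁅K, K⁆ : Subgroup G).Normal := Subgroup.commutator_normal K K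
  have hZK : Z ≤ K := Subgroup.le_normalClosure
  let π := QuotientGroup.mk' (⁅K, K⁆ : Subgroup G)
  -- elements of `K` commute modulo `K'`
  have hKK : ∀ k ∈ K, ∀ k' ∈ K, Commute (π k) (π k') := by
    intro k hk k' hk'
    rw [← commutatorElement_eq_one_iff_commute, ← map_commutatorElement]
    exact (QuotientGroup.eq_one_iff _).2 (Subgroup.commutator_mem_commutator hk hk')
  -- the `A`-part of an element of `B ∩ AK` centralizes `K` modulo `K'`
  have key : ∀ a ∈ A, ∀ k ∈ K, a * k ∈ B → ∀ k' ∈ K, Commute (π a) (π k') := by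
    intro a ha k hk hx
    have hz : ∀ z ∈ Z, Commute (π a) (π z) := by
      intro z hz
      have h1 : Commute (π (a * k)) (π z) := by
        have := hB z hz (a * k) hx
        show π (a * k) * π z = π z * π (a * k)
        rw [← map_mul, ← map_mul, this]
      have h2 : Commute (π k) (π z) := hKK k hk z (hZK hz)
      have e : π a = π (a * k) * (π k)⁻¹ := by rw [map_mul]; group
      rw [e]
      exact h1.mul_left h2.inv_left
    have hle : K ≤ (Subgroup.centralizer {π a}).comap π := by
      show Subgroup.closure (Group.conjugatesOfSet (Z : Set G)) ≤ _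
      rw [Subgroup.closure_le]
      intro y hy
      rw [Group.mem_conjugatesOfSet_iff] at hy
      obtain ⟨z, hz', hconj⟩ := hy
      rw [isConj_iff] at hconj
      obtain ⟨c, rfl⟩ := hconj
      obtain ⟨a₀, ha₀, b₀, hb₀, rfl⟩ := hAB c
      have hzZ : z ∈ Z := hz'
      have e : a₀ * b₀ * z * (a₀ * b₀)⁻¹ = a₀ * z * a₀⁻¹ := by
        have := hB z hzZ b₀ hb₀
        calc a₀ * b₀ * z * (a₀ * b₀)⁻¹ = a₀ * (b₀ * z) * b₀⁻¹ * a₀⁻¹ := by group
          _ = a₀ * (z * b₀) * b₀⁻¹ * a₀⁻¹ := by rw [this]
          _ = a₀ * z * a₀⁻¹ := by group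
      rw [e]
      show π (a₀ * z * a₀⁻¹) ∈ Subgroup.centralizer {π a}
      rw [Subgroup.mem_centralizer_singleton_iff]
      have h1 : Commute (π a) (π a₀) := by
        show π a * π a₀ = π a₀ * π a
        rw [← map_mul, ← map_mul, hA a ha a₀ ha₀]
      have h2 : Commute (π a) (π z) := hz z hzZ
      have : Commute (π a) (π (a₀ * z * a₀⁻¹)) := by
        rw [map_mul, map_mul, map_inv]
        exact (h1.mul_right h2).mul_right h1.inv_right
      exact this.eq.symm
    intro k' hk'
    have := hle hk'
    rw [Subgroup.mem_comap, Subgroup.mem_centralizer_singleton_iff] at this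
    exact this.symm
  rw [Subgroup.commutator_le]
  rintro x ⟨hxB, hxX⟩ y ⟨hyB, hyX⟩
  have hxX' : x ∈ A ⊔ K := hxX
  have hyX' : y ∈ A ⊔ K := hyX
  have hxB' : x ∈ B := hxB
  have hyB' : y ∈ B := hyB
  rw [Subgroup.mem_sup_of_normal_right] at hxX' hyX'
  obtain ⟨a, ha, k, hk, rfl⟩ := hxX'
  obtain ⟨a', ha', k', hk', rfl⟩ := hyX'
  have c1 : Commute (π a) (π a') := by
    show π a * π a' = π a' * π a
    rw [← map_mul, ← map_mul, hA a ha a' ha']
  have c2 : Commute (π a) (π k') := key a ha k hk hxB' k' hk'
  have c3 : Commute (π k) (π a') := (key a' ha' k' hk' hyB' k hk).symm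
  have c4 : Commute (π k) (π k') := hKK k hk k' hk'
  have hc : Commute (π (a * k)) (π (a' * k')) := by
    rw [map_mul, map_mul]
    exact (c1.mul_right c2).mul_left (c3.mul_right c4)
  rw [← commutatorElement_eq_one_iff_commute, ← map_commutatorElement] at hc
  exact (QuotientGroup.eq_one_iff _).1 hc

/-- The main induction. -/
theorem aux : ∀ (n : ℕ) (G : Type u) [Group G] [Finite G] (A B : Subgroup G),
    (∀ x ∈ A, ∀ y ∈ A, x * y = y * x) →
    (∀ z ∈ (⁅B, B⁆ : Subgroup G), ∀ x ∈ B, z * x = x * z) →
    (∀ g : G, ∃ a ∈ A, ∃ b ∈ B, g = a * b) →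
    (Nat.card (⁅B, B⁆ : Subgroup G)).primeFactorsList.length ≤ n →
    derivedSeries G (2 * (1 + n)) = ⊥ := by
  intro n
  induction n with
  | zero =>
    intro G _ _ A B hA hB hAB hn
    have hZ : (⁅B, B⁆ : Subgroup G) = ⊥ := by
      have h0 : (Nat.card (⁅B, B⁆ : Subgroup G)).primeFactorsList = [] :=
        List.length_eq_zero_iff.mp (Nat.le_zero.mp hn)
      rcases (Nat.primeFactorsList_eq_nil _).mp h0 with h | h
      · exact absurd h Nat.card_pos.ne'
      · exact Subgroup.card_eq_one.mp h
    haveI : IsMulCommutative A := ⟨⟨fun x y => Subtype.ext (hA x x.2 y y.2)⟩⟩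
    haveI : IsMulCommutative B := by
      refine ⟨⟨fun x y => Subtype.ext ?_⟩⟩
      have : ⁅(x : G), (y : G)⁆ ∈ (⁅B, B⁆ : Subgroup G) :=
        Subgroup.commutator_mem_commutator x.2 y.2
      rw [hZ, Subgroup.mem_bot, commutatorElement_eq_one_iff_commute] at this
      exact this.eq
    exact Cfsg.Agent.S0572.result A B hAB
  | succ m ih =>
    intro G _ _ A B hA hB hAB hn
    by_cases hZ : (⁅B, B⁆ : Subgroup G) = ⊥
    · haveI : IsMulCommutative A := ⟨⟨fun x y => Subtype.ext (hA x x.2 y y.2)⟩⟩
      haveI : IsMulCommutative B := by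
        refine ⟨⟨fun x y => Subtype.ext ?_⟩⟩
        have : ⁅(x : G), (y : G)⁆ ∈ (⁅B, B⁆ : Subgroup G) :=
          Subgroup.commutator_mem_commutator x.2 y.2
        rw [hZ, Subgroup.mem_bot, commutatorElement_eq_one_iff_commute] at this
        exact this.eq
      have h2 := Cfsg.Agent.S0572.result A B hAB
      have := derivedSeries_antitone G (show 2 ≤ 2 * (1 + (m + 1)) by omega)
      rw [h2] at this
      exact le_bot_iff.mp this
    · set Z : Subgroup G := ⁅B, B⁆ with hZdef
      set K : Subgroup G := Subgroup.normalClosure (Z : Set G) with hKdef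
      haveI hKn : K.Normal := Subgroup.normalClosure_normal
      haveI hK'n : (⁅K, K⁆ : Subgroup G).Normal := Subgroup.commutator_normal K K
      have hZK : Z ≤ K := Subgroup.le_normalClosure
      -- solvability
      have hsolv : Group.IsSolvable G := by
        have hAn : Group.IsNilpotent A := by
          letI : CommGroup A :=
            { (inferInstance : Group A) with
              mul_comm := fun a b => Subtype.ext (hA a a.2 b b.2) }
          infer_instance
        have hBn : Group.IsNilpotent B := by
          apply Group.of_quotient_center_nilpotent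
          haveI : IsMulCommutative (↥B ⧸ Subgroup.center ↥B) := by
            rw [Subgroup.Normal.quotient_commutative_iff_commutator_le]
            intro x hx
            rw [Subgroup.mem_center_iff]
            intro y
            have hx' : (x : G) ∈ (⁅B, B⁆ : Subgroup G) := by
              rw [← Subgroup.map_subtype_commutator]
              exact Subgroup.mem_map_of_mem _ hx
            exact Subtype.ext (hB (x : G) hx' (y : G) y.2).symm
          letI : CommGroup (↥B ⧸ Subgroup.center ↥B) :=
            { (inferInstance : Group (↥B ⧸ Subgroup.center ↥B)) with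
              mul_comm := fun a b => mul_comm' a b }
          infer_instance
        exact Cfsg.Agent.S0564.result A B hAn hBn hAB
      -- `G'' ≤ K`
      have hG2 : derivedSeries G 2 ≤ K := by
        let π := QuotientGroup.mk' K
        haveI : IsMulCommutative (A.map π) := by
          refine ⟨⟨fun x y => Subtype.ext ?_⟩⟩
          obtain ⟨a, ha, hax⟩ := x.2
          obtain ⟨a', ha', hay⟩ := y.2
          show (x : G ⧸ K) * (y : G ⧸ K) = (y : G ⧸ K) * (x : G ⧸ K)
          rw [← hax, ← hay, ← map_mul, ← map_mul, hA a ha a' ha']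
        haveI : IsMulCommutative (B.map π) := by
          refine ⟨⟨fun x y => Subtype.ext ?_⟩⟩
          obtain ⟨b, hb, hbx⟩ := x.2
          obtain ⟨b', hb', hby⟩ := y.2
          show (x : G ⧸ K) * (y : G ⧸ K) = (y : G ⧸ K) * (x : G ⧸ K)
          rw [← hbx, ← hby]
          have : Commute (π b) (π b') := by
            rw [← commutatorElement_eq_one_iff_commute, ← map_commutatorElement]
            exact (QuotientGroup.eq_one_iff _).2
              (hZK (Subgroup.commutator_mem_commutator hb hb'))
          exact this.eq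
        have hfac : ∀ g : G ⧸ K, ∃ a ∈ A.map π, ∃ b ∈ B.map π, g = a * b := by
          intro g
          obtain ⟨g, rfl⟩ := QuotientGroup.mk'_surjective K g
          obtain ⟨a, ha, b, hb, rfl⟩ := hAB g
          exact ⟨π a, Subgroup.mem_map_of_mem _ ha, π b, Subgroup.mem_map_of_mem _ hb,
            map_mul _ _ _⟩
        have h2 := Cfsg.Agent.S0572.result (A.map π) (B.map π) hfac
        have h3 := map_derivedSeries_le_derivedSeries π 2
        rw [h2, le_bot_iff] at h3
        intro x hx
        have : π x ∈ (derivedSeries G 2).map π := Subgroup.mem_map_of_mem _ hx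
        rw [h3, Subgroup.mem_bot] at this
        exact (QuotientGroup.eq_one_iff _).1 this
      -- the factorized subgroup `X = AK`
      set X : Subgroup G := A ⊔ K with hXdef
      set B₁ : Subgroup G := B ⊓ X with hB₁def
      have hAX : A ≤ X := le_sup_left
      have hKX : K ≤ X := le_sup_right
      have hB₁X : B₁ ≤ X := inf_le_right
      have hB₁B : B₁ ≤ B := inf_le_left
      have hstep : (⁅B₁, B₁⁆ : Subgroup G) ≤ ⁅K, K⁆ := step A B hA hB hAB
      have hB₁Z : (⁅B₁, B₁⁆ : Subgroup G) ≤ Z := Subgroup.commutator_mono hB₁B hB₁B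
      have hKne : K ≠ ⊥ := fun h => hZ (le_bot_iff.mp (h ▸ hZK))
      have hK'lt : (⁅K, K⁆ : Subgroup G) < K := Group.IsSolvable.commutator_lt_of_ne_bot hKne
      have hne : (⁅B₁, B₁⁆ : Subgroup G) ≠ Z := by
        intro h
        have h1 : Z ≤ ⁅K, K⁆ := h ▸ hstep
        have h2 : K ≤ ⁅K, K⁆ := Subgroup.normalClosure_le_normal h1
        exact absurd h2 (not_le_of_gt hK'lt)
      -- prime factor count drops
      have hcard : (Nat.card (⁅B₁, B₁⁆ : Subgroup G)).primeFactorsList.length ≤ m := by
        have hdvd : Nat.card (⁅B₁, B₁⁆ : Subgroup G) ∣ Nat.card Z :=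
          Subgroup.card_dvd_of_le hB₁Z
        have hne' : Nat.card (⁅B₁, B₁⁆ : Subgroup G) ≠ Nat.card Z := by
          intro h
          exact hne (Subgroup.eq_of_le_of_card_ge hB₁Z h.ge)
        have := primeFactors_length_lt Nat.card_pos hdvd hne'
        omega
      -- apply the induction hypothesis to `X`
      have hX : derivedSeries X (2 * (1 + m)) = ⊥ := by
        apply ih X (A.subgroupOf X) (B₁.subgroupOf X)
        · intro x hx y hy
          exact Subtype.ext (hA x hx y hy)
        · intro z hz x hx
          have hz' : (z : G) ∈ (⁅B, B⁆ : Subgroup G) := by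
            have : (z : G) ∈ (⁅B₁.subgroupOf X, B₁.subgroupOf X⁆ : Subgroup X).map X.subtype :=
              Subgroup.mem_map_of_mem _ hz
            rw [Subgroup.map_commutator, Subgroup.subgroupOf_map_subtype,
              inf_eq_left.mpr hB₁X] at this
            exact hB₁Z this
          exact Subtype.ext (hB z hz' x (hB₁B hx))
        · intro g
          obtain ⟨a, ha, b, hb, hg⟩ := hAB (g : G)
          have hbX : b ∈ X := by
            have : b = a⁻¹ * (g : G) := by rw [hg]; group
            rw [this]
            exact X.mul_mem (X.inv_mem (hAX ha)) g.2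
          refine ⟨⟨a, hAX ha⟩, ha, ⟨b, hbX⟩, ⟨hb, hbX⟩, Subtype.ext hg⟩
        · have e : (⁅B₁.subgroupOf X, B₁.subgroupOf X⁆ : Subgroup X).map X.subtype =
              ⁅B₁, B₁⁆ := by
            rw [Subgroup.map_commutator, Subgroup.subgroupOf_map_subtype,
              inf_eq_left.mpr hB₁X]
          have e2 : Nat.card (⁅B₁.subgroupOf X, B₁.subgroupOf X⁆ : Subgroup X) =
              Nat.card (⁅B₁, B₁⁆ : Subgroup G) := by
            rw [← e]
            exact (Subgroup.card_map_of_injective X.subtype_injective).symm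
          rw [e2]
          exact hcard
      have hfin := derivedSeries_add_le_map X 2 (hG2.trans hKX) (2 * (1 + m))
      rw [hX, Subgroup.map_bot, le_bot_iff] at hfin
      have e : 2 * (1 + (m + 1)) = 2 + 2 * (1 + m) := by ring
      rw [e]
      exact hfin

/-- Let the finite group G be the product AB of an abelian subgroup A and a subgroup B of nilpotency class at most two, and let Ω be the number of prime factors, with multiplicity, of the order of the commutator subgroup of B. Then the term of index 2(1 + Ω) of the derived series of G is trivial. -/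
theorem result {G : Type*} [Group G] [Finite G] (A B : Subgroup G) [IsMulCommutative A] (hB : commutator ↥B ≤ Subgroup.center ↥B) (hAB : ∀ g : G, ∃ a ∈ A, ∃ b ∈ B, g = a * b) : derivedSeries G (2 * (1 + (Nat.card ↥(commutator ↥B)).primeFactorsList.length)) = ⊥ := by
  have hA : ∀ x ∈ A, ∀ y ∈ A, x * y = y * x := fun x hx y hy => setLike_mul_comm hx hy
  have hB' : ∀ z ∈ (⁅B, B⁆ : Subgroup G), ∀ x ∈ B, z * x = x * z := by
    intro z hz x hx
    rw [← Subgroup.map_subtype_commutator] at hz
    obtain ⟨z', hz', rfl⟩ := hz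
    have := hB hz'
    rw [Subgroup.mem_center_iff] at this
    have h := this ⟨x, hx⟩
    exact (congrArg Subtype.val h).symm
  have hcard : Nat.card (⁅B, B⁆ : Subgroup G) = Nat.card ↥(commutator ↥B) := by
    rw [← Subgroup.map_subtype_commutator]
    exact Subgroup.card_map_of_injective B.subtype_injective
  apply aux _ G A B hA hB' hAB
  rw [hcard]

end Cfsg.Agent.S0574
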