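import Mathlib
import Cfsg.Statements.S0620
import Cfsg.Agent.Lib.Helper11.FFXT

set_option autoImplicit false
open Cfsg

namespace Cfsg.Agent.S0620

/-- Under coprime action of an elementary abelian q-group X on a p-separable group K with trivial p'-core, K is generated by the normalizer of J(S), the centralizer of Ω₁(Z(S)) and the fixed points of X. -/
theorem result {G : Type*} [Group G] [Finite G] {p : ℕ} [Fact p.Prime] {q : ℕ} [Fact q.Prime] (K X : Subgroup G) (hXK : X ≤ Subgroup.normalizer (K : Set G)) (hX : Cfsg.IsElementaryAbelian q X) (hq : ¬ q ∣ Nat.card K) (hsep : Cfsg.IsPSolvable p ↥K) (hO : Cfsg.pPrimeCore p ↥K = ⊥) (S : Sylow p ↥K) : (Subgroup.normalizer (Cfsg.thompsonSubgroupOf p (S : Subgroup ↥K) : Set ↥K) ⊔ Subgroup.centralizer (Cfsg.omegaOne p ((S : Subgroup ↥K) ⊓ Subgroup.centralizer ((S : Subgroup ↥K) : Set ↥K)) : Set ↥K) ⊔ (Subgroup.centralizer (X : Set G)).subgroupOf K) = ⊤ := by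
  have hqq : q.Prime := Fact.out
  have hΓ : ∀ x : ↥X, x ^ q = 1 := fun x => Subtype.ext (hX.2 x.1 x.2)
  have hXp : IsPGroup q ↥X := fun x => ⟨1, by rw [pow_one]; exact hΓ x⟩
  obtain ⟨n, hn⟩ := IsPGroup.iff_card.mp hXp
  have hcop : (Nat.card X).Coprime (Nat.card K) := by
    rw [hn]
    exact Nat.Coprime.pow_left n ((Nat.Prime.coprime_iff_not_dvd hqq).mpr hq)
  have hsolv : Group.IsSolvable ↥X ∨ Group.IsSolvable ↥K := by
    left
    exact Group.isSolvable_of_comm (fun a b => hX.1.is_comm.comm a b)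
  apply Cfsg.Agent.Lib.Helper11.FFT.coprime_generation hsep hO hq hΓ
    (Cfsg.Agent.Lib.Helper11.FFT.opAct K X hXK)
    (fun D hD k hk => Cfsg.Agent.Lib.Helper11.FFT.coprime_lift K X hXK hcop hsolv D hD k hk) S
  intro k hk
  rw [Subgroup.mem_subgroupOf, Subgroup.mem_centralizer_iff]
  intro x hx
  have h1 := congrArg Subtype.val (hk ⟨x, hx⟩)
  rw [Cfsg.Agent.Lib.Helper11.FFT.opAct_apply] at h1
  calc x * (k : G) = x * k * x⁻¹ * x := by group
    _ = k * x := by rw [h1]

end Cfsg.Agent.S0620
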