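import Mathlib
import Cfsg.Statements.S0621
import Cfsg.Agent.Lib.Helper11.FFXS

set_option autoImplicit false
open Cfsg

namespace Cfsg.Agent.S0621

/-- Let K be p-separable with O_p'(K) = 1, normalized by an elementary abelian q-group X for a prime q not dividing the order of K. If the Thompson factorization fails in K, then p is 2 or 3 and the fixed points of X contain a plane W of order p² and a subgroup inducing SL(2, p) on it. -/
theorem result {G : Type*} [Group G] [Finite G] {p : ℕ} [Fact p.Prime] {q : ℕ} [Fact q.Prime] (K X : Subgroup G) (hXK : X ≤ Subgroup.normalizer (K : Set G)) (hX : Cfsg.IsElementaryAbelian q X) (hq : ¬ q ∣ Nat.card K) (hsep : Cfsg.IsPSolvable p ↥K) (hO : Cfsg.pPrimeCore p ↥K = ⊥) (hnf : ¬ Cfsg.IsThompsonFactorizable p ↥K) : (p = 2 ∨ p = 3) ∧ ∃ W D : Subgroup G, W ≤ K ⊓ Subgroup.centralizer (X : Set G) ∧ D ≤ K ⊓ Subgroup.centralizer (X : Set G) ∧ Cfsg.IsElementaryAbelian p W ∧ Nat.card W = p ^ 2 ∧ D ≤ Subgroup.normalizer (W : Set G)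 ∧ ∃ hn : ((Subgroup.centralizer (W : Set G)).subgroupOf D).Normal, Nonempty ((↥D ⧸ (Subgroup.centralizer (W : Set G)).subgroupOf D) ≃* Matrix.SpecialLinearGroup (Fin 2) (ZMod p)) := by
  have hqq : q.Prime := Fact.out
  have hΓ : ∀ x : ↥X, x ^ q = 1 := fun x => Subtype.ext (hX.2 x.1 x.2)
  have hXp : IsPGroup q ↥X := fun x => ⟨1, by rw [pow_one]; exact hΓ x⟩
  obtain ⟨n, hn⟩ := IsPGroup.iff_card.mp hXp
  have hcop : (Nat.card X).Coprime (Nat.card K) := by
    rw [hn]
    exact Nat.Coprime.pow_left n ((Nat.Prime.coprime_iff_not_dvd hqq).mpr hq)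
  have hsolv : Group.IsSolvable ↥X ∨ Group.IsSolvable ↥K := by
    left
    exact Group.isSolvable_of_comm (fun a b => hX.1.is_comm.comm a b)
  have hFmem : ∀ k : ↥K, k ∈ (Subgroup.centralizer (X : Set G)).subgroupOf K ↔
      ∀ x : ↥X, Cfsg.Agent.Lib.Helper11.FFT.opAct K X hXK x k = k := by
    intro k
    rw [Subgroup.mem_subgroupOf, Subgroup.mem_centralizer_iff]
    constructor
    · intro h x
      apply Subtype.ext
      rw [Cfsg.Agent.Lib.Helper11.FFT.opAct_apply, h x x.2]
      group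
    · intro hk x hx
      have h1 := congrArg Subtype.val (hk ⟨x, hx⟩)
      rw [Cfsg.Agent.Lib.Helper11.FFT.opAct_apply] at h1
      calc x * (k : G) = x * k * x⁻¹ * x := by group
        _ = k * x := by rw [h1]
  obtain ⟨hp, W, D, hWF, hDF, hWel, hWcard, hDN, g, hgs, hgk⟩ :=
    Cfsg.Agent.Lib.Helper11.FFT.coprime_sl2 hsep hO hnf hq hΓ
      (Cfsg.Agent.Lib.Helper11.FFT.opAct K X hXK)
      (fun D hD k hk => Cfsg.Agent.Lib.Helper11.FFT.coprime_lift K X hXK hcop hsolv D hD k hk)
      ((Subgroup.centralizer (X : Set G)).subgroupOf K) hFmem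
  refine ⟨hp, W.map K.subtype, D.map K.subtype, ?_, ?_,
    Cfsg.Agent.Lib.Helper11.elemAb_map K.subtype hWel, ?_, ?_, ?_⟩
  · rintro _ ⟨w, hw, rfl⟩
    exact ⟨w.2, Subgroup.mem_subgroupOf.mp (hWF hw)⟩
  · rintro _ ⟨d, hd, rfl⟩
    exact ⟨d.2, Subgroup.mem_subgroupOf.mp (hDF hd)⟩
  · rw [Subgroup.card_map_of_injective K.subtype_injective, hWcard]
  · rintro _ ⟨d, hd, rfl⟩
    apply Cfsg.Agent.Lib.Helper57.HSub.mem_normalizer_of_conj_mem
    rintro _ ⟨w, hw, rfl⟩
    refine ⟨d * w * d⁻¹, (Subgroup.mem_normalizer_iff.mp (hDN hd) w).mp hw, ?_⟩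
    simp
  · obtain ⟨eD, heD⟩ : ∃ eD : ↥D ≃* ↥(D.map K.subtype), ∀ d : ↥D,
        ((eD d : ↥(D.map K.subtype)) : G) = ((d : ↥K) : G) :=
      ⟨D.equivMapOfInjective K.subtype K.subtype_injective, fun d => rfl⟩
    have hg's : Function.Surjective (g.comp eD.symm.toMonoidHom) :=
      hgs.comp eD.symm.surjective
    have hker : (Subgroup.centralizer ((W.map K.subtype : Subgroup G) : Set G)).subgroupOf
        (D.map K.subtype) = (g.comp eD.symm.toMonoidHom).ker := by
      ext x
      rw [Subgroup.mem_subgroupOf, MonoidHom.mem_ker]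
      show _ ↔ g (eD.symm x) = 1
      rw [hgk]
      have hx : (((eD.symm x : ↥D) : ↥K) : G) = (x : G) := by
        rw [← heD (eD.symm x), MulEquiv.apply_symm_apply]
      rw [Subgroup.mem_centralizer_iff, Subgroup.mem_centralizer_iff]
      constructor
      · intro h w hw
        apply Subtype.ext
        have h2 := h _ ⟨w, hw, rfl⟩
        rw [Subgroup.coe_mul, Subgroup.coe_mul, hx]
        exact h2
      · rintro h _ ⟨w, hw, rfl⟩
        have h2 := congrArg Subtype.val (h w hw)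
        rw [Subgroup.coe_mul, Subgroup.coe_mul, hx] at h2
        exact h2
    have hn : ((Subgroup.centralizer ((W.map K.subtype : Subgroup G) : Set G)).subgroupOf
        (D.map K.subtype)).Normal := by
      rw [hker]
      exact MonoidHom.normal_ker _
    refine ⟨hn, ⟨?_⟩⟩
    exact (QuotientGroup.quotientMulEquivOfEq hker).trans
      (QuotientGroup.quotientKerEquivOfSurjective _ hg's)

end Cfsg.Agent.S0621
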