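import Mathlib
import Cfsg.Statements.S0627
import Cfsg.Agent.Lib.Helper11.PSolvStable
import Cfsg.Agent.Lib.Helper11.NPCFunctor
import Cfsg.Agent.Lib.Helper11.StableW

set_option autoImplicit false
open Cfsg

namespace Cfsg.Agent.S0627

/-- In a p-separable group with p at least 5, the normalizer of W(S) supplements the largest normal subgroup of order prime to p. -/
theorem result {G : Type*} [Group G] [Finite G] {p : ℕ} [Fact p.Prime] (hp : 5 ≤ p) (hsep : Cfsg.IsPSolvable p G) (S : Sylow p G) : Cfsg.pPrimeCore p G ⊔ Subgroup.normalizer (((Cfsg.stableNormalClosure p ↥(S : Subgroup G)).map (S : Subgroup G).subtype) : Set G) = ⊤ := by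
  have hpp : p.Prime := Fact.out
  set N := Cfsg.pPrimeCore p G with hN
  have hNc : (Nat.card N).Coprime p := Cfsg.Agent.Lib.Helper63.card_pPrimeCore_coprime' p G
  have hsurj := QuotientGroup.mk'_surjective N
  have hsolQ : Cfsg.IsPSolvable p (G ⧸ N) :=
    Cfsg.Agent.Lib.Helper69.isPSolvable_of_surj p (QuotientGroup.mk' N) hsurj hsep
  have hst : Cfsg.IsActionPStable p (G ⧸ N) :=
    Cfsg.Agent.Lib.Helper11.isActionPStable_of_isPSolvable hp hsolQ
  have hc : Subgroup.centralizer (Cfsg.pCore p (G ⧸ N) : Set (G ⧸ N)) ≤ Cfsg.pCore p (G ⧸ N) :=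
    Cfsg.Agent.Lib.Helper63.centralizer_pCore_le
      (Cfsg.Agent.Lib.Helper63.pPrimeCore_quotient_eq_bot p G)
      (Cfsg.Agent.Lib.Helper63.exists_plengthLE_of_isPSolvable hsolQ)
  have hWn := Cfsg.Agent.Lib.Helper11.stableW_normal hst hc (S.mapSurjective hsurj)
  rw [Sylow.coe_mapSurjective] at hWn
  have hinj := Cfsg.Agent.Lib.Helper34.injOn_mk_of_coprime (S : Subgroup G) N S.2 hNc
  have hmap : Cfsg.Agent.Lib.Helper11.stableW p ((S : Subgroup G).map (QuotientGroup.mk' N)) =
      (Cfsg.Agent.Lib.Helper11.stableW p (S : Subgroup G)).map (QuotientGroup.mk' N) :=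
    Cfsg.Agent.Lib.Helper11.xOf_map_of_injOn (Cfsg.Agent.Lib.Helper11.charFunctor_stableW p)
      (QuotientGroup.mk' N) (S : Subgroup G) hinj
  rw [hmap] at hWn
  have hWp : IsPGroup p (Cfsg.Agent.Lib.Helper11.stableW p (S : Subgroup G)) :=
    S.2.to_le (Cfsg.Agent.Lib.Helper11.stableW_le p _)
  have h1 := Cfsg.Agent.Lib.Helper34.normalizer_map_mk_le
    (Cfsg.Agent.Lib.Helper11.stableW p (S : Subgroup G)) N hWp hNc
  rw [Subgroup.normalizer_eq_top_iff.mpr hWn] at h1
  have h2 : (Subgroup.normalizer (Cfsg.Agent.Lib.Helper11.stableW p (S : Subgroup G) : Set G)).map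
      (QuotientGroup.mk' N) = ⊤ := top_le_iff.mp h1
  have h3 := Subgroup.comap_map_eq (QuotientGroup.mk' N)
    (Subgroup.normalizer (Cfsg.Agent.Lib.Helper11.stableW p (S : Subgroup G) : Set G))
  rw [h2, Subgroup.comap_top, QuotientGroup.ker_mk'] at h3
  rw [sup_comm]
  exact h3.symm

end Cfsg.Agent.S0627
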