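import Cfsg.Statements.S0633
import Mathlib
import Cfsg.Agent.Lib.Helper32.TBCore
import Cfsg.Agent.Lib.Helper54.ThmBAbelian

set_option autoImplicit false
open Cfsg

namespace Cfsg.Agent.S0633

open Module Cfsg.Agent.Lib.Helper32

/-- Theorem B of Hall and Higman on the minimal polynomial of a p-element of order p^n in a p-solvable linear group on a nonzero vector space in characteristic p with no nontrivial normal p-subgroup: its degree is p^n, except when some p^n₀ - 1 (n₀ ≤ n) is a power of a prime q for which the Sylow q-subgroups are non-abelian, in which case the degree is at least p^(n-n₀)(p^n₀ - 1). -/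
theorem result {F : Type*} [Field F] {p : ℕ} [Fact p.Prime] [CharP F p] {V : Type*} [AddCommGroup V] [Module F V] [FiniteDimensional F V] [Nontrivial V] (H : Subgroup (V ≃ₗ[F] V)) [Finite H] (hsol : Cfsg.IsPSolvable p H) (hOp : Cfsg.pCore p H = ⊥) (x : V ≃ₗ[F] V) (hx : x ∈ H) (n : ℕ) (hn : orderOf x = p ^ n) (r : ℕ) (hr : minpoly F (x : Module.End F V) = (Polynomial.X - 1) ^ r) : r = p ^ n ∨ ∃ n₀ q m : ℕ, 1 ≤ n₀ ∧ n₀ ≤ n ∧ q.Prime ∧ 1 ≤ m ∧ p ^ n₀ - 1 = q ^ m ∧ (∀ Q : Sylow q H, ¬ IsMulCommutative Q) ∧ p ^ (n - n₀) * (p ^ n₀ - 1) ≤ r := by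
  classical
  have hpp : p.Prime := Fact.out
  set xe : Module.End F V := (x : Module.End F V) with hxe
  have hr0 : (xe - 1) ^ r = 0 := by
    have h1 := minpoly.aeval F xe
    rw [hr] at h1
    simpa using h1
  have hr1 : 1 ≤ r := by
    by_contra h
    have h0 : r = 0 := by omega
    rw [h0, pow_zero] at hr0
    exact one_ne_zero hr0
  have hxpn : x ^ (p ^ n) = 1 := by rw [← hn]; exact pow_orderOf_eq_one x
  have hxe_pow : ∀ k : ℕ, ((x ^ k : V ≃ₗ[F] V) : Module.End F V) = xe ^ k := by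
    intro k
    exact map_pow (LinearEquiv.automorphismGroup.toLinearMapMonoidHom (R := F) (M := V)) x k
  have hX1 : (Polynomial.X - 1 : Polynomial F) ≠ 0 := by
    have h := Polynomial.X_sub_C_ne_zero (1 : F)
    rwa [Polynomial.C_1] at h
  have hdeg : (Polynomial.X - 1 : Polynomial F).natDegree = 1 := by
    have h := Polynomial.natDegree_X_sub_C (1 : F)
    rwa [Polynomial.C_1] at h
  have hrle : r ≤ p ^ n := by
    have h1 : (xe - 1) ^ (p ^ n) = 0 := by
      rw [sub_one_pow_char_pow_end p xe n, ← hxe_pow, hxpn]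
      exact sub_self _
    have h2 : Polynomial.aeval xe ((Polynomial.X - 1 : Polynomial F) ^ (p ^ n)) = 0 := by
      simpa using h1
    have h3 := minpoly.dvd F xe h2
    rw [hr] at h3
    have h4 := Polynomial.natDegree_le_of_dvd h3 (pow_ne_zero _ hX1)
    rw [Polynomial.natDegree_pow, Polynomial.natDegree_pow, hdeg, mul_one, mul_one] at h4
    exact h4
  rcases Nat.eq_zero_or_pos n with hn0 | hnpos
  · left
    rw [hn0, pow_zero] at hrle ⊢
    omega
  have hordx' : orderOf (⟨x, hx⟩ : H) = p ^ n := by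
    rw [← hn]; exact Subgroup.orderOf_mk x hx
  have hx'pn : (⟨x, hx⟩ : H) ^ (p ^ n) = 1 := by
    rw [← hordx']; exact pow_orderOf_eq_one _
  have hy'1 : (⟨x, hx⟩ : H) ^ (p ^ (n - 1)) ≠ 1 := by
    intro h
    have h1 : orderOf (⟨x, hx⟩ : H) ∣ p ^ (n - 1) := orderOf_dvd_of_pow_eq_one h
    rw [hordx'] at h1
    have h2 := Nat.le_of_dvd (pow_pos hpp.pos _) h1
    have h3 : p ^ (n - 1) < p ^ n := Nat.pow_lt_pow_right hpp.one_lt (by omega)
    omega
  have hU : IsPGroup p (Subgroup.zpowers (⟨x, hx⟩ : H)) :=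
    IsPGroup.of_card (by rw [Nat.card_zpowers, hordx'])
  obtain ⟨q, hq, R, hqp, hR, hUR, hyR⟩ :=
    Cfsg.Agent.Lib.Helper54.exists_normalized_not_centralized_of_mem hsol hOp
      (Subgroup.zpowers (⟨x, hx⟩ : H)) hU ((⟨x, hx⟩ : H) ^ (p ^ (n - 1)))
      (Subgroup.pow_mem _ (Subgroup.mem_zpowers _) _) hy'1
  haveI : Fact q.Prime := ⟨hq⟩
  have hRx : ∀ a ∈ R, (⟨x, hx⟩ : H) * a * (⟨x, hx⟩ : H)⁻¹ ∈ R := by
    intro a ha
    have h1 := hUR (Subgroup.mem_zpowers (⟨x, hx⟩ : H))
    exact (Subgroup.mem_normalizer_iff.1 h1 a).1 ha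
  have hex : ∃ a ∈ R, (⟨x, hx⟩ : H) ^ (p ^ (n - 1)) * a ≠ a * (⟨x, hx⟩ : H) ^ (p ^ (n - 1)) := by
    by_contra hcon
    push Not at hcon
    apply hyR
    rw [Subgroup.mem_centralizer_iff]
    intro a ha
    exact (hcon a ha).symm
  obtain ⟨a₀, ha₀, hya₀⟩ := hex
  -- the base-changed representation
  have hbc : Function.Injective (Module.End.baseChangeHom F (AlgebraicClosure F) V) :=
    LinearMap.baseChangeHom_injective F V (AlgebraicClosure F)
  let ρ : Representation (AlgebraicClosure F) H (TensorProduct F (AlgebraicClosure F) V) :=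
    ((Module.End.baseChangeHom F (AlgebraicClosure F) V : Module.End F V →ₐ[F] _) :
      Module.End F V →* _).comp
      ((LinearEquiv.automorphismGroup.toLinearMapMonoidHom (R := F) (M := V)).comp H.subtype)
  have hρapp : ∀ g : H, ρ g = Module.End.baseChangeHom F (AlgebraicClosure F) V
      ((g : V ≃ₗ[F] V) : Module.End F V) := fun g => rfl
  have hρinj : Function.Injective ρ := by
    intro a b hab
    rw [hρapp, hρapp] at hab
    have h1 := hbc hab
    apply Subtype.ext
    exact LinearEquiv.toLinearMap_injective h1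
  have hρr : (ρ ⟨x, hx⟩ - 1) ^ r = 0 := by
    rw [hρapp]
    show (Module.End.baseChangeHom F (AlgebraicClosure F) V xe - 1) ^ r = 0
    have h1 : Module.End.baseChangeHom F (AlgebraicClosure F) V xe - 1 =
        Module.End.baseChangeHom F (AlgebraicClosure F) V (xe - 1) := by
      rw [map_sub, map_one]
    rw [h1, ← map_pow, hr0, map_zero]
  have hfpos : 0 < finrank (AlgebraicClosure F) (TensorProduct F (AlgebraicClosure F) V) := by
    rw [Module.finrank_baseChange]
    exact Module.finrank_pos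
  haveI : Nontrivial (TensorProduct F (AlgebraicClosure F) V) := Module.finrank_pos_iff.1 hfpos
  have hpq : p ≠ q := fun h => hqp h.symm
  have key := tb_flex (AlgebraicClosure F) p q hpq
    (Nat.card R + finrank (AlgebraicClosure F) (TensorProduct F (AlgebraicClosure F) V))
    R (⟨x, hx⟩ : H) ρ n r hR hRx
    (fun a _ => by rw [hx'pn, one_mul, mul_one])
    (fun _ => ⟨a₀, ha₀, fun h => hya₀ (hρinj h)⟩) hρr le_rfl
  rcases key with h1 | ⟨n₀, m, h1, h2, h3, h4, h5, h6⟩
  · left
    omega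
  · right
    refine ⟨n₀, q, m, h1, h2, hq, h3, h4, ?_, h6⟩
    obtain ⟨a, ha, b, hb, hab⟩ := h5
    have hab' : a * b ≠ b * a := fun h => hab (by rw [h])
    intro S hS
    obtain ⟨S₀, hS₀⟩ := hR.exists_le_sylow
    obtain ⟨g, hg⟩ := MulAction.exists_smul_eq H S S₀
    have haS : a ∈ (S₀ : Subgroup H) := hS₀ ha
    have hbS : b ∈ (S₀ : Subgroup H) := hS₀ hb
    rw [← hg, Sylow.coe_subgroup_smul, Subgroup.mem_smul_pointwise_iff_exists] at haS hbS
    obtain ⟨a', ha', rfl⟩ := haS
    obtain ⟨b', hb', rfl⟩ := hbS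
    apply hab'
    have h7 : a' * b' = b' * a' := congrArg Subtype.val (hS.is_comm.comm ⟨a', ha'⟩ ⟨b', hb'⟩)
    rw [← smul_mul', ← smul_mul', h7]

end Cfsg.Agent.S0633
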