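import Mathlib
import Cfsg.Statements.S0652
import Cfsg.Agent.Lib.Helper11.ReplFamily

set_option autoImplicit false
open Cfsg

namespace Cfsg.Agent.S0652

/-- For odd p and D normal in the p-group S, the elementary abelian subgroups of D of largest order satisfy the replacement property for class-2 normal subgroups of S. -/
theorem result {S : Type*} [Group S] [Finite S] {p : ℕ} [Fact p.Prime] (hS : IsPGroup p S) (hp : p ≠ 2) (D : Subgroup S) [D.Normal] : ∀ (B : Subgroup S) [B.Normal], ⁅⁅B, B⁆, B⁆ = ⊥ → (∃ U ∈ (Set.image (fun A : Subgroup ↥D => A.map D.subtype) (Cfsg.maxElementaryAbelianSubgroups p ↥D)), ⁅B, B⁆ ≤ U ∧ ¬ B ≤ U) → ∃ A ∈ (Set.image (fun A : Subgroup ↥D => A.map D.subtype) (Cfsg.maxElementaryAbelianSubgroups p ↥D)), ⁅B, B⁆ ≤ A ∧ ¬ B ≤ A ∧ B ≤ Subgroup.normalizer (A : Set S) := by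
  intro B _ _ h
  have himg := Cfsg.Agent.Lib.Helper11.image_maxElemAb p D
  have key := Cfsg.Agent.Lib.Helper11.repl_family hS hp D (Cfsg.Agent.Lib.Helper11.maxElemAbIn p D)
    (fun A hA => hA.1) (fun A hA => hA.2.1.1)
    (fun A hA A' hA'D hcard hcomm hexp => by
      refine ⟨hA'D, ⟨hcomm, ?_⟩, fun B hB hBc => (hA.2.2 B hB hBc).trans_eq hcard.symm⟩
      have h1 : Monoid.exponent A ∣ p := by
        apply Monoid.exponent_dvd_of_forall_pow_eq_one
        intro a
        apply Subtype.ext
        rw [Subgroup.coe_pow, Subgroup.coe_one]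
        exact hA.2.1.2 a a.2
      have h2 := hexp.trans h1
      intro a ha
      have h3 := Monoid.exponent_dvd_iff_forall_pow_eq_one.mp h2 ⟨a, ha⟩
      have h4 := congrArg Subtype.val h3
      simpa using h4)
    B (by rw [← himg]; exact h)
  rw [← himg] at key
  exact key

end Cfsg.Agent.S0652
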