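import Mathlib
import Cfsg.Statements.S0657
import Cfsg.Agent.Lib.Helper11.SLpSection

set_option autoImplicit false
open Cfsg

namespace Cfsg.Agent.S0657

/-- For odd p, a group that fails to be p-stable modulo its largest normal subgroup of order prime to p, and whose upper p-series does not stop there, has a section isomorphic to SL(2, p). -/
theorem result {G : Type*} [Group G] [Finite G] {p : ℕ} [Fact p.Prime] (hp : p ≠ 2) (hO : Cfsg.pPrimeCore p G < Cfsg.pPrimePCore p G) (hns : ¬ Cfsg.IsPStable p (G ⧸ Cfsg.pPrimeCore p G)) : ∃ (K L : Subgroup G) (hL : (L.subgroupOf K).Normal), K ≤ ⊤ ∧ Nonempty ((K ⧸ L.subgroupOf K) ≃* Matrix.SpecialLinearGroup (Fin 2) (ZMod p)) := by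
  by_cases hno : Cfsg.Agent.Lib.Helper11.NoSL2 p (⊤ : Subgroup G)
  · exfalso
    apply hns
    apply Cfsg.Agent.Lib.Helper11.isPStable_of_noSL2 hp
      (Cfsg.Agent.Lib.Helper11.NoSL2.of_surjective _ (QuotientGroup.mk'_surjective _) hno)
    intro hbot
    apply hO.ne
    unfold Cfsg.pPrimePCore
    rw [hbot, MonoidHom.comap_bot, QuotientGroup.ker_mk']
  · exact Cfsg.Agent.Lib.Helper11.slp_section_of_not_noSL2 hp ⊤ hno

end Cfsg.Agent.S0657
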