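import Mathlib
import Cfsg.Agent.Lib.Helper54.OmegaComplement
import Cfsg.Agent.Lib.Helper11.StableW
import Cfsg.Agent.Lib.Helper2.FrattiniP

set_option autoImplicit false
open Cfsg

namespace Cfsg.Agent.S3803

open scoped commutatorElement

/-- Subgroup form of the `Ω`-automorphism lemma. -/
theorem mem_centralizer_of_fix_omega {G : Type*} [Group G] [Finite G] {p : ℕ} [Fact p.Prime]
    (j : ℕ) (hj : 1 ≤ j) (he : p ∣ p ^ j * (p ^ j - 1) / 2) (Q : Subgroup G) (hQ : IsPGroup p Q)
    (g : G) (hg : g ∈ Subgroup.normalizer (Q : Set G)) (hgp : (orderOf g).Coprime p)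
    (h : ∀ x ∈ Q, x ^ p ^ j = 1 → g * x * g⁻¹ = x) : g ∈ Subgroup.centralizer (Q : Set G) := by
  have hord : (orderOf (Q.normalizerMonoidHom ⟨g, hg⟩)).Coprime p := by
    have h1 := orderOf_map_dvd Q.normalizerMonoidHom (⟨g, hg⟩ : Subgroup.normalizer (Q : Set G))
    have h2 : orderOf (⟨g, hg⟩ : Subgroup.normalizer (Q : Set G)) = orderOf g := by
      rw [← Subgroup.orderOf_coe]
    rw [h2] at h1
    exact Nat.Coprime.coprime_dvd_left h1 hgp
  have h1 : Q.normalizerMonoidHom ⟨g, hg⟩ = 1 := by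
    apply Cfsg.Agent.Lib.Helper54.aut_eq_one_of_fix_omega hQ _ hord j hj he
    intro x hx
    apply Subtype.ext
    rw [Subgroup.normalizerMonoidHom_apply_apply_coe]
    apply h x x.2
    have := congrArg Subtype.val hx
    simpa using this
  rw [Subgroup.mem_centralizer_iff]
  intro q hq
  have h2 := congrArg (fun a : MulAut Q => ((a ⟨q, hq⟩ : Q) : G)) h1
  simp only [Subgroup.normalizerMonoidHom_apply_apply_coe, MulAut.one_apply] at h2
  have h3 := congrArg (fun t => t * g) h2
  simpa using h3.symm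

/-- An element of odd order normalizing a cyclic `2`-group centralizes it. -/
theorem conj_eq_of_cyclic {X : Type*} [Group X] [Finite X] (E : Subgroup X) (hE : IsPGroup 2 E)
    (hc : IsCyclic E) (a : X) (ha : a ∈ Subgroup.normalizer (E : Set X))
    (hodd : (orderOf a).Coprime 2) (x : X) (hx : x ∈ E) : a * x * a⁻¹ = x := by
  have hord : (orderOf (E.normalizerMonoidHom ⟨a, ha⟩)).Coprime 2 := by
    have h1 := orderOf_map_dvd E.normalizerMonoidHom (⟨a, ha⟩ : Subgroup.normalizer (E : Set X))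
    have h2 : orderOf (⟨a, ha⟩ : Subgroup.normalizer (E : Set X)) = orderOf a := by
      rw [← Subgroup.orderOf_coe]
    rw [h2] at h1
    exact Nat.Coprime.coprime_dvd_left h1 hodd
  have hdvd : orderOf (E.normalizerMonoidHom ⟨a, ha⟩) ∣ Nat.card (MulAut E) :=
    orderOf_dvd_natCard _
  obtain ⟨k, hk⟩ := IsPGroup.iff_card.mp hE
  have hcard : ∃ m, Nat.card (MulAut E) = 2 ^ m := by
    rw [IsCyclic.card_mulAut, hk]
    rcases Nat.eq_zero_or_pos k with rfl | hkpos
    · exact ⟨0, by simp⟩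
    · exact ⟨k - 1, by rw [Nat.totient_prime_pow Nat.prime_two hkpos]; simp⟩
  obtain ⟨m, hm⟩ := hcard
  rw [hm] at hdvd
  have h1 : orderOf (E.normalizerMonoidHom ⟨a, ha⟩) = 1 :=
    (Nat.Coprime.pow_right m hord).eq_one_of_dvd hdvd
  rw [orderOf_eq_one_iff] at h1
  have h2 := congrArg (fun f : MulAut E => ((f ⟨x, hx⟩ : E) : X)) h1
  simp only [Subgroup.normalizerMonoidHom_apply_apply_coe, MulAut.one_apply] at h2
  exact h2

/-- Subgroups of given `2`-power order between a subgroup and a `2`-group. -/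
theorem exists_le_card_pow {X : Type*} [Group X] [Finite X] (P H : Subgroup X) (hHP : H ≤ P)
    {i m : ℕ} (hH : Nat.card H = 2 ^ i) (him : i ≤ m) (hm : 2 ^ m ∣ Nat.card P) :
    ∃ K : Subgroup X, H ≤ K ∧ K ≤ P ∧ Nat.card K = 2 ^ m := by
  have : Fact (Nat.Prime 2) := ⟨Nat.prime_two⟩
  have hH' : Nat.card (H.subgroupOf P) = 2 ^ i := by
    rw [← hH]; exact Nat.card_congr (Subgroup.subgroupOfEquivOfLe hHP).toEquiv
  obtain ⟨K', hK', hHK'⟩ :=
    Sylow.exists_subgroup_card_pow_prime_le 2 hm (H.subgroupOf P) hH' him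
  refine ⟨K'.map P.subtype, ?_, Subgroup.map_subtype_le _, ?_⟩
  · rw [← Subgroup.map_subgroupOf_eq_of_le hHP]
    exact Subgroup.map_mono hHK'
  · rw [Subgroup.card_map_of_injective P.subtype_injective, hK']

theorem map_conj_eq_of_mem_normalizer {X : Type*} [Group X] (H : Subgroup X) (a : X)
    (h : a ∈ Subgroup.normalizer (H : Set X)) : H.map (MulAut.conj a).toMonoidHom = H := by
  rw [Subgroup.mem_normalizer_iff] at h
  ext x
  constructor
  · rintro ⟨y, hy, rfl⟩
    have := (h y).mp hy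
    simpa using this
  · intro hx
    refine ⟨a⁻¹ * x * a, ?_, by simp [mul_assoc]⟩
    rw [SetLike.mem_coe, h]
    simpa [mul_assoc] using hx

theorem mem_normalizer_of_map_conj_eq {X : Type*} [Group X] (H : Subgroup X) (a : X)
    (h : H.map (MulAut.conj a).toMonoidHom = H) : a ∈ Subgroup.normalizer (H : Set X) := by
  rw [Subgroup.mem_normalizer_iff]
  intro y
  constructor
  · intro hy
    have : a * y * a⁻¹ ∈ H.map (MulAut.conj a).toMonoidHom := ⟨y, hy, by simp⟩
    rwa [h] at this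
  · intro hy
    rw [← h] at hy
    obtain ⟨z, hz, hzy⟩ := hy
    have : z = y := by simpa using hzy
    rwa [← this]

theorem mem_normalizer_sup {X : Type*} [Group X] (E M : Subgroup X) (a : X)
    (hE : a ∈ Subgroup.normalizer (E : Set X)) (hM : a ∈ Subgroup.normalizer (M : Set X)) :
    a ∈ Subgroup.normalizer ((E ⊔ M : Subgroup X) : Set X) := by
  apply mem_normalizer_of_map_conj_eq
  rw [Subgroup.map_sup, map_conj_eq_of_mem_normalizer E a hE, map_conj_eq_of_mem_normalizer M a hM]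

/-- The non-cyclic case. -/
theorem mem_centralizer_of_max {X : Type*} [Group X] [Finite X] (E E1 : Subgroup X) (k : ℕ)
    (hEE1 : E ≤ E1) (hE : Nat.card E = 2 ^ k) (hE1 : Nat.card E1 = 2 ^ (k + 1))
    (hnc : ¬ IsCyclic E) (a : X) (hodd : (orderOf a).Coprime 2)
    (hmax : ∀ M : Subgroup X, M ≤ E1 → Nat.card M = 2 ^ k →
      a ∈ Subgroup.normalizer (M : Set X)) :
    a ∈ Subgroup.centralizer (E1 : Set X) := by
  have : Fact (Nat.Prime 2) := ⟨Nat.prime_two⟩
  have hE1p : IsPGroup 2 E1 := IsPGroup.of_card hE1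
  have hne : E ≠ E1 := by
    intro h
    rw [h, hE1] at hE
    have := Nat.pow_right_injective (le_refl 2) hE
    omega
  obtain ⟨y, hy1, hyE⟩ : ∃ y ∈ E1, y ∉ E := by
    by_contra hcon
    push Not at hcon
    exact hne (le_antisymm hEE1 hcon)
  have hzle : Subgroup.zpowers y ≤ E1 := Subgroup.zpowers_le.mpr hy1
  obtain ⟨i, hi, hicard⟩ : ∃ i, i ≤ k + 1 ∧ Nat.card (Subgroup.zpowers y) = 2 ^ i := by
    have hdvd := Subgroup.card_dvd_of_le hzle
    rw [hE1] at hdvd
    exact (Nat.dvd_prime_pow Nat.prime_two).mp hdvd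
  have hik : i ≤ k := by
    by_contra hcon
    have hi' : i = k + 1 := by omega
    have heq : Subgroup.zpowers y = E1 :=
      Subgroup.eq_of_le_of_card_ge hzle (by rw [hicard, hE1, hi'])
    apply hnc
    have hcyc : IsCyclic (Subgroup.zpowers y) := inferInstance
    rw [heq] at hcyc
    have : IsCyclic (E.subgroupOf E1) := inferInstance
    exact (Subgroup.subgroupOfEquivOfLe hEE1).isCyclic.mp this
  obtain ⟨M, hyM, hME1, hMcard⟩ := exists_le_card_pow E1 (Subgroup.zpowers y) hzle hicard hik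
    (by rw [hE1]; exact pow_dvd_pow 2 (Nat.le_succ k))
  have hyM' : y ∈ M := hyM (Subgroup.mem_zpowers y)
  have hsup : E ⊔ M = E1 := by
    have hle : E ⊔ M ≤ E1 := sup_le hEE1 hME1
    by_contra hcon
    have hlt : E ⊔ M < E1 := lt_of_le_of_ne hle hcon
    have hc1 : Nat.card (E ⊔ M : Subgroup X) < 2 ^ (k + 1) :=
      hE1 ▸ Cfsg.Agent.Lib.Helper54.card_lt_card_of_lt hlt
    have hdvd := Subgroup.card_dvd_of_le hle
    rw [hE1] at hdvd
    obtain ⟨j, hj, hjc⟩ := (Nat.dvd_prime_pow Nat.prime_two).mp hdvd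
    have hjk : j ≤ k := by
      by_contra h'
      have hj' : j = k + 1 := by omega
      rw [hjc, hj'] at hc1
      exact lt_irrefl _ hc1
    have heq : E = E ⊔ M := Subgroup.eq_of_le_of_card_ge le_sup_left
      (by rw [hjc, hE]; exact Nat.pow_le_pow_right (by norm_num) hjk)
    apply hyE
    rw [heq]
    exact Subgroup.mem_sup_right hyM'
  have hN1 : a ∈ Subgroup.normalizer (E1 : Set X) := by
    rw [← hsup]
    exact mem_normalizer_sup E M a (hmax E hEE1 hE) (hmax M hME1 hMcard)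
  apply Cfsg.Agent.Lib.Helper11.mem_centralizer_of_comm_le_frattini E1 hE1p a hN1 hodd
  rw [Subgroup.commutator_le]
  intro e he g hg
  have hgN1 : g ∈ Subgroup.normalizer (E1 : Set X) := (Subgroup.zpowers_le.mpr hN1) hg
  have hc1 : g * e⁻¹ * g⁻¹ ∈ E1 :=
    (Subgroup.mem_normalizer_iff.mp hgN1 e⁻¹).mp (E1.inv_mem he)
  refine ⟨⟨e, he⟩ * ⟨g * e⁻¹ * g⁻¹, hc1⟩, ?_, by simp [commutatorElement_def, mul_assoc]⟩
  rw [SetLike.mem_coe, Cfsg.Agent.Lib.Helper2.mem_frattini_iff]
  intro M' hM'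
  have hidx : M'.index = 2 := Cfsg.Agent.Lib.Helper2.coatom_index hE1p hM'
  rw [Subgroup.mul_mem_iff_of_index_two hidx]
  have hMc : Nat.card (M'.map E1.subtype) = 2 ^ k := by
    rw [Subgroup.card_map_of_injective E1.subtype_injective]
    have := M'.card_mul_index
    rw [hidx, hE1, pow_succ] at this
    exact Nat.eq_of_mul_eq_mul_right (by norm_num) this
  have hgM : g ∈ Subgroup.normalizer ((M'.map E1.subtype : Subgroup X) : Set X) :=
    (Subgroup.zpowers_le.mpr (hmax _ (Subgroup.map_subtype_le _) hMc)) hg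
  have key : ∀ (z : X) (hz : z ∈ E1), (⟨z, hz⟩ : E1) ∈ M' ↔ z ∈ M'.map E1.subtype := by
    intro z hz
    constructor
    · intro h; exact ⟨⟨z, hz⟩, h, rfl⟩
    · rintro ⟨w, hw, hwz⟩
      have : w = ⟨z, hz⟩ := Subtype.ext hwz
      rwa [← this]
  rw [key e he, key _ hc1, ← (Subgroup.mem_normalizer_iff.mp hgM e⁻¹), inv_mem_iff]

/-- Let P be a 2-subgroup and A a subgroup of odd order of a finite group, with A normalizing P. Let D ≤ P with 1 < |D| < |P|. If every subgroup of P of order |D|, and also every subgroup of P of order 4 in case |D| = 2, is normalized by A, then A centralizes P. -/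
theorem result {X : Type*} [Group X] [Finite X] (P A D : Subgroup X) (hP : IsPGroup 2 P) (hA : Odd (Nat.card A))
    (hAP : A ≤ Subgroup.normalizer (P : Set X)) (hDP : D ≤ P) (hD1 : 1 < Nat.card D) (hD2 : Nat.card D < Nat.card P)
    (hinv : ∀ E : Subgroup X, E ≤ P → (Nat.card E = Nat.card D ∨ (Nat.card D = 2 ∧ Nat.card E = 4)) → A ≤ Subgroup.normalizer (E : Set X)) :
    A ≤ Subgroup.centralizer (P : Set X) := by
  have : Fact (Nat.Prime 2) := ⟨Nat.prime_two⟩
  obtain ⟨n, hn⟩ := IsPGroup.iff_card.mp hP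
  obtain ⟨k, hk⟩ := IsPGroup.iff_card.mp (hP.to_le hDP)
  have hk1 : 1 ≤ k := by
    rcases Nat.eq_zero_or_pos k with rfl | h
    · rw [hk] at hD1; simp at hD1
    · exact h
  have hkn : k < n := by
    rw [hk, hn] at hD2
    exact (Nat.pow_lt_pow_iff_right (by norm_num)).mp hD2
  intro a ha
  have hodd : (orderOf a).Coprime 2 := by
    have h1 : orderOf a ∣ Nat.card A := Subgroup.orderOf_dvd_natCard A ha
    have h2 : Odd (orderOf a) := Odd.of_dvd_nat hA h1
    exact Nat.coprime_two_right.mpr h2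
  apply mem_centralizer_of_fix_omega 2 (by norm_num) Cfsg.Agent.Lib.Helper54.omega_exponent_two
    P hP a (hAP ha) hodd
  intro x hxP hx4
  have hzP : Subgroup.zpowers x ≤ P := Subgroup.zpowers_le.mpr hxP
  obtain ⟨i, hi, hic⟩ : ∃ i, i ≤ 2 ∧ Nat.card (Subgroup.zpowers x) = 2 ^ i := by
    rw [Nat.card_zpowers]
    have hdvd := orderOf_dvd_of_pow_eq_one hx4
    exact (Nat.dvd_prime_pow Nat.prime_two).mp hdvd
  by_cases hk1' : k = 1
  · have hcycz : IsCyclic (Subgroup.zpowers x) := inferInstance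
    have hzp : IsPGroup 2 (Subgroup.zpowers x) := hP.to_le hzP
    have hnorm : a ∈ Subgroup.normalizer ((Subgroup.zpowers x : Subgroup X) : Set X) := by
      have hi012 : i = 0 ∨ i = 1 ∨ i = 2 := by omega
      rcases hi012 with rfl | rfl | rfl
      · have h0 : Subgroup.zpowers x = ⊥ := Subgroup.card_eq_one.mp (by rw [hic]; rfl)
        rw [h0, Subgroup.mem_normalizer_iff]
        intro h
        simp [Subgroup.mem_bot]
      · exact hinv _ hzP (Or.inl (by rw [hic, hk, hk1'])) ha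
      · exact hinv _ hzP (Or.inr ⟨by rw [hk, hk1']; norm_num, by rw [hic]; norm_num⟩) ha
    exact conj_eq_of_cyclic _ hzp hcycz a hnorm hodd x (Subgroup.mem_zpowers x)
  · have hk2 : 2 ≤ k := by omega
    obtain ⟨E, hzE, hEP, hEc⟩ := exists_le_card_pow P (Subgroup.zpowers x) hzP hic
      (le_trans hi hk2) (by rw [hn]; exact pow_dvd_pow 2 hkn.le)
    have hxE : x ∈ E := hzE (Subgroup.mem_zpowers x)
    have hEp : IsPGroup 2 E := hP.to_le hEP
    have haE : a ∈ Subgroup.normalizer (E : Set X) :=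
      hinv E hEP (Or.inl (by rw [hEc, hk])) ha
    by_cases hcyc : IsCyclic E
    · exact conj_eq_of_cyclic E hEp hcyc a haE hodd x hxE
    · obtain ⟨E1, hEE1, hE1P, hE1c⟩ := exists_le_card_pow P E hEP hEc (Nat.le_succ k)
        (by rw [hn]; exact pow_dvd_pow 2 hkn)
      have hcent := mem_centralizer_of_max E E1 k hEE1 hEc hE1c hcyc a hodd
        (fun M hM hMc => hinv M (hM.trans hE1P) (Or.inl (by rw [hMc, hk])) ha)
      rw [Subgroup.mem_centralizer_iff] at hcent
      have := hcent x (hEE1 hxE)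
      rw [← this, mul_inv_cancel_right]

end Cfsg.Agent.S3803
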