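import Mathlib
import Cfsg.Statements.S0663
import Cfsg.Agent.S3803

set_option autoImplicit false
open Cfsg

namespace Cfsg.Agent.S0663

open scoped commutatorElement

variable {L : Type*} [Group L]

theorem comm_le {H G : Subgroup L} (hGH : G ≤ Subgroup.normalizer (H : Set L)) : ⁅H, G⁆ ≤ H :=
  Subgroup.le_normalizer_iff_commutator_le_left.mp hGH

theorem normalizer_comm {H G : Subgroup L} (hGH : G ≤ Subgroup.normalizer (H : Set L)) :
    G ≤ Subgroup.normalizer ((⁅H, G⁆ : Subgroup L) : Set L) := by
  intro g hg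
  apply Cfsg.Agent.S3803.mem_normalizer_of_map_conj_eq
  rw [Subgroup.map_commutator, Cfsg.Agent.S3803.map_conj_eq_of_mem_normalizer H g (hGH hg),
    Cfsg.Agent.S3803.map_conj_eq_of_mem_normalizer G g (Subgroup.le_normalizer hg)]

theorem relIndex_mul_card {K H : Subgroup L} (h : K ≤ H) :
    K.relIndex H * Nat.card K = Nat.card H := by
  have h1 := (K.subgroupOf H).card_mul_index
  have h2 : Nat.card (K.subgroupOf H) = Nat.card K :=
    Nat.card_congr (Subgroup.subgroupOfEquivOfLe h).toEquiv
  rw [h2] at h1
  rw [mul_comm]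
  exact h1

theorem comm_ne_self [Finite L] {p : ℕ} [Fact p.Prime] {H G : Subgroup L} (hH : IsPGroup p H)
    (hG : IsPGroup p G) (hGH : G ≤ Subgroup.normalizer (H : Set L)) (hne : H ≠ ⊥) :
    ⁅H, G⁆ ≠ H := by
  intro heq
  have hΓ : IsPGroup p (H ⊔ G : Subgroup L) := IsPGroup.to_sup_of_normal_left' hH hG hGH
  have hnil : Group.IsNilpotent (H ⊔ G : Subgroup L) := hΓ.isNilpotent
  obtain ⟨k, hk⟩ := (Subgroup.isNilpotent_iff_lowerCentralSeries (H ⊔ G)).mp hnil
  have key : ∀ j, H ≤ (H ⊔ G).lowerCentralSeries j := by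
    intro j
    induction j with
    | zero => exact le_sup_left
    | succ j ih =>
      rw [Subgroup.lowerCentralSeries_succ]
      calc H = ⁅H, G⁆ := heq.symm
        _ ≤ ⁅(H ⊔ G).lowerCentralSeries j, H ⊔ G⁆ := Subgroup.commutator_mono ih le_sup_right
  exact hne (le_bot_iff.mp (hk ▸ key k))

theorem iter_props {N G : Subgroup L} (hGN : G ≤ Subgroup.normalizer (N : Set L)) (i : ℕ) :
    G ≤ Subgroup.normalizer ((Cfsg.iterCommutator N G i : Subgroup L) : Set L) ∧
    Cfsg.iterCommutator N G i ≤ N := by
  induction i with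
  | zero => exact ⟨hGN, le_rfl⟩
  | succ i ih => exact ⟨normalizer_comm ih.1, (comm_le ih.1).trans ih.2⟩

theorem iter_succ_le {N G : Subgroup L} (hGN : G ≤ Subgroup.normalizer (N : Set L)) (i : ℕ) :
    Cfsg.iterCommutator N G (i + 1) ≤ Cfsg.iterCommutator N G i :=
  comm_le (iter_props hGN i).1

theorem iter_mono_right {N G G' : Subgroup L} (h : G ≤ G') (i : ℕ) :
    Cfsg.iterCommutator N G i ≤ Cfsg.iterCommutator N G' i := by
  induction i with
  | zero => exact le_rfl
  | succ i ih => exact Subgroup.commutator_mono ih h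

theorem card_iter_le [Finite L] {p n : ℕ} [Fact p.Prime] {N G : Subgroup L} (hN : IsPGroup p N)
    (hG : IsPGroup p G) (hGN : G ≤ Subgroup.normalizer (N : Set L)) (hn : Nat.card N = p ^ n)
    (i : ℕ) : Nat.card (Cfsg.iterCommutator N G i) ≤ p ^ (n - i) := by
  have hp : p.Prime := Fact.out
  induction i with
  | zero => exact le_of_eq hn
  | succ i ih =>
    by_cases hbot : Cfsg.iterCommutator N G i = ⊥
    · have h0 : Cfsg.iterCommutator N G (i + 1) = ⊥ :=
        le_bot_iff.mp (hbot ▸ iter_succ_le hGN i)
      rw [h0, Subgroup.card_bot]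
      exact Nat.one_le_pow _ _ hp.pos
    · have hlt : Cfsg.iterCommutator N G (i + 1) < Cfsg.iterCommutator N G i :=
        lt_of_le_of_ne (iter_succ_le hGN i)
          (comm_ne_self (hN.to_le (iter_props hGN i).2) hG (iter_props hGN i).1 hbot)
      have hc := Cfsg.Agent.Lib.Helper54.card_lt_card_of_lt hlt
      obtain ⟨e, he⟩ := IsPGroup.iff_card.mp (hN.to_le (iter_props hGN (i + 1)).2)
      rw [he] at hc ⊢
      have h1 : p ^ e < p ^ (n - i) := lt_of_lt_of_le hc ih
      have h2 : e < n - i := (Nat.pow_lt_pow_iff_right hp.one_lt).mp h1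
      exact Nat.pow_le_pow_right hp.pos (by omega)

theorem card_iter_eq [Finite L] {p n : ℕ} [Fact p.Prime] {N G : Subgroup L} (hN : IsPGroup p N)
    (hG : IsPGroup p G) (hGN : G ≤ Subgroup.normalizer (N : Set L)) (hn : Nat.card N = p ^ n)
    (hfull : Cfsg.iterCommutator N G (n - 1) ≠ ⊥) :
    ∀ i, i ≤ n → Nat.card (Cfsg.iterCommutator N G i) = p ^ (n - i) := by
  have hp : p.Prime := Fact.out
  have lower : ∀ k i, i + k = n - 1 → p ^ (k + 1) ≤ Nat.card (Cfsg.iterCommutator N G i) := by
    intro k
    induction k with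
    | zero =>
      intro i hi
      have hi' : i = n - 1 := by omega
      rw [hi']
      obtain ⟨e, he⟩ := IsPGroup.iff_card.mp (hN.to_le (iter_props hGN (n - 1)).2)
      rw [he]
      apply Nat.pow_le_pow_right hp.pos
      by_contra h0
      have he0 : e = 0 := by omega
      rw [he0, pow_zero] at he
      exact hfull (Subgroup.card_eq_one.mp he)
    | succ k ih =>
      intro i hi
      have h1 := ih (i + 1) (by omega)
      have hne1 : Cfsg.iterCommutator N G (i + 1) ≠ ⊥ := by
        intro h0
        rw [h0, Subgroup.card_bot] at h1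
        have : 1 < p ^ (k + 1) := Nat.one_lt_pow (by omega) hp.one_lt
        omega
      have hne : Cfsg.iterCommutator N G i ≠ ⊥ := by
        intro h0
        exact hne1 (le_bot_iff.mp (h0 ▸ iter_succ_le hGN i))
      have hlt : Cfsg.iterCommutator N G (i + 1) < Cfsg.iterCommutator N G i :=
        lt_of_le_of_ne (iter_succ_le hGN i)
          (comm_ne_self (hN.to_le (iter_props hGN i).2) hG (iter_props hGN i).1 hne)
      have hc := Cfsg.Agent.Lib.Helper54.card_lt_card_of_lt hlt
      obtain ⟨e, he⟩ := IsPGroup.iff_card.mp (hN.to_le (iter_props hGN i).2)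
      rw [he] at hc ⊢
      have h2 : p ^ (k + 1) < p ^ e := lt_of_le_of_lt h1 hc
      have h3 : k + 1 < e := (Nat.pow_lt_pow_iff_right hp.one_lt).mp h2
      exact Nat.pow_le_pow_right hp.pos (by omega)
  intro i hi
  apply le_antisymm (card_iter_le hN hG hGN hn i)
  rcases Nat.lt_or_ge i n with h | h
  · have h1 := lower (n - 1 - i) i (by omega)
    have e : n - 1 - i + 1 = n - i := by omega
    rwa [e] at h1
  · have e : n - i = 0 := by omega
    rw [e, pow_zero]
    exact Nat.card_pos

/-- The structure of a full-length chain. -/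
theorem full_length [Finite L] {p n : ℕ} [Fact p.Prime] {N G : Subgroup L} (hN : IsPGroup p N)
    (hG : IsPGroup p G) (hGN : G ≤ Subgroup.normalizer (N : Set L)) (hn : Nat.card N = p ^ n)
    (hcard : ∀ i, i ≤ n → Nat.card (Cfsg.iterCommutator N G i) = p ^ (n - i)) :
    ∀ H : Subgroup L, H ≤ N → G ≤ Subgroup.normalizer (H : Set L) →
      (∃ i ≤ n, H = Cfsg.iterCommutator N G i) ∧ N ≤ Subgroup.normalizer (H : Set L) := by
  have hp : p.Prime := Fact.out
  have hΓN : N ⊔ G ≤ Subgroup.normalizer (N : Set L) := sup_le Subgroup.le_normalizer hGN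
  have hΓp : IsPGroup p (N ⊔ G : Subgroup L) := IsPGroup.to_sup_of_normal_left' hN hG hGN
  have heq : ∀ i, i ≤ n → Cfsg.iterCommutator N G i = Cfsg.iterCommutator N (N ⊔ G) i := by
    intro i hi
    apply Subgroup.eq_of_le_of_card_ge (iter_mono_right le_sup_right i)
    rw [hcard i hi]
    exact card_iter_le hN hΓp hΓN hn i
  have hnorm : ∀ i, i ≤ n →
      N ≤ Subgroup.normalizer ((Cfsg.iterCommutator N G i : Subgroup L) : Set L) := by
    intro i hi
    rw [heq i hi]
    exact le_sup_left.trans (iter_props hΓN i).1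
  have hbotn : Cfsg.iterCommutator N G n = ⊥ := by
    apply Subgroup.card_eq_one.mp
    rw [hcard n le_rfl, Nat.sub_self, pow_zero]
  -- the sup lemma
  have hsup : ∀ j, j < n → ∀ H : Subgroup L, H ≤ Cfsg.iterCommutator N G j →
      ¬ H ≤ Cfsg.iterCommutator N G (j + 1) →
      H ⊔ Cfsg.iterCommutator N G (j + 1) = Cfsg.iterCommutator N G j := by
    intro j hj H hHj hHj1
    have hle : H ⊔ Cfsg.iterCommutator N G (j + 1) ≤ Cfsg.iterCommutator N G j :=
      sup_le hHj (iter_succ_le hGN j)
    by_contra hne
    have hlt := lt_of_le_of_ne hle hne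
    have hc := Cfsg.Agent.Lib.Helper54.card_lt_card_of_lt hlt
    rw [hcard j hj.le] at hc
    obtain ⟨e, he⟩ := IsPGroup.iff_card.mp (hN.to_le (hle.trans (iter_props hGN j).2))
    rw [he] at hc
    have h2 : e < n - j := (Nat.pow_lt_pow_iff_right hp.one_lt).mp hc
    have h3 : Cfsg.iterCommutator N G (j + 1) = H ⊔ Cfsg.iterCommutator N G (j + 1) := by
      apply Subgroup.eq_of_le_of_card_ge le_sup_right
      rw [he, hcard (j + 1) (by omega)]
      exact Nat.pow_le_pow_right hp.pos (by omega)
    apply hHj1
    rw [h3]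
    exact le_sup_left
  -- classification
  have hclass : ∀ k j, j + k + 1 = n → ∀ H : Subgroup L, H ≤ N →
      G ≤ Subgroup.normalizer (H : Set L) → H ≤ Cfsg.iterCommutator N G j →
      ¬ H ≤ Cfsg.iterCommutator N G (j + 1) → H = Cfsg.iterCommutator N G j := by
    intro k
    induction k with
    | zero =>
      intro j hj H hHN hGH hHj hHj1
      have h1 := hsup j (by omega) H hHj hHj1
      have h2 : Cfsg.iterCommutator N G (j + 1) = ⊥ := by
        have e : j + 1 = n := by omega
        rw [e]; exact hbotn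
      rw [h2, sup_bot_eq] at h1
      exact h1
    | succ k ih =>
      intro j hj H hHN hGH hHj hHj1
      have h1 := hsup j (by omega) H hHj hHj1
      have hH1le : ⁅H, G⁆ ≤ Cfsg.iterCommutator N G (j + 1) :=
        Subgroup.commutator_mono hHj le_rfl
      have hH1not : ¬ ⁅H, G⁆ ≤ Cfsg.iterCommutator N G (j + 1 + 1) := by
        intro hc
        have hN2 := hnorm (j + 1 + 1) (by omega)
        let S : Subgroup L :=
          { carrier := {x | x ∈ N ∧ ∀ g ∈ G, ⁅x, g⁆ ∈ Cfsg.iterCommutator N G (j + 1 + 1)}
            mul_mem' := by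
              intro x y hx hy
              refine ⟨N.mul_mem hx.1 hy.1, ?_⟩
              intro g hg
              have e : ⁅x * y, g⁆ = x * ⁅y, g⁆ * x⁻¹ * ⁅x, g⁆ := by
                simp only [commutatorElement_def]; group
              rw [e]
              exact Subgroup.mul_mem _
                ((Subgroup.mem_normalizer_iff.mp (hN2 hx.1) _).mp (hy.2 g hg)) (hx.2 g hg)
            one_mem' := by
              refine ⟨N.one_mem, ?_⟩
              intro g _
              rw [commutatorElement_one_left]
              exact Subgroup.one_mem _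
            inv_mem' := by
              intro x hx
              refine ⟨N.inv_mem hx.1, ?_⟩
              intro g hg
              have e : ⁅x⁻¹, g⁆ = x⁻¹ * (⁅x, g⁆)⁻¹ * (x⁻¹)⁻¹ := by
                simp only [commutatorElement_def]; group
              rw [e]
              exact (Subgroup.mem_normalizer_iff.mp (hN2 (N.inv_mem hx.1)) _).mp
                (Subgroup.inv_mem _ (hx.2 g hg)) }
        have hHS : H ≤ S := by
          intro x hx
          exact ⟨hHN hx, fun g hg => hc (Subgroup.commutator_mem_commutator hx hg)⟩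
        have hN1S : Cfsg.iterCommutator N G (j + 1) ≤ S := by
          intro x hx
          exact ⟨(iter_props hGN (j + 1)).2 hx,
            fun g hg => Subgroup.commutator_mem_commutator hx hg⟩
        have hNjS : Cfsg.iterCommutator N G j ≤ S := by
          rw [← h1]; exact sup_le hHS hN1S
        have hle : Cfsg.iterCommutator N G (j + 1) ≤ Cfsg.iterCommutator N G (j + 1 + 1) := by
          show ⁅Cfsg.iterCommutator N G j, G⁆ ≤ _
          rw [Subgroup.commutator_le]
          intro x hx g hg
          exact (hNjS hx).2 g hg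
        have hcc := Nat.card_le_card_of_injective _ (Subgroup.inclusion_injective hle)
        rw [hcard (j + 1) (by omega), hcard (j + 1 + 1) (by omega)] at hcc
        have := (Nat.pow_le_pow_iff_right hp.one_lt).mp hcc
        omega
      have h2 := ih (j + 1) (by omega) ⁅H, G⁆ ((comm_le hGH).trans hHN) (normalizer_comm hGH)
        hH1le hH1not
      have h3 : Cfsg.iterCommutator N G (j + 1) ≤ H := h2 ▸ comm_le hGH
      rw [sup_eq_left.mpr h3] at h1
      exact h1
  intro H hHN hGH
  by_cases hb : H = ⊥
  · refine ⟨⟨n, le_rfl, hb.trans hbotn.symm⟩, ?_⟩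
    rw [hb]
    intro x _
    rw [Subgroup.mem_normalizer_iff]
    intro h
    simp [Subgroup.mem_bot]
  · have hex : ∀ i, i ≤ n → H ≤ Cfsg.iterCommutator N G i ∨
        ∃ j, j < i ∧ H ≤ Cfsg.iterCommutator N G j ∧ ¬ H ≤ Cfsg.iterCommutator N G (j + 1) := by
      intro i
      induction i with
      | zero => intro _; exact Or.inl hHN
      | succ i ih =>
        intro hi
        rcases ih (by omega) with h | ⟨j, hj, h⟩
        · by_cases h' : H ≤ Cfsg.iterCommutator N G (i + 1)
          · exact Or.inl h'
          · exact Or.inr ⟨i, Nat.lt_succ_self i, h, h'⟩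
        · exact Or.inr ⟨j, by omega, h⟩
    rcases hex n le_rfl with h | ⟨j, hj, h1, h2⟩
    · rw [hbotn] at h
      exact absurd (le_bot_iff.mp h) hb
    · have hH := hclass (n - j - 1) j (by omega) H hHN hGH h1 h2
      refine ⟨⟨j, hj.le, hH⟩, ?_⟩
      rw [hH]
      exact hnorm j hj.le

/-- A p-group acts uniserially on a p-group N of order p^n exactly when the iterated commutator chain from N has length n; in that case the chain terms are all the invariant subgroups of N and they are normal in N. -/
theorem result {L : Type*} [Group L] [Finite L] {p : ℕ} [Fact p.Prime] (N G : Subgroup L) (hN : IsPGroup p N) (hG : IsPGroup p G) (hGN : G ≤ Subgroup.normalizer (N : Set L)) (n : ℕ) (hn : Nat.card N = p ^ n) : ((∀ H : Subgroup L, H ≤ N → G ≤ Subgroup.normalizer (H : Set L) → H ≠ ⊥ → (⁅H, G⁆).relIndex H = p) ↔ Cfsg.iterCommutator N G (n - 1) ≠ ⊥ ∨ n = 0) ∧ ((∀ H : Subgroup L, H ≤ N → G ≤ Subgroup.normalizer (H : Set L) → H ≠ ⊥ → (⁅H, G⁆).relIndex H = p) → ∀ H : Subgroup L, H ≤ N → G ≤ Subgroup.normalizer (H : Set L) → (∃ i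 ≤ n, H = Cfsg.iterCommutator N G i) ∧ N ≤ Subgroup.normalizer (H : Set L)) := by
  have hp : p.Prime := Fact.out
  have hU1 : (∀ H : Subgroup L, H ≤ N → G ≤ Subgroup.normalizer (H : Set L) → H ≠ ⊥ →
      (⁅H, G⁆).relIndex H = p) →
      ∀ i, i ≤ n → Nat.card (Cfsg.iterCommutator N G i) = p ^ (n - i) := by
    intro hU i
    induction i with
    | zero => intro _; exact hn
    | succ i ih =>
      intro hi
      have hci := ih (by omega)
      have hne : Cfsg.iterCommutator N G i ≠ ⊥ := by
        intro h0
        rw [h0, Subgroup.card_bot] at hci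
        have : 1 < p ^ (n - i) := Nat.one_lt_pow (by omega) hp.one_lt
        omega
      have hr := hU _ (iter_props hGN i).2 (iter_props hGN i).1 hne
      have hm := relIndex_mul_card (iter_succ_le hGN i)
      have hm' : (⁅Cfsg.iterCommutator N G i, G⁆).relIndex (Cfsg.iterCommutator N G i) *
          Nat.card (Cfsg.iterCommutator N G (i + 1)) = Nat.card (Cfsg.iterCommutator N G i) := hm
      rw [hr, hci] at hm'
      have e : n - i = (n - (i + 1)) + 1 := by omega
      rw [e, pow_succ'] at hm'
      exact Nat.eq_of_mul_eq_mul_left hp.pos hm'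
  refine ⟨⟨?_, ?_⟩, ?_⟩
  · intro hU
    by_cases h0 : n = 0
    · exact Or.inr h0
    · left
      intro hbot
      have hc := hU1 hU (n - 1) (by omega)
      rw [hbot, Subgroup.card_bot] at hc
      have e : n - (n - 1) = 1 := by omega
      rw [e, pow_one] at hc
      exact hp.one_lt.ne hc
  · intro h H hHN hGH hHne
    by_cases h0 : n = 0
    · exfalso
      rw [h0, pow_zero] at hn
      have hNbot : N = ⊥ := Subgroup.card_eq_one.mp hn
      rw [hNbot] at hHN
      exact hHne (le_bot_iff.mp hHN)
    · have hfull : Cfsg.iterCommutator N G (n - 1) ≠ ⊥ := by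
        rcases h with h | h
        · exact h
        · exact absurd h h0
      have hcard := card_iter_eq hN hG hGN hn hfull
      obtain ⟨⟨i, hi, rfl⟩, -⟩ := full_length hN hG hGN hn hcard H hHN hGH
      have hin : i < n := by
        rcases Nat.lt_or_ge i n with h' | h'
        · exact h'
        · exfalso
          have hi' : i = n := by omega
          apply hHne
          apply Subgroup.card_eq_one.mp
          rw [hcard i hi, hi', Nat.sub_self, pow_zero]
      have hm := relIndex_mul_card (iter_succ_le hGN i)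
      have hm' : (⁅Cfsg.iterCommutator N G i, G⁆).relIndex (Cfsg.iterCommutator N G i) *
          Nat.card (Cfsg.iterCommutator N G (i + 1)) = Nat.card (Cfsg.iterCommutator N G i) := hm
      rw [hcard i hi, hcard (i + 1) (by omega)] at hm'
      have e : n - i = (n - (i + 1)) + 1 := by omega
      rw [e, pow_succ'] at hm'
      exact Nat.eq_of_mul_eq_mul_right (pow_pos hp.pos _) hm'
  · intro hU
    exact full_length hN hG hGN hn (hU1 hU)

end Cfsg.Agent.S0663
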