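import Cfsg.Statements.S0693
import Cfsg.Agent.Lib.Helper12.GL2b

set_option autoImplicit false
open Cfsg

namespace Cfsg.Agent.S0693

open Cfsg.Agent.Lib.Helper12.GL2

/-- subtree -/
def T_0 : BT := (BT.node (BT.node (BT.node (BT.node (BT.node BT.leaf 6903 BT.leaf) 10325 (BT.node BT.leaf 13747 BT.leaf)) 17169 (BT.node (BT.node BT.leaf 20591 BT.leaf) 24013 BT.leaf)) 27435 (BT.node (BT.node (BT.node BT.leaf 30857 BT.leaf) 34279 (BT.node BT.leaf 37701 BT.leaf)) 41123 (BT.node (BT.node BT.leaf 44545 BT.leaf) 47967 BT.leaf))) 51389 (BT.node (BT.node (BT.node (BT.node BT.leaf 54811 BT.leaf) 58233 (BT.node BT.leaf 61655 BT.leaf)) 65077 (BT.node (BT.node BT.leaf 68499 BT.leaf) 71921 BT.leaf)) 75343 (BT.node (BT.node (BT.node BT.leaf 78765 BT.leaf) 82187 (BT.node BT.leaf 85609 BT.leaf)) 89031 (BT.node (BT.node BT.leaf 92453 BT.leaf) 95875 BT.leaf))))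

/-- subtree -/
def T_1 : BT := (BT.node (BT.node (BT.node (BT.node (BT.node BT.leaf 102719 BT.leaf) 106141 (BT.node BT.leaf 109563 BT.leaf)) 112985 (BT.node (BT.node BT.leaf 116407 BT.leaf) 119829 BT.leaf)) 123251 (BT.node (BT.node (BT.node BT.leaf 126673 BT.leaf) 130095 (BT.node BT.leaf 133517 BT.leaf)) 136939 (BT.node (BT.node BT.leaf 140361 BT.leaf) 143783 BT.leaf))) 147205 (BT.node (BT.node (BT.node (BT.node BT.leaf 150627 BT.leaf) 154049 (BT.node BT.leaf 157471 BT.leaf)) 160893 (BT.node (BT.node BT.leaf 164315 BT.leaf) 167737 BT.leaf)) 171159 (BT.node (BT.node (BT.node BT.leaf 174581 BT.leaf) 178003 BT.leaf) 181425 (BT.node (BT.node BT.leaf 184847 BT.leaf) 188269 BT.leaf))))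

/-- subtree -/
def T_2 : BT := BT.node T_0 99297 T_1

/-- subtree -/
def T_3 : BT := (BT.node (BT.node (BT.node (BT.node (BT.node BT.leaf 195113 BT.leaf) 198535 (BT.node BT.leaf 201957 BT.leaf)) 205380 (BT.node (BT.node BT.leaf 212077 BT.leaf) 212467 BT.leaf)) 217650 (BT.node (BT.node (BT.node BT.leaf 221072 BT.leaf) 223124 (BT.node BT.leaf 227343 BT.leaf)) 231033 (BT.node (BT.node BT.leaf 233757 BT.leaf) 239539 BT.leaf))) 242867 (BT.node (BT.node (BT.node (BT.node BT.leaf 245938 BT.leaf) 249582 (BT.node BT.leaf 251420 BT.leaf)) 256276 (BT.node (BT.node BT.leaf 260366 BT.leaf) 264397 BT.leaf)) 266542 (BT.node (BT.node (BT.node BT.leaf 268407 BT.leaf) 272915 BT.leaf) 278151 (BT.node (BT.node BT.leaf 278941 BT.leaf) 283317 BT.leaf))))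

/-- subtree -/
def T_4 : BT := (BT.node (BT.node (BT.node (BT.node (BT.node BT.leaf 290869 BT.leaf) 294068 (BT.node BT.leaf 297428 BT.leaf)) 300997 (BT.node (BT.node BT.leaf 304334 BT.leaf) 306622 BT.leaf)) 310044 (BT.node (BT.node (BT.node BT.leaf 316717 BT.leaf) 318245 (BT.node BT.leaf 321294 BT.leaf)) 326623 (BT.node (BT.node BT.leaf 329293 BT.leaf) 331560 BT.leaf))) 337249 (BT.node (BT.node (BT.node (BT.node BT.leaf 338332 BT.leaf) 343488 (BT.node BT.leaf 347684 BT.leaf)) 348820 (BT.node (BT.node BT.leaf 354528 BT.leaf) 357645 BT.leaf)) 361176 (BT.node (BT.node (BT.node BT.leaf 362637 BT.leaf) 366448 BT.leaf) 369575 (BT.node (BT.node BT.leaf 374531 BT.leaf) 378482 BT.leaf))))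

/-- subtree -/
def T_5 : BT := BT.node T_3 286603 T_4

/-- subtree -/
def T_6 : BT := BT.node T_2 191691 T_5

/-- subtree -/
def T_7 : BT := (BT.node (BT.node (BT.node (BT.node (BT.node BT.leaf 385326 BT.leaf) 388579 (BT.node BT.leaf 391077 BT.leaf)) 393443 (BT.node (BT.node BT.leaf 400131 BT.leaf) 401277 BT.leaf)) 407212 (BT.node (BT.node (BT.node BT.leaf 409111 BT.leaf) 410760 (BT.node BT.leaf 414650 BT.leaf)) 420614 (BT.node (BT.node BT.leaf 424574 BT.leaf) 424934 BT.leaf))) 431052 (BT.node (BT.node (BT.node (BT.node BT.leaf 431760 BT.leaf) 437150 (BT.node BT.leaf 442085 BT.leaf)) 444327 (BT.node (BT.node BT.leaf 446189 BT.leaf) 449726 BT.leaf)) 454686 (BT.node (BT.node (BT.node BT.leaf 457682 BT.leaf) 462007 (BT.node BT.leaf 465638 BT.leaf)) 467455 (BT.node (BT.node BT.leaf 471285 BT.leaf) 475538 BT.leaf))))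

/-- subtree -/
def T_8 : BT := (BT.node (BT.node (BT.node (BT.node (BT.node BT.leaf 482253 BT.leaf) 486449 (BT.node BT.leaf 488395 BT.leaf)) 492261 (BT.node (BT.node BT.leaf 495683 BT.leaf) 500137 BT.leaf)) 502840 (BT.node (BT.node (BT.node BT.leaf 506371 BT.leaf) 509012 (BT.node BT.leaf 513433 BT.leaf)) 517192 (BT.node (BT.node BT.leaf 519895 BT.leaf) 525313 BT.leaf))) 527458 (BT.node (BT.node (BT.node (BT.node BT.leaf 529544 BT.leaf) 533712 (BT.node BT.leaf 536814 BT.leaf)) 540143 (BT.node (BT.node BT.leaf 545771 BT.leaf) 548045 BT.leaf)) 552821 (BT.node (BT.node (BT.node BT.leaf 555923 BT.leaf) 557823 BT.leaf) 561733 (BT.node (BT.node BT.leaf 566575 BT.leaf) 568298 BT.leaf))))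

/-- subtree -/
def T_9 : BT := BT.node T_7 478057 T_8

/-- subtree -/
def T_10 : BT := (BT.node (BT.node (BT.node (BT.node (BT.node BT.leaf 576775 BT.leaf) 578198 (BT.node BT.leaf 581448 BT.leaf)) 588136 (BT.node (BT.node BT.leaf 591343 BT.leaf) 594856 BT.leaf)) 597175 (BT.node (BT.node (BT.node BT.leaf 601935 BT.leaf) 605505 (BT.node BT.leaf 608668 BT.leaf)) 609362 (BT.node (BT.node BT.leaf 613185 BT.leaf) 616140 BT.leaf))) 622053 (BT.node (BT.node (BT.node (BT.node BT.leaf 625214 BT.leaf) 629210 (BT.node BT.leaf 631326 BT.leaf)) 635702 (BT.node (BT.node BT.leaf 637401 BT.leaf) 640973 BT.leaf)) 645746 (BT.node (BT.node (BT.node BT.leaf 649351 BT.leaf) 654312 BT.leaf) 655097 (BT.node (BT.node BT.leaf 659617 BT.leaf) 663629 BT.leaf))))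

/-- subtree -/
def T_11 : BT := (BT.node (BT.node (BT.node (BT.node (BT.node BT.leaf 669254 BT.leaf) 673344 (BT.node BT.leaf 677094 BT.leaf)) 682029 (BT.node (BT.node BT.leaf 683424 BT.leaf) 688468 BT.leaf)) 689500 (BT.node (BT.node (BT.node BT.leaf 694072 BT.leaf) 697849 (BT.node BT.leaf 701153 BT.leaf)) 704142 (BT.node (BT.node BT.leaf 709236 BT.leaf) 711537 BT.leaf))) 714369 (BT.node (BT.node (BT.node (BT.node BT.leaf 717608 BT.leaf) 721580 (BT.node BT.leaf 724635 BT.leaf)) 729425 (BT.node (BT.node BT.leaf 734274 BT.leaf) 737810 BT.leaf)) 738140 (BT.node (BT.node (BT.node BT.leaf 741784 BT.leaf) 745757 BT.leaf) 751498 (BT.node (BT.node BT.leaf 754201 BT.leaf) 758444 BT.leaf))))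

/-- subtree -/
def T_12 : BT := BT.node T_10 665749 T_11

/-- subtree -/
def T_13 : BT := BT.node T_9 573147 T_12

/-- subtree -/
def T_14 : BT := BT.node T_6 382421 T_13

/-- subtree -/
def T_15 : BT := (BT.node (BT.node (BT.node (BT.node (BT.node BT.leaf 765288 BT.leaf) 767410 (BT.node BT.leaf 769512 BT.leaf)) 774018 (BT.node (BT.node BT.leaf 779019 BT.leaf) 782555 BT.leaf)) 786229 (BT.node (BT.node (BT.node BT.leaf 789242 BT.leaf) 793073 (BT.node BT.leaf 796086 BT.leaf)) 799406 (BT.node (BT.node BT.leaf 803798 BT.leaf) 805221 BT.leaf))) 809558 (BT.node (BT.node (BT.node (BT.node BT.leaf 813094 BT.leaf) 815146 (BT.node BT.leaf 821486 BT.leaf)) 821520 (BT.node (BT.node BT.leaf 825465 BT.leaf) 829241 BT.leaf)) 834352 (BT.node (BT.node (BT.node BT.leaf 837747 BT.leaf) 841707 (BT.node BT.leaf 845667 BT.leaf)) 845997 (BT.node (BT.node BT.leaf 849868 BT.leaf) 853709 BT.leaf))))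

/-- subtree -/
def T_16 : BT := (BT.node (BT.node (BT.node (BT.node (BT.node BT.leaf 861986 BT.leaf) 863461 (BT.node BT.leaf 868190 BT.leaf)) 870819 (BT.node (BT.node BT.leaf 874848 BT.leaf) 880630 BT.leaf)) 882682 (BT.node (BT.node (BT.node BT.leaf 885114 BT.leaf) 890652 (BT.node BT.leaf 892319 BT.leaf)) 896723 (BT.node (BT.node BT.leaf 899452 BT.leaf) 902986 BT.leaf))) 905832 (BT.node (BT.node (BT.node (BT.node BT.leaf 910208 BT.leaf) 915364 (BT.node BT.leaf 918028 BT.leaf)) 920474 (BT.node (BT.node BT.leaf 924231 BT.leaf) 927795 BT.leaf)) 931217 (BT.node (BT.node (BT.node BT.leaf 934851 BT.leaf) 937434 BT.leaf) 942511 (BT.node (BT.node BT.leaf 944631 BT.leaf) 947536 BT.leaf))))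

/-- subtree -/
def T_17 : BT := BT.node T_15 858564 T_16

/-- subtree -/
def T_18 : BT := (BT.node (BT.node (BT.node (BT.node (BT.node BT.leaf 956055 BT.leaf) 957517 (BT.node BT.leaf 960966 BT.leaf)) 967412 (BT.node (BT.node BT.leaf 969358 BT.leaf) 973767 BT.leaf)) 976731 (BT.node (BT.node (BT.node BT.leaf 980852 BT.leaf) 984522 (BT.node BT.leaf 985431 BT.leaf)) 991366 (BT.node (BT.node BT.leaf 995010 BT.leaf) 996734 BT.leaf))) 1002091 (BT.node (BT.node (BT.node (BT.node BT.leaf 1005621 BT.leaf) 1008476 (BT.node BT.leaf 1012683 BT.leaf)) 1013345 (BT.node (BT.node BT.leaf 1018024 BT.leaf) 1020932 BT.leaf)) 1026866 (BT.node (BT.node (BT.node BT.leaf 1026900 BT.leaf) 1032029 BT.leaf) 1036389 (BT.node (BT.node BT.leaf 1038005 BT.leaf) 1043941 BT.leaf))))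

/-- subtree -/
def T_19 : BT := (BT.node (BT.node (BT.node (BT.node (BT.node BT.leaf 1048181 BT.leaf) 1052561 (BT.node BT.leaf 1056184 BT.leaf)) 1060215 (BT.node (BT.node BT.leaf 1062335 BT.leaf) 1065381 BT.leaf)) 1069420 (BT.node (BT.node (BT.node BT.leaf 1075405 BT.leaf) 1076488 (BT.node BT.leaf 1081052 BT.leaf)) 1085772 (BT.node (BT.node BT.leaf 1087088 BT.leaf) 1090624 BT.leaf))) 1094435 (BT.node (BT.node (BT.node (BT.node BT.leaf 1098162 BT.leaf) 1102623 (BT.node BT.leaf 1103891 BT.leaf)) 1108123 (BT.node (BT.node BT.leaf 1110936 BT.leaf) 1115443 BT.leaf)) 1120192 (BT.node (BT.node (BT.node BT.leaf 1122116 BT.leaf) 1124423 BT.leaf) 1130270 (BT.node (BT.node BT.leaf 1133175 BT.leaf) 1136597 BT.leaf))))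

/-- subtree -/
def T_20 : BT := BT.node T_18 1046343 T_19

/-- subtree -/
def T_21 : BT := BT.node T_17 950958 T_20

/-- subtree -/
def T_22 : BT := (BT.node (BT.node (BT.node (BT.node (BT.node BT.leaf 1142343 BT.leaf) 1145581 (BT.node BT.leaf 1151448 BT.leaf)) 1155538 (BT.node (BT.node BT.leaf 1158903 BT.leaf) 1161468 BT.leaf)) 1164979 (BT.node (BT.node (BT.node BT.leaf 1168549 BT.leaf) 1171334 (BT.node BT.leaf 1173269 BT.leaf)) 1179123 (BT.node (BT.node BT.leaf 1181329 BT.leaf) 1187016 BT.leaf))) 1189090 (BT.node (BT.node (BT.node (BT.node BT.leaf 1192054 BT.leaf) 1196989 (BT.node BT.leaf 1200384 BT.leaf)) 1203833 (BT.node (BT.node BT.leaf 1207489 BT.leaf) 1208197 BT.leaf)) 1212386 (BT.node (BT.node (BT.node BT.leaf 1217077 BT.leaf) 1219129 (BT.node BT.leaf 1223978 BT.leaf)) 1228686 (BT.node (BT.node BT.leaf 1231502 BT.leaf) 1232280 BT.leaf))))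

/-- subtree -/
def T_23 : BT := (BT.node (BT.node (BT.node (BT.node (BT.node BT.leaf 1240625 BT.leaf) 1243832 (BT.node BT.leaf 1246888 BT.leaf)) 1249990 (BT.node (BT.node BT.leaf 1254880 BT.leaf) 1259688 BT.leaf)) 1262652 (BT.node (BT.node (BT.node BT.leaf 1266760 BT.leaf) 1267864 (BT.node BT.leaf 1270842 BT.leaf)) 1274802 (BT.node (BT.node BT.leaf 1278130 BT.leaf) 1281887 BT.leaf))) 1286076 (BT.node (BT.node (BT.node (BT.node BT.leaf 1291433 BT.leaf) 1294136 (BT.node BT.leaf 1295162 BT.leaf)) 1299542 (BT.node (BT.node BT.leaf 1305143 BT.leaf) 1307969 BT.leaf)) 1310194 (BT.node (BT.node (BT.node BT.leaf 1312487 BT.leaf) 1319175 BT.leaf) 1321657 (BT.node (BT.node BT.leaf 1323718 BT.leaf) 1329382 BT.leaf))))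

/-- subtree -/
def T_24 : BT := BT.node T_22 1237781 T_23

/-- subtree -/
def T_25 : BT := (BT.node (BT.node (BT.node (BT.node (BT.node BT.leaf 1333586 BT.leaf) 1338508 (BT.node BT.leaf 1342598 BT.leaf)) 1346629 (BT.node (BT.node BT.leaf 1349119 BT.leaf) 1350707 BT.leaf)) 1356191 (BT.node (BT.node (BT.node BT.leaf 1360518 BT.leaf) 1363539 (BT.node BT.leaf 1366848 BT.leaf)) 1369565 (BT.node (BT.node BT.leaf 1373396 BT.leaf) 1377227 BT.leaf))) 1379000 (BT.node (BT.node (BT.node (BT.node BT.leaf 1383253 BT.leaf) 1388085 (BT.node BT.leaf 1389952 BT.leaf)) 1395639 (BT.node (BT.node BT.leaf 1398677 BT.leaf) 1402247 BT.leaf)) 1405004 (BT.node (BT.node (BT.node BT.leaf 1408225 BT.leaf) 1410256 BT.leaf) 1414932 (BT.node (BT.node BT.leaf 1417328 BT.leaf) 1423015 BT.leaf))))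

/-- subtree -/
def T_26 : BT := (BT.node (BT.node (BT.node (BT.node (BT.node BT.leaf 1428679 BT.leaf) 1434112 (BT.node BT.leaf 1435157 BT.leaf)) 1437660 (BT.node (BT.node BT.leaf 1444357 BT.leaf) 1447086 BT.leaf)) 1450730 (BT.node (BT.node (BT.node BT.leaf 1453635 BT.leaf) 1455357 (BT.node BT.leaf 1458920 BT.leaf)) 1463476 (BT.node (BT.node BT.leaf 1468032 BT.leaf) 1469552 BT.leaf))) 1473855 (BT.node (BT.node (BT.node (BT.node BT.leaf 1477167 BT.leaf) 1480163 (BT.node BT.leaf 1483696 BT.leaf)) 1487269 (BT.node (BT.node BT.leaf 1492449 BT.leaf) 1495687 BT.leaf)) 1498185 (BT.node (BT.node (BT.node BT.leaf 1502086 BT.leaf) 1507180 BT.leaf) 1507965 (BT.node (BT.node BT.leaf 1512753 BT.leaf) 1515295 BT.leaf))))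

/-- subtree -/
def T_27 : BT := BT.node T_25 1424913 T_26

/-- subtree -/
def T_28 : BT := BT.node T_24 1331439 T_27

/-- subtree -/
def T_29 : BT := BT.node T_21 1139226 T_28

/-- subtree -/
def T_30 : BT := BT.node T_14 758933 T_29

/-- subtree -/
def T_31 : BT := (BT.node (BT.node (BT.node (BT.node (BT.node BT.leaf 1521650 BT.leaf) 1527712 (BT.node BT.leaf 1529863 BT.leaf)) 1534406 (BT.node (BT.node BT.leaf 1536707 BT.leaf) 1541534 BT.leaf)) 1543150 (BT.node (BT.node (BT.node BT.leaf 1547403 BT.leaf) 1550962 (BT.node BT.leaf 1553817 BT.leaf)) 1556295 (BT.node (BT.node BT.leaf 1561573 BT.leaf) 1565145 BT.leaf))) 1568681 (BT.node (BT.node (BT.node (BT.node BT.leaf 1573066 BT.leaf) 1574393 (BT.node BT.leaf 1579996 BT.leaf)) 1580544 (BT.node (BT.node BT.leaf 1584380 BT.leaf) 1588265 BT.leaf)) 1591032 (BT.node (BT.node (BT.node BT.leaf 1596970 BT.leaf) 1599424 (BT.node BT.leaf 1604262 BT.leaf)) 1608201 (BT.node (BT.node BT.leaf 1609974 BT.leaf) 1614528 BT.leaf))))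

/-- subtree -/
def T_32 : BT := (BT.node (BT.node (BT.node (BT.node (BT.node BT.leaf 1621060 BT.leaf) 1624396 (BT.node BT.leaf 1625723 BT.leaf)) 1632411 (BT.node (BT.node BT.leaf 1635945 BT.leaf) 1637216 BT.leaf)) 1642421 (BT.node (BT.node (BT.node BT.leaf 1643040 BT.leaf) 1646730 (BT.node BT.leaf 1650871 BT.leaf)) 1653574 (BT.node (BT.node BT.leaf 1658423 BT.leaf) 1660783 BT.leaf))) 1665164 (BT.node (BT.node (BT.node (BT.node BT.leaf 1669430 BT.leaf) 1672013 (BT.node BT.leaf 1676103 BT.leaf)) 1679933 (BT.node (BT.node BT.leaf 1683824 BT.leaf) 1687853 BT.leaf)) 1689634 (BT.node (BT.node (BT.node BT.leaf 1691935 BT.leaf) 1696478 BT.leaf) 1699677 (BT.node (BT.node BT.leaf 1703250 BT.leaf) 1707359 BT.leaf))))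

/-- subtree -/
def T_33 : BT := BT.node T_31 1616684 T_32

/-- subtree -/
def T_34 : BT := (BT.node (BT.node (BT.node (BT.node (BT.node BT.leaf 1713588 BT.leaf) 1716494 (BT.node BT.leaf 1720432 BT.leaf)) 1725905 (BT.node (BT.node BT.leaf 1726863 BT.leaf) 1733278 BT.leaf)) 1736380 (BT.node (BT.node (BT.node BT.leaf 1738615 BT.leaf) 1741579 (BT.node BT.leaf 1744543 BT.leaf)) 1749637 (BT.node (BT.node BT.leaf 1752785 BT.leaf) 1757720 BT.leaf))) 1760125 (BT.node (BT.node (BT.node (BT.node BT.leaf 1761824 BT.leaf) 1765483 (BT.node BT.leaf 1770169 BT.leaf)) 1773813 (BT.node (BT.node BT.leaf 1777764 BT.leaf) 1781101 BT.leaf)) 1784638 (BT.node (BT.node (BT.node BT.leaf 1788030 BT.leaf) 1789906 BT.leaf) 1795263 (BT.node (BT.node BT.leaf 1798845 BT.leaf) 1802382 BT.leaf))))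

/-- subtree -/
def T_35 : BT := (BT.node (BT.node (BT.node (BT.node (BT.node BT.leaf 1808033 BT.leaf) 1811664 (BT.node BT.leaf 1816506 BT.leaf)) 1820416 (BT.node (BT.node BT.leaf 1821311 BT.leaf) 1827188 BT.leaf)) 1830610 (BT.node (BT.node (BT.node BT.leaf 1832516 BT.leaf) 1836426 (BT.node BT.leaf 1840948 BT.leaf)) 1844813 (BT.node (BT.node BT.leaf 1848403 BT.leaf) 1848420 BT.leaf))) 1852945 (BT.node (BT.node (BT.node (BT.node BT.leaf 1857494 BT.leaf) 1859197 (BT.node BT.leaf 1863062 BT.leaf)) 1866041 (BT.node (BT.node BT.leaf 1872043 BT.leaf) 1873238 BT.leaf)) 1878026 (BT.node (BT.node (BT.node BT.leaf 1880609 BT.leaf) 1884569 BT.leaf) 1887873 (BT.node (BT.node BT.leaf 1890438 BT.leaf) 1894481 BT.leaf))))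

/-- subtree -/
def T_36 : BT := BT.node T_34 1805913 T_35

/-- subtree -/
def T_37 : BT := BT.node T_33 1709655 T_36

/-- subtree -/
def T_38 : BT := (BT.node (BT.node (BT.node (BT.node (BT.node BT.leaf 1903566 BT.leaf) 1906988 (BT.node BT.leaf 1907697 BT.leaf)) 1912144 (BT.node (BT.node BT.leaf 1915249 BT.leaf) 1919219 BT.leaf)) 1922801 (BT.node (BT.node (BT.node BT.leaf 1925633 BT.leaf) 1929886 (BT.node BT.leaf 1933639 BT.leaf)) 1937610 (BT.node (BT.node BT.leaf 1940849 BT.leaf) 1944454 BT.leaf))) 1947327 (BT.node (BT.node (BT.node (BT.node BT.leaf 1949888 BT.leaf) 1955974 (BT.node BT.leaf 1959361 BT.leaf)) 1961381 (BT.node (BT.node BT.leaf 1965232 BT.leaf) 1968408 BT.leaf)) 1970420 (BT.node (BT.node (BT.node BT.leaf 1975252 BT.leaf) 1979415 (BT.node BT.leaf 1983979 BT.leaf)) 1987288 (BT.node (BT.node BT.leaf 1990481 BT.leaf) 1993556 BT.leaf))))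

/-- subtree -/
def T_39 : BT := (BT.node (BT.node (BT.node (BT.node (BT.node BT.leaf 2001089 BT.leaf) 2004787 (BT.node BT.leaf 2007762 BT.leaf)) 2008923 (BT.node (BT.node BT.leaf 2014435 BT.leaf) 2016492 BT.leaf)) 2019914 (BT.node (BT.node (BT.node BT.leaf 2025043 BT.leaf) 2027801 (BT.node BT.leaf 2031774 BT.leaf)) 2034680 (BT.node (BT.node BT.leaf 2039007 BT.leaf) 2042153 BT.leaf))) 2046679 (BT.node (BT.node (BT.node (BT.node BT.leaf 2050213 BT.leaf) 2053743 (BT.node BT.leaf 2053800 BT.leaf)) 2057490 (BT.node (BT.node BT.leaf 2064058 BT.leaf) 2064334 BT.leaf)) 2069238 (BT.node (BT.node (BT.node BT.leaf 2073014 BT.leaf) 2076010 BT.leaf) 2079248 (BT.node (BT.node BT.leaf 2084342 BT.leaf) 2085724 BT.leaf))))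

/-- subtree -/
def T_40 : BT := BT.node T_38 1997129 T_39

/-- subtree -/
def T_41 : BT := (BT.node (BT.node (BT.node (BT.node (BT.node BT.leaf 2094036 BT.leaf) 2096303 (BT.node BT.leaf 2102216 BT.leaf)) 2105122 (BT.node (BT.node BT.leaf 2108946 BT.leaf) 2112368 BT.leaf)) 2114017 (BT.node (BT.node (BT.node BT.leaf 2116890 BT.leaf) 2121098 (BT.node BT.leaf 2124611 BT.leaf)) 2128179 (BT.node (BT.node BT.leaf 2130762 BT.leaf) 2137289 BT.leaf))) 2138781 (BT.node (BT.node (BT.node (BT.node BT.leaf 2141100 BT.leaf) 2147329 (BT.node BT.leaf 2149386 BT.leaf)) 2152917 (BT.node (BT.node BT.leaf 2157220 BT.leaf) 2158564 BT.leaf)) 2165113 (BT.node (BT.node (BT.node BT.leaf 2168004 BT.leaf) 2169320 BT.leaf) 2174176 (BT.node (BT.node BT.leaf 2178729 BT.leaf) 2181248 BT.leaf))))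

/-- subtree -/
def T_42 : BT := (BT.node (BT.node (BT.node (BT.node (BT.node BT.leaf 2188811 BT.leaf) 2191908 (BT.node BT.leaf 2196265 BT.leaf)) 2198747 (BT.node (BT.node BT.leaf 2201706 BT.leaf) 2206059 BT.leaf)) 2207782 (BT.node (BT.node (BT.node BT.leaf 2210956 BT.leaf) 2216187 (BT.node BT.leaf 2219334 BT.leaf)) 2221872 (BT.node (BT.node BT.leaf 2225294 BT.leaf) 2230827 BT.leaf))) 2232879 (BT.node (BT.node (BT.node (BT.node BT.leaf 2236903 BT.leaf) 2239096 (BT.node BT.leaf 2244173 BT.leaf)) 2248512 (BT.node (BT.node BT.leaf 2248846 BT.leaf) 2254085 BT.leaf)) 2257059 (BT.node (BT.node (BT.node BT.leaf 2259180 BT.leaf) 2262743 BT.leaf) 2266254 (BT.node (BT.node BT.leaf 2269957 BT.leaf) 2273788 BT.leaf))))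

/-- subtree -/
def T_43 : BT := BT.node T_41 2185059 T_42

/-- subtree -/
def T_44 : BT := BT.node T_40 2089146 T_43

/-- subtree -/
def T_45 : BT := BT.node T_37 1897719 T_44

/-- subtree -/
def T_46 : BT := (BT.node (BT.node (BT.node (BT.node (BT.node BT.leaf 2280457 BT.leaf) 2284833 (BT.node BT.leaf 2289934 BT.leaf)) 2291104 (BT.node (BT.node BT.leaf 2294526 BT.leaf) 2297742 BT.leaf)) 2301702 (BT.node (BT.node (BT.node BT.leaf 2306737 BT.leaf) 2310159 (BT.node BT.leaf 2312310 BT.leaf)) 2315817 (BT.node (BT.node BT.leaf 2320261 BT.leaf) 2325069 BT.leaf))) 2326478 (BT.node (BT.node (BT.node (BT.node BT.leaf 2332141 BT.leaf) 2332741 (BT.node BT.leaf 2337078 BT.leaf)) 2342258 (BT.node (BT.node BT.leaf 2345357 BT.leaf) 2347723 BT.leaf)) 2353118 (BT.node (BT.node (BT.node BT.leaf 2354952 BT.leaf) 2360048 (BT.node BT.leaf 2361877 BT.leaf)) 2365218 (BT.node (BT.node BT.leaf 2368945 BT.leaf) 2371591 BT.leaf))))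

/-- subtree -/
def T_47 : BT := (BT.node (BT.node (BT.node (BT.node (BT.node BT.leaf 2380344 BT.leaf) 2382999 (BT.node BT.leaf 2386979 BT.leaf)) 2390201 (BT.node (BT.node BT.leaf 2392287 BT.leaf) 2395709 BT.leaf)) 2401112 (BT.node (BT.node (BT.node BT.leaf 2405072 BT.leaf) 2407511 (BT.node BT.leaf 2411959 BT.leaf)) 2413797 (BT.node (BT.node BT.leaf 2418222 BT.leaf) 2422182 BT.leaf))) 2424830 (BT.node (BT.node (BT.node (BT.node BT.leaf 2429026 BT.leaf) 2430236 (BT.node BT.leaf 2436209 BT.leaf)) 2438074 (BT.node (BT.node BT.leaf 2442757 BT.leaf) 2446136 BT.leaf)) 2448261 (BT.node (BT.node (BT.node BT.leaf 2453892 BT.leaf) 2455333 BT.leaf) 2459286 (BT.node (BT.node BT.leaf 2462622 BT.leaf) 2464560 BT.leaf))))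

/-- subtree -/
def T_48 : BT := BT.node T_46 2376155 T_47

/-- subtree -/
def T_49 : BT := (BT.node (BT.node (BT.node (BT.node (BT.node BT.leaf 2472081 BT.leaf) 2476277 (BT.node BT.leaf 2481191 BT.leaf)) 2484398 (BT.node (BT.node BT.leaf 2487605 BT.leaf) 2489378 BT.leaf)) 2493717 (BT.node (BT.node (BT.node BT.leaf 2496035 BT.leaf) 2499980 (BT.node BT.leaf 2503522 BT.leaf)) 2509760 (BT.node (BT.node BT.leaf 2512117 BT.leaf) 2515836 BT.leaf))) 2518159 (BT.node (BT.node (BT.node (BT.node BT.leaf 2521764 BT.leaf) 2524777 (BT.node BT.leaf 2529980 BT.leaf)) 2533692 (BT.node (BT.node BT.leaf 2535728 BT.leaf) 2537873 BT.leaf)) 2541625 (BT.node (BT.node (BT.node BT.leaf 2545535 BT.leaf) 2549545 BT.leaf) 2552562 (BT.node (BT.node BT.leaf 2556260 BT.leaf) 2561068 BT.leaf))))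

/-- subtree -/
def T_50 : BT := (BT.node (BT.node (BT.node (BT.node (BT.node BT.leaf 2567251 BT.leaf) 2572093 (BT.node BT.leaf 2574466 BT.leaf)) 2579326 (BT.node (BT.node BT.leaf 2582359 BT.leaf) 2584732 BT.leaf)) 2588494 (BT.node (BT.node (BT.node BT.leaf 2590265 BT.leaf) 2595575 (BT.node BT.leaf 2599084 BT.leaf)) 2601089 (BT.node (BT.node BT.leaf 2606805 BT.leaf) 2607590 BT.leaf))) 2612398 (BT.node (BT.node (BT.node (BT.node BT.leaf 2615074 BT.leaf) 2620329 (BT.node BT.leaf 2624426 BT.leaf)) 2624915 (BT.node (BT.node BT.leaf 2629218 BT.leaf) 2634810 BT.leaf)) 2637111 (BT.node (BT.node (BT.node BT.leaf 2639774 BT.leaf) 2644447 BT.leaf) 2647377 (BT.node (BT.node BT.leaf 2651920 BT.leaf) 2655224 BT.leaf))))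

/-- subtree -/
def T_51 : BT := BT.node T_49 2563715 T_50

/-- subtree -/
def T_52 : BT := BT.node T_48 2468097 T_51

/-- subtree -/
def T_53 : BT := (BT.node (BT.node (BT.node (BT.node (BT.node BT.leaf 2662819 BT.leaf) 2664876 (BT.node BT.leaf 2667172 BT.leaf)) 2669940 (BT.node (BT.node BT.leaf 2673482 BT.leaf) 2679169 BT.leaf)) 2681419 (BT.node (BT.node (BT.node BT.leaf 2684548 BT.leaf) 2690612 (BT.node BT.leaf 2691221 BT.leaf)) 2694734 (BT.node (BT.node BT.leaf 2698883 BT.leaf) 2702855 BT.leaf))) 2706545 (BT.node (BT.node (BT.node (BT.node BT.leaf 2708502 BT.leaf) 2714889 (BT.node BT.leaf 2718356 BT.leaf)) 2721513 (BT.node (BT.node BT.leaf 2724935 BT.leaf) 2728254 BT.leaf)) 2729327 (BT.node (BT.node (BT.node BT.leaf 2733103 BT.leaf) 2739460 BT.leaf) 2741433 (BT.node (BT.node BT.leaf 2746496 BT.leaf) 2748027 BT.leaf))))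

/-- subtree -/
def T_54 : BT := (BT.node (BT.node (BT.node (BT.node (BT.node BT.leaf 2755861 BT.leaf) 2758293 (BT.node BT.leaf 2762012 BT.leaf)) 2764451 (BT.node (BT.node BT.leaf 2769055 BT.leaf) 2772928 BT.leaf)) 2774985 (BT.node (BT.node (BT.node BT.leaf 2779075 BT.leaf) 2783536 (BT.node BT.leaf 2786787 BT.leaf)) 2790038 (BT.node (BT.node BT.leaf 2793874 BT.leaf) 2797590 BT.leaf))) 2800646 (BT.node (BT.node (BT.node (BT.node BT.leaf 2802361 BT.leaf) 2807856 (BT.node BT.leaf 2810613 BT.leaf)) 2815076 (BT.node (BT.node BT.leaf 2818612 BT.leaf) 2822205 BT.leaf)) 2824070 (BT.node (BT.node (BT.node BT.leaf 2829273 BT.leaf) 2832950 BT.leaf) 2834439 (BT.node (BT.node BT.leaf 2837861 BT.leaf) 2843216 BT.leaf))))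

/-- subtree -/
def T_55 : BT := BT.node T_53 2753104 T_54

/-- subtree -/
def T_56 : BT := (BT.node (BT.node (BT.node (BT.node (BT.node BT.leaf 2850504 BT.leaf) 2852342 (BT.node BT.leaf 2855236 BT.leaf)) 2858613 (BT.node (BT.node BT.leaf 2861712 BT.leaf) 2868189 BT.leaf)) 2869496 (BT.node (BT.node (BT.node BT.leaf 2873110 BT.leaf) 2875320 (BT.node BT.leaf 2880921 BT.leaf)) 2885174 (BT.node (BT.node BT.leaf 2885946 BT.leaf) 2890632 BT.leaf))) 2893064 (BT.node (BT.node (BT.node (BT.node BT.leaf 2897920 BT.leaf) 2902196 (BT.node BT.leaf 2903730 BT.leaf)) 2907152 (BT.node (BT.node BT.leaf 2910714 BT.leaf) 2914286 BT.leaf)) 2917840 (BT.node (BT.node (BT.node BT.leaf 2921371 BT.leaf) 2926893 BT.leaf) 2928443 (BT.node (BT.node BT.leaf 2932524 BT.leaf) 2937272 BT.leaf))))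

/-- subtree -/
def T_57 : BT := (BT.node (BT.node (BT.node (BT.node (BT.node BT.leaf 2943348 BT.leaf) 2947651 (BT.node BT.leaf 2951073 BT.leaf)) 2954275 (BT.node (BT.node BT.leaf 2955650 BT.leaf) 2960267 BT.leaf)) 2963322 (BT.node (BT.node (BT.node BT.leaf 2967392 BT.leaf) 2971092 (BT.node BT.leaf 2974479 BT.leaf)) 2976626 (BT.node (BT.node BT.leaf 2981358 BT.leaf) 2985080 BT.leaf))) 2987834 (BT.node (BT.node (BT.node (BT.node BT.leaf 2993410 BT.leaf) 2996311 (BT.node BT.leaf 2999605 BT.leaf)) 3000691 (BT.node (BT.node BT.leaf 3007483 BT.leaf) 3010879 BT.leaf)) 3014510 (BT.node (BT.node (BT.node BT.leaf 3015871 BT.leaf) 3020137 BT.leaf) 3021966 (BT.node (BT.node BT.leaf 3027989 BT.leaf) 3030531 BT.leaf))))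

/-- subtree -/
def T_58 : BT := BT.node T_56 2939045 T_57

/-- subtree -/
def T_59 : BT := BT.node T_55 2846973 T_58

/-- subtree -/
def T_60 : BT := BT.node T_52 2659305 T_59

/-- subtree -/
def T_61 : BT := BT.node T_45 2276801 T_60

/-- subtree -/
def T_62 : BT := BT.node T_30 1518341 T_61

/-- subtree -/
def T_63 : BT := (BT.node (BT.node (BT.node (BT.node (BT.node BT.leaf 3036623 BT.leaf) 3039932 (BT.node BT.leaf 3043241 BT.leaf)) 3046008 (BT.node (BT.node BT.leaf 3051943 BT.leaf) 3055903 BT.leaf)) 3059667 (BT.node (BT.node (BT.node BT.leaf 3062971 BT.leaf) 3065272 (BT.node BT.leaf 3069053 BT.leaf)) 3073355 (BT.node (BT.node BT.leaf 3075923 BT.leaf) 3079528 BT.leaf))) 3080700 (BT.node (BT.node (BT.node (BT.node BT.leaf 3085508 BT.leaf) 3087809 (BT.node BT.leaf 3092606 BT.leaf)) 3095469 (BT.node (BT.node BT.leaf 3099763 BT.leaf) 3102087 BT.leaf)) 3106294 (BT.node (BT.node (BT.node BT.leaf 3108931 BT.leaf) 3114015 (BT.node BT.leaf 3118872 BT.leaf)) 3119649 (BT.node (BT.node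 BT.leaf 3124743 BT.leaf) 3127370 BT.leaf))))

/-- subtree -/
def T_64 : BT := (BT.node (BT.node (BT.node (BT.node (BT.node BT.leaf 3135489 BT.leaf) 3137351 (BT.node BT.leaf 3143210 BT.leaf)) 3144425 (BT.node (BT.node BT.leaf 3148235 BT.leaf) 3153031 BT.leaf)) 3154202 (BT.node (BT.node (BT.node BT.leaf 3157370 BT.leaf) 3161923 (BT.node BT.leaf 3165012 BT.leaf)) 3167890 (BT.node (BT.node BT.leaf 3173129 BT.leaf) 3177046 BT.leaf))) 3178469 (BT.node (BT.node (BT.node (BT.node BT.leaf 3183373 BT.leaf) 3186887 (BT.node BT.leaf 3190606 BT.leaf)) 3193661 (BT.node (BT.node BT.leaf 3196143 BT.leaf) 3200872 BT.leaf)) 3204629 (BT.node (BT.node (BT.node BT.leaf 3208142 BT.leaf) 3212181 BT.leaf) 3213715 (BT.node (BT.node BT.leaf 3219253 BT.leaf) 3221532 BT.leaf))))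

/-- subtree -/
def T_65 : BT := BT.node T_63 3129689 T_64

/-- subtree -/
def T_66 : BT := (BT.node (BT.node (BT.node (BT.node (BT.node BT.leaf 3229405 BT.leaf) 3231305 (BT.node BT.leaf 3236933 BT.leaf)) 3239557 (BT.node (BT.node BT.leaf 3242003 BT.leaf) 3246629 BT.leaf)) 3250236 (BT.node (BT.node (BT.node BT.leaf 3254214 BT.leaf) 3257636 (BT.node BT.leaf 3261264 BT.leaf)) 3264309 (BT.node (BT.node BT.leaf 3268338 BT.leaf) 3271872 BT.leaf))) 3275426 (BT.node (BT.node (BT.node (BT.node BT.leaf 3276668 BT.leaf) 3279706 (BT.node BT.leaf 3286018 BT.leaf)) 3286080 (BT.node (BT.node BT.leaf 3290355 BT.leaf) 3293401 BT.leaf)) 3296710 (BT.node (BT.node (BT.node BT.leaf 3301683 BT.leaf) 3306521 BT.leaf) 3307089 (BT.node (BT.node BT.leaf 3311331 BT.leaf) 3316787 BT.leaf))))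

/-- subtree -/
def T_67 : BT := (BT.node (BT.node (BT.node (BT.node (BT.node BT.leaf 3321507 BT.leaf) 3325587 (BT.node BT.leaf 3330328 BT.leaf)) 3331419 (BT.node (BT.node BT.leaf 3335379 BT.leaf) 3338707 BT.leaf)) 3344026 (BT.node (BT.node (BT.node BT.leaf 3346609 BT.leaf) 3352147 (BT.node BT.leaf 3353342 BT.leaf)) 3356385 (BT.node (BT.node BT.leaf 3360416 BT.leaf) 3364167 BT.leaf))) 3367141 (BT.node (BT.node (BT.node (BT.node BT.leaf 3372166 BT.leaf) 3374433 (BT.node BT.leaf 3379209 BT.leaf)) 3381666 (BT.node (BT.node BT.leaf 3383811 BT.leaf) 3388771 BT.leaf)) 3392897 (BT.node (BT.node (BT.node BT.leaf 3395845 BT.leaf) 3399354 BT.leaf) 3402907 (BT.node (BT.node BT.leaf 3406441 BT.leaf) 3410628 BT.leaf))))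

/-- subtree -/
def T_68 : BT := BT.node T_66 3318269 T_67

/-- subtree -/
def T_69 : BT := BT.node T_65 3226282 T_68

/-- subtree -/
def T_70 : BT := (BT.node (BT.node (BT.node (BT.node (BT.node BT.leaf 3417949 BT.leaf) 3419310 (BT.node BT.leaf 3424152 BT.leaf)) 3427117 (BT.node (BT.node BT.leaf 3431913 BT.leaf) 3432988 BT.leaf)) 3437184 (BT.node (BT.node (BT.node BT.leaf 3440805 BT.leaf) 3445516 (BT.node BT.leaf 3448270 BT.leaf)) 3452360 (BT.node (BT.node BT.leaf 3453667 BT.leaf) 3459594 BT.leaf))) 3463016 (BT.node (BT.node (BT.node (BT.node BT.leaf 3463933 BT.leaf) 3469279 (BT.node BT.leaf 3472977 BT.leaf)) 3477230 (BT.node (BT.node BT.leaf 3480766 BT.leaf) 3483158 BT.leaf)) 3487887 (BT.node (BT.node (BT.node BT.leaf 3489027 BT.leaf) 3491460 (BT.node BT.leaf 3495150 BT.leaf)) 3499717 (BT.node (BT.node BT.leaf 3501994 BT.leaf) 3506102 BT.leaf))))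

/-- subtree -/
def T_71 : BT := (BT.node (BT.node (BT.node (BT.node (BT.node BT.leaf 3512750 BT.leaf) 3516172 (BT.node BT.leaf 3521426 BT.leaf)) 3524053 (BT.node (BT.node BT.leaf 3529586 BT.leaf) 3532307 BT.leaf)) 3533478 (BT.node (BT.node (BT.node BT.leaf 3539924 BT.leaf) 3541010 (BT.node BT.leaf 3544821 BT.leaf)) 3549806 (BT.node (BT.node BT.leaf 3552622 BT.leaf) 3555205 BT.leaf))) 3558509 (BT.node (BT.node (BT.node (BT.node BT.leaf 3562285 BT.leaf) 3565117 (BT.node BT.leaf 3568157 BT.leaf)) 3572878 (BT.node (BT.node BT.leaf 3576409 BT.leaf) 3579959 BT.leaf)) 3583540 (BT.node (BT.node (BT.node BT.leaf 3588289 BT.leaf) 3591125 BT.leaf) 3594138 (BT.node (BT.node BT.leaf 3599014 BT.leaf) 3601781 BT.leaf))))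

/-- subtree -/
def T_72 : BT := BT.node T_70 3509145 T_71

/-- subtree -/
def T_73 : BT := (BT.node (BT.node (BT.node (BT.node (BT.node BT.leaf 3607374 BT.leaf) 3611821 (BT.node BT.leaf 3615208 BT.leaf)) 3617242 (BT.node (BT.node BT.leaf 3621923 BT.leaf) 3626772 BT.leaf)) 3630650 (BT.node (BT.node (BT.node BT.leaf 3633082 BT.leaf) 3636001 (BT.node BT.leaf 3640916 BT.leaf)) 3641811 (BT.node (BT.node BT.leaf 3647206 BT.leaf) 3649044 BT.leaf))) 3654339 (BT.node (BT.node (BT.node (BT.node BT.leaf 3657983 BT.leaf) 3660151 (BT.node BT.leaf 3664827 BT.leaf)) 3668501 (BT.node (BT.node BT.leaf 3671258 BT.leaf) 3675855 BT.leaf)) 3677720 (BT.node (BT.node (BT.node BT.leaf 3680226 BT.leaf) 3685402 BT.leaf) 3686998 (BT.node (BT.node BT.leaf 3692965 BT.leaf) 3695668 BT.leaf))))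

/-- subtree -/
def T_74 : BT := (BT.node (BT.node (BT.node (BT.node (BT.node BT.leaf 3703088 BT.leaf) 3705831 (BT.node BT.leaf 3709803 BT.leaf)) 3711448 (BT.node (BT.node BT.leaf 3717324 BT.leaf) 3718335 BT.leaf)) 3721604 (BT.node (BT.node (BT.node BT.leaf 3726124 BT.leaf) 3731378 (BT.node BT.leaf 3732023 BT.leaf)) 3735402 (BT.node (BT.node BT.leaf 3740546 BT.leaf) 3745066 BT.leaf))) 3746417 (BT.node (BT.node (BT.node (BT.node BT.leaf 3749970 BT.leaf) 3755993 (BT.node BT.leaf 3759039 BT.leaf)) 3761159 (BT.node (BT.node BT.leaf 3765657 BT.leaf) 3769079 BT.leaf)) 3772043 (BT.node (BT.node (BT.node BT.leaf 3775687 BT.leaf) 3778252 BT.leaf) 3780876 (BT.node (BT.node BT.leaf 3785339 BT.leaf) 3788903 BT.leaf))))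

/-- subtree -/
def T_75 : BT := BT.node T_73 3696840 T_74

/-- subtree -/
def T_76 : BT := BT.node T_72 3604942 T_75

/-- subtree -/
def T_77 : BT := BT.node T_69 3414718 T_76

/-- subtree -/
def T_78 : BT := (BT.node (BT.node (BT.node (BT.node (BT.node BT.leaf 3795379 BT.leaf) 3800714 (BT.node BT.leaf 3803592 BT.leaf)) 3806605 (BT.node (BT.node BT.leaf 3810436 BT.leaf) 3812408 BT.leaf)) 3815335 (BT.node (BT.node (BT.node BT.leaf 3819951 BT.leaf) 3824288 (BT.node BT.leaf 3827546 BT.leaf)) 3830439 (BT.node (BT.node BT.leaf 3834390 BT.leaf) 3838438 BT.leaf))) 3841167 (BT.node (BT.node (BT.node (BT.node BT.leaf 3845543 BT.leaf) 3846683 (BT.node BT.leaf 3851207 BT.leaf)) 3854629 (BT.node (BT.node BT.leaf 3859713 BT.leaf) 3860500 BT.leaf)) 3867219 (BT.node (BT.node (BT.node BT.leaf 3869154 BT.leaf) 3871680 (BT.node BT.leaf 3875387 BT.leaf)) 3878158 (BT.node (BT.node BT.leaf 3884498 BT.leaf) 3885368 BT.leaf))))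

/-- subtree -/
def T_79 : BT := (BT.node (BT.node (BT.node (BT.node (BT.node BT.leaf 3894595 BT.leaf) 3898626 (BT.node BT.leaf 3899717 BT.leaf)) 3902220 (BT.node (BT.node BT.leaf 3905910 BT.leaf) 3909741 BT.leaf)) 3912754 (BT.node (BT.node (BT.node BT.leaf 3917662 BT.leaf) 3919941 (BT.node BT.leaf 3923472 BT.leaf)) 3928036 (BT.node (BT.node BT.leaf 3933216 BT.leaf) 3933695 BT.leaf))) 3937655 (BT.node (BT.node (BT.node (BT.node BT.leaf 3941186 BT.leaf) 3947033 (BT.node BT.leaf 3949189 BT.leaf)) 3952845 (BT.node (BT.node BT.leaf 3957098 BT.leaf) 3958871 BT.leaf)) 3962598 (BT.node (BT.node (BT.node BT.leaf 3967436 BT.leaf) 3969755 BT.leaf) 3972864 (BT.node (BT.node BT.leaf 3976545 BT.leaf) 3980134 BT.leaf))))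

/-- subtree -/
def T_80 : BT := BT.node T_78 3891566 T_79

/-- subtree -/
def T_81 : BT := (BT.node (BT.node (BT.node (BT.node (BT.node BT.leaf 3986210 BT.leaf) 3992296 (BT.node BT.leaf 3992946 BT.leaf)) 3999532 (BT.node (BT.node BT.leaf 4001885 BT.leaf) 4003941 BT.leaf)) 4008729 (BT.node (BT.node (BT.node BT.leaf 4012828 BT.leaf) 4014441 (BT.node BT.leaf 4019067 BT.leaf)) 4022601 (BT.node (BT.node BT.leaf 4025839 BT.leaf) 4029670 BT.leaf))) 4032683 (BT.node (BT.node (BT.node (BT.node BT.leaf 4036755 BT.leaf) 4041363 (BT.node BT.leaf 4044899 BT.leaf)) 4047355 (BT.node (BT.node BT.leaf 4050925 BT.leaf) 4052986 BT.leaf)) 4058587 (BT.node (BT.node (BT.node BT.leaf 4059758 BT.leaf) 4064158 BT.leaf) 4069062 (BT.node (BT.node BT.leaf 4072220 BT.leaf) 4075642 BT.leaf))))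

/-- subtree -/
def T_82 : BT := (BT.node (BT.node (BT.node (BT.node (BT.node BT.leaf 4080491 BT.leaf) 4084690 (BT.node BT.leaf 4087206 BT.leaf)) 4092807 (BT.node (BT.node BT.leaf 4096438 BT.leaf) 4098770 BT.leaf)) 4102959 (BT.node (BT.node (BT.node BT.leaf 4106495 BT.leaf) 4107600 (BT.node BT.leaf 4111690 BT.leaf)) 4114921 (BT.node (BT.node BT.leaf 4121307 BT.leaf) 4124635 BT.leaf))) 4127089 (BT.node (BT.node (BT.node (BT.node BT.leaf 4128609 BT.leaf) 4133261 (BT.node BT.leaf 4138417 BT.leaf)) 4139492 (BT.node (BT.node BT.leaf 4142488 BT.leaf) 4148539 BT.leaf)) 4151961 (BT.node (BT.node (BT.node BT.leaf 4153636 BT.leaf) 4158496 BT.leaf) 4161199 (BT.node (BT.node BT.leaf 4165144 BT.leaf) 4168762 BT.leaf))))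

/-- subtree -/
def T_83 : BT := BT.node T_81 4079249 T_82

/-- subtree -/
def T_84 : BT := BT.node T_80 3983443 T_83

/-- subtree -/
def T_85 : BT := (BT.node (BT.node (BT.node (BT.node (BT.node BT.leaf 4174897 BT.leaf) 4178292 (BT.node BT.leaf 4183611 BT.leaf)) 4184591 (BT.node (BT.node BT.leaf 4188575 BT.leaf) 4192547 BT.leaf)) 4198033 (BT.node (BT.node (BT.node BT.leaf 4200892 BT.leaf) 4203199 (BT.node BT.leaf 4206763 BT.leaf)) 4210185 (BT.node (BT.node BT.leaf 4214352 BT.leaf) 4216474 BT.leaf))) 4221196 (BT.node (BT.node (BT.node (BT.node BT.leaf 4223514 BT.leaf) 4227975 (BT.node BT.leaf 4229749 BT.leaf)) 4233780 (BT.node (BT.node BT.leaf 4238306 BT.leaf) 4242137 BT.leaf)) 4245150 (BT.node (BT.node (BT.node BT.leaf 4249222 BT.leaf) 4252735 BT.leaf) 4256299 (BT.node (BT.node BT.leaf 4260379 BT.leaf) 4261465 BT.leaf))))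

/-- subtree -/
def T_86 : BT := (BT.node (BT.node (BT.node (BT.node (BT.node BT.leaf 4271097 BT.leaf) 4272754 (BT.node BT.leaf 4277503 BT.leaf)) 4279427 (BT.node (BT.node BT.leaf 4282141 BT.leaf) 4288164 BT.leaf)) 4291177 (BT.node (BT.node (BT.node BT.leaf 4292313 BT.leaf) 4298772 (BT.node BT.leaf 4299251 BT.leaf)) 4305834 (BT.node (BT.node BT.leaf 4308739 BT.leaf) 4310959 BT.leaf))) 4312980 (BT.node (BT.node (BT.node (BT.node BT.leaf 4318398 BT.leaf) 4322209 (BT.node BT.leaf 4326050 BT.leaf)) 4329281 (BT.node (BT.node BT.leaf 4330756 BT.leaf) 4334178 BT.leaf)) 4340388 (BT.node (BT.node (BT.node BT.leaf 4342264 BT.leaf) 4345169 BT.leaf) 4349585 (BT.node (BT.node BT.leaf 4353919 BT.leaf) 4357306 BT.leaf))))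

/-- subtree -/
def T_87 : BT := BT.node T_85 4264887 T_86

/-- subtree -/
def T_88 : BT := (BT.node (BT.node (BT.node (BT.node (BT.node BT.leaf 4362279 BT.leaf) 4366071 (BT.node BT.leaf 4370736 BT.leaf)) 4373190 (BT.node (BT.node BT.leaf 4376701 BT.leaf) 4380611 BT.leaf)) 4383915 (BT.node (BT.node (BT.node BT.leaf 4386829 BT.leaf) 4390759 (BT.node BT.leaf 4394948 BT.leaf)) 4397016 (BT.node (BT.node BT.leaf 4401143 BT.leaf) 4406824 BT.leaf))) 4408597 (BT.node (BT.node (BT.node (BT.node BT.leaf 4412143 BT.leaf) 4415565 (BT.node BT.leaf 4418025 BT.leaf)) 4424071 (BT.node (BT.node BT.leaf 4425746 BT.leaf) 4427902 BT.leaf)) 4433349 (BT.node (BT.node (BT.node BT.leaf 4435754 BT.leaf) 4440430 BT.leaf) 4443967 (BT.node (BT.node BT.leaf 4445401 BT.leaf) 4451029 BT.leaf))))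

/-- subtree -/
def T_89 : BT := (BT.node (BT.node (BT.node (BT.node (BT.node BT.leaf 4458949 BT.leaf) 4461689 (BT.node BT.leaf 4463388 BT.leaf)) 4466352 (BT.node (BT.node BT.leaf 4470267 BT.leaf) 4475800 BT.leaf)) 4479395 (BT.node (BT.node (BT.node BT.leaf 4483521 BT.leaf) 4486457 (BT.node BT.leaf 4489997 BT.leaf)) 4490956 (BT.node (BT.node BT.leaf 4497065 BT.leaf) 4500831 BT.leaf))) 4502777 (BT.node (BT.node (BT.node (BT.node BT.leaf 4506857 BT.leaf) 4509484 (BT.node BT.leaf 4514519 BT.leaf)) 4517741 (BT.node (BT.node BT.leaf 4518360 BT.leaf) 4525057 BT.leaf)) 4525427 (BT.node (BT.node (BT.node BT.leaf 4528971 BT.leaf) 4532508 BT.leaf) 4537803 (BT.node (BT.node BT.leaf 4539855 BT.leaf) 4543391 BT.leaf))))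

/-- subtree -/
def T_90 : BT := BT.node T_88 4452473 T_89

/-- subtree -/
def T_91 : BT := BT.node T_87 4359453 T_90

/-- subtree -/
def T_92 : BT := BT.node T_84 4171448 T_91

/-- subtree -/
def T_93 : BT := BT.node T_77 3793259 T_92

/-- subtree -/
def T_94 : BT := (BT.node (BT.node (BT.node (BT.node (BT.node BT.leaf 4551769 BT.leaf) 4553543 (BT.node BT.leaf 4557079 BT.leaf)) 4560855 (BT.node (BT.node BT.leaf 4565098 BT.leaf) 4569607 BT.leaf)) 4571483 (BT.node (BT.node (BT.node BT.leaf 4576387 BT.leaf) 4579195 (BT.node BT.leaf 4582208 BT.leaf)) 4586039 (BT.node (BT.node BT.leaf 4589052 BT.leaf) 4593305 BT.leaf))) 4595425 (BT.node (BT.node (BT.node (BT.node BT.leaf 4601225 BT.leaf) 4603345 (BT.node BT.leaf 4606162 BT.leaf)) 4609993 (BT.node (BT.node BT.leaf 4614999 BT.leaf) 4616837 BT.leaf)) 4622156 (BT.node (BT.node (BT.node BT.leaf 4624561 BT.leaf) 4627525 (BT.node BT.leaf 4631634 BT.leaf)) 4635445 (BT.node (BT.node BT.leaf 4637041 BT.leaf) 4640741 BT.leaf))))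

/-- subtree -/
def T_95 : BT := (BT.node (BT.node (BT.node (BT.node (BT.node BT.leaf 4649133 BT.leaf) 4652897 (BT.node BT.leaf 4655093 BT.leaf)) 4660742 (BT.node (BT.node BT.leaf 4663499 BT.leaf) 4665423 BT.leaf)) 4670769 (BT.node (BT.node (BT.node BT.leaf 4674156 BT.leaf) 4676595 (BT.node BT.leaf 4681035 BT.leaf)) 4683353 (BT.node (BT.node BT.leaf 4687174 BT.leaf) 4691084 BT.leaf))) 4695387 (BT.node (BT.node (BT.node (BT.node BT.leaf 4698924 BT.leaf) 4702755 (BT.node BT.leaf 4705228 BT.leaf)) 4706423 (BT.node (BT.node BT.leaf 4713134 BT.leaf) 4716556 BT.leaf)) 4719865 (BT.node (BT.node (BT.node BT.leaf 4723695 BT.leaf) 4723740 BT.leaf) 4728392 (BT.node (BT.node BT.leaf 4732284 BT.leaf) 4735522 BT.leaf))))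

/-- subtree -/
def T_96 : BT := BT.node T_94 4646598 T_95

/-- subtree -/
def T_97 : BT := (BT.node (BT.node (BT.node (BT.node (BT.node BT.leaf 4743302 BT.leaf) 4745950 (BT.node BT.leaf 4748533 BT.leaf)) 4752067 (BT.node (BT.node BT.leaf 4755602 BT.leaf) 4760982 BT.leaf)) 4764587 (BT.node (BT.node (BT.node BT.leaf 4766203 BT.leaf) 4769776 (BT.node BT.leaf 4775343 BT.leaf)) 4778446 (BT.node (BT.node BT.leaf 4780944 BT.leaf) 4785734 BT.leaf))) 4788358 (BT.node (BT.node (BT.node (BT.node BT.leaf 4791662 BT.leaf) 4793410 (BT.node BT.leaf 4798506 BT.leaf)) 4800702 (BT.node (BT.node BT.leaf 4803962 BT.leaf) 4810659 BT.leaf)) 4811742 (BT.node (BT.node (BT.node BT.leaf 4815773 BT.leaf) 4817834 BT.leaf) 4822460 (BT.node (BT.node BT.leaf 4826399 BT.leaf) 4829304 BT.leaf))))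

/-- subtree -/
def T_98 : BT := (BT.node (BT.node (BT.node (BT.node (BT.node BT.leaf 4838293 BT.leaf) 4839688 (BT.node BT.leaf 4844113 BT.leaf)) 4848669 (BT.node (BT.node BT.leaf 4849384 BT.leaf) 4855535 BT.leaf)) 4858264 (BT.node (BT.node (BT.node BT.leaf 4862293 BT.leaf) 4866419 (BT.node BT.leaf 4867064 BT.leaf)) 4870840 (BT.node (BT.node BT.leaf 4874091 BT.leaf) 4880107 BT.leaf))) 4883072 (BT.node (BT.node (BT.node (BT.node BT.leaf 4886564 BT.leaf) 4889669 (BT.node BT.leaf 4891816 BT.leaf)) 4895113 (BT.node (BT.node BT.leaf 4901048 BT.leaf) 4903443 BT.leaf)) 4906843 (BT.node (BT.node (BT.node BT.leaf 4910155 BT.leaf) 4914327 BT.leaf) 4918158 (BT.node (BT.node BT.leaf 4921989 BT.leaf) 4923585 BT.leaf))))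

/-- subtree -/
def T_99 : BT := BT.node T_97 4833505 T_98

/-- subtree -/
def T_100 : BT := BT.node T_96 4737888 T_99

/-- subtree -/
def T_101 : BT := (BT.node (BT.node (BT.node (BT.node (BT.node BT.leaf 4929120 BT.leaf) 4935267 (BT.node BT.leaf 4936194 BT.leaf)) 4940072 (BT.node (BT.node BT.leaf 4944103 BT.leaf) 4949792 BT.leaf)) 4952495 (BT.node (BT.node (BT.node BT.leaf 4955799 BT.leaf) 4958901 (BT.node BT.leaf 4960604 BT.leaf)) 4965315 (BT.node (BT.node BT.leaf 4968069 BT.leaf) 4971670 BT.leaf))) 4975092 (BT.node (BT.node (BT.node (BT.node BT.leaf 4978697 BT.leaf) 4982231 (BT.node BT.leaf 4987434 BT.leaf)) 4989308 (BT.node (BT.node BT.leaf 4992011 BT.leaf) 4996799 BT.leaf)) 4999901 (BT.node (BT.node (BT.node BT.leaf 5004750 BT.leaf) 5006985 (BT.node BT.leaf 5009801 BT.leaf)) 5016039 (BT.node (BT.node BT.leaf 5019358 BT.leaf) 5020753 BT.leaf))))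

/-- subtree -/
def T_102 : BT := (BT.node (BT.node (BT.node (BT.node (BT.node BT.leaf 5028191 BT.leaf) 5031798 (BT.node BT.leaf 5036259 BT.leaf)) 5039933 (BT.node (BT.node BT.leaf 5043469 BT.leaf) 5044451 BT.leaf)) 5049495 (BT.node (BT.node (BT.node BT.leaf 5053057 BT.leaf) 5056479 (BT.node BT.leaf 5060701 BT.leaf)) 5063844 (BT.node (BT.node BT.leaf 5065303 BT.leaf) 5071456 BT.leaf))) 5074110 (BT.node (BT.node (BT.node (BT.node BT.leaf 5075687 BT.leaf) 5080034 (BT.node BT.leaf 5083250 BT.leaf)) 5085835 (BT.node (BT.node BT.leaf 5091011 BT.leaf) 5094921 BT.leaf)) 5099031 (BT.node (BT.node (BT.node BT.leaf 5101529 BT.leaf) 5105065 BT.leaf) 5109691 (BT.node (BT.node BT.leaf 5112520 BT.leaf) 5116719 BT.leaf))))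

/-- subtree -/
def T_103 : BT := BT.node T_101 5024769 T_102

/-- subtree -/
def T_104 : BT := (BT.node (BT.node (BT.node (BT.node (BT.node BT.leaf 5120892 BT.leaf) 5127371 (BT.node BT.leaf 5128965 BT.leaf)) 5134443 (BT.node (BT.node BT.leaf 5134500 BT.leaf) 5138063 BT.leaf)) 5143804 (BT.node (BT.node (BT.node BT.leaf 5147570 BT.leaf) 5149269 (BT.node BT.leaf 5153183 BT.leaf)) 5157663 (BT.node (BT.node BT.leaf 5159259 BT.leaf) 5164336 BT.leaf))) 5166362 (BT.node (BT.node (BT.node (BT.node BT.leaf 5171266 BT.leaf) 5173462 (BT.node BT.leaf 5179700 BT.leaf)) 5180524 (BT.node (BT.node BT.leaf 5183489 BT.leaf) 5189966 BT.leaf)) 5192683 (BT.node (BT.node (BT.node BT.leaf 5196105 BT.leaf) 5198197 BT.leaf) 5201769 (BT.node (BT.node BT.leaf 5205545 BT.leaf) 5209321 BT.leaf))))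

/-- subtree -/
def T_105 : BT := (BT.node (BT.node (BT.node (BT.node (BT.node BT.leaf 5215929 BT.leaf) 5219233 (BT.node BT.leaf 5224576 BT.leaf)) 5226521 (BT.node (BT.node BT.leaf 5230149 BT.leaf) 5233571 BT.leaf)) 5236697 (BT.node (BT.node (BT.node BT.leaf 5240728 BT.leaf) 5244260 (BT.node BT.leaf 5248096 BT.leaf)) 5249972 (BT.node (BT.node BT.leaf 5253308 BT.leaf) 5259324 BT.leaf))) 5263138 (BT.node (BT.node (BT.node (BT.node BT.leaf 5265206 BT.leaf) 5269035 (BT.node BT.leaf 5270589 BT.leaf)) 5273840 (BT.node (BT.node BT.leaf 5278233 BT.leaf) 5281655 BT.leaf)) 5286909 (BT.node (BT.node (BT.node BT.leaf 5287872 BT.leaf) 5293936 BT.leaf) 5297175 (BT.node (BT.node BT.leaf 5300780 BT.leaf) 5304783 BT.leaf))))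

/-- subtree -/
def T_106 : BT := BT.node T_104 5211357 T_105

/-- subtree -/
def T_107 : BT := BT.node T_103 5118596 T_106

/-- subtree -/
def T_108 : BT := BT.node T_100 4928015 T_107

/-- subtree -/
def T_109 : BT := (BT.node (BT.node (BT.node (BT.node (BT.node BT.leaf 5311498 BT.leaf) 5314076 (BT.node BT.leaf 5316970 BT.leaf)) 5322351 (BT.node (BT.node BT.leaf 5325315 BT.leaf) 5326846 BT.leaf)) 5331578 (BT.node (BT.node (BT.node BT.leaf 5336039 BT.leaf) 5337112 (BT.node BT.leaf 5339880 BT.leaf)) 5344532 (BT.node (BT.node BT.leaf 5346964 BT.leaf) 5352712 BT.leaf))) 5354798 (BT.node (BT.node (BT.node (BT.node BT.leaf 5358153 BT.leaf) 5362779 (BT.node BT.leaf 5364655 BT.leaf)) 5369037 (BT.node (BT.node BT.leaf 5374638 BT.leaf) 5377684 BT.leaf)) 5378829 (BT.node (BT.node (BT.node BT.leaf 5382383 BT.leaf) 5386261 (BT.node BT.leaf 5389468 BT.leaf)) 5392373 (BT.node (BT.node BT.leaf 5397707 BT.leaf) 5399284 BT.leaf))))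

/-- subtree -/
def T_110 : BT := (BT.node (BT.node (BT.node (BT.node (BT.node BT.leaf 5406793 BT.leaf) 5409550 (BT.node BT.leaf 5415788 BT.leaf)) 5416945 (BT.node (BT.node BT.leaf 5421292 BT.leaf) 5426297 BT.leaf)) 5428364 (BT.node (BT.node (BT.node BT.leaf 5433172 BT.leaf) 5435491 (BT.node BT.leaf 5439545 BT.leaf)) 5442702 (BT.node (BT.node BT.leaf 5446389 BT.leaf) 5449627 BT.leaf))) 5452968 (BT.node (BT.node (BT.node (BT.node BT.leaf 5457040 BT.leaf) 5458595 (BT.node BT.leaf 5463499 BT.leaf)) 5466147 (BT.node (BT.node BT.leaf 5470343 BT.leaf) 5475380 BT.leaf)) 5477572 (BT.node (BT.node (BT.node BT.leaf 5479326 BT.leaf) 5485027 BT.leaf) 5489452 (BT.node (BT.node BT.leaf 5492089 BT.leaf) 5495995 BT.leaf))))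

/-- subtree -/
def T_111 : BT := BT.node T_109 5405710 T_110

/-- subtree -/
def T_112 : BT := (BT.node (BT.node (BT.node (BT.node (BT.node BT.leaf 5502668 BT.leaf) 5505034 (BT.node BT.leaf 5508182 BT.leaf)) 5511847 (BT.node (BT.node BT.leaf 5516527 BT.leaf) 5517986 BT.leaf)) 5523965 (BT.node (BT.node (BT.node BT.leaf 5527518 BT.leaf) 5528902 (BT.node BT.leaf 5533554 BT.leaf)) 5538110 (BT.node (BT.node BT.leaf 5540782 BT.leaf) 5542316 BT.leaf))) 5545260 (BT.node (BT.node (BT.node (BT.node BT.leaf 5548797 BT.leaf) 5553605 (BT.node BT.leaf 5558717 BT.leaf)) 5559425 (BT.node (BT.node BT.leaf 5562948 BT.leaf) 5568883 BT.leaf)) 5571402 (BT.node (BT.node (BT.node BT.leaf 5573608 BT.leaf) 5577473 BT.leaf) 5580680 (BT.node (BT.node BT.leaf 5585429 BT.leaf) 5589186 BT.leaf))))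

/-- subtree -/
def T_113 : BT := (BT.node (BT.node (BT.node (BT.node (BT.node BT.leaf 5596582 BT.leaf) 5598005 (BT.node BT.leaf 5603852 BT.leaf)) 5605448 (BT.node (BT.node BT.leaf 5609108 BT.leaf) 5613569 BT.leaf)) 5615952 (BT.node (BT.node (BT.node BT.leaf 5619596 BT.leaf) 5624384 (BT.node BT.leaf 5625467 BT.leaf)) 5630479 (BT.node (BT.node BT.leaf 5633062 BT.leaf) 5638600 BT.leaf))) 5641709 (BT.node (BT.node (BT.node (BT.node BT.leaf 5644167 BT.leaf) 5648866 (BT.node BT.leaf 5650108 BT.leaf)) 5655581 (BT.node (BT.node BT.leaf 5657291 BT.leaf) 5663501 BT.leaf)) 5665683 (BT.node (BT.node (BT.node BT.leaf 5669105 BT.leaf) 5671314 BT.leaf) 5675165 (BT.node (BT.node BT.leaf 5680965 BT.leaf) 5683325 BT.leaf))))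

/-- subtree -/
def T_114 : BT := BT.node T_112 5591998 T_113

/-- subtree -/
def T_115 : BT := BT.node T_111 5499246 T_114

/-- subtree -/
def T_116 : BT := (BT.node (BT.node (BT.node (BT.node (BT.node BT.leaf 5689801 BT.leaf) 5693039 (BT.node BT.leaf 5696246 BT.leaf)) 5699242 (BT.node (BT.node BT.leaf 5703618 BT.leaf) 5705763 BT.leaf)) 5712102 (BT.node (BT.node (BT.node BT.leaf 5713884 BT.leaf) 5716778 (BT.node BT.leaf 5722258 BT.leaf)) 5722973 (BT.node (BT.node BT.leaf 5729326 BT.leaf) 5732860 BT.leaf))) 5736432 (BT.node (BT.node (BT.node (BT.node BT.leaf 5739478 BT.leaf) 5743509 (BT.node BT.leaf 5745629 BT.leaf)) 5749405 (BT.node (BT.node BT.leaf 5750640 BT.leaf) 5757337 BT.leaf)) 5758361 (BT.node (BT.node (BT.node BT.leaf 5761241 BT.leaf) 5766867 BT.leaf) 5770289 (BT.node (BT.node BT.leaf 5771892 BT.leaf) 5777901 BT.leaf))))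

/-- subtree -/
def T_117 : BT := (BT.node (BT.node (BT.node (BT.node (BT.node BT.leaf 5783703 BT.leaf) 5786069 (BT.node BT.leaf 5790291 BT.leaf)) 5795840 (BT.node (BT.node BT.leaf 5796003 BT.leaf) 5800852 BT.leaf)) 5806106 (BT.node (BT.node (BT.node BT.leaf 5807401 BT.leaf) 5812839 (BT.node BT.leaf 5814245 BT.leaf)) 5820160 (BT.node (BT.node BT.leaf 5821428 BT.leaf) 5826363 BT.leaf))) 5828513 (BT.node (BT.node (BT.node (BT.node BT.leaf 5831355 BT.leaf) 5835621 (BT.node BT.leaf 5838494 BT.leaf)) 5842683 (BT.node (BT.node BT.leaf 5847059 BT.leaf) 5850305 BT.leaf)) 5852143 (BT.node (BT.node (BT.node BT.leaf 5856827 BT.leaf) 5861023 BT.leaf) 5864989 (BT.node (BT.node BT.leaf 5867867 BT.leaf) 5871063 BT.leaf))))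

/-- subtree -/
def T_118 : BT := BT.node T_116 5781205 T_117

/-- subtree -/
def T_119 : BT := (BT.node (BT.node (BT.node (BT.node (BT.node BT.leaf 5878090 BT.leaf) 5881103 (BT.node BT.leaf 5883215 BT.leaf)) 5886637 (BT.node (BT.node BT.leaf 5891821 BT.leaf) 5894967 BT.leaf)) 5898665 (BT.node (BT.node (BT.node BT.leaf 5902887 BT.leaf) 5905069 (BT.node BT.leaf 5910415 BT.leaf)) 5911241 (BT.node (BT.node BT.leaf 5917023 BT.leaf) 5920534 BT.leaf))) 5921625 (BT.node (BT.node (BT.node (BT.node BT.leaf 5926585 BT.leaf) 5929187 (BT.node BT.leaf 5934725 BT.leaf)) 5937791 (BT.node (BT.node BT.leaf 5938703 BT.leaf) 5942986 BT.leaf)) 5948899 (BT.node (BT.node (BT.node BT.leaf 5950196 BT.leaf) 5953252 BT.leaf) 5956020 (BT.node (BT.node BT.leaf 5959534 BT.leaf) 5963104 BT.leaf))))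

/-- subtree -/
def T_120 : BT := (BT.node (BT.node (BT.node (BT.node (BT.node BT.leaf 5972247 BT.leaf) 5975669 (BT.node BT.leaf 5978382 BT.leaf)) 5983562 (BT.node (BT.node BT.leaf 5984347 BT.leaf) 5990500 BT.leaf)) 5991396 (BT.node (BT.node (BT.node BT.leaf 5996256 BT.leaf) 5998523 (BT.node BT.leaf 6002493 BT.leaf)) 6006522 (BT.node (BT.node BT.leaf 6011599 BT.leaf) 6012671 BT.leaf))) 6017876 (BT.node (BT.node (BT.node (BT.node BT.leaf 6019868 BT.leaf) 6023699 (BT.node BT.leaf 6026712 BT.leaf)) 6029869 (BT.node (BT.node BT.leaf 6034727 BT.leaf) 6037430 BT.leaf)) 6041941 (BT.node (BT.node (BT.node BT.leaf 6043400 BT.leaf) 6047653 BT.leaf) 6051578 (BT.node (BT.node BT.leaf 6056085 BT.leaf) 6058842 BT.leaf))))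

/-- subtree -/
def T_121 : BT := BT.node T_119 5969342 T_120

/-- subtree -/
def T_122 : BT := BT.node T_118 5874485 T_121

/-- subtree -/
def T_123 : BT := BT.node T_115 5686836 T_122

/-- subtree -/
def T_124 : BT := BT.node T_108 5307990 T_123

/-- subtree -/
def T_125 : BT := BT.node T_93 4547517 T_124

/-- subtree -/
def T_126 : BT := BT.node T_62 3033201 T_125

/-- subtree -/
def T_127 : BT := (BT.node (BT.node (BT.node (BT.node (BT.node BT.leaf 6066961 BT.leaf) 6069108 (BT.node BT.leaf 6071540 BT.leaf)) 6076389 (BT.node (BT.node BT.leaf 6080334 BT.leaf) 6082635 BT.leaf)) 6086982 (BT.node (BT.node (BT.node BT.leaf 6088595 BT.leaf) 6092017 (BT.node BT.leaf 6096693 BT.leaf)) 6101790 (BT.node (BT.node BT.leaf 6104288 BT.leaf) 6108477 BT.leaf))) 6110837 (BT.node (BT.node (BT.node (BT.node BT.leaf 6113692 BT.leaf) 6118856 (BT.node BT.leaf 6122165 BT.leaf)) 6125941 (BT.node (BT.node BT.leaf 6126754 BT.leaf) 6133396 BT.leaf)) 6135401 (BT.node (BT.node (BT.node BT.leaf 6139432 BT.leaf)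 6141068 (BT.node BT.leaf 6144396 BT.leaf)) 6150721 (BT.node (BT.node BT.leaf 6153928 BT.leaf) 6155323 BT.leaf))))

/-- subtree -/
def T_128 : BT := (BT.node (BT.node (BT.node (BT.node (BT.node BT.leaf 6161400 BT.leaf) 6164914 (BT.node BT.leaf 6170957 BT.leaf)) 6172352 (BT.node (BT.node BT.leaf 6175559 BT.leaf) 6181884 BT.leaf)) 6185212 (BT.node (BT.node (BT.node BT.leaf 6186848 BT.leaf) 6190879 (BT.node BT.leaf 6192884 BT.leaf)) 6199526 (BT.node (BT.node BT.leaf 6200339 BT.leaf) 6204115 BT.leaf))) 6207424 (BT.node (BT.node (BT.node (BT.node BT.leaf 6212588 BT.leaf) 6215443 (BT.node BT.leaf 6217803 BT.leaf)) 6221992 (BT.node (BT.node BT.leaf 6224490 BT.leaf) 6229587 BT.leaf)) 6234263 (BT.node (BT.node (BT.node BT.leaf 6237685 BT.leaf) 6239298 BT.leaf) 6243645 (BT.node (BT.node BT.leaf 6245946 BT.leaf) 6249891 BT.leaf))))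

/-- subtree -/
def T_129 : BT := BT.node T_127 6161366 T_128

/-- subtree -/
def T_130 : BT := (BT.node (BT.node (BT.node (BT.node (BT.node BT.leaf 6257172 BT.leaf) 6259319 (BT.node BT.leaf 6265006 BT.leaf)) 6267438 (BT.node (BT.node BT.leaf 6270195 BT.leaf) 6274702 BT.leaf)) 6278627 (BT.node (BT.node (BT.node BT.leaf 6282880 BT.leaf) 6284339 (BT.node BT.leaf 6288850 BT.leaf)) 6291553 (BT.node (BT.node BT.leaf 6296411 BT.leaf) 6299568 BT.leaf))) 6302581 (BT.node (BT.node (BT.node (BT.node BT.leaf 6306412 BT.leaf) 6308404 (BT.node BT.leaf 6313609 BT.leaf)) 6314681 (BT.node (BT.node BT.leaf 6319758 BT.leaf) 6323787 BT.leaf)) 6327757 (BT.node (BT.node (BT.node BT.leaf 6330024 BT.leaf) 6334884 BT.leaf) 6335780 (BT.node (BT.node BT.leaf 6341933 BT.leaf) 6342718 BT.leaf))))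

/-- subtree -/
def T_131 : BT := (BT.node (BT.node (BT.node (BT.node (BT.node BT.leaf 6350611 BT.leaf) 6354033 (BT.node BT.leaf 6356938 BT.leaf)) 6363176 (BT.node (BT.node BT.leaf 6366746 BT.leaf) 6366780 BT.leaf)) 6373028 (BT.node (BT.node (BT.node BT.leaf 6376084 BT.leaf) 6377381 (BT.node BT.leaf 6383294 BT.leaf)) 6387577 (BT.node (BT.node BT.leaf 6388489 BT.leaf) 6391555 BT.leaf))) 6397093 (BT.node (BT.node (BT.node (BT.node BT.leaf 6399695 BT.leaf) 6404655 (BT.node BT.leaf 6405746 BT.leaf)) 6409257 (BT.node (BT.node BT.leaf 6415039 BT.leaf) 6415865 BT.leaf)) 6421211 (BT.node (BT.node (BT.node BT.leaf 6423393 BT.leaf) 6427615 BT.leaf) 6431313 (BT.node (BT.node BT.leaf 6434459 BT.leaf) 6439643 BT.leaf))))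

/-- subtree -/
def T_132 : BT := BT.node T_130 6347898 T_131

/-- subtree -/
def T_133 : BT := BT.node T_129 6254740 T_132

/-- subtree -/
def T_134 : BT := (BT.node (BT.node (BT.node (BT.node (BT.node BT.leaf 6445177 BT.leaf) 6448190 (BT.node BT.leaf 6451795 BT.leaf)) 6455217 (BT.node (BT.node BT.leaf 6458413 BT.leaf) 6461291 BT.leaf)) 6465257 (BT.node (BT.node (BT.node BT.leaf 6469453 BT.leaf) 6474137 (BT.node BT.leaf 6475975 BT.leaf)) 6479221 (BT.node (BT.node BT.leaf 6483597 BT.leaf) 6487786 BT.leaf))) 6490659 (BT.node (BT.node (BT.node (BT.node BT.leaf 6494925 BT.leaf) 6497767 (BT.node BT.leaf 6499917 BT.leaf)) 6504852 (BT.node (BT.node BT.leaf 6506120 BT.leaf) 6512035 BT.leaf)) 6513441 (BT.node (BT.node (BT.node BT.leaf 6518879 BT.leaf) 6520174 (BT.node BT.leaf 6525428 BT.leaf)) 6530277 (BT.node (BT.node BT.leaf 6530440 BT.leaf) 6535989 BT.leaf))))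

/-- subtree -/
def T_135 : BT := (BT.node (BT.node (BT.node (BT.node (BT.node BT.leaf 6542577 BT.leaf) 6545075 (BT.node BT.leaf 6548379 BT.leaf)) 6554388 (BT.node (BT.node BT.leaf 6555991 BT.leaf) 6559413 BT.leaf)) 6565039 (BT.node (BT.node (BT.node BT.leaf 6567919 BT.leaf) 6568943 (BT.node BT.leaf 6572160 BT.leaf)) 6576875 (BT.node (BT.node BT.leaf 6580651 BT.leaf) 6582771 BT.leaf))) 6586802 (BT.node (BT.node (BT.node (BT.node BT.leaf 6589848 BT.leaf) 6593420 (BT.node BT.leaf 6596954 BT.leaf)) 6603307 (BT.node (BT.node BT.leaf 6604022 BT.leaf) 6609502 BT.leaf)) 6612396 (BT.node (BT.node (BT.node BT.leaf 6614178 BT.leaf) 6620517 BT.leaf) 6622662 (BT.node (BT.node BT.leaf 6627038 BT.leaf) 6630034 BT.leaf))))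

/-- subtree -/
def T_136 : BT := BT.node T_134 6540211 T_135

/-- subtree -/
def T_137 : BT := (BT.node (BT.node (BT.node (BT.node (BT.node BT.leaf 6636479 BT.leaf) 6639444 (BT.node BT.leaf 6642955 BT.leaf)) 6645315 (BT.node (BT.node BT.leaf 6651115 BT.leaf) 6654966 BT.leaf)) 6657175 (BT.node (BT.node (BT.node BT.leaf 6660597 BT.leaf) 6662779 (BT.node BT.leaf 6668989 BT.leaf)) 6670699 (BT.node (BT.node BT.leaf 6676172 BT.leaf) 6677414 BT.leaf))) 6682113 (BT.node (BT.node (BT.node (BT.node BT.leaf 6684571 BT.leaf) 6687680 (BT.node BT.leaf 6693218 BT.leaf)) 6695801 (BT.node (BT.node BT.leaf 6700813 BT.leaf) 6701896 BT.leaf)) 6706684 (BT.node (BT.node (BT.node BT.leaf 6710328 BT.leaf) 6712711 BT.leaf) 6717172 (BT.node (BT.node BT.leaf 6720832 BT.leaf) 6722428 BT.leaf))))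

/-- subtree -/
def T_138 : BT := (BT.node (BT.node (BT.node (BT.node (BT.node BT.leaf 6729698 BT.leaf) 6734282 (BT.node BT.leaf 6737094 BT.leaf)) 6740851 (BT.node (BT.node BT.leaf 6745600 BT.leaf) 6748807 BT.leaf)) 6752672 (BT.node (BT.node (BT.node BT.leaf 6754878 BT.leaf) 6757397 (BT.node BT.leaf 6763332 BT.leaf)) 6766855 (BT.node (BT.node BT.leaf 6767563 BT.leaf) 6772675 BT.leaf))) 6777483 (BT.node (BT.node (BT.node (BT.node BT.leaf 6777540 BT.leaf) 6783964 (BT.node BT.leaf 6785498 BT.leaf)) 6788170 (BT.node (BT.node BT.leaf 6792726 BT.leaf) 6797378 BT.leaf)) 6798762 (BT.node (BT.node (BT.node BT.leaf 6802315 BT.leaf) 6808294 BT.leaf) 6809753 (BT.node (BT.node BT.leaf 6814433 BT.leaf) 6818098 BT.leaf))))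

/-- subtree -/
def T_139 : BT := BT.node T_137 6728275 T_138

/-- subtree -/
def T_140 : BT := BT.node T_136 6633241 T_139

/-- subtree -/
def T_141 : BT := BT.node T_133 6443065 T_140

/-- subtree -/
def T_142 : BT := (BT.node (BT.node (BT.node (BT.node (BT.node BT.leaf 6823612 BT.leaf) 6827034 (BT.node BT.leaf 6830285 BT.leaf)) 6834191 (BT.node (BT.node BT.leaf 6836828 BT.leaf) 6841253 BT.leaf)) 6846954 (BT.node (BT.node (BT.node BT.leaf 6848708 BT.leaf) 6850900 (BT.node BT.leaf 6855937 BT.leaf)) 6860133 (BT.node (BT.node BT.leaf 6862781 BT.leaf) 6867685 BT.leaf))) 6869240 (BT.node (BT.node (BT.node (BT.node BT.leaf 6873312 BT.leaf) 6876653 (BT.node BT.leaf 6879891 BT.leaf)) 6883578 (BT.node (BT.node BT.leaf 6886735 BT.leaf) 6890789 BT.leaf)) 6893108 (BT.node (BT.node (BT.node BT.leaf 6897916 BT.leaf) 6899983 (BT.node BT.leaf 6904988 BT.leaf)) 6909335 (BT.node (BT.node BT.leaf 6910492 BT.leaf) 6916730 BT.leaf))))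

/-- subtree -/
def T_143 : BT := (BT.node (BT.node (BT.node (BT.node (BT.node BT.leaf 6920570 BT.leaf) 6926996 (BT.node BT.leaf 6928573 BT.leaf)) 6933907 (BT.node (BT.node BT.leaf 6936812 BT.leaf) 6940019 BT.leaf)) 6943897 (BT.node (BT.node (BT.node BT.leaf 6947451 BT.leaf) 6948596 (BT.node BT.leaf 6951642 BT.leaf)) 6957243 (BT.node (BT.node BT.leaf 6961625 BT.leaf) 6963501 BT.leaf))) 6968127 (BT.node (BT.node (BT.node (BT.node BT.leaf 6971482 BT.leaf) 6973568 (BT.node BT.leaf 6979316 BT.leaf)) 6981748 (BT.node (BT.node BT.leaf 6982920 BT.leaf) 6989168 BT.leaf)) 6990241 (BT.node (BT.node (BT.node BT.leaf 6994702 BT.leaf) 6999434 BT.leaf) 7000965 (BT.node (BT.node BT.leaf 7003929 BT.leaf) 7009310 BT.leaf))))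

/-- subtree -/
def T_144 : BT := BT.node T_142 6919487 T_143

/-- subtree -/
def T_145 : BT := (BT.node (BT.node (BT.node (BT.node (BT.node BT.leaf 7014782 BT.leaf) 7018290 (BT.node BT.leaf 7021497 BT.leaf)) 7025500 (BT.node (BT.node BT.leaf 7029105 BT.leaf) 7032344 BT.leaf)) 7038408 (BT.node (BT.node (BT.node BT.leaf 7039371 BT.leaf) 7044625 (BT.node BT.leaf 7048047 BT.leaf)) 7052440 (BT.node (BT.node BT.leaf 7055691 BT.leaf) 7057245 BT.leaf))) 7061074 (BT.node (BT.node (BT.node (BT.node BT.leaf 7063142 BT.leaf) 7066956 (BT.node BT.leaf 7072972 BT.leaf)) 7076308 (BT.node (BT.node BT.leaf 7078184 BT.leaf) 7082020 BT.leaf)) 7085552 (BT.node (BT.node (BT.node BT.leaf 7089583 BT.leaf) 7092709 BT.leaf) 7096131 (BT.node (BT.node BT.leaf 7099759 BT.leaf) 7101704 BT.leaf))))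

/-- subtree -/
def T_146 : BT := (BT.node (BT.node (BT.node (BT.node (BT.node BT.leaf 7110351 BT.leaf) 7114923 (BT.node BT.leaf 7116959 BT.leaf)) 7120735 (BT.node (BT.node BT.leaf 7124511 BT.leaf) 7128083 BT.leaf)) 7130175 (BT.node (BT.node (BT.node BT.leaf 7133597 BT.leaf) 7136314 (BT.node BT.leaf 7142791 BT.leaf)) 7145756 (BT.node (BT.node BT.leaf 7146580 BT.leaf) 7152818 BT.leaf))) 7155014 (BT.node (BT.node (BT.node (BT.node BT.leaf 7159918 BT.leaf) 7161944 (BT.node BT.leaf 7167021 BT.leaf)) 7168617 (BT.node (BT.node BT.leaf 7173097 BT.leaf) 7177011 BT.leaf)) 7178710 (BT.node (BT.node (BT.node BT.leaf 7182476 BT.leaf) 7188217 BT.leaf) 7188300 (BT.node (BT.node BT.leaf 7191837 BT.leaf) 7197315 BT.leaf))))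

/-- subtree -/
def T_147 : BT := BT.node T_145 7107047 T_146

/-- subtree -/
def T_148 : BT := BT.node T_144 7012204 T_147

/-- subtree -/
def T_149 : BT := (BT.node (BT.node (BT.node (BT.node (BT.node BT.leaf 7205388 BT.leaf) 7207684 (BT.node BT.leaf 7209561 BT.leaf)) 7213760 (BT.node (BT.node BT.leaf 7216589 BT.leaf) 7221215 BT.leaf)) 7224751 (BT.node (BT.node (BT.node BT.leaf 7227249 BT.leaf) 7231359 (BT.node BT.leaf 7235269 BT.leaf)) 7240445 (BT.node (BT.node BT.leaf 7243030 BT.leaf) 7246246 BT.leaf))) 7250593 (BT.node (BT.node (BT.node (BT.node BT.leaf 7252170 BT.leaf) 7254824 (BT.node BT.leaf 7260977 BT.leaf)) 7262436 (BT.node (BT.node BT.leaf 7265579 BT.leaf) 7269801 BT.leaf)) 7273223 (BT.node (BT.node (BT.node BT.leaf 7276785 BT.leaf) 7281829 BT.leaf) 7282811 (BT.node (BT.node BT.leaf 7286347 BT.leaf) 7290021 BT.leaf))))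

/-- subtree -/
def T_150 : BT := (BT.node (BT.node (BT.node (BT.node (BT.node BT.leaf 7298089 BT.leaf) 7301511 (BT.node BT.leaf 7305527 BT.leaf)) 7306922 (BT.node (BT.node BT.leaf 7310241 BT.leaf) 7316479 BT.leaf)) 7319295 (BT.node (BT.node (BT.node BT.leaf 7321530 BT.leaf) 7326379 (BT.node BT.leaf 7329481 BT.leaf)) 7334269 (BT.node (BT.node BT.leaf 7336972 BT.leaf) 7338846 BT.leaf))) 7344049 (BT.node (BT.node (BT.node (BT.node BT.leaf 7347583 BT.leaf) 7351188 (BT.node BT.leaf 7354610 BT.leaf)) 7358211 (BT.node (BT.node BT.leaf 7360965 BT.leaf) 7365676 BT.leaf)) 7367379 (BT.node (BT.node (BT.node BT.leaf 7370481 BT.leaf) 7373785 BT.leaf) 7376488 (BT.node (BT.node BT.leaf 7382177 BT.leaf) 7386208 BT.leaf))))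

/-- subtree -/
def T_151 : BT := BT.node T_149 7294482 T_150

/-- subtree -/
def T_152 : BT := (BT.node (BT.node (BT.node (BT.node (BT.node BT.leaf 7391013 BT.leaf) 7393680 (BT.node BT.leaf 7398265 BT.leaf)) 7402695 (BT.node (BT.node BT.leaf 7404291 BT.leaf) 7408122 BT.leaf)) 7411953 (BT.node (BT.node (BT.node BT.leaf 7416125 BT.leaf) 7419437 (BT.node BT.leaf 7422837 BT.leaf)) 7425232 (BT.node (BT.node BT.leaf 7431167 BT.leaf) 7434464 BT.leaf))) 7436611 (BT.node (BT.node (BT.node (BT.node BT.leaf 7439716 BT.leaf) 7443208 (BT.node BT.leaf 7446173 BT.leaf)) 7452189 (BT.node (BT.node BT.leaf 7455440 BT.leaf) 7459216 BT.leaf)) 7459861 (BT.node (BT.node (BT.node BT.leaf 7463987 BT.leaf) 7468016 BT.leaf) 7470745 (BT.node (BT.node BT.leaf 7476896 BT.leaf) 7477611 BT.leaf))))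

/-- subtree -/
def T_153 : BT := (BT.node (BT.node (BT.node (BT.node (BT.node BT.leaf 7486592 BT.leaf) 7487987 (BT.node BT.leaf 7492775 BT.leaf)) 7496976 (BT.node (BT.node BT.leaf 7499881 BT.leaf) 7503820 BT.leaf)) 7508446 (BT.node (BT.node (BT.node BT.leaf 7510507 BT.leaf) 7514538 (BT.node BT.leaf 7515621 BT.leaf)) 7522318 (BT.node (BT.node BT.leaf 7525578 BT.leaf) 7527774 BT.leaf))) 7532870 (BT.node (BT.node (BT.node (BT.node BT.leaf 7534618 BT.leaf) 7537922 (BT.node BT.leaf 7540546 BT.leaf)) 7545336 (BT.node (BT.node BT.leaf 7547834 BT.leaf) 7550937 BT.leaf)) 7556504 (BT.node (BT.node (BT.node BT.leaf 7560077 BT.leaf) 7561693 BT.leaf) 7565298 (BT.node (BT.node BT.leaf 7570678 BT.leaf) 7574213 BT.leaf))))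

/-- subtree -/
def T_154 : BT := BT.node T_152 7482167 T_153

/-- subtree -/
def T_155 : BT := BT.node T_151 7390086 T_154

/-- subtree -/
def T_156 : BT := BT.node T_148 7198909 T_155

/-- subtree -/
def T_157 : BT := BT.node T_141 6821246 T_156

/-- subtree -/
def T_158 : BT := (BT.node (BT.node (BT.node (BT.node (BT.node BT.leaf 7580330 BT.leaf) 7582978 (BT.node BT.leaf 7588392 BT.leaf)) 7590758 (BT.node (BT.node BT.leaf 7593996 BT.leaf) 7597888 BT.leaf)) 7599060 (BT.node (BT.node (BT.node BT.leaf 7602585 BT.leaf) 7606415 (BT.node BT.leaf 7609724 BT.leaf)) 7613146 (BT.node (BT.node BT.leaf 7619857 BT.leaf) 7621052 BT.leaf))) 7623525 (BT.node (BT.node (BT.node (BT.node BT.leaf 7627356 BT.leaf) 7630893 (BT.node BT.leaf 7635196 BT.leaf)) 7639106 (BT.node (BT.node BT.leaf 7642927 BT.leaf) 7645245 BT.leaf)) 7649685 (BT.node (BT.node (BT.node BT.leaf 7652124 BT.leaf) 7655511 (BT.node BT.leaf 7660857 BT.leaf)) 7662781 (BT.node (BT.node BT.leaf 7665538 BT.leaf) 7671187 BT.leaf))))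

/-- subtree -/
def T_159 : BT := (BT.node (BT.node (BT.node (BT.node (BT.node BT.leaf 7677147 BT.leaf) 7679682 (BT.node BT.leaf 7685539 BT.leaf)) 7689239 (BT.node (BT.node BT.leaf 7690835 BT.leaf) 7694646 BT.leaf)) 7698755 (BT.node (BT.node (BT.node BT.leaf 7701719 BT.leaf) 7704124 (BT.node BT.leaf 7709443 BT.leaf)) 7711281 (BT.node (BT.node BT.leaf 7716287 BT.leaf) 7720118 BT.leaf))) 7722935 (BT.node (BT.node (BT.node (BT.node BT.leaf 7725055 BT.leaf) 7730855 (BT.node BT.leaf 7732975 BT.leaf)) 7737228 (BT.node (BT.node BT.leaf 7740241 BT.leaf) 7744072 BT.leaf)) 7747085 (BT.node (BT.node (BT.node BT.leaf 7749893 BT.leaf) 7754797 BT.leaf) 7756673 (BT.node (BT.node BT.leaf 7761182 BT.leaf) 7765425 BT.leaf))))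

/-- subtree -/
def T_160 : BT := BT.node T_158 7673383 T_159

/-- subtree -/
def T_161 : BT := (BT.node (BT.node (BT.node (BT.node (BT.node BT.leaf 7772737 BT.leaf) 7774511 (BT.node BT.leaf 7778763 BT.leaf)) 7782889 (BT.node (BT.node BT.leaf 7786425 BT.leaf) 7788477 BT.leaf)) 7793772 (BT.node (BT.node (BT.node BT.leaf 7797309 BT.leaf) 7800853 (BT.node BT.leaf 7801223 BT.leaf)) 7804440 (BT.node (BT.node BT.leaf 7808539 BT.leaf) 7811761 BT.leaf))) 7816796 (BT.node (BT.node (BT.node (BT.node BT.leaf 7819423 BT.leaf) 7823503 (BT.node BT.leaf 7825449 BT.leaf)) 7829215 (BT.node (BT.node BT.leaf 7835324 BT.leaf) 7836283 BT.leaf)) 7839823 (BT.node (BT.node (BT.node BT.leaf 7842759 BT.leaf) 7846885 BT.leaf) 7850480 (BT.node (BT.node BT.leaf 7856013 BT.leaf) 7859928 BT.leaf))))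

/-- subtree -/
def T_162 : BT := (BT.node (BT.node (BT.node (BT.node (BT.node BT.leaf 7864591 BT.leaf) 7867331 (BT.node BT.leaf 7873807 BT.leaf)) 7875251 (BT.node (BT.node BT.leaf 7880879 BT.leaf) 7882313 BT.leaf)) 7885850 (BT.node (BT.node (BT.node BT.leaf 7890526 BT.leaf) 7892931 (BT.node BT.leaf 7898378 BT.leaf)) 7900534 (BT.node (BT.node BT.leaf 7902209 BT.leaf) 7908255 BT.leaf))) 7910715 (BT.node (BT.node (BT.node (BT.node BT.leaf 7914137 BT.leaf) 7917683 (BT.node BT.leaf 7919456 BT.leaf)) 7925137 (BT.node (BT.node BT.leaf 7929264 BT.leaf) 7931332 BT.leaf)) 7935521 (BT.node (BT.node (BT.node BT.leaf 7939451 BT.leaf) 7942365 BT.leaf) 7945669 (BT.node (BT.node BT.leaf 7949579 BT.leaf) 7953090 BT.leaf))))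

/-- subtree -/
def T_163 : BT := BT.node T_161 7862892 T_162

/-- subtree -/
def T_164 : BT := BT.node T_160 7769201 T_163

/-- subtree -/
def T_165 : BT := (BT.node (BT.node (BT.node (BT.node (BT.node BT.leaf 7960209 BT.leaf) 7964001 (BT.node BT.leaf 7966827 BT.leaf)) 7968974 (BT.node (BT.node BT.leaf 7972361 BT.leaf) 7976695 BT.leaf)) 7981111 (BT.node (BT.node (BT.node BT.leaf 7984016 BT.leaf) 7985892 (BT.node BT.leaf 7992102 BT.leaf)) 7995524 (BT.node (BT.node BT.leaf 7996999 BT.leaf) 8000230 BT.leaf))) 8004071 (BT.node (BT.node (BT.node (BT.node BT.leaf 8007882 BT.leaf) 8009820 (BT.node BT.leaf 8015321 BT.leaf)) 8017541 (BT.node (BT.node BT.leaf 8020446 BT.leaf) 8027029 BT.leaf)) 8027508 (BT.node (BT.node (BT.node BT.leaf 8033967 BT.leaf) 8035103 (BT.node BT.leaf 8038116 BT.leaf)) 8044139 (BT.node (BT.node BT.leaf 8046853 BT.leaf) 8048777 BT.leaf))))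

/-- subtree -/
def T_166 : BT := (BT.node (BT.node (BT.node (BT.node (BT.node BT.leaf 8055183 BT.leaf) 8061393 (BT.node BT.leaf 8064815 BT.leaf)) 8065901 (BT.node (BT.node BT.leaf 8069981 BT.leaf) 8073545 BT.leaf)) 8077058 (BT.node (BT.node (BT.node BT.leaf 8081130 BT.leaf) 8084143 (BT.node BT.leaf 8087974 BT.leaf)) 8092500 (BT.node (BT.node BT.leaf 8096531 BT.leaf) 8098305 BT.leaf))) 8102766 (BT.node (BT.node (BT.node (BT.node BT.leaf 8105084 BT.leaf) 8109806 (BT.node BT.leaf 8111928 BT.leaf)) 8116095 (BT.node (BT.node BT.leaf 8119517 BT.leaf) 8123081 BT.leaf)) 8125388 (BT.node (BT.node (BT.node BT.leaf 8128247 BT.leaf) 8133733 BT.leaf) 8137705 (BT.node (BT.node BT.leaf 8141689 BT.leaf) 8142669 BT.leaf))))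

/-- subtree -/
def T_167 : BT := BT.node T_165 8053526 T_166

/-- subtree -/
def T_168 : BT := (BT.node (BT.node (BT.node (BT.node (BT.node BT.leaf 8151383 BT.leaf) 8154832 (BT.node BT.leaf 8157518 BT.leaf)) 8161136 (BT.node (BT.node BT.leaf 8165081 BT.leaf) 8167784 BT.leaf)) 8172644 (BT.node (BT.node (BT.node BT.leaf 8174319 BT.leaf) 8177741 (BT.node BT.leaf 8183792 BT.leaf)) 8186788 (BT.node (BT.node BT.leaf 8187863 BT.leaf) 8193019 BT.leaf))) 8197671 (BT.node (BT.node (BT.node (BT.node BT.leaf 8199191 BT.leaf) 8201645 (BT.node BT.leaf 8204973 BT.leaf)) 8211359 (BT.node (BT.node BT.leaf 8214590 BT.leaf) 8215200 BT.leaf)) 8219785 (BT.node (BT.node (BT.node BT.leaf 8223321 BT.leaf) 8227510 BT.leaf) 8229842 (BT.node (BT.node BT.leaf 8233473 BT.leaf) 8239074 BT.leaf))))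

/-- subtree -/
def T_169 : BT := (BT.node (BT.node (BT.node (BT.node (BT.node BT.leaf 8245789 BT.leaf) 8247031 (BT.node BT.leaf 8250638 BT.leaf)) 8254060 (BT.node (BT.node BT.leaf 8257218 BT.leaf) 8262122 BT.leaf)) 8266522 (BT.node (BT.node (BT.node BT.leaf 8267693 BT.leaf) 8273294 (BT.node BT.leaf 8275355 BT.leaf)) 8278925 (BT.node (BT.node BT.leaf 8281381 BT.leaf) 8284917 BT.leaf))) 8289525 (BT.node (BT.node (BT.node (BT.node BT.leaf 8293597 BT.leaf) 8296610 (BT.node BT.leaf 8300441 BT.leaf)) 8303679 (BT.node (BT.node BT.leaf 8307213 BT.leaf) 8311839 BT.leaf)) 8313452 (BT.node (BT.node (BT.node BT.leaf 8317551 BT.leaf) 8322339 BT.leaf) 8324395 (BT.node (BT.node BT.leaf 8326748 BT.leaf) 8333334 BT.leaf))))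

/-- subtree -/
def T_170 : BT := BT.node T_168 8241590 T_169

/-- subtree -/
def T_171 : BT := BT.node T_167 8147988 T_170

/-- subtree -/
def T_172 : BT := BT.node T_164 7955544 T_171

/-- subtree -/
def T_173 : BT := (BT.node (BT.node (BT.node (BT.node (BT.node BT.leaf 8340070 BT.leaf) 8342837 (BT.node BT.leaf 8346146 BT.leaf)) 8349735 (BT.node (BT.node BT.leaf 8353416 BT.leaf) 8356525 BT.leaf)) 8358844 (BT.node (BT.node (BT.node BT.leaf 8363682 BT.leaf) 8367409 (BT.node BT.leaf 8369182 BT.leaf)) 8373435 (BT.node (BT.node BT.leaf 8377091 BT.leaf) 8379247 BT.leaf))) 8385094 (BT.node (BT.node (BT.node (BT.node BT.leaf 8388625 BT.leaf) 8392585 (BT.node BT.leaf 8393064 BT.leaf)) 8398244 (BT.node (BT.node BT.leaf 8402808 BT.leaf) 8406339 BT.leaf)) 8408618 (BT.node (BT.node (BT.node BT.leaf 8413526 BT.leaf) 8416539 (BT.node BT.leaf 8420370 BT.leaf)) 8420580 (BT.node (BT.node BT.leaf 8426563 BT.leaf) 8427654 BT.leaf))))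

/-- subtree -/
def T_174 : BT := (BT.node (BT.node (BT.node (BT.node (BT.node BT.leaf 8434714 BT.leaf) 8440912 (BT.node BT.leaf 8441782 BT.leaf)) 8448122 (BT.node (BT.node BT.leaf 8450893 BT.leaf) 8454600 BT.leaf)) 8457126 (BT.node (BT.node (BT.node BT.leaf 8459061 BT.leaf) 8465780 (BT.node BT.leaf 8466567 BT.leaf)) 8471651 (BT.node (BT.node BT.leaf 8475073 BT.leaf) 8479597 BT.leaf))) 8480737 (BT.node (BT.node (BT.node (BT.node BT.leaf 8485113 BT.leaf) 8487842 (BT.node BT.leaf 8491890 BT.leaf)) 8495841 (BT.node (BT.node BT.leaf 8498734 BT.leaf) 8501992 BT.leaf)) 8506329 (BT.node (BT.node (BT.node BT.leaf 8510945 BT.leaf) 8513872 BT.leaf) 8515844 (BT.node (BT.node BT.leaf 8519675 BT.leaf) 8522688 BT.leaf))))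

/-- subtree -/
def T_175 : BT := BT.node T_173 8431685 T_174

/-- subtree -/
def T_176 : BT := (BT.node (BT.node (BT.node (BT.node (BT.node BT.leaf 8530901 BT.leaf) 8533021 (BT.node BT.leaf 8537377 BT.leaf)) 8540941 (BT.node (BT.node BT.leaf 8545404 BT.leaf) 8548028 BT.leaf)) 8550593 (BT.node (BT.node (BT.node BT.leaf 8554237 BT.leaf) 8557201 (BT.node BT.leaf 8560623 BT.leaf)) 8565121 (BT.node (BT.node BT.leaf 8567241 BT.leaf) 8570287 BT.leaf))) 8576310 (BT.node (BT.node (BT.node (BT.node BT.leaf 8579863 BT.leaf) 8581214 (BT.node BT.leaf 8585734 BT.leaf)) 8590878 (BT.node (BT.node BT.leaf 8594257 BT.leaf) 8594902 BT.leaf)) 8600156 (BT.node (BT.node (BT.node BT.leaf 8604676 BT.leaf) 8607945 BT.leaf) 8608956 (BT.node (BT.node BT.leaf 8614832 BT.leaf) 8616477 BT.leaf))))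

/-- subtree -/
def T_177 : BT := (BT.node (BT.node (BT.node (BT.node (BT.node BT.leaf 8623192 BT.leaf) 8625960 (BT.node BT.leaf 8630612 BT.leaf)) 8633315 (BT.node (BT.node BT.leaf 8639282 BT.leaf) 8640878 BT.leaf)) 8646054 (BT.node (BT.node (BT.node BT.leaf 8648560 BT.leaf) 8650425 (BT.node BT.leaf 8655022 BT.leaf)) 8657779 (BT.node (BT.node BT.leaf 8661453 BT.leaf) 8666129 BT.leaf))) 8668297 (BT.node (BT.node (BT.node (BT.node BT.leaf 8671941 BT.leaf) 8677236 (BT.node BT.leaf 8679074 BT.leaf)) 8684469 (BT.node (BT.node BT.leaf 8685364 BT.leaf) 8690279 BT.leaf)) 8693198 (BT.node (BT.node (BT.node BT.leaf 8695630 BT.leaf) 8699508 BT.leaf) 8704357 (BT.node (BT.node BT.leaf 8709038 BT.leaf) 8711072 BT.leaf))))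

/-- subtree -/
def T_178 : BT := BT.node T_176 8620449 T_177

/-- subtree -/
def T_179 : BT := BT.node T_175 8525566 T_178

/-- subtree -/
def T_180 : BT := (BT.node (BT.node (BT.node (BT.node (BT.node BT.leaf 8718906 BT.leaf) 8721338 (BT.node BT.leaf 8724499 BT.leaf)) 8727266 (BT.node (BT.node BT.leaf 8732142 BT.leaf) 8735155 BT.leaf)) 8737991 (BT.node (BT.node (BT.node BT.leaf 8742740 BT.leaf) 8746321 (BT.node BT.leaf 8749871 BT.leaf)) 8753402 (BT.node (BT.node BT.leaf 8758123 BT.leaf) 8761163 BT.leaf))) 8763995 (BT.node (BT.node (BT.node (BT.node BT.leaf 8767771 BT.leaf) 8771075 (BT.node BT.leaf 8773658 BT.leaf)) 8776474 (BT.node (BT.node BT.leaf 8781459 BT.leaf) 8785270 BT.leaf)) 8786356 (BT.node (BT.node (BT.node BT.leaf 8792802 BT.leaf) 8793973 BT.leaf) 8796694 (BT.node (BT.node BT.leaf 8802227 BT.leaf) 8804854 BT.leaf))))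

/-- subtree -/
def T_181 : BT := (BT.node (BT.node (BT.node (BT.node (BT.node BT.leaf 8813530 BT.leaf) 8817135 (BT.node BT.leaf 8820178 BT.leaf)) 8824286 (BT.node (BT.node BT.leaf 8826563 BT.leaf) 8831130 BT.leaf)) 8831340 (BT.node (BT.node (BT.node BT.leaf 8837253 BT.leaf) 8838393 (BT.node BT.leaf 8843122 BT.leaf)) 8845514 (BT.node (BT.node BT.leaf 8849050 BT.leaf) 8853303 BT.leaf))) 8857001 (BT.node (BT.node (BT.node (BT.node BT.leaf 8862347 BT.leaf) 8863264 (BT.node BT.leaf 8866686 BT.leaf)) 8872613 (BT.node (BT.node BT.leaf 8873920 BT.leaf) 8878010 BT.leaf)) 8880764 (BT.node (BT.node (BT.node BT.leaf 8885475 BT.leaf) 8889096 BT.leaf) 8893292 (BT.node (BT.node BT.leaf 8894367 BT.leaf) 8899163 BT.leaf))))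

/-- subtree -/
def T_182 : BT := BT.node T_180 8810108 T_181

/-- subtree -/
def T_183 : BT := (BT.node (BT.node (BT.node (BT.node (BT.node BT.leaf 8906970 BT.leaf) 8908331 (BT.node BT.leaf 8911562 BT.leaf)) 8915652 (BT.node (BT.node BT.leaf 8919839 BT.leaf) 8923373 BT.leaf)) 8926926 (BT.node (BT.node (BT.node BT.leaf 8930435 BT.leaf) 8933383 (BT.node BT.leaf 8937509 BT.leaf)) 8942469 (BT.node (BT.node BT.leaf 8944614 BT.leaf) 8947071 BT.leaf))) 8951847 (BT.node (BT.node (BT.node (BT.node BT.leaf 8954114 BT.leaf) 8959139 (BT.node BT.leaf 8962113 BT.leaf)) 8965864 (BT.node (BT.node BT.leaf 8969895 BT.leaf) 8972938 BT.leaf)) 8974133 (BT.node (BT.node (BT.node BT.leaf 8979671 BT.leaf) 8982254 BT.leaf) 8987573 (BT.node (BT.node BT.leaf 8990901 BT.leaf) 8994861 BT.leaf))))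

/-- subtree -/
def T_184 : BT := (BT.node (BT.node (BT.node (BT.node (BT.node BT.leaf 9000693 BT.leaf) 9004773 (BT.node BT.leaf 9008011 BT.leaf)) 9009493 (BT.node (BT.node BT.leaf 9014949 BT.leaf) 9019191 BT.leaf)) 9019759 (BT.node (BT.node (BT.node BT.leaf 9024597 BT.leaf) 9029570 (BT.node BT.leaf 9032879 BT.leaf)) 9035925 (BT.node (BT.node BT.leaf 9036720 BT.leaf) 9040262 BT.leaf))) 9046574 (BT.node (BT.node (BT.node (BT.node BT.leaf 9049612 BT.leaf) 9050854 (BT.node BT.leaf 9054408 BT.leaf)) 9057942 (BT.node (BT.node BT.leaf 9061971 BT.leaf) 9065016 BT.leaf)) 9068644 (BT.node (BT.node (BT.node BT.leaf 9072066 BT.leaf) 9076044 BT.leaf) 9079651 (BT.node (BT.node BT.leaf 9084277 BT.leaf) 9086723 BT.leaf))))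

/-- subtree -/
def T_185 : BT := BT.node T_183 8995952 T_184

/-- subtree -/
def T_186 : BT := BT.node T_182 8902128 T_185

/-- subtree -/
def T_187 : BT := BT.node T_179 8714459 T_186

/-- subtree -/
def T_188 : BT := BT.node T_172 8333984 T_187

/-- subtree -/
def T_189 : BT := BT.node T_157 7577747 T_188

/-- subtree -/
def T_190 : BT := (BT.node (BT.node (BT.node (BT.node (BT.node BT.leaf 9094975 BT.leaf) 9096875 (BT.node BT.leaf 9099998 BT.leaf)) 9104748 (BT.node (BT.node BT.leaf 9107027 BT.leaf) 9112565 BT.leaf)) 9114099 (BT.node (BT.node (BT.node BT.leaf 9118138 BT.leaf) 9121651 (BT.node BT.leaf 9125408 BT.leaf)) 9130137 (BT.node (BT.node BT.leaf 9132619 BT.leaf) 9135674 BT.leaf))) 9139393 (BT.node (BT.node (BT.node (BT.node BT.leaf 9142907 BT.leaf) 9147811 (BT.node BT.leaf 9149234 BT.leaf)) 9153151 (BT.node (BT.node BT.leaf 9158390 BT.leaf) 9161268 BT.leaf)) 9164357 (BT.node (BT.node (BT.node BT.leaf 9168910 BT.leaf) 9172078 (BT.node BT.leaf 9173249 BT.leaf)) 9178045 (BT.node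 (BT.node BT.leaf 9181855 BT.leaf) 9183070 BT.leaf))))

/-- subtree -/
def T_191 : BT := (BT.node (BT.node (BT.node (BT.node (BT.node BT.leaf 9190791 BT.leaf) 9196591 (BT.node BT.leaf 9198910 BT.leaf)) 9201537 (BT.node (BT.node BT.leaf 9206631 BT.leaf) 9207408 BT.leaf)) 9212265 (BT.node (BT.node (BT.node BT.leaf 9217349 BT.leaf) 9219986 (BT.node BT.leaf 9224193 BT.leaf)) 9226517 (BT.node (BT.node BT.leaf 9230811 BT.leaf) 9233674 BT.leaf))) 9238471 (BT.node (BT.node (BT.node (BT.node BT.leaf 9240772 BT.leaf) 9242100 (BT.node BT.leaf 9246752 BT.leaf)) 9250357 (BT.node (BT.node BT.leaf 9252925 BT.leaf) 9257227 BT.leaf)) 9261008 (BT.node (BT.node (BT.node BT.leaf 9263309 BT.leaf) 9266613 BT.leaf) 9270377 (BT.node (BT.node BT.leaf 9274337 BT.leaf) 9280272 BT.leaf))))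

/-- subtree -/
def T_192 : BT := BT.node T_190 9188929 T_191

/-- subtree -/
def T_193 : BT := (BT.node (BT.node (BT.node (BT.node (BT.node BT.leaf 9286348 BT.leaf) 9289657 (BT.node BT.leaf 9293079 BT.leaf)) 9295749 (BT.node (BT.node BT.leaf 9298291 BT.leaf) 9304314 BT.leaf)) 9306143 (BT.node (BT.node (BT.node BT.leaf 9310409 BT.leaf) 9311770 (BT.node BT.leaf 9315401 BT.leaf)) 9318797 (BT.node (BT.node BT.leaf 9325589 BT.leaf) 9326675 BT.leaf))) 9329969 (BT.node (BT.node (BT.node (BT.node BT.leaf 9332870 BT.leaf) 9338446 (BT.node BT.leaf 9341200 BT.leaf)) 9344922 (BT.node (BT.node BT.leaf 9349654 BT.leaf) 9351801 BT.leaf)) 9355188 (BT.node (BT.node (BT.node BT.leaf 9358888 BT.leaf) 9362958 BT.leaf) 9366013 (BT.node (BT.node BT.leaf 9370630 BT.leaf) 9372005 BT.leaf))))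

/-- subtree -/
def T_194 : BT := (BT.node (BT.node (BT.node (BT.node (BT.node BT.leaf 9378629 BT.leaf) 9382932 (BT.node BT.leaf 9387235 BT.leaf)) 9389008 (BT.node (BT.node BT.leaf 9393756 BT.leaf) 9397837 BT.leaf)) 9399387 (BT.node (BT.node (BT.node BT.leaf 9404909 BT.leaf) 9408440 (BT.node BT.leaf 9411994 BT.leaf)) 9415566 (BT.node (BT.node BT.leaf 9419128 BT.leaf) 9422550 BT.leaf))) 9424084 (BT.node (BT.node (BT.node (BT.node BT.leaf 9428360 BT.leaf) 9433216 (BT.node BT.leaf 9435648 BT.leaf)) 9440334 (BT.node (BT.node BT.leaf 9441106 BT.leaf) 9445359 BT.leaf)) 9447480 (BT.node (BT.node (BT.node BT.leaf 9453170 BT.leaf) 9456784 BT.leaf) 9458091 (BT.node (BT.node BT.leaf 9464568 BT.leaf) 9467667 BT.leaf))))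

/-- subtree -/
def T_195 : BT := BT.node T_193 9375207 T_194

/-- subtree -/
def T_196 : BT := BT.node T_192 9283039 T_195

/-- subtree -/
def T_197 : BT := (BT.node (BT.node (BT.node (BT.node (BT.node BT.leaf 9473938 BT.leaf) 9475776 (BT.node BT.leaf 9479307 BT.leaf)) 9483064 (BT.node (BT.node BT.leaf 9488419 BT.leaf) 9491841 BT.leaf)) 9493330 (BT.node (BT.node (BT.node BT.leaf 9497007 BT.leaf) 9502210 (BT.node BT.leaf 9504075 BT.leaf)) 9507668 (BT.node (BT.node BT.leaf 9511204 BT.leaf) 9515667 BT.leaf))) 9518424 (BT.node (BT.node (BT.node (BT.node BT.leaf 9523919 BT.leaf) 9525634 (BT.node BT.leaf 9528690 BT.leaf)) 9532406 (BT.node (BT.node BT.leaf 9536242 BT.leaf) 9539493 BT.leaf)) 9542744 (BT.node (BT.node (BT.node BT.leaf 9547205 BT.leaf) 9551295 (BT.node BT.leaf 9553352 BT.leaf)) 9557225 (BT.node (BT.node BT.leaf 9561829 BT.leaf) 9564268 BT.leaf))))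

/-- subtree -/
def T_198 : BT := (BT.node (BT.node (BT.node (BT.node (BT.node BT.leaf 9570419 BT.leaf) 9573176 (BT.node BT.leaf 9578253 BT.leaf)) 9579784 (BT.node (BT.node BT.leaf 9584847 BT.leaf) 9586820 BT.leaf)) 9593177 (BT.node (BT.node (BT.node BT.leaf 9596953 BT.leaf) 9598026 (BT.node BT.leaf 9601345 BT.leaf)) 9604767 (BT.node (BT.node BT.leaf 9607924 BT.leaf) 9611391 BT.leaf))) 9617778 (BT.node (BT.node (BT.node (BT.node BT.leaf 9619735 BT.leaf) 9623425 (BT.node BT.leaf 9627397 BT.leaf)) 9631546 (BT.node (BT.node BT.leaf 9635059 BT.leaf) 9635668 BT.leaf)) 9641732 (BT.node (BT.node (BT.node BT.leaf 9644861 BT.leaf) 9647111 BT.leaf) 9652798 (BT.node (BT.node BT.leaf 9652860 BT.leaf) 9659108 BT.leaf))))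

/-- subtree -/
def T_199 : BT := BT.node T_197 9567987 T_198

/-- subtree -/
def T_200 : BT := (BT.node (BT.node (BT.node (BT.node (BT.node BT.leaf 9663461 BT.leaf) 9666975 (BT.node BT.leaf 9671056 BT.leaf)) 9674360 (BT.node (BT.node BT.leaf 9678903 BT.leaf) 9681833 BT.leaf)) 9686506 (BT.node (BT.node (BT.node BT.leaf 9689169 BT.leaf) 9691470 (BT.node BT.leaf 9697062 BT.leaf)) 9701365 (BT.node (BT.node BT.leaf 9701854 BT.leaf) 9705951 BT.leaf))) 9711206 (BT.node (BT.node (BT.node (BT.node BT.leaf 9713882 BT.leaf) 9718690 (BT.node BT.leaf 9719475 BT.leaf)) 9725191 (BT.node (BT.node BT.leaf 9727196 BT.leaf) 9730705 BT.leaf)) 9736015 (BT.node (BT.node (BT.node BT.leaf 9737786 BT.leaf) 9741548 BT.leaf) 9743921 (BT.node (BT.node BT.leaf 9746954 BT.leaf) 9751814 BT.leaf))))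

/-- subtree -/
def T_201 : BT := (BT.node (BT.node (BT.node (BT.node (BT.node BT.leaf 9759029 BT.leaf) 9762565 (BT.node BT.leaf 9765212 BT.leaf)) 9770020 (BT.node (BT.node BT.leaf 9773718 BT.leaf) 9776735 BT.leaf)) 9780745 (BT.node (BT.node (BT.node BT.leaf 9784655 BT.leaf) 9788407 (BT.node BT.leaf 9790552 BT.leaf)) 9792588 (BT.node (BT.node BT.leaf 9796300 BT.leaf) 9801503 BT.leaf))) 9804516 (BT.node (BT.node (BT.node (BT.node BT.leaf 9808121 BT.leaf) 9810444 (BT.node BT.leaf 9814163 BT.leaf)) 9816520 (BT.node (BT.node BT.leaf 9822758 BT.leaf) 9826300 BT.leaf)) 9830245 (BT.node (BT.node (BT.node BT.leaf 9832563 BT.leaf) 9836902 BT.leaf) 9838675 (BT.node (BT.node BT.leaf 9841882 BT.leaf) 9845089 BT.leaf))))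

/-- subtree -/
def T_202 : BT := BT.node T_200 9754187 T_201

/-- subtree -/
def T_203 : BT := BT.node T_199 9661404 T_202

/-- subtree -/
def T_204 : BT := BT.node T_196 9471044 T_203

/-- subtree -/
def T_205 : BT := (BT.node (BT.node (BT.node (BT.node (BT.node BT.leaf 9854199 BT.leaf) 9858183 (BT.node BT.leaf 9858240 BT.leaf)) 9863658 (BT.node (BT.node BT.leaf 9866994 BT.leaf) 9870947 BT.leaf)) 9872388 (BT.node (BT.node (BT.node BT.leaf 9878019 BT.leaf) 9880144 (BT.node BT.leaf 9883523 BT.leaf)) 9888206 (BT.node (BT.node BT.leaf 9890071 BT.leaf) 9896044 BT.leaf))) 9897254 (BT.node (BT.node (BT.node (BT.node BT.leaf 9901450 BT.leaf) 9904098 (BT.node BT.leaf 9908058 BT.leaf)) 9912483 (BT.node (BT.node BT.leaf 9914321 BT.leaf) 9918769 BT.leaf)) 9921208 (BT.node (BT.node (BT.node BT.leaf 9925168 BT.leaf) 9930571 (BT.node BT.leaf 9933993 BT.leaf)) 9936079 (BT.node (BT.node BT.leaf 9939301 BT.leaf) 9943281 BT.leaf))))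

/-- subtree -/
def T_206 : BT := (BT.node (BT.node (BT.node (BT.node (BT.node BT.leaf 9950125 BT.leaf) 9954689 (BT.node BT.leaf 9957335 BT.leaf)) 9961062 (BT.node (BT.node BT.leaf 9964403 BT.leaf) 9966232 BT.leaf)) 9971328 (BT.node (BT.node (BT.node BT.leaf 9973162 BT.leaf) 9978557 (BT.node BT.leaf 9980923 BT.leaf)) 9984022 (BT.node (BT.node BT.leaf 9989202 BT.leaf) 9993539 BT.leaf))) 9994139 (BT.node (BT.node (BT.node (BT.node BT.leaf 9999802 BT.leaf) 10001211 (BT.node BT.leaf 10006019 BT.leaf)) 10010463 (BT.node (BT.node BT.leaf 10013970 BT.leaf) 10016121 BT.leaf)) 10019543 (BT.node (BT.node (BT.node BT.leaf 10024578 BT.leaf) 10028538 BT.leaf) 10031754 (BT.node (BT.node BT.leaf 10035176 BT.leaf) 10036346 BT.leaf))))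

/-- subtree -/
def T_207 : BT := BT.node T_205 9945936 T_206

/-- subtree -/
def T_208 : BT := (BT.node (BT.node (BT.node (BT.node (BT.node BT.leaf 10045823 BT.leaf) 10049479 (BT.node BT.leaf 10052492 BT.leaf)) 10056323 (BT.node (BT.node BT.leaf 10060026 BT.leaf) 10063537 BT.leaf)) 10063620 (BT.node (BT.node (BT.node BT.leaf 10069221 BT.leaf) 10072195 (BT.node BT.leaf 10077434 BT.leaf)) 10077768 (BT.node (BT.node BT.leaf 10082107 BT.leaf) 10087184 BT.leaf))) 10089377 (BT.node (BT.node (BT.node (BT.node BT.leaf 10093401 BT.leaf) 10095453 (BT.node BT.leaf 10100986 BT.leaf)) 10104408 (BT.node (BT.node BT.leaf 10106946 BT.leaf) 10110093 BT.leaf)) 10115324 (BT.node (BT.node (BT.node BT.leaf 10118498 BT.leaf) 10120221 BT.leaf) 10124574 (BT.node (BT.node BT.leaf 10127533 BT.leaf) 10130015 BT.leaf))))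

/-- subtree -/
def T_209 : BT := (BT.node (BT.node (BT.node (BT.node (BT.node BT.leaf 10137469 BT.leaf) 10141221 (BT.node BT.leaf 10145032 BT.leaf)) 10147551 (BT.node (BT.node BT.leaf 10152104 BT.leaf) 10156960 BT.leaf)) 10158276 (BT.node (BT.node (BT.node BT.leaf 10161167 BT.leaf) 10167716 (BT.node BT.leaf 10169060 BT.leaf)) 10173363 (BT.node (BT.node BT.leaf 10176894 BT.leaf) 10178951 BT.leaf))) 10185180 (BT.node (BT.node (BT.node (BT.node BT.leaf 10187499 BT.leaf) 10188991 (BT.node BT.leaf 10195518 BT.leaf)) 10198101 (BT.node (BT.node BT.leaf 10201669 BT.leaf) 10205182 BT.leaf)) 10209390 (BT.node (BT.node (BT.node BT.leaf 10212263 BT.leaf) 10213912 BT.leaf) 10217334 (BT.node (BT.node BT.leaf 10221158 BT.leaf) 10224064 BT.leaf))))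

/-- subtree -/
def T_210 : BT := BT.node T_208 10134372 T_209

/-- subtree -/
def T_211 : BT := BT.node T_207 10041447 T_210

/-- subtree -/
def T_212 : BT := (BT.node (BT.node (BT.node (BT.node (BT.node BT.leaf 10232244 BT.leaf) 10237134 (BT.node BT.leaf 10240556 BT.leaf)) 10241938 (BT.node (BT.node BT.leaf 10247032 BT.leaf) 10250270 BT.leaf)) 10253266 (BT.node (BT.node (BT.node BT.leaf 10257042 BT.leaf) 10261946 (BT.node BT.leaf 10262222 BT.leaf)) 10268790 (BT.node (BT.node BT.leaf 10269000 BT.leaf) 10272537 BT.leaf))) 10276067 (BT.node (BT.node (BT.node (BT.node BT.leaf 10279601 BT.leaf) 10284127 (BT.node BT.leaf 10287273 BT.leaf)) 10291600 (BT.node (BT.node BT.leaf 10294506 BT.leaf) 10298479 BT.leaf)) 10301237 (BT.node (BT.node (BT.node BT.leaf 10306366 BT.leaf) 10309788 BT.leaf) 10311845 (BT.node (BT.node BT.leaf 10317357 BT.leaf) 10318518 BT.leaf))))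

/-- subtree -/
def T_213 : BT := (BT.node (BT.node (BT.node (BT.node (BT.node BT.leaf 10325191 BT.leaf) 10329151 (BT.node BT.leaf 10332724 BT.leaf)) 10335799 (BT.node (BT.node BT.leaf 10338992 BT.leaf) 10342301 BT.leaf)) 10346865 (BT.node (BT.node (BT.node BT.leaf 10351028 BT.leaf) 10355860 (BT.node BT.leaf 10357872 BT.leaf)) 10361048 (BT.node (BT.node BT.leaf 10364899 BT.leaf) 10366919 BT.leaf))) 10370306 (BT.node (BT.node (BT.node (BT.node BT.leaf 10376392 BT.leaf) 10378953 (BT.node BT.leaf 10381826 BT.leaf)) 10385431 (BT.node (BT.node BT.leaf 10388670 BT.leaf) 10392641 BT.leaf)) 10396394 (BT.node (BT.node (BT.node BT.leaf 10400647 BT.leaf) 10403479 BT.leaf) 10407061 (BT.node (BT.node BT.leaf 10411031 BT.leaf) 10414136 BT.leaf))))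

/-- subtree -/
def T_214 : BT := BT.node T_212 10321493 T_213

/-- subtree -/
def T_215 : BT := (BT.node (BT.node (BT.node (BT.node (BT.node BT.leaf 10419292 BT.leaf) 10422714 (BT.node BT.leaf 10428561 BT.leaf)) 10431799 (BT.node (BT.node BT.leaf 10435842 BT.leaf) 10438407 BT.leaf)) 10441711 (BT.node (BT.node (BT.node BT.leaf 10445671 BT.leaf) 10448254 (BT.node BT.leaf 10453042 BT.leaf)) 10454237 (BT.node (BT.node BT.leaf 10460239 BT.leaf) 10463218 BT.leaf))) 10467083 (BT.node (BT.node (BT.node (BT.node BT.leaf 10468786 BT.leaf) 10473335 (BT.node BT.leaf 10474380 BT.leaf)) 10477877 (BT.node (BT.node BT.leaf 10481467 BT.leaf) 10485332 BT.leaf)) 10489854 (BT.node (BT.node (BT.node BT.leaf 10493764 BT.leaf) 10495670 BT.leaf) 10499092 (BT.node (BT.node BT.leaf 10504969 BT.leaf) 10505864 BT.leaf))))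

/-- subtree -/
def T_216 : BT := (BT.node (BT.node (BT.node (BT.node (BT.node BT.leaf 10514616 BT.leaf) 10518247 (BT.node BT.leaf 10520367 BT.leaf)) 10523898 (BT.node (BT.node BT.leaf 10527435 BT.leaf) 10531017 BT.leaf)) 10536374 (BT.node (BT.node (BT.node BT.leaf 10538250 BT.leaf) 10541642 (BT.node BT.leaf 10545179 BT.leaf)) 10548516 (BT.node (BT.node BT.leaf 10552467 BT.leaf) 10556111 BT.leaf))) 10560797 (BT.node (BT.node (BT.node (BT.node BT.leaf 10564456 BT.leaf) 10566155 (BT.node BT.leaf 10568560 BT.leaf)) 10573495 (BT.node (BT.node BT.leaf 10576643 BT.leaf) 10581737 BT.leaf)) 10584701 (BT.node (BT.node (BT.node BT.leaf 10587665 BT.leaf) 10589900 BT.leaf) 10593002 (BT.node (BT.node BT.leaf 10599417 BT.leaf) 10600375 BT.leaf))))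

/-- subtree -/
def T_217 : BT := BT.node T_215 10509774 T_216

/-- subtree -/
def T_218 : BT := BT.node T_214 10418583 T_217

/-- subtree -/
def T_219 : BT := BT.node T_211 10229977 T_218

/-- subtree -/
def T_220 : BT := BT.node T_204 9850003 T_219

/-- subtree -/
def T_221 : BT := (BT.node (BT.node (BT.node (BT.node (BT.node BT.leaf 10609786 BT.leaf) 10612692 (BT.node BT.leaf 10616625 BT.leaf)) 10618921 (BT.node (BT.node BT.leaf 10623030 BT.leaf) 10626603 BT.leaf)) 10629802 (BT.node (BT.node (BT.node BT.leaf 10634345 BT.leaf) 10636646 (BT.node BT.leaf 10638427 BT.leaf)) 10642456 (BT.node (BT.node BT.leaf 10646347 BT.leaf) 10650177 BT.leaf))) 10654267 (BT.node (BT.node (BT.node (BT.node BT.leaf 10656850 BT.leaf) 10661116 (BT.node BT.leaf 10665497 BT.leaf)) 10667857 (BT.node (BT.node BT.leaf 10672706 BT.leaf) 10675409 BT.leaf)) 10679550 (BT.node (BT.node (BT.node BT.leaf 10679760 BT.leaf) 10683859 (BT.node BT.leaf 10689064 BT.leaf)) 10690335 (BT.node (BT.node BT.leaf 10693869 BT.leaf)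 10700557 BT.leaf))))

/-- subtree -/
def T_222 : BT := (BT.node (BT.node (BT.node (BT.node (BT.node BT.leaf 10705220 BT.leaf) 10709596 (BT.node BT.leaf 10711752 BT.leaf)) 10716306 (BT.node (BT.node BT.leaf 10718079 BT.leaf) 10722018 BT.leaf)) 10726856 (BT.node (BT.node (BT.node BT.leaf 10729310 BT.leaf) 10735248 (BT.node BT.leaf 10738015 BT.leaf)) 10741900 (BT.node (BT.node BT.leaf 10745736 BT.leaf) 10746284 BT.leaf))) 10751887 (BT.node (BT.node (BT.node (BT.node BT.leaf 10753214 BT.leaf) 10757599 (BT.node BT.leaf 10761135 BT.leaf)) 10764707 (BT.node (BT.node BT.leaf 10769985 BT.leaf) 10772463 BT.leaf)) 10775318 (BT.node (BT.node (BT.node BT.leaf 10778877 BT.leaf) 10783130 BT.leaf) 10784746 (BT.node (BT.node BT.leaf 10789573 BT.leaf) 10791874 BT.leaf))))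

/-- subtree -/
def T_223 : BT := BT.node T_221 10701884 T_222

/-- subtree -/
def T_224 : BT := (BT.node (BT.node (BT.node (BT.node (BT.node BT.leaf 10798568 BT.leaf) 10804630 (BT.node BT.leaf 10807939 BT.leaf)) 10810985 (BT.node (BT.node BT.leaf 10813527 BT.leaf) 10818315 BT.leaf)) 10819100 (BT.node (BT.node (BT.node BT.leaf 10824194 BT.leaf) 10828095 (BT.node BT.leaf 10830593 BT.leaf)) 10833831 (BT.node (BT.node BT.leaf 10839011 BT.leaf) 10842584 BT.leaf))) 10846117 (BT.node (BT.node (BT.node (BT.node BT.leaf 10849113 BT.leaf) 10852425 (BT.node BT.leaf 10856728 BT.leaf)) 10858248 (BT.node (BT.node BT.leaf 10862804 BT.leaf) 10867360 BT.leaf)) 10870923 (BT.node (BT.node (BT.node BT.leaf 10872645 BT.leaf) 10875550 BT.leaf) 10879194 (BT.node (BT.node BT.leaf 10881923 BT.leaf) 10885140 BT.leaf))))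

/-- subtree -/
def T_225 : BT := (BT.node (BT.node (BT.node (BT.node (BT.node BT.leaf 10892168 BT.leaf) 10897601 (BT.node BT.leaf 10901367 BT.leaf)) 10903265 (BT.node (BT.node BT.leaf 10908952 BT.leaf) 10911348 BT.leaf)) 10916024 (BT.node (BT.node (BT.node BT.leaf 10918055 BT.leaf) 10921276 (BT.node BT.leaf 10924033 BT.leaf)) 10927603 (BT.node (BT.node BT.leaf 10930641 BT.leaf) 10936328 BT.leaf))) 10938195 (BT.node (BT.node (BT.node (BT.node BT.leaf 10943027 BT.leaf) 10947280 (BT.node BT.leaf 10949053 BT.leaf)) 10952884 (BT.node (BT.node BT.leaf 10956715 BT.leaf) 10959432 BT.leaf)) 10962741 (BT.node (BT.node (BT.node BT.leaf 10965762 BT.leaf) 10970089 BT.leaf) 10975573 (BT.node (BT.node BT.leaf 10977161 BT.leaf) 10979651 BT.leaf))))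

/-- subtree -/
def T_226 : BT := BT.node T_224 10891123 T_225

/-- subtree -/
def T_227 : BT := BT.node T_223 10796417 T_226

/-- subtree -/
def T_228 : BT := (BT.node (BT.node (BT.node (BT.node (BT.node BT.leaf 10987772 BT.leaf) 10992694 (BT.node BT.leaf 10994841 BT.leaf)) 10996898 (BT.node (BT.node BT.leaf 11002562 BT.leaf) 11004623 BT.leaf)) 11007105 (BT.node (BT.node (BT.node BT.leaf 11013793 BT.leaf) 11016086 (BT.node BT.leaf 11018311 BT.leaf)) 11021137 (BT.node (BT.node BT.leaf 11026738 BT.leaf) 11031118 BT.leaf))) 11032144 (BT.node (BT.node (BT.node (BT.node BT.leaf 11034847 BT.leaf) 11040204 (BT.node BT.leaf 11044393 BT.leaf)) 11048150 (BT.node (BT.node BT.leaf 11051478 BT.leaf) 11055438 BT.leaf)) 11058416 (BT.node (BT.node (BT.node BT.leaf 11059520 BT.leaf) 11063628 (BT.node BT.leaf 11066592 BT.leaf)) 11071400 (BT.node (BT.node BT.leaf 11076290 BT.leaf) 11079392 BT.leaf))))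

/-- subtree -/
def T_229 : BT := (BT.node (BT.node (BT.node (BT.node (BT.node BT.leaf 11085655 BT.leaf) 11088499 (BT.node BT.leaf 11090520 BT.leaf)) 11094778 (BT.node (BT.node BT.leaf 11097594 BT.leaf) 11102302 BT.leaf)) 11107151 (BT.node (BT.node (BT.node BT.leaf 11109203 BT.leaf) 11113894 (BT.node BT.leaf 11118083 BT.leaf)) 11118791 (BT.node (BT.node BT.leaf 11122447 BT.leaf) 11125896 BT.leaf))) 11129291 (BT.node (BT.node (BT.node (BT.node BT.leaf 11134226 BT.leaf) 11137190 (BT.node BT.leaf 11139264 BT.leaf)) 11144951 (BT.node (BT.node BT.leaf 11147157 BT.leaf) 11153011 BT.leaf)) 11154946 (BT.node (BT.node (BT.node BT.leaf 11157731 BT.leaf) 11161301 BT.leaf) 11164812 (BT.node (BT.node BT.leaf 11167377 BT.leaf) 11170742 BT.leaf))))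

/-- subtree -/
def T_230 : BT := BT.node T_228 11082448 T_229

/-- subtree -/
def T_231 : BT := (BT.node (BT.node (BT.node (BT.node (BT.node BT.leaf 11180699 BT.leaf) 11183937 (BT.node BT.leaf 11187054 BT.leaf)) 11189683 (BT.node (BT.node BT.leaf 11193105 BT.leaf) 11196010 BT.leaf)) 11201857 (BT.node (BT.node (BT.node BT.leaf 11204164 BT.leaf) 11206088 (BT.node BT.leaf 11210837 BT.leaf)) 11215344 (BT.node (BT.node BT.leaf 11218157 BT.leaf) 11222389 BT.leaf))) 11223657 (BT.node (BT.node (BT.node (BT.node BT.leaf 11228118 BT.leaf) 11231845 (BT.node BT.leaf 11235656 BT.leaf)) 11239192 (BT.node (BT.node BT.leaf 11240508 BT.leaf) 11245228 BT.leaf)) 11249792 (BT.node (BT.node (BT.node BT.leaf 11250875 BT.leaf) 11256860 BT.leaf) 11260899 (BT.node (BT.node BT.leaf 11263945 BT.leaf) 11266065 BT.leaf))))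

/-- subtree -/
def T_232 : BT := (BT.node (BT.node (BT.node (BT.node (BT.node BT.leaf 11273719 BT.leaf) 11278099 (BT.node BT.leaf 11279937 BT.leaf)) 11282339 (BT.node (BT.node BT.leaf 11288275 BT.leaf) 11289891 BT.leaf)) 11294251 (BT.node (BT.node (BT.node BT.leaf 11295900 BT.leaf) 11299414 (BT.node BT.leaf 11305348 BT.leaf)) 11308256 (BT.node (BT.node BT.leaf 11312935 BT.leaf) 11313597 BT.leaf))) 11317804 (BT.node (BT.node (BT.node (BT.node BT.leaf 11320659 BT.leaf) 11324189 (BT.node BT.leaf 11329546 BT.leaf)) 11331270 (BT.node (BT.node BT.leaf 11334914 BT.leaf) 11340849 BT.leaf)) 11341758 (BT.node (BT.node (BT.node BT.leaf 11345428 BT.leaf) 11349549 BT.leaf) 11352513 (BT.node (BT.node BT.leaf 11356922 BT.leaf) 11358868 BT.leaf))))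

/-- subtree -/
def T_233 : BT := BT.node T_231 11270096 T_232

/-- subtree -/
def T_234 : BT := BT.node T_230 11174832 T_233

/-- subtree -/
def T_235 : BT := BT.node T_227 10983682 T_234

/-- subtree -/
def T_236 : BT := (BT.node (BT.node (BT.node (BT.node (BT.node BT.leaf 11368763 BT.leaf) 11370225 (BT.node BT.leaf 11375322 BT.leaf)) 11378744 (BT.node (BT.node BT.leaf 11381649 BT.leaf) 11383769 BT.leaf)) 11388846 (BT.node (BT.node (BT.node BT.leaf 11391429 BT.leaf) 11395063 (BT.node BT.leaf 11398485 BT.leaf)) 11402049 (BT.node (BT.node BT.leaf 11405806 BT.leaf) 11408252 BT.leaf))) 11410916 (BT.node (BT.node (BT.node (BT.node BT.leaf 11416072 BT.leaf) 11420448 (BT.node BT.leaf 11423294 BT.leaf)) 11426828 (BT.node (BT.node BT.leaf 11429557 BT.leaf) 11433961 BT.leaf)) 11435628 (BT.node (BT.node (BT.node BT.leaf 11441166 BT.leaf) 11443598 (BT.node BT.leaf 11445650 BT.leaf)) 11451432 (BT.node (BT.node BT.leaf 11455461 BT.leaf) 11458090 BT.leaf))))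

/-- subtree -/
def T_237 : BT := (BT.node (BT.node (BT.node (BT.node (BT.node BT.leaf 11464294 BT.leaf) 11467716 (BT.node BT.leaf 11472571 BT.leaf)) 11476412 (BT.node (BT.node BT.leaf 11480283 BT.leaf) 11480613 BT.leaf)) 11484573 (BT.node (BT.node (BT.node BT.leaf 11488533 BT.leaf) 11491928 (BT.node BT.leaf 11497039 BT.leaf)) 11500815 (BT.node (BT.node BT.leaf 11501280 BT.leaf) 11504794 BT.leaf))) 11511134 (BT.node (BT.node (BT.node (BT.node BT.leaf 11513186 BT.leaf) 11516722 (BT.node BT.leaf 11521059 BT.leaf)) 11522482 (BT.node (BT.node BT.leaf 11526874 BT.leaf) 11530194 BT.leaf)) 11533207 (BT.node (BT.node (BT.node BT.leaf 11537038 BT.leaf) 11540051 BT.leaf) 11543725 (BT.node (BT.node BT.leaf 11547261 BT.leaf) 11552262 BT.leaf))))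

/-- subtree -/
def T_238 : BT := BT.node T_236 11462819 T_237

/-- subtree -/
def T_239 : BT := (BT.node (BT.node (BT.node (BT.node (BT.node BT.leaf 11558870 BT.leaf) 11560992 (BT.node BT.leaf 11567347 BT.leaf)) 11567836 (BT.node (BT.node BT.leaf 11572079 BT.leaf) 11574782 BT.leaf)) 11580523 (BT.node (BT.node (BT.node BT.leaf 11584496 BT.leaf) 11588140 (BT.node BT.leaf 11588470 BT.leaf)) 11592006 (BT.node (BT.node BT.leaf 11596855 BT.leaf) 11601645 BT.leaf))) 11604700 (BT.node (BT.node (BT.node (BT.node BT.leaf 11608672 BT.leaf) 11611911 (BT.node BT.leaf 11614743 BT.leaf)) 11617044 (BT.node (BT.node BT.leaf 11622138 BT.leaf) 11625127 BT.leaf)) 11628431 (BT.node (BT.node (BT.node BT.leaf 11632208 BT.leaf) 11636780 BT.leaf) 11637812 (BT.node (BT.node BT.leaf 11642856 BT.leaf) 11644251 BT.leaf))))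

/-- subtree -/
def T_240 : BT := (BT.node (BT.node (BT.node (BT.node (BT.node BT.leaf 11652936 BT.leaf) 11657026 (BT.node BT.leaf 11660531 BT.leaf)) 11662651 (BT.node (BT.node BT.leaf 11666663 BT.leaf) 11671183 BT.leaf)) 11671968 (BT.node (BT.node (BT.node BT.leaf 11676929 BT.leaf) 11680534 (BT.node BT.leaf 11685307 BT.leaf)) 11688879 (BT.node (BT.node BT.leaf 11690578 BT.leaf) 11694954 BT.leaf))) 11697070 (BT.node (BT.node (BT.node (BT.node BT.leaf 11701066 BT.leaf) 11704227 (BT.node BT.leaf 11706660 BT.leaf)) 11713095 (BT.node (BT.node BT.leaf 11716918 BT.leaf) 11717612 BT.leaf)) 11720775 (BT.node (BT.node (BT.node BT.leaf 11724345 BT.leaf) 11729105 BT.leaf) 11731424 (BT.node (BT.node BT.leaf 11734937 BT.leaf) 11738144 BT.leaf))))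

/-- subtree -/
def T_241 : BT := BT.node T_239 11649186 T_240

/-- subtree -/
def T_242 : BT := BT.node T_238 11556768 T_241

/-- subtree -/
def T_243 : BT := (BT.node (BT.node (BT.node (BT.node (BT.node BT.leaf 11748082 BT.leaf) 11749505 (BT.node BT.leaf 11753133 BT.leaf)) 11757982 (BT.node (BT.node BT.leaf 11759705 BT.leaf) 11764547 BT.leaf)) 11768457 (BT.node (BT.node (BT.node BT.leaf 11770357 BT.leaf) 11773459 (BT.node BT.leaf 11778235 BT.leaf)) 11780509 (BT.node (BT.node BT.leaf 11786137 BT.leaf) 11789466 BT.leaf))) 11792568 (BT.node (BT.node (BT.node (BT.node BT.leaf 11796736 BT.leaf) 11798822 (BT.node BT.leaf 11800967 BT.leaf)) 11806385 (BT.node (BT.node BT.leaf 11809088 BT.leaf) 11812847 BT.leaf)) 11817268 (BT.node (BT.node (BT.node BT.leaf 11819909 BT.leaf) 11823440 BT.leaf) 11826143 (BT.node (BT.node BT.leaf 11830597 BT.leaf) 11834019 BT.leaf))))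

/-- subtree -/
def T_244 : BT := (BT.node (BT.node (BT.node (BT.node (BT.node BT.leaf 11839831 BT.leaf) 11844027 (BT.node BT.leaf 11848223 BT.leaf)) 11850742 (BT.node (BT.node BT.leaf 11854995 BT.leaf) 11858825 BT.leaf)) 11860642 (BT.node (BT.node (BT.node BT.leaf 11864273 BT.leaf) 11868598 (BT.node BT.leaf 11871594 BT.leaf)) 11876554 (BT.node (BT.node BT.leaf 11880091 BT.leaf) 11881953 BT.leaf))) 11884195 (BT.node (BT.node (BT.node (BT.node BT.leaf 11889130 BT.leaf) 11894520 (BT.node BT.leaf 11895228 BT.leaf)) 11901346 (BT.node (BT.node BT.leaf 11901706 BT.leaf) 11905666 BT.leaf)) 11911630 (BT.node (BT.node (BT.node BT.leaf 11912040 BT.leaf) 11917169 BT.leaf) 11919068 (BT.node (BT.node BT.leaf 11925003 BT.leaf) 11926149 BT.leaf))))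

/-- subtree -/
def T_245 : BT := BT.node T_243 11837885 T_244

/-- subtree -/
def T_246 : BT := (BT.node (BT.node (BT.node (BT.node (BT.node BT.leaf 11935203 BT.leaf) 11937701 (BT.node BT.leaf 11940954 BT.leaf)) 11943859 (BT.node (BT.node BT.leaf 11947798 BT.leaf) 11951749 BT.leaf)) 11956705 (BT.node (BT.node (BT.node BT.leaf 11959832 BT.leaf) 11963643 (BT.node BT.leaf 11965104 BT.leaf)) 11968635 (BT.node (BT.node BT.leaf 11971752 BT.leaf) 11977460 BT.leaf))) 11978596 (BT.node (BT.node (BT.node (BT.node BT.leaf 11982792 BT.leaf) 11987948 (BT.node BT.leaf 11989031 BT.leaf)) 11994720 (BT.node (BT.node BT.leaf 11996987 BT.leaf) 11999657 BT.leaf)) 12004986 (BT.node (BT.node (BT.node BT.leaf 12008035 BT.leaf) 12009563 BT.leaf) 12016236 (BT.node (BT.node BT.leaf 12019658 BT.leaf) 12021946 BT.leaf))))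

/-- subtree -/
def T_247 : BT := (BT.node (BT.node (BT.node (BT.node (BT.node BT.leaf 12028852 BT.leaf) 12032212 (BT.node BT.leaf 12035411 BT.leaf)) 12039677 (BT.node (BT.node BT.leaf 12042963 BT.leaf) 12047339 BT.leaf)) 12048129 (BT.node (BT.node (BT.node BT.leaf 12053365 BT.leaf) 12057873 (BT.node BT.leaf 12059738 BT.leaf)) 12061883 (BT.node (BT.node BT.leaf 12065914 BT.leaf) 12070004 BT.leaf))) 12074860 (BT.node (BT.node (BT.node (BT.node BT.leaf 12076698 BT.leaf) 12080342 (BT.node BT.leaf 12083413 BT.leaf)) 12086741 (BT.node (BT.node BT.leaf 12092523 BT.leaf) 12095247 BT.leaf)) 12098937 (BT.node (BT.node (BT.node BT.leaf 12103156 BT.leaf) 12105208 BT.leaf) 12108630 (BT.node (BT.node BT.leaf 12113813 BT.leaf) 12114203 BT.leaf))))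

/-- subtree -/
def T_248 : BT := BT.node T_246 12025283 T_247

/-- subtree -/
def T_249 : BT := BT.node T_245 11932837 T_248

/-- subtree -/
def T_250 : BT := BT.node T_242 11744832 T_249

/-- subtree -/
def T_251 : BT := BT.node T_235 11365314 T_250

/-- subtree -/
def T_252 : BT := BT.node T_220 10605848 T_251

/-- subtree -/
def T_253 : BT := BT.node T_189 9089347 T_252

/-- subtree -/
def T_254 : BT := BT.node T_126 6061274 T_253

/-- the tree -/
def T : BT := T_254

/-- subtree -/
def WT_0 : BT := (BT.node (BT.node (BT.node (BT.node (BT.node BT.leaf 21 BT.leaf) 2147483647 (BT.node BT.leaf 24769797950537727 BT.leaf)) 87 (BT.node (BT.node BT.leaf 1407 BT.leaf) 8388607 BT.leaf)) 5767167 (BT.node (BT.node (BT.node BT.leaf 8589934591 BT.leaf) 96757023244287 (BT.node BT.leaf 137438953471 BT.leaf)) 36028797018963967 (BT.node (BT.node BT.leaf 99079191802150911 BT.leaf) 131071 BT.leaf))) 562949953421311 (BT.node (BT.node (BT.node (BT.node BT.leaf 1585267068834414591 BT.leaf) 351 (BT.node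 BT.leaf 24189255811071 BT.leaf)) 32767 (BT.node (BT.node BT.leaf 6047313952767 BT.leaf) 5631 BT.leaf)) 22527 (BT.node (BT.node (BT.node BT.leaf 1476395007 BT.leaf) 35184372088831 (BT.node BT.leaf 33554431 BT.leaf)) 90111 (BT.node (BT.node BT.leaf 1548112371908607 BT.leaf) 377957122047 BT.leaf))))

/-- subtree -/
def WT_1 : BT := (BT.node (BT.node (BT.node (BT.node (BT.node BT.leaf 5905580031 BT.leaf) 536870911 (BT.node BT.leaf 2097151 BT.leaf)) 34359738367 (BT.node (BT.node BT.leaf 140737488355327 BT.leaf) 8191 BT.leaf)) 369098751 (BT.node (BT.node (BT.node BT.leaf 387028092977151 BT.leaf) 134217727 (BT.node BT.leaf 2047 BT.leaf)) 511 (BT.node (BT.node BT.leaf 549755813887 BT.leaf) 360447 BT.leaf))) 2199023255551 (BT.node (BT.node (BT.node (BT.node BT.leaf 31 BT.leaf) 144115188075855871 (BT.node BT.leaf 6192449487634431 BT.leaf)) 1441791 (BT.node (BT.node BT.leaf 9007199254740991 BT.leaf) 396316767208603647 BT.leaf)) 1511828488191 (BT.node (BT.node (BT.node BT.leaf 8796093022207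 BT.leaf) 94489280511 BT.leaf) 524287 (BT.node (BT.node BT.leaf 92274687 BT.leaf) 127 BT.leaf))))

/-- subtree -/
def WT_2 : BT := BT.node WT_0 23068671 WT_1

/-- subtree -/
def WT_3 : BT := (BT.node (BT.node (BT.node (BT.node (BT.node BT.leaf 2251799813685247 BT.leaf) 23622320127 (BT.node BT.leaf 1 BT.leaf)) 0 (BT.node (BT.node BT.leaf 377487359 BT.leaf) 441307889663 BT.leaf)) 11125791035697922047 (BT.node (BT.node (BT.node BT.leaf 1641 BT.leaf) 6767 (BT.node BT.leaf 118291547812513447935 BT.leaf)) 30438141031536918527 (BT.node (BT.node BT.leaf 11125749254256066559 BT.leaf) 1597516859820862341119 BT.leaf))) 440687132671 (BT.node (BT.node (BT.node (BT.node BT.leaf 116118735814655 BT.leaf) 90832895 (BT.node BT.leaf 10911743 BT.leaf)) 24323121351753727 (BT.node (BT.node BT.leaf 109965213695 BT.leaf) 731999866191871 BT.leaf)) 1903896742470877183 (BT.node (BT.node (BT.node BT.leaf 416902721105314185215 BT.leaf) 1387 BT.leaf) 24903357826986934271 (BT.node (BT.node BT.leaf 6460132190486265855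 BT.leaf) 2791938815 BT.leaf))))

/-- subtree -/
def WT_4 : BT := (BT.node (BT.node (BT.node (BT.node (BT.node BT.leaf 26056261739407736831 BT.leaf) 623 (BT.node BT.leaf 389114622449287167 BT.leaf)) 453562597375 (BT.node (BT.node BT.leaf 91759 BT.leaf) 154 BT.leaf)) 118289999700141539327 (BT.node (BT.node (BT.node BT.leaf 46137343 BT.leaf) 177146452514711797759 (BT.node BT.leaf 115967690404790271 BT.leaf)) 44286991360677904383 (BT.node (BT.node BT.leaf 6066694143 BT.leaf) 7431324214231039 BT.leaf))) 5662719 (BT.node (BT.node (BT.node (BT.node BT.leaf 42245298323455 BT.leaf) 7570568988008313257983 (BT.node BT.leaf 97280390779109375 BT.leaf)) 196607 (BT.node (BT.node BT.leaf 397587270074367 BT.leaf) 178013782471073595391 BT.leaf)) 413466474589630496767 (BT.node (BT.node (BT.node BT.leaf 1484364185599 BT.leaf) 1539370385407 BT.leaf) 104267338572881723391 (BT.node (BT.node BT.leaf 398507486952342683647 BT.leaf) 10610716704767 BT.leaf))))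

/-- subtree -/
def WT_5 : BT := BT.node WT_3 27 WT_4

/-- subtree -/
def WT_6 : BT := BT.node WT_2 7 WT_5

/-- subtree -/
def WT_7 : BT := (BT.node (BT.node (BT.node (BT.node (BT.node BT.leaf 6306798696923135 BT.leaf) 5925887 (BT.node BT.leaf 695454298707853311 BT.leaf)) 176160767 (BT.node (BT.node BT.leaf 1539372482559 BT.leaf) 2703149336887295 BT.leaf)) 165786681343 (BT.node (BT.node (BT.node BT.leaf 1451229183 BT.leaf) 6442450943 (BT.node BT.leaf 1814248030207 BT.leaf)) 45035996273704959 (BT.node (BT.node BT.leaf 409827566090715135 BT.leaf) 22123 BT.leaf))) 113390518271 (BT.node (BT.node (BT.node (BT.node BT.leaf 385044185087 BT.leaf) 5800722431 (BT.node BT.leaf 23753316630527 BT.leaf)) 1539371433983 (BT.node (BT.node BT.leaf 95228014886911 BT.leaf) 749455712794443775 BT.leaf)) 5938228494335 (BT.node (BT.node (BT.node BT.leaf 363228159 BT.leaf) 659922354175 (BT.node BT.leaf 450799767388159 BT.leaf)) 27541532671 (BT.node (BT.node BT.leaf 1468095 BT.leaf) 453655920639 BT.leaf))))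

/-- subtree -/
def WT_8 : BT := (BT.node (BT.node (BT.node (BT.node (BT.node BT.leaf 6376142309235619790847 BT.leaf) 26853375 (BT.node BT.leaf 5675455 BT.leaf)) 1618481116086271 (BT.node (BT.node BT.leaf 7459086882832383 BT.leaf) 170407 BT.leaf)) 101788388452990975 (BT.node (BT.node (BT.node BT.leaf 6160711155711 BT.leaf) 6724607 (BT.node BT.leaf 165893111807 BT.leaf)) 1593813775027256950783 (BT.node (BT.node BT.leaf 118084382229654405119 BT.leaf) 23698431 BT.leaf))) 177146839542804774911 (BT.node (BT.node (BT.node (BT.node BT.leaf 92991913983 BT.leaf) 44828721151 (BT.node BT.leaf 178694127615 BT.leaf)) 110166540287 (BT.node (BT.node BT.leaf 115964116991 BT.leaf) 367207 BT.leaf)) 6872891391 (BT.node (BT.node (BT.node BT.leaf 7206645885042687 BT.leaf) 2591031295 BT.leaf) 2523135 (BT.node (BT.node BT.leaf 695359465829957631 BT.leaf) 733374255726591 BT.leaf))))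

/-- subtree -/
def WT_9 : BT := BT.node WT_7 380046288093183 WT_8

/-- subtree -/
def WT_10 : BT := (BT.node (BT.node (BT.node (BT.node (BT.node BT.leaf 24065605631 BT.leaf) 11167793151 (BT.node BT.leaf 1630303065108119551 BT.leaf)) 6167573037055 (BT.node (BT.node BT.leaf 177149091342618460159 BT.leaf) 107387647 BT.leaf)) 93956095 (BT.node (BT.node (BT.node BT.leaf 2834343803185342185471 BT.leaf) 767442368426533715967 (BT.node BT.leaf 10565619548159 BT.leaf)) 117093590311632895 (BT.node (BT.node BT.leaf 1540819517439 BT.leaf) 1125899906842623 BT.leaf))) 97278741511667711 (BT.node (BT.node (BT.node (BT.node BT.leaf 380001526480895 BT.leaf) 1474559 (BT.node BT.leaf 25234891369086975 BT.leaf)) 767 (BT.node (BT.node BT.leaf 1723858943 BT.leaf) 10906010 BT.leaf)) 1553075273727 (BT.node (BT.node (BT.node BT.leaf 43460121233195007 BT.leaf) 31525197391593471 BT.leaf) 695366337777631231 (BT.node (BT.node BT.leaf 1848727647035588607 BT.leaf) 101782272419561471 BT.leaf))))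

/-- subtree -/
def WT_11 : BT := (BT.node (BT.node (BT.node (BT.node (BT.node BT.leaf 7620090569510879231 BT.leaf) 702561541869797375 (BT.node BT.leaf 5798297599 BT.leaf)) 462076358642630655 (BT.node (BT.node BT.leaf 1519978993942527 BT.leaf) 6013165567 BT.leaf)) 118898988404441087 (BT.node (BT.node (BT.node BT.leaf 1771728895 BT.leaf) 407294291300319231 (BT.node BT.leaf 43459958024437759 BT.leaf)) 103312575451879178239 (BT.node (BT.node BT.leaf 1556669870907588607 BT.leaf) 6240300233675243519 BT.leaf))) 174514485560606719 (BT.node (BT.node (BT.node (BT.node BT.leaf 41448112127 BT.leaf) 1721434111 (BT.node BT.leaf 462070311328677887 BT.leaf)) 102004045572947425886207 (BT.node (BT.node BT.leaf 453588811775 BT.leaf) 180223 BT.leaf)) 24635932409855 (BT.node (BT.node (BT.node BT.leaf 354815 BT.leaf) 691978330135592959 BT.leaf) 23147 (BT.node (BT.node BT.leaf 42623 BT.leaf) 452998790643711 BT.leaf))))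

/-- subtree -/
def WT_12 : BT := BT.node WT_10 1615103416365744127 WT_11

/-- subtree -/
def WT_13 : BT := BT.node WT_9 373662154751 WT_12

/-- subtree -/
def WT_14 : BT := BT.node WT_6 90597791 WT_13

/-- subtree -/
def WT_15 : BT := (BT.node (BT.node (BT.node (BT.node (BT.node BT.leaf 95012192780287 BT.leaf) 172996060002648063 (BT.node BT.leaf 688127 BT.leaf)) 429551615 (BT.node (BT.node BT.leaf 23698023 BT.leaf) 6013173759 BT.leaf)) 2859374477311 (BT.node (BT.node (BT.node BT.leaf 29028610211839 BT.leaf) 10559177097215 (BT.node BT.leaf 7437096650276863 BT.leaf)) 22119 (BT.node (BT.node BT.leaf 647604223 BT.leaf) 1628526254317633535 BT.leaf))) 165020696575 (BT.node (BT.node (BT.node (BT.node BT.leaf 5668863 BT.leaf) 1562749070697562111 (BT.node BT.leaf 29572535109407473663 BT.leaf)) 3 (BT.node (BT.node BT.leaf 439860854783 BT.leaf) 473159998800566157311 BT.leaf)) 5937456742399 (BT.node (BT.node (BT.node BT.leaf 1509949439 BT.leaf) 2927999464767487 (BT.node BT.leaf 184549375 BT.leaf))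 6157481541631 (BT.node (BT.node BT.leaf 1765231558655 BT.leaf) 7615586969883508735 BT.leaf))))

/-- subtree -/
def WT_16 : BT := (BT.node (BT.node (BT.node (BT.node (BT.node BT.leaf 1446 BT.leaf) 44503164142791688191 (BT.node BT.leaf 1667610884421256740863 BT.leaf)) 463870761619161087 (BT.node (BT.node BT.leaf 1594029947809370734591 BT.leaf) 6567 BT.leaf)) 5551 (BT.node (BT.node (BT.node BT.leaf 177147965442711617535 BT.leaf) 42442866819071 (BT.node BT.leaf 27071 BT.leaf)) 99613431307947737087 (BT.node (BT.node BT.leaf 24266776575 BT.leaf) 362391167 BT.leaf))) 473166191250053791743 (BT.node (BT.node (BT.node (BT.node BT.leaf 25840528761945063423 BT.leaf) 29725296856924159 (BT.node BT.leaf 25227194787692543 BT.leaf)) 121752564126147674111 (BT.node (BT.node BT.leaf 11167755263 BT.leaf) 22650879 BT.leaf)) 23703551 (BT.node (BT.node (BT.node BT.leaf 44502997017024266239 BT.leaf) 111 BT.leaf) 168981193293823 (BT.node (BT.node BT.leaf 2781817194831413247 BT.leaf) 22169 BT.leaf))))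

/-- subtree -/
def WT_17 : BT := BT.node WT_15 708585810058847191039 WT_16

/-- subtree -/
def WT_18 : BT := (BT.node (BT.node (BT.node (BT.node (BT.node BT.leaf 30282275952033253031935 BT.leaf) 704643071 (BT.node BT.leaf 1762748530687 BT.leaf)) 2495 (BT.node (BT.node BT.leaf 389121563116437503 BT.leaf) 6157489930239 BT.leaf)) 464474943258623 (BT.node (BT.node (BT.node BT.leaf 1556458489797148671 BT.leaf) 786431 (BT.node BT.leaf 10812597347549183 BT.leaf)) 363331583 (BT.node (BT.node BT.leaf 1814250389503 BT.leaf) 1590349080297471 BT.leaf))) 663146725375 (BT.node (BT.node (BT.node (BT.node BT.leaf 43646975 BT.leaf) 367039 (BT.node BT.leaf 712055129884294381567 BT.leaf)) 5804916735 (BT.node (BT.node BT.leaf 97292485407014911 BT.leaf) 619 BT.leaf)) 5737 (BT.node (BT.node (BT.node BT.leaf 63 BT.leaf) 5813305343 BT.leaf) 1667600751322095157247 (BT.node (BT.node BT.leaf 475604749710786559 BT.leaf) 25504479164949931753471 BT.leaf))))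

/-- subtree -/
def WT_19 : BT := (BT.node (BT.node (BT.node (BT.node (BT.node BT.leaf 698351615 BT.leaf) 39935 (BT.node BT.leaf 362414079 BT.leaf)) 679085869105151 (BT.node (BT.node BT.leaf 28243704938495 BT.leaf) 1556679766512238591 BT.leaf)) 24903335836754378751 (BT.node (BT.node (BT.node BT.leaf 2703699092701183 BT.leaf) 5798258687 (BT.node BT.leaf 712050626284667011071 BT.leaf)) 7037773676543 (BT.node (BT.node BT.leaf 29028006232063 BT.leaf) 1681003 BT.leaf))) 403635116603080703 (BT.node (BT.node (BT.node (BT.node BT.leaf 105087 BT.leaf) 46847991436279807 (BT.node BT.leaf 5872639 BT.leaf)) 6225945009863000063 (BT.node (BT.node BT.leaf 379256831 BT.leaf) 433151 BT.leaf)) 121849391518136139775 (BT.node (BT.node (BT.node BT.leaf 9919 BT.leaf) 12582911 BT.leaf) 44509075117302611967 (BT.node (BT.node BT.leaf 26265 BT.leaf) 92570 BT.leaf))))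

/-- subtree -/
def WT_20 : BT := BT.node WT_18 24159191039 WT_19

/-- subtree -/
def WT_21 : BT := BT.node WT_17 104225046957630947327 WT_20

/-- subtree -/
def WT_22 : BT := (BT.node (BT.node (BT.node (BT.node (BT.node BT.leaf 25445585284759551 BT.leaf) 11274289151 (BT.node BT.leaf 1948041026018362785791 BT.leaf)) 88831 (BT.node (BT.node BT.leaf 2952790015 BT.leaf) 39526 BT.leaf)) 98519838883839 (BT.node (BT.node (BT.node BT.leaf 712047952272388259839 BT.leaf) 1593814900927163793407 (BT.node BT.leaf 11337372960941555056639 BT.leaf)) 91807 (BT.node (BT.node BT.leaf 173001557560786943 BT.leaf) 354719 BT.leaf))) 413448460191121014783 (BT.node (BT.node (BT.node (BT.node BT.leaf 7421932185906577407 BT.leaf) 94999307878399 (BT.node BT.leaf 10610347606015 BT.leaf)) 28203976491007 (BT.node (BT.node BT.leaf 178684084223 BT.leaf) 2834367447083385880575 BT.leaf)) 98519704666111 (BT.node (BT.node (BT.node BT.leaf 92878667775 BT.leaf) 7431599092137983 (BT.node BT.leaf 1791 BT.leaf)) 388268425215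 (BT.node (BT.node BT.leaf 23151 BT.leaf) 25165823 BT.leaf))))

/-- subtree -/
def WT_23 : BT := (BT.node (BT.node (BT.node (BT.node (BT.node BT.leaf 26847231 BT.leaf) 7086906367 (BT.node BT.leaf 104895 BT.leaf)) 28150960488447 (BT.node (BT.node BT.leaf 175921860444159 BT.leaf) 6389995381689411436543 BT.leaf)) 10121215 (BT.node (BT.node (BT.node BT.leaf 1600888930041855 BT.leaf) 6322191859711 (BT.node BT.leaf 9855 BT.leaf)) 24909409538986213375 (BT.node (BT.node BT.leaf 29137058136063 BT.leaf) 2716247913398271 BT.leaf))) 442931711 (BT.node (BT.node (BT.node (BT.node BT.leaf 191862351325237870591 BT.leaf) 2864743186431 (BT.node BT.leaf 1504078847 BT.leaf)) 397610892394495 (BT.node (BT.node BT.leaf 1459617791 BT.leaf) 22659071 BT.leaf)) 24065277951 (BT.node (BT.node (BT.node BT.leaf 94006271 BT.leaf) 92786393087 BT.leaf) 26267 (BT.node (BT.node BT.leaf 43624191 BT.leaf) 6013169663 BT.leaf))))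

/-- subtree -/
def WT_24 : BT := BT.node WT_22 24906805895451639807 WT_23

/-- subtree -/
def WT_25 : BT := (BT.node (BT.node (BT.node (BT.node (BT.node BT.leaf 6368371348078591 BT.leaf) 371984433151 (BT.node BT.leaf 6225835058700222463 BT.leaf)) 24092082175 (BT.node (BT.node BT.leaf 2927561378103295 BT.leaf) 461267118084587519 BT.leaf)) 691988638057103359 (BT.node (BT.node (BT.node BT.leaf 23196205055 BT.leaf) 92571 (BT.node BT.leaf 419482 BT.leaf)) 1418859 (BT.node (BT.node BT.leaf 691979841964081151 BT.leaf) 367015 BT.leaf))) 2577821695 (BT.node (BT.node (BT.node (BT.node BT.leaf 363249663 BT.leaf) 11071655481192742911 (BT.node BT.leaf 1760936591359 BT.leaf)) 175112191 (BT.node (BT.node BT.leaf 2997821751666147327 BT.leaf) 107584111 BT.leaf)) 698023935 (BT.node (BT.node (BT.node BT.leaf 41271951359 BT.leaf) 1652929149636028923903 BT.leaf) 430338047 (BT.node (BT.node BT.leaf 457396837154815 BT.leaf) 1772093439 BT.leaf))))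

/-- subtree -/
def WT_26 : BT := (BT.node (BT.node (BT.node (BT.node (BT.node BT.leaf 6018826239 BT.leaf) 1484555812863 (BT.node BT.leaf 413439452991866273791 BT.leaf)) 262143 (BT.node (BT.node BT.leaf 1731583 BT.leaf) 40278783 BT.leaf)) 5735 (BT.node (BT.node (BT.node BT.leaf 1452933119 BT.leaf) 102004063587345935368191 (BT.node BT.leaf 161902591 BT.leaf)) 98956046499839 (BT.node (BT.node BT.leaf 379170815 BT.leaf) 1590347469684735 BT.leaf))) 1553435983871 (BT.node (BT.node (BT.node (BT.node BT.leaf 115523487707168767 BT.leaf) 118898713526534143 (BT.node BT.leaf 376045567 BT.leaf)) 115686215428079615 (BT.node (BT.node BT.leaf 363855871 BT.leaf) 1948077054815381749759 BT.leaf)) 632511 (BT.node (BT.node (BT.node BT.leaf 30439829881397182463 BT.leaf) 24054333439 BT.leaf) 389117165069926399 (BT.node (BT.node BT.leaf 10118847 BT.leaf) 22649471 BT.leaf))))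

/-- subtree -/
def WT_27 : BT := BT.node WT_25 452984831 WT_26

/-- subtree -/
def WT_28 : BT := BT.node WT_24 648019967 WT_27

/-- subtree -/
def WT_29 : BT := BT.node WT_21 7570559980809058516991 WT_28

/-- subtree -/
def WT_30 : BT := BT.node WT_14 2716618354327551 WT_29

/-- subtree -/
def WT_31 : BT := (BT.node (BT.node (BT.node (BT.node (BT.node BT.leaf 46179488366591 BT.leaf) 23811298689023 (BT.node BT.leaf 40632319 BT.leaf)) 403536710312394751 (BT.node (BT.node BT.leaf 430440447 BT.leaf) 5875455 BT.leaf)) 11074351483704049663 (BT.node (BT.node (BT.node BT.leaf 403537260068208639 BT.leaf) 2860448219135 (BT.node BT.leaf 107584127 BT.leaf)) 94830591 (BT.node (BT.node BT.leaf 1774190591 BT.leaf) 731890008981503 BT.leaf))) 6885392383 (BT.node (BT.node (BT.node (BT.node BT.leaf 708614379768983322623 BT.leaf) 6376160323634129272831 (BT.node BT.leaf 12094627905535 BT.leaf)) 362440447 (BT.node (BT.node BT.leaf 107585535 BT.leaf) 7340031 BT.leaf)) 88475 (BT.node (BT.node (BT.node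 BT.leaf 43459983794241535 BT.leaf) 28826720979124223 (BT.node BT.leaf 161113759 BT.leaf)) 2781535719854702591 (BT.node (BT.node BT.leaf 27683327 BT.leaf) 23698031 BT.leaf))))

/-- subtree -/
def WT_32 : BT := (BT.node (BT.node (BT.node (BT.node (BT.node BT.leaf 380431023210495 BT.leaf) 191889372923002093567 (BT.node BT.leaf 105471 BT.leaf)) 23749667586047 (BT.node (BT.node BT.leaf 10118809 BT.leaf) 163577855 BT.leaf)) 104225117326375124991 (BT.node (BT.node (BT.node BT.leaf 25769803775 BT.leaf) 1803199069552639 (BT.node BT.leaf 6375255100109027803135 BT.leaf)) 2933497022906367 (BT.node (BT.node BT.leaf 7256992120831 BT.leaf) 110166130687 BT.leaf))) 472337528918617620479 (BT.node (BT.node (BT.node (BT.node BT.leaf 1494648619007 BT.leaf) 180143985094819839 (BT.node BT.leaf 5872383 BT.leaf)) 94793727 (BT.node (BT.node BT.leaf 96262422527 BT.leaf) 1639310264362860543 BT.leaf)) 1814623682559 (BT.node (BT.node (BT.node BT.leaf 708587358171219099647 BT.leaf) 44671172607 BT.leaf) 88495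 (BT.node (BT.node BT.leaf 1520185152372735 BT.leaf) 371967655935 BT.leaf))))

/-- subtree -/
def WT_33 : BT := BT.node WT_31 51539607551 WT_32

/-- subtree -/
def WT_34 : BT := (BT.node (BT.node (BT.node (BT.node (BT.node BT.leaf 453562073087 BT.leaf) 25504569236942479163391 (BT.node BT.leaf 179314884607 BT.leaf)) 24670292148223 (BT.node (BT.node BT.leaf 1540176740351 BT.leaf) 107413503 BT.leaf)) 714776510463 (BT.node (BT.node (BT.node BT.leaf 708596365370473840639 BT.leaf) 23202889727 (BT.node BT.leaf 22701823 BT.leaf)) 440666161151 (BT.node (BT.node BT.leaf 429550591 BT.leaf) 95013266522111 BT.leaf))) 6473924464345087 (BT.node (BT.node (BT.node (BT.node BT.leaf 463856467967 BT.leaf) 375824383 (BT.node BT.leaf 6157485735935 BT.leaf)) 29836347531329535 (BT.node (BT.node BT.leaf 1468831 BT.leaf) 11337375212741368741887 BT.leaf)) 380912059547647 (BT.node (BT.node (BT.node BT.leaf 681631 BT.leaf) 27491565567 BT.leaf) 3069769473706134863871 (BT.node (BT.node BT.leaf 2997822851177775103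 BT.leaf) 407153553811963903 BT.leaf))))

/-- subtree -/
def WT_35 : BT := (BT.node (BT.node (BT.node (BT.node (BT.node BT.leaf 42262478192639 BT.leaf) 23752913977343 (BT.node BT.leaf 24642844622847 BT.leaf)) 10364125183 (BT.node (BT.node BT.leaf 468374361246531583 BT.leaf) 1452912639 BT.leaf)) 26898431 (BT.node (BT.node (BT.node BT.leaf 10092543 BT.leaf) 6163278069759 (BT.node BT.leaf 2639689416703 BT.leaf)) 663572447231 (BT.node (BT.node BT.leaf 2781437863319830527 BT.leaf) 4398046511103 BT.leaf))) 23488927 (BT.node (BT.node (BT.node (BT.node BT.leaf 1769526525951 BT.leaf) 379995084029951 (BT.node BT.leaf 464449173454847 BT.leaf)) 10611790446591 (BT.node (BT.node BT.leaf 1484380962815 BT.leaf) 6920815 BT.leaf)) 371141378047 (BT.node (BT.node (BT.node BT.leaf 5759 BT.leaf) 1590993325391871 BT.leaf) 675765859385343 (BT.node (BT.node BT.leaf 98573794410495 BT.leaf) 169765461032959 BT.leaf))))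

/-- subtree -/
def WT_36 : BT := BT.node WT_34 28826583540170751 WT_35

/-- subtree -/
def WT_37 : BT := BT.node WT_33 6521212260432478207 WT_36

/-- subtree -/
def WT_38 : BT := (BT.node (BT.node (BT.node (BT.node (BT.node BT.leaf 2 BT.leaf) 403564747858903039 (BT.node BT.leaf 1677935 BT.leaf)) 6733823 (BT.node (BT.node BT.leaf 6080741683232767 BT.leaf) 26681603013954267774975 BT.leaf)) 12279076768924632612863 (BT.node (BT.node (BT.node BT.leaf 24376172787793919 BT.leaf) 23488959 (BT.node BT.leaf 6066700287 BT.leaf)) 681697209221119 (BT.node (BT.node BT.leaf 11169431551 BT.leaf) 169766098567167 BT.leaf))) 161906687 (BT.node (BT.node (BT.node (BT.node BT.leaf 113393008639 BT.leaf) 123145302310911 (BT.node BT.leaf 6724351 BT.leaf)) 41246785535 (BT.node (BT.node BT.leaf 2716274756943871 BT.leaf) 1804962153627647 BT.leaf)) 29051158790143 (BT.node (BT.node (BT.node BT.leaf 7221592371232767 BT.leaf) 398453303019325882367 (BT.node BT.leaf 24904905939358842879 BT.leaf)) 397587001638911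 (BT.node (BT.node BT.leaf 1771831295 BT.leaf) 2529703 BT.leaf))))

/-- subtree -/
def WT_39 : BT := (BT.node (BT.node (BT.node (BT.node (BT.node BT.leaf 703 BT.leaf) 6361430680928255 (BT.node BT.leaf 29765978787151871 BT.leaf)) 96234110975 (BT.node (BT.node BT.leaf 644612095 BT.leaf) 2744381022928895 BT.leaf)) 1385 (BT.node (BT.node (BT.node BT.leaf 22143 BT.leaf) 22649599 (BT.node BT.leaf 2703040352092159 BT.leaf)) 6104488557412351 (BT.node (BT.node BT.leaf 1804985775947775 BT.leaf) 26062331043593060351 BT.leaf))) 115517715271122943 (BT.node (BT.node (BT.node (BT.node BT.leaf 5937417945087 BT.leaf) 47990357629260005375 (BT.node BT.leaf 412316860415 BT.leaf)) 380046623637503 (BT.node (BT.node BT.leaf 477381560501272575 BT.leaf) 11436424167423 BT.leaf)) 714738761727 (BT.node (BT.node (BT.node BT.leaf 116111873933311 BT.leaf) 23246602239 BT.leaf) 10906111 (BT.node (BT.node BT.leaf 7050658578431 BT.leaf) 361 BT.leaf))))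

/-- subtree -/
def WT_40 : BT := BT.node WT_38 6308997720178687 WT_39

/-- subtree -/
def WT_41 : BT := (BT.node (BT.node (BT.node (BT.node (BT.node BT.leaf 42235030667263 BT.leaf) 6514456860991422463 (BT.node BT.leaf 7421703487487 BT.leaf)) 394724674371583 (BT.node (BT.node BT.leaf 90 BT.leaf) 28851185112842239 BT.leaf)) 394285513965567 (BT.node (BT.node (BT.node BT.leaf 23501311 BT.leaf) 39334 (BT.node BT.leaf 1415935 BT.leaf)) 1762658091007 (BT.node (BT.node BT.leaf 430374911 BT.leaf) 439865049087 BT.leaf))) 6872809471 (BT.node (BT.node (BT.node (BT.node BT.leaf 7256993169407 BT.leaf) 93958143 (BT.node BT.leaf 10617159155711 BT.leaf)) 461225336642732031 (BT.node (BT.node BT.leaf 6013190143 BT.leaf) 24642827845631 BT.leaf)) 29033978920959 (BT.node (BT.node (BT.node BT.leaf 102004081601744444850175 BT.leaf) 165826002943 BT.leaf) 181398003403861899870207 (BT.node (BT.node BT.leaf 371246235647 BT.leaf) 24322962437963775 BT.leaf))))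

/-- subtree -/
def WT_42 : BT := (BT.node (BT.node (BT.node (BT.node (BT.node BT.leaf 161480703 BT.leaf) 49116311579298157821951 (BT.node BT.leaf 1520212264353791 BT.leaf)) 1415787 (BT.node (BT.node BT.leaf 1516699647 BT.leaf) 44503005813117288447 BT.leaf)) 676199651082239 (BT.node (BT.node (BT.node BT.leaf 98519771774975 BT.leaf) 1718616063 (BT.node BT.leaf 11337397730739505594367 BT.leaf)) 46935952366501887 (BT.node (BT.node BT.leaf 25 BT.leaf) 6094592952762367 BT.leaf))) 363229183 (BT.node (BT.node (BT.node (BT.node BT.leaf 5951482494975 BT.leaf) 23914377904127 (BT.node BT.leaf 98612449116159 BT.leaf)) 47965165618844401663 (BT.node (BT.node BT.leaf 103582791429521407 BT.leaf) 2869038153727 BT.leaf)) 1540198760447 (BT.node (BT.node (BT.node BT.leaf 108086391056891903 BT.leaf) 103359581772989857791 BT.leaf) 164980523007 (BT.node (BT.node BT.leaf 95218351210495 BT.leaf) 94896127 BT.leaf))))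

/-- subtree -/
def WT_43 : BT := BT.node WT_41 26219 WT_42

/-- subtree -/
def WT_44 : BT := BT.node WT_40 9 WT_43

/-- subtree -/
def WT_45 : BT := BT.node WT_37 2687 WT_44

/-- subtree -/
def WT_46 : BT := (BT.node (BT.node (BT.node (BT.node (BT.node BT.leaf 40475247 BT.leaf) 99626942106829848575 (BT.node BT.leaf 6160727932927 BT.leaf)) 97319973197709311 (BT.node (BT.node BT.leaf 1560145427162988543 BT.leaf) 2621439 BT.leaf)) 2783224569714966527 (BT.node (BT.node (BT.node BT.leaf 614 BT.leaf) 434175 (BT.node BT.leaf 10311434239 BT.leaf)) 6376118665337576095743 (BT.node (BT.node BT.leaf 6269010681299730431 BT.leaf) 11071659879239254015 BT.leaf))) 419481 (BT.node (BT.node (BT.node (BT.node BT.leaf 25826367052179308543 BT.leaf) 2997989976945197055 (BT.node BT.leaf 371179126783 BT.leaf)) 6873415679 (BT.node (BT.node BT.leaf 25850661861106647039 BT.leaf) 5924863 BT.leaf)) 1576321717108735 (BT.node (BT.node (BT.node BT.leaf 450524889481215 BT.leaf) 187364477954424831 (BT.node BT.leaf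 462070242609201151 BT.leaf)) 42331197669375 (BT.node (BT.node BT.leaf 43624063 BT.leaf) 1945555039024054271 BT.leaf))))

/-- subtree -/
def WT_47 : BT := (BT.node (BT.node (BT.node (BT.node (BT.node BT.leaf 10311303167 BT.leaf) 30438031080374140927 (BT.node BT.leaf 112820200931327 BT.leaf)) 44671025151 (BT.node (BT.node BT.leaf 94207 BT.leaf) 358 BT.leaf)) 7611083370256138239 (BT.node (BT.node (BT.node BT.leaf 42687 BT.leaf) 6093957297602559 (BT.node BT.leaf 115307983428124671 BT.leaf)) 398514523826760450047 (BT.node (BT.node BT.leaf 752101137770872831 BT.leaf) 23855103 BT.leaf))) 92772171775 (BT.node (BT.node (BT.node (BT.node BT.leaf 6815743 BT.leaf) 2858971824127 (BT.node BT.leaf 1801665766227967 BT.leaf)) 371140329471 (BT.node (BT.node BT.leaf 403753863858880511 BT.leaf) 26239 BT.leaf)) 43470291715751935 (BT.node (BT.node (BT.node BT.leaf 5542 BT.leaf) 1848287842384478207 BT.leaf) 1902377217401290751 (BT.node (BT.node BT.leaf 397593712525311 BT.leaf) 4503599627370495 BT.leaf))))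

/-- subtree -/
def WT_48 : BT := BT.node WT_46 6459969462765355007 WT_47

/-- subtree -/
def WT_49 : BT := (BT.node (BT.node (BT.node (BT.node (BT.node BT.leaf 6885736447 BT.leaf) 1718206463 (BT.node BT.leaf 389114966046670847 BT.leaf)) 2810246167479189503 (BT.node (BT.node BT.leaf 1848281245314711551 BT.leaf) 94792095 BT.leaf)) 1520006105923583 (BT.node (BT.node (BT.node BT.leaf 23193190399 BT.leaf) 408016182291789703544831 (BT.node BT.leaf 24052695039 BT.leaf)) 5898239 (BT.node (BT.node BT.leaf 1848305434570522623 BT.leaf) 1814355247103 BT.leaf))) 11437497909247 (BT.node (BT.node (BT.node (BT.node BT.leaf 100939565476347903 BT.leaf) 6079915975770111 (BT.node BT.leaf 720895 BT.leaf)) 116114440847359 (BT.node (BT.node BT.leaf 3071 BT.leaf) 24052662271 BT.leaf)) 98543729639423 (BT.node (BT.node (BT.node BT.leaf 42236708388863 BT.leaf) 6895435775 BT.leaf) 475595953617764351 (BT.node (BT.node BT.leaf 1419263 BT.leaf) 29748386601107455 BT.leaf))))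

/-- subtree -/
def WT_50 : BT := (BT.node (BT.node (BT.node (BT.node (BT.node BT.leaf 7086915583 BT.leaf) 2767913320542371839 (BT.node BT.leaf 88479 BT.leaf)) 6212301094911 (BT.node (BT.node BT.leaf 1629177165201276927 BT.leaf) 92591 BT.leaf)) 2590416895 (BT.node (BT.node (BT.node BT.leaf 173840484932780031 BT.leaf) 173839832097751039 (BT.node BT.leaf 170495 BT.leaf)) 6514105017270534143 (BT.node (BT.node BT.leaf 126100789566373887 BT.leaf) 413250301807516712959 BT.leaf))) 1811995162574847 (BT.node (BT.node (BT.node (BT.node BT.leaf 660082786303 BT.leaf) 2781465351110524927 (BT.node BT.leaf 6226679483630354431 BT.leaf)) 10866473417310207 (BT.node (BT.node BT.leaf 22675455 BT.leaf) 7394910588142354431 BT.leaf)) 24961200934700974079 (BT.node (BT.node (BT.node BT.leaf 380048771121151 BT.leaf) 6250996282790248447 BT.leaf) 407129089678245887 (BT.node (BT.node BT.leaf 698057942242426879 BT.leaf) 691984240010592255 BT.leaf))))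

/-- subtree -/
def WT_51 : BT := BT.node WT_49 43624043 WT_50

/-- subtree -/
def WT_52 : BT := BT.node WT_48 30480362278043516927 WT_51

/-- subtree -/
def WT_53 : BT := (BT.node (BT.node (BT.node (BT.node (BT.node BT.leaf 6460413665462976511 BT.leaf) 165792448511 (BT.node BT.leaf 2752511 BT.leaf)) 393215 (BT.node (BT.node BT.leaf 439858757631 BT.leaf) 98784247807 BT.leaf)) 6920807 (BT.node (BT.node (BT.node BT.leaf 22806527 BT.leaf) 118300555011768188927 (BT.node BT.leaf 5812256767 BT.leaf)) 10812322469642239 (BT.node (BT.node BT.leaf 10812185030688767 BT.leaf) 27514634239 BT.leaf))) 644874239 (BT.node (BT.node (BT.node (BT.node BT.leaf 7077887 BT.leaf) 389168842116431871 (BT.node BT.leaf 2748779069439 BT.leaf)) 153 (BT.node (BT.node BT.leaf 2997849239456841727 BT.leaf) 354047 BT.leaf)) 681627 (BT.node (BT.node (BT.node BT.leaf 97278672792190975 BT.leaf) 362440703 BT.leaf) 1652893120839009959935 (BT.node (BT.node BT.leaf 2736127 BT.leaf) 25827017963062951935 BT.leaf))))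

/-- subtree -/
def WT_54 : BT := (BT.node (BT.node (BT.node (BT.node (BT.node BT.leaf 419487 BT.leaf) 99843677838897053695 (BT.node BT.leaf 389209524046659583 BT.leaf)) 44761612287 (BT.node (BT.node BT.leaf 376019967 BT.leaf) 93955775 BT.leaf)) 376438783 (BT.node (BT.node (BT.node BT.leaf 416907224704941555711 BT.leaf) 40278463 (BT.node BT.leaf 46840964869783551 BT.leaf)) 6724031 (BT.node (BT.node BT.leaf 23196184575 BT.leaf) 110732911 BT.leaf))) 158143 (BT.node (BT.node (BT.node (BT.node BT.leaf 455266533375 BT.leaf) 23501231 (BT.node BT.leaf 1468847 BT.leaf)) 10125311 (BT.node (BT.node BT.leaf 45743146532863 BT.leaf) 1889183482488257773567 BT.leaf)) 5675775 (BT.node (BT.node (BT.node BT.leaf 484515766714185707159551 BT.leaf) 7146825580543 BT.leaf) 6459991452997910527 (BT.node (BT.node BT.leaf 1638 BT.leaf) 25013889531903 BT.leaf))))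

/-- subtree -/
def WT_55 : BT := BT.node WT_53 94044159 WT_54

/-- subtree -/
def WT_56 : BT := (BT.node (BT.node (BT.node (BT.node (BT.node BT.leaf 6212670193663 BT.leaf) 1449787391 (BT.node BT.leaf 99505802313727 BT.leaf)) 7207298720071679 (BT.node (BT.node BT.leaf 6389977367290901954559 BT.leaf) 172994616893636607 BT.leaf)) 10906623 (BT.node (BT.node (BT.node BT.leaf 27688959 BT.leaf) 1688849860263935 (BT.node BT.leaf 384852557823 BT.leaf)) 24377272299421695 (BT.node (BT.node BT.leaf 161116159 BT.leaf) 403536985190301695 BT.leaf))) 92575 (BT.node (BT.node (BT.node (BT.node BT.leaf 661424963583 BT.leaf) 475594235630845951 (BT.node BT.leaf 118923177660252159 BT.leaf)) 11751580277669887 (BT.node (BT.node BT.leaf 28151027597311 BT.leaf) 24963452734514659327 BT.leaf)) 1614993465202966527 (BT.node (BT.node (BT.node BT.leaf 182284311810528413483007 BT.leaf) 40959 BT.leaf) 99626854145899626495 (BT.node (BT.node BT.leaf 46843593389768703 BT.leaf) 24630026829823 BT.leaf))))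

/-- subtree -/
def WT_57 : BT := (BT.node (BT.node (BT.node (BT.node (BT.node BT.leaf 1762815639551 BT.leaf) 666 (BT.node BT.leaf 372735 BT.leaf)) 5799067647 (BT.node (BT.node BT.leaf 28879497537257471 BT.leaf) 2577820671 BT.leaf)) 1556670970419216383 (BT.node (BT.node (BT.node BT.leaf 43487883901796351 BT.leaf) 97953291895308287 (BT.node BT.leaf 5799673855 BT.leaf)) 7039451398143 (BT.node (BT.node BT.leaf 30399297484750847 BT.leaf) 697984767 BT.leaf))) 95218082775039 (BT.node (BT.node (BT.node (BT.node BT.leaf 1449565183 BT.leaf) 6308654122795007 (BT.node BT.leaf 29724644021895167 BT.leaf)) 1487786737663 (BT.node (BT.node BT.leaf 96261373951 BT.leaf) 2769713770832855039 BT.leaf)) 172994685613113343 (BT.node (BT.node (BT.node BT.leaf 107397119 BT.leaf) 2927569968037887 BT.leaf) 100937022855708671 (BT.node (BT.node BT.leaf 1471 BT.leaf) 1801687241064447 BT.leaf))))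

/-- subtree -/
def WT_58 : BT := BT.node WT_56 681625 WT_57

/-- subtree -/
def WT_59 : BT := BT.node WT_55 42441373646847 WT_58

/-- subtree -/
def WT_60 : BT := BT.node WT_52 118290140437629894655 WT_59

/-- subtree -/
def WT_61 : BT := BT.node WT_45 24630563700735 WT_60

/-- subtree -/
def WT_62 : BT := BT.node WT_30 1484448071679 WT_61

/-- subtree -/
def WT_63 : BT := (BT.node (BT.node (BT.node (BT.node (BT.node BT.leaf 409 BT.leaf) 6212401758207 (BT.node BT.leaf 1482751 BT.leaf)) 1520624581214207 (BT.node (BT.node BT.leaf 6783 BT.leaf) 1889178978888630403071 BT.leaf)) 403916591579791359 (BT.node (BT.node (BT.node BT.leaf 7219847540768767 BT.leaf) 161114111 (BT.node BT.leaf 1616792266226008063 BT.leaf)) 6226789434793132031 (BT.node (BT.node BT.leaf 44671434751 BT.leaf) 679223308058623 BT.leaf))) 72057594037927935 (BT.node (BT.node (BT.node (BT.node BT.leaf 118318569410277670911 BT.leaf) 2781437313564016639 (BT.node BT.leaf 22708223 BT.leaf)) 182999966547967 (BT.node (BT.node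 BT.leaf 6225839456746733567 BT.leaf) 6514065434851934207 BT.leaf)) 22939 (BT.node (BT.node (BT.node BT.leaf 44286613128677949439 BT.leaf) 1857831053557759 (BT.node BT.leaf 24320097694777343 BT.leaf)) 103366618647407624191 (BT.node (BT.node BT.leaf 99626871738085670911 BT.leaf) 1481471 BT.leaf))))

/-- subtree -/
def WT_64 : BT := (BT.node (BT.node (BT.node (BT.node (BT.node BT.leaf 94371839 BT.leaf) 1691 (BT.node BT.leaf 399379214955215585279 BT.leaf)) 2727935 (BT.node (BT.node BT.leaf 475974185617719295 BT.leaf) 1615033047621566463 BT.leaf)) 155 (BT.node (BT.node (BT.node BT.leaf 11168927075878830079 BT.leaf) 28991922601197567 (BT.node BT.leaf 1415679 BT.leaf)) 49151 (BT.node (BT.node BT.leaf 371091046399 BT.leaf) 2652679176191 BT.leaf))) 173863574676963327 (BT.node (BT.node (BT.node (BT.node BT.leaf 41446670335 BT.leaf) 110326972415 (BT.node BT.leaf 29572886953128361983 BT.leaf)) 110171783167 (BT.node (BT.node BT.leaf 6080780337938431 BT.leaf) 104225680276328546303 BT.leaf)) 697984703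 (BT.node (BT.node (BT.node BT.leaf 97278655612321791 BT.leaf) 29572499925035384831 BT.leaf) 11071747840169476095 (BT.node (BT.node BT.leaf 10561324580863 BT.leaf) 99396817518591 BT.leaf))))

/-- subtree -/
def WT_65 : BT := BT.node WT_63 675787334221823 WT_64

/-- subtree -/
def WT_66 : BT := (BT.node (BT.node (BT.node (BT.node (BT.node BT.leaf 22649447 BT.leaf) 44040191 (BT.node BT.leaf 362807295 BT.leaf)) 2781447758924480511 (BT.node (BT.node BT.leaf 7609535257884229631 BT.leaf) 29029683953663 BT.leaf)) 27491303423 (BT.node (BT.node (BT.node BT.leaf 346 BT.leaf) 6 (BT.node BT.leaf 113390649343 BT.leaf)) 11534335 (BT.node (BT.node BT.leaf 1516673535 BT.leaf) 1892642247002078314495 BT.leaf))) 44503445617768398847 (BT.node (BT.node (BT.node (BT.node BT.leaf 26066834643220430847 BT.leaf) 1576699674230783 (BT.node BT.leaf 384843120639 BT.leaf)) 15 (BT.node (BT.node BT.leaf 6376119791237482938367 BT.leaf) 90603519 BT.leaf)) 6225833959188594687 (BT.node (BT.node (BT.node BT.leaf 1759443419135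 BT.leaf) 26271 BT.leaf) 94814207 (BT.node (BT.node BT.leaf 3145727 BT.leaf) 1892639995202264629247 BT.leaf))))

/-- subtree -/
def WT_67 : BT := (BT.node (BT.node (BT.node (BT.node (BT.node BT.leaf 178011988068097064959 BT.leaf) 43250389390196735 (BT.node BT.leaf 23749826969599 BT.leaf)) 708591861770846470143 (BT.node (BT.node BT.leaf 447 BT.leaf) 1453326335 BT.leaf)) 6039797759 (BT.node (BT.node (BT.node BT.leaf 169771467276287 BT.leaf) 675924773175295 (BT.node BT.leaf 7257001558015 BT.leaf)) 11711997859069951 (BT.node (BT.node BT.leaf 108287 BT.leaf) 11127268779325652991 BT.leaf))) 6361396321189887 (BT.node (BT.node (BT.node (BT.node BT.leaf 738197503 BT.leaf) 398453725231790948351 (BT.node BT.leaf 88679 BT.leaf)) 2652586901503 (BT.node (BT.node BT.leaf 24629926166527 BT.leaf) 97067106303 BT.leaf)) 416900187830523789311 (BT.node (BT.node (BT.node BT.leaf 174587903 BT.leaf) 7060926234623 BT.leaf) 1449564671 (BT.node (BT.node BT.leaf 420250 BT.leaf) 1468159 BT.leaf))))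

/-- subtree -/
def WT_68 : BT := BT.node WT_66 22207 WT_67

/-- subtree -/
def WT_69 : BT := BT.node WT_65 384842596351 WT_68

/-- subtree -/
def WT_70 : BT := (BT.node (BT.node (BT.node (BT.node (BT.node BT.leaf 1892664765000215166975 BT.leaf) 2818572287 (BT.node BT.leaf 2848220519537177526271 BT.leaf)) 2834343240235388764159 (BT.node (BT.node BT.leaf 103362115047780253695 BT.leaf) 7050994122751 BT.leaf)) 23219666943 (BT.node (BT.node (BT.node BT.leaf 5787 BT.leaf) 118901187427696639 (BT.node BT.leaf 9983 BT.leaf)) 389169941628059647 (BT.node (BT.node BT.leaf 178012656571166752767 BT.leaf) 100908779150770175 BT.leaf))) 1556486252465750015 (BT.node (BT.node (BT.node (BT.node BT.leaf 2479 BT.leaf) 6670443537685026963455 (BT.node BT.leaf 487010256504590696447 BT.leaf)) 24629959720959 (BT.node (BT.node BT.leaf 22951 BT.leaf) 1855483046476644351 BT.leaf)) 44671021055 (BT.node (BT.node (BT.node BT.leaf 1857899773034495 BT.leaf) 1099511627775 (BT.node BT.leaf 116112293363711 BT.leaf))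 92785344511 (BT.node (BT.node BT.leaf 24643448602623 BT.leaf) 100891186964725759 BT.leaf))))

/-- subtree -/
def WT_71 : BT := (BT.node (BT.node (BT.node (BT.node (BT.node BT.leaf 1516675071 BT.leaf) 40476671 (BT.node BT.leaf 10311696383 BT.leaf)) 1805398092808191 (BT.node (BT.node BT.leaf 442957823 BT.leaf) 1590357670232063 BT.leaf)) 686095255732223 (BT.node (BT.node (BT.node BT.leaf 675760088023039 BT.leaf) 28879428817780735 (BT.node BT.leaf 5872231 BT.leaf)) 2652947611647 (BT.node (BT.node BT.leaf 1439 BT.leaf) 42441365258239 BT.leaf))) 419483 (BT.node (BT.node (BT.node (BT.node BT.leaf 3069769192231158153215 BT.leaf) 170424302305279 (BT.node BT.leaf 28348252159 BT.leaf)) 679068689235967 (BT.node (BT.node BT.leaf 99613325754831470591 BT.leaf) 632425 BT.leaf)) 7441494696787967 (BT.node (BT.node (BT.node BT.leaf 99871825336568119295 BT.leaf) 1526122139353087 BT.leaf) 1484354486271 (BT.node (BT.node BT.leaf 442381631487 BT.leaf) 371095240703 BT.leaf))))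

/-- subtree -/
def WT_72 : BT := BT.node WT_70 6670400753488566943743 WT_71

/-- subtree -/
def WT_73 : BT := (BT.node (BT.node (BT.node (BT.node (BT.node BT.leaf 671 BT.leaf) 1683455 (BT.node BT.leaf 6094043196948479 BT.leaf)) 2792357887 (BT.node (BT.node BT.leaf 30786325577727 BT.leaf) 451240538406911 BT.leaf)) 6226226484839710719 (BT.node (BT.node (BT.node BT.leaf 1577249430044671 BT.leaf) 24058527743 (BT.node BT.leaf 5535 BT.leaf)) 451246443986943 (BT.node (BT.node BT.leaf 11997589407315001343 BT.leaf) 94998771007487 BT.leaf))) 1730203 (BT.node (BT.node (BT.node (BT.node BT.leaf 168941464846335 BT.leaf) 216172782113783807 (BT.node BT.leaf 1520185420808191 BT.leaf)) 5872239 (BT.node (BT.node BT.leaf 42441524641791 BT.leaf) 1681087 BT.leaf)) 7262789697535 (BT.node (BT.node (BT.node BT.leaf 99396750409727 BT.leaf) 175 BT.leaf) 161153023 (BT.node (BT.node BT.leaf 5662399 BT.leaf) 6515582760898265087 BT.leaf))))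

/-- subtree -/
def WT_74 : BT := (BT.node (BT.node (BT.node (BT.node (BT.node BT.leaf 5701631 BT.leaf) 2703046257672191 (BT.node BT.leaf 97292210529107967 BT.leaf)) 88511 (BT.node (BT.node BT.leaf 413223280209752489983 BT.leaf) 104871 BT.leaf)) 94004991 (BT.node (BT.node (BT.node BT.leaf 10069615 BT.leaf) 27683227 (BT.node BT.leaf 367211 BT.leaf)) 1418943 (BT.node (BT.node BT.leaf 118102396628163887103 BT.leaf) 362446847 BT.leaf))) 43248654223409151 (BT.node (BT.node (BT.node (BT.node BT.leaf 109964689407 BT.leaf) 29575138752942047231 (BT.node BT.leaf 6878658559 BT.leaf)) 687194767359 (BT.node (BT.node BT.leaf 170406 BT.leaf) 684031 BT.leaf)) 24960919459724263423 (BT.node (BT.node (BT.node BT.leaf 23488943 BT.leaf) 11710241217445887 BT.leaf) 39535 (BT.node (BT.node BT.leaf 2531327 BT.leaf) 121128941678546426789887 BT.leaf))))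

/-- subtree -/
def WT_75 : BT := BT.node WT_73 98303 WT_74

/-- subtree -/
def WT_76 : BT := BT.node WT_72 397748331347967 WT_75

/-- subtree -/
def WT_77 : BT := BT.node WT_69 30462347879534034943 WT_76

/-- subtree -/
def WT_78 : BT := (BT.node (BT.node (BT.node (BT.node (BT.node BT.leaf 24876450578431 BT.leaf) 2726655 (BT.node BT.leaf 24696061951 BT.leaf)) 1453064191 (BT.node (BT.node BT.leaf 161218559 BT.leaf) 11096869481840902143 BT.leaf)) 24319668198047743 (BT.node (BT.node (BT.node BT.leaf 6456754490765737983 BT.leaf) 97302381011664895 (BT.node BT.leaf 94109695 BT.leaf)) 1681007 (BT.node (BT.node BT.leaf 113816633343 BT.leaf) 11435786633215 BT.leaf))) 1786706395135 (BT.node (BT.node (BT.node (BT.node BT.leaf 10610343411711 BT.leaf) 1801824680017919 (BT.node BT.leaf 6922239 BT.leaf)) 1730201 (BT.node (BT.node BT.leaf 2703080617410559 BT.leaf) 1769471 BT.leaf)) 749462309864210431 (BT.node (BT.node (BT.node BT.leaf 90610175 BT.leaf) 23511039 (BT.node BT.leaf 11190403071 BT.leaf))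 104226806176235388927 (BT.node (BT.node BT.leaf 5799046143 BT.leaf) 5875307 BT.leaf))))

/-- subtree -/
def WT_79 : BT := (BT.node (BT.node (BT.node (BT.node (BT.node BT.leaf 1614997863249477631 BT.leaf) 1553167548415 (BT.node BT.leaf 1597494341822725488639 BT.leaf)) 274877906943 (BT.node (BT.node BT.leaf 25222796741181439 BT.leaf) 2577924095 BT.leaf)) 171523813933055 (BT.node (BT.node (BT.node BT.leaf 663236902911 BT.leaf) 767442298057789538303 (BT.node BT.leaf 24903331438707867647 BT.leaf)) 381530534838271 (BT.node (BT.node BT.leaf 99437082836991 BT.leaf) 698089471 BT.leaf))) 394312357511167 (BT.node (BT.node (BT.node (BT.node BT.leaf 2999397351828750335 BT.leaf) 54043195528445951 (BT.node BT.leaf 420271 BT.leaf)) 40288255 (BT.node (BT.node BT.leaf 29028073340927 BT.leaf) 1667600188372141735935 BT.leaf)) 451349523202047 (BT.node (BT.node (BT.node BT.leaf 168940022005759 BT.leaf) 359 BT.leaf) 42606075576319 (BT.node (BT.node BT.leaf 45571095967030612852735 BT.leaf) 371088621567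 BT.leaf))))

/-- subtree -/
def WT_80 : BT := BT.node WT_78 472295870622064443391 WT_79

/-- subtree -/
def WT_81 : BT := (BT.node (BT.node (BT.node (BT.node (BT.node BT.leaf 7696581394431 BT.leaf) 6014631935 (BT.node BT.leaf 23749692751871 BT.leaf)) 380046355202047 (BT.node (BT.node BT.leaf 1815697424383 BT.leaf) 1415599 BT.leaf)) 23196336127 (BT.node (BT.node (BT.node BT.leaf 379168767 BT.leaf) 110739455 (BT.node BT.leaf 7219857204445183 BT.leaf)) 10610341314559 (BT.node (BT.node BT.leaf 7087063039 BT.leaf) 1860373674196991 BT.leaf))) 110595407871 (BT.node (BT.node (BT.node (BT.node BT.leaf 420863 BT.leaf) 112810134601727 (BT.node BT.leaf 1383 BT.leaf)) 432550 (BT.node (BT.node BT.leaf 1468059 BT.leaf) 24849187602431 BT.leaf)) 1628895690224566271 (BT.node (BT.node (BT.node BT.leaf 6160862150655 BT.leaf) 10119167 BT.leaf) 397589417558015 (BT.node (BT.node BT.leaf 1468057 BT.leaf) 104870 BT.leaf))))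

/-- subtree -/
def WT_82 : BT := (BT.node (BT.node (BT.node (BT.node (BT.node BT.leaf 24967956334142029823 BT.leaf) 92773810175 (BT.node BT.leaf 1523510799237119 BT.leaf)) 1556556621209927679 (BT.node (BT.node BT.leaf 112811610996735 BT.leaf) 42235366211583 BT.leaf)) 10610381160447 (BT.node (BT.node (BT.node BT.leaf 43 BT.leaf) 255 (BT.node BT.leaf 2848202505138668044287 BT.leaf)) 105063 (BT.node (BT.node BT.leaf 1418879 BT.leaf) 23253221375 BT.leaf))) 28151094706175 (BT.node (BT.node (BT.node (BT.node BT.leaf 370283 BT.leaf) 1653793840764484059135 (BT.node BT.leaf 6670403005288380628991 BT.leaf)) 116112024928255 (BT.node (BT.node BT.leaf 30282239923236234067967 BT.leaf) 102 BT.leaf)) 1902418998843146239 (BT.node (BT.node (BT.node BT.leaf 6724015 BT.leaf) 101782341139038207 BT.leaf) 379997231513599 (BT.node (BT.node BT.leaf 102017916659799727013887 BT.leaf) 1614540466412322815 BT.leaf))))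

/-- subtree -/
def WT_83 : BT := BT.node WT_81 169767172308991 WT_82

/-- subtree -/
def WT_84 : BT := BT.node WT_80 167 WT_83

/-- subtree -/
def WT_85 : BT := (BT.node (BT.node (BT.node (BT.node (BT.node BT.leaf 42441390424063 BT.leaf) 96636764159 (BT.node BT.leaf 420351 BT.leaf)) 7792164104073451143167 (BT.node (BT.node BT.leaf 112815905964031 BT.leaf) 2793406463 BT.leaf)) 187391965745119231 (BT.node (BT.node (BT.node BT.leaf 355327 BT.leaf) 714736336895 (BT.node BT.leaf 159743 BT.leaf)) 23490559 (BT.node (BT.node BT.leaf 11811160063 BT.leaf) 11337469788333543522303 BT.leaf))) 1449656319 (BT.node (BT.node (BT.node (BT.node BT.leaf 24903780039452000255 BT.leaf) 158107 (BT.node BT.leaf 394078818664447 BT.leaf)) 2716343476420607 (BT.node (BT.node BT.leaf 1517027327 BT.leaf) 394079355535359 BT.leaf)) 371514671103 (BT.node (BT.node (BT.node BT.leaf 112974819753983 BT.leaf) 1732607 BT.leaf) 2848191809089553039359 (BT.node (BT.node BT.leaf 29726396368551935 BT.leaf) 6226719066048954367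 BT.leaf))))

/-- subtree -/
def WT_86 : BT := (BT.node (BT.node (BT.node (BT.node (BT.node BT.leaf 6375259603708655173631 BT.leaf) 7167 (BT.node BT.leaf 99613343347017515007 BT.leaf)) 39679 (BT.node (BT.node BT.leaf 45349491843766220226559 BT.leaf) 1553073700863 BT.leaf)) 10814796370804735 (BT.node (BT.node (BT.node BT.leaf 50331647 BT.leaf) 367231 (BT.node BT.leaf 92607 BT.leaf)) 23193034751 (BT.node (BT.node BT.leaf 178036300469210447871 BT.leaf) 692006230243147775 BT.leaf))) 1023 (BT.node (BT.node (BT.node (BT.node BT.leaf 1519988926054399 BT.leaf) 47244640255 (BT.node BT.leaf 6763 BT.leaf)) 11392810020554672177151 (BT.node (BT.node BT.leaf 1415782 BT.leaf) 157338 BT.leaf)) 25501038414834620694527 (BT.node (BT.node (BT.node BT.leaf 420255 BT.leaf) 6458161865649291263 BT.leaf) 5798625279 (BT.node (BT.node BT.leaf 28671 BT.leaf) 5675519 BT.leaf))))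

/-- subtree -/
def WT_87 : BT := BT.node WT_85 1690 WT_86

/-- subtree -/
def WT_88 : BT := (BT.node (BT.node (BT.node (BT.node (BT.node BT.leaf 99615120157808001023 BT.leaf) 398453373388070060031 (BT.node BT.leaf 93012885503 BT.leaf)) 169765561696255 (BT.node (BT.node BT.leaf 632431 BT.leaf) 158719 BT.leaf)) 112604378824703 (BT.node (BT.node (BT.node BT.leaf 386547056639 BT.leaf) 1576315274657791 (BT.node BT.leaf 181397967375064880906239 BT.leaf)) 1481135 (BT.node (BT.node BT.leaf 1681407 BT.leaf) 10865373905682431 BT.leaf))) 6212294803455 (BT.node (BT.node (BT.node (BT.node BT.leaf 22950 BT.leaf) 108137 (BT.node BT.leaf 6068109311 BT.leaf)) 43259185483218943 (BT.node (BT.node BT.leaf 26681612021153522515967 BT.leaf) 451263623856127 BT.leaf)) 1576317422141439 (BT.node (BT.node (BT.node BT.leaf 201326591 BT.leaf) 464448099713023 BT.leaf) 11173625855 (BT.node (BT.node BT.leaf 1486058684415 BT.leaf) 1468927 BT.leaf))))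

/-- subtree -/
def WT_89 : BT := (BT.node (BT.node (BT.node (BT.node (BT.node BT.leaf 749567862980476927 BT.leaf) 451899279015935 (BT.node BT.leaf 370431 BT.leaf)) 411 (BT.node (BT.node BT.leaf 1421311 BT.leaf) 6930431 BT.leaf)) 92772139007 (BT.node (BT.node (BT.node BT.leaf 7609675995372584959 BT.leaf) 2858945347583 (BT.node BT.leaf 11392767236358212157439 BT.leaf)) 712145201876841791487 (BT.node (BT.node BT.leaf 26896063 BT.leaf) 638975 BT.leaf))) 118905585474207743 (BT.node (BT.node (BT.node (BT.node BT.leaf 2768024920972591103 BT.leaf) 407129364556152831 (BT.node BT.leaf 93962239 BT.leaf)) 24906876264195817471 (BT.node (BT.node BT.leaf 67108863 BT.leaf) 1468415 BT.leaf)) 41447063551 (BT.node (BT.node (BT.node BT.leaf 407128952239292415 BT.leaf) 30438070662792740863 BT.leaf) 93147103231 (BT.node (BT.node BT.leaf 27035 BT.leaf) 2590425087 BT.leaf))))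

/-- subtree -/
def WT_90 : BT := BT.node WT_88 121128959692944936271871 WT_89

/-- subtree -/
def WT_91 : BT := BT.node WT_87 180388626431 WT_90

/-- subtree -/
def WT_92 : BT := BT.node WT_84 45097156607 WT_91

/-- subtree -/
def WT_93 : BT := BT.node WT_77 6253472382975 WT_92

/-- subtree -/
def WT_94 : BT := (BT.node (BT.node (BT.node (BT.node (BT.node BT.leaf 103305397839973056511 BT.leaf) 9835 (BT.node BT.leaf 27541536767 BT.leaf)) 187363842299265023 (BT.node (BT.node BT.leaf 5663167 BT.leaf) 27541897215 BT.leaf)) 11125755851325833215 (BT.node (BT.node (BT.node BT.leaf 712073144282803863551 BT.leaf) 13194139533311 (BT.node BT.leaf 27000831 BT.leaf)) 41875931135 (BT.node (BT.node BT.leaf 443285503 BT.leaf) 371950878719 BT.leaf))) 25332747903959039 (BT.node (BT.node (BT.node (BT.node BT.leaf 397679611871231 BT.leaf) 96267665407 (BT.node BT.leaf 1730239 BT.leaf)) 6157909360639 (BT.node (BT.node BT.leaf 5798264831 BT.leaf) 6095692464390143 BT.leaf)) 110192754687 (BT.node (BT.node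 (BT.node BT.leaf 103305538577461411839 BT.leaf) 24276631551 (BT.node BT.leaf 1762660450303 BT.leaf)) 3096224743817215 (BT.node (BT.node BT.leaf 1879048191 BT.leaf) 7379640570655801343 BT.leaf))))

/-- subtree -/
def WT_95 : BT := (BT.node (BT.node (BT.node (BT.node (BT.node BT.leaf 97390341941886975 BT.leaf) 6079914902028287 (BT.node BT.leaf 26681630035552031997951 BT.leaf)) 10311368703 (BT.node (BT.node BT.leaf 90597807 BT.leaf) 97067728895 BT.leaf)) 29574012853035204607 (BT.node (BT.node (BT.node BT.leaf 29615671149588381695 BT.leaf) 161923071 (BT.node BT.leaf 99613994257901158399 BT.leaf)) 380018706350079 (BT.node (BT.node BT.leaf 10401873919 BT.leaf) 1504116735 BT.leaf))) 732274744098815 (BT.node (BT.node (BT.node (BT.node BT.leaf 454192791551 BT.leaf) 629375 (BT.node BT.leaf 92784754687 BT.leaf)) 22649855 (BT.node (BT.node BT.leaf 41245122559 BT.leaf) 6066696191 BT.leaf)) 170431 (BT.node (BT.node (BT.node BT.leaf 2590415359 BT.leaf) 105553116266495 BT.leaf) 2927724586860543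 (BT.node (BT.node BT.leaf 5951130173439 BT.leaf) 92671 BT.leaf))))

/-- subtree -/
def WT_96 : BT := BT.node WT_94 7086931967 WT_95

/-- subtree -/
def WT_97 : BT := (BT.node (BT.node (BT.node (BT.node (BT.node BT.leaf 23295 BT.leaf) 6016335871 (BT.node BT.leaf 451240471298047 BT.leaf)) 1759439224831 (BT.node (BT.node BT.leaf 2717992743862271 BT.leaf) 6308563928481791 BT.leaf)) 42451456753663 (BT.node (BT.node (BT.node BT.leaf 6226678384118726655 BT.leaf) 43624047 (BT.node BT.leaf 388275109887 BT.leaf)) 25221061574393855 (BT.node (BT.node BT.leaf 12015603805824483327 BT.leaf) 92986671103 BT.leaf))) 25244786973736959 (BT.node (BT.node (BT.node (BT.node BT.leaf 734473767354367 BT.leaf) 97291935651201023 (BT.node BT.leaf 182973123002367 BT.leaf)) 2791964671 (BT.node (BT.node BT.leaf 2559 BT.leaf) 1899956092796927 BT.leaf)) 7385903388887613439 (BT.node (BT.node (BT.node BT.leaf 10069759 BT.leaf) 110175977471 BT.leaf) 1857790251368447 (BT.node (BT.node BT.leaf 118073686180539400191 BT.leaf)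 7432698603765759 BT.leaf))))

/-- subtree -/
def WT_98 : BT := (BT.node (BT.node (BT.node (BT.node (BT.node BT.leaf 6712319 BT.leaf) 389174339674570751 (BT.node BT.leaf 11392769488158025842687 BT.leaf)) 439965712383 (BT.node (BT.node BT.leaf 6655 BT.leaf) 1523579518713855 BT.leaf)) 12279082398424166825983 (BT.node (BT.node (BT.node BT.leaf 394290882674687 BT.leaf) 423 (BT.node BT.leaf 29724639726927871 BT.leaf)) 1804968596078591 (BT.node (BT.node BT.leaf 10812167850819583 BT.leaf) 101049516639125503 BT.leaf))) 100937091575185407 (BT.node (BT.node (BT.node (BT.node BT.leaf 362479615 BT.leaf) 112605452566527 (BT.node BT.leaf 24053284863 BT.leaf)) 1539376676863 (BT.node (BT.node BT.leaf 90597823 BT.leaf) 95039036325887 BT.leaf)) 41339060223 (BT.node (BT.node (BT.node BT.leaf 362441727 BT.leaf) 173107110677053439 BT.leaf) 10069631 (BT.node (BT.node BT.leaf 1560215795907166207 BT.leaf) 6122080743456767 BT.leaf))))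

/-- subtree -/
def WT_99 : BT := BT.node WT_97 161113791 WT_98

/-- subtree -/
def WT_100 : BT := BT.node WT_96 5785 WT_99

/-- subtree -/
def WT_101 : BT := (BT.node (BT.node (BT.node (BT.node (BT.node BT.leaf 100663295 BT.leaf) 1771726847 (BT.node BT.leaf 1487937732607 BT.leaf)) 7043746365439 (BT.node (BT.node BT.leaf 99627223581806559231 BT.leaf) 767449405300951482367 BT.leaf)) 24903340234800889855 (BT.node (BT.node (BT.node BT.leaf 700448767 BT.leaf) 107388927 (BT.node BT.leaf 11458972745727 BT.leaf)) 96368328703 (BT.node (BT.node BT.leaf 11991287006664589311 BT.leaf) 28347625471 BT.leaf))) 6016315391 (BT.node (BT.node (BT.node (BT.node BT.leaf 11710245512413183 BT.leaf) 430336447 (BT.node BT.leaf 419583 BT.leaf)) 1590443569577983 (BT.node (BT.node BT.leaf 1845068472338350079 BT.leaf) 2792095743 BT.leaf)) 112603841953791 (BT.node (BT.node (BT.node BT.leaf 5838471167 BT.leaf) 2767954552228413439 (BT.node BT.leaf 165087805439 BT.leaf)) 703687441776639 (BT.node (BT.node BT.leaf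 90636287 BT.leaf) 92784820223 BT.leaf))))

/-- subtree -/
def WT_102 : BT := (BT.node (BT.node (BT.node (BT.node (BT.node BT.leaf 88678 BT.leaf) 96261111807 (BT.node BT.leaf 370287 BT.leaf)) 1721352191 (BT.node (BT.node BT.leaf 40484863 BT.leaf) 376025087 BT.leaf)) 1677931 (BT.node (BT.node (BT.node BT.leaf 1829587348619263 BT.leaf) 6403555720167423 (BT.node BT.leaf 371145572351 BT.leaf)) 5675439 (BT.node (BT.node BT.leaf 7088373759 BT.leaf) 25288767438847 BT.leaf))) 105071 (BT.node (BT.node (BT.node (BT.node BT.leaf 2767919367856324607 BT.leaf) 1811939327 (BT.node BT.leaf 39423 BT.leaf)) 174496767 (BT.node (BT.node BT.leaf 1468063 BT.leaf) 24075304959 BT.leaf)) 99637638155944853503 (BT.node (BT.node (BT.node BT.leaf 24052678655 BT.leaf) 10311286783 BT.leaf) 5938223251455 (BT.node (BT.node BT.leaf 116548232544255 BT.leaf) 2592079871 BT.leaf))))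

/-- subtree -/
def WT_103 : BT := BT.node WT_101 22938 WT_102

/-- subtree -/
def WT_104 : BT := (BT.node (BT.node (BT.node (BT.node (BT.node BT.leaf 1653757811967465095167 BT.leaf) 10864991653593087 (BT.node BT.leaf 25473485392314367 BT.leaf)) 44286621924770971647 (BT.node (BT.node BT.leaf 4095 BT.leaf) 1593813493552280240127 BT.leaf)) 24272437247 (BT.node (BT.node (BT.node BT.leaf 5685247 BT.leaf) 6079955704217599 (BT.node BT.leaf 372051542015 BT.leaf)) 173036741932875775 (BT.node (BT.node BT.leaf 27721727 BT.leaf) 188978561023 BT.leaf))) 679062246785023 (BT.node (BT.node (BT.node (BT.node BT.leaf 106726448084614090063871 BT.leaf) 371088556031 (BT.node BT.leaf 27055 BT.leaf)) 2529727 (BT.node (BT.node BT.leaf 1805054495424511 BT.leaf) 30438703981490339839 BT.leaf)) 158106 (BT.node (BT.node (BT.node BT.leaf 634879 BT.leaf) 6305269688565759 BT.leaf) 11435781390335 (BT.node (BT.node BT.leaf 5663131 BT.leaf) 450417515298815 BT.leaf))))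

/-- subtree -/
def WT_105 : BT := (BT.node (BT.node (BT.node (BT.node (BT.node BT.leaf 45571068945432848629759 BT.leaf) 629355 (BT.node BT.leaf 1546188226559 BT.leaf)) 1857792398852095 (BT.node (BT.node BT.leaf 9882 BT.leaf) 353897 BT.leaf)) 6305261098631167 (BT.node (BT.node (BT.node BT.leaf 44694503423 BT.leaf) 107584255 (BT.node BT.leaf 1681023 BT.leaf)) 725591869500259523624959 (BT.node (BT.node BT.leaf 5944234737663 BT.leaf) 2555903 BT.leaf))) 25832647462597165055 (BT.node (BT.node (BT.node (BT.node BT.leaf 5924543 BT.leaf) 5875711 (BT.node BT.leaf 475622341896830975 BT.leaf)) 23194501119 (BT.node (BT.node BT.leaf 6725631 BT.leaf) 1681001 BT.leaf)) 11072099683890364415 (BT.node (BT.node (BT.node BT.leaf 114687 BT.leaf) 43461495622729727 BT.leaf) 2998271451921907711 (BT.node (BT.node BT.leaf 1628517458224611327 BT.leaf) 22702079 BT.leaf))))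

/-- subtree -/
def WT_106 : BT := BT.node WT_104 805306367 WT_105

/-- subtree -/
def WT_107 : BT := BT.node WT_103 1452998655 WT_106

/-- subtree -/
def WT_108 : BT := BT.node WT_100 91 WT_107

/-- subtree -/
def WT_109 : BT := (BT.node (BT.node (BT.node (BT.node (BT.node BT.leaf 1807597116063743 BT.leaf) 375848959 (BT.node BT.leaf 721554505727 BT.leaf)) 91803 (BT.node (BT.node BT.leaf 1481727 BT.leaf) 99627505056783269887 BT.leaf)) 398460480631232004095 (BT.node (BT.node (BT.node BT.leaf 432551 BT.leaf) 1647 (BT.node BT.leaf 70368744177663 BT.leaf)) 43910096366862335 (BT.node (BT.node BT.leaf 6375252848309214117887 BT.leaf) 178710904831 BT.leaf))) 47 (BT.node (BT.node (BT.node (BT.node BT.leaf 7431186775277567 BT.leaf) 43248645633474559 (BT.node BT.leaf 40475263 BT.leaf)) 1970324836974591 (BT.node (BT.node BT.leaf 97291866931724287 BT.leaf) 5938262048767 BT.leaf)) 1848283444337967103 (BT.node (BT.node (BT.node BT.leaf 476255660594429951 BT.leaf) 28879394458042367 (BT.node BT.leaf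 375823359 BT.leaf)) 1577180710567935 (BT.node (BT.node BT.leaf 375822847 BT.leaf) 22175 BT.leaf))))

/-- subtree -/
def WT_110 : BT := (BT.node (BT.node (BT.node (BT.node (BT.node BT.leaf 2716257577074687 BT.leaf) 6457035965742448639 (BT.node BT.leaf 169788647145471 BT.leaf)) 97671816918597631 (BT.node (BT.node BT.leaf 100943963522859007 BT.leaf) 107589631 BT.leaf)) 426905648223268284399615 (BT.node (BT.node (BT.node BT.leaf 92159 BT.leaf) 94998687121407 (BT.node BT.leaf 1539745775615 BT.leaf)) 464818540642303 (BT.node (BT.node BT.leaf 97067204607 BT.leaf) 2716247376527359 BT.leaf))) 28312424415231 (BT.node (BT.node (BT.node (BT.node BT.leaf 354303 BT.leaf) 6361392026222591 (BT.node BT.leaf 2590507007 BT.leaf)) 26846975 (BT.node (BT.node BT.leaf 23750095405055 BT.leaf) 28879772415164415 BT.leaf)) 11263 (BT.node (BT.node (BT.node BT.leaf 659948568575 BT.leaf) 196465228302794121805823 BT.leaf) 25455893206269951 (BT.node (BT.node BT.leaf 2663 BT.leaf) 10313793535 BT.leaf))))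

/-- subtree -/
def WT_111 : BT := BT.node WT_109 398478495029741486079 WT_110

/-- subtree -/
def WT_112 : BT := (BT.node (BT.node (BT.node (BT.node (BT.node BT.leaf 10907155347537919 BT.leaf) 43007 (BT.node BT.leaf 6079921344479231 BT.leaf)) 362393599 (BT.node (BT.node BT.leaf 28349300735 BT.leaf) 1814288138239 BT.leaf)) 107741183 (BT.node (BT.node (BT.node BT.leaf 110733055 BT.leaf) 416997296697488965631 (BT.node BT.leaf 101782890894852095 BT.leaf)) 43460396111101951 (BT.node (BT.node BT.leaf 390018764604702719 BT.leaf) 10812253750165503 BT.leaf))) 17179869183 (BT.node (BT.node (BT.node (BT.node BT.leaf 104225011773258858495 BT.leaf) 6921215 (BT.node BT.leaf 26446181847033102467071 BT.leaf)) 47965143628611846143 (BT.node (BT.node BT.leaf 2848193497939413303295 BT.leaf) 6912212991 BT.leaf)) 95219424952319 (BT.node (BT.node (BT.node BT.leaf 24644522344447 BT.leaf) 1484355796991 BT.leaf) 26446217875830121431039 (BT.node (BT.node BT.leaf 792633534417207295 BT.leaf) 1814254583807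 BT.leaf))))

/-- subtree -/
def WT_113 : BT := (BT.node (BT.node (BT.node (BT.node (BT.node BT.leaf 24849338597375 BT.leaf) 41452306431 (BT.node BT.leaf 2662879723519 BT.leaf)) 116273354637311 (BT.node (BT.node BT.leaf 5798363135 BT.leaf) 43630591 BT.leaf)) 375914495 (BT.node (BT.node (BT.node BT.leaf 7792146089674941661183 BT.leaf) 663148822527 (BT.node BT.leaf 2518015 BT.leaf)) 1449771007 (BT.node (BT.node BT.leaf 632447 BT.leaf) 10720238370815 BT.leaf))) 6485183463413514239 (BT.node (BT.node (BT.node (BT.node BT.leaf 442941439 BT.leaf) 1560497270883876863 (BT.node BT.leaf 6214817677311 BT.leaf)) 481036337151 (BT.node (BT.node BT.leaf 24931927537123065855 BT.leaf) 2639710388223 BT.leaf)) 26266 (BT.node (BT.node (BT.node BT.leaf 88474 BT.leaf) 385053884415 BT.leaf) 161120255 (BT.node (BT.node BT.leaf 10558751375359 BT.leaf) 663146332159 BT.leaf))))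

/-- subtree -/
def WT_114 : BT := BT.node WT_112 23698047 WT_113

/-- subtree -/
def WT_115 : BT := BT.node WT_111 115545477939724287 WT_114

/-- subtree -/
def WT_116 : BT := (BT.node (BT.node (BT.node (BT.node (BT.node BT.leaf 23845658427391 BT.leaf) 3026418949592973311 (BT.node BT.leaf 7050633412607 BT.leaf)) 7050725687295 (BT.node (BT.node BT.leaf 3377699720527871 BT.leaf) 113481089023 BT.leaf)) 101805980639035391 (BT.node (BT.node (BT.node BT.leaf 1576424796323839 BT.leaf) 28209345200127 (BT.node BT.leaf 451241075277823 BT.leaf)) 1889187986087885144063 (BT.node (BT.node BT.leaf 1556458214919241727 BT.leaf) 23193038847 BT.leaf))) 26303 (BT.node (BT.node (BT.node (BT.node BT.leaf 97284788825620479 BT.leaf) 187462334489296895 (BT.node BT.leaf 23752897200127 BT.leaf)) 1553074225151 (BT.node (BT.node BT.leaf 1048575 BT.leaf) 1455423487 BT.leaf)) 44297405934816198655 (BT.node (BT.node (BT.node BT.leaf 173839935176966143 BT.leaf) 6926335 BT.leaf) 27034 (BT.node (BT.node BT.leaf 1614149040272834559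 BT.leaf) 115306883916496895 BT.leaf))))

/-- subtree -/
def WT_117 : BT := (BT.node (BT.node (BT.node (BT.node (BT.node BT.leaf 2530047 BT.leaf) 11441792876543 (BT.node BT.leaf 644455039 BT.leaf)) 22943 (BT.node (BT.node BT.leaf 121759319525588729855 BT.leaf) 430336511 BT.leaf)) 11126142879418810367 (BT.node (BT.node (BT.node BT.leaf 5811732479 BT.leaf) 96217333759 (BT.node BT.leaf 379322367 BT.leaf)) 110733311 (BT.node (BT.node BT.leaf 408016254349383741472767 BT.leaf) 1556468660279705599 BT.leaf))) 7096762367 (BT.node (BT.node (BT.node (BT.node BT.leaf 94792127 BT.leaf) 647610367 (BT.node BT.leaf 40475391 BT.leaf)) 2927560035926015 (BT.node (BT.node BT.leaf 206158430207 BT.leaf) 395824185999359 BT.leaf)) 90597887 (BT.node (BT.node (BT.node BT.leaf 27541569535 BT.leaf) 1521724092841983 BT.leaf) 1516683263 (BT.node (BT.node BT.leaf 5937792286719 BT.leaf) 9833 BT.leaf))))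

/-- subtree -/
def WT_118 : BT := BT.node WT_116 161115135 WT_117

/-- subtree -/
def WT_119 : BT := (BT.node (BT.node (BT.node (BT.node (BT.node BT.leaf 6361389878738943 BT.leaf) 184717953466367 (BT.node BT.leaf 88486 BT.leaf)) 421887 (BT.node (BT.node BT.leaf 6213743935487 BT.leaf) 95245194756095 BT.leaf)) 48378511622143 (BT.node (BT.node (BT.node BT.leaf 94998670344191 BT.leaf) 462093950828675071 (BT.node BT.leaf 162529279 BT.leaf)) 1449761791 (BT.node (BT.node BT.leaf 40475239 BT.leaf) 475594854106136575 BT.leaf))) 1614146841249579007 (BT.node (BT.node (BT.node (BT.node BT.leaf 430342143 BT.leaf) 654311423 (BT.node BT.leaf 1504182271 BT.leaf)) 1721761791 (BT.node (BT.node BT.leaf 29360127 BT.leaf) 416900469305500499967 BT.leaf)) 462744861712318463 (BT.node (BT.node (BT.node BT.leaf 23501823 BT.leaf) 353903 BT.leaf) 268435455 (BT.node (BT.node BT.leaf 44503023405303332863 BT.leaf) 413222154309845647359 BT.leaf))))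

/-- subtree -/
def WT_120 : BT := (BT.node (BT.node (BT.node (BT.node (BT.node BT.leaf 5873663 BT.leaf) 9881 (BT.node BT.leaf 97106526207 BT.leaf)) 398455977031604633599 (BT.node (BT.node BT.leaf 165788254207 BT.leaf) 52776558133247 BT.leaf)) 7050641801215 (BT.node (BT.node (BT.node BT.leaf 1520074825400319 BT.leaf) 1628515808957169663 (BT.node BT.leaf 108003327 BT.leaf)) 12384898975268863 (BT.node (BT.node BT.leaf 41607495679 BT.leaf) 121752282651170963455 BT.leaf))) 167503724543 (BT.node (BT.node (BT.node (BT.node BT.leaf 7516192767 BT.leaf) 6016466943 (BT.node BT.leaf 372588412927 BT.leaf)) 1773142015 (BT.node (BT.node BT.leaf 29518562282623205375 BT.leaf) 2929098976395263 BT.leaf)) 108143 (BT.node (BT.node (BT.node BT.leaf 1487803514879 BT.leaf) 28347727871 BT.leaf) 1816771166207 (BT.node (BT.node BT.leaf 10361700351 BT.leaf) 101330991615836159 BT.leaf))))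

/-- subtree -/
def WT_121 : BT := BT.node WT_119 647692287 WT_120

/-- subtree -/
def WT_122 : BT := BT.node WT_118 2662 WT_121

/-- subtree -/
def WT_123 : BT := BT.node WT_115 10610448269311 WT_122

/-- subtree -/
def WT_124 : BT := BT.node WT_108 24849179213823 WT_123

/-- subtree -/
def WT_125 : BT := BT.node WT_93 11821949021847551 WT_124

/-- subtree -/
def WT_126 : BT := BT.node WT_62 106495 WT_125

/-- subtree -/
def WT_127 : BT := (BT.node (BT.node (BT.node (BT.node (BT.node BT.leaf 2517503 BT.leaf) 47287796087390207 (BT.node BT.leaf 1590718447484927 BT.leaf)) 24319659608113151 (BT.node (BT.node BT.leaf 371139018751 BT.leaf) 413221591359892226047 BT.leaf)) 385070661631 (BT.node (BT.node (BT.node BT.leaf 370281 BT.leaf) 90599423 (BT.node BT.leaf 39343 BT.leaf)) 6920959 (BT.node (BT.node BT.leaf 41245474815 BT.leaf) 164980490239 BT.leaf))) 110166147071 (BT.node (BT.node (BT.node (BT.node BT.leaf 24631637442559 BT.leaf) 362391231 (BT.node BT.leaf 24266784767 BT.leaf)) 749455369197060095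 (BT.node (BT.node BT.leaf 23193059327 BT.leaf) 388270915583 BT.leaf)) 681727 (BT.node (BT.node (BT.node BT.leaf 22652671 BT.leaf) 24382769857560575 (BT.node BT.leaf 118296051412140818431 BT.leaf)) 10361661439 (BT.node (BT.node BT.leaf 110167588863 BT.leaf) 440771018751 BT.leaf))))

/-- subtree -/
def WT_128 : BT := (BT.node (BT.node (BT.node (BT.node (BT.node BT.leaf 1610612735 BT.leaf) 5530 (BT.node BT.leaf 5938329157631 BT.leaf)) 1484557123583 (BT.node (BT.node BT.leaf 6885383167 BT.leaf) 1594035577308904947711 BT.leaf)) 1864771720708095 (BT.node (BT.node (BT.node BT.leaf 1681151 BT.leaf) 5924607 (BT.node BT.leaf 44673531903 BT.leaf)) 1718222847 (BT.node (BT.node BT.leaf 173839866457489407 BT.leaf) 2791948287 BT.leaf))) 26846911 (BT.node (BT.node (BT.node (BT.node BT.leaf 2641404887039 BT.leaf) 453562007551 (BT.node BT.leaf 28347629567 BT.leaf)) 384842858495 (BT.node (BT.node BT.leaf 90807039 BT.leaf) 367023 BT.leaf)) 6713343 (BT.node (BT.node (BT.node BT.leaf 42601 BT.leaf) 41473277951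 BT.leaf) 44286709885701193727 (BT.node (BT.node BT.leaf 27541635071 BT.leaf) 1801661471260671 BT.leaf))))

/-- subtree -/
def WT_129 : BT := BT.node WT_127 410 WT_128

/-- subtree -/
def WT_130 : BT := (BT.node (BT.node (BT.node (BT.node (BT.node BT.leaf 407575766277029887 BT.leaf) 23489023 (BT.node BT.leaf 29273397577908223 BT.leaf)) 11258999068426239 (BT.node (BT.node BT.leaf 96261046271 BT.leaf) 23807003721727 BT.leaf)) 164980588543 (BT.node (BT.node (BT.node BT.leaf 113413980159 BT.leaf) 1418863 (BT.node BT.leaf 25447097113247743 BT.leaf)) 398453443756814237695 (BT.node (BT.node BT.leaf 23247978495 BT.leaf) 28991029247 BT.leaf))) 647757823 (BT.node (BT.node (BT.node (BT.node BT.leaf 93415538687 BT.leaf) 1541893259263 (BT.node BT.leaf 708585950796335546367 BT.leaf)) 385204879359 (BT.node (BT.node BT.leaf 102456891522678783 BT.leaf) 1450180607 BT.leaf)) 187363928198610943 (BT.node (BT.node (BT.node BT.leaf 112699941847039 BT.leaf) 95011572023295 BT.leaf) 404620279021567 (BT.node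 (BT.node BT.leaf 1540177788927 BT.leaf) 29521095557413601279 BT.leaf))))

/-- subtree -/
def WT_131 : BT := (BT.node (BT.node (BT.node (BT.node (BT.node BT.leaf 91801 BT.leaf) 630783 (BT.node BT.leaf 6016401407 BT.leaf)) 44287272835654615039 (BT.node (BT.node BT.leaf 191860592106633428991 BT.leaf) 6291455 BT.leaf)) 26223 (BT.node (BT.node (BT.node BT.leaf 2530303 BT.leaf) 6227352384746553343 (BT.node BT.leaf 47965587831309467647 BT.leaf)) 364904447 (BT.node (BT.node BT.leaf 23196598271 BT.leaf) 162004991 BT.leaf))) 6023020543 (BT.node (BT.node (BT.node (BT.node BT.leaf 5799051263 BT.leaf) 172994960491020287 (BT.node BT.leaf 2767913870298185727 BT.leaf)) 26896027 (BT.node (BT.node BT.leaf 107584511 BT.leaf) 1504706559 BT.leaf)) 6226701473862909951 (BT.node (BT.node (BT.node BT.leaf 7037740122111 BT.leaf) 400222232510463 BT.leaf) 7284264534015 (BT.node (BT.node BT.leaf 716185796607 BT.leaf) 5664767 BT.leaf))))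

/-- subtree -/
def WT_132 : BT := BT.node WT_130 11207180287 WT_131

/-- subtree -/
def WT_133 : BT := BT.node WT_129 183343563931647 WT_132

/-- subtree -/
def WT_134 : BT := (BT.node (BT.node (BT.node (BT.node (BT.node BT.leaf 1592092837019647 BT.leaf) 731890344525823 (BT.node BT.leaf 23142 BT.leaf)) 91753 (BT.node (BT.node BT.leaf 440234147839 BT.leaf) 174505983 BT.leaf)) 114349209288703 (BT.node (BT.node (BT.node BT.leaf 371138953215 BT.leaf) 6711807 (BT.node BT.leaf 43980465111039 BT.leaf)) 1580547964927 (BT.node (BT.node BT.leaf 679061978349567 BT.leaf) 376019711 BT.leaf))) 6016319487 (BT.node (BT.node (BT.node (BT.node BT.leaf 10906047 BT.leaf) 92996108287 (BT.node BT.leaf 115316779521146879 BT.leaf)) 30226935719812124377087 (BT.node (BT.node BT.leaf 644455423 BT.leaf) 43778047 BT.leaf)) 10317987839 (BT.node (BT.node (BT.node BT.leaf 443023359 BT.leaf) 103359863247966568447 (BT.node BT.leaf 1771726591 BT.leaf)) 1597498845422352859135 (BT.node (BT.node BT.leaf 2463 BT.leaf)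 110732927 BT.leaf))))

/-- subtree -/
def WT_135 : BT := (BT.node (BT.node (BT.node (BT.node (BT.node BT.leaf 23501567 BT.leaf) 1503292415 (BT.node BT.leaf 1556458764675055615 BT.leaf)) 172997159514275839 (BT.node (BT.node BT.leaf 354714 BT.leaf) 90812415 BT.leaf)) 749455437916536831 (BT.node (BT.node (BT.node BT.leaf 413232287409007230975 BT.leaf) 113246207 (BT.node BT.leaf 103079215103 BT.leaf)) 178684690431 (BT.node (BT.node BT.leaf 1762664644607 BT.leaf) 1628614215247855615 BT.leaf))) 7212796278210559 (BT.node (BT.node (BT.node (BT.node BT.leaf 353983 BT.leaf) 1718202367 (BT.node BT.leaf 115306334160683007 BT.leaf)) 25501020400436111212543 (BT.node (BT.node BT.leaf 6080740609490943 BT.leaf) 380053066088447 BT.leaf)) 169049912770559 (BT.node (BT.node (BT.node BT.leaf 11733988091625471 BT.leaf) 1487870623743 BT.leaf) 25895697857380351 (BT.node (BT.node BT.leaf 95011655909375 BT.leaf) 29027968483327 BT.leaf))))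

/-- subtree -/
def WT_136 : BT := BT.node WT_134 99402723098623 WT_135

/-- subtree -/
def WT_137 : BT := (BT.node (BT.node (BT.node (BT.node (BT.node BT.leaf 1855425871871 BT.leaf) 98571378491391 (BT.node BT.leaf 440664522751 BT.leaf)) 1814248292351 (BT.node (BT.node BT.leaf 1503297535 BT.leaf) 41456500735 BT.leaf)) 6554 (BT.node (BT.node (BT.node BT.leaf 353946 BT.leaf) 24629942943743 (BT.node BT.leaf 1873497444986126335 BT.leaf)) 5978594476031 (BT.node (BT.node BT.leaf 717259538431 BT.leaf) 119345390125318143 BT.leaf))) 5811650559 (BT.node (BT.node (BT.node (BT.node BT.leaf 720575940379279359 BT.leaf) 98681168592895 (BT.node BT.leaf 5875327 BT.leaf)) 107593727 (BT.node (BT.node BT.leaf 23489535 BT.leaf) 6160706961407 BT.leaf)) 45349500850965474967551 (BT.node (BT.node (BT.node BT.leaf 40370175 BT.leaf) 379174911 BT.leaf) 429654015 (BT.node (BT.node BT.leaf 1523648238190591 BT.leaf) 24653112279039 BT.leaf))))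

/-- subtree -/
def WT_138 : BT := (BT.node (BT.node (BT.node (BT.node (BT.node BT.leaf 2859106041855 BT.leaf) 2726527 (BT.node BT.leaf 10558757666815 BT.leaf)) 6557241057451442175 (BT.node (BT.node BT.leaf 2834385461481895362559 BT.leaf) 109966262271 BT.leaf)) 2654289788927 (BT.node (BT.node (BT.node BT.leaf 7258494730239 BT.leaf) 92811558911 (BT.node BT.leaf 12279077894824539455487 BT.leaf)) 11125751453279322111 (BT.node (BT.node BT.leaf 2834349432684876398591 BT.leaf) 90807295 BT.leaf))) 11991291404711100415 (BT.node (BT.node (BT.node (BT.node BT.leaf 422212465065983 BT.leaf) 100884246297575423 (BT.node BT.leaf 29730794415063039 BT.leaf)) 403748366300741631 (BT.node (BT.node BT.leaf 11710898347442175 BT.leaf) 48062415223297933311 BT.leaf)) 644455167 (BT.node (BT.node (BT.node BT.leaf 1449918463 BT.leaf) 23804520693759 BT.leaf) 371946684415 (BT.node (BT.node BT.leaf 26849279 BT.leaf) 450421810266111 BT.leaf))))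

/-- subtree -/
def WT_139 : BT := BT.node WT_137 385049690111 WT_138

/-- subtree -/
def WT_140 : BT := BT.node WT_136 26084849041729912831 WT_139

/-- subtree -/
def WT_141 : BT := BT.node WT_133 6566 WT_140

/-- subtree -/
def WT_142 : BT := (BT.node (BT.node (BT.node (BT.node (BT.node BT.leaf 100979147894947839 BT.leaf) 1556697358698283007 (BT.node BT.leaf 96213139455 BT.leaf)) 23143 (BT.node (BT.node BT.leaf 2937895069417471 BT.leaf) 45571077952632103370751 BT.leaf)) 6157506707455 (BT.node (BT.node (BT.node BT.leaf 93183 BT.leaf) 389167742604804095 (BT.node BT.leaf 1759862849535 BT.leaf)) 362391295 (BT.node (BT.node BT.leaf 24065343487 BT.leaf) 731892492009471 BT.leaf))) 26623 (BT.node (BT.node (BT.node (BT.node BT.leaf 380156145303551 BT.leaf) 1804961885192191 (BT.node BT.leaf 11167858687 BT.leaf)) 6094318074855423 (BT.node (BT.node BT.leaf 165356240895 BT.leaf) 7037756899327 BT.leaf)) 10239 (BT.node (BT.node (BT.node BT.leaf 49116329593696667303935 BT.leaf) 1449766911 (BT.node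 BT.leaf 10871970975449087 BT.leaf)) 7599824371187711 (BT.node (BT.node BT.leaf 1577163530698751 BT.leaf) 692428442708213759 BT.leaf))))

/-- subtree -/
def WT_143 : BT := (BT.node (BT.node (BT.node (BT.node (BT.node BT.leaf 29543613555550453759 BT.leaf) 1695 (BT.node BT.leaf 40278527 BT.leaf)) 169805827014655 (BT.node (BT.node BT.leaf 40279039 BT.leaf) 118898558907711487 BT.leaf)) 6240863183628664831 (BT.node (BT.node (BT.node BT.leaf 24906713536474906623 BT.leaf) 440703909887 (BT.node BT.leaf 7219874384314367 BT.leaf)) 24488322973827071 (BT.node (BT.node BT.leaf 174496191 BT.leaf) 7431161005473791 BT.leaf))) 43248671403278335 (BT.node (BT.node (BT.node (BT.node BT.leaf 367 BT.leaf) 1553100439551 (BT.node BT.leaf 472294744722157600767 BT.leaf)) 404198066556502015 (BT.node (BT.node BT.leaf 24575 BT.leaf) 22127 BT.leaf)) 2517403 (BT.node (BT.node (BT.node BT.leaf 29525599157040971775 BT.leaf) 7393784688235511807 BT.leaf) 171007 (BT.node (BT.node BT.leaf 9883 BT.leaf) 6219112644607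 BT.leaf))))

/-- subtree -/
def WT_144 : BT := BT.node WT_142 25234255713927167 WT_143

/-- subtree -/
def WT_145 : BT := (BT.node (BT.node (BT.node (BT.node (BT.node BT.leaf 24325595252916223 BT.leaf) 2858946658303 (BT.node BT.leaf 1730559 BT.leaf)) 187365577466052607 (BT.node (BT.node BT.leaf 26056701544058847231 BT.leaf) 403749465812369407 BT.leaf)) 1425407 (BT.node (BT.node (BT.node BT.leaf 103305820052438122495 BT.leaf) 6920806 (BT.node BT.leaf 90611711 BT.leaf)) 1719664639 (BT.node (BT.node BT.leaf 6240229864931065855 BT.leaf) 632831 BT.leaf))) 681663 (BT.node (BT.node (BT.node (BT.node BT.leaf 2774217370460225535 BT.leaf) 23527423 (BT.node BT.leaf 446676598783 BT.leaf)) 124674193319610990723071 (BT.node (BT.node BT.leaf 22652543 BT.leaf) 1449761535 BT.leaf)) 388291887103 (BT.node (BT.node (BT.node BT.leaf 675761564418047 BT.leaf) 26217 BT.leaf) 91802 (BT.node (BT.node BT.leaf 10812163555852287 BT.leaf) 171798691839 BT.leaf))))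

/-- subtree -/
def WT_146 : BT := (BT.node (BT.node (BT.node (BT.node (BT.node BT.leaf 30282235419636606697471 BT.leaf) 6174015487 (BT.node BT.leaf 6079917049511935 BT.leaf)) 420251 (BT.node (BT.node BT.leaf 2652585852927 BT.leaf) 675770154352639 BT.leaf)) 5877759 (BT.node (BT.node (BT.node BT.leaf 1468826 BT.leaf) 399373585455681372159 (BT.node BT.leaf 24323052632276991 BT.leaf)) 23501247 (BT.node (BT.node BT.leaf 354735 BT.leaf) 27491172351 BT.leaf))) 12279118427221185789951 (BT.node (BT.node (BT.node (BT.node BT.leaf 2927560304361471 BT.leaf) 1563368095743 (BT.node BT.leaf 363266047 BT.leaf)) 1614188622691434495 (BT.node (BT.node BT.leaf 28454158335 BT.leaf) 450456170004479 BT.leaf)) 442367 (BT.node (BT.node (BT.node BT.leaf 2797600767 BT.leaf) 118073967655516110847 BT.leaf) 16777215 (BT.node (BT.node BT.leaf 7609517665698185215 BT.leaf) 2955487255461887 BT.leaf))))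

/-- subtree -/
def WT_147 : BT := BT.node WT_145 5872235 WT_146

/-- subtree -/
def WT_148 : BT := BT.node WT_144 40304639 WT_147

/-- subtree -/
def WT_149 : BT := (BT.node (BT.node (BT.node (BT.node (BT.node BT.leaf 178018286070700965887 BT.leaf) 110821375 (BT.node BT.leaf 24066916351 BT.leaf)) 1523923116097535 (BT.node (BT.node BT.leaf 440665112575 BT.leaf) 1771732991 BT.leaf)) 2577842175 (BT.node (BT.node (BT.node BT.leaf 7403917787397095423 BT.leaf) 2600468479 (BT.node BT.leaf 157343 BT.leaf)) 1516674047 (BT.node (BT.node BT.leaf 367103 BT.leaf) 23286775807 BT.leaf))) 25826349459993264127 (BT.node (BT.node (BT.node (BT.node BT.leaf 1415791 BT.leaf) 3298534883327 (BT.node BT.leaf 92987719679 BT.leaf)) 432559 (BT.node (BT.node BT.leaf 27548188671 BT.leaf) 774056185954303 BT.leaf)) 24347585485471743 (BT.node (BT.node (BT.node BT.leaf 22649451 BT.leaf) 40480767 BT.leaf) 376029183 (BT.node (BT.node BT.leaf 23196188671 BT.leaf) 42607 BT.leaf))))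

/-- subtree -/
def WT_150 : BT := (BT.node (BT.node (BT.node (BT.node (BT.node BT.leaf 6758 BT.leaf) 2458 (BT.node BT.leaf 6885474303 BT.leaf)) 6750207 (BT.node (BT.node BT.leaf 6333186975989759 BT.leaf) 1539477340159 BT.leaf)) 25826384644365352959 (BT.node (BT.node (BT.node BT.leaf 469762047 BT.leaf) 1519978725507071 (BT.node BT.leaf 24266932223 BT.leaf)) 24903498564475289599 (BT.node (BT.node BT.leaf 183068686024703 BT.leaf) 5662463 BT.leaf))) 647603839 (BT.node (BT.node (BT.node (BT.node BT.leaf 101782238059823103 BT.leaf) 647606271 (BT.node BT.leaf 6885384191 BT.leaf)) 2781438962831458303 (BT.node (BT.node BT.leaf 10468982783 BT.leaf) 99419902967807 BT.leaf)) 1449566207 (BT.node (BT.node (BT.node BT.leaf 6069157887 BT.leaf) 1844910142663950335 BT.leaf) 6670407508888007999487 (BT.node (BT.node BT.leaf 7393503213258801151 BT.leaf) 95004676587519 BT.leaf))))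

/-- subtree -/
def WT_151 : BT := BT.node WT_149 10361765887 WT_150

/-- subtree -/
def WT_152 : BT := (BT.node (BT.node (BT.node (BT.node (BT.node BT.leaf 10311280639 BT.leaf) 17592186044415 (BT.node BT.leaf 11 BT.leaf)) 492581209243647 (BT.node (BT.node BT.leaf 119063915148607487 BT.leaf) 93955711 BT.leaf)) 1614258991435612159 (BT.node (BT.node (BT.node BT.leaf 26897407 BT.leaf) 384936443903 (BT.node BT.leaf 7078106103807 BT.leaf)) 6711743 (BT.node (BT.node BT.leaf 164987142143 BT.leaf) 2578448383 BT.leaf))) 1519980336119807 (BT.node (BT.node (BT.node (BT.node BT.leaf 26935295 BT.leaf) 10865099027775487 (BT.node BT.leaf 10977524091715583 BT.leaf)) 1857796693819391 (BT.node (BT.node BT.leaf 24322966732931071 BT.leaf) 7219848614510591 BT.leaf)) 5543 (BT.node (BT.node (BT.node BT.leaf 42447161786367 BT.leaf) 106726412055817071099903 BT.leaf) 116204635160575 (BT.node (BT.node BT.leaf 88575 BT.leaf) 5937523851263 BT.leaf))))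

/-- subtree -/
def WT_153 : BT := (BT.node (BT.node (BT.node (BT.node (BT.node BT.leaf 28886369484931071 BT.leaf) 90598399 (BT.node BT.leaf 27683263 BT.leaf)) 97504691151175679 (BT.node (BT.node BT.leaf 1593813212077303529471 BT.leaf) 10812161408368639 BT.leaf)) 1484565512191 (BT.node (BT.node (BT.node BT.leaf 93955839 BT.leaf) 99619623757435371519 (BT.node BT.leaf 24417954229649407 BT.leaf)) 23039 (BT.node (BT.node BT.leaf 24266801151 BT.leaf) 1590348006555647 BT.leaf))) 7219943103791103 (BT.node (BT.node (BT.node (BT.node BT.leaf 6363973301567487 BT.leaf) 2726788836884479 (BT.node BT.leaf 7087325183 BT.leaf)) 104249324174372241407 (BT.node (BT.node BT.leaf 2703063437541375 BT.leaf) 44677726207 BT.leaf)) 10118815 (BT.node (BT.node (BT.node BT.leaf 462070861084491775 BT.leaf) 394295177641983 BT.leaf) 679064394268671 (BT.node (BT.node BT.leaf 25235990880714751 BT.leaf) 23749671780351 BT.leaf))))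

/-- subtree -/
def WT_154 : BT := BT.node WT_152 49116307075698530451455 WT_153

/-- subtree -/
def WT_155 : BT := BT.node WT_151 113548197887 WT_154

/-- subtree -/
def WT_156 : BT := BT.node WT_148 46840960574816255 WT_155

/-- subtree -/
def WT_157 : BT := BT.node WT_141 370687 WT_156

/-- subtree -/
def WT_158 : BT := (BT.node (BT.node (BT.node (BT.node (BT.node BT.leaf 647626751 BT.leaf) 2815 (BT.node BT.leaf 665 BT.leaf)) 10751 (BT.node (BT.node BT.leaf 453572034559 BT.leaf) 25445722723713023 BT.leaf)) 402653183 (BT.node (BT.node (BT.node BT.leaf 1721345791 BT.leaf) 1481151 (BT.node BT.leaf 697987071 BT.leaf)) 7086907391 (BT.node (BT.node BT.leaf 1678335 BT.leaf) 6885408767 BT.leaf))) 5872255 (BT.node (BT.node (BT.node (BT.node BT.leaf 5951750930431 BT.leaf) 6361774278311935 (BT.node BT.leaf 161939455 BT.leaf)) 96301219839 (BT.node (BT.node BT.leaf 28174985461759 BT.leaf) 7380273889353400319 BT.leaf)) 1504100351 (BT.node (BT.node (BT.node BT.leaf 398550552623779414015 BT.leaf)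 398508894327226236927 (BT.node BT.leaf 11168382975 BT.leaf)) 6711727 (BT.node (BT.node BT.leaf 96210714623 BT.leaf) 3069797621203805929471 BT.leaf))))

/-- subtree -/
def WT_159 : BT := (BT.node (BT.node (BT.node (BT.node (BT.node BT.leaf 7318349394477055 BT.leaf) 41245147135 (BT.node BT.leaf 99613360939203559423 BT.leaf)) 23353884671 (BT.node (BT.node BT.leaf 25614222880669695 BT.leaf) 23752893005823 BT.leaf)) 2801795071 (BT.node (BT.node (BT.node BT.leaf 11071818208913653759 BT.leaf) 1484582289407 (BT.node BT.leaf 466192930177023 BT.leaf)) 429555711 (BT.node (BT.node BT.leaf 660351221759 BT.leaf) 22701759 BT.leaf))) 10368319487 (BT.node (BT.node (BT.node (BT.node BT.leaf 45835890982911 BT.leaf) 2814749767106559 (BT.node BT.leaf 28353495039 BT.leaf)) 5811994623 (BT.node (BT.node BT.leaf 385473314815 BT.leaf) 362545151 BT.leaf)) 101155069755391 (BT.node (BT.node (BT.node BT.leaf 6615031247869860380671 BT.leaf) 47965148026658357247 BT.leaf) 371139280895 (BT.node (BT.node BT.leaf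 420287 BT.leaf) 43459966614372351 BT.leaf))))

/-- subtree -/
def WT_160 : BT := BT.node WT_158 450415367815167 WT_159

/-- subtree -/
def WT_161 : BT := (BT.node (BT.node (BT.node (BT.node (BT.node BT.leaf 91755 BT.leaf) 11071677471425298431 (BT.node BT.leaf 101893941569257471 BT.leaf)) 24065261567 (BT.node (BT.node BT.leaf 354715 BT.leaf) 7247757311 BT.leaf)) 177146487699083886591 (BT.node (BT.node (BT.node BT.leaf 46840982049652735 BT.leaf) 385044447231 (BT.node BT.leaf 157695 BT.leaf)) 6143 (BT.node (BT.node BT.leaf 1848446172058877951 BT.leaf) 10076159 BT.leaf))) 46841394366513151 (BT.node (BT.node (BT.node (BT.node BT.leaf 25826455013109530623 BT.leaf) 1560057466232766463 (BT.node BT.leaf 5881855 BT.leaf)) 362440383 (BT.node (BT.node BT.leaf 6615103305463898308607 BT.leaf) 7570558854909151674367 BT.leaf)) 663146463231 (BT.node (BT.node (BT.node BT.leaf 99843396363920343039 BT.leaf) 6872793087 BT.leaf) 90816511 (BT.node (BT.node BT.leaf 110591 BT.leaf) 5531 BT.leaf))))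

/-- subtree -/
def WT_162 : BT := (BT.node (BT.node (BT.node (BT.node (BT.node BT.leaf 6081398813229055 BT.leaf) 6514175386014711807 (BT.node BT.leaf 498696701220849924964351 BT.leaf)) 158207 (BT.node (BT.node BT.leaf 111669149695 BT.leaf) 97072971775 BT.leaf)) 2703040888963071 (BT.node (BT.node (BT.node BT.leaf 1543503871 BT.leaf) 168942538588159 (BT.node BT.leaf 6080763158069247 BT.leaf)) 3069779606805296447487 (BT.node (BT.node BT.leaf 403547155672858623 BT.leaf) 699400191 BT.leaf))) 629350 (BT.node (BT.node (BT.node (BT.node BT.leaf 2470 BT.leaf) 714736664575 (BT.node BT.leaf 100937366453092351 BT.leaf)) 22652927 (BT.node (BT.node BT.leaf 170415 BT.leaf) 31168548329902747680767 BT.leaf)) 168940391104511 (BT.node (BT.node (BT.node BT.leaf 42949672959 BT.leaf) 1519979262377983 BT.leaf) 1469439 (BT.node (BT.node BT.leaf 5875311 BT.leaf) 731890076090367 BT.leaf))))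

/-- subtree -/
def WT_163 : BT := BT.node WT_161 42751 WT_162

/-- subtree -/
def WT_164 : BT := BT.node WT_160 113390501887 WT_163

/-- subtree -/
def WT_165 : BT := (BT.node (BT.node (BT.node (BT.node (BT.node BT.leaf 29518491913879027711 BT.leaf) 7381399789260242943 (BT.node BT.leaf 1554778161151 BT.leaf)) 432639 (BT.node (BT.node BT.leaf 356351 BT.leaf) 429916159 BT.leaf)) 693554342615056383 (BT.node (BT.node (BT.node BT.leaf 5663135 BT.leaf) 1889206000486394626047 (BT.node BT.leaf 1468058 BT.leaf)) 105062 (BT.node (BT.node BT.leaf 105840139677947576451071 BT.leaf) 88683 BT.leaf))) 390842023935 (BT.node (BT.node (BT.node (BT.node BT.leaf 112614042501119 BT.leaf) 1535 (BT.node BT.leaf 6456613753277382655 BT.leaf)) 1653775826365974577151 (BT.node (BT.node BT.leaf 1718198271 BT.leaf) 10687 BT.leaf)) 39551 (BT.node (BT.node (BT.node BT.leaf 385875967 BT.leaf) 100886788918214655 (BT.node BT.leaf 178684166143 BT.leaf)) 7792137082475686920191 (BT.node (BT.node BT.leaf 367359 BT.leaf)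 7379622978469756927 BT.leaf))))

/-- subtree -/
def WT_166 : BT := (BT.node (BT.node (BT.node (BT.node (BT.node BT.leaf 472301500121598656511 BT.leaf) 22170 (BT.node BT.leaf 462111543014719487 BT.leaf)) 390014366558191615 (BT.node (BT.node BT.leaf 1892639713727287918591 BT.leaf) 22704127 BT.leaf)) 1520349703307263 (BT.node (BT.node (BT.node BT.leaf 27917287423 BT.leaf) 42235634647039 (BT.node BT.leaf 174850047 BT.leaf)) 25234341613273087 (BT.node (BT.node BT.leaf 42235097776127 BT.leaf) 1468827 BT.leaf))) 1845349947315060735 (BT.node (BT.node (BT.node (BT.node BT.leaf 107479039 BT.leaf) 105784799445726447796223 (BT.node BT.leaf 97710505983 BT.leaf)) 2519039 (BT.node (BT.node BT.leaf 1470463 BT.leaf) 165786615807 BT.leaf)) 27647 (BT.node (BT.node (BT.node BT.leaf 1628543846503677951 BT.leaf) 24268242943 BT.leaf) 1520190789517311 (BT.node (BT.node BT.leaf 45349518865363984449535 BT.leaf) 5663231 BT.leaf))))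

/-- subtree -/
def WT_167 : BT := BT.node WT_165 89087 WT_166

/-- subtree -/
def WT_168 : BT := (BT.node (BT.node (BT.node (BT.node (BT.node BT.leaf 182972519022591 BT.leaf) 388694540287 (BT.node BT.leaf 173388585653764095 BT.leaf)) 7570587002406822739967 (BT.node (BT.node BT.leaf 28153510625279 BT.leaf) 11710348591628287 BT.leaf)) 90610095 (BT.node (BT.node (BT.node BT.leaf 24960849090980085759 BT.leaf) 1382 (BT.node BT.leaf 124674175305212481241087 BT.leaf)) 675760222240767 (BT.node (BT.node BT.leaf 767444901701324111871 BT.leaf) 178054314867719929855 BT.leaf))) 42603 (BT.node (BT.node (BT.node (BT.node BT.leaf 379994815594495 BT.leaf) 1778384895 (BT.node BT.leaf 108159 BT.leaf)) 1415783 (BT.node (BT.node BT.leaf 26460034919486894112767 BT.leaf) 1649267441663 BT.leaf)) 363 (BT.node (BT.node (BT.node BT.leaf 98571311382527 BT.leaf) 394079087099903 BT.leaf) 1520186494550015 (BT.node (BT.node BT.leaf 115404740451368959 BT.leaf) 116135915683839 BT.leaf))))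

/-- subtree -/
def WT_169 : BT := (BT.node (BT.node (BT.node (BT.node (BT.node BT.leaf 1909526242005090303 BT.leaf) 1577142055862271 (BT.node BT.leaf 1415590 BT.leaf)) 157337 (BT.node (BT.node BT.leaf 45745696669695 BT.leaf) 94005247 BT.leaf)) 663304011775 (BT.node (BT.node (BT.node BT.leaf 187743809466007551 BT.leaf) 2858955046911 (BT.node BT.leaf 157339 BT.leaf)) 2517402 (BT.node (BT.node BT.leaf 103 BT.leaf) 464447495733247 BT.leaf))) 5663743 (BT.node (BT.node (BT.node (BT.node BT.leaf 1484984942591 BT.leaf) 24378371811049471 (BT.node BT.leaf 92986408959 BT.leaf)) 7050632364031 (BT.node (BT.node BT.leaf 97291849751855103 BT.leaf) 1452916735 BT.leaf)) 43624447 (BT.node (BT.node (BT.node BT.leaf 1721499647 BT.leaf) 104879 BT.leaf) 23805929979903 (BT.node (BT.node BT.leaf 28202634313727 BT.leaf) 1759460196351 BT.leaf))))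

/-- subtree -/
def WT_170 : BT := BT.node WT_168 6874464255 WT_169

/-- subtree -/
def WT_171 : BT := BT.node WT_167 10737418239 WT_170

/-- subtree -/
def WT_172 : BT := BT.node WT_164 7113539583 WT_171

/-- subtree -/
def WT_173 : BT := (BT.node (BT.node (BT.node (BT.node (BT.node BT.leaf 95657511616511 BT.leaf) 1447 (BT.node BT.leaf 27491237887 BT.leaf)) 196465246317192631287807 (BT.node (BT.node BT.leaf 394449796464639 BT.leaf) 39 BT.leaf)) 29027972677631 (BT.node (BT.node (BT.node BT.leaf 6080849057415167 BT.leaf) 191860662475377606655 (BT.node BT.leaf 168940122669055 BT.leaf)) 375832575 (BT.node (BT.node BT.leaf 5663151 BT.leaf) 414331165718085631 BT.leaf))) 26057827443965689855 (BT.node (BT.node (BT.node (BT.node BT.leaf 42468636622847 BT.leaf) 6066798591 (BT.node BT.leaf 11476152614911 BT.leaf)) 29686813949951 (BT.node (BT.node BT.leaf 1844901346570928127 BT.leaf) 178012023252469153791 BT.leaf)) 6160795041791 (BT.node (BT.node (BT.node BT.leaf 1578898697486335 BT.leaf)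 24052760575 (BT.node BT.leaf 2704798604328959 BT.leaf)) 16383 (BT.node (BT.node BT.leaf 121754815925961359359 BT.leaf) 178778013695 BT.leaf))))

/-- subtree -/
def WT_174 : BT := (BT.node (BT.node (BT.node (BT.node (BT.node BT.leaf 6375253974209120960511 BT.leaf) 632427 (BT.node BT.leaf 430337023 BT.leaf)) 11993085807687630847 (BT.node (BT.node BT.leaf 97089748991 BT.leaf) 2539519 BT.leaf)) 6724095 (BT.node (BT.node (BT.node BT.leaf 6514069832898445311 BT.leaf) 22740991 (BT.node BT.leaf 25221078754263039 BT.leaf)) 10069609 (BT.node (BT.node BT.leaf 90808319 BT.leaf) 24319822816870399 BT.leaf))) 45743125561343 (BT.node (BT.node (BT.node (BT.node BT.leaf 23776938950655 BT.leaf) 99396716855295 (BT.node BT.leaf 1488206168063 BT.leaf)) 22652527 (BT.node (BT.node BT.leaf 10223615 BT.leaf) 7230388464254975 BT.leaf)) 692146967731503103 (BT.node (BT.node (BT.node BT.leaf 1801670061195263 BT.leaf) 103330589850388660223 BT.leaf) 1503395839 (BT.node (BT.node BT.leaf 110886911 BT.leaf) 3221225471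 BT.leaf))))

/-- subtree -/
def WT_175 : BT := BT.node WT_173 173845982490918911 WT_174

/-- subtree -/
def WT_176 : BT := (BT.node (BT.node (BT.node (BT.node (BT.node BT.leaf 2886218022911 BT.leaf) 755914244095 (BT.node BT.leaf 182284275781731394519039 BT.leaf)) 23502847 (BT.node (BT.node BT.leaf 367215 BT.leaf) 2716248987140095 BT.leaf)) 2517423 (BT.node (BT.node (BT.node BT.leaf 1902489367587323903 BT.leaf) 5926911 (BT.node BT.leaf 1481126 BT.leaf)) 6184752906239 (BT.node (BT.node BT.leaf 92778004479 BT.leaf) 398510020227133079551 BT.leaf))) 1484354224127 (BT.node (BT.node (BT.node (BT.node BT.leaf 7431169595408383 BT.leaf) 26902527 (BT.node BT.leaf 1593841922524928016383 BT.leaf)) 108223 (BT.node (BT.node BT.leaf 39531 BT.leaf) 6724007 BT.leaf)) 1730207 (BT.node (BT.node (BT.node BT.leaf 10118911 BT.leaf) 1415591 BT.leaf) 44288398735561457663 (BT.node (BT.node BT.leaf 6591 BT.leaf) 7220217981698047 BT.leaf))))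

/-- subtree -/
def WT_177 : BT := (BT.node (BT.node (BT.node (BT.node (BT.node BT.leaf 458751 BT.leaf) 6597069766655 (BT.node BT.leaf 750975237864030207 BT.leaf)) 419519 (BT.node (BT.node BT.leaf 1503330303 BT.leaf) 1455 BT.leaf)) 11435820187647 (BT.node (BT.node (BT.node BT.leaf 95223719919615 BT.leaf) 22652607 (BT.node BT.leaf 394285245530111 BT.leaf)) 629359 (BT.node (BT.node BT.leaf 112810537254911 BT.leaf) 1657324662872342527 BT.leaf))) 1576316348399615 (BT.node (BT.node (BT.node (BT.node BT.leaf 10069611 BT.leaf) 7037840785407 (BT.node BT.leaf 104231309775862759423 BT.leaf)) 6080745978200063 (BT.node (BT.node BT.leaf 415 BT.leaf) 2583691263 BT.leaf)) 169874546491391 (BT.node (BT.node (BT.node BT.leaf 461618961805475839 BT.leaf) 1857789982932991 BT.leaf) 382630046466047 (BT.node (BT.node BT.leaf 24267194367 BT.leaf) 464543662735359 BT.leaf))))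

/-- subtree -/
def WT_178 : BT := BT.node WT_176 25221044394524671 WT_177

/-- subtree -/
def WT_179 : BT := BT.node WT_175 23698175 WT_178

/-- subtree -/
def WT_180 : BT := (BT.node (BT.node (BT.node (BT.node (BT.node BT.leaf 5791 BT.leaf) 45904610459647 (BT.node BT.leaf 27497857023 BT.leaf)) 5939939770367 (BT.node (BT.node BT.leaf 109964951551 BT.leaf) 118747255799807 BT.leaf)) 7638104968020361215 (BT.node (BT.node (BT.node BT.leaf 97513487244197887 BT.leaf) 2726502 (BT.node BT.leaf 7379605386283712511 BT.leaf)) 6308568223449087 (BT.node (BT.node BT.leaf 371945635839 BT.leaf) 1577799185858559 BT.leaf))) 712048093009876615167 (BT.node (BT.node (BT.node (BT.node BT.leaf 5662363 BT.leaf) 28202529456127 (BT.node BT.leaf 159 BT.leaf)) 24643180167167 (BT.node (BT.node BT.leaf 629351 BT.leaf) 389167399007420415 BT.leaf)) 116111890710527 (BT.node (BT.node (BT.node BT.leaf 6315594789945343 BT.leaf) 182982786678783 BT.leaf) 5811666943 (BT.node (BT.node BT.leaf 24323396229660671 BT.leaf)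 96211042303 BT.leaf))))

/-- subtree -/
def WT_181 : BT := (BT.node (BT.node (BT.node (BT.node (BT.node BT.leaf 174497791 BT.leaf) 767442649901510426623 (BT.node BT.leaf 10819194417315839 BT.leaf)) 2653216047103 (BT.node (BT.node BT.leaf 6885998591 BT.leaf) 675760490676223 BT.leaf)) 95 (BT.node (BT.node (BT.node BT.leaf 24375897909886975 BT.leaf) 10361663487 (BT.node BT.leaf 24913913138613583871 BT.leaf)) 2471 (BT.node (BT.node BT.leaf 2639727165439 BT.leaf) 2834344929085249028095 BT.leaf))) 767485434097970446335 (BT.node (BT.node (BT.node (BT.node BT.leaf 22959 BT.leaf) 115334371707191295 (BT.node BT.leaf 10836786603360255 BT.leaf)) 1653752182467930882047 (BT.node (BT.node BT.leaf 28881971438419967 BT.leaf) 91903 BT.leaf)) 1560053068186255359 (BT.node (BT.node (BT.node BT.leaf 667 BT.leaf) 1744830463 BT.leaf) 95011924344831 (BT.node (BT.node BT.leaf 11128394679232495615 BT.leaf) 487008567654730432511 BT.leaf))))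

/-- subtree -/
def WT_182 : BT := BT.node WT_180 376020991 WT_181

/-- subtree -/
def WT_183 : BT := (BT.node (BT.node (BT.node (BT.node (BT.node BT.leaf 24293408767 BT.leaf) 25504497179348441235455 (BT.node BT.leaf 399397229353725067263 BT.leaf)) 157439 (BT.node (BT.node BT.leaf 5663130 BT.leaf) 107387391 BT.leaf)) 95021856456703 (BT.node (BT.node (BT.node BT.leaf 1516765183 BT.leaf) 47965306356332756991 (BT.node BT.leaf 11167760383 BT.leaf)) 2639693611007 (BT.node (BT.node BT.leaf 11435782438911 BT.leaf) 6759 BT.leaf))) 29518843757599916031 (BT.node (BT.node (BT.node (BT.node BT.leaf 6106906623 BT.leaf) 731896786976767 (BT.node BT.leaf 103360989147873411071 BT.leaf)) 1419007 (BT.node (BT.node BT.leaf 101783990406479871 BT.leaf) 42235013890047 BT.leaf)) 6305424307388415 (BT.node (BT.node (BT.node BT.leaf 1577146350829567 BT.leaf) 671088639 BT.leaf) 111149055 (BT.node (BT.node BT.leaf 5567 BT.leaf) 6611549965357902987263 BT.leaf))))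

/-- subtree -/
def WT_184 : BT := (BT.node (BT.node (BT.node (BT.node (BT.node BT.leaf 403538359579836415 BT.leaf) 118289982107955494911 (BT.node BT.leaf 1727 BT.leaf)) 7792135956575780077567 (BT.node (BT.node BT.leaf 24117247 BT.leaf) 10928127 BT.leaf)) 353951 (BT.node (BT.node (BT.node BT.leaf 23749675974655 BT.leaf) 461226436154359807 (BT.node BT.leaf 6717439 BT.leaf)) 473161687650426421247 (BT.node (BT.node BT.leaf 432345564227567615 BT.leaf) 41245736959 BT.leaf))) 169324790677503 (BT.node (BT.node (BT.node (BT.node BT.leaf 3008404551083491327 BT.leaf) 413438327091959431167 (BT.node BT.leaf 25504474661350304382975 BT.leaf)) 174496255 (BT.node (BT.node BT.leaf 95420415 BT.leaf) 659922092031 BT.leaf)) 86 (BT.node (BT.node (BT.node BT.leaf 26 BT.leaf) 371088687103 BT.leaf) 380873404841983 (BT.node (BT.node BT.leaf 44286639516957016063 BT.leaf) 25839877851061420031 BT.leaf))))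

/-- subtree -/
def WT_185 : BT := BT.node WT_183 1759594414079 WT_184

/-- subtree -/
def WT_186 : BT := BT.node WT_182 26460052933885403594751 WT_185

/-- subtree -/
def WT_187 : BT := BT.node WT_179 22654975 WT_186

/-- subtree -/
def WT_188 : BT := BT.node WT_172 645922815 WT_187

/-- subtree -/
def WT_189 : BT := BT.node WT_157 679061844131839 WT_188

/-- subtree -/
def WT_190 : BT := (BT.node (BT.node (BT.node (BT.node (BT.node BT.leaf 379584511 BT.leaf) 1677927 (BT.node BT.leaf 41245212671 BT.leaf)) 11435887296511 (BT.node (BT.node BT.leaf 98522254802943 BT.leaf) 103305468208717234175 BT.leaf)) 121752124321496563711 (BT.node (BT.node (BT.node BT.leaf 7206663064911871 BT.leaf) 161900991 (BT.node BT.leaf 11991959907780788223 BT.leaf)) 451280803725311 (BT.node (BT.node BT.leaf 1484561317887 BT.leaf) 398507768427319394303 BT.leaf))) 1484716507135 (BT.node (BT.node (BT.node (BT.node BT.leaf 178684100607 BT.leaf) 1615015455435522047 (BT.node BT.leaf 24642911731711 BT.leaf)) 27493662719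 (BT.node (BT.node BT.leaf 376831 BT.leaf) 104959 BT.leaf)) 389279892790837247 (BT.node (BT.node (BT.node BT.leaf 103402647444426588159 BT.leaf) 1435 (BT.node BT.leaf 173881166863007743 BT.leaf)) 6240581708651954175 (BT.node (BT.node BT.leaf 23699455 BT.leaf) 30444333481024552959 BT.leaf))))

/-- subtree -/
def WT_191 : BT := (BT.node (BT.node (BT.node (BT.node (BT.node BT.leaf 10485759 BT.leaf) 6305286868434943 (BT.node BT.leaf 170751 BT.leaf)) 7393151369537912831 (BT.node (BT.node BT.leaf 11132898278859866111 BT.leaf) 1802099557924863 BT.leaf)) 24375829190410239 (BT.node (BT.node (BT.node BT.leaf 7609508869605163007 BT.leaf) 2459 (BT.node BT.leaf 749457911817699327 BT.leaf)) 461231933712498687 (BT.node (BT.node BT.leaf 1590374850101247 BT.leaf) 1736703 BT.leaf))) 1848280970436804607 (BT.node (BT.node (BT.node (BT.node BT.leaf 1594058095307041800191 BT.leaf) 281474976710655 (BT.node BT.leaf 6308722842271743 BT.leaf)) 388268818431 (BT.node (BT.node BT.leaf 462181911758897151 BT.leaf)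 175640385467449343 BT.leaf)) 1503291391 (BT.node (BT.node (BT.node BT.leaf 10864989506109439 BT.leaf) 43628621390151679 BT.leaf) 25501011393236856471551 (BT.node (BT.node BT.leaf 88703 BT.leaf) 113249697660927 BT.leaf))))

/-- subtree -/
def WT_192 : BT := BT.node WT_190 22171 WT_191

/-- subtree -/
def WT_193 : BT := (BT.node (BT.node (BT.node (BT.node (BT.node BT.leaf 714843619327 BT.leaf) 5529 (BT.node BT.leaf 1417215 BT.leaf)) 24319685377916927 (BT.node (BT.node BT.leaf 191 BT.leaf) 10865030308298751 BT.leaf)) 25445568104890367 (BT.node (BT.node (BT.node BT.leaf 1449574399 BT.leaf) 29724747101110271 (BT.node BT.leaf 25828143862969794559 BT.leaf)) 10362028031 (BT.node (BT.node BT.leaf 113397202943 BT.leaf) 172994582533898239 BT.leaf))) 679154588581887 (BT.node (BT.node (BT.node (BT.node BT.leaf 107387903 BT.leaf) 7257152552959 (BT.node BT.leaf 161901055 BT.leaf)) 390687267674390527 (BT.node (BT.node BT.leaf 95000381620223 BT.leaf) 430964735 BT.leaf)) 7881299347898367 (BT.node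 (BT.node (BT.node BT.leaf 403775854091436031 BT.leaf) 115519089660657663 BT.leaf) 442932223 (BT.node (BT.node BT.leaf 389167467726897151 BT.leaf) 430358527 BT.leaf))))

/-- subtree -/
def WT_194 : BT := (BT.node (BT.node (BT.node (BT.node (BT.node BT.leaf 5786 BT.leaf) 23753048195071 (BT.node BT.leaf 5924505 BT.leaf)) 2639794274303 (BT.node (BT.node BT.leaf 407131563579408383 BT.leaf) 7393133777351868415 BT.leaf)) 368639 (BT.node (BT.node (BT.node BT.leaf 785860913211176487223295 BT.leaf) 173841584444407807 (BT.node BT.leaf 1905022642377719807 BT.leaf)) 379994748485631 (BT.node (BT.node BT.leaf 101823572825079807 BT.leaf) 1560075058418810879 BT.leaf))) 115517577832169471 (BT.node (BT.node (BT.node (BT.node BT.leaf 6158983102463 BT.leaf) 10655 (BT.node BT.leaf 43249015000662015 BT.leaf)) 1503293439 (BT.node (BT.node BT.leaf 1859274162569215 BT.leaf) 41255174143 BT.leaf)) 65535 (BT.node (BT.node (BT.node BT.leaf 363233279 BT.leaf) 94792703 BT.leaf) 29724678381633535 (BT.node (BT.node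 BT.leaf 487019263703845437439 BT.leaf) 97279291267481599 BT.leaf))))

/-- subtree -/
def WT_195 : BT := BT.node WT_193 45055 WT_194

/-- subtree -/
def WT_196 : BT := BT.node WT_192 172031 WT_195

/-- subtree -/
def WT_197 : BT := (BT.node (BT.node (BT.node (BT.node (BT.node BT.leaf 107610111 BT.leaf) 715112054783 (BT.node BT.leaf 182972502245375 BT.leaf)) 3023656976383 (BT.node (BT.node BT.leaf 22118 BT.leaf) 695383929963675647 BT.leaf)) 95107755802623 (BT.node (BT.node (BT.node BT.leaf 729137103126925578076159 BT.leaf) 432895 (BT.node BT.leaf 25501015896836483842047 BT.leaf)) 397586867421183 (BT.node (BT.node BT.leaf 94011391 BT.leaf) 158127 BT.leaf))) 2529711 (BT.node (BT.node (BT.node (BT.node BT.leaf 5952824672255 BT.leaf) 1468863 (BT.node BT.leaf 26896031 BT.leaf)) 1721348095 (BT.node (BT.node BT.leaf 90610111 BT.leaf) 10864995948560383 BT.leaf)) 6920831 (BT.node (BT.node (BT.node BT.leaf 47972343230750523391 BT.leaf) 40894463 (BT.node BT.leaf 10069695 BT.leaf)) 40475647 (BT.node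 (BT.node BT.leaf 388358995967 BT.leaf) 28921553857019903 BT.leaf))))

/-- subtree -/
def WT_198 : BT := (BT.node (BT.node (BT.node (BT.node (BT.node BT.leaf 5662367 BT.leaf) 10158079 (BT.node BT.leaf 2768587870926012415 BT.leaf)) 23707647 (BT.node (BT.node BT.leaf 177153594942245830655 BT.leaf) 26896383 BT.leaf)) 7206680244781055 (BT.node (BT.node (BT.node BT.leaf 5924507 BT.leaf) 26367 (BT.node BT.leaf 26056279331593781247 BT.leaf)) 1433 (BT.node (BT.node BT.leaf 24739011624959 BT.leaf) 28880871926792191 BT.leaf))) 90963967 (BT.node (BT.node (BT.node (BT.node BT.leaf 6013583359 BT.leaf) 371112017919 (BT.node BT.leaf 100884177578098687 BT.leaf)) 100884315017052159 (BT.node (BT.node BT.leaf 443547647 BT.leaf) 1594040080908532318207 BT.leaf)) 1835007 (BT.node (BT.node (BT.node BT.leaf 40278439 BT.leaf) 12884901887 BT.leaf) 5937416896511 (BT.node (BT.node BT.leaf 27021597764222975 BT.leaf) 23724031 BT.leaf))))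

/-- subtree -/
def WT_199 : BT := BT.node WT_197 7609957470349295615 WT_198

/-- subtree -/
def WT_200 : BT := (BT.node (BT.node (BT.node (BT.node (BT.node BT.leaf 695806142428741631 BT.leaf) 1594029666334394023935 (BT.node BT.leaf 6456591763044827135 BT.leaf)) 6462665465276661759 (BT.node (BT.node BT.leaf 46841119488606207 BT.leaf) 486388759756013567 BT.leaf)) 28205050232831 (BT.node (BT.node (BT.node BT.leaf 1902770842564034559 BT.leaf) 99628630956690112511 (BT.node BT.leaf 1703935 BT.leaf)) 100938465964720127 (BT.node (BT.node BT.leaf 462071960596119551 BT.leaf) 25839895443247464447 BT.leaf))) 6157640925183 (BT.node (BT.node (BT.node (BT.node BT.leaf 24329993299427327 BT.leaf) 44315420333325680639 (BT.node BT.leaf 1567252670324932607 BT.leaf)) 749497494236299263 (BT.node (BT.node BT.leaf 1481215 BT.leaf) 115517560652300287 BT.leaf)) 1614992365691338751 (BT.node (BT.node (BT.node BT.leaf 11167756287 BT.leaf) 10671 BT.leaf) 188025284442718207 (BT.node (BT.node BT.leaf 714742956031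 BT.leaf) 6559 BT.leaf))))

/-- subtree -/
def WT_201 : BT := (BT.node (BT.node (BT.node (BT.node (BT.node BT.leaf 41245130751 BT.leaf) 10118811 (BT.node BT.leaf 390036356790747135 BT.leaf)) 108543 (BT.node (BT.node BT.leaf 2767914969809813503 BT.leaf) 92794781695 BT.leaf)) 394080429277183 (BT.node (BT.node (BT.node BT.leaf 10582799417343 BT.leaf) 2577825791 (BT.node BT.leaf 23551 BT.leaf)) 1523489324400639 (BT.node (BT.node BT.leaf 5963775 BT.leaf) 450416441556991 BT.leaf))) 10867572928937983 (BT.node (BT.node (BT.node (BT.node BT.leaf 99398428131327 BT.leaf) 23804587802623 (BT.node BT.leaf 24906735526707462143 BT.leaf)) 655359 (BT.node (BT.node BT.leaf 2577858559 BT.leaf) 30226863662218086449151 BT.leaf)) 1718353919 (BT.node (BT.node (BT.node BT.leaf 112631222370303 BT.leaf) 10906015 BT.leaf) 7609507770093535231 (BT.node (BT.node BT.leaf 25868676259616129023 BT.leaf) 28826995857031167 BT.leaf))))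

/-- subtree -/
def WT_202 : BT := BT.node WT_200 475594304350322687 WT_201

/-- subtree -/
def WT_203 : BT := BT.node WT_199 1540181983231 WT_202

/-- subtree -/
def WT_204 : BT := BT.node WT_196 11544872091647 WT_203

/-- subtree -/
def WT_205 : BT := (BT.node (BT.node (BT.node (BT.node (BT.node BT.leaf 92785082367 BT.leaf) 399415243752234549247 (BT.node BT.leaf 18014398509481983 BT.leaf)) 45749991636991 (BT.node (BT.node BT.leaf 11071653282169487359 BT.leaf) 24906717934521417727 BT.leaf)) 422 (BT.node (BT.node (BT.node BT.leaf 403758261905391615 BT.leaf) 353919 (BT.node BT.leaf 43465893669240831 BT.leaf)) 27542945791 (BT.node (BT.node BT.leaf 24319663903080447 BT.leaf) 24849204379647 BT.leaf))) 90701823 (BT.node (BT.node (BT.node (BT.node BT.leaf 6872825855 BT.leaf) 2883583 (BT.node BT.leaf 6516708660805107711 BT.leaf)) 29579642352569417727 (BT.node (BT.node BT.leaf 1556459864186683391 BT.leaf) 464457763389439 BT.leaf)) 370367 (BT.node (BT.node (BT.node BT.leaf 99844803738803896319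 BT.leaf) 38 (BT.node BT.leaf 12287 BT.leaf)) 10361667583 (BT.node (BT.node BT.leaf 1520195084484607 BT.leaf) 7393124981258846207 BT.leaf))))

/-- subtree -/
def WT_206 : BT := (BT.node (BT.node (BT.node (BT.node (BT.node BT.leaf 695361939731120127 BT.leaf) 25003985131160993791 (BT.node BT.leaf 379168383 BT.leaf)) 394174918557695 (BT.node (BT.node BT.leaf 695359328391004159 BT.leaf) 1628516358712983551 BT.leaf)) 6080024423694335 (BT.node (BT.node (BT.node BT.leaf 168946833555455 BT.leaf) 681983 (BT.node BT.leaf 2792231768969707519 BT.leaf)) 92772761599 (BT.node (BT.node BT.leaf 27581743103 BT.leaf) 26056420069082136575 BT.leaf))) 2767936960042369023 (BT.node (BT.node (BT.node (BT.node BT.leaf 5662361 BT.leaf) 1902383814471057407 (BT.node BT.leaf 504403158265495551 BT.leaf)) 473160561750519578623 (BT.node (BT.node BT.leaf 96210780159 BT.leaf) 5677055 BT.leaf)) 5734 (BT.node (BT.node (BT.node BT.leaf 25841654661851906047 BT.leaf) 23592959 BT.leaf) 118993546404429823 (BT.node (BT.node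 BT.leaf 7247980650299391 BT.leaf) 663169794047 BT.leaf))))

/-- subtree -/
def WT_207 : BT := BT.node WT_205 96210649087 WT_206

/-- subtree -/
def WT_208 : BT := (BT.node (BT.node (BT.node (BT.node (BT.node BT.leaf 174496175 BT.leaf) 2640331145215 (BT.node BT.leaf 11010047 BT.leaf)) 7257420988415 (BT.node (BT.node BT.leaf 28347662335 BT.leaf) 11125861404442099711 BT.leaf)) 68719476735 (BT.node (BT.node (BT.node BT.leaf 165809225727 BT.leaf) 24859270709247 (BT.node BT.leaf 13510798882111487 BT.leaf)) 416900047093035433983 (BT.node (BT.node BT.leaf 10651518894079 BT.leaf) 1924145348607 BT.leaf))) 453924356095 (BT.node (BT.node (BT.node (BT.node BT.leaf 27684863 BT.leaf) 465093418549247 (BT.node BT.leaf 345 BT.leaf)) 407223922556141567 (BT.node (BT.node BT.leaf 105784727388132409868287 BT.leaf) 23193452543 BT.leaf)) 10558841552895 (BT.node (BT.node (BT.node BT.leaf 6305699185295359 BT.leaf) 191860574514447384575 BT.leaf) 174522367 (BT.node (BT.node BT.leaf 105067 BT.leaf) 112837380800511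 BT.leaf))))

/-- subtree -/
def WT_209 : BT := (BT.node (BT.node (BT.node (BT.node (BT.node BT.leaf 1503657983 BT.leaf) 353899 (BT.node BT.leaf 1804964301111295 BT.leaf)) 27648851967 (BT.node (BT.node BT.leaf 31168584358699766644735 BT.leaf) 1540215537663 BT.leaf)) 7556751944351540576255 (BT.node (BT.node (BT.node BT.leaf 380877699809279 BT.leaf) 2652595290111 (BT.node BT.leaf 644481023 BT.leaf)) 6225832859676966911 (BT.node (BT.node BT.leaf 98578089377791 BT.leaf) 10072063 BT.leaf))) 42235005501439 (BT.node (BT.node (BT.node (BT.node BT.leaf 92772155391 BT.leaf) 5937423187967 (BT.node BT.leaf 5799084031 BT.leaf)) 2652585328639 (BT.node (BT.node BT.leaf 105215 BT.leaf) 367014 BT.leaf)) 2529791 (BT.node (BT.node (BT.node BT.leaf 42441793077247 BT.leaf) 389139155302481919 BT.leaf) 10 (BT.node (BT.node BT.leaf 42880953483263 BT.leaf) 95382633709567 BT.leaf))))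

/-- subtree -/
def WT_210 : BT := BT.node WT_208 11392773991757653213183 WT_209

/-- subtree -/
def WT_211 : BT := BT.node WT_207 7393221738282090495 WT_210

/-- subtree -/
def WT_212 : BT := (BT.node (BT.node (BT.node (BT.node (BT.node BT.leaf 7257018335231 BT.leaf) 89 (BT.node BT.leaf 41 BT.leaf)) 95011588800511 (BT.node (BT.node BT.leaf 94792191 BT.leaf) 1771765759 BT.leaf)) 28202533650431 (BT.node (BT.node (BT.node BT.leaf 6212296900607 BT.leaf) 99397354389503 (BT.node BT.leaf 6241989083535507455 BT.leaf)) 28202902749183 (BT.node (BT.node BT.leaf 26388279066623 BT.leaf) 416925239103451037695 BT.leaf))) 439859806207 (BT.node (BT.node (BT.node (BT.node BT.leaf 1556669596029681663 BT.leaf) 3003900951456120831 (BT.node BT.leaf 24322983912800255 BT.leaf)) 474989023199231 (BT.node (BT.node BT.leaf 464447562842111 BT.leaf) 1678079 BT.leaf)) 1663 (BT.node (BT.node (BT.node BT.leaf 105 BT.leaf) 25262379159781375 BT.leaf) 6013321215 (BT.node (BT.node BT.leaf 10334765055 BT.leaf) 390053948976791551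 BT.leaf))))

/-- subtree -/
def WT_213 : BT := (BT.node (BT.node (BT.node (BT.node (BT.node BT.leaf 5823 BT.leaf) 679498185965567 (BT.node BT.leaf 10906011 BT.leaf)) 23246667775 (BT.node (BT.node BT.leaf 45743280750591 BT.leaf) 1846475847221903359 BT.leaf)) 29518421545134850047 (BT.node (BT.node (BT.node BT.leaf 97293584918642687 BT.leaf) 380894879678463 (BT.node BT.leaf 7431159931731967 BT.leaf)) 25234272893796351 (BT.node (BT.node BT.leaf 384844169215 BT.leaf) 90610431 BT.leaf))) 1530520185864191 (BT.node (BT.node (BT.node (BT.node BT.leaf 1487782543359 BT.leaf) 1504083967 (BT.node BT.leaf 1577140982120447 BT.leaf)) 97068777471 (BT.node (BT.node BT.leaf 6311196743434239 BT.leaf) 697991167 BT.leaf)) 2517439 (BT.node (BT.node (BT.node BT.leaf 1858174650941439 BT.leaf) 2848192372039506460671 BT.leaf) 3069770599606041706495 (BT.node (BT.node BT.leaf 451242149019647 BT.leaf) 90619903 BT.leaf))))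

/-- subtree -/
def WT_214 : BT := BT.node WT_212 731931146715135 WT_213

/-- subtree -/
def WT_215 : BT := (BT.node (BT.node (BT.node (BT.node (BT.node BT.leaf 43276777669263359 BT.leaf) 22 (BT.node BT.leaf 23167 BT.leaf)) 112810117824511 (BT.node (BT.node BT.leaf 10612864188415 BT.leaf) 6305265393598463 BT.leaf)) 183618441838591 (BT.node (BT.node (BT.node BT.leaf 639 BT.leaf) 27543994367 (BT.node BT.leaf 40278447 BT.leaf)) 109991428095 (BT.node (BT.node BT.leaf 98572720668671 BT.leaf) 2703041962704895 BT.leaf))) 28151363141631 (BT.node (BT.node (BT.node (BT.node BT.leaf 23759759081471 BT.leaf) 2517407 (BT.node BT.leaf 4294967295 BT.leaf)) 11991285907152961535 (BT.node (BT.node BT.leaf 6161130586111 BT.leaf) 453563645951 BT.leaf)) 665719930879 (BT.node (BT.node (BT.node BT.leaf 93978623 BT.leaf) 362442751 BT.leaf) 110735359 (BT.node (BT.node BT.leaf 6232981884280766463 BT.leaf) 96263471103 BT.leaf))))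

/-- subtree -/
def WT_216 : BT := (BT.node (BT.node (BT.node (BT.node (BT.node BT.leaf 1762681421823 BT.leaf) 394106199080959 (BT.node BT.leaf 389114553729810431 BT.leaf)) 46865583622324223 (BT.node (BT.node BT.leaf 26056252943314714623 BT.leaf) 712048374484853325823 BT.leaf)) 371088949247 (BT.node (BT.node (BT.node BT.leaf 5924511 BT.leaf) 29068338659327 (BT.node BT.leaf 1948036522418735415295 BT.leaf)) 158111 (BT.node (BT.node BT.leaf 390124317720969215 BT.leaf) 659927597055 BT.leaf))) 40280063 (BT.node (BT.node (BT.node (BT.node BT.leaf 5961414606847 BT.leaf) 844424930131967 (BT.node BT.leaf 7052336300031 BT.leaf)) 5798259711 (BT.node (BT.node BT.leaf 5938224300031 BT.leaf) 1730303 BT.leaf)) 1728053247 (BT.node (BT.node (BT.node BT.leaf 6611554468957530357759 BT.leaf) 6212334649343 BT.leaf) 1449590783 (BT.node (BT.node BT.leaf 165787205631 BT.leaf) 2680059592703 BT.leaf))))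

/-- subtree -/
def WT_217 : BT := BT.node WT_215 2652612067327 WT_216

/-- subtree -/
def WT_218 : BT := BT.node WT_214 22649455 WT_217

/-- subtree -/
def WT_219 : BT := BT.node WT_211 749849337957187583 WT_218

/-- subtree -/
def WT_220 : BT := BT.node WT_204 23193042943 WT_219

/-- subtree -/
def WT_221 : BT := (BT.node (BT.node (BT.node (BT.node (BT.node BT.leaf 1892736822594253094911 BT.leaf) 2639687843839 (BT.node BT.leaf 756604737398243327 BT.leaf)) 28370272255 (BT.node (BT.node BT.leaf 112810268819455 BT.leaf) 6575 BT.leaf)) 388268556287 (BT.node (BT.node (BT.node BT.leaf 6611545461758275616767 BT.leaf) 23804856238079 (BT.node BT.leaf 198158383604301823 BT.leaf)) 10363076607 (BT.node (BT.node BT.leaf 10907647 BT.leaf) 629503 BT.leaf))) 1621295865853378559 (BT.node (BT.node (BT.node (BT.node BT.leaf 120259084287 BT.leaf) 6375295632505674137599 (BT.node BT.leaf 165786583039 BT.leaf)) 1762658353151 (BT.node (BT.node BT.leaf 25451495159758847 BT.leaf) 472296996521971286015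 BT.leaf)) 24321197206405119 (BT.node (BT.node (BT.node BT.leaf 1572863 BT.leaf) 11991396957827366911 (BT.node BT.leaf 1505755135 BT.leaf)) 6724006 (BT.node (BT.node BT.leaf 1759435030527 BT.leaf) 1416191 BT.leaf))))

/-- subtree -/
def WT_222 : BT := (BT.node (BT.node (BT.node (BT.node (BT.node BT.leaf 28587302322175 BT.leaf) 395136991231 (BT.node BT.leaf 2726511 BT.leaf)) 161113855 (BT.node (BT.node BT.leaf 25839965811991642111 BT.leaf) 27683231 BT.leaf)) 389114691168763903 (BT.node (BT.node (BT.node BT.leaf 187363859479134207 BT.leaf) 6555 (BT.node BT.leaf 91226111 BT.leaf)) 1449762815 (BT.node (BT.node BT.leaf 26896127 BT.leaf) 100055558127615 BT.leaf))) 473202220047072755711 (BT.node (BT.node (BT.node (BT.node BT.leaf 6611572483356039839743 BT.leaf) 92784738303 (BT.node BT.leaf 169765494587391 BT.leaf)) 23249027071 (BT.node (BT.node BT.leaf 10944511 BT.leaf) 442931647 BT.leaf)) 24850680774655 (BT.node (BT.node (BT.node BT.leaf 43249289878568959 BT.leaf) 103308071852251807743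 BT.leaf) 632575 (BT.node (BT.node BT.leaf 5799149567 BT.leaf) 43248740122755071 BT.leaf))))

/-- subtree -/
def WT_223 : BT := BT.node WT_221 1667628898819766222847 WT_222

/-- subtree -/
def WT_224 : BT := (BT.node (BT.node (BT.node (BT.node (BT.node BT.leaf 1821066133503 BT.leaf) 398023209254911 (BT.node BT.leaf 110058536959 BT.leaf)) 1677951 (BT.node (BT.node BT.leaf 94004927 BT.leaf) 28829194880286719 BT.leaf)) 2579496959 (BT.node (BT.node (BT.node BT.leaf 399374711355588214783 BT.leaf) 5875391 (BT.node BT.leaf 25559909469163607818239 BT.leaf)) 28311551 (BT.node (BT.node BT.leaf 1556838096186638335 BT.leaf) 40501247 BT.leaf))) 691978467574546431 (BT.node (BT.node (BT.node (BT.node BT.leaf 1556675368465727487 BT.leaf) 179046449151 (BT.node BT.leaf 182972586131455 BT.leaf)) 43626495 (BT.node (BT.node BT.leaf 10995116277759 BT.leaf) 1504079871 BT.leaf)) 7556733929953031094271 (BT.node (BT.node (BT.node BT.leaf 110755839 BT.leaf) 615 BT.leaf) 375823103 (BT.node (BT.node BT.leaf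 22703103 BT.leaf) 4194303 BT.leaf))))

/-- subtree -/
def WT_225 : BT := (BT.node (BT.node (BT.node (BT.node (BT.node BT.leaf 110166278143 BT.leaf) 650117119 (BT.node BT.leaf 5821693951 BT.leaf)) 23246929919 (BT.node (BT.node BT.leaf 6086896371367935 BT.leaf) 5799047167 BT.leaf)) 177189623739264794623 (BT.node (BT.node (BT.node BT.leaf 384869335039 BT.leaf) 6066733055 (BT.node BT.leaf 161900959 BT.leaf)) 695359740707864575 (BT.node (BT.node BT.leaf 1517289471 BT.leaf) 23751169146879 BT.leaf))) 1902379416424546303 (BT.node (BT.node (BT.node (BT.node BT.leaf 27705343 BT.leaf) 442933247 (BT.node BT.leaf 39335 BT.leaf)) 6456587364998316031 (BT.node (BT.node BT.leaf 108139 BT.leaf) 5662362 BT.leaf)) 10651 (BT.node (BT.node (BT.node BT.leaf 1721368575 BT.leaf) 6456596161091338239 BT.leaf) 6225874641118822399 (BT.node (BT.node BT.leaf 25445559514955775 BT.leaf) 2617245695 BT.leaf))))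

/-- subtree -/
def WT_226 : BT := BT.node WT_224 44504571517675241471 WT_225

/-- subtree -/
def WT_227 : BT := BT.node WT_223 376176639 WT_226

/-- subtree -/
def WT_228 : BT := (BT.node (BT.node (BT.node (BT.node (BT.node BT.leaf 28387049471 BT.leaf) 738871813865471 (BT.node BT.leaf 6016729087 BT.leaf)) 644460543 (BT.node (BT.node BT.leaf 379168511 BT.leaf) 353947 BT.leaf)) 6887047167 (BT.node (BT.node (BT.node BT.leaf 10120191 BT.leaf) 2590441471 (BT.node BT.leaf 1687551 BT.leaf)) 117440511 (BT.node (BT.node BT.leaf 45767171506175 BT.leaf) 161901567 BT.leaf))) 24854975741951 (BT.node (BT.node (BT.node (BT.node BT.leaf 1667601877222001999871 BT.leaf) 2577820159 (BT.node BT.leaf 11710240143704063 BT.leaf)) 380980779024383 (BT.node (BT.node BT.leaf 1850979446849273855 BT.leaf) 91775 BT.leaf)) 824633720831 (BT.node (BT.node (BT.node BT.leaf 193514046488575 BT.leaf) 94007295 (BT.node BT.leaf 487037278102354919423 BT.leaf)) 1583296743997439 (BT.node (BT.node BT.leaf 379994681376767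 BT.leaf) 1415615 BT.leaf))))

/-- subtree -/
def WT_229 : BT := (BT.node (BT.node (BT.node (BT.node (BT.node BT.leaf 362391551 BT.leaf) 1848375803314700287 (BT.node BT.leaf 383 BT.leaf)) 2671 (BT.node (BT.node BT.leaf 44671041535 BT.leaf) 22271 BT.leaf)) 97503591639547903 (BT.node (BT.node (BT.node BT.leaf 6979321855 BT.leaf) 10558774444031 (BT.node BT.leaf 26446199861431611949055 BT.leaf)) 41446653951 (BT.node (BT.node BT.leaf 380047697379327 BT.leaf) 45743129755647 BT.leaf))) 7038377656319 (BT.node (BT.node (BT.node (BT.node BT.leaf 99655652554454335487 BT.leaf) 44513578716929982463 (BT.node BT.leaf 27039 BT.leaf)) 1614153438319345663 (BT.node (BT.node BT.leaf 9887 BT.leaf) 1948034270618921730047 BT.leaf)) 118075375030399664127 (BT.node (BT.node (BT.node BT.leaf 473159928431821979647 BT.leaf) 10558908661759 BT.leaf) 367206 (BT.node (BT.node BT.leaf 24427626495 BT.leaf) 6911 BT.leaf))))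

/-- subtree -/
def WT_230 : BT := BT.node WT_228 1721346047 WT_229

/-- subtree -/
def WT_231 : BT := (BT.node (BT.node (BT.node (BT.node (BT.node BT.leaf 97173635071 BT.leaf) 2927587147907071 (BT.node BT.leaf 31168543826303120310271 BT.leaf)) 10650 (BT.node (BT.node BT.leaf 353945 BT.leaf) 413443956591493644287 BT.leaf)) 96468991 (BT.node (BT.node (BT.node BT.leaf 91839 BT.leaf) 1597588917414900269055 (BT.node BT.leaf 5676031 BT.leaf)) 43712511 (BT.node (BT.node BT.leaf 461337486828765183 BT.leaf) 629759 BT.leaf))) 407135961625919487 (BT.node (BT.node (BT.node (BT.node BT.leaf 1415807 BT.leaf) 43347146413441023 (BT.node BT.leaf 22652523 BT.leaf)) 168940055560191 (BT.node (BT.node BT.leaf 94998703898623 BT.leaf) 6615008729871723528191 BT.leaf)) 429549567 (BT.node (BT.node (BT.node BT.leaf 25221697229553663 BT.leaf) 1844905744617439231 BT.leaf) 115527885753679871 (BT.node (BT.node BT.leaf 380087425826815 BT.leaf) 6308585403318271 BT.leaf))))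

/-- subtree -/
def WT_232 : BT := (BT.node (BT.node (BT.node (BT.node (BT.node BT.leaf 367615 BT.leaf) 6067060735 (BT.node BT.leaf 2684354559 BT.leaf)) 1892646750601705684991 (BT.node (BT.node BT.leaf 6240212272745021439 BT.leaf) 191861225425331027967 BT.leaf)) 444596223 (BT.node (BT.node (BT.node BT.leaf 23 BT.leaf) 617 (BT.node BT.leaf 5739 BT.leaf)) 7220492859604991 (BT.node (BT.node BT.leaf 436207615 BT.leaf) 6615013233471350898687 BT.leaf))) 39359 (BT.node (BT.node (BT.node (BT.node BT.leaf 379191295 BT.leaf) 2858945609727 (BT.node BT.leaf 182974196744191 BT.leaf)) 10558753472511 (BT.node (BT.node BT.leaf 27787263 BT.leaf) 100884589894959103 BT.leaf)) 6029311 (BT.node (BT.node (BT.node BT.leaf 115306609038589951 BT.leaf) 6093974477471743 BT.leaf) 659931791359 (BT.node (BT.node BT.leaf 28833592926797823 BT.leaf) 22975 BT.leaf))))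

/-- subtree -/
def WT_233 : BT := BT.node WT_231 26869759 WT_232

/-- subtree -/
def WT_234 : BT := BT.node WT_230 11337379716340996112383 WT_233

/-- subtree -/
def WT_235 : BT := BT.node WT_227 461227535665987583 WT_234

/-- subtree -/
def WT_236 : BT := (BT.node (BT.node (BT.node (BT.node (BT.node BT.leaf 6073352191 BT.leaf) 408071594581604870127615 (BT.node BT.leaf 11991326589083189247 BT.leaf)) 1689 (BT.node (BT.node BT.leaf 25840247286968352767 BT.leaf) 1576356076847103 BT.leaf)) 1391 (BT.node (BT.node (BT.node BT.leaf 29572495526988873727 BT.leaf) 2732031 (BT.node BT.leaf 1679359 BT.leaf)) 2590415871 (BT.node (BT.node BT.leaf 708586232271312257023 BT.leaf) 2709196650840063 BT.leaf))) 390013267046563839 (BT.node (BT.node (BT.node (BT.node BT.leaf 2782098669808123903 BT.leaf) 6376124294837110308863 (BT.node BT.leaf 26846847 BT.leaf)) 2791940095 (BT.node (BT.node BT.leaf 7379710939399979007 BT.leaf) 354751 BT.leaf)) 394286587707391 (BT.node (BT.node (BT.node BT.leaf 1652887491339475746815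 BT.leaf) 431 (BT.node BT.leaf 88487 BT.leaf)) 118290421912606605311 (BT.node (BT.node BT.leaf 6228478284653395967 BT.leaf) 191871358524492611583 BT.leaf))))

/-- subtree -/
def WT_237 : BT := (BT.node (BT.node (BT.node (BT.node (BT.node BT.leaf 166 BT.leaf) 121752141913682608127 (BT.node BT.leaf 99849307338431266815 BT.leaf)) 23755464114175 (BT.node (BT.node BT.leaf 659923402751 BT.leaf) 1526726655 BT.leaf)) 25445997601619967 (BT.node (BT.node (BT.node BT.leaf 167772159 BT.leaf) 439898603519 (BT.node BT.leaf 1948033989143945019391 BT.leaf)) 5937418993663 (BT.node (BT.node BT.leaf 6755399441055743 BT.leaf) 398507416583598505983 BT.leaf))) 121597189939003391 (BT.node (BT.node (BT.node (BT.node BT.leaf 425983 BT.leaf) 1539410231295 (BT.node BT.leaf 187374373559074815 BT.leaf)) 2791939071 (BT.node (BT.node BT.leaf 1639 BT.leaf) 97509089197686783 BT.leaf)) 98520107319295 (BT.node (BT.node (BT.node BT.leaf 380872331100159 BT.leaf) 24849607032831 BT.leaf) 644464639 (BT.node (BT.node BT.leaf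 2726503 BT.leaf) 5798260735 BT.leaf))))

/-- subtree -/
def WT_238 : BT := BT.node WT_236 413438045616982720511 WT_237

/-- subtree -/
def WT_239 : BT := (BT.node (BT.node (BT.node (BT.node (BT.node BT.leaf 1614147940761206783 BT.leaf) 7051262558207 (BT.node BT.leaf 25234616491180031 BT.leaf)) 6082498324856831 (BT.node (BT.node BT.leaf 370303 BT.leaf) 2667 BT.leaf)) 118898576087580671 (BT.node (BT.node (BT.node BT.leaf 27135 BT.leaf) 2645699854335 (BT.node BT.leaf 1490943 BT.leaf)) 5951146950655 (BT.node (BT.node BT.leaf 7556715915554521612287 BT.leaf) 1902376942523383807 BT.leaf))) 23196270591 (BT.node (BT.node (BT.node (BT.node BT.leaf 385045495807 BT.leaf) 1615666366319165439 (BT.node BT.leaf 475692710641008639 BT.leaf)) 115517990149029887 (BT.node (BT.node BT.leaf 11078855083331420159 BT.leaf) 28879390163075071 BT.leaf)) 47006321110679551 (BT.node (BT.node (BT.node BT.leaf 10311282687 BT.leaf) 691978742452453375 BT.leaf) 644456447 (BT.node (BT.node BT.leaf 112604110389247 BT.leaf)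 6226683881676865535 BT.leaf))))

/-- subtree -/
def WT_240 : BT := (BT.node (BT.node (BT.node (BT.node (BT.node BT.leaf 6467169064904032255 BT.leaf) 99853810938058637311 (BT.node BT.leaf 173951535607185407 BT.leaf)) 11710279872151551 (BT.node (BT.node BT.leaf 24907157739172528127 BT.leaf) 6459973860811866111 BT.leaf)) 391813167581233151 (BT.node (BT.node (BT.node BT.leaf 403748091422834687 BT.leaf) 178685739007 (BT.node BT.leaf 2529702 BT.leaf)) 23198695423 (BT.node (BT.node BT.leaf 5887 BT.leaf) 2716893232234495 BT.leaf))) 163839 (BT.node (BT.node (BT.node (BT.node BT.leaf 28157805592575 BT.leaf) 7206748964257791 (BT.node BT.leaf 1073741823 BT.leaf)) 166429982719 (BT.node (BT.node BT.leaf 1558245471070191615 BT.leaf) 98526549770239 BT.leaf)) 178012093621213331455 (BT.node (BT.node (BT.node BT.leaf 487009130604683853823 BT.leaf) 10070015 BT.leaf) 1449564927 (BT.node (BT.node BT.leaf 1652888617239382589439 BT.leaf) 670014898175 BT.leaf))))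

/-- subtree -/
def WT_241 : BT := BT.node WT_239 429588479 WT_240

/-- subtree -/
def WT_242 : BT := BT.node WT_238 5931007 WT_241

/-- subtree -/
def WT_243 : BT := (BT.node (BT.node (BT.node (BT.node (BT.node BT.leaf 97067139071 BT.leaf) 2590769151 (BT.node BT.leaf 30064771071 BT.leaf)) 6362873789939711 (BT.node (BT.node BT.leaf 2997821476788240383 BT.leaf) 23494655 BT.leaf)) 24065867775 (BT.node (BT.node (BT.node BT.leaf 97278638432452607 BT.leaf) 92772237311 (BT.node BT.leaf 39527 BT.leaf)) 1490353651711 (BT.node (BT.node BT.leaf 1484556075007 BT.leaf) 1553083662335 BT.leaf))) 388426104831 (BT.node (BT.node (BT.node (BT.node BT.leaf 7092568063 BT.leaf) 1652886365439568904191 (BT.node BT.leaf 2726911 BT.leaf)) 1593823908126418534399 (BT.node (BT.node BT.leaf 118074249130492821503 BT.leaf) 1540282646527 BT.leaf)) 90610687 (BT.node (BT.node (BT.node BT.leaf 663153016831 BT.leaf) 11716395905581055 BT.leaf) 1481127 (BT.node (BT.node BT.leaf 97531079430242303 BT.leaf) 211106232532991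 BT.leaf))))

/-- subtree -/
def WT_244 : BT := (BT.node (BT.node (BT.node (BT.node (BT.node BT.leaf 362397695 BT.leaf) 473184205648563273727 (BT.node BT.leaf 28202567204863 BT.leaf)) 5951214059519 (BT.node (BT.node BT.leaf 157375 BT.leaf) 41446645759 BT.leaf)) 6080299301601279 (BT.node (BT.node (BT.node BT.leaf 113390911487 BT.leaf) 27683839 (BT.node BT.leaf 440670355455 BT.leaf)) 6514063235828678655 (BT.node (BT.node BT.leaf 7267084664831 BT.leaf) 164981899263 BT.leaf))) 1763084075007 (BT.node (BT.node (BT.node (BT.node BT.leaf 432013311 BT.leaf) 41446801407 (BT.node BT.leaf 659921960959 BT.leaf)) 1643 (BT.node (BT.node BT.leaf 49539595901075455 BT.leaf) 405323966463344639 BT.leaf)) 440664588287 (BT.node (BT.node (BT.node BT.leaf 5 BT.leaf) 109051903 BT.leaf) 714736402431 (BT.node (BT.node BT.leaf 25221147473739775 BT.leaf) 164982947839 BT.leaf))))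

/-- subtree -/
def WT_245 : BT := BT.node WT_243 432575 WT_244

/-- subtree -/
def WT_246 : BT := (BT.node (BT.node (BT.node (BT.node (BT.node BT.leaf 6460061821742088191 BT.leaf) 683007 (BT.node BT.leaf 677299162710015 BT.leaf)) 6711711 (BT.node (BT.node BT.leaf 98571646926847 BT.leaf) 29572605478151651327 BT.leaf)) 12033618204333965311 (BT.node (BT.node (BT.node BT.leaf 164980850687 BT.leaf) 109974650879 (BT.node BT.leaf 44531593115439464447 BT.leaf)) 1653753308367837724671 (BT.node (BT.node BT.leaf 45743549186047 BT.leaf) 1507327 BT.leaf))) 7208398231699455 (BT.node (BT.node (BT.node (BT.node BT.leaf 102017898645401217531903 BT.leaf) 394089019211775 (BT.node BT.leaf 419839 BT.leaf)) 97503316761640959 (BT.node (BT.node BT.leaf 697985023 BT.leaf) 413221872834868936703 BT.leaf)) 1557119571163348991 (BT.node (BT.node (BT.node BT.leaf 30438035478420652031 BT.leaf) 381681663 BT.leaf) 487008497285986254847 (BT.node (BT.node BT.leaf 1434 BT.leaf) 9839 BT.leaf))))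

/-- subtree -/
def WT_247 : BT := (BT.node (BT.node (BT.node (BT.node (BT.node BT.leaf 28826652259647487 BT.leaf) 5743 (BT.node BT.leaf 2997831647270797311 BT.leaf)) 347 (BT.node (BT.node BT.leaf 647603967 BT.leaf) 695524667452030975 BT.leaf)) 1844927734849994751 (BT.node (BT.node (BT.node BT.leaf 107 BT.leaf) 47967839631123152895 (BT.node BT.leaf 24962326834607816703 BT.leaf)) 6361499400404991 (BT.node (BT.node BT.leaf 1484354748415 BT.leaf) 1805123214901247 BT.leaf))) 94797823 (BT.node (BT.node (BT.node (BT.node BT.leaf 6946815 BT.leaf) 1523493619367935 (BT.node BT.leaf 5938245271551 BT.leaf)) 121777333924098211839 (BT.node (BT.node BT.leaf 7393123881747218431 BT.leaf) 177146558067828064255 BT.leaf)) 1594031073709277577215 (BT.node (BT.node (BT.node BT.leaf 88687 BT.leaf) 22121 BT.leaf) 103359511404245680127 (BT.node (BT.node BT.leaf 5938866028543 BT.leaf) 41943039 BT.leaf))))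

/-- subtree -/
def WT_248 : BT := BT.node WT_246 2639688368127 WT_247

/-- subtree -/
def WT_249 : BT := BT.node WT_245 1518338047 WT_248

/-- subtree -/
def WT_250 : BT := BT.node WT_242 189151184349560831 WT_249

/-- subtree -/
def WT_251 : BT := BT.node WT_235 23752981086207 WT_250

/-- subtree -/
def WT_252 : BT := BT.node WT_220 1553704419327 WT_251

/-- subtree -/
def WT_253 : BT := BT.node WT_189 27262975 WT_252

/-- subtree -/
def WT_254 : BT := BT.node WT_126 389561367767547903 WT_253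

/-- the tree -/
def WT : BT := WT_254

/-- codes of the generators -/
def gen : ℕ → ℕ
  | 0 => 201957
  | 1 => 1903566
  | 2 => 821520
  | _ => 205380

theorem h1 : T.lookup (enc4 59 1 0 0 1) = true := by decide +kernel

theorem hclosed : (List.range 3).all (fun i => T.toList.all (fun x => T.lookup (mulc 59 (gen i) x))) = true := by
  decide +kernel

theorem hword : WT.toList.map (evalwN 59 gen 64) = T.toList := by decide +kernel

theorem hsorted : sortedB T.toList = true := by decide +kernel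

theorem hfpf : T.toList.all (fun x => fpf 59 x) = true := by decide +kernel

theorem hlen : T.toList.length = 3480 := by decide +kernel

/-- An exceptional sharply doubly transitive group of degree 59^2: the listed matrices generate a subgroup of GL(2,59) of order 3480 acting regularly on the non-zero vectors. -/
theorem result (A : Matrix.GeneralLinearGroup (Fin 2) (ZMod 59)) (B : Matrix.GeneralLinearGroup (Fin 2) (ZMod 59)) (C : Matrix.GeneralLinearGroup (Fin 2) (ZMod 59)) (hA : (A : Matrix (Fin 2) (Fin 2) (ZMod 59)) = !![0, -1; 1, 0]) (hB : (B : Matrix (Fin 2) (Fin 2) (ZMod 59)) = !![9, 15; -10, -10]) (hC : (C : Matrix (Fin 2) (Fin 2) (ZMod 59)) = !![4, 0; 0, 4]) : Nat.card (Subgroup.closure ({A, B, C} : Set (Matrix.GeneralLinearGroup (Fin 2) (ZMod 59)))) = 3480 ∧ ∀ v w : Fin 2 → ZMod 59, v ≠ 0 → w ≠ 0 → ∃! h : Subgroup.closure ({A, B, C} : Set (Matrix.GeneralLinearGroup (Fin 2) (ZMod 59))), Matrix.mulVec ((h : Matrix.GeneralLinearGroup (Fin 2) (ZMod 59)) : Matrix (Fin 2) (Fin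 2) (ZMod 59)) v = w := by
  have hp : Fact (Nat.Prime 59) := ⟨by norm_num⟩
  let G : ℕ → GL (Fin 2) (ZMod 59) := fun i => match i with
    | 0 => A
    | 1 => B
    | 2 => C
    | _ => 1
  have hG : ∀ i, G i ∈ Subgroup.closure ({A, B, C} : Set (GL (Fin 2) (ZMod 59))) := by
    intro i
    match i with
    | 0 => exact Subgroup.subset_closure (Or.inl rfl)
    | 1 => exact Subgroup.subset_closure (Or.inr (Or.inl rfl))
    | 2 => exact Subgroup.subset_closure (Or.inr (Or.inr (rfl)))
    | (k + 3) => exact Subgroup.one_mem _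
  have hgen : ∀ i, code (G i).1 = gen i := by
    intro i
    match i with
    | 0 => change code (A : Matrix (Fin 2) (Fin 2) (ZMod 59)) = _; rw [hA]; decide +kernel
    | 1 => change code (B : Matrix (Fin 2) (Fin 2) (ZMod 59)) = _; rw [hB]; decide +kernel
    | 2 => change code (C : Matrix (Fin 2) (Fin 2) (ZMod 59)) = _; rw [hC]; decide +kernel
    | (k + 3) => change code (1 : Matrix (Fin 2) (Fin 2) (ZMod 59)) = _; rw [code_one]; rfl
  have hs : ∀ g ∈ ({A, B, C} : Set (GL (Fin 2) (ZMod 59))), ∃ i < 3, g = G i := by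
    intro g hg
    rcases hg with rfl | rfl | rfl
    · exact ⟨0, by norm_num, rfl⟩
    · exact ⟨1, by norm_num, rfl⟩
    · exact ⟨2, by norm_num, rfl⟩
  obtain ⟨hiff, hcard⟩ := closure_spec_tree ({A, B, C} : Set (GL (Fin 2) (ZMod 59))) G gen 3 hG hgen hs
    T.toList WT.toList T 64 rfl h1 hclosed hword hsorted
  rw [hlen] at hcard
  refine ⟨hcard, ?_⟩
  apply regular_of_fpf _ (by rw [hcard]; norm_num)
  intro h hh
  have hmem := (hiff h).mp hh
  have := hfpf
  rw [List.all_eq_true] at this
  exact this _ hmem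

end Cfsg.Agent.S0693
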