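import Cfsg.Statements.S0729
import Cfsg.Agent.S0728
import Cfsg.Agent.Lib.Helper83.Sharp3

set_option autoImplicit false
open Cfsg

namespace Cfsg.Agent.S0729

open Cfsg.Agent.Lib.Helper83 in
/-- Zassenhaus classification, the index-two step: in a sharply triply transitive group of even degree at least six, the stabiliser of two points has a normal subgroup of index two which is stable under conjugation by an element that interchanges the two points and fixes a third (this subgroup is the group of squares of a field, or the whole multiplicative group twisted by an involutory automorphism). -/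
theorem result {α : Type*} [Fintype α] [DecidableEq α] (heven : Even (Fintype.card α)) (h6 : 6 ≤ Fintype.card α) (G : Subgroup (Equiv.Perm α)) (h3 : MulAction.IsMultiplyPretransitive G α 3) (hsharp : ∀ x : Fin 3 ↪ α, MulAction.stabilizer G x = ⊥) {a b c : α} (hab : a ≠ b) (hac : a ≠ c) (hbc : b ≠ c) (s : G) (hsa : s • a = b) (hsb : s • b = a) (hsc : s • c = c) : ∃ N : Subgroup G, N ≤ MulAction.stabilizer G a ⊓ MulAction.stabilizer G b ∧ (N.subgroupOf (MulAction.stabilizer G a ⊓ MulAction.stabilizer G b)).Normal ∧ N.relIndex (MulAction.stabilizer G a ⊓ MulAction.stabilizer G b) = 2 ∧ ∀ n ∈ N, s * n * s⁻¹ ∈ N := by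
  have S : Sharp3 ↥G α := by
    constructor
    · intro x y z x' y' z' hxy hxz hyz hxy' hxz' hyz'
      obtain ⟨g, hg, h1, h2, h3'⟩ := Cfsg.Agent.S0728.trans3 G h3 hxy hxz hyz hxy' hxz' hyz'
      exact ⟨⟨g, hg⟩, h1, h2, h3'⟩
    · intro g x y z hxy hyz hxz h1 h2 h3'
      apply Subtype.ext
      exact Cfsg.Agent.S0728.sharp G hsharp g.1 g.2 hxy hxz hyz h1 h2 h3'
  have hcard : Nat.card α = Fintype.card α := Nat.card_eq_fintype_card
  have hidx : HasIdx2 ↥(MulAction.stabilizer G a ⊓ MulAction.stabilizer G b) := by
    apply S.hasIdx2 hab (by rw [hcard]; exact heven) (by rw [hcard]; omega)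
    intro A B hA hB hA3 hB3
    exact Cfsg.Agent.S0728.result heven h6 G h3 hsharp hab A B hA hB hA3 hB3
  exact S.exists_normal hab (Ne.symm hac) (Ne.symm hbc) hidx hsa hsb hsc

end Cfsg.Agent.S0729
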