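import Cfsg.Statements.S0730
import Cfsg.Agent.S0728
import Cfsg.Agent.Lib.Helper83.Sharp3Field

set_option autoImplicit false
open Cfsg

namespace Cfsg.Agent.S0730

open Cfsg.Agent.Lib.Helper83 in
/-- A sharply triply transitive group of degree `p^f + 1`, `p` an odd prime and `f` odd, is isomorphic to the projective general linear group of degree 2 over the field with `p^f` elements (for even `f` there is a second, twisted, group). -/
theorem result {α : Type*} [Fintype α] [DecidableEq α] {p f : ℕ} (hp : p.Prime) (hp2 : p ≠ 2) (hfo : Odd f) (hα : Fintype.card α = p ^ f + 1) (G : Subgroup (Equiv.Perm α)) (h3 : MulAction.IsMultiplyPretransitive G α 3) (hsharp : ∀ x : Fin 3 ↪ α, MulAction.stabilizer G x = ⊥) : ∃ (F : Type) (_ : Field F) (_ : Fintype F), Fintype.card F = p ^ f ∧ Nonempty (G ≃* Matrix.ProjGenLinGroup (Fin 2) F) := by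
  classical
  have S : Sharp3 ↥G α := by
    constructor
    · intro x y z x' y' z' hxy hxz hyz hxy' hxz' hyz'
      obtain ⟨g, hg, h1, h2, h3'⟩ := Cfsg.Agent.S0728.trans3 G h3 hxy hxz hyz hxy' hxz' hyz'
      exact ⟨⟨g, hg⟩, h1, h2, h3'⟩
    · intro g x y z hxy hyz hxz h1 h2 h3'
      apply Subtype.ext
      exact Cfsg.Agent.S0728.sharp G hsharp g.1 g.2 hxy hxz hyz h1 h2 h3'
  have hcard : Nat.card α = Fintype.card α := Nat.card_eq_fintype_card
  have hpodd : Odd p := hp.odd_of_ne_two hp2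
  have hnodd : Odd (p ^ f) := hpodd.pow
  have hevenα : Even (Fintype.card α) := by rw [hα]; exact hnodd.add_one
  have hn3 : 3 ≤ p ^ f := by
    obtain ⟨k, hk⟩ := hfo
    have h1 : p ^ 1 ≤ p ^ f := Nat.pow_le_pow_right hp.pos (by omega)
    rw [pow_one] at h1
    have h2 := hp.two_le
    omega
  obtain ⟨a, b, hab⟩ : ∃ a b : α, a ≠ b :=
    Fintype.exists_pair_of_one_lt_card (by omega)
  have hidx : HasIdx2 ↥(MulAction.stabilizer G a ⊓ MulAction.stabilizer G b) := by
    by_cases h6 : 6 ≤ Fintype.card α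
    · apply S.hasIdx2 hab (by rw [hcard]; exact hevenα) (by rw [hcard]; omega)
      intro A B hA hB hA3 hB3
      exact Cfsg.Agent.S0728.result hevenα h6 G h3 hsharp hab A B hA hB hA3 hB3
    · have hH := S.card_stab hab (by rw [hcard]; omega)
      refine ⟨⊥, ?_⟩
      rw [Subgroup.index_bot]
      obtain ⟨m, hm⟩ := hevenα
      omega
  obtain ⟨F, instF, instFin, pt, s, hFcard, hptbij, ha, hb, hs1, hs2, hs3⟩ :=
    S.coordinatise hab hp hp2 hfo (by rw [hcard]; exact hα) hidx
  obtain ⟨h1, h2⟩ :=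
    Cfsg.Agent.Lib.Helper58.moebius_of_affine_swap pt hptbij.2 ha hb s hs1 hs2 hs3
  refine ⟨F, instF, instFin, hFcard, ?_⟩
  apply Cfsg.Agent.Lib.Helper58.pgl_equiv_of_moebius G pt hptbij
  · intro g hg
    obtain ⟨M, hM⟩ := h1 ⟨g, hg⟩
    exact ⟨M, hM⟩
  · intro M
    obtain ⟨g, hg⟩ := h2 M
    exact ⟨g, g.2, hg⟩

end Cfsg.Agent.S0730
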