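import Cfsg.Statements.S0732
import Cfsg.Agent.Lib.Helper90.ZA
import Cfsg.Agent.Lib.Helper90.ZN
import Cfsg.Agent.Lib.Helper90.ZF

set_option autoImplicit false
open Cfsg

namespace Cfsg.Agent.S0732

/-- A transitive permutation group on `p + 1` points (`p` prime) of order `(p+1) p d` with `d < p` is isomorphic to `PGL(2,p)` with `d = p - 1`, or to `PSL(2,p)` with `2d = p - 1`, or else `p + 1 = 2^q` for a prime `q`, `d = 1` or `d = q`, and the group is permutation-isomorphic to a group of semi-affine maps `x ↦ a φ(x) + b` of the field with `2^q` elements. -/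
theorem result {α : Type*} [Fintype α] [DecidableEq α] {p d : ℕ} (hp : p.Prime) (hα : Fintype.card α = p + 1) (G : Subgroup (Equiv.Perm α)) [MulAction.IsPretransitive G α] (hG : Nat.card G = (p + 1) * p * d) (hd : d < p) : (d = p - 1 ∧ Nonempty (G ≃* Matrix.ProjGenLinGroup (Fin 2) (ZMod p))) ∨ (2 * d = p - 1 ∧ Nonempty (G ≃* Matrix.ProjectiveSpecialLinearGroup (Fin 2) (ZMod p))) ∨ (∃ q : ℕ, q.Prime ∧ p + 1 = 2 ^ q ∧ (d = 1 ∨ d = q) ∧ ∃ e : α ≃ GaloisField 2 q, ∀ g : G, (e.symm.trans (((g : Equiv.Perm α)).trans e)) ∈ Cfsg.semiaffineGroup (GaloisField 2 q)) := by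
  classical
  haveI : Fact p.Prime := ⟨hp⟩
  obtain ⟨e, hH⟩ := Cfsg.Agent.Lib.Helper90.ZG.exists_ZGood hα G hG hd
  have iso : G ≃* G.map (e.permCongrHom : Equiv.Perm α →* Equiv.Perm (Option (ZMod p))) :=
    (e.permCongrHom).subgroupMap G
  rcases hH.classify Cfsg.Agent.Lib.Helper90.ZG.feit_step with h | h | h
  · left
    obtain ⟨h1, ⟨f⟩⟩ := h
    exact ⟨h1, ⟨iso.trans f⟩⟩
  · right; left
    obtain ⟨h1, ⟨f⟩⟩ := h
    exact ⟨h1, ⟨iso.trans f⟩⟩
  · right; right
    obtain ⟨q, hq, hpq, hdq, e₂, he₂⟩ := h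
    refine ⟨q, hq, hpq, hdq, e.trans e₂, fun g => ?_⟩
    have h1 := he₂ (e.permCongrHom (g : Equiv.Perm α)) (Subgroup.mem_map_of_mem _ g.2)
    have h2 : (e.trans e₂).symm.trans ((g : Equiv.Perm α).trans (e.trans e₂)) =
        e₂.symm.trans ((e.permCongrHom (g : Equiv.Perm α)).trans e₂) := by
      ext x
      rfl
    rw [h2]
    exact h1

end Cfsg.Agent.S0732
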