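import Cfsg.Statements.S0748
import Cfsg.Agent.Lib.Helper75.LW.All
import Cfsg.Agent.Lib.Helper19.KAlt.All
import Cfsg.Agent.Lib.Helper19.KAlt.Main5
import Cfsg.Agent.Lib.Helper20.KAlt.Ev1
import Cfsg.Agent.Lib.Helper20.KAlt.Ev2
import Cfsg.Agent.Lib.Helper24.KAlt.InvSet
import Cfsg.Agent.Lib.Helper24.KAlt.Hall5
import Cfsg.Agent.Lib.Helper74.KAlt.Sgn
import Cfsg.Agent.Lib.Helper74.KAlt.OddK
import Cfsg.Agent.Lib.Helper74.KAlt.NoInv4

set_option autoImplicit false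
open Cfsg

namespace Cfsg.Agent.S0748

/-- The Livingstone–Wagner Theorem: a `k`-homogeneous permutation group of degree `n` with `10 ≤ 2k ≤ n` is `k`-transitive. -/
theorem result {α : Type*} [Fintype α] [DecidableEq α] (G : Subgroup (Equiv.Perm α)) {k : ℕ} (hk : 5 ≤ k) (hkn : 2 * k ≤ Fintype.card α) (hh : MulAction.IsPretransitive G (Set.powersetCard α k)) : MulAction.IsMultiplyPretransitive G α k := by
  exact (Cfsg.Agent.Lib.Helper75.LW.allBrT G k).mpr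
    (Cfsg.Agent.Lib.Helper19.KAlt.pkgMain5_of Cfsg.Agent.Lib.Helper19.KAlt.pkgMainK
      Cfsg.Agent.Lib.Helper20.KAlt.pkgEv1 Cfsg.Agent.Lib.Helper20.KAlt.pkgEv2
      (Cfsg.Agent.Lib.Helper74.KAlt.pkgNoInv4_of Cfsg.Agent.Lib.Helper24.KAlt.pkgInvSet
        Cfsg.Agent.Lib.Helper74.KAlt.pkgSgn)
      (Cfsg.Agent.Lib.Helper24.KAlt.pkgHall5 Cfsg.Agent.Lib.Helper74.KAlt.pkgOddK)
      G k hk hkn ((Cfsg.Agent.Lib.Helper75.LW.allBrH G k).mp hh))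

end Cfsg.Agent.S0748
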