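import Mathlib
import Cfsg.Statements.S0876
import Cfsg.Agent.Lib.Helper76.PRegular

set_option autoImplicit false
open Cfsg

namespace Cfsg.Agent.S0876

open Cfsg.Agent.Lib.Helper16 Cfsg.Agent.Lib.Helper81 Cfsg.Agent.Lib.Helper76

theorem hyp_of_isPPart {G : Type*} [Group G] (p : ℕ) (x a : G) (ha : Cfsg.IsPPart p x a) :
    (∃ k : ℕ, orderOf (x * (a⁻¹ * x)⁻¹) = p ^ k) ∧ Commute (x * (a⁻¹ * x)⁻¹) (a⁻¹ * x) ∧
      ¬ p ∣ orderOf (a⁻¹ * x) := by
  obtain ⟨y, rfl, hcomm, hk, hy⟩ := ha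
  have h1 : a⁻¹ * (a * y) = y := by group
  have h2 : a * y * y⁻¹ = a := by group
  rw [h1, h2]
  exact ⟨hk, hcomm, hy⟩

/-- Let G be a finite group, p a prime and M a maximal ideal of the ring of algebraic integers containing p. Let x, y be elements with p-parts a and b (so a⁻¹ * x and b⁻¹ * y are their p-regular parts). Then a⁻¹ * x and b⁻¹ * y are conjugate in G if and only if, for every irreducible character χ, the difference χ x - χ y lies in the local ideal at M. -/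
theorem result {G : Type*} [Group G] [Finite G] (p : ℕ) (M : Ideal Cfsg.AlgInt) (hM : Cfsg.IsPModular p M) (x y a b : G) (ha : Cfsg.IsPPart p x a) (hb : Cfsg.IsPPart p y b) : IsConj (a⁻¹ * x) (b⁻¹ * y) ↔ ∀ χ : Cfsg.IrrCharacter G, Cfsg.MemLocalIdeal M ((χ : G → ℂ) x - (χ : G → ℂ) y) := by
  have hMp : M.IsPrime := isPrime_of_isPModular hM
  have hx := hyp_of_isPPart p x a ha
  have hy := hyp_of_isPPart p y b hb
  constructor
  · intro hconj χ
    obtain ⟨m1, hm1, h1⟩ := irr_sub_mem p M hM χ x (a⁻¹ * x) hx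
    obtain ⟨m2, hm2, h2⟩ := irr_sub_mem p M hM χ y (b⁻¹ * y) hy
    have h3 : (χ : G → ℂ) (a⁻¹ * x) = (χ : G → ℂ) (b⁻¹ * y) :=
      Cfsg.Agent.Lib.Helper79.irr_eq_of_isConj χ.2 hconj
    have h4 : (χ : G → ℂ) x - (χ : G → ℂ) y = ((m1 - m2 : Cfsg.AlgInt) : ℂ) := by
      push_cast
      rw [h1, h2, h3]; ring
    rw [h4]
    exact memLocalIdeal_of_mem hMp (M.sub_mem hm1 hm2)
  · intro hall
    apply isConj_of_forall_mem p M hM _ _ hx.2.2 hy.2.2
    intro χ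
    obtain ⟨m1, hm1, h1⟩ := irr_sub_mem p M hM χ x (a⁻¹ * x) hx
    obtain ⟨m2, hm2, h2⟩ := irr_sub_mem p M hM χ y (b⁻¹ * y) hy
    let A : Cfsg.AlgInt := ⟨(χ : G → ℂ) x, Cfsg.Agent.Lib.Helper79.irr_isIntegral χ.2 x⟩
    let B : Cfsg.AlgInt := ⟨(χ : G → ℂ) y, Cfsg.Agent.Lib.Helper79.irr_isIntegral χ.2 y⟩
    have h5 : A - B ∈ M := by
      rw [← memLocalIdeal_algInt_iff hMp]
      have := hall χ
      simpa [A, B] using this
    refine ⟨(A - B) - m1 + m2, M.add_mem (M.sub_mem h5 hm1) hm2, ?_⟩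
    push_cast
    rw [h1, h2]
    simp only [A, B]
    ring

end Cfsg.Agent.S0876
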