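import Cfsg.Statements.S0924
import Cfsg.Agent.Lib.Helper78.SecondMainChar
import Cfsg.Agent.S0923
import Cfsg.Agent.S0917
import Cfsg.Agent.S0912

set_option autoImplicit false
open Cfsg

namespace Cfsg.Agent.S0924

/-- Let χ be an irreducible character of the finite group G and g ∈ G, and fix a maximal ideal M of the algebraic integers containing the prime p. If the p-part of g is contained in no defect group of the block of χ, then χ g = 0. -/
theorem result {G : Type*} [Group G] [Finite G] (p : ℕ) [Fact p.Prime] (M : Ideal Cfsg.AlgInt) (hM : Cfsg.IsPModular p M) (χ : Cfsg.IrrCharacter G) (g x : G) (hx : Cfsg.IsPPart p g x) (hD : ∀ D : Subgroup G, Cfsg.IsDefectGroup p M (Cfsg.blockOf M (χ : G → ℂ)) D → x ∉ D) : (χ : G → ℂ) g = 0 := by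
  classical
  have hp : p.Prime := hM.1
  have hPr := Cfsg.Agent.Lib.Helper16.isPrime_of_isPModular hM
  obtain ⟨y', hxy, hcomm, hxord, hy'ord⟩ := hx
  have hxC : x ∈ Subgroup.centralizer ({x} : Set G) := by
    rw [Subgroup.mem_centralizer_iff]
    intro m hm
    rw [Set.mem_singleton_iff] at hm
    rw [hm]
  have hy'C : y' ∈ Subgroup.centralizer ({x} : Set G) := by
    rw [Subgroup.mem_centralizer_iff]
    intro m hm
    rw [Set.mem_singleton_iff] at hm
    rw [hm]
    exact hcomm.eq
  have hcC : ∀ c : Subgroup.centralizer ({x} : Set G), x * (c : G) = (c : G) * x := by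
    intro c
    have h1 := c.2
    rw [Subgroup.mem_centralizer_iff] at h1
    exact h1 x (Set.mem_singleton x)
  have hB : Cfsg.IsPBlock M (Cfsg.blockOf M (χ : G → ℂ)) := ⟨χ, rfl⟩
  have hχB : χ ∈ Cfsg.blockOf M (χ : G → ℂ) := Cfsg.Agent.Lib.Helper16.mem_blockOf_self hPr χ
  have hφ : Cfsg.IsClassFunction (Subgroup.centralizer ({x} : Set G))
      (fun c : Subgroup.centralizer ({x} : Set G) => (χ : G → ℂ) (x * (c : G))) := by
    intro c t
    show (χ : G → ℂ) (x * ((t * c * t⁻¹ : Subgroup.centralizer ({x} : Set G)) : G)) =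
      (χ : G → ℂ) (x * (c : G))
    have e : x * ((t * c * t⁻¹ : Subgroup.centralizer ({x} : Set G)) : G) =
        (t : G) * (x * (c : G)) * (t : G)⁻¹ := by
      push_cast
      rw [← mul_assoc, ← mul_assoc, hcC t]
      simp only [mul_assoc]
    rw [e]
    exact Cfsg.Agent.Lib.Helper81.irr_conj_class χ _ _
  have hyord : ¬ p ∣ orderOf (⟨y', hy'C⟩ : Subgroup.centralizer ({x} : Set G)) := by
    rw [← Subgroup.orderOf_coe]
    exact hy'ord
  have key := Cfsg.Agent.Lib.Helper78.eq_zero_of_blockPart_eq_zero hPr
    (fun c : Subgroup.centralizer ({x} : Set G) => (χ : G → ℂ) (x * (c : G))) hφ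
    (⟨y', hy'C⟩ : Subgroup.centralizer ({x} : Set G)) (by
      intro b hb
      by_cases hind : Cfsg.IsInducedBlock M (Subgroup.centralizer ({x} : Set G)) b
          (Cfsg.blockOf M (χ : G → ℂ))
      · exfalso
        let _ := Fintype.ofFinite (Subgroup.centralizer ({x} : Set G))
        obtain ⟨Db, hDb⟩ := Cfsg.Agent.Lib.Helper77.exists_isDefectGroup p hPr b hb
        obtain ⟨E, hE, hDE⟩ := Cfsg.Agent.S0917.result p M hM
          (Subgroup.centralizer ({x} : Set G)) b hb _ hB hind Db hDb
        have hcore := Cfsg.Agent.S0912.result p M hM b hb Db hDb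
        apply hD E hE
        apply hDE
        refine ⟨⟨x, hxC⟩, ?_, rfl⟩
        apply hcore
        have hzN : (Subgroup.zpowers (⟨x, hxC⟩ : Subgroup.centralizer ({x} : Set G))).Normal := by
          constructor
          intro n hn t
          have hcomm2 : t * n * t⁻¹ = n := by
            obtain ⟨i, rfl⟩ := Subgroup.mem_zpowers_iff.mp hn
            have h1 : t * (⟨x, hxC⟩ : Subgroup.centralizer ({x} : Set G)) =
                (⟨x, hxC⟩ : Subgroup.centralizer ({x} : Set G)) * t := by
              apply Subtype.ext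
              push_cast
              exact (hcC t).symm
            have h2 : Commute t ((⟨x, hxC⟩ : Subgroup.centralizer ({x} : Set G)) ^ i) :=
              Commute.zpow_right h1 i
            rw [h2.eq, mul_inv_cancel_right]
          rw [hcomm2]
          exact hn
        have hzP : IsPGroup p (Subgroup.zpowers (⟨x, hxC⟩ : Subgroup.centralizer ({x} : Set G))) := by
          obtain ⟨k, hk⟩ := hxord
          apply IsPGroup.of_card (n := k)
          rw [Nat.card_zpowers, ← Subgroup.orderOf_coe]
          exact hk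
        have hle : Subgroup.zpowers (⟨x, hxC⟩ : Subgroup.centralizer ({x} : Set G)) ≤
            Cfsg.pCore p (Subgroup.centralizer ({x} : Set G)) :=
          le_sSup ⟨hzN, hzP⟩
        exact hle (Subgroup.mem_zpowers _)
      · exact Cfsg.Agent.S0923.result p M hM x hxord _ hB χ hχB b hb hind _ hyord)
  rw [← hxy]
  exact key

end Cfsg.Agent.S0924
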