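import Cfsg.Statements.S0984
import Cfsg.Agent.Lib.Helper6.A7.Asm
import Cfsg.Agent.Lib.Helper6.A7.LemFix
import Cfsg.Agent.Lib.Helper6.A7.LemCharSums
import Cfsg.Agent.Lib.Helper27.A7.LemS7No15
import Cfsg.Agent.Lib.Helper27.A7.LemS7No36
import Cfsg.Agent.Lib.Helper22.A7.LemSylow7
import Cfsg.Agent.Lib.Helper22.A7.LemSylow2
import Cfsg.Agent.Lib.Helper84.A7.LemS5Inv2
import Cfsg.Agent.Lib.Helper84.A7.LemS5Inv4
import Cfsg.Agent.Lib.Helper64.A7.LemSylow5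
import Cfsg.Agent.Lib.Helper64.A7.LemChar6
import Cfsg.Agent.Lib.Helper15.A7.LemSylow3
import Cfsg.Agent.Lib.Helper15.A7.LemOver
import Cfsg.Agent.Lib.Helper1.A7.LemTwoCentral
import Cfsg.Agent.Lib.Helper1.A7.LemS2NonAbelian
import Cfsg.Agent.Lib.Helper87.A7.LemC3
import Cfsg.Agent.Lib.Helper87.A7.LemS2TwoInv
import Cfsg.Agent.Lib.Helper38.A7.LemN3Cases
import Cfsg.Agent.Lib.Helper38.A7.LemN3NoV4
import Cfsg.Agent.Lib.Helper3.A7.LemNoDeg4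
import Cfsg.Agent.Lib.Helper3.A7.LemNoDeg9
import Cfsg.Agent.Lib.Helper62.A7.LemIso
import Cfsg.Agent.Lib.Helper62.A7.LemSums

set_option autoImplicit false
open Cfsg

namespace Cfsg.Agent.S0984

/-- A simple group of order 2520 is isomorphic to the alternating group of degree 7. -/
theorem result {G : Type*} [Group G] [Finite G] [IsSimpleGroup G] (h : Nat.card G = 2520) : Nonempty (G ≃* alternatingGroup (Fin 7)) := by
  exact Cfsg.Agent.Lib.Helper6.A7.iso_of_packages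
    Cfsg.Agent.Lib.Helper27.A7.lemS7No15 Cfsg.Agent.Lib.Helper27.A7.lemS7No36
    Cfsg.Agent.Lib.Helper22.A7.lemSylow7
    Cfsg.Agent.Lib.Helper84.A7.lemS5Inv2 Cfsg.Agent.Lib.Helper84.A7.lemS5Inv4
    Cfsg.Agent.Lib.Helper64.A7.lemSylow5
    Cfsg.Agent.Lib.Helper15.A7.lemSylow3 Cfsg.Agent.Lib.Helper1.A7.lemTwoCentral
    Cfsg.Agent.Lib.Helper87.A7.lemC3 Cfsg.Agent.Lib.Helper38.A7.lemN3Cases
    Cfsg.Agent.Lib.Helper38.A7.lemN3NoV4 Cfsg.Agent.Lib.Helper15.A7.lemOver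
    Cfsg.Agent.Lib.Helper1.A7.lemS2NonAbelian Cfsg.Agent.Lib.Helper87.A7.lemS2TwoInv
    Cfsg.Agent.Lib.Helper22.A7.lemSylow2
    Cfsg.Agent.Lib.Helper3.A7.lemNoDeg4 Cfsg.Agent.Lib.Helper3.A7.lemNoDeg9
    Cfsg.Agent.Lib.Helper64.A7.lemChar6 Cfsg.Agent.Lib.Helper6.A7.lemCharSums
    Cfsg.Agent.Lib.Helper62.A7.lemSums Cfsg.Agent.Lib.Helper6.A7.lemFix
    Cfsg.Agent.Lib.Helper6.A7.lemStab Cfsg.Agent.Lib.Helper62.A7.lemIso G h

end Cfsg.Agent.S0984
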