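import Cfsg.Statements.S0994
import Cfsg.Agent.Lib.Helper17.Simple

set_option autoImplicit false
open Cfsg
open Cfsg.Agent.Lib.Helper17

namespace Cfsg.Agent.S0994

/-- No finite simple group has order 1188 = 2^2 * 3^3 * 11. -/
theorem result {G : Type*} [Group G] [Finite G] [IsSimpleGroup G] : Nat.card G ≠ 1188 := by
  intro h
  have hnp : ¬ (Nat.card G).Prime := by rw [h]; norm_num
  have : Fact (Nat.Prime 11) := ⟨by norm_num⟩
  obtain ⟨P⟩ := (Sylow.nonempty : Nonempty (Sylow 11 G))
  have hc := card_sylow_mem_cands (G := G) 11 1 108 (by rw [h]; norm_num) (by norm_num)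
  have hcl : sylowCands 11 108 = [1, 12] := by decide +kernel
  rw [hcl] at hc
  have h3 : Nat.card (Sylow 11 G) ≠ 1 :=
    card_sylow_ne_one 11 (by rw [h]; norm_num) 2 (by norm_num) (by norm_num) (by rw [h]; norm_num)
  have h5 : Nat.card (Sylow 11 G) = 12 := by
    simp only [List.mem_cons, List.not_mem_nil, or_false] at hc
    omega
  have h4 := card_sylow_mul_card_normalizer 11 P
  rw [h5, h] at h4
  have hN : Nat.card (Subgroup.normalizer ((P : Subgroup G) : Set G)) = 99 := by omega
  have hP : Nat.card (P : Subgroup G) = 11 := by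
    simpa using card_sylow_eq_of_card_eq 11 1 108 (by rw [h]; norm_num) (by norm_num) P
  obtain ⟨d, hd1, hd2, hd3⟩ := exists_dvd_of_sylow_prime hnp 11 P hP
  rw [hN] at hd3
  have hd4 : d ∣ 9 := by
    have : d * 11 ∣ 9 * 11 := hd3
    exact Nat.dvd_of_mul_dvd_mul_right (by norm_num) this
  have hd5 : d ∣ Nat.gcd 10 9 := Nat.dvd_gcd hd2 hd4
  have : d = 1 := by simpa using hd5
  exact hd1 this

end Cfsg.Agent.S0994
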