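import Mathlib
import Cfsg.Statements.S1249

set_option autoImplicit false
open Cfsg

namespace Cfsg.Agent.S1249

/-- Let P and Q be Sylow p-subgroups of the finite group G both containing the subgroup A. If A is strongly closed in P, then A is strongly closed in Q. -/
theorem result {G : Type*} [Group G] [Finite G] {p : ℕ} [Fact p.Prime] (P Q : Sylow p G) (A : Subgroup G) (hAQ : A ≤ Q) (hA : Cfsg.IsStronglyClosed A (P : Subgroup G)) : Cfsg.IsStronglyClosed A (Q : Subgroup G) := by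
  obtain ⟨hAP, hcl⟩ := hA
  obtain ⟨g, hg⟩ := MulAction.exists_smul_eq G P Q
  have hmem : ∀ x : G, x ∈ (Q : Subgroup G) ↔ g⁻¹ * x * g ∈ (P : Subgroup G) := by
    intro x
    rw [← hg, Sylow.coe_subgroup_smul, Subgroup.mem_pointwise_smul_iff_inv_smul_mem]
    simp [MulAut.smul_def, MulAut.conj_apply]
  have h1 : ∀ x ∈ A, g⁻¹ * x * g ∈ A := by
    intro x hx
    have h := hcl x hx g⁻¹
    rw [inv_inv] at h
    exact h ((hmem x).1 (hAQ hx))
  have h2 : ∀ y ∈ A, g * y * g⁻¹ ∈ A := by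
    let f : A → A := fun x => ⟨g⁻¹ * x.1 * g, h1 x.1 x.2⟩
    have hinj : Function.Injective f := by
      intro a b hab
      have : g⁻¹ * a.1 * g = g⁻¹ * b.1 * g := congrArg Subtype.val hab
      apply Subtype.ext
      simpa using this
    have hsurj : Function.Surjective f := Finite.surjective_of_injective hinj
    intro y hy
    obtain ⟨x, hx⟩ := hsurj ⟨y, hy⟩
    have hx' : g⁻¹ * x.1 * g = y := congrArg Subtype.val hx
    have : g * y * g⁻¹ = x.1 := by rw [← hx']; group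
    rw [this]; exact x.2
  refine ⟨hAQ, fun x hx k hk => ?_⟩
  have h3 : g⁻¹ * (k * x * k⁻¹) * g ∈ (P : Subgroup G) := (hmem _).1 hk
  have h4 : (g⁻¹ * k) * x * (g⁻¹ * k)⁻¹ ∈ A := by
    apply hcl x hx
    have e : (g⁻¹ * k) * x * (g⁻¹ * k)⁻¹ = g⁻¹ * (k * x * k⁻¹) * g := by group
    rw [e]; exact h3
  have h5 := h2 _ h4
  have e : g * ((g⁻¹ * k) * x * (g⁻¹ * k)⁻¹) * g⁻¹ = k * x * k⁻¹ := by group
  rw [e] at h5; exact h5

end Cfsg.Agent.S1249
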