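import Mathlib
import Cfsg.Statements.S1250

set_option autoImplicit false
open Cfsg

namespace Cfsg.Agent.S1250

/-- Let S be a Sylow p-subgroup of the finite group G, A ≤ S strongly closed in S, and N a normal subgroup. Then the image of A in G ⧸ N is strongly closed in the image of S (which is a Sylow p-subgroup of G ⧸ N). -/
theorem result {G : Type*} [Group G] [Finite G] {p : ℕ} [Fact p.Prime] (S : Sylow p G) (A : Subgroup G) (hA : Cfsg.IsStronglyClosed A (S : Subgroup G)) (N : Subgroup G) [N.Normal] : Cfsg.IsStronglyClosed (A.map (QuotientGroup.mk' N)) ((S : Subgroup G).map (QuotientGroup.mk' N)) := by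
  obtain ⟨hAS, hcl⟩ := hA
  refine ⟨Subgroup.map_mono hAS, ?_⟩
  rintro _ ⟨a, ha, rfl⟩ gbar hmem
  obtain ⟨g, rfl⟩ := QuotientGroup.mk'_surjective N gbar
  have hmem' : (QuotientGroup.mk' N) (g * a * g⁻¹) ∈ (S : Subgroup G).map (QuotientGroup.mk' N) := by
    simpa using hmem
  obtain ⟨s, hs, hsy⟩ := hmem'
  obtain ⟨z, hz, hszy⟩ := (QuotientGroup.mk'_eq_mk' N).1 hsy
  -- y = g a g⁻¹ = s z lies in K = S ⊔ N
  let K : Subgroup G := (S : Subgroup G) ⊔ N
  have hSK : (S : Subgroup G) ≤ K := le_sup_left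
  have hyK : g * a * g⁻¹ ∈ K := by
    rw [← hszy]; exact Subgroup.mul_mem_sup hs hz
  -- the conjugate of A by g is a p-group
  have hAp : IsPGroup p A := S.isPGroup'.to_le hAS
  have hBp : IsPGroup p (Subgroup.zpowers (g * a * g⁻¹)) := by
    have h1 : IsPGroup p (A.map (MulAut.conj g).toMonoidHom) := hAp.map _
    refine h1.to_le ?_
    rw [Subgroup.zpowers_le]
    exact ⟨a, ha, by simp [MulAut.conj_apply]⟩
  have hB' : IsPGroup p ((Subgroup.zpowers (g * a * g⁻¹)).subgroupOf K) := hBp.comap_subtype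
  obtain ⟨Q, hQ⟩ := hB'.exists_le_sylow
  obtain ⟨k, hk⟩ := MulAction.exists_smul_eq K Q (S.subtype hSK)
  have hyQ : (⟨g * a * g⁻¹, hyK⟩ : K) ∈ (Q : Subgroup K) :=
    hQ (by rw [Subgroup.mem_subgroupOf]; exact Subgroup.mem_zpowers _)
  have h1 : k * (⟨g * a * g⁻¹, hyK⟩ : K) * k⁻¹ ∈ ((k • Q : Sylow p K) : Subgroup K) := by
    rw [Sylow.coe_subgroup_smul]
    exact ⟨_, hyQ, rfl⟩
  rw [hk, Sylow.coe_subtype, Subgroup.mem_subgroupOf] at h1
  have h2 : (k : G) * (g * a * g⁻¹) * (k : G)⁻¹ ∈ (S : Subgroup G) := by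
    simpa using h1
  -- write k = s' * n'
  have hkK : (k : G) ∈ (S : Subgroup G) ⊔ N := k.2
  rw [Subgroup.mem_sup_of_normal_right] at hkK
  obtain ⟨s', hs', n', hn', hkeq⟩ := hkK
  have h3 : n' * (g * a * g⁻¹) * n'⁻¹ ∈ (S : Subgroup G) := by
    have h4 : s'⁻¹ * ((k : G) * (g * a * g⁻¹) * (k : G)⁻¹) * s' ∈ (S : Subgroup G) :=
      Subgroup.mul_mem _ (Subgroup.mul_mem _ (Subgroup.inv_mem _ hs') h2) hs'
    have e : s'⁻¹ * ((k : G) * (g * a * g⁻¹) * (k : G)⁻¹) * s' = n' * (g * a * g⁻¹) * n'⁻¹ := by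
      rw [← hkeq]; group
    rw [e] at h4; exact h4
  have h5 : (n' * g) * a * (n' * g)⁻¹ ∈ A := by
    apply hcl a ha
    have e : (n' * g) * a * (n' * g)⁻¹ = n' * (g * a * g⁻¹) * n'⁻¹ := by group
    rw [e]; exact h3
  refine ⟨(n' * g) * a * (n' * g)⁻¹, h5, ?_⟩
  have hn1 : (QuotientGroup.mk' N) n' = 1 := by
    rw [QuotientGroup.mk'_apply, QuotientGroup.eq_one_iff]; exact hn'
  simp only [map_mul, map_inv, hn1, one_mul]

end Cfsg.Agent.S1250
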