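import Mathlib
import Cfsg.Agent.S0215
import Cfsg.Agent.Lib.Helper22.Quasi
import Cfsg.Agent.Lib.Helper9.FourGraph
import Cfsg.Agent.Lib.Helper11.SL2PSolv
import Cfsg.Statements.S1307

set_option autoImplicit false
open Cfsg
open scoped commutatorElement

namespace Cfsg.Agent.S1307

/-- Let G be finite, x an involution and L ≤ C_G(x) a component of C_G(x) of even order and 2-rank 1, such that L is a component of C_G(y) for every involution y ∈ C_G(L). Then some involution of L is a classical involution of G. -/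
theorem result {G : Type*} [Group G] [Finite G] (x : G) (hx : orderOf x = 2) (L : Subgroup G) (hLx : L ≤ Subgroup.centralizer ({x} : Set G)) (hL : Cfsg.IsComponent (L.subgroupOf (Subgroup.centralizer ({x} : Set G)))) (heven : Even (Nat.card ↥L)) (hrk : Cfsg.PRankLE 2 1 ↥L) (hne : ∀ y : G, orderOf y = 2 → y ∈ Subgroup.centralizer (L : Set G) → L ≤ Subgroup.centralizer ({y} : Set G) ∧ Cfsg.IsComponent (L.subgroupOf (Subgroup.centralizer ({y} : Set G)))) : ∃ t ∈ L, Cfsg.IsClassicalInvolution t := by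
  classical
  haveI : Fact (Nat.Prime 2) := ⟨Nat.prime_two⟩
  have hLq : Cfsg.IsQuasisimple ↥L :=
    Cfsg.Agent.Lib.Helper22.isQuasisimple_of_mulEquiv (Subgroup.subgroupOfEquivOfLe hLx).symm hL.2
  haveI hLperf : Group.IsPerfect ↥L := hLq.1
  obtain ⟨S⟩ : Nonempty (Sylow 2 ↥L) := inferInstance
  have hScard : 2 ∣ Nat.card ↥(S : Subgroup ↥L) := by
    have h1 := (S : Subgroup ↥L).card_mul_index
    have h2 : 2 ∣ Nat.card ↥(S : Subgroup ↥L) * (S : Subgroup ↥L).index := by
      rw [h1]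
      exact even_iff_two_dvd.mp heven
    rcases (Nat.Prime.dvd_mul Nat.prime_two).mp h2 with h | h
    · exact h
    · exact absurd h S.not_dvd_index
  haveI hSnt : Nontrivial ↥(S : Subgroup ↥L) := by
    rw [← Finite.one_lt_card_iff_nontrivial]
    exact lt_of_lt_of_le (by norm_num) (Nat.le_of_dvd Nat.card_pos hScard)
  -- a perfect group has no nontrivial cyclic Sylow 2-subgroup
  have hncyc : ¬ IsCyclic ↥(S : Subgroup ↥L) := by
    intro hcyc
    have hmin : (Nat.card ↥L).minFac = 2 :=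
      (Nat.minFac_eq_two_iff _).mpr (even_iff_two_dvd.mp heven)
    have hN := IsCyclic.normalizer_le_centralizer hmin hcyc
    have hcomp := MonoidHom.ker_transferSylow_isComplement' S hN
    letI : CommGroup ↥(S : Subgroup ↥L) := IsCyclic.commGroup
    have hker : (MonoidHom.transferSylow S hN).ker = ⊤ := by
      rw [eq_top_iff, ← Group.isPerfect_def.mp hLperf]
      exact Abelianization.commutator_subset_ker _
    rw [hker, Subgroup.isComplement'_top_left] at hcomp
    have h1 : Nat.card ↥(S : Subgroup ↥L) = 1 := by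
      rw [hcomp]
      exact Subgroup.card_bot
    rw [h1] at hScard
    omega
  -- a central involution of S
  haveI := S.isPGroup'.center_nontrivial
  have hZ2 : 2 ∣ Nat.card (Subgroup.center ↥(S : Subgroup ↥L)) := by
    obtain ⟨k, hk⟩ := IsPGroup.iff_card.mp (S.isPGroup'.to_subgroup (Subgroup.center _))
    have h1 : 1 < Nat.card (Subgroup.center ↥(S : Subgroup ↥L)) := Finite.one_lt_card
    rw [hk] at h1 ⊢
    apply dvd_pow_self
    rintro rfl
    simp at h1
  obtain ⟨z₀, hz₀⟩ :=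
    exists_prime_orderOf_dvd_card' (G := Subgroup.center ↥(S : Subgroup ↥L)) 2 hZ2
  obtain ⟨z, hzdef⟩ : ∃ z : ↥L, z = ((z₀ : ↥(S : Subgroup ↥L)) : ↥L) := ⟨_, rfl⟩
  have hzS : z ∈ (S : Subgroup ↥L) := hzdef ▸ (z₀ : ↥(S : Subgroup ↥L)).2
  have hzord : orderOf z = 2 := by
    rw [hzdef, Subgroup.orderOf_coe, Subgroup.orderOf_coe]
    exact hz₀
  have hzc : ∀ s ∈ (S : Subgroup ↥L), s * z = z * s := by
    intro s hs
    have h1 := Subgroup.mem_center_iff.mp z₀.2 ⟨s, hs⟩
    rw [hzdef]
    exact congrArg Subtype.val h1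
  have hz1 : z ≠ 1 := by
    intro h
    rw [h, orderOf_one] at hzord
    omega
  have hzz : z * z = 1 := by
    rw [← pow_two, ← hzord]
    exact pow_orderOf_eq_one z
  -- uniqueness of the involution of S
  have huniq : ∀ x ∈ (S : Subgroup ↥L), orderOf x = 2 → x = z := by
    intro x hx hxo
    by_contra hne
    have hx1 : x ≠ 1 := by
      intro h
      rw [h, orderOf_one] at hxo
      omega
    have hxx : x * x = 1 := by
      rw [← pow_two, ← hxo]
      exact pow_orderOf_eq_one x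
    have hc := hzc x hx
    have hxxG : (x : G) * (x : G) = 1 := by rw [← Subgroup.coe_mul, hxx]; rfl
    have hzzG : (z : G) * (z : G) = 1 := by rw [← Subgroup.coe_mul, hzz]; rfl
    have hcG : (x : G) * (z : G) = (z : G) * (x : G) := by
      rw [← Subgroup.coe_mul, hc]; rfl
    apply Cfsg.Agent.Lib.Helper9.not_pRankLE_of_kleinFour L
      (Cfsg.Agent.Lib.Helper9.kleinOf (x : G) (z : G) hxxG hzzG hcG) ?_
      (Cfsg.Agent.Lib.Helper9.isKleinFour_kleinOf _ _ _ _ _
        (fun h => hx1 (Subtype.ext h)) (fun h => hz1 (Subtype.ext h))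
        (fun h => hne (Subtype.ext h))) hrk
    intro w hw
    rcases hw with rfl | rfl | rfl | rfl
    · exact L.one_mem
    · exact x.2
    · exact z.2
    · exact L.mul_mem x.2 z.2
  have hiso : ∀ g : ↥L, g * z * g⁻¹ ∈ (S : Subgroup ↥L) → g * z * g⁻¹ = z := by
    intro g hg
    apply huniq _ hg
    have h1 := (MulAut.conj g).orderOf_eq z
    rw [MulAut.conj_apply] at h1
    rw [h1, hzord]
  obtain ⟨N, hNn, hNodd, hN⟩ := Cfsg.Agent.S0215.result S z hzord hzS hiso
  have hNc : N ≤ Subgroup.center ↥L := by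
    rcases Cfsg.Agent.Lib.Helper22.normal_le_center_or_eq_top hLq N hNn with h | h
    · exact h
    · exfalso
      rw [h, Subgroup.card_top] at hNodd
      exact (Nat.not_even_iff_odd.mpr hNodd) heven
  -- z is central in L
  have hzcen : ∀ g : ↥L, z * g = g * z := by
    have hcomm : ∀ g : ↥L, z * g * z⁻¹ * g⁻¹ ∈ Subgroup.center ↥L := fun g => hNc (hN g)
    obtain ⟨φ, hφ⟩ : ∃ φ : ↥L →* ↥(Subgroup.center ↥L),
        ∀ g : ↥L, ((φ g : ↥(Subgroup.center ↥L)) : ↥L) = z * g * z⁻¹ * g⁻¹ := by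
      refine ⟨{ toFun := fun g => ⟨z * g * z⁻¹ * g⁻¹, hcomm g⟩
                map_one' := by apply Subtype.ext; simp
                map_mul' := ?_ }, fun g => rfl⟩
      intro g h
      apply Subtype.ext
      have h1 := Subgroup.mem_center_iff.mp (hcomm h) g
      show z * (g * h) * z⁻¹ * (g * h)⁻¹ = z * g * z⁻¹ * g⁻¹ * (z * h * z⁻¹ * h⁻¹)
      calc z * (g * h) * z⁻¹ * (g * h)⁻¹ = z * g * z⁻¹ * (z * h * z⁻¹ * h⁻¹) * g⁻¹ := by group
        _ = z * g * z⁻¹ * ((z * h * z⁻¹ * h⁻¹) * g⁻¹) := by group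
        _ = z * g * z⁻¹ * (g⁻¹ * (z * h * z⁻¹ * h⁻¹)) := by
          have h2 : (z * h * z⁻¹ * h⁻¹) * g⁻¹ = g⁻¹ * (z * h * z⁻¹ * h⁻¹) := by
            calc (z * h * z⁻¹ * h⁻¹) * g⁻¹ = g⁻¹ * (g * (z * h * z⁻¹ * h⁻¹)) * g⁻¹ := by group
              _ = g⁻¹ * ((z * h * z⁻¹ * h⁻¹) * g) * g⁻¹ := by rw [h1]
              _ = g⁻¹ * (z * h * z⁻¹ * h⁻¹) := by group
          rw [h2]
        _ = z * g * z⁻¹ * g⁻¹ * (z * h * z⁻¹ * h⁻¹) := by group
    have hker : φ.ker = ⊤ := by
      rw [eq_top_iff, ← Group.isPerfect_def.mp hLperf, commutator_eq_closure, Subgroup.closure_le]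
      rintro _ ⟨a, b, rfl⟩
      show ⁅a, b⁆ ∈ φ.ker
      rw [MonoidHom.mem_ker, map_commutatorElement, commutatorElement_eq_one_iff_commute]
      have h1 := Subgroup.mem_center_iff.mp (φ a).2 (φ b : ↥L)
      exact (Subtype.ext h1).symm
    intro g
    have h1 : g ∈ φ.ker := hker ▸ Subgroup.mem_top g
    have h2 := congrArg Subtype.val (MonoidHom.mem_ker.mp h1)
    rw [hφ] at h2
    have h3 : z * g * z⁻¹ * g⁻¹ = 1 := h2
    calc z * g = (z * g * z⁻¹ * g⁻¹) * (g * z) := by group
      _ = g * z := by rw [h3, one_mul]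
  -- the involution t = z of G
  have htord : orderOf (z : G) = 2 := by
    rw [Subgroup.orderOf_coe]
    exact hzord
  have htc : (z : G) ∈ Subgroup.centralizer (L : Set G) := by
    rw [Subgroup.mem_centralizer_iff]
    intro l hl
    have h1 := hzcen ⟨l, hl⟩
    exact (congrArg Subtype.val h1).symm
  obtain ⟨hLt, hcomp⟩ := hne (z : G) htord htc
  -- the Sylow 2-subgroup is generalized quaternion
  have hquat : ∃ n : ℕ, Nonempty (↥(S : Subgroup ↥L) ≃* QuaternionGroup (2 ^ (n + 1))) := by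
    have h1 : ∀ s t : ↥(S : Subgroup ↥L), orderOf s = 2 → orderOf t = 2 → s = t := by
      intro s t hs ht
      apply Subtype.ext
      rw [huniq s s.2 (by rw [Subgroup.orderOf_coe]; exact hs),
        huniq t t.2 (by rw [Subgroup.orderOf_coe]; exact ht)]
    rcases Cfsg.Agent.Lib.Helper11.cyclic_or_quaternion_of_unique_involution S.isPGroup' h1 with
      h | ⟨n, ⟨e⟩⟩
    · exact absurd h hncyc
    · cases n with
      | zero =>
        exfalso
        apply hncyc
        haveI : IsCyclic (QuaternionGroup (2 ^ 0)) := by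
          rw [pow_zero]
          exact QuaternionGroup.quaternionGroup_one_isCyclic
        exact isCyclic_of_surjective e.symm e.symm.surjective
      | succ k => exact ⟨k, ⟨e⟩⟩
  obtain ⟨n, hn⟩ := hquat
  exact ⟨(z : G), z.2, htord, L, hLt, z.2, hcomp.1, S, n, hn⟩

end Cfsg.Agent.S1307
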