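import Cfsg.Statements.S1323
-- import your own Cfsg.Agent.* helpers here
import Mathlib
import Cfsg.Agent.Lib.Helper21.Quasi

set_option autoImplicit false
open Cfsg

namespace Cfsg.Agent.S1323

section aux

open Equiv Equiv.Perm
open scoped Pointwise commutatorElement

theorem inv_app {α : Type*} (g : Perm α) (x : α) : g⁻¹ (g x) = x := by simp

theorem app_inv {α : Type*} (g : Perm α) (x : α) : g (g⁻¹ x) = x := by simp

/-- The 3-cycle `u → v → w → u`. -/
def c3 {n : ℕ} (u v w : Fin n) : Perm (Fin n) := swap u v * swap v w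

theorem c3_sign {n : ℕ} (u v w : Fin n) (huv : u ≠ v) (hvw : v ≠ w) : sign (c3 u v w) = 1 := by
  unfold c3
  rw [Perm.sign_mul, sign_swap huv, sign_swap hvw]
  rfl

theorem c3_apply_left {n : ℕ} (u v w : Fin n) (huv : u ≠ v) (huw : u ≠ w) : c3 u v w u = v := by
  unfold c3
  rw [Perm.mul_apply, swap_apply_of_ne_of_ne huv huw, swap_apply_left]

theorem c3_apply_of_ne {n : ℕ} (u v w x : Fin n) (hu : x ≠ u) (hv : x ≠ v) (hw : x ≠ w) :
    c3 u v w x = x := by
  unfold c3
  rw [Perm.mul_apply, swap_apply_of_ne_of_ne hv hw, swap_apply_of_ne_of_ne hu hv]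

theorem c3_mem {n : ℕ} (u v w : Fin n) (huv : u ≠ v) (hvw : v ≠ w) :
    c3 u v w ∈ alternatingGroup (Fin n) :=
  mem_alternatingGroup.mpr (c3_sign u v w huv hvw)

theorem exists_avoid2 {n : ℕ} (hn : 9 ≤ n) (a b : Fin n) :
    ∃ u : Fin n, 4 ≤ u.val ∧ u ≠ a ∧ u ≠ b := by
  have h : ∃ k : ℕ, 4 ≤ k ∧ k < n ∧ k ≠ a.val ∧ k ≠ b.val := by
    by_cases h4 : a.val ≠ 4 ∧ b.val ≠ 4
    · exact ⟨4, by omega, by omega, by omega, by omega⟩
    by_cases h5 : a.val ≠ 5 ∧ b.val ≠ 5
    · exact ⟨5, by omega, by omega, by omega, by omega⟩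
    · exact ⟨6, by omega, by omega, by omega, by omega⟩
  obtain ⟨k, h1, h2, h3, h4⟩ := h
  exact ⟨⟨k, h2⟩, h1, fun h => h3 (congrArg Fin.val h), fun h => h4 (congrArg Fin.val h)⟩

theorem exists_avoid3 {n : ℕ} (hn : 9 ≤ n) (a b c : Fin n) :
    ∃ u : Fin n, 4 ≤ u.val ∧ u ≠ a ∧ u ≠ b ∧ u ≠ c := by
  have h : ∃ k : ℕ, 4 ≤ k ∧ k < n ∧ k ≠ a.val ∧ k ≠ b.val ∧ k ≠ c.val := by
    by_cases h4 : a.val ≠ 4 ∧ b.val ≠ 4 ∧ c.val ≠ 4
    · exact ⟨4, by omega, by omega, by omega, by omega, by omega⟩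
    by_cases h5 : a.val ≠ 5 ∧ b.val ≠ 5 ∧ c.val ≠ 5
    · exact ⟨5, by omega, by omega, by omega, by omega, by omega⟩
    by_cases h6 : a.val ≠ 6 ∧ b.val ≠ 6 ∧ c.val ≠ 6
    · exact ⟨6, by omega, by omega, by omega, by omega, by omega⟩
    · exact ⟨7, by omega, by omega, by omega, by omega, by omega⟩
  obtain ⟨k, h1, h2, h3, h4, h5⟩ := h
  exact ⟨⟨k, h2⟩, h1, fun h => h3 (congrArg Fin.val h), fun h => h4 (congrArg Fin.val h),
    fun h => h5 (congrArg Fin.val h)⟩

theorem exists_out {n : ℕ} (hn : 9 ≤ n) (g : Perm (Fin n)) :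
    ∃ v : Fin n, 4 ≤ v.val ∧ 4 ≤ (g v).val := by
  by_contra hcon
  push Not at hcon
  let φ : Fin 5 → Fin 4 := fun i => ⟨(g ⟨4 + i.val, by omega⟩).val, hcon _ (by simp)⟩
  have hφ : Function.Injective φ := by
    intro i j hij
    have h0 : (φ i).val = (φ j).val := congrArg Fin.val hij
    have h1 : (g ⟨4 + i.val, by omega⟩).val = (g ⟨4 + j.val, by omega⟩).val := h0
    have h2 := g.injective (Fin.ext h1)
    have h3 : 4 + i.val = 4 + j.val := congrArg Fin.val h2
    exact Fin.ext (by omega)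
  have := Fintype.card_le_of_injective φ hφ
  simp at this

/-- `g` maps the four points into themselves. -/
def PresT {n : ℕ} (g : Perm (Fin n)) : Prop := ∀ x : Fin n, x.val < 4 → (g x).val < 4

theorem presT_inv {n : ℕ} (g : Perm (Fin n)) (h : PresT g) : PresT g⁻¹ := by
  let φ : {x : Fin n // x.val < 4} → {x : Fin n // x.val < 4} := fun x => ⟨g x.1, h x.1 x.2⟩
  have hφ : Function.Injective φ := by
    intro x y hxy
    exact Subtype.ext (g.injective (congrArg Subtype.val hxy))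
  have hs : Function.Surjective φ := Finite.injective_iff_surjective.mp hφ
  intro z hz
  obtain ⟨x, hx⟩ := hs ⟨z, hz⟩
  have h1 : g x.1 = z := congrArg Subtype.val hx
  rw [← h1, inv_app]
  exact x.2

theorem presT_compl {n : ℕ} (g : Perm (Fin n)) (h : PresT g) (x : Fin n) (hx : 4 ≤ x.val) :
    4 ≤ (g x).val := by
  by_contra hcon
  have h1 := presT_inv g h (g x) (by omega)
  rw [inv_app] at h1
  omega

theorem ne_of_lt_of_le {n : ℕ} {a b : Fin n} (ha : a.val < 4) (hb : 4 ≤ b.val) : a ≠ b := by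
  intro h
  rw [h] at ha
  omega

theorem exists_in2 {n : ℕ} (hn : 9 ≤ n) (a b : Fin n) :
    ∃ u : Fin n, u.val < 4 ∧ u ≠ a ∧ u ≠ b := by
  have h : ∃ k : ℕ, k < 4 ∧ k < n ∧ k ≠ a.val ∧ k ≠ b.val := by
    by_cases h4 : a.val ≠ 0 ∧ b.val ≠ 0
    · exact ⟨0, by omega, by omega, by omega, by omega⟩
    by_cases h5 : a.val ≠ 1 ∧ b.val ≠ 1
    · exact ⟨1, by omega, by omega, by omega, by omega⟩
    · exact ⟨2, by omega, by omega, by omega, by omega⟩
  obtain ⟨k, h1, h2, h3, h4⟩ := h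
  exact ⟨⟨k, h2⟩, h1, fun h => h3 (congrArg Fin.val h), fun h => h4 (congrArg Fin.val h)⟩

/-- Even permutations fixing each of the four points. -/
def Lsub (n : ℕ) : Subgroup (alternatingGroup (Fin n)) where
  carrier := {g | ∀ x : Fin n, x.val < 4 → (g : Perm (Fin n)) x = x}
  one_mem' := fun _ _ => rfl
  mul_mem' := by
    intro a b ha hb x hx
    show (a : Perm (Fin n)) ((b : Perm (Fin n)) x) = x
    rw [hb x hx, ha x hx]
  inv_mem' := by
    intro a ha x hx
    show (a : Perm (Fin n))⁻¹ x = x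
    rw [Perm.inv_eq_iff_eq]
    exact (ha x hx).symm

/-- Even permutations fixing each point other than the four points. -/
def Csub (n : ℕ) : Subgroup (alternatingGroup (Fin n)) where
  carrier := {g | ∀ x : Fin n, 4 ≤ x.val → (g : Perm (Fin n)) x = x}
  one_mem' := fun _ _ => rfl
  mul_mem' := by
    intro a b ha hb x hx
    show (a : Perm (Fin n)) ((b : Perm (Fin n)) x) = x
    rw [hb x hx, ha x hx]
  inv_mem' := by
    intro a ha x hx
    show (a : Perm (Fin n))⁻¹ x = x
    rw [Perm.inv_eq_iff_eq]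
    exact (ha x hx).symm

theorem mem_Lsub {n : ℕ} (g : alternatingGroup (Fin n)) :
    g ∈ Lsub n ↔ ∀ x : Fin n, x.val < 4 → (g : Perm (Fin n)) x = x := Iff.rfl

theorem mem_Csub {n : ℕ} (g : alternatingGroup (Fin n)) :
    g ∈ Csub n ↔ ∀ x : Fin n, 4 ≤ x.val → (g : Perm (Fin n)) x = x := Iff.rfl

theorem iInf_eq_Lsub (n : ℕ) (h4 : 4 ≤ n) :
    (⨅ i : Fin 4, MulAction.stabilizer ↥(alternatingGroup (Fin n)) (Fin.castLE h4 i : Fin n))
      = Lsub n := by
  ext g
  rw [Subgroup.mem_iInf, mem_Lsub]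
  constructor
  · intro h x hx
    have h1 := h ⟨x.val, hx⟩
    rw [MulAction.mem_stabilizer_iff] at h1
    have h2 : (Fin.castLE h4 ⟨x.val, hx⟩ : Fin n) = x := Fin.ext rfl
    rw [h2] at h1
    exact h1
  · intro h i
    rw [MulAction.mem_stabilizer_iff]
    exact h _ (by simp)

/-- the element of the alternating group given by a 3-cycle -/
def c3A {n : ℕ} (u v w : Fin n) (huv : u ≠ v) (hvw : v ≠ w) : alternatingGroup (Fin n) :=
  ⟨c3 u v w, c3_mem u v w huv hvw⟩

theorem c3A_mem_Lsub {n : ℕ} (u v w : Fin n) (huv : u ≠ v) (hvw : v ≠ w)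
    (hu : 4 ≤ u.val) (hv : 4 ≤ v.val) (hw : 4 ≤ w.val) : c3A u v w huv hvw ∈ Lsub n := by
  intro z hz
  exact c3_apply_of_ne u v w z (ne_of_lt_of_le hz hu) (ne_of_lt_of_le hz hv) (ne_of_lt_of_le hz hw)

theorem c3A_mem_Csub {n : ℕ} (u v w : Fin n) (huv : u ≠ v) (hvw : v ≠ w)
    (hu : u.val < 4) (hv : v.val < 4) (hw : w.val < 4) : c3A u v w huv hvw ∈ Csub n := by
  intro z hz
  exact c3_apply_of_ne u v w z (ne_of_lt_of_le hu hz).symm (ne_of_lt_of_le hv hz).symm
    (ne_of_lt_of_le hw hz).symm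

theorem centralizer_Lsub {n : ℕ} (hn : 9 ≤ n) :
    Subgroup.centralizer (Lsub n : Set (alternatingGroup (Fin n))) = Csub n := by
  ext g
  rw [Subgroup.mem_centralizer_iff, mem_Csub]
  constructor
  · intro h x hx
    by_contra hgx
    by_cases hy : ((g : Perm (Fin n)) x).val < 4
    · obtain ⟨u, hu4, hux, -⟩ := exists_avoid2 hn x x
      obtain ⟨v, hv4, hvx, hvu⟩ := exists_avoid2 hn x u
      have hl := c3A_mem_Lsub x u v hux.symm hvu.symm hx hu4 hv4
      have h1 := h _ hl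
      have h2 : c3 x u v ((g : Perm (Fin n)) x) = (g : Perm (Fin n)) (c3 x u v x) :=
        congrArg (fun t : alternatingGroup (Fin n) => (t : Perm (Fin n)) x) h1
      rw [c3_apply_left x u v hux.symm hvx.symm,
        c3_apply_of_ne x u v _ (ne_of_lt_of_le hy hx) (ne_of_lt_of_le hy hu4)
          (ne_of_lt_of_le hy hv4)] at h2
      exact hux ((g : Perm (Fin n)).injective h2).symm
    · obtain ⟨u, hu4, hux, huy⟩ := exists_avoid2 hn x ((g : Perm (Fin n)) x)
      obtain ⟨v, hv4, hvx, hvy, hvu⟩ := exists_avoid3 hn x ((g : Perm (Fin n)) x) u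
      have hl := c3A_mem_Lsub ((g : Perm (Fin n)) x) u v huy.symm hvu.symm (by omega) hu4 hv4
      have h1 := h _ hl
      have h2 : c3 ((g : Perm (Fin n)) x) u v ((g : Perm (Fin n)) x)
          = (g : Perm (Fin n)) (c3 ((g : Perm (Fin n)) x) u v x) :=
        congrArg (fun t : alternatingGroup (Fin n) => (t : Perm (Fin n)) x) h1
      rw [c3_apply_left _ u v huy.symm hvy.symm,
        c3_apply_of_ne _ u v x (fun h => hgx h.symm) hux.symm hvx.symm] at h2
      exact huy h2
  · intro h l hl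
    apply Subtype.ext
    show (l : Perm (Fin n)) * (g : Perm (Fin n)) = (g : Perm (Fin n)) * (l : Perm (Fin n))
    have hd : Perm.Disjoint (l : Perm (Fin n)) (g : Perm (Fin n)) := by
      intro x
      by_cases hx : x.val < 4
      · left; exact hl x hx
      · right; exact h x (by omega)
    exact hd.commute.eq

theorem conj_mem_Lsub {n : ℕ} (g l : alternatingGroup (Fin n)) (hg : PresT (g : Perm (Fin n)))
    (hl : l ∈ Lsub n) : g * l * g⁻¹ ∈ Lsub n := by
  intro z hz
  show (g : Perm (Fin n)) ((l : Perm (Fin n)) ((g : Perm (Fin n))⁻¹ z)) = z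
  rw [hl _ (presT_inv _ hg z hz), app_inv]

theorem conj_mem_Csub {n : ℕ} (g c : alternatingGroup (Fin n)) (hg : PresT (g : Perm (Fin n)))
    (hc : c ∈ Csub n) : g * c * g⁻¹ ∈ Csub n := by
  intro z hz
  show (g : Perm (Fin n)) ((c : Perm (Fin n)) ((g : Perm (Fin n))⁻¹ z)) = z
  rw [hc _ (presT_compl _ (presT_inv _ hg) z hz), app_inv]

theorem mem_normalizer_of_conj' {G : Type*} [Group G] (S : Subgroup G) (g : G)
    (h1 : ∀ s ∈ S, g * s * g⁻¹ ∈ S) (h2 : ∀ s ∈ S, g⁻¹ * s * g ∈ S) :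
    g ∈ Subgroup.normalizer (S : Set G) := by
  rw [Subgroup.mem_normalizer_iff]
  intro s
  refine ⟨h1 s, fun hs => ?_⟩
  have h3 := h2 _ hs
  have h4 : g⁻¹ * (g * s * g⁻¹) * g = s := by group
  rwa [h4] at h3

theorem mem_normalizer_Lsub {n : ℕ} (hn : 9 ≤ n) (g : alternatingGroup (Fin n)) :
    g ∈ Subgroup.normalizer (Lsub n : Set (alternatingGroup (Fin n))) ↔
      PresT (g : Perm (Fin n)) := by
  constructor
  · intro hg x hx
    by_contra hy
    obtain ⟨u, hu4, huy, -⟩ := exists_avoid2 hn ((g : Perm (Fin n)) x) ((g : Perm (Fin n)) x)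
    obtain ⟨v, hv4, hvy, hvu⟩ := exists_avoid2 hn ((g : Perm (Fin n)) x) u
    have hl := c3A_mem_Lsub ((g : Perm (Fin n)) x) u v huy.symm hvu.symm (by omega) hu4 hv4
    have hg' := Subgroup.inv_mem _ hg
    rw [Subgroup.mem_normalizer_iff] at hg'
    have h1 := (hg' _).mp hl
    have h2 : (g : Perm (Fin n))⁻¹ (c3 ((g : Perm (Fin n)) x) u v
        ((g : Perm (Fin n))⁻¹⁻¹ x)) = x := h1 x hx
    rw [inv_inv, c3_apply_left _ u v huy.symm hvy.symm, Perm.inv_eq_iff_eq] at h2
    exact huy h2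
  · intro hg
    apply mem_normalizer_of_conj'
    · intro s hs
      exact conj_mem_Lsub g s hg hs
    · intro s hs
      have h1 := conj_mem_Lsub g⁻¹ s (presT_inv _ hg) hs
      rwa [inv_inv] at h1

theorem mem_normalizer_Csub {n : ℕ} (hn : 9 ≤ n) (g : alternatingGroup (Fin n)) :
    g ∈ Subgroup.normalizer (Csub n : Set (alternatingGroup (Fin n))) ↔
      PresT (g : Perm (Fin n)) := by
  constructor
  · intro hg x hx
    by_contra hy
    obtain ⟨u, hu4, hux, -⟩ := exists_in2 hn x x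
    obtain ⟨v, hv4, hvx, hvu⟩ := exists_in2 hn x u
    have hc := c3A_mem_Csub x u v hux.symm hvu.symm hx hu4 hv4
    rw [Subgroup.mem_normalizer_iff] at hg
    have h1 := (hg _).mp hc
    have h2 : (g : Perm (Fin n)) (c3 x u v ((g : Perm (Fin n))⁻¹ ((g : Perm (Fin n)) x)))
        = (g : Perm (Fin n)) x := h1 _ (by omega)
    rw [inv_app, c3_apply_left x u v hux.symm hvx.symm] at h2
    exact hux ((g : Perm (Fin n)).injective h2)
  · intro hg
    apply mem_normalizer_of_conj'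
    · intro s hs
      exact conj_mem_Csub g s hg hs
    · intro s hs
      have h1 := conj_mem_Csub g⁻¹ s (presT_inv _ hg) hs
      rwa [inv_inv] at h1

/-- Even permutations of a subtype, extended by the identity. -/
def extHom {α : Type*} [Fintype α] [DecidableEq α] (p : α → Prop) [DecidablePred p] :
    alternatingGroup (Subtype p) →* alternatingGroup α :=
  ((Perm.ofSubtype : Perm (Subtype p) →* Perm α).comp
    (alternatingGroup (Subtype p)).subtype).codRestrict (alternatingGroup α) (fun σ => by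
      rw [mem_alternatingGroup]
      show sign (Perm.ofSubtype (σ : Perm (Subtype p))) = 1
      rw [sign_ofSubtype]
      exact mem_alternatingGroup.mp σ.2)

theorem extHom_injective {α : Type*} [Fintype α] [DecidableEq α] (p : α → Prop)
    [DecidablePred p] : Function.Injective (extHom p) := by
  intro σ τ h
  have h1 : Perm.ofSubtype (σ : Perm (Subtype p)) = Perm.ofSubtype (τ : Perm (Subtype p)) :=
    congrArg Subtype.val h
  exact Subtype.ext (Perm.ofSubtype_injective h1)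

theorem mem_range_extHom {α : Type*} [Fintype α] [DecidableEq α] (p : α → Prop)
    [DecidablePred p] (g : alternatingGroup α) :
    g ∈ (extHom p).range ↔ ∀ x, ¬ p x → (g : Perm α) x = x := by
  constructor
  · rintro ⟨σ, rfl⟩ x hx
    exact Perm.ofSubtype_apply_of_not_mem (σ : Perm (Subtype p)) hx
  · intro h
    have h₂ : ∀ x, (g : Perm α) x ≠ x → p x := fun x hx => by
      by_contra hp
      exact hx (h x hp)
    have h₁ : ∀ x, p ((g : Perm α) x) ↔ p x := by
      intro x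
      constructor
      · intro hgx
        by_contra hp
        rw [h x hp] at hgx
        exact hp hgx
      · intro hx
        by_contra hp
        have h3 := h _ hp
        have h4 := (g : Perm α).injective h3
        rw [h4] at hp
        exact hp hx
    refine ⟨⟨Perm.subtypePerm (g : Perm α) h₁, ?_⟩, ?_⟩
    · rw [mem_alternatingGroup, sign_subtypePerm _ h₁ h₂]
      exact mem_alternatingGroup.mp g.2
    · apply Subtype.ext
      exact Perm.ofSubtype_subtypePerm h₁ h₂

theorem range_eq_Lsub (n : ℕ) : (extHom (fun x : Fin n => 4 ≤ x.val)).range = Lsub n := by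
  ext g
  rw [mem_range_extHom, mem_Lsub]
  constructor
  · intro h x hx
    exact h x (by omega)
  · intro h x hx
    exact h x (by omega)

theorem range_eq_Csub (n : ℕ) : (extHom (fun x : Fin n => x.val < 4)).range = Csub n := by
  ext g
  rw [mem_range_extHom, mem_Csub]
  constructor
  · intro h x hx
    exact h x (by omega)
  · intro h x hx
    exact h x (by omega)

/-- `L ≅ Alt(n - 4)`. -/
noncomputable def isoL (n : ℕ) : alternatingGroup {x : Fin n // 4 ≤ x.val} ≃* ↥(Lsub n) :=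
  (MonoidHom.ofInjective (extHom_injective (fun x : Fin n => 4 ≤ x.val))).trans
    (MulEquiv.subgroupCongr (range_eq_Lsub n))

/-- `C ≅ Alt(4)`. -/
noncomputable def isoC (n : ℕ) : alternatingGroup {x : Fin n // x.val < 4} ≃* ↥(Csub n) :=
  (MonoidHom.ofInjective (extHom_injective (fun x : Fin n => x.val < 4))).trans
    (MulEquiv.subgroupCongr (range_eq_Csub n))

theorem quasi_alt {α : Type*} [Fintype α] [DecidableEq α] (h5 : 5 ≤ Nat.card α) :
    Cfsg.IsQuasisimple (alternatingGroup α) := by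
  have hs : IsSimpleGroup (alternatingGroup α) := alternatingGroup.isSimpleGroup h5
  have hperf : commutator (alternatingGroup α) = ⊤ := commutator_alternatingGroup_eq_top h5
  refine ⟨⟨hperf⟩, ?_⟩
  have hc : Subgroup.center (alternatingGroup α) = ⊥ := by
    rcases hs.eq_bot_or_eq_top_of_normal (Subgroup.center (alternatingGroup α)) inferInstance
      with h | h
    · exact h
    · exfalso
      rw [← commutator_eq_bot_iff_center_eq_top, hperf] at h
      exact top_ne_bot h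
  exact ((QuotientGroup.quotientMulEquivOfEq hc).trans QuotientGroup.quotientBot).isSimpleGroup

theorem card_ge {n : ℕ} (hn : 9 ≤ n) : 5 ≤ Nat.card {x : Fin n // 4 ≤ x.val} := by
  rw [Nat.card_eq_fintype_card]
  have hinj : Function.Injective
      (fun i : Fin 5 => (⟨⟨4 + i.val, by omega⟩, by simp⟩ : {x : Fin n // 4 ≤ x.val})) := by
    intro i j hij
    have h1 : 4 + i.val = 4 + j.val :=
      congrArg (fun t : {x : Fin n // 4 ≤ x.val} => t.1.val) hij
    exact Fin.ext (by omega)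
  have h := Fintype.card_le_of_injective _ hinj
  simpa using h

theorem card_four {n : ℕ} (h4 : 4 ≤ n) : Nat.card {x : Fin n // x.val < 4} = 4 := by
  rw [Nat.card_eq_fintype_card]
  have e : Fin 4 ≃ {x : Fin n // x.val < 4} :=
    { toFun := fun i => ⟨Fin.castLE h4 i, by simp⟩
      invFun := fun x => ⟨x.1.val, x.2⟩
      left_inv := fun i => Fin.ext rfl
      right_inv := fun x => Subtype.ext (Fin.ext rfl) }
  rw [← Fintype.card_congr e, Fintype.card_fin]

theorem even_card_Csub {n : ℕ} (h4 : 4 ≤ n) : Even (Nat.card ↥(Csub n)) := by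
  have h1 : Nat.card ↥(Csub n) = Nat.card (alternatingGroup {x : Fin n // x.val < 4}) :=
    (Nat.card_congr (isoC n).toEquiv).symm
  have hnt : Nontrivial {x : Fin n // x.val < 4} := by
    rw [← Finite.one_lt_card_iff_nontrivial, card_four h4]
    norm_num
  have h2 := two_mul_nat_card_alternatingGroup (α := {x : Fin n // x.val < 4})
  rw [Nat.card_perm, card_four h4] at h2
  have h3 : Nat.factorial 4 = 24 := rfl
  rw [h3] at h2
  rw [h1]
  exact ⟨6, by omega⟩

theorem odd_inter {n : ℕ} (h4 : 4 ≤ n) (g : alternatingGroup (Fin n))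
    (hg : ¬ PresT (g : Perm (Fin n))) :
    Odd (Nat.card ↥(Csub n ⊓ (Csub n).map (MulAut.conj g).toMonoidHom)) := by
  by_contra hodd
  rw [Nat.not_odd_iff_even] at hodd
  have h2 : 2 ∣ Nat.card ↥(Csub n ⊓ (Csub n).map (MulAut.conj g).toMonoidHom) := hodd.two_dvd
  have hfact : Fact (Nat.Prime 2) := ⟨Nat.prime_two⟩
  obtain ⟨d, hd⟩ := exists_prime_orderOf_dvd_card' 2 h2
  have hdm := Subgroup.mem_inf.mp d.2
  obtain ⟨c, hc, hcd⟩ := Subgroup.mem_map.mp hdm.2
  obtain ⟨σ, hσ⟩ : ∃ σ : Perm (Fin n), σ = ((d : alternatingGroup (Fin n)) : Perm (Fin n)) :=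
    ⟨_, rfl⟩
  have hσo : orderOf σ = 2 := by
    rw [hσ, Subgroup.orderOf_coe, Subgroup.orderOf_coe]
    exact hd
  have hσs : sign σ = 1 := by
    rw [hσ]
    exact mem_alternatingGroup.mp (d : alternatingGroup (Fin n)).2
  have hσC : ∀ z : Fin n, 4 ≤ z.val → σ z = z := by
    rw [hσ]
    exact hdm.1
  have hσg : ∀ z : Fin n, 4 ≤ ((g : Perm (Fin n))⁻¹ z).val → σ z = z := by
    intro z hz
    have h1 : σ = (g : Perm (Fin n)) * (c : Perm (Fin n)) * (g : Perm (Fin n))⁻¹ := by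
      rw [hσ, ← hcd]
      rfl
    rw [h1]
    show (g : Perm (Fin n)) ((c : Perm (Fin n)) ((g : Perm (Fin n))⁻¹ z)) = z
    rw [hc _ hz, app_inv]
  have hg' : ¬ PresT (g : Perm (Fin n))⁻¹ := by
    intro h
    apply hg
    have h1 := presT_inv _ h
    rwa [inv_inv] at h1
  unfold PresT at hg'
  push Not at hg'
  obtain ⟨z₀, hz₀, hz₀'⟩ := hg'
  have hfix0 : σ z₀ = z₀ := hσg z₀ hz₀'
  have hsupp : σ.support ⊆ Finset.image (Fin.castLE h4) (Finset.univ.erase ⟨z₀.val, hz₀⟩) := by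
    intro z hz
    rw [Perm.mem_support] at hz
    have hz4 : z.val < 4 := by
      by_contra h
      exact hz (hσC z (by omega))
    rw [Finset.mem_image]
    refine ⟨⟨z.val, hz4⟩, ?_, Fin.ext rfl⟩
    rw [Finset.mem_erase]
    refine ⟨?_, Finset.mem_univ _⟩
    intro h
    have h6 : z.val = z₀.val := congrArg (fun t : Fin 4 => t.val) h
    have h5 : z = z₀ := Fin.ext h6
    rw [h5] at hz
    exact hz hfix0
  have hcard : σ.support.card ≤ 3 := by
    calc σ.support.card
        ≤ (Finset.image (Fin.castLE h4) (Finset.univ.erase ⟨z₀.val, hz₀⟩)).card :=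
          Finset.card_le_card hsupp
      _ ≤ (Finset.univ.erase (⟨z₀.val, hz₀⟩ : Fin 4)).card := Finset.card_image_le
      _ = 3 := by
          rw [Finset.card_erase_of_mem (Finset.mem_univ _), Finset.card_univ, Fintype.card_fin]
  obtain ⟨k, hk⟩ := Perm.cycleType_prime_order (σ := σ) (by rw [hσo]; exact Nat.prime_two)
  rw [hσo] at hk
  have hsum : σ.cycleType.sum = (k + 1) * 2 := by
    rw [hk, Multiset.sum_replicate, smul_eq_mul]
  have hcardct : Multiset.card σ.cycleType = k + 1 := by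
    rw [hk, Multiset.card_replicate]
  rw [← Perm.sum_cycleType, hsum] at hcard
  have hk0 : k = 0 := by omega
  have hsign := Perm.sign_of_cycleType σ
  rw [hsum, hcardct, hk0, hσs] at hsign
  exact absurd hsign (by decide)

theorem map_conj_eq_self {G : Type*} [Group G] (H : Subgroup G) (g : G)
    (hg : g ∈ Subgroup.normalizer (H : Set G)) :
    H.map (MulAut.conj g).toMonoidHom = H := by
  ext x
  rw [Subgroup.mem_map]
  rw [Subgroup.mem_normalizer_iff] at hg
  constructor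
  · rintro ⟨h, hh, rfl⟩
    exact (hg h).mp hh
  · intro hx
    refine ⟨g⁻¹ * x * g, ?_, ?_⟩
    · rw [hg]
      have h1 : g * (g⁻¹ * x * g) * g⁻¹ = x := by group
      rw [h1]
      exact hx
    · show g * (g⁻¹ * x * g) * g⁻¹ = x
      group

theorem noncomm {n : ℕ} (hn : 9 ≤ n) (g : alternatingGroup (Fin n))
    (hg : ¬ PresT (g : Perm (Fin n))) :
    ⁅Lsub n, (Lsub n).map (MulAut.conj g).toMonoidHom⁆ ≠ ⊥ := by
  unfold PresT at hg
  push Not at hg
  obtain ⟨x, hx, hy4⟩ := hg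
  obtain ⟨v₀, hv₀, hw4⟩ := exists_out hn (g : Perm (Fin n))
  obtain ⟨y, hyx⟩ : ∃ y : Fin n, y = (g : Perm (Fin n)) x := ⟨_, rfl⟩
  obtain ⟨w, hwv⟩ : ∃ w : Fin n, w = (g : Perm (Fin n)) v₀ := ⟨_, rfl⟩
  rw [← hyx] at hy4
  rw [← hwv] at hw4
  have hgy : (g : Perm (Fin n))⁻¹ y = x := by rw [hyx, inv_app]
  have hgw : (g : Perm (Fin n))⁻¹ w = v₀ := by rw [hwv, inv_app]
  have hxv : x ≠ v₀ := ne_of_lt_of_le hx hv₀
  have hyw : y ≠ w := by
    intro h
    rw [hyx, hwv] at h
    exact hxv ((g : Perm (Fin n)).injective h)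
  obtain ⟨u, hu4, huy, huw⟩ := exists_avoid2 hn y w
  obtain ⟨a, ha4, hav, -⟩ := exists_avoid2 hn v₀ v₀
  obtain ⟨b, hb4, hbv, hba⟩ := exists_avoid2 hn v₀ a
  have hl₁ := c3A_mem_Lsub y w u hyw huw.symm hy4 hw4 hu4
  have hc := c3A_mem_Lsub v₀ a b hav.symm hba.symm hv₀ ha4 hb4
  intro hbot
  have hmem : ⁅c3A y w u hyw huw.symm, g * c3A v₀ a b hav.symm hba.symm * g⁻¹⁆ ∈
      ⁅Lsub n, (Lsub n).map (MulAut.conj g).toMonoidHom⁆ :=
    Subgroup.commutator_mem_commutator hl₁ ⟨_, hc, rfl⟩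
  rw [hbot, Subgroup.mem_bot, commutatorElement_eq_one_iff_mul_comm] at hmem
  have h1 : c3 y w u ((g : Perm (Fin n)) (c3 v₀ a b ((g : Perm (Fin n))⁻¹ y)))
      = (g : Perm (Fin n)) (c3 v₀ a b ((g : Perm (Fin n))⁻¹ (c3 y w u y))) :=
    congrArg (fun t : alternatingGroup (Fin n) => (t : Perm (Fin n)) y) hmem
  have hL : c3 y w u ((g : Perm (Fin n)) (c3 v₀ a b ((g : Perm (Fin n))⁻¹ y))) = w := by
    rw [hgy, c3_apply_of_ne v₀ a b x hxv (ne_of_lt_of_le hx ha4) (ne_of_lt_of_le hx hb4), ← hyx,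
      c3_apply_left y w u hyw huy.symm]
  have hR : (g : Perm (Fin n)) (c3 v₀ a b ((g : Perm (Fin n))⁻¹ (c3 y w u y)))
      = (g : Perm (Fin n)) a := by
    rw [c3_apply_left y w u hyw huy.symm, hgw, c3_apply_left v₀ a b hav.symm hbv.symm]
  rw [hL, hR, hwv] at h1
  exact hav ((g : Perm (Fin n)).injective h1).symm

theorem main_aux (n : ℕ) (h4 : 4 ≤ n) (hn : 9 ≤ n) : Cfsg.IsStandardSubgroup (⨅ i : Fin 4, MulAction.stabilizer ↥(alternatingGroup (Fin n)) (Fin.castLE h4 i : Fin n)) := by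
  rw [iInf_eq_Lsub n h4]
  unfold Cfsg.IsStandardSubgroup Cfsg.IsTightlyEmbedded
  rw [centralizer_Lsub hn]
  refine ⟨?_, ⟨?_, ?_⟩, ?_, ?_⟩
  · exact Cfsg.Agent.Lib.Helper21.isQuasisimple_of_mulEquiv (isoL n).symm (quasi_alt (card_ge hn))
  · exact even_card_Csub h4
  · intro g hg
    rw [mem_normalizer_Csub hn] at hg
    exact odd_inter h4 g hg
  · intro g hg
    apply noncomm hn g
    intro hP
    exact hg (map_conj_eq_self _ g ((mem_normalizer_Lsub hn g).mpr hP))
  · ext g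
    rw [mem_normalizer_Lsub hn, mem_normalizer_Csub hn]

end aux

/-- For n ≥ 9, the subgroup of the alternating group on Fin n fixing each of the points 0, 1, 2, 3 is a standard subgroup. -/
theorem result (n : ℕ) (h4 : 4 ≤ n) (hn : 9 ≤ n) : Cfsg.IsStandardSubgroup (⨅ i : Fin 4, MulAction.stabilizer ↥(alternatingGroup (Fin n)) (Fin.castLE h4 i : Fin n)) := by
  exact main_aux n h4 hn

end Cfsg.Agent.S1323
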