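import Mathlib
import Cfsg.Statements.S1339
import Cfsg.Agent.Lib.Helper31.EvenChar
-- import your own Cfsg.Agent.* helpers here

set_option autoImplicit false
open Cfsg

namespace Cfsg.Agent.S1339

open Matrix

section aux

variable {F : Type*} [Field F] [Fintype F] [DecidableEq F] {n : ℕ}

theorem F2_cases (hF : Fintype.card F = 2) (x : F) : x = 0 ∨ x = 1 := by
  by_contra h
  push Not at h
  have h3 : ({0, 1, x} : Finset F).card ≤ Fintype.card F := Finset.card_le_univ _
  rw [Finset.card_insert_of_notMem, Finset.card_insert_of_notMem, Finset.card_singleton, hF] at h3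
  · omega
  · simp only [Finset.mem_singleton]
    exact fun h' => h.2 h'.symm
  · simp only [Finset.mem_insert, Finset.mem_singleton, not_or]
    exact ⟨zero_ne_one, fun h' => h.1 h'.symm⟩

theorem F2_add_self (hF : Fintype.card F = 2) (x : F) : x + x = 0 := by
  have h11 : (1 : F) + 1 = 0 := by
    rcases F2_cases hF ((1 : F) + 1) with h | h
    · exact h
    · exfalso
      have : (1 : F) = 0 := by linear_combination h
      exact one_ne_zero this
  calc x + x = x * (1 + 1) := by ring
    _ = 0 := by rw [h11, mul_zero]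

/-- Matrices commuting with the transvection `1 + E_ij` over the field with two elements. -/
theorem cent_facts (hF : Fintype.card F = 2) {i j : Fin n}
    (g : SpecialLinearGroup (Fin n) F)
    (hg : (g : Matrix (Fin n) (Fin n) F) * transvection i j 1 =
      transvection i j 1 * (g : Matrix (Fin n) (Fin n) F)) :
    (∀ k, (g : Matrix (Fin n) (Fin n) F) k i = if k = i then 1 else 0) ∧
    (∀ l, (g : Matrix (Fin n) (Fin n) F) j l = if l = j then 1 else 0) := by
  obtain ⟨M, hM⟩ : ∃ M : Matrix (Fin n) (Fin n) F, M = (g : Matrix (Fin n) (Fin n) F) := ⟨_, rfl⟩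
  rw [← hM] at hg ⊢
  have hcol : ∀ k, k ≠ i → M k i = 0 := by
    intro k hk
    have h1 := congrFun (congrFun hg k) j
    rw [mul_transvection_apply_same, transvection_mul_apply_of_ne (ha := hk)] at h1
    simpa using h1
  have hrow : ∀ l, l ≠ j → M j l = 0 := by
    intro l hl
    have h1 := congrFun (congrFun hg i) l
    rw [transvection_mul_apply_same, mul_transvection_apply_of_ne (hb := hl)] at h1
    simpa using h1.symm
  have hdiag : M i i = M j j := by
    have h1 := congrFun (congrFun hg i) j
    rw [transvection_mul_apply_same, mul_transvection_apply_same] at h1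
    simpa using h1
  have hii : M i i = 1 := by
    rcases F2_cases hF (M i i) with h | h
    · exfalso
      have hdet : M.det = 0 := det_eq_zero_of_column_eq_zero i (fun k => by
        by_cases hk : k = i
        · rw [hk]; exact h
        · exact hcol k hk)
      have h1 := g.det_coe
      rw [← hM, hdet] at h1
      exact zero_ne_one h1
    · exact h
  constructor
  · intro k
    by_cases hk : k = i
    · rw [if_pos hk, hk]; exact hii
    · rw [if_neg hk]; exact hcol k hk
  · intro l
    by_cases hl : l = j
    · rw [if_pos hl, hl, ← hdiag]; exact hii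
    · rw [if_neg hl]; exact hrow l hl

omit [Fintype F] [DecidableEq F] in
/-- Row expansion when a row is standard away from column `j`. -/
theorem row_sum {j k : Fin n} (r x : Fin n → F)
    (hr : ∀ m, m ≠ j → r m = if k = m then 1 else 0) :
    ∑ m, r m * x m = (if k = j then 0 else x k) + r j * x j := by
  rw [← Finset.add_sum_erase Finset.univ _ (Finset.mem_univ j), add_comm]
  congr 1
  have e : ∀ m ∈ Finset.univ.erase j, r m * x m = if k = m then x m else 0 := by
    intro m hm
    rw [hr m (Finset.ne_of_mem_erase hm)]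
    split_ifs <;> simp
  rw [Finset.sum_congr rfl e, Finset.sum_ite_eq]
  by_cases hk : k = j
  · simp [hk]
  · simp [hk]

omit [Fintype F] [DecidableEq F] in
theorem coeC_mul (C : Subgroup (SpecialLinearGroup (Fin n) F)) (a b : ↥C) :
    ((a * b).1 : Matrix (Fin n) (Fin n) F) =
      (a.1 : Matrix (Fin n) (Fin n) F) * (b.1 : Matrix (Fin n) (Fin n) F) := rfl

omit [Fintype F] [DecidableEq F] in
theorem coeC_one (C : Subgroup (SpecialLinearGroup (Fin n) F)) :
    ((1 : ↥C).1 : Matrix (Fin n) (Fin n) F) = 1 := rfl

omit [Fintype F] [DecidableEq F] in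
theorem SL_ext {A B : SpecialLinearGroup (Fin n) F}
    (h : (A : Matrix (Fin n) (Fin n) F) = B) : A = B := Subtype.ext h

end aux


/-- Let F be a field with 2 elements, n ≥ 3, and t ∈ SL(n, F) a transvection (t = 1 + E_{ij}, i ≠ j). Then the generalized Fitting subgroup of C(t) is O_2(C(t)). -/
theorem result {F : Type*} [Field F] [Fintype F] [DecidableEq F] (hF : Fintype.card F = 2) (n : ℕ) (hn : 3 ≤ n) (i j : Fin n) (hij : i ≠ j) (t : Matrix.SpecialLinearGroup (Fin n) F) (ht : (t : Matrix (Fin n) (Fin n) F) = Matrix.transvection i j 1) : Cfsg.generalizedFittingSubgroup ↥(Subgroup.centralizer ({t} : Set (Matrix.SpecialLinearGroup (Fin n) F))) = Cfsg.pCore 2 ↥(Subgroup.centralizer ({t} : Set (Matrix.SpecialLinearGroup (Fin n) F))) := by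
  have : Fact (Nat.Prime 2) := ⟨Nat.prime_two⟩
  apply Cfsg.Agent.Lib.Helper31.generalizedFittingSubgroup_eq_pCore
  obtain ⟨C, hC⟩ : ∃ C : Subgroup (SpecialLinearGroup (Fin n) F),
      C = Subgroup.centralizer ({t} : Set (SpecialLinearGroup (Fin n) F)) := ⟨_, rfl⟩
  rw [← hC]
  have hmemC : ∀ g : SpecialLinearGroup (Fin n) F, g ∈ C ↔
      (g : Matrix (Fin n) (Fin n) F) * transvection i j 1 =
        transvection i j 1 * (g : Matrix (Fin n) (Fin n) F) := by
    intro g
    rw [hC, Subgroup.mem_centralizer_iff]
    constructor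
    · intro h
      have h' := congrArg (fun x : SpecialLinearGroup (Fin n) F =>
        (x : Matrix (Fin n) (Fin n) F)) (h t rfl)
      simp only [Matrix.SpecialLinearGroup.coe_mul, ht] at h'
      exact h'.symm
    · intro h x hx
      rw [Set.mem_singleton_iff] at hx
      subst hx
      apply SL_ext
      rw [Matrix.SpecialLinearGroup.coe_mul, Matrix.SpecialLinearGroup.coe_mul, ht]
      exact h.symm
  have hfacts : ∀ c : ↥C, (∀ k, (c.1 : Matrix (Fin n) (Fin n) F) k i = if k = i then 1 else 0) ∧
      (∀ l, (c.1 : Matrix (Fin n) (Fin n) F) j l = if l = j then 1 else 0) :=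
    fun c => cent_facts hF c.1 ((hmemC c.1).mp c.2)
  -- the action on the section `H/P`
  let φ : ↥C →* Matrix {k : Fin n // k ≠ i ∧ k ≠ j} {k : Fin n // k ≠ i ∧ k ≠ j} F :=
    { toFun := fun c => (c.1 : Matrix (Fin n) (Fin n) F).submatrix Subtype.val Subtype.val
      map_one' := by
        ext k l
        rw [coeC_one, submatrix_apply, Matrix.one_apply, Matrix.one_apply]
        simp [Subtype.ext_iff]
      map_mul' := by
        intro g h
        ext k l
        rw [coeC_mul, submatrix_apply, Matrix.mul_apply, Matrix.mul_apply]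
        simp only [submatrix_apply]
        rw [← Finset.sum_subtype (Finset.univ.filter (fun m : Fin n => m ≠ i ∧ m ≠ j))
          (by simp) (fun m => (g.1 : Matrix (Fin n) (Fin n) F) k.1 m *
            (h.1 : Matrix (Fin n) (Fin n) F) m l.1)]
        symm
        apply Finset.sum_filter_of_ne
        intro m _ hm
        refine ⟨?_, ?_⟩
        · rintro rfl
          apply hm
          rw [(hfacts g).1 k.1, if_neg k.2.1, zero_mul]
        · rintro rfl
          apply hm
          rw [(hfacts h).2 l.1, if_neg l.2.2, mul_zero] }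
  have hφ : ∀ c : ↥C, φ c = (c.1 : Matrix (Fin n) (Fin n) F).submatrix Subtype.val Subtype.val :=
    fun c => rfl
  -- elements of the kernel
  have hQ0 : ∀ c : ↥C, c ∈ φ.ker → ∀ k l, k ≠ i → l ≠ j →
      (c.1 : Matrix (Fin n) (Fin n) F) k l = if k = l then 1 else 0 := by
    intro c hc k l hk hl
    by_cases hkj : k = j
    · subst hkj
      rw [(hfacts c).2 l]
      simp only [eq_comm]
    · by_cases hli : l = i
      · subst hli
        exact (hfacts c).1 k
      · have h0 : φ c = 1 := MonoidHom.mem_ker.mp hc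
        have h1 : φ c ⟨k, hk, hkj⟩ ⟨l, hli, hl⟩ =
            (1 : Matrix {k : Fin n // k ≠ i ∧ k ≠ j} {k : Fin n // k ≠ i ∧ k ≠ j} F)
              ⟨k, hk, hkj⟩ ⟨l, hli, hl⟩ := by rw [h0]
        rw [hφ, submatrix_apply, Matrix.one_apply] at h1
        simpa [Subtype.ext_iff] using h1
  have hQ0' : ∀ c : ↥C, (∀ k l, k ≠ i → (c.1 : Matrix (Fin n) (Fin n) F) k l =
      if k = l then 1 else 0) → c ∈ φ.ker := by
    intro c hc
    rw [MonoidHom.mem_ker, hφ]
    ext k l
    rw [submatrix_apply, hc k.1 l.1 k.2.1, Matrix.one_apply]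
    simp [Subtype.ext_iff]
  -- squares of elements of the kernel
  have hsq : ∀ c : ↥C, c ∈ φ.ker → ∀ k l, k ≠ i →
      ((c * c).1 : Matrix (Fin n) (Fin n) F) k l = if k = l then 1 else 0 := by
    intro c hc k l hk
    rw [coeC_mul, Matrix.mul_apply]
    rw [row_sum (j := j) (k := k) (fun m => (c.1 : Matrix (Fin n) (Fin n) F) k m)
      (fun m => (c.1 : Matrix (Fin n) (Fin n) F) m l) (fun m hm => hQ0 c hc k m hk hm),
      (hfacts c).2 l]
    by_cases hl : l = j
    · subst hl
      by_cases hkl : k = l
      · subst hkl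
        simp [(hfacts c).2 k]
      · simp only [if_neg hkl, if_true, mul_one]
        exact F2_add_self hF _
    · by_cases hkj : k = j
      · subst hkj
        simp [hl, Ne.symm hl]
      · simp only [if_neg hkj, if_neg hl, mul_zero, add_zero]
        exact hQ0 c hc k l hk hl
  have hfour : ∀ c : ↥C, c ∈ φ.ker → (c * c) * (c * c) = 1 := by
    intro c hc
    obtain ⟨d, hd⟩ : ∃ d : ↥C, d = c * c := ⟨_, rfl⟩
    rw [← hd]
    have hdrow : ∀ k l, k ≠ i → (d.1 : Matrix (Fin n) (Fin n) F) k l = if k = l then 1 else 0 := by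
      rw [hd]; exact hsq c hc
    have hdii : (d.1 : Matrix (Fin n) (Fin n) F) i i = 1 := by
      have := (hfacts d).1 i
      simpa using this
    apply Subtype.ext
    apply SL_ext
    rw [coeC_mul, coeC_one]
    ext k l
    rw [Matrix.mul_apply, Matrix.one_apply]
    by_cases hk : k = i
    · subst hk
      have e : ∀ m, (d.1 : Matrix (Fin n) (Fin n) F) k m * (d.1 : Matrix (Fin n) (Fin n) F) m l =
          (d.1 : Matrix (Fin n) (Fin n) F) m l * (d.1 : Matrix (Fin n) (Fin n) F) k m :=
        fun m => mul_comm _ _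
      rw [Finset.sum_congr rfl (fun m _ => e m),
        row_sum (j := k) (k := l) (fun m => (d.1 : Matrix (Fin n) (Fin n) F) m l)
          (fun m => (d.1 : Matrix (Fin n) (Fin n) F) k m)
          (fun m hm => by rw [hdrow m l hm]; simp only [eq_comm])]
      by_cases hl : l = k
      · subst hl
        simp [hdii]
      · rw [if_neg hl, if_neg (Ne.symm hl), hdii, mul_one]
        exact F2_add_self hF _
    · have e : ∀ m, (d.1 : Matrix (Fin n) (Fin n) F) k m * (d.1 : Matrix (Fin n) (Fin n) F) m l =
          if k = m then (d.1 : Matrix (Fin n) (Fin n) F) m l else 0 := by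
        intro m
        rw [hdrow k m hk]
        split_ifs <;> simp
      rw [Finset.sum_congr rfl (fun m _ => e m), Finset.sum_ite_eq, if_pos (Finset.mem_univ k),
        hdrow k l hk]
  have hpg : IsPGroup 2 φ.ker := by
    intro c
    refine ⟨2, ?_⟩
    apply Subtype.ext
    have e : ((c ^ 2 ^ 2 : ↥φ.ker) : ↥C) = (c.1 * c.1) * (c.1 * c.1) := by
      norm_num [pow_succ, mul_assoc]
    rw [e, hfour c.1 c.2]
    rfl
  have hle : φ.ker ≤ Cfsg.pCore 2 ↥C := le_sSup ⟨MonoidHom.normal_ker φ, hpg⟩
  -- the centralizer of the kernel lies in the kernel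
  intro x hx
  apply hle
  apply hQ0'
  intro l b hl
  have hdet : (transvection i l (1 : F)).det = 1 := det_transvection_of_ne i l (Ne.symm hl) 1
  obtain ⟨T, hT⟩ : ∃ T : SpecialLinearGroup (Fin n) F,
      (T : Matrix (Fin n) (Fin n) F) = transvection i l 1 := ⟨⟨_, hdet⟩, rfl⟩
  have hTC : T ∈ C := by
    rw [hmemC, hT]
    have e1 : (single i l (1 : F) : Matrix (Fin n) (Fin n) F) * single i j (1 : F) = 0 := by
      apply single_mul_single_of_ne
      exact hl
    have e2 : (single i j (1 : F) : Matrix (Fin n) (Fin n) F) * single i l (1 : F) = 0 := by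
      apply single_mul_single_of_ne
      exact Ne.symm hij
    simp only [transvection, Matrix.add_mul, Matrix.mul_add, Matrix.one_mul, Matrix.mul_one,
      e1, e2]
    abel
  have hTQ : (⟨T, hTC⟩ : ↥C) ∈ φ.ker := by
    apply hQ0'
    intro k m hk
    simp only [hT, transvection, Matrix.add_apply, Matrix.one_apply, Matrix.single_apply]
    simp [Ne.symm hk]
  have hcomm := Subgroup.mem_centralizer_iff.mp hx ⟨T, hTC⟩ (hle hTQ)
  have hcomm' := congrArg (fun y : ↥C => ((y.1 : SpecialLinearGroup (Fin n) F) :
    Matrix (Fin n) (Fin n) F)) hcomm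
  simp only [coeC_mul, hT] at hcomm'
  have h2 := (cent_facts hF (i := i) (j := l) x.1 hcomm'.symm).2 b
  rw [h2]
  simp only [eq_comm]

end Cfsg.Agent.S1339
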