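import Cfsg.Statements.S1340
import Mathlib
import Cfsg.Agent.S0249
import Cfsg.Agent.Lib.Helper5.SLGen
import Cfsg.Agent.Lib.Helper3.GLComp

set_option autoImplicit false
open Cfsg

namespace Cfsg.Agent.S1340

/-- Let F be a finite field of odd order and n ≥ 3 with (n, |F|) ≠ (3, 3). Then GL(n, F) has a non-central involution t such that C(t) / O(C(t)) has a component. -/
theorem result {F : Type*} [Field F] [Fintype F] [DecidableEq F] (hF : Odd (Fintype.card F)) (n : ℕ) (hn : 3 ≤ n) (h33 : ¬ (n = 3 ∧ Fintype.card F = 3)) : ∃ t : Matrix.GeneralLinearGroup (Fin n) F, orderOf t = 2 ∧ t ∉ Subgroup.center (Matrix.GeneralLinearGroup (Fin n) F) ∧ Cfsg.HasComponent (↥(Subgroup.centralizer ({t} : Set (Matrix.GeneralLinearGroup (Fin n) F))) ⧸ Cfsg.oddCore ↥(Subgroup.centralizer ({t} : Set (Matrix.GeneralLinearGroup (Fin n) F)))) := by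
  obtain ⟨m, rfl⟩ : ∃ m, n = m + 1 := ⟨n - 1, by omega⟩
  have hchar : ringChar F ≠ 2 := by
    intro hc
    have h1 := FiniteField.even_card_of_char_two hc
    rcases hF with ⟨k, hk⟩
    omega
  have h2 : (2 : F) ≠ 0 := Ring.two_ne_zero hchar
  apply Cfsg.Agent.Lib.Helper3.GLComp.main h2 (by omega)
  by_cases hm3 : 3 ≤ m
  · exact ⟨⟨Cfsg.Agent.Lib.Helper5.commutator_SL_eq_top (by simpa using hm3)⟩,
      Cfsg.Agent.S0249.result m hm3⟩
  · have hm2 : m = 2 := by omega
    subst hm2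
    have hc3 : Fintype.card F ≠ 3 := fun h => h33 ⟨rfl, h⟩
    have hc1 : 1 < Fintype.card F := Fintype.one_lt_card
    have hcard : 4 ≤ Nat.card F := by
      rw [Nat.card_eq_fintype_card]
      rcases hF with ⟨k, hk⟩
      omega
    have hex : ∃ a : F, a ≠ 0 ∧ a ^ 2 ≠ 1 := by
      obtain ⟨x, hx⟩ : IsCyclic Fˣ := inferInstance
      refine ⟨x, Units.ne_zero x, fun h => ?_⟩
      have h3 : x ^ 2 = 1 := Units.ext (by simpa using h)
      have h4 : orderOf x ≤ 2 := orderOf_le_of_pow_eq_one zero_lt_two h3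
      have h5 : orderOf x = Nat.card Fˣ := orderOf_eq_card_of_forall_mem_zpowers hx
      have h6 : Nat.card F = Nat.card Fˣ + 1 := Nat.card_eq_card_units_add_one F
      omega
    obtain ⟨a, ha, hasq⟩ := hex
    exact ⟨⟨Matrix.SL2.commutator_eq_top ha hasq⟩,
      Matrix.ProjectiveSpecialLinearGroup.rank_two_simple hcard⟩

end Cfsg.Agent.S1340
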