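import Cfsg.Statements.S1358
import Cfsg.Agent.Lib.Helper67.BG.S1358Core
import Cfsg.Agent.S1350
import Cfsg.Agent.S1405
import Cfsg.Agent.S1420

set_option autoImplicit false

namespace Cfsg.Agent.S1358

theorem result {G : Type*} [Group G] [Finite G] (hG : Cfsg.IsMinSimpleOddOrder G)
    (M : Subgroup G) (hM : IsCoatom M) (K U : Subgroup G) (hKU : Cfsg.IsSigmaDecomposition M K U) :
    ∀ (p : ℕ), p.Prime → ∀ P : Sylow p U, IsMulCommutative (P : Subgroup U) ∧ Cfsg.PRankLE p 2 (P : Subgroup U) :=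
  Cfsg.Agent.Lib.Helper67.BG.s1358_core hG (Cfsg.Agent.S1350.result hG) (Cfsg.Agent.S1405.result hG)
    (Cfsg.Agent.S1420.result hG) M hM K U hKU

end Cfsg.Agent.S1358
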