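-- Statement S1360 (helper1).
import Mathlib
import Cfsg.Statements.S1360
import Cfsg.Agent.Lib.Helper1.BG.S1360Core
import Cfsg.Agent.S1350
import Cfsg.Agent.S1405
import Cfsg.Agent.S1417
import Cfsg.Agent.S1421
import Cfsg.Agent.S1430

set_option autoImplicit false
open Cfsg

namespace Cfsg.Agent.S1360

/-- Let G be a minimal simple group of odd order and M a maximal subgroup with standard factorisation M = K U M_σ. Then U contains a subgroup U₀ with the same exponent as U such that no non-identity element of U₀ centralizes a non-identity element of M_σ. -/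
theorem result {G : Type*} [Group G] [Finite G] (hG : Cfsg.IsMinSimpleOddOrder G)
    (M : Subgroup G) (hM : IsCoatom M) (K U : Subgroup G) (hKU : Cfsg.IsSigmaDecomposition M K U) :
    ∃ U₀ : Subgroup G, U₀ ≤ U ∧ Monoid.exponent U₀ = Monoid.exponent U ∧ ∀ u ∈ U₀, u ∈ Cfsg.sigmaHat M → u = 1 :=
  Cfsg.Agent.Lib.Helper1.BG.s1360_core hG (Cfsg.Agent.S1350.result hG) (Cfsg.Agent.S1405.result hG)
    (Cfsg.Agent.S1417.result hG) (Cfsg.Agent.S1421.result hG) (Cfsg.Agent.S1430.result hG) M hM K U hKU

end Cfsg.Agent.S1360
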