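import Cfsg.Statements.S1372
import Cfsg.Agent.Lib.Helper81.BG.S1372CoreB
import Cfsg.Agent.S1350
import Cfsg.Agent.S1353
import Cfsg.Agent.S1403
import Cfsg.Agent.S1420
import Cfsg.Agent.S1429
import Cfsg.Agent.S1430
import Cfsg.Agent.S1439

set_option autoImplicit false
open Cfsg

namespace Cfsg.Agent.S1372

/-- Let G be a minimal simple group of odd order and M a maximal subgroup with standard factorisation M = K U M_σ, K ≠ 1 and U ≠ 1. Then K has prime order, and the Fitting subgroup F(M) contains M_σ and is a TI-subset of G. -/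
theorem result {G : Type*} [Group G] [Finite G] (hG : Cfsg.IsMinSimpleOddOrder G)
    (M : Subgroup G) (hM : IsCoatom M) (K U : Subgroup G) (hKU : Cfsg.IsSigmaDecomposition M K U) (hK1 : K ≠ ⊥) (hU1 : U ≠ ⊥) :
    (Nat.card K).Prime ∧ Cfsg.IsTISubset (Cfsg.fittingOf M : Set G) ∧ Cfsg.sigmaCore M ≤ Cfsg.fittingOf M :=
  Cfsg.Agent.Lib.Helper81.BG.s1372_coreB hG (Cfsg.Agent.S1350.result hG) (Cfsg.Agent.S1353.result hG)
    (Cfsg.Agent.S1403.result hG) (Cfsg.Agent.S1420.result hG) (Cfsg.Agent.S1429.result hG)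
    (Cfsg.Agent.S1430.result hG) (Cfsg.Agent.S1439.result hG)
    M hM K U hKU hK1 hU1

end Cfsg.Agent.S1372
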