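import Cfsg.Statements.S1373
import Cfsg.Agent.Lib.Helper67.BG.S1373Core
import Cfsg.Agent.S1352
import Cfsg.Agent.S1364
import Cfsg.Agent.S1366
import Cfsg.Agent.S1369
import Cfsg.Agent.S1372

set_option autoImplicit false

namespace Cfsg.Agent.S1373

theorem result {G : Type*} [Group G] [Finite G] (hG : Cfsg.IsMinSimpleOddOrder G)
    (M : Subgroup G) (hM : IsCoatom M) (K U : Subgroup G) (hKU : Cfsg.IsSigmaDecomposition M K U) (hK1 : K ≠ ⊥) (hU : U = ⊥) :
    (Nat.card ↥(Cfsg.sigmaCore M ⊓ Subgroup.centralizer (K : Set G))).Prime :=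
  Cfsg.Agent.Lib.Helper67.BG.s1373_core hG (Cfsg.Agent.S1352.result hG) (Cfsg.Agent.S1364.result hG)
    (Cfsg.Agent.S1366.result hG) (Cfsg.Agent.S1369.result hG) (Cfsg.Agent.S1372.result hG) M hM K U hKU hK1 hU

end Cfsg.Agent.S1373
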