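import Cfsg.Statements.S1376
import Cfsg.Agent.Lib.Helper78.BG.S1376Core
import Cfsg.Agent.Lib.Helper69.BG40.Final
import Cfsg.Agent.S1350
import Cfsg.Agent.S1351
import Cfsg.Agent.S1352
import Cfsg.Agent.S1353
import Cfsg.Agent.S1354
import Cfsg.Agent.S1360
import Cfsg.Agent.S1363
import Cfsg.Agent.S1364
import Cfsg.Agent.S1366
import Cfsg.Agent.S1372
import Cfsg.Agent.S1375
import Cfsg.Agent.S1378
import Cfsg.Agent.S1403
import Cfsg.Agent.S1404
import Cfsg.Agent.S1405
import Cfsg.Agent.S1409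
import Cfsg.Agent.S1412
import Cfsg.Agent.S1414
import Cfsg.Agent.S1415
import Cfsg.Agent.S1416
import Cfsg.Agent.S1417
import Cfsg.Agent.S1418
import Cfsg.Agent.S1419
import Cfsg.Agent.S1420
import Cfsg.Agent.S1424
import Cfsg.Agent.S1426
import Cfsg.Agent.S1429
import Cfsg.Agent.S1430
import Cfsg.Agent.S1431
import Cfsg.Agent.S1435
import Cfsg.Agent.S1439

set_option autoImplicit false
open Cfsg

namespace Cfsg.Agent.S1376

/-- Let G be a minimal simple group of odd order, M a maximal subgroup, x ≠ 1 in M_σ with C_G(x) not contained in M, and N a maximal subgroup containing C_G(x) with κ(N) nonempty. Then κ(M) is empty, M has a cyclic Frobenius complement (M is a Frobenius group), and M_F is not a TI-subset of G. -/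
theorem result {G : Type*} [Group G] [Finite G] (hG : Cfsg.IsMinSimpleOddOrder G)
    (M : Subgroup G) (hM : IsCoatom M) (x : G) (hx : x ∈ Cfsg.sigmaCore M) (hx1 : x ≠ 1) (hxM : ¬ Subgroup.centralizer ({x} : Set G) ≤ M)
    (N : Subgroup G) (hN : IsCoatom N) (hxN : Subgroup.centralizer ({x} : Set G) ≤ N) (hkN : (Cfsg.kappa N).Nonempty) :
    Cfsg.kappa M = ∅ ∧ (∃ E : Subgroup ↥M, Cfsg.IsFrobeniusComplement E ∧ IsCyclic E) ∧ ¬ Cfsg.IsTISubset (Cfsg.fittingHallOf M : Set G) := by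
  exact Cfsg.Agent.Lib.Helper78.BG.s1376_core hG
    (Cfsg.Agent.S1350.result hG) (Cfsg.Agent.S1351.result hG) (Cfsg.Agent.S1352.result hG)
    (Cfsg.Agent.S1353.result hG) (Cfsg.Agent.S1363.result hG) (Cfsg.Agent.S1364.result hG)
    (Cfsg.Agent.S1366.result hG) (Cfsg.Agent.S1372.result hG) (Cfsg.Agent.S1375.result hG)
    (Cfsg.Agent.S1378.result hG) (Cfsg.Agent.S1403.result hG) (Cfsg.Agent.S1409.result hG)
    (Cfsg.Agent.S1415.result hG) (Cfsg.Agent.S1416.result hG) (Cfsg.Agent.S1417.result hG)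
    (Cfsg.Agent.S1418.result hG) (Cfsg.Agent.S1419.result hG) (Cfsg.Agent.S1420.result hG)
    (Cfsg.Agent.S1424.result hG) (Cfsg.Agent.S1429.result hG) (Cfsg.Agent.S1430.result hG)
    (Cfsg.Agent.S1431.result hG) (Cfsg.Agent.S1435.result hG) (Cfsg.Agent.S1439.result hG)
    (Cfsg.Agent.Lib.Helper69.BG40.s1440_weak_core hG
      (Cfsg.Agent.S1350.result hG) (Cfsg.Agent.S1353.result hG) (Cfsg.Agent.S1354.result hG)
      (Cfsg.Agent.S1360.result hG) (Cfsg.Agent.S1375.result hG) (Cfsg.Agent.S1404.result hG)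
      (Cfsg.Agent.S1405.result hG) (Cfsg.Agent.S1412.result hG) (Cfsg.Agent.S1414.result hG)
      (Cfsg.Agent.S1419.result hG) (Cfsg.Agent.S1420.result hG) (Cfsg.Agent.S1426.result hG)
      (Cfsg.Agent.S1429.result hG) (Cfsg.Agent.S1430.result hG) (Cfsg.Agent.S1439.result hG))
    M hM x hx hx1 hxM N hN hxN hkN

end Cfsg.Agent.S1376
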