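import Cfsg.Statements.S1383
import Cfsg.Agent.S1350
import Cfsg.Agent.S1353
import Cfsg.Agent.S1354
import Cfsg.Agent.S1355
import Cfsg.Agent.S1356
import Cfsg.Agent.S1360
import Cfsg.Agent.S1364
import Cfsg.Agent.S1365
import Cfsg.Agent.S1366
import Cfsg.Agent.S1368
import Cfsg.Agent.S1370
import Cfsg.Agent.S1375
import Cfsg.Agent.S1404
import Cfsg.Agent.S1405
import Cfsg.Agent.S1412
import Cfsg.Agent.S1414
import Cfsg.Agent.S1419
import Cfsg.Agent.S1420
import Cfsg.Agent.S1426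
import Cfsg.Agent.S1429
import Cfsg.Agent.S1430
import Cfsg.Agent.S1439
import Cfsg.Agent.Lib.Helper69.BG40.Final
import Cfsg.Agent.Lib.Helper71.BG.WeakCores

set_option autoImplicit false
open Cfsg

namespace Cfsg.Agent.S1383

/-- Let G be a minimal simple group of odd order and M a maximal subgroup with standard factorisation M = K U M_σ. Then M is of Type V if and only if K ≠ 1, U = 1 and M_F = M_σ. -/
theorem result {G : Type*} [Group G] [Finite G] (hG : Cfsg.IsMinSimpleOddOrder G)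
    (M : Subgroup G) (hM : IsCoatom M) (K U : Subgroup G) (hKU : Cfsg.IsSigmaDecomposition M K U) :
    Cfsg.IsOfTypeV M ↔ (K ≠ ⊥ ∧ U = ⊥ ∧ Cfsg.fittingHallOf M = Cfsg.sigmaCore M) := by
  exact Cfsg.Agent.Lib.Helper71.BGW.s1383_core_w hG
    (Cfsg.Agent.S1350.result hG) (Cfsg.Agent.S1354.result hG) (Cfsg.Agent.S1355.result hG) (Cfsg.Agent.S1356.result hG) (Cfsg.Agent.S1364.result hG) (Cfsg.Agent.S1365.result hG) (Cfsg.Agent.S1366.result hG) (Cfsg.Agent.S1368.result hG) (Cfsg.Agent.S1370.result hG)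
    (Cfsg.Agent.Lib.Helper69.BG40.s1440_weak_core hG
      (Cfsg.Agent.S1350.result hG) (Cfsg.Agent.S1353.result hG) (Cfsg.Agent.S1354.result hG) (Cfsg.Agent.S1360.result hG) (Cfsg.Agent.S1375.result hG) (Cfsg.Agent.S1404.result hG) (Cfsg.Agent.S1405.result hG) (Cfsg.Agent.S1412.result hG) (Cfsg.Agent.S1414.result hG) (Cfsg.Agent.S1419.result hG) (Cfsg.Agent.S1420.result hG) (Cfsg.Agent.S1426.result hG) (Cfsg.Agent.S1429.result hG) (Cfsg.Agent.S1430.result hG) (Cfsg.Agent.S1439.result hG))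
    M hM K U hKU

end Cfsg.Agent.S1383
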