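import Mathlib
import Cfsg.Statements.S1478
import Cfsg.Agent.Lib.Helper4.CNTS

set_option autoImplicit false
open Cfsg

namespace Cfsg.Agent.S1478

/-- Let G be a minimal simple group of odd order in which every non-identity element has nilpotent centralizer. Then no subgroup of G is a three-step group with respect to any prime. -/
theorem result {G : Type*} [Group G] [Finite G] (hG : Cfsg.IsMinSimpleOddOrder G) (hCN : Cfsg.IsCNGroup G) :
    ∀ (H : Subgroup G) (p : ℕ), ¬ Cfsg.IsThreeStepGroup p ↥H := by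
  intro H p h3
  have hCNH := Cfsg.Agent.Lib.Helper4.CN.isCN_subgroup hCN H
  by_cases hnil : Group.IsNilpotent H
  · exact Cfsg.Agent.Lib.Helper4.CN.not_threeStep_of_nilpotent hnil p h3
  by_cases hH : H = ⊤
  · subst hH
    haveI : IsSimpleGroup G := hG.2.1
    haveI : Nontrivial (⊤ : Subgroup G) :=
      (Subgroup.topEquiv (G := G)).toEquiv.nontrivial
    haveI : IsSimpleGroup (⊤ : Subgroup G) :=
      IsSimpleGroup.isSimpleGroup_of_surjective (Subgroup.topEquiv (G := G)).symm.toMonoidHom
        (Subgroup.topEquiv (G := G)).symm.surjective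
    obtain ⟨hQ, A, -, -, -, -, hLn, hLtop, -⟩ := h3
    have hn : (Cfsg.pCore p (⊤ : Subgroup G)).Normal := inferInstance
    rcases hn.eq_bot_or_eq_top with h | h
    · exact hQ h
    · apply hLtop
      rw [h]
      exact top_sup_eq _
  · haveI : Group.IsSolvable H := hG.2.2.2 H hH
    rcases Cfsg.Agent.Lib.Helper4.CN.solvable_cn_structure hCNH hnil with
      hF1 | ⟨-, p', hp', -, K', hK'⟩
    · exact Cfsg.Agent.Lib.Helper4.CN.not_threeStep_of_fittingHall hCNH hnil hF1 p h3
    · haveI : Fact p'.Prime := ⟨hp'⟩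
      exact Cfsg.Agent.Lib.Helper4.CN.no_tsin hG hCN H ⟨K', hK'⟩

end Cfsg.Agent.S1478
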