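import Cfsg.Statements.S1538
import Cfsg.Agent.S1350
import Cfsg.Agent.S1351
import Cfsg.Agent.S1352
import Cfsg.Agent.S1354
import Cfsg.Agent.S1355
import Cfsg.Agent.S1361
import Cfsg.Agent.S1362
import Cfsg.Agent.S1364
import Cfsg.Agent.S1365
import Cfsg.Agent.S1370
import Cfsg.Agent.S1371
import Cfsg.Agent.S1374
import Cfsg.Agent.S1375
import Cfsg.Agent.S1378
import Cfsg.Agent.S1381
import Cfsg.Agent.S1382
import Cfsg.Agent.S1403
import Cfsg.Agent.S1436
import Cfsg.Agent.S1437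
import Cfsg.Agent.Lib.Helper65.BG.S1537Closed

set_option autoImplicit false
open Cfsg

namespace Cfsg.Agent.S1538

/-- Let G be a minimal simple group of odd order and M a maximal subgroup of Type II. Then each of A₀(M), A(M), A₁(M) is a TI-subset of G whose set normaliser is M. -/
theorem result {G : Type*} [Group G] [Finite G] (hG : Cfsg.IsMinSimpleOddOrder G) (M : Subgroup G) (hM : IsCoatom M) (hII : Cfsg.IsOfTypeII M) : (Cfsg.IsTISubset (Cfsg.typeA0 M) ∧ Subgroup.normalizer (Cfsg.typeA0 M) = M) ∧ (Cfsg.IsTISubset (Cfsg.typeA M) ∧ Subgroup.normalizer (Cfsg.typeA M) = M) ∧ (Cfsg.IsTISubset (Cfsg.typeA1 M) ∧ Subgroup.normalizer (Cfsg.typeA1 M) = M) :=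
  Cfsg.Agent.Lib.Helper65.BG91.s1538_closed hG (Cfsg.Agent.S1350.result hG) (Cfsg.Agent.S1351.result hG) (Cfsg.Agent.S1352.result hG) (Cfsg.Agent.S1354.result hG) (Cfsg.Agent.S1355.result hG) (Cfsg.Agent.S1361.result hG) (Cfsg.Agent.S1362.result hG) (Cfsg.Agent.S1364.result hG) (Cfsg.Agent.S1365.result hG) (Cfsg.Agent.S1370.result hG) (Cfsg.Agent.S1371.result hG) (Cfsg.Agent.S1374.result hG) (Cfsg.Agent.S1375.result hG) (Cfsg.Agent.S1378.result hG) (Cfsg.Agent.S1381.result hG) (Cfsg.Agent.S1382.result hG) (Cfsg.Agent.S1403.result hG) (Cfsg.Agent.S1436.result hG) (Cfsg.Agent.S1437.result hG)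
    M hM hII

end Cfsg.Agent.S1538
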