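-- Statement S1541 (Peterfalvi (12.7)/(12.8): not all maximal subgroups are of Type I).
-- Proof: minimal-pair setup + glue (Lib/Helper29/PF12: Setup, Final, S1541Core), the character
-- core pf12_core (helper4, Lib/Helper4/PF12/Core), the bound (ST') (helper95), and the landed
-- BG / PF statements behind them.
import Cfsg.Statements.S1541
import Cfsg.Agent.Lib.Helper29.PF12.Final
import Cfsg.Agent.Lib.Helper4.PF12.Core
import Cfsg.Agent.Lib.Helper95.PF12.STSetup

set_option autoImplicit false
open Cfsg

namespace Cfsg.Agent.S1541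

/-- Let G be a minimal simple group of odd order. Then some maximal subgroup of G is not of Type I. -/
theorem result {G : Type*} [Group G] [Finite G] (hG : Cfsg.IsMinSimpleOddOrder G) : ∃ M : Subgroup G, IsCoatom M ∧ ¬ Cfsg.IsOfTypeI M :=
  Cfsg.Agent.Lib.Helper29.PF12.s1541_of_core
    (fun G _ _ L N _ _ H _ K _ AL AN RL RN hodd hDL hDN hAN hirr hcoh hKsolv hK1 hHall u p hp hu
        hcop huN huK hxu hFA hRL hRN hD hST he3 hep hdvd hKcard hLcard hHD =>
      Cfsg.Agent.Lib.Helper4.PF12.pf12_core L N H K AL AN RL RN hodd hDL hDN hAN hirr hcoh hKsolv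
        hK1 hHall u p hp hu hcop huN huK hxu hFA hRL hRN hD hST he3 hep hdvd hKcard hLcard hHD)
    hG (fun hS => Cfsg.Agent.Lib.Helper95.PF12.st_of_setup hG hS)

end Cfsg.Agent.S1541
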