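import Cfsg.Statements.S1628
import Cfsg.Agent.Lib.Helper92.RuLe
import Cfsg.Agent.Lib.Helper92.RuRoot

set_option autoImplicit false
open Cfsg

namespace Cfsg.Agent.S1628

/-- The Conway–Wales lattice as stored is even with no vectors of true norm 2: stored norms are multiples of 8, never equal to 8, and the minimum over nonzero vectors is 16. -/
theorem result : (∀ x ∈ Cfsg.Spor.ruLattice, (8 : ℤ) ∣ Cfsg.Spor.ruNorm x) ∧ (∀ x ∈ Cfsg.Spor.ruLattice, Cfsg.Spor.ruNorm x ≠ 8) ∧ (∀ x ∈ Cfsg.Spor.ruLattice, x ≠ 0 → 16 ≤ Cfsg.Spor.ruNorm x) ∧ ∃ x ∈ Cfsg.Spor.ruLattice, Cfsg.Spor.ruNorm x = 16 := by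
  have h1 : ∀ x ∈ Cfsg.Spor.ruLattice, (8 : ℤ) ∣ Cfsg.Spor.ruNorm x := fun x hx =>
    Cfsg.Agent.Lib.Helper92.Ru.norm_K (Cfsg.Agent.Lib.Helper92.Ru.ruLattice_le_K hx)
  have h2 : ∀ x ∈ Cfsg.Spor.ruLattice, Cfsg.Spor.ruNorm x ≠ 8 := fun x hx h8 =>
    Cfsg.Agent.Lib.Helper92.Ru.no8 (Cfsg.Agent.Lib.Helper92.Ru.ruLattice_le_K hx) h8
  refine ⟨h1, h2, ?_, ?_⟩
  · intro x hx hne
    have hnn : 0 ≤ Cfsg.Spor.ruNorm x :=
      Finset.sum_nonneg (fun p _ => GaussianInt.norm_nonneg (x p))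
    have h0 : Cfsg.Spor.ruNorm x ≠ 0 := by
      intro h0
      apply hne
      have hz := (Finset.sum_eq_zero_iff_of_nonneg
        (fun p _ => GaussianInt.norm_nonneg (x p))).mp h0
      funext p
      exact (Zsqrtd.norm_eq_zero_iff (by norm_num) (x p)).mp (hz p (Finset.mem_univ p))
    have h8 := h1 x hx
    have h8' := h2 x hx
    omega
  · have hex : ∃ v ∈ Cfsg.Spor.ruTable, Cfsg.Spor.ruNorm v = 16 := by decide +kernel
    obtain ⟨v, hv, hn⟩ := hex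
    refine ⟨v, ?_, hn⟩
    rw [Cfsg.Spor.ruLattice, AddSubgroup.mem_sInf]
    exact fun L hL => hL.1 v hv

end Cfsg.Agent.S1628
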