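import Cfsg.Statements.S1893
import Mathlib
import Cfsg.Agent.Lib.Helper29.SCNHall
import Cfsg.Agent.Lib.Helper1.Tools
-- import your own Cfsg.Agent.* helpers here

set_option autoImplicit false
open Cfsg

namespace Cfsg.Agent.S1893

/-- Let S be a finite solvable group, π a set of primes containing neither 2 nor 3, H a Hall π-subgroup of S, and A a self-centralizing normal subgroup of the Fitting subgroup F(H). Then C_S(A) = A × D for a normal subgroup D of C_S(A) whose order has no prime divisor in π. -/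
theorem result {S : Type*} [Group S] [Finite S] [Group.IsSolvable S]
    (π : Set ℕ) (h2 : 2 ∉ π) (h3 : 3 ∉ π) (H : Subgroup S) (hH : Cfsg.IsPiHall π H)
    (A : Subgroup S) (hA : Cfsg.IsSCN ((Cfsg.fittingSubgroup H).map H.subtype) A) :
    ∃ D : Subgroup S, D ≤ Subgroup.centralizer (A : Set S) ∧
      (∀ c ∈ Subgroup.centralizer (A : Set S), ∀ d ∈ D, c * d * c⁻¹ ∈ D) ∧
      A ⊓ D = ⊥ ∧ A ⊔ D = Subgroup.centralizer (A : Set S) ∧
      ∀ q : ℕ, q.Prime → q ∣ Nat.card D → q ∉ π := by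
  classical
  have hAFC := hA.2.2
  have hAC : A ≤ Subgroup.centralizer (A : Set S) := by
    intro a ha
    rw [← hAFC] at ha
    exact ha.2
  have hAH : A ≤ H := hA.1.trans (Subgroup.map_subtype_le _)
  have hA'n : (A.subgroupOf (Subgroup.centralizer (A : Set S))).Normal := by
    constructor
    intro a ha c
    have h1 := (Subgroup.mem_centralizer_iff.mp c.2) (a : S) (Subgroup.mem_subgroupOf.mp ha)
    have h4 : c * a * c⁻¹ = a := by
      apply Subtype.ext
      rw [Subgroup.coe_mul, Subgroup.coe_mul, Subgroup.coe_inv, ← h1, mul_inv_cancel_right]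
    rw [h4]; exact ha
  have hidx : ∀ q : ℕ, q.Prime → q ∈ π →
      ¬ q ∣ (A.subgroupOf (Subgroup.centralizer (A : Set S))).index := by
    intro q hq hqπ hd
    haveI : Fact q.Prime := ⟨hq⟩
    obtain ⟨P⟩ : Nonempty (Sylow q (Subgroup.centralizer (A : Set S))) := inferInstance
    have hPA : (P : Subgroup (Subgroup.centralizer (A : Set S))) ≤
        A.subgroupOf (Subgroup.centralizer (A : Set S)) := by
      intro y hy
      obtain ⟨m, hm⟩ := P.isPGroup' ⟨y, hy⟩
      have hm' : (y : S) ^ q ^ m = 1 := by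
        have h5 := congrArg (fun z : (P : Subgroup (Subgroup.centralizer (A : Set S))) =>
          ((z : Subgroup.centralizer (A : Set S)) : S)) hm
        simpa using h5
      exact Subgroup.mem_subgroupOf.mpr
        (Cfsg.Agent.Lib.Helper29.SCNHall.mem_of_centralizer π h2 h3 H hH A hA hq hqπ y.2 hm')
    exact P.not_dvd_index (hd.trans (Subgroup.index_dvd_of_le hPA))
  have hcop : (Nat.card (A.subgroupOf (Subgroup.centralizer (A : Set S)))).Coprime
      (A.subgroupOf (Subgroup.centralizer (A : Set S))).index := by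
    by_contra hnc
    obtain ⟨p, hp, hpd⟩ := Nat.exists_prime_and_dvd hnc
    have h1 : p ∣ Nat.card (A.subgroupOf (Subgroup.centralizer (A : Set S))) :=
      hpd.trans (Nat.gcd_dvd_left _ _)
    have h4 : p ∣ (A.subgroupOf (Subgroup.centralizer (A : Set S))).index :=
      hpd.trans (Nat.gcd_dvd_right _ _)
    rw [Cfsg.Agent.Lib.Helper1.card_subgroupOf_of_le hAC] at h1
    exact hidx p hp (hH.1 p hp (h1.trans (Subgroup.card_dvd_of_le hAH))) h4
  haveI := hA'n
  obtain ⟨D', hD'⟩ := Subgroup.exists_right_complement'_of_coprime hcop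
  have hdecomp : ∀ c ∈ Subgroup.centralizer (A : Set S), ∃ a ∈ A, ∃ d : Subgroup.centralizer (A : Set S),
      d ∈ D' ∧ c = a * (d : S) := by
    intro c hc
    obtain ⟨⟨a, d⟩, had⟩ := hD'.2 ⟨c, hc⟩
    refine ⟨(a : Subgroup.centralizer (A : Set S)), Subgroup.mem_subgroupOf.mp a.2, d, d.2, ?_⟩
    have h5 := congrArg Subtype.val had
    exact h5.symm
  refine ⟨D'.map (Subgroup.subtype _), Subgroup.map_subtype_le _, ?_, ?_, ?_, ?_⟩
  · rintro c hc _ ⟨d, hd, rfl⟩
    obtain ⟨a, ha, d₁, hd₁, rfl⟩ := hdecomp c hc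
    refine ⟨d₁ * d * d₁⁻¹, D'.mul_mem (D'.mul_mem hd₁ hd) (D'.inv_mem hd₁), ?_⟩
    have h1 := (Subgroup.mem_centralizer_iff.mp (d₁ * d * d₁⁻¹).2) a ha
    rw [Subgroup.coe_subtype] at *
    rw [Subgroup.coe_mul, Subgroup.coe_mul, Subgroup.coe_inv] at h1 ⊢
    calc (d₁ : S) * (d : S) * (d₁ : S)⁻¹
        = (a * ((d₁ : S) * (d : S) * (d₁ : S)⁻¹)) * a⁻¹ := by rw [h1]; group
      _ = a * (d₁ : S) * (d : S) * (a * (d₁ : S))⁻¹ := by group
  · rw [eq_bot_iff]
    rintro y ⟨hyA, ⟨d, hd, rfl⟩⟩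
    have h1 : d ∈ A.subgroupOf (Subgroup.centralizer (A : Set S)) ⊓ D' :=
      ⟨Subgroup.mem_subgroupOf.mpr hyA, hd⟩
    rw [hD'.disjoint.eq_bot, Subgroup.mem_bot] at h1
    rw [h1]; simp
  · apply le_antisymm (sup_le hAC (Subgroup.map_subtype_le _))
    intro c hc
    obtain ⟨a, ha, d₁, hd₁, rfl⟩ := hdecomp c hc
    exact Subgroup.mul_mem_sup ha ⟨d₁, hd₁, rfl⟩
  · intro q hq hd hqπ
    rw [Subgroup.card_map_of_injective (Subgroup.subtype_injective _)] at hd
    exact hidx q hq hqπ (by rw [hD'.symm.index_eq_card]; exact hd)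

end Cfsg.Agent.S1893
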