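import Mathlib
import Cfsg.Statements.S1904
import Cfsg.Agent.Lib.Helper32.Scn.Main
import Cfsg.Agent.Lib.Helper32.Scn.LemNoE8
import Cfsg.Agent.Lib.Helper32.Scn.LemAlt2
import Cfsg.Agent.Lib.Helper62.Scn.LemInv8
import Cfsg.Agent.Lib.Helper62.Scn.LemBound
import Cfsg.Agent.Lib.Helper29.TI3.Bound4
import Cfsg.Agent.Lib.Helper51.TI3.LemK
import Cfsg.Agent.Lib.Helper11.Scn.LemA0a
import Cfsg.Agent.Lib.Helper11.Scn.LemFix
import Cfsg.Agent.Lib.Helper20.Scn.LemA0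
import Cfsg.Agent.Lib.Helper20.Scn.LemB0
import Cfsg.Agent.Lib.Helper13.Scn.LemA1card
import Cfsg.Agent.Lib.Helper13.Scn.LemA2card
import Cfsg.Agent.Lib.Helper65.Scn.LemA1q8
import Cfsg.Agent.Lib.Helper65.Scn.LemA1e32
import Cfsg.Agent.Lib.Helper75.Scn.Wcard
import Cfsg.Agent.Lib.Helper15.Scn.LemWtop
import Cfsg.Agent.Lib.Helper38.Scn.LemM0a
import Cfsg.Agent.Lib.Helper38.Scn.LemM0b
import Cfsg.Agent.Lib.Helper72.Scn.LemMa
import Cfsg.Agent.Lib.Helper75.Scn.Mtools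
import Cfsg.Agent.Lib.Helper27.Scn.LemMD
import Cfsg.Agent.Lib.Helper22.Scn.ME
import Cfsg.Agent.Lib.Helper29.Scn.MF

set_option autoImplicit false
open Cfsg

namespace Cfsg.Agent.S1904

/-- Let X be a finite nonabelian 2-group with no normal abelian subgroup that is self-centralizing and contains an elementary abelian subgroup of order 8. Suppose a group A of automorphisms of X of odd order satisfies [X, A] = X. Then X is the quaternion group of order 8, or X is special of order 64 with exactly three involutions, all central, or X is extraspecial of order 32 with exactly eleven involutions (the central product of a quaternion group and a dihedral group of order 8). -/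
theorem result {X : Type*} [Group X] [Finite X] (hX : IsPGroup 2 X) (hna : ¬ IsMulCommutative X)
    (hscn : ¬ ∃ A : Subgroup X, A.Normal ∧ Subgroup.centralizer (A : Set X) = A ∧
      ∃ E : Subgroup X, E ≤ A ∧ Cfsg.IsElementaryAbelian 2 E ∧ Nat.card E = 8)
    (A : Subgroup (MulAut X)) (hA : Odd (Nat.card A))
    (hXA : Subgroup.closure {g : X | ∃ φ ∈ A, ∃ x : X, g = x⁻¹ * φ x} = ⊤) :
    Nonempty (X ≃* QuaternionGroup 2) ∨
      (Cfsg.IsSpecial 2 X ∧ Nat.card X = 64 ∧ Nat.card {x : X // orderOf x = 2} = 3 ∧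
        ∀ x : X, orderOf x = 2 → x ∈ Subgroup.center X) ∨
      (Cfsg.IsExtraspecial 2 X ∧ Nat.card X = 32 ∧ Nat.card {x : X // orderOf x = 2} = 11) := by
  have hBd : Cfsg.Agent.Lib.Helper32.Scn.LemBound :=
    Cfsg.Agent.Lib.Helper62.Scn.lemBound
      (Cfsg.Agent.Lib.Helper29.TI3.lemBound4 Cfsg.Agent.Lib.Helper51.TI3.lemK)
  exact Cfsg.Agent.Lib.Helper32.Scn.main Cfsg.Agent.Lib.Helper32.Scn.lemNoE8
    Cfsg.Agent.Lib.Helper62.Scn.lemInv8
    (Cfsg.Agent.Lib.Helper20.Scn.lemA0 Cfsg.Agent.Lib.Helper11.Scn.lemA0a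
      Cfsg.Agent.Lib.Helper11.Scn.lemFix)
    Cfsg.Agent.Lib.Helper13.Scn.lemA1card Cfsg.Agent.Lib.Helper65.Scn.lemA1q8
    Cfsg.Agent.Lib.Helper65.Scn.lemA1e32
    (Cfsg.Agent.Lib.Helper13.Scn.lemA2card hBd Cfsg.Agent.Lib.Helper62.Scn.lemInv8)
    Cfsg.Agent.Lib.Helper32.Scn.lemAlt2
    (Cfsg.Agent.Lib.Helper20.Scn.lemB0 Cfsg.Agent.Lib.Helper62.Scn.lemInv8)
    (Cfsg.Agent.Lib.Helper75.Scn.lemWcard hBd)
    Cfsg.Agent.Lib.Helper15.Scn.lemWtop Cfsg.Agent.Lib.Helper38.Scn.lemM0a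
    Cfsg.Agent.Lib.Helper38.Scn.lemM0b Cfsg.Agent.Lib.Helper72.Scn.lemMa
    Cfsg.Agent.Lib.Helper75.Scn.lemMtools Cfsg.Agent.Lib.Helper27.Scn.lemMD
    Cfsg.Agent.Lib.Helper22.Scn.lemME Cfsg.Agent.Lib.Helper29.Scn.lemMF
    hX hna hscn A hA hXA

end Cfsg.Agent.S1904
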