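import Mathlib
import Cfsg.Statements.S1910
import Cfsg.Agent.Lib.Helper32.Tight
-- import your own Cfsg.Agent.* helpers here

set_option autoImplicit false
open Cfsg

namespace Cfsg.Agent.S1910

open Cfsg.Agent.Lib.Helper32

/-- Let Q be a tightly embedded subgroup of a finite group G, g an element outside N_G(Q), T a nontrivial Sylow 2-subgroup of Q^g ∩ N_G(Q), and S a Sylow 2-subgroup of QT containing T. Then T ∩ Q = 1, and N_S(T) is the direct product of T and N_S(T) ∩ Q, with N_S(T) ∩ Q isomorphic to T. -/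
theorem result {G : Type*} [Group G] [Finite G] (Q : Subgroup G) (hQ : Cfsg.IsTightlyEmbedded Q)
    (g : G) (hg : g ∉ Subgroup.normalizer (Q : Set G))
    (T : Subgroup G) (hT1 : T ≠ ⊥) (hT : T ≤ Q.map (MulAut.conj g).toMonoidHom ⊓ Subgroup.normalizer (Q : Set G))
    (hTsyl : IsPGroup 2 T ∧ ¬ 2 ∣ T.relIndex (Q.map (MulAut.conj g).toMonoidHom ⊓ Subgroup.normalizer (Q : Set G)))
    (S : Subgroup G) (hTS : T ≤ S) (hS : S ≤ Q ⊔ T) (hSsyl : IsPGroup 2 S ∧ ¬ 2 ∣ S.relIndex (Q ⊔ T)) :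
    T ⊓ Q = ⊥ ∧
      T ⊓ (S ⊓ Subgroup.normalizer (T : Set G) ⊓ Q) = ⊥ ∧
      ⁅T, S ⊓ Subgroup.normalizer (T : Set G) ⊓ Q⁆ = ⊥ ∧
      T ⊔ (S ⊓ Subgroup.normalizer (T : Set G) ⊓ Q) = S ⊓ Subgroup.normalizer (T : Set G) ∧
      Nonempty (↥(S ⊓ Subgroup.normalizer (T : Set G) ⊓ Q) ≃* T) := by
  classical
  have : Fact (Nat.Prime 2) := ⟨Nat.prime_two⟩
  -- TI2 for Q and its conjugate
  have hTIQ : TI2 Q := by
    intro x hx y hy hxy h2
    have hx' : x⁻¹ ∉ Subgroup.normalizer (Q : Set G) := fun h => hx (by simpa using Subgroup.inv_mem _ h)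
    have hodd := hQ.2 x⁻¹ hx'
    apply eq_one_of_two_pow_of_odd _ hodd _ h2
    rw [Subgroup.mem_inf, mem_map_conj_iff']
    exact ⟨hy, by simpa using hxy⟩
  have hTIQg : TI2 (Q.map (MulAut.conj g).toMonoidHom) := hTIQ.map_conj g
  have hAB : ∀ x ∈ Q, x ∈ Q.map (MulAut.conj g).toMonoidHom → (∃ k : ℕ, x ^ 2 ^ k = 1) → x = 1 := by
    intro x hx hxg h2
    have hg' : g⁻¹ ∉ Subgroup.normalizer (Q : Set G) := fun h => hg (by simpa using Subgroup.inv_mem _ h)
    rw [mem_map_conj_iff'] at hxg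
    exact hTIQ g⁻¹ hg' x hx (by simpa using hxg) h2
  have hQeq : Q = (Q.map (MulAut.conj g).toMonoidHom).map (MulAut.conj g⁻¹).toMonoidHom := by
    ext x
    rw [mem_map_conj_iff', mem_map_conj_iff']
    simp [mul_assoc]
  have hTmax : ∀ T' : Subgroup G,
      T' ≤ Q.map (MulAut.conj g).toMonoidHom ⊓ Subgroup.normalizer (Q : Set G) → IsPGroup 2 T' →
      T ≤ T' → T' = T :=
    fun T' h1 h2 h3 => eq_of_sylowLike_le hT hTsyl.2 h1 h2 h3
  obtain ⟨f2, f4, f5, f6, hle, hiso⟩ := tight_key Q (Q.map (MulAut.conj g).toMonoidHom) g rfl hAB hTIQg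
    T hT1 hT hTsyl.1 hTmax S hTS hS hSsyl.1 hSsyl.2
  set R : Subgroup G := S ⊓ Subgroup.normalizer (T : Set G) ⊓ Q with hRdef
  have hRQ : R ≤ Q := inf_le_right
  have hR2 : IsPGroup 2 R := hSsyl.1.to_le (inf_le_left.trans inf_le_left)
  refine ⟨f2, ?_, ?_, f5, ?_⟩
  · rw [eq_bot_iff, ← f2]
    exact inf_le_inf_left T hRQ
  · rw [eq_bot_iff, Subgroup.commutator_le]
    intro t ht r hr
    rw [Subgroup.mem_bot, commutatorElement_eq_one_iff_mul_comm]
    exact f4 t ht r hr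
  · apply hiso
    apply le_antisymm hle
    -- the symmetric application
    have hRle : R ≤ Q ⊓ Subgroup.normalizer ((Q.map (MulAut.conj g).toMonoidHom : Subgroup G) : Set G) :=
      le_inf hRQ f6
    obtain ⟨Rs, hRRs, hRsle, hRs2, hRssyl⟩ := exists_sylowLike_ge hRle hR2
    have hRs1 : Rs ≠ ⊥ := by
      intro h
      rw [h, le_bot_iff] at hRRs
      have h1 : Nat.card T ≤ 1 := by
        have := hle
        rw [hRRs, Subgroup.card_bot] at this
        exact this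
      have h2 : Nat.card T = 1 := le_antisymm h1 Nat.card_pos
      exact hT1 (Subgroup.card_eq_one.mp h2)
    obtain ⟨S', hRsS', hS'le, hS'2, hS'syl⟩ := exists_sylowLike_ge
      (le_sup_right : Rs ≤ Q.map (MulAut.conj g).toMonoidHom ⊔ Rs) hRs2
    have hRsmax : ∀ T' : Subgroup G,
        T' ≤ Q ⊓ Subgroup.normalizer ((Q.map (MulAut.conj g).toMonoidHom : Subgroup G) : Set G) →
        IsPGroup 2 T' → Rs ≤ T' → T' = Rs :=
      fun T' h1 h2 h3 => eq_of_sylowLike_le hRsle hRssyl h1 h2 h3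
    obtain ⟨-, -, -, f6', hle', -⟩ := tight_key (Q.map (MulAut.conj g).toMonoidHom) Q g⁻¹ hQeq
      (fun x hx hx' h2 => hAB x hx' hx h2) hTIQ Rs hRs1 hRsle hRs2 hRsmax S' hRsS' hS'le hS'2 hS'syl
    have hT'le : S' ⊓ Subgroup.normalizer (Rs : Set G) ⊓ Q.map (MulAut.conj g).toMonoidHom ≤
        Q.map (MulAut.conj g).toMonoidHom ⊓ Subgroup.normalizer (Q : Set G) := le_inf inf_le_right f6'
    have hT'2 : IsPGroup 2 (S' ⊓ Subgroup.normalizer (Rs : Set G) ⊓ Q.map (MulAut.conj g).toMonoidHom :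
        Subgroup G) := hS'2.to_le (inf_le_left.trans inf_le_left)
    have h1 : Nat.card ↥(S' ⊓ Subgroup.normalizer (Rs : Set G) ⊓ Q.map (MulAut.conj g).toMonoidHom) ≤
        Nat.card T := Nat.le_of_dvd Nat.card_pos (card_dvd_of_sylowLike hT hTsyl.2 hT'le hT'2)
    have h2 : Nat.card R ≤ Nat.card Rs := Subgroup.card_le_of_le hRRs
    exact h2.trans (hle'.trans h1)

end Cfsg.Agent.S1910
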