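import Mathlib
import Cfsg.Statements.S1921
import Cfsg.Agent.Lib.Helper22.Comp
-- import your own Cfsg.Agent.* helpers here

set_option autoImplicit false
open Cfsg

namespace Cfsg.Agent.S1921

/-- Elements of a join of two elementwise commuting subgroups are products. -/
theorem mem_sup_of_comm' {G : Type*} [Group G] {A B : Subgroup G}
    (h : ∀ a ∈ A, ∀ b ∈ B, a * b = b * a) {x : G} (hx : x ∈ A ⊔ B) :
    ∃ a ∈ A, ∃ b ∈ B, x = a * b := by
  have hn : B ≤ Subgroup.normalizer (A : Set G) := by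
    refine le_trans ?_ (Subgroup.centralizer_le_normalizer (A : Set G))
    intro b hb
    rw [Subgroup.mem_centralizer_iff]
    intro a ha
    exact h a ha b hb
  have h1 : x ∈ ((A ⊔ B : Subgroup G) : Set G) := hx
  rw [Subgroup.coe_mul_of_right_le_normalizer_left A B hn] at h1
  obtain ⟨a, ha, b, hb, rfl⟩ := Set.mem_mul.mp h1
  exact ⟨a, ha, b, hb, rfl⟩

/-- Let a be an involution of a finite group H and L a component of H with a L a⁻¹ ≠ L; put M = ⟨L, aLa⁻¹⟩ and let J be the subgroup generated by the elements x · a x a⁻¹ with x ∈ L (the diagonal). Then every element of M outside J·Z(M) generates M together with J. -/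
theorem result {H : Type*} [Group H] [Finite H] (a : H) (ha : orderOf a = 2) (L : Subgroup H) (hL : Cfsg.IsComponent L)
    (hLa : L.map (MulAut.conj a).toMonoidHom ≠ L) (x : H) (hxM : x ∈ L ⊔ L.map (MulAut.conj a).toMonoidHom)
    (hxJ : x ∉ Subgroup.closure {y : H | ∃ l ∈ L, y = l * (a * l * a⁻¹)} ⊔
      ((L ⊔ L.map (MulAut.conj a).toMonoidHom) ⊓ Subgroup.centralizer ((L ⊔ L.map (MulAut.conj a).toMonoidHom : Subgroup H) : Set H))) :
    Subgroup.closure {y : H | ∃ l ∈ L, y = l * (a * l * a⁻¹)} ⊔ Subgroup.zpowers x = L ⊔ L.map (MulAut.conj a).toMonoidHom := by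
  have hLa_comp : Cfsg.IsComponent (L.map (MulAut.conj a).toMonoidHom) :=
    Cfsg.Agent.Lib.Helper22.isComponent_map_equiv (MulAut.conj a) hL
  have hcomm : ∀ l ∈ L, ∀ m ∈ L.map (MulAut.conj a).toMonoidHom, l * m = m * l :=
    Cfsg.Agent.Lib.Helper22.comm_of_commutator_eq_bot
      (Cfsg.Agent.Lib.Helper22.components_commute hL hLa_comp (Ne.symm hLa))
  have hconj : ∀ l ∈ L, a * l * a⁻¹ ∈ L.map (MulAut.conj a).toMonoidHom := by
    intro l hl
    rw [Subgroup.mem_map]
    exact ⟨l, hl, by simp [MulAut.conj_apply]⟩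
  have hJgen : ∀ l ∈ L, l * (a * l * a⁻¹) ∈ Subgroup.closure {y : H | ∃ l ∈ L, y = l * (a * l * a⁻¹)} :=
    fun l hl => Subgroup.subset_closure ⟨l, hl, rfl⟩
  have hJM : Subgroup.closure {y : H | ∃ l ∈ L, y = l * (a * l * a⁻¹)} ≤ L ⊔ L.map (MulAut.conj a).toMonoidHom := by
    rw [Subgroup.closure_le]
    rintro y ⟨l, hl, rfl⟩
    exact Subgroup.mul_mem _ (Subgroup.mem_sup_left hl) (Subgroup.mem_sup_right (hconj l hl))
  apply le_antisymm
  · exact sup_le hJM (by rw [Subgroup.zpowers_le]; exact hxM)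
  · set T := Subgroup.closure {y : H | ∃ l ∈ L, y = l * (a * l * a⁻¹)} ⊔ Subgroup.zpowers x with hT
    have hJT : ∀ l ∈ L, l * (a * l * a⁻¹) ∈ T := fun l hl => Subgroup.mem_sup_left (hJgen l hl)
    have hxT : x ∈ T := Subgroup.mem_sup_right (Subgroup.mem_zpowers x)
    obtain ⟨l₁, hl₁, m₂, hm₂, hx⟩ := mem_sup_of_comm' hcomm hxM
    -- t := (a l₁ a⁻¹)⁻¹ * m₂
    have htLa : (a * l₁ * a⁻¹)⁻¹ * m₂ ∈ L.map (MulAut.conj a).toMonoidHom :=
      Subgroup.mul_mem _ (Subgroup.inv_mem _ (hconj l₁ hl₁)) hm₂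
    have htT : (a * l₁ * a⁻¹)⁻¹ * m₂ ∈ T := by
      have : (a * l₁ * a⁻¹)⁻¹ * m₂ = (l₁ * (a * l₁ * a⁻¹))⁻¹ * x := by
        rw [hx]; simp [mul_assoc]
      rw [this]
      exact T.mul_mem (T.inv_mem (hJT l₁ hl₁)) hxT
    -- t is not central in La
    have htnc : ¬ ∀ m ∈ L.map (MulAut.conj a).toMonoidHom, m * ((a * l₁ * a⁻¹)⁻¹ * m₂) = ((a * l₁ * a⁻¹)⁻¹ * m₂) * m := by
      intro hcen
      apply hxJ
      have htZ : (a * l₁ * a⁻¹)⁻¹ * m₂ ∈ (L ⊔ L.map (MulAut.conj a).toMonoidHom) ⊓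
          Subgroup.centralizer ((L ⊔ L.map (MulAut.conj a).toMonoidHom : Subgroup H) : Set H) := by
        rw [Subgroup.mem_inf]
        refine ⟨Subgroup.mem_sup_right htLa, ?_⟩
        rw [Subgroup.mem_centralizer_iff]
        have hle : L ⊔ L.map (MulAut.conj a).toMonoidHom ≤
            Subgroup.centralizer ({(a * l₁ * a⁻¹)⁻¹ * m₂} : Set H) := by
          apply sup_le
          · intro l hl
            rw [Subgroup.mem_centralizer_iff]
            intro z hz
            rw [Set.mem_singleton_iff] at hz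
            subst hz
            exact (hcomm l hl _ htLa).symm
          · intro m hm
            rw [Subgroup.mem_centralizer_iff]
            intro z hz
            rw [Set.mem_singleton_iff] at hz
            subst hz
            exact (hcen m hm).symm
        intro g hg
        have := Subgroup.mem_centralizer_iff.mp (hle hg) _ rfl
        exact this.symm
      have hxeq : x = (l₁ * (a * l₁ * a⁻¹)) * ((a * l₁ * a⁻¹)⁻¹ * m₂) := by
        rw [hx]; simp [mul_assoc]
      rw [hxeq]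
      exact Subgroup.mul_mem _ (Subgroup.mem_sup_left (hJgen l₁ hl₁)) (Subgroup.mem_sup_right htZ)
    -- D := (T ⊓ La).subgroupOf La is normal
    have hDn : ((T ⊓ L.map (MulAut.conj a).toMonoidHom).subgroupOf (L.map (MulAut.conj a).toMonoidHom)).Normal := by
      refine ⟨fun d hd m => ?_⟩
      rw [Subgroup.mem_subgroupOf] at hd ⊢
      rw [Subgroup.mem_inf] at hd ⊢
      refine ⟨?_, (m * d * m⁻¹).2⟩
      obtain ⟨l, hl, hlm⟩ := Subgroup.mem_map.mp m.2
      have hlm' : a * l * a⁻¹ = (m : H) := by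
        rw [← hlm]; simp [MulAut.conj_apply]
      have hmd : (m : H) * d * (m : H)⁻¹ ∈ L.map (MulAut.conj a).toMonoidHom := (m * d * m⁻¹).2
      have h1 : (l * (a * l * a⁻¹)) * (d : H) * (l * (a * l * a⁻¹))⁻¹ = (m : H) * d * (m : H)⁻¹ := by
        rw [hlm']
        have h2 := hcomm l hl _ hmd
        calc l * (m : H) * (d : H) * (l * (m : H))⁻¹ = l * ((m : H) * d * (m : H)⁻¹) * l⁻¹ := by
              simp [mul_assoc]
          _ = (m : H) * d * (m : H)⁻¹ := by rw [h2]; simp
      have h3 : ((m * d * m⁻¹ : L.map (MulAut.conj a).toMonoidHom) : H) = (m : H) * d * (m : H)⁻¹ := rfl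
      rw [h3, ← h1]
      exact T.mul_mem (T.mul_mem (hJT l hl) hd.1) (T.inv_mem (hJT l hl))
    rcases Cfsg.Agent.Lib.Helper22.normal_le_center_or_eq_top hLa_comp.2 _ hDn with hcase | hcase
    · exfalso
      apply htnc
      intro m hm
      have h1 : (⟨(a * l₁ * a⁻¹)⁻¹ * m₂, htLa⟩ : L.map (MulAut.conj a).toMonoidHom) ∈
          (T ⊓ L.map (MulAut.conj a).toMonoidHom).subgroupOf (L.map (MulAut.conj a).toMonoidHom) := by
        rw [Subgroup.mem_subgroupOf, Subgroup.mem_inf]
        exact ⟨htT, htLa⟩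
      have h2 := Subgroup.mem_center_iff.mp (hcase h1) ⟨m, hm⟩
      exact congrArg Subtype.val h2
    · rw [Subgroup.subgroupOf_eq_top] at hcase
      have hLaT : L.map (MulAut.conj a).toMonoidHom ≤ T := hcase.trans inf_le_left
      apply sup_le
      · intro l hl
        have : l = (l * (a * l * a⁻¹)) * (a * l * a⁻¹)⁻¹ := by rw [mul_inv_cancel_right]
        rw [this]
        exact T.mul_mem (hJT l hl) (T.inv_mem (hLaT (hconj l hl)))
      · exact hLaT

end Cfsg.Agent.S1921
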