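import Mathlib
import Cfsg.Statements.S1922
import Cfsg.Agent.Lib.Helper32.SylowConj
import Cfsg.Agent.Lib.Helper32.Invol

set_option autoImplicit false
open Cfsg

namespace Cfsg.Agent.S1922

open Cfsg.Agent.Lib.Helper32

section
variable {G : Type*} [Group G] [Finite G] (z : G) (H : Subgroup G)

theorem conj_sq (hz2 : z * z = 1) {t : G} (ht : IsConj z t) : t * t = 1 := by
  obtain ⟨c, rfl⟩ := isConj_iff.mp ht
  calc c * z * c⁻¹ * (c * z * c⁻¹) = c * (z * z) * c⁻¹ := by simp [mul_assoc]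
    _ = 1 := by rw [hz2]; simp

theorem z_mem (hzH : ∀ g : G, g * z * g⁻¹ ∈ H ↔ g ∈ H) : z ∈ H := by
  have := (hzH 1).mpr H.one_mem
  simpa using this

theorem cent_le (hzH : ∀ g : G, g * z * g⁻¹ ∈ H ↔ g ∈ H) {c : G} (hc : c * z = z * c) : c ∈ H := by
  rw [← hzH]
  have : c * z * c⁻¹ = z := by rw [hc]; simp
  rw [this]
  exact z_mem z H hzH

theorem odd_order_z (hz2 : z * z = 1) (hzH : ∀ g : G, g * z * g⁻¹ ∈ H ↔ g ∈ H)
    (h1 : ∀ t : G, IsConj z t → t ≠ z → t * z = z * t → ∀ g : G, g * (z * t) * g⁻¹ ∈ H ↔ g ∈ H)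
    {c : G} (hc : IsConj z c) (hcH : c ∉ H) : Odd (orderOf (z * c)) := by
  by_contra hodd
  rw [Nat.not_odd_iff_even] at hodd
  obtain ⟨k, hk⟩ := hodd
  have hpos : 0 < orderOf (z * c) := orderOf_pos _
  have hk0 : k ≠ 0 := by omega
  have hklt : k < orderOf (z * c) := by omega
  have hc2 : c * c = 1 := conj_sq z hz2 hc
  obtain ⟨w, hw⟩ : ∃ w : G, w = (z * c) ^ k := ⟨_, rfl⟩
  have hw1 : w ≠ 1 := by rw [hw]; exact pow_ne_one_of_lt_orderOf hk0 hklt
  have hww : w * w = 1 := by rw [hw, ← pow_add, ← hk, pow_orderOf_eq_one]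
  have hwinv : w⁻¹ = w := inv_eq_of_mul_eq_one_left hww
  have hzinv : z⁻¹ = z := inv_eq_of_mul_eq_one_left hz2
  have hcz : (c * z) ^ k = w := by
    have h : c * z = (z * c)⁻¹ := by
      rw [eq_inv_iff_mul_eq_one]
      calc c * z * (z * c) = c * (z * z) * c := by simp only [mul_assoc]
        _ = 1 := by rw [hz2, mul_one, hc2]
    rw [h, inv_pow, ← hw, hwinv]
  have hzw : z * w = w * z := by
    rw [hw, invol_mul_pow z c hz2 k, hcz, hw]
  have hcw : c * w = w * c := by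
    have := invol_mul_pow c z hc2 k
    rw [hcz, ← hw] at this
    exact this
  have htconj : IsConj z (z * w) := by
    have e : z * w = z * ((z * c) ^ k * z) * z⁻¹ := by
      rw [hzinv, hw]
      simp [mul_assoc, hz2]
    rcases dihedral_reflection_conj z c hz2 hc2 k with ⟨g, hg⟩ | ⟨g, hg⟩
    · rw [e, hg]
      exact isConj_iff.mpr ⟨z * g, by simp [mul_assoc]⟩
    · obtain ⟨y, hy⟩ := isConj_iff.mp hc
      rw [e, hg, ← hy]
      exact isConj_iff.mpr ⟨z * g * y, by simp [mul_assoc]⟩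
  have htne : z * w ≠ z := by
    intro h
    apply hw1
    simpa using h
  have htcomm : (z * w) * z = z * (z * w) := by rw [mul_assoc, ← hzw]
  have hmain := h1 (z * w) htconj htne htcomm
  have hzt : z * (z * w) = w := by rw [← mul_assoc, hz2, one_mul]
  simp only [hzt] at hmain
  obtain ⟨y, hy⟩ := isConj_iff.mp hc
  have hyH : y ∉ H := fun h => hcH (by rw [← hy]; exact (hzH y).mpr h)
  apply hyH
  have h2 : (y⁻¹ * w * y) * z = z * (y⁻¹ * w * y) := by
    calc y⁻¹ * w * y * z = y⁻¹ * (w * (y * z * y⁻¹)) * y := by simp [mul_assoc]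
      _ = y⁻¹ * ((y * z * y⁻¹) * w) * y := by rw [hy, hcw]
      _ = z * (y⁻¹ * w * y) := by simp [mul_assoc]
  have h3 : y⁻¹ * w * y ∈ H := cent_le z H hzH h2
  have h4 := (hmain y⁻¹).mp (by simpa using h3)
  simpa using h4

theorem odd_order (hz2 : z * z = 1) (hzH : ∀ g : G, g * z * g⁻¹ ∈ H ↔ g ∈ H)
    (h1 : ∀ t : G, IsConj z t → t ≠ z → t * z = z * t → ∀ g : G, g * (z * t) * g⁻¹ ∈ H ↔ g ∈ H)
    {a c : G} (ha : IsConj z a) (haH : a ∈ H) (hc : IsConj z c) (hcH : c ∉ H) :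
    Odd (orderOf (a * c)) := by
  obtain ⟨h, rfl⟩ := isConj_iff.mp ha
  have hh : h ∈ H := (hzH h).mp haH
  have e : h * z * h⁻¹ * c = MulAut.conj h (z * (h⁻¹ * c * h)) := by
    simp [MulAut.conj_apply, mul_assoc]
  rw [e, MulEquiv.orderOf_eq]
  apply odd_order_z z H hz2 hzH h1
  · obtain ⟨y, rfl⟩ := isConj_iff.mp hc
    exact isConj_iff.mpr ⟨h⁻¹ * y, by simp [mul_assoc]⟩
  · intro hmem
    apply hcH
    have : c = h * (h⁻¹ * c * h) * h⁻¹ := by simp [mul_assoc]
    rw [this]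
    exact H.mul_mem (H.mul_mem hh hmem) (H.inv_mem hh)

theorem odd_inner (hz2 : z * z = 1) (hzH : ∀ g : G, g * z * g⁻¹ ∈ H ↔ g ∈ H)
    (h1 : ∀ t : G, IsConj z t → t ≠ z → t * z = z * t → ∀ g : G, g * (z * t) * g⁻¹ ∈ H ↔ g ∈ H)
    (hH : H ≠ ⊤) : Odd ({t : G | IsConj z t ∧ t ∈ H}).ncard := by
  obtain ⟨x, hx⟩ : ∃ x : G, x ∉ H := by
    by_contra hall
    push Not at hall
    exact hH (eq_top_iff.mpr (fun g _ => hall g))
  have hzmem : z ∈ H := z_mem z H hzH
  obtain ⟨b, hb⟩ : ∃ b : G, b = x * z * x⁻¹ := ⟨_, rfl⟩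
  have hbD : IsConj z b := isConj_iff.mpr ⟨x, hb.symm⟩
  have hbH : b ∉ H := fun h => hx ((hzH x).mp (hb ▸ h))
  have hb2 : b * b = 1 := conj_sq z hz2 hbD
  have hΦ : ∀ a : G, IsConj z a → a ∈ H →
      ((a * b) ^ (orderOf (a * b) / 2) * a * a = b * ((a * b) ^ (orderOf (a * b) / 2) * a) ∧
        IsConj z ((a * b) ^ (orderOf (a * b) / 2) * a) ∧
        x⁻¹ * ((a * b) ^ (orderOf (a * b) / 2) * a) ∈ H) := by
    intro a ha haH
    have ha2 : a * a = 1 := conj_sq z hz2 ha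
    have hodd : Odd (orderOf (a * b)) := odd_order z H hz2 hzH h1 ha haH hbD hbH
    obtain ⟨k, hk⟩ := hodd
    have hk2 : orderOf (a * b) / 2 = k := by omega
    rw [hk2]
    have hpow : (a * b) ^ (2 * k + 1) = 1 := by rw [← hk]; exact pow_orderOf_eq_one _
    have hba : b * a = (a * b)⁻¹ := by
      rw [eq_inv_iff_mul_eq_one]
      calc b * a * (a * b) = b * (a * a) * b := by simp only [mul_assoc]
        _ = 1 := by rw [ha2, mul_one, hb2]
    have hkey : (a * b) ^ k = (b * a) ^ (k + 1) := by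
      rw [hba, inv_pow, eq_inv_iff_mul_eq_one, ← pow_add]
      have : k + (k + 1) = 2 * k + 1 := by ring
      rw [this]
      exact hpow
    have hsemi : a * (b * a) ^ k = (a * b) ^ k * a :=
      (SemiconjBy.pow_right (show SemiconjBy a (b * a) (a * b) from (mul_assoc a b a).symm) k).eq
    have hcomm : (a * b) ^ k * a * a = b * ((a * b) ^ k * a) := by
      calc (a * b) ^ k * a * a = (a * b) ^ k := by rw [mul_assoc, ha2, mul_one]
        _ = (b * a) ^ (k + 1) := hkey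
        _ = b * (a * (b * a) ^ k) := by rw [pow_succ', mul_assoc]
        _ = b * ((a * b) ^ k * a) := by rw [hsemi]
    refine ⟨hcomm, ?_, ?_⟩
    · rcases dihedral_reflection_conj a b ha2 hb2 k with ⟨g, hg⟩ | ⟨g, hg⟩
      · rw [hg]
        obtain ⟨y, rfl⟩ := isConj_iff.mp ha
        exact isConj_iff.mpr ⟨g * y, by simp [mul_assoc]⟩
      · rw [hg]
        obtain ⟨y, rfl⟩ := isConj_iff.mp hbD
        exact isConj_iff.mpr ⟨g * y, by simp [mul_assoc]⟩
    · obtain ⟨h, hh⟩ := isConj_iff.mp ha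
      have hhH : h ∈ H := (hzH h).mp (hh ▸ haH)
      obtain ⟨i, hi⟩ : ∃ i : G, i = (a * b) ^ k * a := ⟨_, rfl⟩
      rw [← hi] at hcomm ⊢
      have hc : (x⁻¹ * i * h) * z = z * (x⁻¹ * i * h) := by
        calc x⁻¹ * i * h * z = x⁻¹ * (i * (h * z * h⁻¹)) * h := by simp [mul_assoc]
          _ = x⁻¹ * (b * i) * h := by rw [hh, hcomm]
          _ = z * (x⁻¹ * i * h) := by rw [hb]; simp [mul_assoc]
      have hmem := cent_le z H hzH hc
      have : x⁻¹ * i = (x⁻¹ * i * h) * h⁻¹ := by simp [mul_assoc]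
      rw [this]
      exact H.mul_mem hmem (H.inv_mem hhH)
  have hE : ∀ i : G, IsConj z i → x⁻¹ * i ∈ H → (i * i = 1 ∧ i * x ∈ H ∧ i ∉ H) := by
    intro i hiD hiH
    have hi2 := conj_sq z hz2 hiD
    refine ⟨hi2, ?_, ?_⟩
    · have : i * x = (x⁻¹ * i)⁻¹ := by
        rw [mul_inv_rev, inv_inv, inv_eq_of_mul_eq_one_left hi2]
      rw [this]
      exact H.inv_mem hiH
    · intro hi
      apply hx
      have : x⁻¹ = (x⁻¹ * i) * i⁻¹ := by simp
      have h' : x⁻¹ ∈ H := by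
        rw [this]
        exact H.mul_mem hiH (H.inv_mem hi)
      simpa using H.inv_mem h'
  have hcard : ({t : G | IsConj z t ∧ t ∈ H}).ncard = ({i : G | IsConj z i ∧ x⁻¹ * i ∈ H}).ncard := by
    apply Set.ncard_congr (fun a _ => (a * b) ^ (orderOf (a * b) / 2) * a)
    · rintro a ⟨ha, haH⟩
      exact ⟨(hΦ a ha haH).2.1, (hΦ a ha haH).2.2⟩
    · rintro a a' ⟨ha, haH⟩ ⟨ha', haH'⟩ heq
      have e1 := (hΦ a ha haH).1
      have e2 := (hΦ a' ha' haH').1
      rw [← heq] at e2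
      exact mul_left_cancel (e1.trans e2.symm)
    · rintro i ⟨hiD, hxi⟩
      obtain ⟨hi2, hix, hiH⟩ := hE i hiD hxi
      have hiinv : i⁻¹ = i := inv_eq_of_mul_eq_one_left hi2
      have hconj : i * b * i = (i * x) * z * (i * x)⁻¹ := by
        rw [hb, mul_inv_rev, hiinv]
        simp [mul_assoc]
      have haD : IsConj z (i * b * i) := isConj_iff.mpr ⟨i * x, hconj.symm⟩
      have haH : i * b * i ∈ H := by
        rw [hconj, hzH]
        exact hix
      refine ⟨i * b * i, ⟨haD, haH⟩, ?_⟩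
      obtain ⟨a, ha⟩ : ∃ a : G, a = i * b * i := ⟨_, rfl⟩
      rw [← ha] at haD haH ⊢
      have hai : a * i = i * b := by rw [ha, mul_assoc, hi2, mul_one]
      have hoddai : Odd (orderOf (a * i)) := odd_order z H hz2 hzH h1 haD haH hiD hiH
      rw [hai] at hoddai
      have hab : a * b = (i * b) ^ 2 := by
        rw [ha, pow_two]
        simp [mul_assoc]
      have hord : orderOf (a * b) = orderOf (i * b) := by
        rw [hab]
        exact Nat.Coprime.orderOf_pow (Nat.Coprime.symm (Nat.coprime_two_left.mpr hoddai))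
      obtain ⟨k, hk⟩ := hoddai
      have hk2 : orderOf (a * b) / 2 = k := by rw [hord]; omega
      show (a * b) ^ (orderOf (a * b) / 2) * a = i
      rw [hk2, hab, ← pow_mul]
      have h1' : (i * b) ^ (2 * k) * (i * b) = 1 := by
        rw [← pow_succ, ← hk]
        exact pow_orderOf_eq_one _
      have h2' : (i * b) ^ (2 * k) = b * i := by
        rw [← mul_left_inj (i * b), h1']
        symm
        calc b * i * (i * b) = b * (i * i) * b := by simp only [mul_assoc]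
          _ = 1 := by rw [hi2, mul_one, hb2]
      rw [h2', ha]
      calc b * i * (i * b * i) = b * (i * i) * b * i := by simp only [mul_assoc]
        _ = i := by rw [hi2, mul_one, hb2, one_mul]
  rw [hcard]
  have hzΦ := hΦ z (IsConj.refl z) hzmem
  obtain ⟨i₀, hi₀⟩ : ∃ i₀ : G, i₀ = (z * b) ^ (orderOf (z * b) / 2) * z := ⟨_, rfl⟩
  rw [← hi₀] at hzΦ
  obtain ⟨-, hi₀D, hi₀xH⟩ := hzΦ
  obtain ⟨hi₀2, hi₀x, hi₀H⟩ := hE i₀ hi₀D hi₀xH
  have hi₀inv : i₀⁻¹ = i₀ := inv_eq_of_mul_eq_one_left hi₀2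
  refine odd_ncard_of_involution {i : G | IsConj z i ∧ x⁻¹ * i ∈ H} (Set.toFinite _)
    (fun i => i₀ * i * i₀) ?_ ?_ i₀ ⟨hi₀D, hi₀xH⟩ ?_ ?_
  · rintro i ⟨hiD, hxi⟩
    obtain ⟨hi2, hix, hiH⟩ := hE i hiD hxi
    refine ⟨?_, ?_⟩
    · obtain ⟨y, hy⟩ := isConj_iff.mp hiD
      refine isConj_iff.mpr ⟨i₀ * y, ?_⟩
      rw [← hy, mul_inv_rev, hi₀inv]
      simp [mul_assoc]
    · have : x⁻¹ * (i₀ * i * i₀) = (x⁻¹ * i₀) * (i * x) * (x⁻¹ * i₀) := by simp [mul_assoc]
      show x⁻¹ * (i₀ * i * i₀) ∈ H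
      rw [this]
      exact H.mul_mem (H.mul_mem hi₀xH hix) hi₀xH
  · intro i _
    show i₀ * (i₀ * i * i₀) * i₀ = i
    calc i₀ * (i₀ * i * i₀) * i₀ = (i₀ * i₀) * i * (i₀ * i₀) := by simp only [mul_assoc]
      _ = i := by rw [hi₀2]; simp
  · show i₀ * i₀ * i₀ = i₀
    rw [hi₀2, one_mul]
  · rintro i ⟨hiD, hxi⟩ hfix
    by_contra hne
    obtain ⟨hi2, hix, hiH⟩ := hE i hiD hxi
    have hfix' : i₀ * i * i₀ = i := hfix
    have hcomm : i₀ * i = i * i₀ := by
      calc i₀ * i = (i₀ * i * i₀) * i₀ := by rw [mul_assoc (i₀ * i), hi₀2, mul_one]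
        _ = i * i₀ := by rw [hfix']
    obtain ⟨y, hy⟩ := isConj_iff.mp hi₀D
    have htD : IsConj z (y⁻¹ * i * y) := by
      obtain ⟨v, hv⟩ := isConj_iff.mp hiD
      exact isConj_iff.mpr ⟨y⁻¹ * v, by rw [← hv]; simp [mul_assoc]⟩
    have htne : y⁻¹ * i * y ≠ z := by
      intro h
      apply hne
      have : i = y * (y⁻¹ * i * y) * y⁻¹ := by simp [mul_assoc]
      rw [this, h, hy]
    have hz' : z = y⁻¹ * i₀ * y := by rw [← hy]; simp [mul_assoc]
    have htz : (y⁻¹ * i * y) * z = z * (y⁻¹ * i * y) := by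
      rw [hz']
      calc y⁻¹ * i * y * (y⁻¹ * i₀ * y) = y⁻¹ * (i * i₀) * y := by simp [mul_assoc]
        _ = y⁻¹ * (i₀ * i) * y := by rw [hcomm]
        _ = y⁻¹ * i₀ * y * (y⁻¹ * i * y) := by simp [mul_assoc]
    have hmain := h1 _ htD htne htz
    have hzt : z * (y⁻¹ * i * y) = y⁻¹ * (i₀ * i) * y := by rw [hz']; simp [mul_assoc]
    simp only [hzt] at hmain
    have hyH : y ∈ H := by
      rw [← hmain y]
      have : y * (y⁻¹ * (i₀ * i) * y) * y⁻¹ = (i₀ * x) * (x⁻¹ * i) := by simp [mul_assoc]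
      rw [this]
      exact H.mul_mem hi₀x hxi
    have hxy : x⁻¹ * y ∈ H := by
      rw [← hmain (x⁻¹ * y)]
      have : x⁻¹ * y * (y⁻¹ * (i₀ * i) * y) * (x⁻¹ * y)⁻¹ = (x⁻¹ * i₀) * (i * x) := by
        simp [mul_assoc]
      rw [this]
      exact H.mul_mem hi₀xH hix
    apply hx
    have : x⁻¹ = (x⁻¹ * y) * y⁻¹ := by simp
    have hxinv : x⁻¹ ∈ H := by
      rw [this]
      exact H.mul_mem hxy (H.inv_mem hyH)
    simpa using H.inv_mem hxinv

theorem even_outer (hz2 : z * z = 1) (hzH : ∀ g : G, g * z * g⁻¹ ∈ H ↔ g ∈ H) :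
    Even ({t : G | IsConj z t ∧ t ∉ H}).ncard := by
  have hzmem : z ∈ H := z_mem z H hzH
  have hzinv : z⁻¹ = z := inv_eq_of_mul_eq_one_left hz2
  apply even_ncard_of_involution _ (Set.toFinite _) (fun t => z * t * z)
  · rintro t ⟨htD, htH⟩
    refine ⟨?_, ?_⟩
    · obtain ⟨y, hy⟩ := isConj_iff.mp htD
      refine isConj_iff.mpr ⟨z * y, ?_⟩
      rw [← hy, mul_inv_rev, hzinv]
      simp [mul_assoc]
    · intro h
      apply htH
      have h' : z * t * z ∈ H := h
      have : t = z * (z * t * z) * z := by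
        calc t = (z * z) * t * (z * z) := by rw [hz2]; simp
          _ = z * (z * t * z) * z := by simp only [mul_assoc]
      rw [this]
      exact H.mul_mem (H.mul_mem hzmem h') hzmem
  · intro t _
    show z * (z * t * z) * z = t
    calc z * (z * t * z) * z = (z * z) * t * (z * z) := by simp only [mul_assoc]
      _ = t := by rw [hz2]; simp
  · rintro t ⟨htD, htH⟩ hfix
    apply htH
    apply cent_le z H hzH
    have hfix' : z * t * z = t := hfix
    calc t * z = (z * t * z) * z := by rw [hfix']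
      _ = z * t := by rw [mul_assoc, hz2, mul_one]

theorem odd_class (hz2 : z * z = 1) (hzH : ∀ g : G, g * z * g⁻¹ ∈ H ↔ g ∈ H)
    (h1 : ∀ t : G, IsConj z t → t ≠ z → t * z = z * t → ∀ g : G, g * (z * t) * g⁻¹ ∈ H ↔ g ∈ H)
    (hH : H ≠ ⊤) : Odd ({t : G | IsConj z t}).ncard := by
  have hunion : {t : G | IsConj z t} = {t : G | IsConj z t ∧ t ∈ H} ∪ {t : G | IsConj z t ∧ t ∉ H} := by
    ext t
    constructor
    · intro h
      by_cases ht : t ∈ H
      · exact Or.inl ⟨h, ht⟩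
      · exact Or.inr ⟨h, ht⟩
    · rintro (⟨h, -⟩ | ⟨h, -⟩) <;> exact h
  have hdisj : Disjoint {t : G | IsConj z t ∧ t ∈ H} {t : G | IsConj z t ∧ t ∉ H} := by
    rw [Set.disjoint_left]
    rintro t ⟨-, h⟩ ⟨-, h'⟩
    exact h' h
  rw [hunion, Set.ncard_union_eq hdisj (Set.toFinite _) (Set.toFinite _)]
  exact (odd_inner z H hz2 hzH h1 hH).add_even (even_outer z H hz2 hzH)

theorem two_central (hz2 : z * z = 1) (hodd : Odd ({t : G | IsConj z t}).ncard) :
    ∃ P : Sylow 2 G, z ∈ (Subgroup.center ↥(P : Subgroup G)).map (P : Subgroup G).subtype := by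
  rw [ncard_conj_eq_index] at hodd
  obtain ⟨P'⟩ : Nonempty (Sylow 2 G) := inferInstance
  have hnd : ¬ 2 ∣ Nat.card (G ⧸ Subgroup.centralizer ({z} : Set G)) := hodd.not_two_dvd_nat
  obtain ⟨q, hq⟩ := P'.isPGroup'.nonempty_fixed_point_of_prime_not_dvd_card
    (G ⧸ Subgroup.centralizer ({z} : Set G)) hnd
  induction q using Quotient.inductionOn' with
  | h g =>
    -- every s ∈ P' commutes with g z g⁻¹
    have hcomm : ∀ s ∈ (P' : Subgroup G), s * (g * z * g⁻¹) = (g * z * g⁻¹) * s := by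
      intro s hs
      have h1 := hq ⟨s, hs⟩
      have h2 : ((s * g : G) : G ⧸ Subgroup.centralizer ({z} : Set G)) = (g : G ⧸ Subgroup.centralizer ({z} : Set G)) := h1
      rw [QuotientGroup.eq, Subgroup.mem_centralizer_singleton_iff] at h2
      -- h2 : (s * g)⁻¹ * g * z = z * ((s * g)⁻¹ * g)
      have h3 : g⁻¹ * s⁻¹ * g * z = z * (g⁻¹ * s⁻¹ * g) := by
        have e : (s * g)⁻¹ * g = g⁻¹ * s⁻¹ * g := by simp [mul_assoc]
        rw [e] at h2
        exact h2
      calc s * (g * z * g⁻¹) = s * (g * (z * (g⁻¹ * s⁻¹ * g)) * g⁻¹) * s := by simp [mul_assoc]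
        _ = s * (g * (g⁻¹ * s⁻¹ * g * z) * g⁻¹) * s := by rw [h3]
        _ = (g * z * g⁻¹) * s := by simp [mul_assoc]
    have hle : (P' : Subgroup G) ≤ Subgroup.centralizer ({g * z * g⁻¹} : Set G) := by
      intro s hs
      rw [Subgroup.mem_centralizer_singleton_iff]
      exact hcomm s hs
    have hz'2 : (g * z * g⁻¹) ^ 2 ^ 1 = 1 := by
      rw [pow_one, pow_two]
      calc g * z * g⁻¹ * (g * z * g⁻¹) = g * (z * z) * g⁻¹ := by simp [mul_assoc]
        _ = 1 := by rw [hz2]; simp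
    obtain ⟨h, hh, hmem⟩ := exists_conj_mem_sylow_of_mem (Subgroup.centralizer ({g * z * g⁻¹} : Set G)) P' hle
      (g * z * g⁻¹) (by rw [Subgroup.mem_centralizer_singleton_iff]) ⟨1, hz'2⟩
    rw [Subgroup.mem_centralizer_singleton_iff] at hh
    have hmem' : g * z * g⁻¹ ∈ (P' : Subgroup G) := by
      have : h * (g * z * g⁻¹) * h⁻¹ = g * z * g⁻¹ := by rw [hh]; simp
      rwa [this] at hmem
    -- P := g⁻¹ • P'
    refine ⟨g⁻¹ • P', ?_⟩
    have hzP : z ∈ ((g⁻¹ • P' : Sylow 2 G) : Subgroup G) := by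
      have := conj_mem_smul_sylow g⁻¹ (g * z * g⁻¹) P' hmem'
      have e : g⁻¹ * (g * z * g⁻¹) * g⁻¹⁻¹ = z := by simp [mul_assoc]
      rw [e] at this
      exact this
    rw [Subgroup.mem_map]
    refine ⟨⟨z, hzP⟩, ?_, rfl⟩
    rw [Subgroup.mem_center_iff]
    rintro ⟨y, hy⟩
    apply Subtype.ext
    show y * z = z * y
    have hy' : g * y * g⁻¹ ∈ (P' : Subgroup G) := by
      have := conj_mem_smul_sylow g y (g⁻¹ • P') hy
      rwa [smul_inv_smul] at this
    have := hcomm _ hy'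
    calc y * z = g⁻¹ * ((g * y * g⁻¹) * (g * z * g⁻¹)) * g := by simp [mul_assoc]
      _ = g⁻¹ * ((g * z * g⁻¹) * (g * y * g⁻¹)) * g := by rw [this]
      _ = z * y := by simp [mul_assoc]

end

/-- Let z be an involution of a finite group G and H a proper subgroup such that z lies in gHg⁻¹ exactly when g ∈ H. Then the following are equivalent: (1) for every conjugate t ≠ z of z commuting with z, the product zt lies in gHg⁻¹ exactly when g ∈ H; (2) z lies in the centre of some Sylow 2-subgroup of G, and for every conjugate t ≠ z of z commuting with z, the centralizer of zt is contained in H. -/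
theorem result {G : Type*} [Group G] [Finite G] (z : G) (hz : orderOf z = 2) (H : Subgroup G) (hH : H ≠ ⊤)
    (h0 : ∀ g : G, z ∈ H.map (MulAut.conj g).toMonoidHom ↔ g ∈ H) :
    (∀ t : G, IsConj z t → t ≠ z → t * z = z * t → ∀ g : G, z * t ∈ H.map (MulAut.conj g).toMonoidHom ↔ g ∈ H) ↔
      ((∃ P : Sylow 2 G, z ∈ (Subgroup.center ↥(P : Subgroup G)).map (P : Subgroup G).subtype) ∧
        ∀ t : G, IsConj z t → t ≠ z → t * z = z * t → Subgroup.centralizer ({z * t} : Set G) ≤ H) := by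
  have hz2 : z * z = 1 := by rw [← pow_two, ← hz]; exact pow_orderOf_eq_one z
  have hzinv : z⁻¹ = z := inv_eq_of_mul_eq_one_left hz2
  have hzH : ∀ g : G, g * z * g⁻¹ ∈ H ↔ g ∈ H := by
    intro g
    have := h0 g⁻¹
    rw [mem_map_conj_iff', inv_inv] at this
    rw [this]
    exact H.inv_mem_iff
  have hzmem : z ∈ H := z_mem z H hzH
  constructor
  · intro h1
    have h1' : ∀ t : G, IsConj z t → t ≠ z → t * z = z * t → ∀ g : G, g * (z * t) * g⁻¹ ∈ H ↔ g ∈ H := by
      intro t ht htne htz g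
      have := h1 t ht htne htz g⁻¹
      rw [mem_map_conj_iff', inv_inv] at this
      rw [this]
      exact H.inv_mem_iff
    refine ⟨two_central z hz2 (odd_class z H hz2 hzH h1' hH), ?_⟩
    intro t ht htne htz c hc
    rw [Subgroup.mem_centralizer_singleton_iff] at hc
    rw [← h1' t ht htne htz c]
    have : c * (z * t) * c⁻¹ = z * t := by rw [hc]; simp
    rw [this]
    exact H.mul_mem hzmem (cent_le z H hzH htz)
  · rintro ⟨⟨P, hzP⟩, hC⟩ t ht htne htz g
    obtain ⟨⟨w, hwP⟩, hwc, hwz⟩ := hzP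
    have hwz' : w = z := hwz
    subst hwz'
    have hPcomm : ∀ s ∈ (P : Subgroup G), s * w = w * s := by
      intro s hs
      have := Subgroup.mem_center_iff.mp hwc ⟨s, hs⟩
      exact congrArg Subtype.val this
    have hPH : (P : Subgroup G) ≤ H := fun s hs => cent_le w H hzH (hPcomm s hs)
    have ht2 : t * t = 1 := conj_sq w hz2 ht
    rw [mem_map_conj_iff']
    constructor
    · intro hmem
      have hu2 : (g⁻¹ * (w * t) * g) ^ 2 ^ 1 = 1 := by
        rw [pow_one, pow_two]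
        calc g⁻¹ * (w * t) * g * (g⁻¹ * (w * t) * g) = g⁻¹ * (w * (t * w) * t) * g := by simp [mul_assoc]
          _ = g⁻¹ * (w * (w * t) * t) * g := by rw [htz]
          _ = g⁻¹ * ((w * w) * (t * t)) * g := by simp only [mul_assoc]
          _ = 1 := by rw [hz2, ht2]; simp
      obtain ⟨h, hh, hmemP⟩ := exists_conj_mem_sylow_of_mem H P hPH _ hmem ⟨1, hu2⟩
      have hcomm := hPcomm _ hmemP
      -- k = h * g⁻¹ ; k (w t) k⁻¹ commutes with w
      have hk : (g * h⁻¹ * w * (g * h⁻¹)⁻¹) ∈ Subgroup.centralizer ({w * t} : Set G) := by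
        rw [Subgroup.mem_centralizer_singleton_iff]
        calc g * h⁻¹ * w * (g * h⁻¹)⁻¹ * (w * t)
            = g * h⁻¹ * (w * (h * (g⁻¹ * (w * t) * g) * h⁻¹)) * h * g⁻¹ := by simp [mul_assoc]
          _ = g * h⁻¹ * ((h * (g⁻¹ * (w * t) * g) * h⁻¹) * w) * h * g⁻¹ := by rw [hcomm]
          _ = w * t * (g * h⁻¹ * w * (g * h⁻¹)⁻¹) := by simp [mul_assoc]
      have hkH := hC t ht htne htz hk
      rw [hzH] at hkH
      have : g = (g * h⁻¹) * h := by simp
      rw [this]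
      exact H.mul_mem hkH hh
    · intro hg
      have hwt : w * t ∈ H := H.mul_mem hzmem (cent_le w H hzH htz)
      exact H.mul_mem (H.mul_mem (H.inv_mem hg) hwt) hg

end Cfsg.Agent.S1922
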