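import Cfsg.Statements.S1932
import Cfsg.Agent.Lib.Helper33.Ff3
import Cfsg.Agent.Lib.Lead.ZJFact
import Cfsg.Agent.Lib.Helper34.NPC
import Cfsg.Agent.Lib.Helper34.InvolvesAux
import Cfsg.Agent.Lib.Helper48.Cores

set_option autoImplicit false
open Cfsg

namespace Cfsg.Agent.S1932

open Cfsg.Agent.Lib.Helper11 Cfsg.Agent.Lib.Helper2.TF

/-- Let G be a finite group that is 2-constrained and has no section isomorphic to the symmetric group of degree 4, and let S be a Sylow 2-subgroup of G of nilpotency class at most 2. Then G = N_G(J(S))·O_{2'}(G), where J(S) is the Thompson subgroup generated by the elementary abelian subgroups of S of largest order. -/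
theorem result {G : Type*} [Group G] [Finite G] (hcon : Cfsg.IsPConstrained 2 G) (hS4 : ¬ Cfsg.Involves (Equiv.Perm (Fin 4)) G) (S : Sylow 2 G) (hcl : Subgroup.lowerCentralSeries (S : Subgroup G) 2 = ⊥) : Subgroup.normalizer ((Cfsg.thompsonSubgroupOf 2 (S : Subgroup G)) : Set G) ⊔ Cfsg.pPrimeCore 2 G = ⊤ := by
  have h2f : Fact (Nat.Prime 2) := ⟨Nat.prime_two⟩
  have hOn : (Cfsg.pPrimeCore 2 G).Normal := Cfsg.Agent.Lib.Helper48.pPrimeCore_normal' 2 G
  have hOc : (Nat.card (Cfsg.pPrimeCore 2 G)).Coprime 2 :=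
    Cfsg.Agent.Lib.Helper34.card_pPrimeCore_coprime 2 G
  have hfs : Function.Surjective (QuotientGroup.mk' (Cfsg.pPrimeCore 2 G)) :=
    QuotientGroup.mk'_surjective _
  -- the quotient `G / O_{2'}(G)`
  have hc' := Cfsg.Agent.Lib.Lead.centralizer_pCore_quotient_le hcon
  have hS4' : ¬ Cfsg.Involves (Equiv.Perm (Fin 4)) (G ⧸ Cfsg.pPrimeCore 2 G) := fun h =>
    hS4 (Cfsg.Agent.Lib.Helper34.involves_of_quotient (Cfsg.pPrimeCore 2 G) h)
  have hS' : ((S.mapSurjective hfs : Sylow 2 (G ⧸ Cfsg.pPrimeCore 2 G)) :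
      Subgroup (G ⧸ Cfsg.pPrimeCore 2 G)) =
      (S : Subgroup G).map (QuotientGroup.mk' (Cfsg.pPrimeCore 2 G)) :=
    Sylow.coe_mapSurjective hfs S
  have hcl' : Subgroup.lowerCentralSeries
      ((S.mapSurjective hfs : Sylow 2 (G ⧸ Cfsg.pPrimeCore 2 G)) :
        Subgroup (G ⧸ Cfsg.pPrimeCore 2 G)) 2 = ⊥ := by
    rw [hS']
    show ⁅⁅(S : Subgroup G).map (QuotientGroup.mk' (Cfsg.pPrimeCore 2 G)),
      (S : Subgroup G).map (QuotientGroup.mk' (Cfsg.pPrimeCore 2 G))⁆,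
      (S : Subgroup G).map (QuotientGroup.mk' (Cfsg.pPrimeCore 2 G))⁆ = ⊥
    have h1 : ⁅⁅(S : Subgroup G), (S : Subgroup G)⁆, (S : Subgroup G)⁆ = ⊥ := hcl
    rw [← Subgroup.map_commutator, ← Subgroup.map_commutator, h1, Subgroup.map_bot]
  have hJn := Cfsg.Agent.Lib.Helper33.Ff.thompsonSubgroupOf_two_normal_cl2 hS4' hc'
    (S.mapSurjective hfs) hcl'
  have hSO : (S : Subgroup G) ⊓ (QuotientGroup.mk' (Cfsg.pPrimeCore 2 G)).ker = ⊥ := by
    rw [QuotientGroup.ker_mk']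
    apply disjoint_iff.mp
    apply Subgroup.disjoint_of_coprime_natCard
    obtain ⟨n, hn⟩ := IsPGroup.iff_card.mp S.isPGroup'
    rw [hn]
    exact Nat.Coprime.pow_left n hOc.symm
  rw [hS', thompsonSubgroupOf_map_of_inf_ker 2 (QuotientGroup.mk' (Cfsg.pPrimeCore 2 G))
    (S : Subgroup G) hSO] at hJn
  have hJp : IsPGroup 2 (Cfsg.thompsonSubgroupOf 2 (S : Subgroup G)) :=
    S.isPGroup'.to_le (thompsonSubgroupOf_le 2 _)
  rw [eq_top_iff]
  intro g _
  have hconj : ∀ x ∈ Cfsg.thompsonSubgroupOf 2 (S : Subgroup G),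
      g * x * g⁻¹ ∈ Cfsg.thompsonSubgroupOf 2 (S : Subgroup G) ⊔ Cfsg.pPrimeCore 2 G := by
    intro x hx
    have h1 : QuotientGroup.mk' (Cfsg.pPrimeCore 2 G) (g * x * g⁻¹) ∈
        (Cfsg.thompsonSubgroupOf 2 (S : Subgroup G)).map
          (QuotientGroup.mk' (Cfsg.pPrimeCore 2 G)) := by
      rw [map_mul, map_mul, map_inv]
      exact hJn.conj_mem _ (Subgroup.mem_map_of_mem _ hx) _
    obtain ⟨y, hy, hyx⟩ := h1
    have h2 : y⁻¹ * (g * x * g⁻¹) ∈ Cfsg.pPrimeCore 2 G := QuotientGroup.eq.mp hyx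
    have h3 : g * x * g⁻¹ = y * (y⁻¹ * (g * x * g⁻¹)) := by group
    rw [h3]
    exact Subgroup.mul_mem_sup hy h2
  obtain ⟨d, hd, hdg⟩ := Cfsg.Agent.Lib.Helper34.exists_mul_mem_normalizer_of_conj_le_sup
    (Cfsg.thompsonSubgroupOf 2 (S : Subgroup G)) (Cfsg.pPrimeCore 2 G) hJp hOc g hconj
  have h4 : g = d⁻¹ * (d * g) := by group
  rw [h4, sup_comm]
  exact Subgroup.mul_mem_sup ((Cfsg.pPrimeCore 2 G).inv_mem hd) hdg

end Cfsg.Agent.S1932
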