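import Cfsg.Statements.S1988
import Mathlib
import Cfsg.Agent.Lib.Helper49.KStab4
import Cfsg.Agent.S1990
import Cfsg.Agent.S2007
import Cfsg.Agent.S1978
import Cfsg.Agent.S2795

set_option autoImplicit false
universe u
open Cfsg

namespace Cfsg.Agent.S1988

/-- Let p be an odd prime, G a finite group with Sylow p-subgroup S and K the lower K-infinity subgroup of S. If N_G(K) has a normal p-complement, or if N_G(K)/C_G(K) is a p-group (every element of N_G(K) of order prime to p centralizes K), then G has a normal p-complement. -/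
theorem result {G : Type u} [Group G] [Finite G] {p : ℕ} [Fact p.Prime] (hp : p ≠ 2) (S : Sylow p G) (h : Cfsg.HasNormalPComplement p ↥(Subgroup.normalizer ((Cfsg.inducedFunctor Cfsg.kInfLower (S : Subgroup G) : Subgroup G) : Set G)) ∨ ∀ g ∈ Subgroup.normalizer ((Cfsg.inducedFunctor Cfsg.kInfLower (S : Subgroup G) : Subgroup G) : Set G), (orderOf g).Coprime p → g ∈ Subgroup.centralizer ((Cfsg.inducedFunctor Cfsg.kInfLower (S : Subgroup G) : Subgroup G) : Set G)) : Cfsg.HasNormalPComplement p G := by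
  have hW := Cfsg.Agent.Lib.Helper33.isCharPFunctor_kInfLower.{u} p
  have hcf := Cfsg.Agent.Lib.Helper33.isConjugacyFunctor_induced hW G
  have hKS : Cfsg.inducedFunctor Cfsg.kInfLower (S : Subgroup G) ≤ (S : Subgroup G) :=
    Cfsg.Agent.Lib.Helper33.cf_le hcf S.isPGroup'
  have hSN : (S : Subgroup G) ≤ Subgroup.normalizer
      ((Cfsg.inducedFunctor Cfsg.kInfLower (S : Subgroup G) : Subgroup G) : Set G) :=
    Subgroup.le_normalizer.trans (Cfsg.Agent.Lib.Helper33.cf_normalizer_le hcf S.isPGroup')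
  have hC : (S : Subgroup G) ⊓ Subgroup.centralizer
      ((Cfsg.inducedFunctor Cfsg.kInfLower (S : Subgroup G) : Subgroup G) : Set G) ≤
      Cfsg.inducedFunctor Cfsg.kInfLower (S : Subgroup G) := by
    rintro x ⟨hxS, hxC⟩
    have h1 := (Cfsg.Agent.S1978.result (P := ↥(S : Subgroup G)) S.isPGroup').1
    have h2 : (⟨x, hxS⟩ : ↥(S : Subgroup G)) ∈
        Subgroup.centralizer (Cfsg.kInfLower ↥(S : Subgroup G) : Set ↥(S : Subgroup G)) := by
      rw [Subgroup.mem_centralizer_iff]
      intro y hy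
      apply Subtype.ext
      exact Subgroup.mem_centralizer_iff.1 hxC (y : G) ⟨y, hy, rfl⟩
    exact ⟨⟨x, hxS⟩, h1 h2, rfl⟩
  have hN : Cfsg.HasNormalPComplement p ↥(Subgroup.normalizer
      ((Cfsg.inducedFunctor Cfsg.kInfLower (S : Subgroup G) : Subgroup G) : Set G)) := by
    rcases h with h | h
    · exact h
    · exact Cfsg.Agent.S2007.result S _ hKS hSN hC h
  exact Cfsg.Agent.S1990.result hp (fun (Q : Type u) [Group Q] => Cfsg.kInfLower Q) hW S hN
    (fun K R _ hst T => Cfsg.Agent.Lib.Helper49.kInfLower_controls_of_qd_free hp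
      ((Cfsg.Agent.S2795.result hp).2 (fun K' R' _ => hst K' R')) T)

end Cfsg.Agent.S1988
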