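import Mathlib
import Cfsg.Statements.S2004
import Cfsg.Agent.Lib.Helper11.SLpSection

set_option autoImplicit false
open Cfsg

namespace Cfsg.Agent.S2004

/-- Let p be an odd prime and G a finite group such that SL₂(p) is not involved in N_G(P) for any nonidentity p-subgroup P of G. Then every section of G is p-stable in the normalizer form: in each section, whenever an element of the normalizer of a p-subgroup Q acts quadratically on Q, its image in N(Q)/C(Q) lies in O_p(N(Q)/C(Q)). -/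
theorem result {G : Type*} [Group G] [Finite G] {p : ℕ} [Fact p.Prime] (hp : p ≠ 2) (h : ∀ P : Subgroup G, IsPGroup p ↥P → P ≠ ⊥ → ¬ Cfsg.Involves (Matrix.SpecialLinearGroup (Fin 2) (ZMod p)) ↥(Subgroup.normalizer ((P : Subgroup G) : Set G))) : ∀ (K R : Subgroup G) [hR : (R.subgroupOf K).Normal], Cfsg.IsNormalizerPStable p (↥K ⧸ R.subgroupOf K) := by
  intro K R hR
  apply Cfsg.Agent.Lib.Helper11.isNormalizerPStable_of_noSL2 hp
  intro Q hQ hQne
  by_contra hno
  obtain ⟨K₁, L₁, hL₁, hK₁, ⟨e⟩⟩ := Cfsg.Agent.Lib.Helper11.slp_section_of_not_noSL2 hp _ hno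
  obtain ⟨P₁, hP₁, hP₁Q, hNle⟩ := Cfsg.Agent.Lib.Helper11.exists_pGroup_lift_normalizer
    (QuotientGroup.mk' (R.subgroupOf K)) (QuotientGroup.mk'_surjective _) Q hQ
  have hPp : IsPGroup p (P₁.map K.subtype) := hP₁.map _
  have hPne : P₁.map K.subtype ≠ ⊥ := by
    intro hbot
    apply hQne
    rw [← hP₁Q]
    have : P₁ = ⊥ := (Subgroup.map_eq_bot_iff_of_injective _ K.subtype_injective).mp hbot
    rw [this, Subgroup.map_bot]
  apply h (P₁.map K.subtype) hPp hPne
  let Y : Subgroup ↥(Subgroup.normalizer ((P₁.map K.subtype : Subgroup G) : Set G)) :=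
    K.subgroupOf (Subgroup.normalizer ((P₁.map K.subtype : Subgroup G) : Set G))
  let f : Y →* (↥K ⧸ R.subgroupOf K) := (QuotientGroup.mk' (R.subgroupOf K)).comp
    (((Subgroup.normalizer ((P₁.map K.subtype : Subgroup G) : Set G)).subtype.comp
      Y.subtype).codRestrict K (fun y => Subgroup.mem_subgroupOf.mp y.2))
  have hrange : K₁ ≤ f.range := by
    intro x hx
    obtain ⟨k, hk, rfl⟩ := hNle (hK₁ hx)
    have hkN : (k : G) ∈ Subgroup.normalizer ((P₁.map K.subtype : Subgroup G) : Set G) :=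
      Subgroup.le_normalizer_map K.subtype ⟨k, hk, rfl⟩
    exact ⟨⟨⟨(k : G), hkN⟩, Subgroup.mem_subgroupOf.mpr k.2⟩, rfl⟩
  obtain ⟨L', K', hK', -, he⟩ := Cfsg.Agent.Lib.Helper11.exists_section_of_hom_surj Y f K₁
    hrange ((e.toMonoidHom).comp (QuotientGroup.mk' (L₁.subgroupOf K₁)))
    (e.surjective.comp (QuotientGroup.mk'_surjective _))
  exact ⟨L', K', hK', he⟩

end Cfsg.Agent.S2004
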