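import Mathlib
import Cfsg.Statements.S2010
import Cfsg.Agent.Lib.Helper2.ThompsonFact2
import Cfsg.Agent.Lib.Helper55.Cores
import Cfsg.Agent.Lib.Helper34.NPC
import Cfsg.Agent.Lib.Helper34.InvolvesAux

set_option autoImplicit false
open Cfsg

namespace Cfsg.Agent.S2010

open Cfsg.Agent.Lib.Helper11 Cfsg.Agent.Lib.Helper2.TF

/-- Let G be a finite solvable group with no section isomorphic to the symmetric group of degree 4, whose Sylow 2-subgroup S has nilpotency class at most 2. Then G = N_G(J_e(S)) · O_{2'}(G), where J_e(S) is the subgroup generated by the elementary abelian subgroups of S of largest order. -/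
theorem result {G : Type*} [Group G] [Finite G]
    [Group.IsSolvable G] (hS4 : ¬ Cfsg.Involves (Equiv.Perm (Fin 4)) G) (S : Sylow 2 G)
    (hcl : Subgroup.lowerCentralSeries (S : Subgroup G) 2 = ⊥) :
    Subgroup.normalizer ((Cfsg.thompsonSubgroupOf 2 (S : Subgroup G)) : Set G) ⊔ Cfsg.pPrimeCore 2 G = ⊤ := by
  have h2f : Fact (Nat.Prime 2) := ⟨Nat.prime_two⟩
  obtain ⟨O, hOdef⟩ : ∃ O : Subgroup G, O = Cfsg.pPrimeCore 2 G := ⟨_, rfl⟩
  have hOn : O.Normal := by
    rw [hOdef]; exact Cfsg.Agent.Lib.Helper48.pPrimeCore_normal' 2 G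
  have hOc : (Nat.card O).Coprime 2 := by
    rw [hOdef]; exact Cfsg.Agent.Lib.Helper34.card_pPrimeCore_coprime 2 G
  rw [← hOdef]
  have hfs : Function.Surjective (QuotientGroup.mk' O) := QuotientGroup.mk'_surjective O
  -- the quotient `G / O_{2'}(G)`
  have hc' : Subgroup.centralizer (Cfsg.pCore 2 (G ⧸ O) : Set (G ⧸ O)) ≤ Cfsg.pCore 2 (G ⧸ O) := by
    subst hOdef
    exact Cfsg.Agent.Lib.Helper55.centralizer_pCore_le (fun N hN hcop =>
      Cfsg.Agent.Lib.Helper55.eq_bot_of_normal_coprime_quotient 2 G N hN hcop)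
  have hS4' : ¬ Cfsg.Involves (Equiv.Perm (Fin 4)) (G ⧸ O) := fun h =>
    hS4 (Cfsg.Agent.Lib.Helper34.involves_of_quotient O h)
  have hS' : ((S.mapSurjective hfs : Sylow 2 (G ⧸ O)) : Subgroup (G ⧸ O)) =
      (S : Subgroup G).map (QuotientGroup.mk' O) := Sylow.coe_mapSurjective hfs S
  have hcl' : Subgroup.lowerCentralSeries
      ((S.mapSurjective hfs : Sylow 2 (G ⧸ O)) : Subgroup (G ⧸ O)) 2 = ⊥ := by
    rw [hS']
    show ⁅⁅(S : Subgroup G).map (QuotientGroup.mk' O), (S : Subgroup G).map (QuotientGroup.mk' O)⁆,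
      (S : Subgroup G).map (QuotientGroup.mk' O)⁆ = ⊥
    have h1 : ⁅⁅(S : Subgroup G), (S : Subgroup G)⁆, (S : Subgroup G)⁆ = ⊥ := hcl
    rw [← Subgroup.map_commutator, ← Subgroup.map_commutator, h1, Subgroup.map_bot]
  have hJn := thompsonSubgroupOf_two_normal (inferInstance : Group.IsSolvable (G ⧸ O)) hS4' hc'
    (S.mapSurjective hfs) hcl'
  have hSO : (S : Subgroup G) ⊓ (QuotientGroup.mk' O).ker = ⊥ := by
    rw [QuotientGroup.ker_mk']
    apply disjoint_iff.mp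
    apply Subgroup.disjoint_of_coprime_natCard
    obtain ⟨n, hn⟩ := IsPGroup.iff_card.mp S.isPGroup'
    rw [hn]
    exact Nat.Coprime.pow_left n hOc.symm
  rw [hS', thompsonSubgroupOf_map_of_inf_ker 2 (QuotientGroup.mk' O) (S : Subgroup G) hSO] at hJn
  have hJp : IsPGroup 2 (Cfsg.thompsonSubgroupOf 2 (S : Subgroup G)) :=
    S.isPGroup'.to_le (thompsonSubgroupOf_le 2 _)
  rw [eq_top_iff]
  intro g _
  have hconj : ∀ x ∈ Cfsg.thompsonSubgroupOf 2 (S : Subgroup G),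
      g * x * g⁻¹ ∈ Cfsg.thompsonSubgroupOf 2 (S : Subgroup G) ⊔ O := by
    intro x hx
    have h1 : QuotientGroup.mk' O (g * x * g⁻¹) ∈
        (Cfsg.thompsonSubgroupOf 2 (S : Subgroup G)).map (QuotientGroup.mk' O) := by
      rw [map_mul, map_mul, map_inv]
      exact hJn.conj_mem _ (Subgroup.mem_map_of_mem _ hx) _
    obtain ⟨y, hy, hyx⟩ := h1
    have h2 : y⁻¹ * (g * x * g⁻¹) ∈ O := QuotientGroup.eq.mp hyx
    have h3 : g * x * g⁻¹ = y * (y⁻¹ * (g * x * g⁻¹)) := by group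
    rw [h3]
    exact Subgroup.mul_mem_sup hy h2
  obtain ⟨d, hd, hdg⟩ := Cfsg.Agent.Lib.Helper34.exists_mul_mem_normalizer_of_conj_le_sup
    (Cfsg.thompsonSubgroupOf 2 (S : Subgroup G)) O hJp hOc g hconj
  have h4 : g = d⁻¹ * (d * g) := by group
  rw [h4, sup_comm]
  exact Subgroup.mul_mem_sup (O.inv_mem hd) hdg

end Cfsg.Agent.S2010
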