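import Cfsg.Statements.S2064
import Cfsg.Agent.Lib.Helper86.M24Index

set_option autoImplicit false
open Cfsg

namespace Cfsg.Agent.S2064

open Cfsg.Agent.Lib.Helper86.PermCount Cfsg.Agent.Lib.Helper86.M24Index
open Cfsg.Agent.Lib.Helper6.Cls Cfsg.Agent.Lib.Helper6.Golay
open scoped Pointwise

/-- two points with the same stabilizer in `M24` are equal -/
theorem eq_of_stab_iff {q q' : GolayPt} (h : ∀ k : ↥M24, k • q = q ↔ k • q' = q') : q = q' := by
  by_contra hne
  have h1 := Cfsg.Agent.Lib.Helper7.card_stabilizer_M24 q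
  have h2 := Cfsg.Agent.Lib.Helper7.card_stabilizer_two_M24 hne
  have h3 : MulAction.stabilizer M24 q ⊓ MulAction.stabilizer M24 q'
      = MulAction.stabilizer M24 q := by
    ext k
    rw [Subgroup.mem_inf, MulAction.mem_stabilizer_iff, MulAction.mem_stabilizer_iff]
    constructor
    · exact fun hk => hk.1
    · exact fun hk => ⟨hk, (h k).1 hk⟩
  rw [h3, h1] at h2
  omega

/-- an automorphism of `M24` maps each point stabilizer onto a point stabilizer -/
theorem exists_point (α : ↥M24 ≃* ↥M24) (p : GolayPt) :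
    ∃ q : GolayPt, ∀ h : ↥M24, h • p = p ↔ α h • q = q := by
  let St : Subgroup ↥M24 := MulAction.stabilizer M24 p
  let H : Subgroup (Equiv.Perm GolayPt) := (St.map α.toMonoidHom).map M24.subtype
  have hH : H ≤ M24 := by
    rintro _ ⟨y, -, rfl⟩; exact y.2
  have hc : Nat.card H = 10200960 := by
    rw [Subgroup.card_map_of_injective (Subgroup.subtype_injective _),
      Subgroup.card_map_of_injective α.injective]
    exact Cfsg.Agent.Lib.Helper7.card_stabilizer_M24 p
  obtain ⟨q, hq⟩ := exists_fixed_of_card hH hc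
  refine ⟨q, ?_⟩
  let T : Subgroup ↥M24 := (MulAction.stabilizer M24 q).comap α.toMonoidHom
  have hle : St ≤ T := by
    intro h hh
    show α h • q = q
    exact hq _ ⟨α h, ⟨h, hh, rfl⟩, rfl⟩
  have hT : Nat.card T = 10200960 := by
    have : T = (MulAction.stabilizer M24 q).map α.symm.toMonoidHom :=
      Subgroup.comap_equiv_eq_map_symm' α _
    rw [this, Subgroup.card_map_of_injective α.symm.injective]
    exact Cfsg.Agent.Lib.Helper7.card_stabilizer_M24 q
  have heq : St = T := Subgroup.eq_of_le_of_card_ge hle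
    (by rw [hT]; exact (Cfsg.Agent.Lib.Helper7.card_stabilizer_M24 p).ge)
  intro h
  have : h ∈ St ↔ h ∈ T := by rw [heq]
  exact this

/-- The outer automorphism group of the Mathieu group M₂₄ (the automorphism group of the length-24 binary code) is trivial: every automorphism is inner. -/
theorem result : Nat.card (Cfsg.Out ↥Cfsg.M24) = 1 := by
  classical
  show (Inn ↥M24).index = 1
  rw [Subgroup.index_eq_one, eq_top_iff]
  intro α _
  -- the induced map on points
  choose π hπ using exists_point α
  have hinj : Function.Injective π := by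
    intro p p' hpp
    apply eq_of_stab_iff
    intro k
    rw [hπ p k, hπ p' k, hpp]
  have hbij : Function.Bijective π := Finite.injective_iff_bijective.1 hinj
  let π' : Equiv.Perm GolayPt := Equiv.ofBijective π hbij
  have hπ' : ∀ p, π' p = π p := fun p => rfl
  -- equivariance
  have hequiv : ∀ (g : ↥M24) (p : GolayPt), π (g • p) = α g • π p := by
    intro g p
    apply eq_of_stab_iff
    intro k
    obtain ⟨h, rfl⟩ := α.surjective k
    rw [← hπ (g • p) h]
    have e1 : h • g • p = g • p ↔ (g⁻¹ * h * g) • p = p := by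
      rw [mul_smul, mul_smul, inv_smul_eq_iff]
    have e2 : α h • α g • π p = α g • π p ↔ α (g⁻¹ * h * g) • π p = π p := by
      rw [map_mul, map_mul, map_inv, mul_smul, mul_smul, inv_smul_eq_iff]
    rw [e1, e2]
    exact hπ p _
  -- as permutations: `α g = π' g π'⁻¹`
  have hconj : ∀ g : ↥M24, ((α g : ↥M24) : Equiv.Perm GolayPt) = π' * (g : Equiv.Perm GolayPt) * π'⁻¹ := by
    intro g
    apply Equiv.ext
    intro p
    have h1 := hequiv g (π'⁻¹ p)
    have h2 : π (π'⁻¹ p) = p := by rw [← hπ']; simp
    rw [h2] at h1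
    show ((α g : ↥M24) : Equiv.Perm GolayPt) p = π' ((g : Equiv.Perm GolayPt) (π'⁻¹ p))
    rw [hπ']
    exact h1.symm
  -- `π'` preserves the octads
  have hmem : π' ∈ M24 := by
    rw [Cfsg.Agent.Lib.Helper7.M24_eq_setSystemAut]
    show π' ∈ MulAction.stabilizer (Equiv.Perm GolayPt) octads
    rw [MulAction.mem_stabilizer_set_iff_smul_set_subset (Set.toFinite _)]
    rintro _ ⟨o, ho, rfl⟩
    show π' • o ∈ octads
    obtain ⟨g, hg, hgo⟩ := Cfsg.Agent.Lib.Helper7.octad_transitive fixA_mem ho
    let t : ↥M24 := ⟨g * UA * g⁻¹, mul_mem (mul_mem hg UA_mem) (inv_mem hg)⟩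
    have ht_fix : (Finset.univ.filter fun p => (t : Equiv.Perm GolayPt) p = p) = o := by
      show (Finset.univ.filter fun p => (g * UA * g⁻¹) p = p) = o
      rw [fixed_conj, UA_fixed, hgo]
    have ht_sq : t * t = 1 := by
      apply Subtype.ext
      show g * UA * g⁻¹ * (g * UA * g⁻¹) = 1
      have : g * UA * g⁻¹ * (g * UA * g⁻¹) = g * (UA * UA) * g⁻¹ := by group
      rw [this, UA_sq]; group
    have ht_ne : t ≠ 1 := by
      intro h
      have h1 : g * UA * g⁻¹ = 1 := congrArg Subtype.val h
      apply UA_ne_one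
      have : UA = g⁻¹ * (g * UA * g⁻¹) * g := by group
      rw [this, h1]; group
    have hat_sq : (α t) ^ 2 = 1 := by
      rw [sq, ← map_mul, ht_sq, map_one]
    have hat_ne : α t ≠ 1 := by
      intro h
      exact ht_ne (α.injective (h.trans (map_one α).symm))
    have hord : orderOf ((α t : ↥M24) : Equiv.Perm GolayPt) = 2 := by
      rw [Subgroup.orderOf_coe]
      exact orderOf_eq_prime hat_sq hat_ne
    have hfix' : (Finset.univ.filter fun p => ((α t : ↥M24) : Equiv.Perm GolayPt) p = p)
        = π' • o := by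
      rw [hconj t, fixed_conj, ht_fix]
    obtain ⟨k, hk, h1 | h1⟩ := inv_cases (α t).2 hord
    · have h2 := fixed_conj k ((α t : ↥M24) : Equiv.Perm GolayPt)
      rw [h1.2, UA_fixed, hfix'] at h2
      have h3 : π' • o = k⁻¹ • suppMask fixA := by
        rw [h2, inv_smul_smul]
      rw [h3]
      exact Cfsg.Agent.Lib.Helper7.smul_mem_octads (inv_mem hk) fixA_mem
    · exfalso
      obtain ⟨a, ha⟩ : o.Nonempty := by
        rw [← Finset.card_pos, ho.2]; norm_num
      have : π' a ∈ π' • o := Finset.smul_mem_smul_finset ha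
      rw [← hfix', Finset.mem_filter] at this
      exact h1.1 _ this.2
  -- `α` is conjugation by `π'`
  refine ⟨⟨π', hmem⟩, ?_⟩
  ext g : 1
  apply Subtype.ext
  rw [hconj g]
  rfl

end Cfsg.Agent.S2064
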