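import Mathlib
import Cfsg.Statements.S3377
import Cfsg.Agent.Lib.Helper56.CosetEnum

set_option autoImplicit false
open Cfsg
open Cfsg.Agent.Lib.Helper56

namespace Cfsg.Agent.S3377

def a5Tab : Tab where
  k := 2
  N := 60
  tab := [[1, 2], [3, 4], [5, 6], [0, 7], [8, 9], [10, 3], [11, 12], [13, 14], [15, 0], [16, 17], [2, 18], [19, 10], [20, 8], [21, 1], [22, 23], [4, 24], [25, 15], [26, 13], [23, 27], [6, 28], [24, 19], [7, 29], [30, 21], [31, 5], [12, 32], [9, 33], [29, 25], [34, 35], [35, 36], [17, 37], [14, 38], [18, 30], [39, 40], [40, 41], [42, 31], [43, 11], [44, 39], [45, 46], [46, 47], [48, 20], [49, 16], [50, 45], [27, 51], [28, 42], [52, 43], [53, 26], [54, 22], [55, 34], [32, 52], [33, 48], [56, 49], [47, 57], [36, 58], [37, 56], [38, 53], [51, 54], [41, 59], [59, 44], [57, 50], [58, 55]]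
  tabInv := [[3, 8], [0, 13], [10, 0], [1, 5], [15, 1], [2, 23], [19, 2], [21, 3], [4, 12], [25, 4], [5, 11], [6, 35], [24, 6], [7, 17], [30, 7], [8, 16], [9, 40], [29, 9], [31, 10], [11, 20], [12, 39], [13, 22], [14, 46], [18, 14], [20, 15], [16, 26], [17, 45], [42, 18], [43, 19], [26, 21], [22, 31], [23, 34], [48, 24], [49, 25], [27, 47], [28, 27], [52, 28], [53, 29], [54, 30], [32, 36], [33, 32], [56, 33], [34, 43], [35, 44], [36, 57], [37, 41], [38, 37], [51, 38], [39, 49], [40, 50], [41, 58], [55, 42], [44, 48], [45, 54], [46, 55], [47, 59], [50, 53], [58, 51], [59, 52], [57, 56]]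
  words := [[], [(0, false)], [(1, false)], [(0, false), (0, false)], [(0, false), (1, false)], [(1, false), (0, false)], [(1, false), (1, false)], [(0, false), (0, false), (1, false)], [(0, false), (1, false), (0, false)], [(0, false), (1, false), (1, false)], [(1, false), (0, false), (0, false)], [(1, false), (1, false), (0, false)], [(1, false), (1, false), (1, false)], [(0, false), (0, false), (1, false), (0, false)], [(0, false), (0, false), (1, false), (1, false)], [(0, false), (1, false), (0, false), (0, false)], [(0, false), (1, false), (1, false), (0, false)], [(0, false), (1, false), (1, false), (1, false)], [(1, false), (0, false), (0, false), (1, false)], [(1, false), (1, false), (0, false), (0, false)], [(1, false), (1, false), (1, false), (0, false)], [(0, false), (0, false), (1, false), (0, false), (0, false)], [(0, false), (0, false), (1, false), (1, false), (0, false)], [(0, false), (0, false), (1, false), (1, false), (1, false)], [(0, false), (1, false), (0, false), (0, false), (1, false)], [(0, false), (1, false), (1, false), (0, false), (0, false)], [(0, false),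 (1, false), (1, false), (1, false), (0, false)], [(1, false), (0, false), (0, false), (1, false), (1, false)], [(1, false), (1, false), (0, false), (0, false), (1, false)], [(0, false), (0, false), (1, false), (0, false), (0, false), (1, false)], [(0, false), (0, false), (1, false), (1, false), (0, false), (0, false)], [(0, false), (0, false), (1, false), (1, false), (1, false), (0, false)], [(0, false), (1, false), (0, false), (0, false), (1, false), (1, false)], [(0, false), (1, false), (1, false), (0, false), (0, false), (1, false)], [(1, false), (0, false), (0, false), (1, false), (1, false), (0, false)], [(1, false), (0, false), (0, false), (1, false), (1, false), (1, false)], [(1, false), (1, false), (0, false), (0, false), (1, false), (1, false)], [(0, false), (0, false), (1, false), (0, false), (0, false), (1, false), (1, false)], [(0, false), (0, false), (1, false), (1, false), (0, false), (0, false), (1, false)], [(0, false), (1, false), (0, false), (0, false), (1, false), (1, false), (0, false)], [(0, false), (1, false), (0, false), (0, false), (1, false), (1, false),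 (1, false)], [(0, false), (1, false), (1, false), (0, false), (0, false), (1, false), (1, false)], [(1, false), (0, false), (0, false), (1, false), (1, false), (0, false), (0, false)], [(1, false), (0, false), (0, false), (1, false), (1, false), (1, false), (0, false)], [(1, false), (1, false), (0, false), (0, false), (1, false), (1, false), (0, false)], [(0, false), (0, false), (1, false), (0, false), (0, false), (1, false), (1, false), (0, false)], [(0, false), (0, false), (1, false), (0, false), (0, false), (1, false), (1, false), (1, false)], [(0, false), (0, false), (1, false), (1, false), (0, false), (0, false), (1, false), (1, false)], [(0, false), (1, false), (0, false), (0, false), (1, false), (1, false), (0, false), (0, false)], [(0, false), (1, false), (0, false), (0, false), (1, false), (1, false), (1, false), (0, false)], [(0, false), (1, false), (1, false), (0, false), (0, false), (1, false), (1, false), (0, false)], [(1, false), (0, false), (0, false), (1, false), (1, false), (0, false), (0, false), (1, false)], [(1, false), (1, false), (0, false), (0, false), (1,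 false), (1, false), (0, false), (0, false)], [(0, false), (0, false), (1, false), (0, false), (0, false), (1, false), (1, false), (0, false), (0, false)], [(0, false), (0, false), (1, false), (0, false), (0, false), (1, false), (1, false), (1, false), (0, false)], [(0, false), (0, false), (1, false), (1, false), (0, false), (0, false), (1, false), (1, false), (0, false)], [(0, false), (1, false), (1, false), (0, false), (0, false), (1, false), (1, false), (0, false), (0, false)], [(1, false), (0, false), (0, false), (1, false), (1, false), (0, false), (0, false), (1, false), (1, false)], [(1, false), (1, false), (0, false), (0, false), (1, false), (1, false), (0, false), (0, false), (1, false)], [(0, false), (1, false), (1, false), (0, false), (0, false), (1, false), (1, false), (0, false), (0, false), (1, false)]]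

def a5Rels : List Word := [[(0, false), (0, false), (0, false)], [(1, false), (1, false), (1, false), (1, false), (1, false)], [(0, false), (1, false), (0, false), (1, false)]]

def a5Tree : List (ℕ × ℕ × Letter) := [(1, 0, (0, false)), (2, 0, (1, false)), (3, 1, (0, false)), (4, 1, (1, false)), (5, 2, (0, false)), (6, 2, (1, false)), (7, 3, (1, false)), (8, 4, (0, false)), (9, 4, (1, false)), (10, 5, (0, false)), (11, 6, (0, false)), (12, 6, (1, false)), (13, 7, (0, false)), (14, 7, (1, false)), (15, 8, (0, false)), (16, 9, (0, false)), (17, 9, (1, false)), (18, 10, (1, false)), (19, 11, (0, false)), (20, 12, (0, false)), (21, 13, (0, false)), (22, 14, (0, false)), (23, 14, (1, false)), (24, 15, (1, false)), (25, 16, (0, false)), (26, 17, (0, false)), (27, 18, (1, false)), (28, 19, (1, false)), (29, 21, (1, false)), (30, 22, (0, false)), (31, 23, (0, false)), (32, 24, (1, false)), (33, 25, (1, false)), (34, 27, (0, false)), (35, 27, (1, false)), (36, 28, (1, false)), (37, 29, (1, false)), (38, 30, (1, false)), (39, 32, (0, false)), (40, 32, (1, false)), (41, 33, (1, false)), (42,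 34, (0, false)), (43, 35, (0, false)), (44, 36, (0, false)), (45, 37, (0, false)), (46, 37, (1, false)), (47, 38, (1, false)), (48, 39, (0, false)), (49, 40, (0, false)), (50, 41, (0, false)), (51, 42, (1, false)), (52, 44, (0, false)), (53, 45, (0, false)), (54, 46, (0, false)), (55, 47, (0, false)), (56, 50, (0, false)), (57, 51, (1, false)), (58, 52, (1, false)), (59, 56, (1, false))]

def a5Steps : List (ℕ × ℕ × ℕ) := [(0, 0, 0), (0, 2, 0), (1, 2, 0), (2, 0, 0), (3, 2, 0), (4, 0, 0), (5, 1, 0), (6, 0, 0), (7, 0, 0), (8, 1, 0), (9, 0, 0), (10, 2, 0), (11, 1, 0), (12, 2, 1), (13, 1, 0), (14, 0, 0), (15, 2, 0), (16, 1, 0), (17, 2, 1), (19, 2, 0), (21, 2, 0), (22, 1, 0), (23, 2, 1), (24, 0, 0), (25, 2, 0), (27, 0, 0), (29, 0, 0), (30, 2, 0), (32, 0, 0), (35, 2, 1), (36, 0, 0), (37, 0, 0), (40, 2, 1), (41, 0, 0), (42, 2, 0), (46, 2, 1), (48, 2, 0), (53, 2, 0), (18, 0, 0), (20, 2, 0), (26, 2, 0), (28, 0, 0), (31, 2, 0), (33, 0, 0), (34, 1, 0), (38, 0, 0), (39, 1, 0), (43, 2, 0), (44, 1, 0), (45, 1, 0), (47, 2, 1), (49, 2, 0), (51, 0, 0), (52, 2, 0), (54, 2, 0), (56, 2, 0), (57, 2,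 1), (50, 1, 0), (55, 1, 0), (58, 2, 1), (59, 0, 0)]

theorem a5_check : fullCheck a5Tab a5Rels a5Tree a5Steps = true := by decide +kernel

/-- The relators. -/
abbrev rels : Set (FreeGroup (Fin 2)) :=
  {FreeGroup.of (0 : Fin 2) ^ 3, FreeGroup.of (1 : Fin 2) ^ 5, (FreeGroup.of (0 : Fin 2) * FreeGroup.of 1) ^ 2}

/-- The generators of the presented group, indexed by naturals. -/
def gens : ℕ → PresentedGroup rels := fun g => if g = 0 then PresentedGroup.of 0 else PresentedGroup.of 1

/-- A 3-cycle. -/
def σ : alternatingGroup (Fin 5) :=
  ⟨Equiv.swap 0 1 * Equiv.swap 1 2, by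
    rw [Equiv.Perm.mem_alternatingGroup]; decide⟩

/-- A 5-cycle. -/
def τ : alternatingGroup (Fin 5) :=
  ⟨Equiv.swap 0 2 * Equiv.swap 2 4 * Equiv.swap 4 1 * Equiv.swap 1 3, by
    rw [Equiv.Perm.mem_alternatingGroup]; decide⟩

theorem σ_pow : σ ^ 3 = 1 := by decide
theorem τ_pow : τ ^ 5 = 1 := by decide
theorem στ_pow : (σ * τ) ^ 2 = 1 := by decide

/-- The homomorphism onto the alternating group. -/
def φ : PresentedGroup rels →* alternatingGroup (Fin 5) :=
  PresentedGroup.toGroup (f := ![σ, τ]) (by
    intro r hr
    rcases hr with rfl | rfl | rfl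
    · simpa using σ_pow
    · simpa using τ_pow
    · simpa using στ_pow)

theorem φ_of0 : φ (PresentedGroup.of 0) = σ := by
  unfold φ
  rw [PresentedGroup.toGroup.of]
  rfl

theorem φ_of1 : φ (PresentedGroup.of 1) = τ := by
  unfold φ
  rw [PresentedGroup.toGroup.of]
  rfl

theorem card_A5 : Nat.card (alternatingGroup (Fin 5)) = 60 := by
  rw [nat_card_alternatingGroup, Nat.card_eq_fintype_card, Fintype.card_fin]
  decide

theorem φ_surjective : Function.Surjective φ := by
  rw [← MonoidHom.range_eq_top]
  have hσ : σ ∈ φ.range := ⟨_, φ_of0⟩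
  have hτ : τ ∈ φ.range := ⟨_, φ_of1⟩
  have hστ : σ * τ ∈ φ.range := φ.range.mul_mem hσ hτ
  have : Fact (Nat.Prime 5) := ⟨by norm_num⟩
  have o3 : orderOf σ = 3 := orderOf_eq_prime σ_pow (by decide)
  have o5 : orderOf τ = 5 := orderOf_eq_prime τ_pow (by decide)
  have o2 : orderOf (σ * τ) = 2 := orderOf_eq_prime στ_pow (by decide)
  have d3 : 3 ∣ Nat.card φ.range := by
    have h := Subgroup.orderOf_dvd_natCard _ hσ
    rwa [o3] at h
  have d5 : 5 ∣ Nat.card φ.range := by
    have h := Subgroup.orderOf_dvd_natCard _ hτ
    rwa [o5] at h
  have d2 : 2 ∣ Nat.card φ.range := by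
    have h := Subgroup.orderOf_dvd_natCard _ hστ
    rwa [o2] at h
  have d60 : Nat.card φ.range ∣ 60 := by rw [← card_A5]; exact Subgroup.card_subgroup_dvd_card φ.range
  have hc : Nat.card φ.range = 30 ∨ Nat.card φ.range = 60 := by
    have hpos : 0 < Nat.card φ.range := Nat.card_pos
    have hle : Nat.card φ.range ≤ 60 := Nat.le_of_dvd (by norm_num) d60
    obtain ⟨a, ha⟩ := d60
    obtain ⟨b, hb⟩ := d2
    obtain ⟨c, hc⟩ := d3
    obtain ⟨d, hd⟩ := d5
    omega
  rcases hc with hc | hc
  · exfalso
    have hidx : φ.range.index = 2 := by
      have := Subgroup.card_mul_index φ.range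
      rw [hc, card_A5] at this
      omega
    have hn : φ.range.Normal := Subgroup.normal_of_index_eq_two hidx
    rcases hn.eq_bot_or_eq_top with h | h
    · rw [h] at hc
      simp at hc
    · rw [h] at hidx
      simp at hidx
  · exact Subgroup.eq_top_of_card_eq _ (by rw [hc, card_A5])

theorem hgen : Subgroup.closure (gens '' {g | g < a5Tab.k}) = ⊤ := by
  rw [eq_top_iff, ← PresentedGroup.closure_range_of]
  apply Subgroup.closure_mono
  rintro _ ⟨i, rfl⟩
  fin_cases i
  · exact ⟨0, by decide, rfl⟩
  · exact ⟨1, by decide, rfl⟩

theorem hrels : ∀ w ∈ a5Rels, evalWord gens w = 1 := by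
  intro w hw
  have h1 : (PresentedGroup.of 0 : PresentedGroup rels) ^ 3 = 1 := by
    have : PresentedGroup.mk rels (FreeGroup.of (0 : Fin 2) ^ 3) = 1 :=
      PresentedGroup.one_of_mem (by simp [rels])
    simpa [PresentedGroup.of] using this
  have h2 : (PresentedGroup.of 1 : PresentedGroup rels) ^ 5 = 1 := by
    have : PresentedGroup.mk rels (FreeGroup.of (1 : Fin 2) ^ 5) = 1 :=
      PresentedGroup.one_of_mem (by simp [rels])
    simpa [PresentedGroup.of] using this
  have h3 : ((PresentedGroup.of 0 : PresentedGroup rels) * PresentedGroup.of 1) ^ 2 = 1 := by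
    have : PresentedGroup.mk rels ((FreeGroup.of (0 : Fin 2) * FreeGroup.of 1) ^ 2) = 1 :=
      PresentedGroup.one_of_mem (by simp [rels])
    simpa [PresentedGroup.of] using this
  simp only [a5Rels, List.mem_cons, List.not_mem_nil, or_false] at hw
  rcases hw with rfl | rfl | rfl
  · simp only [evalWord, ev, gens, List.map_cons, List.map_nil, List.prod_cons, List.prod_nil]
    simp only [if_true, Bool.false_eq_true, if_false, mul_one]
    rw [← h1, pow_succ, pow_succ, pow_one, mul_assoc]
  · simp only [evalWord, ev, gens, List.map_cons, List.map_nil, List.prod_cons, List.prod_nil]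
    simp only [one_ne_zero, if_false, Bool.false_eq_true, mul_one]
    rw [← h2]
    simp only [pow_succ, pow_zero, one_mul, mul_assoc]
  · simp only [evalWord, ev, gens, List.map_cons, List.map_nil, List.prod_cons, List.prod_nil]
    simp only [if_true, one_ne_zero, if_false, Bool.false_eq_true, mul_one]
    rw [← h3]
    simp only [pow_succ, pow_zero, one_mul, mul_assoc]

/-- The alternating group of degree 5 has the presentation ⟨x, y | x³ = 1, y⁵ = 1, (xy)² = 1⟩: the group so presented is isomorphic to Alt(5). -/
theorem result :
    Nonempty (PresentedGroup ({FreeGroup.of (0 : Fin 2) ^ 3, FreeGroup.of (1 : Fin 2) ^ 5,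
        (FreeGroup.of (0 : Fin 2) * FreeGroup.of 1) ^ 2} : Set (FreeGroup (Fin 2))) ≃* alternatingGroup (Fin 5)) := by
  obtain ⟨hfin, hcard⟩ := finite_and_card_le_of_check gens a5Tab a5Rels a5Tree a5Steps hgen hrels a5_check
  have hle : Nat.card (PresentedGroup rels) ≤ Nat.card (alternatingGroup (Fin 5)) := by
    rw [card_A5]; exact hcard
  exact ⟨MulEquiv.ofBijective φ (φ_surjective.bijective_of_nat_card_le hle)⟩

end Cfsg.Agent.S3377
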