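import Cfsg.Statements.S2131
import Mathlib
import Cfsg.Agent.Lib.Helper35.J1Card
import Cfsg.Agent.S3377

set_option autoImplicit false
open Cfsg

namespace Cfsg.Agent.S2131

open Cfsg.Agent.Lib.Helper60.J1 Cfsg.Agent.Lib.Helper35 Cfsg.Spor

/-- an element of order 3 of the centraliser, as a packed matrix -/
def cxP : ℕ := (mulP (mulP (mulP (mulP (mulP (mulP (mulP (mulP (mulP (mulP (mulP (mulP (mulP (mulP Yp Xp) Yp) Xp) Yp) Yp) Yp) Xp) Xp) Yp) Yp) Yp) Xp) Yp) Xp)
/-- an element of order 3 of the centraliser -/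
def cx : GLm := jankoY * jankoX * jankoY * jankoX * jankoY * jankoY * jankoY * jankoX * jankoX * jankoY * jankoY * jankoY * jankoX * jankoY * jankoX
theorem cx_mem : cx ∈ J1 := (Subgroup.mul_mem _ (Subgroup.mul_mem _ (Subgroup.mul_mem _ (Subgroup.mul_mem _ (Subgroup.mul_mem _ (Subgroup.mul_mem _ (Subgroup.mul_mem _ (Subgroup.mul_mem _ (Subgroup.mul_mem _ (Subgroup.mul_mem _ (Subgroup.mul_mem _ (Subgroup.mul_mem _ (Subgroup.mul_mem _ (Subgroup.mul_mem _ jY_mem jX_mem) jY_mem) jX_mem) jY_mem) jY_mem) jY_mem) jX_mem) jX_mem) jY_mem) jY_mem) jY_mem) jX_mem) jY_mem) jX_mem)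
/-- an element of order 5 of the centraliser, as a packed matrix -/
def cyP : ℕ := (mulP (mulP (mulP (mulP (mulP (mulP (mulP (mulP (mulP (mulP (mulP (mulP (mulP (mulP (mulP Xp Xp) Xp) Yp) Xp) Yp) Yp) Xp) Yp) Xp) Yp) Yp) Xp) Xp) Xp) Yp)
/-- an element of order 5 of the centraliser -/
def cy : GLm := jankoX * jankoX * jankoX * jankoY * jankoX * jankoY * jankoY * jankoX * jankoY * jankoX * jankoY * jankoY * jankoX * jankoX * jankoX * jankoY
theorem cy_mem : cy ∈ J1 := (Subgroup.mul_mem _ (Subgroup.mul_mem _ (Subgroup.mul_mem _ (Subgroup.mul_mem _ (Subgroup.mul_mem _ (Subgroup.mul_mem _ (Subgroup.mul_mem _ (Subgroup.mul_mem _ (Subgroup.mul_mem _ (Subgroup.mul_mem _ (Subgroup.mul_mem _ (Subgroup.mul_mem _ (Subgroup.mul_mem _ (Subgroup.mul_mem _ (Subgroup.mul_mem _ jX_mem jX_mem) jX_mem) jY_mem) jX_mem) jY_mem) jY_mem) jX_mem) jY_mem) jX_mem) jY_mem) jY_mem) jX_mem) jX_mem) jX_mem) jY_mem)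

theorem cx_val : (cx : Mat) = toMat cxP := by
  simp only [cx, cxP, Units.val_mul, jankoX_val, jankoY_val, toMat_mulP]

theorem cy_val : (cy : Mat) = toMat cyP := by
  simp only [cy, cyP, Units.val_mul, jankoX_val, jankoY_val, toMat_mulP]

theorem cxy_val : ((cx * cy : GLm) : Mat) = toMat (mulP cxP cyP) := by
  rw [Units.val_mul, cx_val, cy_val, toMat_mulP]

theorem cx_pow : cx ^ 3 = 1 :=
  pow_eq_one_of cx cxP cx_val 3 (pw3 cxP) (toMat_pw3 cxP) (by decide +kernel)

theorem cy_pow : cy ^ 5 = 1 :=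
  pow_eq_one_of cy cyP cy_val 5 (pw5 cyP) (toMat_pw5 cyP) (by decide +kernel)

theorem cxy_pow : (cx * cy) ^ 2 = 1 :=
  pow_eq_one_of (cx * cy) (mulP cxP cyP) cxy_val 2 (pw2 (mulP cxP cyP)) (toMat_pw2 _)
    (by decide +kernel)

theorem cx_ne : cx ≠ 1 := by
  have h := pow_ne_one_of cx cxP cx_val 1 (pw1 cxP) (toMat_pw1 cxP) (by decide +kernel)
  rwa [pow_one] at h

theorem cxA : mulP jA cxP = mulP cxP jA := by decide +kernel
theorem cyA : mulP jA cyP = mulP cyP jA := by decide +kernel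

theorem cx_comm : j1a * cx = cx * j1a := by
  apply Units.ext
  rw [Units.val_mul, Units.val_mul, j1a_val, cx_val, ← toMat_mulP, ← toMat_mulP, cxA]

theorem cy_comm : j1a * cy = cy * j1a := by
  apply Units.ext
  rw [Units.val_mul, Units.val_mul, j1a_val, cy_val, ← toMat_mulP, ← toMat_mulP, cyA]

/-- the involution -/
def tt : ↥J1 := ⟨j1a, j1a_mem⟩

theorem tt_sq : tt ^ 2 = 1 := by
  rw [pow_two]; exact j1s_aa

theorem tt_order : orderOf tt = 2 := by
  have : Fact (Nat.Prime 2) := ⟨Nat.prime_two⟩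
  exact orderOf_eq_prime tt_sq j1s_ne

/-- the centraliser -/
abbrev CC : Subgroup ↥J1 := Subgroup.centralizer ({tt} : Set ↥J1)

theorem mem_CC (g : ↥J1) : g ∈ CC ↔ tt * g = g * tt := by
  rw [Subgroup.mem_centralizer_iff]
  constructor
  · intro h; exact h tt rfl
  · intro h x hx
    rw [Set.mem_singleton_iff.mp hx]; exact h

theorem tt_mem : tt ∈ CC := (mem_CC tt).mpr rfl

theorem sx_mem : (⟨cx, cx_mem⟩ : ↥J1) ∈ CC := (mem_CC _).mpr (Subtype.ext cx_comm)
theorem sy_mem : (⟨cy, cy_mem⟩ : ↥J1) ∈ CC := (mem_CC _).mpr (Subtype.ext cy_comm)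

/-- the generators inside the centraliser -/
def ux : ↥CC := ⟨⟨cx, cx_mem⟩, sx_mem⟩
def uy : ↥CC := ⟨⟨cy, cy_mem⟩, sy_mem⟩
def ut : ↥CC := ⟨tt, tt_mem⟩

theorem ux_pow : ux ^ 3 = 1 := Subtype.ext (Subtype.ext cx_pow)
theorem uy_pow : uy ^ 5 = 1 := Subtype.ext (Subtype.ext cy_pow)
theorem uxy_pow : (ux * uy) ^ 2 = 1 := Subtype.ext (Subtype.ext cxy_pow)
theorem ux_ne : ux ≠ 1 := fun h => cx_ne (congrArg (fun z : ↥CC => ((z : ↥J1) : GLm)) h)

theorem ut_central (g : ↥CC) : ut * g = g * ut := Subtype.ext ((mem_CC g.1).mp g.2)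

theorem ut_order : orderOf ut = 2 := by
  rw [← tt_order, ← Subgroup.orderOf_coe]
  rfl

/-- no prime `7, 11, 19` divides the order of the centraliser -/
theorem not_dvd_card (p : ℕ) (hp : p.Prime) (hp2 : p ≠ 2)
    (hl : 2 * p ∉ [1, 2, 3, 5, 6, 7, 10, 11, 15, 19]) : ¬ p ∣ Nat.card ↥CC := by
  intro hd
  have : Fact p.Prime := ⟨hp⟩
  obtain ⟨g, hg⟩ := exists_prime_orderOf_dvd_card' p hd
  have hc : Commute ut g := ut_central g
  have hco : (orderOf ut).Coprime (orderOf g) := by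
    rw [ut_order, hg]
    exact (Nat.coprime_primes Nat.prime_two hp).mpr (Ne.symm hp2)
  have h1 := hc.orderOf_mul_eq_mul_orderOf_of_coprime hco
  rw [ut_order, hg] at h1
  have h2 := J1_orderOf_mem ((ut * g : ↥CC) : ↥J1)
  rw [Subgroup.orderOf_coe, h1] at h2
  exact hl h2

theorem card_CC_dvd : Nat.card ↥CC ∣ 120 := by
  have h1 : Nat.card ↥CC ∣ 120 * 1463 := by
    have := Subgroup.card_subgroup_dvd_card CC
    rw [card_J1] at this
    exact this
  have h7 := not_dvd_card 7 (by norm_num) (by norm_num) (by decide)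
  have h11 := not_dvd_card 11 (by norm_num) (by norm_num) (by decide)
  have h19 := not_dvd_card 19 (by norm_num) (by norm_num) (by decide)
  have c7 : Nat.Coprime (Nat.card ↥CC) 7 :=
    (Nat.Coprime.symm ((Nat.Prime.coprime_iff_not_dvd (by norm_num)).mpr h7))
  have c11 : Nat.Coprime (Nat.card ↥CC) 11 :=
    (Nat.Coprime.symm ((Nat.Prime.coprime_iff_not_dvd (by norm_num)).mpr h11))
  have c19 : Nat.Coprime (Nat.card ↥CC) 19 :=
    (Nat.Coprime.symm ((Nat.Prime.coprime_iff_not_dvd (by norm_num)).mpr h19))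
  have c : Nat.Coprime (Nat.card ↥CC) 1463 := by
    have : (1463 : ℕ) = 7 * 11 * 19 := by norm_num
    rw [this]
    exact Nat.Coprime.mul_right (Nat.Coprime.mul_right c7 c11) c19
  exact c.dvd_of_dvd_mul_right h1

theorem card_A5 : Nat.card ↥(alternatingGroup (Fin 5)) = 60 := by
  rw [nat_card_alternatingGroup, Nat.card_eq_fintype_card, Fintype.card_fin]
  rfl

/-- The Janko group J₁ (the group generated by two explicit 7 × 7 matrices over the integers modulo 11) has an involution whose centraliser is isomorphic to the direct product of a group of order 2 with the alternating group of degree 5. -/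
theorem result : ∃ t : ↥Cfsg.Spor.J1, orderOf t = 2 ∧ Nonempty (↥(Subgroup.centralizer ({t} : Set ↥Cfsg.Spor.J1)) ≃* Multiplicative (ZMod 2) × ↥(alternatingGroup (Fin 5))) := by
  refine ⟨tt, tt_order, ?_⟩
  obtain ⟨e⟩ := Cfsg.Agent.S3377.result
  -- the homomorphism from the presented group
  have hrel : ∀ r ∈ ({FreeGroup.of (0 : Fin 2) ^ 3, FreeGroup.of (1 : Fin 2) ^ 5,
      (FreeGroup.of (0 : Fin 2) * FreeGroup.of 1) ^ 2} : Set (FreeGroup (Fin 2))),
      FreeGroup.lift (![ux, uy] : Fin 2 → ↥CC) r = 1 := by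
    intro r hr
    rcases hr with h | h | h
    · rw [h, map_pow, FreeGroup.lift_apply_of]; exact ux_pow
    · rw [h, map_pow, FreeGroup.lift_apply_of]; exact uy_pow
    · rw [Set.mem_singleton_iff.mp h, map_pow, map_mul, FreeGroup.lift_apply_of,
        FreeGroup.lift_apply_of]
      exact uxy_pow
  let φ := PresentedGroup.toGroup hrel
  let ψ : ↥(alternatingGroup (Fin 5)) →* ↥CC := φ.comp e.symm.toMonoidHom
  have hψ0 : ψ (e (PresentedGroup.of 0)) = ux := by
    change φ (e.symm (e (PresentedGroup.of 0))) = ux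
    rw [MulEquiv.symm_apply_apply]
    exact PresentedGroup.toGroup.of hrel
  have hψinj : Function.Injective ψ := by
    rw [← MonoidHom.ker_eq_bot_iff]
    rcases (MonoidHom.normal_ker ψ).eq_bot_or_eq_top with h | h
    · exact h
    · exfalso
      have : e (PresentedGroup.of 0) ∈ ψ.ker := by rw [h]; trivial
      rw [MonoidHom.mem_ker, hψ0] at this
      exact ux_ne this
  -- the cyclic group of order 2
  have : Fact (Nat.Prime 2) := ⟨Nat.prime_two⟩
  have hcZ : Nat.card ↥(Subgroup.zpowers ut) = 2 := by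
    rw [Nat.card_zpowers, ut_order]
  have hc2 : Nat.card (Multiplicative (ZMod 2)) = 2 := by
    rw [Nat.card_eq_fintype_card, Fintype.card_multiplicative, ZMod.card]
  let e₁ : Multiplicative (ZMod 2) ≃* ↥(Subgroup.zpowers ut) := mulEquivOfPrimeCardEq hc2 hcZ
  let f : Multiplicative (ZMod 2) →* ↥CC := (Subgroup.zpowers ut).subtype.comp e₁.toMonoidHom
  have hfinj : Function.Injective f := by
    intro a b hab
    exact e₁.injective (Subtype.ext hab)
  have hfc : ∀ (z : Multiplicative (ZMod 2)) (g : ↥CC), f z * g = g * f z := by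
    intro z g
    have hz : f z ∈ Subgroup.zpowers ut := (e₁ z).2
    obtain ⟨k, hk⟩ := Subgroup.mem_zpowers_iff.mp hz
    rw [← hk]
    have hc : Commute ut g := ut_central g
    exact (hc.zpow_left k)
  let Ψ : Multiplicative (ZMod 2) × ↥(alternatingGroup (Fin 5)) →* ↥CC :=
    MonoidHom.noncommCoprod f ψ (fun z a => hfc z (ψ a))
  have hΨ : ∀ z a, Ψ (z, a) = f z * ψ a := fun z a => MonoidHom.noncommCoprod_apply _ _ _ _
  have hΨinj : Function.Injective Ψ := by
    rw [← MonoidHom.ker_eq_bot_iff, eq_bot_iff]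
    rintro ⟨z, a⟩ hza
    rw [MonoidHom.mem_ker, hΨ] at hza
    have h1 : ψ a = (f z)⁻¹ := (inv_eq_of_mul_eq_one_right hza).symm
    have ha : a ∈ Subgroup.center ↥(alternatingGroup (Fin 5)) := by
      rw [Subgroup.mem_center_iff]
      intro b
      apply hψinj
      rw [map_mul, map_mul, h1, ← map_inv]
      exact (hfc z⁻¹ (ψ b)).symm
    rw [alternatingGroup.center_eq_bot (by rw [Nat.card_eq_fintype_card, Fintype.card_fin]; norm_num), Subgroup.mem_bot] at ha
    rw [ha, map_one] at h1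
    have hz : f z = 1 := by rw [← inv_inv (f z), ← h1, inv_one]
    have hz1 : z = 1 := hfinj (by rw [hz, map_one])
    rw [Subgroup.mem_bot, ha, hz1]
    rfl
  have hcard : Nat.card ↥CC ≤ Nat.card (Multiplicative (ZMod 2) × ↥(alternatingGroup (Fin 5))) := by
    rw [Nat.card_prod, hc2, card_A5]
    exact Nat.le_of_dvd (by norm_num) card_CC_dvd
  have hbij : Function.Bijective Ψ := hΨinj.bijective_of_nat_card_le hcard
  exact ⟨(MulEquiv.ofBijective Ψ hbij).symm⟩

end Cfsg.Agent.S2131
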