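import Cfsg.Statements.S2065
import Mathlib
import Cfsg.Agent.Lib.Helper35.J1Card
import Cfsg.Agent.Lib.Helper35.SimpleAux
import Cfsg.Agent.S2131
import Cfsg.Agent.S0457

set_option autoImplicit false
open Cfsg

namespace Cfsg.Agent.S2065

open Cfsg.Agent.Lib.Helper60.J1 Cfsg.Agent.Lib.Helper35 Cfsg.Spor Cfsg.Agent.S2131

/-! ### packed matrices: products are normalised -/

theorem ent_lt11 (x y i j : ℕ) : ent x y i j < 11 := Nat.mod_lt _ (by norm_num)

theorem ent_eq_of_toMat (x y x' y' : ℕ) (h : toMat (mulP x y) = toMat (mulP x' y')) (i j : ℕ)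
    (hi : i < 7) (hj : j < 7) : ent x y i j = ent x' y' i j := by
  have h1 := congrFun (congrFun h ⟨i, hi⟩) ⟨j, hj⟩
  simp only [toMat, Matrix.of_apply] at h1
  rw [dg_mulP x y i j hi hj, dg_mulP x' y' i j hi hj] at h1
  have h2 := (ZMod.natCast_eq_natCast_iff' _ _ _).mp h1
  rw [Nat.mod_eq_of_lt (ent_lt11 _ _ _ _), Nat.mod_eq_of_lt (ent_lt11 _ _ _ _)] at h2
  exact h2

theorem mulP_inj (x y x' y' : ℕ) (h : toMat (mulP x y) = toMat (mulP x' y')) :
    mulP x y = mulP x' y' := by
  have e := ent_eq_of_toMat x y x' y' h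
  have r : ∀ i < 7, row x y i = row x' y' i := by
    intro i hi
    unfold row
    rw [e i 0 hi (by norm_num), e i 1 hi (by norm_num), e i 2 hi (by norm_num),
      e i 3 hi (by norm_num), e i 4 hi (by norm_num), e i 5 hi (by norm_num),
      e i 6 hi (by norm_num)]
  unfold mulP
  rw [r 0 (by norm_num), r 1 (by norm_num), r 2 (by norm_num), r 3 (by norm_num),
    r 4 (by norm_num), r 5 (by norm_num), r 6 (by norm_num)]

theorem oneP_sq : mulP oneP oneP = oneP := by decide +kernel

theorem eq_oneP_of_toMat {x y : ℕ} (h : toMat (mulP x y) = 1) : mulP x y = oneP := by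
  have h1 : toMat (mulP x y) = toMat (mulP oneP oneP) := by rw [h, oneP_sq, toMat_oneP]
  rw [mulP_inj _ _ _ _ h1, oneP_sq]

/-! ### the centraliser of the involution: a table of its 120 elements -/

def LT : ℕ := 0x20300180504900303001904096000906700101003a80900a390800a3050490080800a204096000906700a0a008130200182080013050720080300a90709600020670010a00313090013a00000001000000010000000a0000000a0000000a0000000130800a90906400802001306079000409500a010031903001310000000a00000001000000010000000a0000000a0000000a20300a3050790030300a207095000905700a0a003a30200a33080012090540080200a80507200040250010a0031208001390300a80507200308001207096000206700a01008a80200a81000000010000000a0000000a0000000a000000010000000a8030012090640030900a80607900040950010a008a20800a8a0000000a0000000a000000010000000a0000000100000001908001805079008080019070950009057001010081809001880300a90905400309001305072000402500a01008a90300a830900a8070260020800a809064000504200a01003130800a990300130607900803001207026000205700a01003130900a890800a306072003030019070250009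06700101003a302001880900180402600908001809057000604200a0a003a30300a200a00000000100000000a0100000000100000000a0a0000009080018060420030300a204026000905700a0a003a809001880300a9020670080200a80604900040250010a003190300a880300120205700802001305042000409500a01003120800a88020013070260090300130906400050420010a008a803001220800a8060790030800a90702600020570010a008a80200132030018060720080800a207025000906700a0a008180900a330200a3040260020300a30905700060420010100818080019001000000001000000001010000000010000000010100000020300a30604200808001904026000905700101008130200a330800120206700309001306049000402500a01008a208001330800a9020570030900a80504200040950010a008a903001390300a8060490080300a90402500020670010a003180200a88080019020640030200a306042000709500a0a003a908001880800a20205400302001805049000702500101003a203001830200a30709500908001802064000604200a0a003a808001900100000000a00000000a0a00000000100000000a010000008020013040950020800a802057000504200a010031803001280900a3040960090800a302054000607200101003a80800a2000000a0001000a00000000001000100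00000000a000a000020800130604900308001204025000206700a01008a309001330300a20206400809001806042000709500101008120300a33030019020540080900a305049000702500a0a008190800a38090018070950020300a302064000604200101008130300a200a00000000a0000000010a0000000010000000010a00000030900a8040950090300130205700050420010a008a30800a930200180409600203001802054000607200a0a00813030019000000100010001000000000010001000000000010001000030300a2090570030200a305079000709500a0a003a20300a330300190906700302001806072000702500101003a90800a320800a80504200803001204095000205700a01003180200133090013070960090300a80905400060490010a0031308001230200180702500203001802054000504900101003a80800a23090013070960020800130206700050720010a003180300a900a0000000010000000010a00000000a00000000a0100000080800190206400809001805079000402600a0a003a20300a3808001909057008090018050790007095001010081908001880800a2090670080900a306072000702500a0a008120300189030013050420030800a90409500020570010a008a30900a880200a80709600208001309054000604900a01008a80300a980900a3070250090800a30205400050490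0a0a0081303001980200a8070960090300a802067000507200a01008a308001200100000000100000000a0a00000000a0000000010a00000030300a2020640030200a305079000402600101008190800180000001000a000100000000001000a0000000000a000a000080200a8040250020800130905400050720010a003130800120000001000a000a0000000000a00010000000000a0001000080800a2020540080900a306072000409600101003a90800a320300a30507900808001904026000206400a0a003a809001800100000000a0000000010100000000a00000000a0a0000003020018070250090800a309067000607200101003a303001930900a80702600903001302057000607900a0100318030012000000a000a000a00000000001000a00000000001000100003090013040250090300a809054000507200a01008a80300a9000000a000a00010000000000a000100000000001000a000030300190205400302001806072000409600a0a008120300189080018050790030300a204026000206400101008130200a300a00000000a00000000a0100000000a0000000010100000080900a30702500203001809067000607200a0a008180800a28020013070260020800a80205700060790010a008a30800a980900a30409600203001809067000504900101003a3030019308001209054003090013060490007096001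0a003190300a88090018040260020300a302064000507900a0a003a80800193030019090670080900a305049000409600101003a203001880200a8040250090300a80206700060490010a003180300a99030013060790030800a904095000906400a010031802001380200130409500903001309064000607900a01003130800a930300a20905700809001806042000402600a0a003a90800183020018040960090800a309067000504900a0a008180800a280300a9090540080200a806049000709600a01008a208001330200a30402600908001802064000507900101008130300a280800a20906700302001805049000409600a0a008190800a330900130402500208001302067000604900a01008a308001220800a8060790080300120409500090640010a008a30900a830900a8040950020800a80906400060790010a008a80300128080019090570030200a306042000402600101008120300a380300a9020670030900130507200070960010a00312080013000000a000100010000000000a000a0000000000a0001000030800a9090640030900a805042000702600a01003120800a820800a8050420030800a907026000906400a01003130900a890800180604200808001907095000206400a0a003a30200a390300a8060490030800120709600090540010a003130900133080012020670080200a805072000709600a01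008a90300a800000010001000a0000000000a000a00000000001000a00008030012090640080200130504200070260010a008a90300139030013050420080300120702600090640010a008a802001320300a3060420030300a207095000206400101008180900182080013060490080300a907096000905400a01008a80200a88030012020570030900a806079000702600a010031903001330200a3070950020300a309057000507900a0a003a30300a210000000a0000000a0000000a000000010000000a000000012030018050490080800a207025000205400101003a302001830800a9020570080200130607900070260010a008a20800a88090018070950090800180905700050790010100818080019a0000000a000000010000000a00000001000000010000000a90800a30504900303001907025000205400a0a008180900a390800a3060720080800a204096000205400101003a80900a32080013050720030800120402500090540010a003180200a820300180607200303001904096000205400a0a0081302001890300a8050720080300a904025000905400a01008a3090013a000000010000000a00000001000000010000000a0000000a1000000010000000100000001000000010000000100000001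
def TA : ℕ := 0xeddf7eedbb35eaebd39f2e3c30e0bf7aedcb76b4e8cf9b2e4c78a8d09f3a6cc972acd8af5aad4a74a0c07ef9ebc76ea4c88f1a2c487098b05eb96ac56a9cb86ed9ab466c90a03e78e9c36694a84e992a44688992224078e3260b962a504880e1868c16281820a10001
def TX : ℕ := 0xebbfa77ada29d2ddda760972a4e4e71a2f2e3c20dcdaf9eecd7ab4b9719f365c78b0b1617ef5db76acd8af56a27469a8d09f3661f367a4478458cc4865203f74409bc7639a8d68ddb0b66c968958bd70756a94a80a95222428019d3868c172a049111e0060a1018202
def TY : ℕ := 0xe5b33d9efc7873bf47b6bd5b7af4cd974c766df7eebd770bf56bec57d1892a9c98e84fc168ea1b96ea18895aac3a74a612793a6bb972a4c86d1a28c650a0c05cf9e8854e9439708923568110316068e2d5808a974e980a31e44f9e006cc8a2c50986203868b121c283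
def cxL : ℕ := 0x90300a8050720080300a904025000905400a01008a3090013
def cyL : ℕ := 0x20300180607200303001904096000205400a0a00813020018

def getL (j : ℕ) : ℕ := tget LT 196 M196 j
def tbA (j : ℕ) : ℕ := tget TA 7 127 j
def tbX (j : ℕ) : ℕ := tget TX 7 127 j
def tbY (j : ℕ) : ℕ := tget TY 7 127 j

def chkL (j : ℕ) : Bool :=
  Nat.beq (mulP jA (getL j)) (getL (tbA j)) && Nat.blt (tbA j) 120 &&
  Nat.beq (mulP cxL (getL j)) (getL (tbX j)) && Nat.blt (tbX j) 120 &&
  Nat.beq (mulP cyL (getL j)) (getL (tbY j)) && Nat.blt (tbY j) 120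

theorem chkL_all : ∀ j < 120, chkL j = true := allBelow_spec _ _ (by decide +kernel)
theorem getL_zero : getL 0 = oneP := by decide +kernel
theorem cxP_eq : cxP = cxL := by decide +kernel
theorem cyP_eq : cyP = cyL := by decide +kernel
theorem getL_three : getL 3 = cyL := by decide +kernel

/-- the two relations which single out `cy` inside the centraliser -/
def tstR (g : ℕ) : Bool :=
  Nat.beq (pw3 (mulP g jB)) oneP && Nat.beq (pw5 (mulP (mulP g Xp) jB)) oneP

def chkR (j : ℕ) : Bool := Nat.beq j 3 || !(tstR (getL j))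

theorem chkR_all : ∀ j < 120, chkR j = true := allBelow_spec _ _ (by decide +kernel)

theorem cl_sub : ∀ g ∈ Subgroup.closure ({j1a, cx, cy} : Set GLm),
    ∃ j < 120, (g : Mat) = toMat (getL j) := by
  apply closure_left_ind
  · exact ⟨0, by norm_num, by rw [getL_zero, toMat_oneP]; rfl⟩
  · rintro x hx y ⟨j, hj, hy⟩
    have h := chkL_all j hj
    simp only [chkL, Bool.and_eq_true, Nat.blt_eq] at h
    obtain ⟨⟨⟨⟨⟨h1, h2⟩, h3⟩, h4⟩, h5⟩, h6⟩ := h
    rcases hx with rfl | rfl | rfl
    · refine ⟨tbA j, h2, ?_⟩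
      rw [Units.val_mul, hy, j1a_val]
      exact toMat_mul_eq (Nat.eq_of_beq_eq_true h1)
    · refine ⟨tbX j, h4, ?_⟩
      rw [Units.val_mul, hy, cx_val, cxP_eq]
      exact toMat_mul_eq (Nat.eq_of_beq_eq_true h3)
    · refine ⟨tbY j, h6, ?_⟩
      rw [Units.val_mul, hy, cy_val, cyP_eq]
      exact toMat_mul_eq (Nat.eq_of_beq_eq_true h5)

/-! ### general lemmas -/

section General

variable {G : Type*} [Group G]

open scoped Pointwise in
theorem exists_conj_map_le [Finite G] {p : ℕ} [Fact p.Prime] (P : Subgroup G)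
    (hP : IsPGroup p P) (hidx : ¬ p ∣ P.index) (α : MulAut G) :
    ∃ g : G, ∀ x ∈ P, g * α x * g⁻¹ ∈ P := by
  have hP' : IsPGroup p (P.map ((α : G ≃* G) : G →* G)) := hP.map _
  have hidx' : ¬ p ∣ (P.map ((α : G ≃* G) : G →* G)).index := by
    rw [Subgroup.index_map_equiv]; exact hidx
  obtain ⟨g, hg⟩ := MulAction.exists_smul_eq G (hP'.toSylow hidx') (hP.toSylow hidx)
  refine ⟨g, fun x hx => ?_⟩
  have h1 : α x ∈ ((hP'.toSylow hidx' : Sylow p G) : Subgroup G) := by
    rw [IsPGroup.toSylow_coe]; exact Subgroup.mem_map_of_mem _ hx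
  have h2 : MulAut.conj g • α x ∈
      MulAut.conj g • ((hP'.toSylow hidx' : Sylow p G) : Subgroup G) :=
    Subgroup.smul_mem_pointwise_smul _ _ _ h1
  rw [← Sylow.coe_subgroup_smul, hg, IsPGroup.toSylow_coe] at h2
  simpa [MulAut.smul_def] using h2

theorem exists_preimage_of_map_le [Finite G] (P : Subgroup G) (β : MulAut G)
    (h : ∀ x ∈ P, β x ∈ P) : ∀ y ∈ P, ∃ x ∈ P, β x = y := by
  have hle : P.map ((β : G ≃* G) : G →* G) ≤ P := by
    rintro _ ⟨x, hx, rfl⟩; exact h x hx
  have hEq : P.map ((β : G ≃* G) : G →* G) = P :=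
    Subgroup.eq_of_le_of_card_ge hle
      (by rw [Subgroup.card_map_of_injective (MulEquiv.injective β)])
  intro y hy
  rw [← hEq] at hy
  obtain ⟨x, hx, rfl⟩ := hy
  exact ⟨x, hx, rfl⟩

theorem mem_normalizer_of_conj_mem [Finite G] (P : Subgroup G) (n : G)
    (h : ∀ x ∈ P, n * x * n⁻¹ ∈ P) : n ∈ Subgroup.normalizer (P : Set G) := by
  have hpow : ∀ k : ℕ, ∀ x ∈ P, n ^ k * x * (n ^ k)⁻¹ ∈ P := by
    intro k
    induction k with
    | zero => intro x hx; simpa using hx
    | succ k ih =>
      intro x hx
      have h1 := h _ (ih x hx)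
      have e : n ^ (k + 1) * x * (n ^ (k + 1))⁻¹ = n * (n ^ k * x * (n ^ k)⁻¹) * n⁻¹ := by
        rw [pow_succ']; group
      rw [e]; exact h1
  have hle : Subgroup.zpowers n ≤ Subgroup.normalizer (P : Set G) := by
    rw [Subgroup.le_normalizer_iff]
    intro h' hh' k hk
    obtain ⟨m, rfl⟩ := (Submonoid.mem_powers_iff _ _).mp (mem_powers_iff_mem_zpowers.mpr hh')
    exact hpow m k hk
  exact hle (Subgroup.mem_zpowers n)

theorem mem_range_or_of_central [Finite G] {A : Type*} [Group A] (t : G)
    (ht : ∀ g, t * g = g * t) (ht1 : t ≠ 1) (ψ : A →* G) (hψ : Function.Injective ψ)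
    (hA : Subgroup.center A = ⊥) (hcard : Nat.card G ≤ 2 * Nat.card A) (g : G) :
    g ∈ ψ.range ∨ t⁻¹ * g ∈ ψ.range := by
  have htR : t ∉ ψ.range := by
    rintro ⟨k, hk⟩
    have hk1 : k ∈ Subgroup.center A := by
      rw [Subgroup.mem_center_iff]
      intro b
      apply hψ
      rw [map_mul, map_mul, hk]
      exact (ht _).symm
    rw [hA, Subgroup.mem_bot] at hk1
    rw [hk1, map_one] at hk
    exact ht1 hk.symm
  have hcR : Nat.card ψ.range = Nat.card A :=
    Nat.card_congr (Equiv.ofInjective ψ hψ).symm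
  have hidx : ψ.range.index = 2 := by
    have h1 := Subgroup.card_mul_index ψ.range
    rw [hcR] at h1
    have hne1 : ψ.range.index ≠ 1 := by
      intro h
      rw [Subgroup.index_eq_one] at h
      exact htR (h ▸ Subgroup.mem_top t)
    have hne0 : ψ.range.index ≠ 0 := Subgroup.index_ne_zero_of_finite
    have hA0 : 0 < Nat.card A := by
      have : Finite A := Finite.of_injective ψ hψ
      exact Nat.card_pos
    have hle : ψ.range.index ≤ 2 := by
      by_contra hgt
      have hgt' : 3 ≤ ψ.range.index := by omega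
      have h3 : Nat.card A * 3 ≤ Nat.card A * ψ.range.index := Nat.mul_le_mul_left _ hgt'
      rw [h1] at h3
      omega
    omega
  by_cases hg : g ∈ ψ.range
  · exact Or.inl hg
  · right
    rw [Subgroup.mul_mem_iff_of_index_two hidx]
    constructor
    · intro h
      exact absurd (by simpa using ψ.range.inv_mem h) htR
    · intro h
      exact absurd h hg

theorem c2cube_conj {a b c t : G} (ha2 : a * a = 1) (hta : t * a = b * t)
    (htb : t * b = c * t) (htc : t * c = a * b * t) (hab : a * b = b * a)
    (hac : a * c = c * a) {y : G} (hy : y ∈ Subgroup.closure ({a, b, c} : Set G))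
    (hy1 : y ≠ 1) : ∃ j : ℕ, y = t ^ j * a * (t ^ j)⁻¹ := by
  obtain ⟨e1, e2, e3, hb2, hc2, hbc, e5, e6, e7⟩ := c2cube_basic ha2 hta htb htc hab
  have step : ∀ u : G, (∃ j : ℕ, u = t ^ j * a * (t ^ j)⁻¹) →
      ∃ j : ℕ, t * u * t⁻¹ = t ^ j * a * (t ^ j)⁻¹ := by
    rintro u ⟨j, rfl⟩
    exact ⟨j + 1, by rw [pow_succ']; group⟩
  have qa : ∃ j : ℕ, a = t ^ j * a * (t ^ j)⁻¹ := ⟨0, by simp⟩
  have qb : ∃ j : ℕ, b = t ^ j * a * (t ^ j)⁻¹ := by
    have h := step a qa; rwa [e1] at h
  have qc : ∃ j : ℕ, c = t ^ j * a * (t ^ j)⁻¹ := by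
    have h := step b qb; rwa [e2] at h
  have qab : ∃ j : ℕ, a * b = t ^ j * a * (t ^ j)⁻¹ := by
    have h := step c qc; rwa [e3] at h
  have qbc : ∃ j : ℕ, b * c = t ^ j * a * (t ^ j)⁻¹ := by
    have h := step (a * b) qab
    have e : t * (a * b) * t⁻¹ = b * c := by
      calc t * (a * b) * t⁻¹ = (t * a * t⁻¹) * (t * b * t⁻¹) := by group
        _ = b * c := by rw [e1, e2]
    rwa [e] at h
  have qabc : ∃ j : ℕ, a * b * c = t ^ j * a * (t ^ j)⁻¹ := by
    have h := step (b * c) qbc
    have e : t * (b * c) * t⁻¹ = a * b * c := by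
      calc t * (b * c) * t⁻¹ = (t * b * t⁻¹) * (t * c * t⁻¹) := by group
        _ = c * (a * b) := by rw [e2, e3]
        _ = a * b * c := by rw [← mul_assoc, ← hac, mul_assoc, ← hbc, ← mul_assoc]
    rwa [e] at h
  have qac : ∃ j : ℕ, a * c = t ^ j * a * (t ^ j)⁻¹ := by
    have h := step (a * b * c) qabc
    have e : t * (a * b * c) * t⁻¹ = a * c := by
      calc t * (a * b * c) * t⁻¹ = (t * a * t⁻¹) * (t * b * t⁻¹) * (t * c * t⁻¹) := by group
        _ = b * c * (a * b) := by rw [e1, e2, e3]
        _ = b * (c * a) * b := by group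
        _ = b * (a * c) * b := by rw [hac]
        _ = (b * a) * (c * b) := by group
        _ = (a * b) * (b * c) := by rw [hab, hbc]
        _ = a * (b * b) * c := by group
        _ = a * c := by rw [hb2, mul_one]
    rwa [e] at h
  obtain ⟨i, j, k, hijk⟩ := exists_zpow_of_mem_closure_triple hab hac hbc y hy
  rw [hijk] at hy1 ⊢
  rcases zpow_eq_one_or_self ha2 i with h1 | h1 <;>
    rcases zpow_eq_one_or_self hb2 j with h2 | h2 <;>
      rcases zpow_eq_one_or_self hc2 k with h3 | h3 <;>
        rw [h1, h2, h3] at hy1 ⊢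
  · exact absurd (by simp) hy1
  · simpa using qc
  · simpa using qb
  · simpa using qbc
  · simpa using qa
  · simpa using qac
  · simpa using qab
  · exact qabc

theorem mem_of_conj_mul_mem (g : G) (β : MulAut G) (h : MulAut.conj g * β ∈ Cfsg.Inn G) :
    β ∈ Cfsg.Inn G :=
  (Subgroup.mul_mem_cancel_left (Cfsg.Inn G) (⟨g, rfl⟩ : MulAut.conj g ∈ Cfsg.Inn G)).mp h

end General

/-! ### the group `J1` -/

theorem finJ : Finite ↥J1 := Nat.finite_of_card_ne_zero (by rw [card_J1]; norm_num)

/-- the involution -/
abbrev sa : ↥J1 := ⟨j1a, j1a_mem⟩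
abbrev sb : ↥J1 := ⟨j1b, j1b_mem⟩
abbrev sc : ↥J1 := ⟨j1c, j1c_mem⟩
/-- the element of order 7 -/
abbrev sX : ↥J1 := ⟨jankoX, jX_mem⟩
abbrev sY : ↥J1 := ⟨jankoY, jY_mem⟩
/-- the element of order 5 of the centraliser -/
abbrev sv : ↥J1 := ⟨cy, cy_mem⟩

/-- the Sylow `2`-subgroup -/
abbrev PP : Subgroup ↥J1 := Subgroup.closure ({sa, sb, sc} : Set ↥J1)

theorem sX_order : orderOf sX = 7 := by
  rw [Subgroup.orderOf_mk]; exact e7_order

theorem PP_pgroup : IsPGroup 2 PP := by
  obtain ⟨-, -, -, hb2, hc2, -, -, -, -⟩ := c2cube_basic j1s_aa j1s_ta j1s_tb j1s_tc j1s_ab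
  refine isPGroup_closure_of_comm _
    (c2cube_pair_comm j1s_aa j1s_ta j1s_tb j1s_tc j1s_ab j1s_ac) ?_
  intro x hx
  rcases hx with h | h | h
  · rw [h, pow_two]; exact j1s_aa
  · rw [h, pow_two]; exact hb2
  · rw [Set.mem_singleton_iff.mp h, pow_two]; exact hc2

theorem PP_index : ¬ 2 ∣ PP.index := by
  have hfin := finJ
  have h8 : 8 ∣ Nat.card PP := c2cube_card j1s_aa j1s_ta j1s_tb j1s_tc j1s_ab j1s_ac j1s_ne
  obtain ⟨m, hm⟩ := h8
  have h1 := Subgroup.card_mul_index PP
  rw [card_J1, hm] at h1
  rintro ⟨k, hk⟩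
  rw [hk] at h1
  have h2 : 16 * (m * k) = 175560 := by rw [← h1]; ring
  omega

theorem sX_conj_mem : ∀ x ∈ PP, sX * x * sX⁻¹ ∈ PP :=
  c2cube_conj_mem j1s_aa j1s_ta j1s_tb j1s_tc j1s_ab j1s_ac

/-! #### every element of the centraliser is in the table -/

theorem ut_ne : ut ≠ 1 := by
  intro h
  have h2 := ut_order
  rw [h, orderOf_one] at h2
  exact absurd h2 (by norm_num)

theorem CC_closure (g : ↥CC) :
    ((g : ↥J1) : GLm) ∈ Subgroup.closure ({j1a, cx, cy} : Set GLm) := by
  have hfin := finJ
  obtain ⟨e⟩ := Cfsg.Agent.S3377.result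
  have hrel : ∀ r ∈ ({FreeGroup.of (0 : Fin 2) ^ 3, FreeGroup.of (1 : Fin 2) ^ 5,
      (FreeGroup.of (0 : Fin 2) * FreeGroup.of 1) ^ 2} : Set (FreeGroup (Fin 2))),
      FreeGroup.lift (![ux, uy] : Fin 2 → ↥CC) r = 1 := by
    intro r hr
    rcases hr with h | h | h
    · rw [h, map_pow, FreeGroup.lift_apply_of]; exact ux_pow
    · rw [h, map_pow, FreeGroup.lift_apply_of]; exact uy_pow
    · rw [Set.mem_singleton_iff.mp h, map_pow, map_mul, FreeGroup.lift_apply_of,
        FreeGroup.lift_apply_of]
      exact uxy_pow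
  let φ := PresentedGroup.toGroup hrel
  let ψ : ↥(alternatingGroup (Fin 5)) →* ↥CC := φ.comp e.symm.toMonoidHom
  have hψ0 : ψ (e (PresentedGroup.of 0)) = ux := by
    change φ (e.symm (e (PresentedGroup.of 0))) = ux
    rw [MulEquiv.symm_apply_apply]
    exact PresentedGroup.toGroup.of hrel
  have hψinj : Function.Injective ψ := by
    rw [← MonoidHom.ker_eq_bot_iff]
    rcases (MonoidHom.normal_ker ψ).eq_bot_or_eq_top with h | h
    · exact h
    · exfalso
      have : e (PresentedGroup.of 0) ∈ ψ.ker := by rw [h]; trivial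
      rw [MonoidHom.mem_ker, hψ0] at this
      exact ux_ne this
  have hcard : Nat.card ↥CC ≤ 2 * Nat.card ↥(alternatingGroup (Fin 5)) := by
    rw [card_A5]
    exact Nat.le_of_dvd (by norm_num) card_CC_dvd
  have hcen : Subgroup.center ↥(alternatingGroup (Fin 5)) = ⊥ :=
    alternatingGroup.center_eq_bot (by rw [Nat.card_eq_fintype_card, Fintype.card_fin]; norm_num)
  have hφ : ∀ w, ((φ w : ↥J1) : GLm) ∈ Subgroup.closure ({j1a, cx, cy} : Set GLm) := by
    intro w
    have hw : w ∈ Subgroup.closure (Set.range (PresentedGroup.of : Fin 2 → PresentedGroup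
        ({FreeGroup.of (0 : Fin 2) ^ 3, FreeGroup.of (1 : Fin 2) ^ 5,
      (FreeGroup.of (0 : Fin 2) * FreeGroup.of 1) ^ 2} : Set (FreeGroup (Fin 2))))) := by
      rw [PresentedGroup.closure_range_of]; trivial
    induction hw using Subgroup.closure_induction with
    | mem x hx =>
      obtain ⟨i, rfl⟩ := hx
      have hi : φ (PresentedGroup.of i) = (![ux, uy] : Fin 2 → ↥CC) i :=
        PresentedGroup.toGroup.of hrel
      rw [hi]
      fin_cases i
      · exact Subgroup.subset_closure (by simp [ux])
      · exact Subgroup.subset_closure (by simp [uy])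
    | one => rw [map_one]; exact Subgroup.one_mem _
    | mul x y _ _ hx hy => rw [map_mul]; exact Subgroup.mul_mem _ hx hy
    | inv x _ hx => rw [map_inv]; exact Subgroup.inv_mem _ hx
  rcases mem_range_or_of_central ut ut_central ut_ne ψ hψinj hcen hcard g with ⟨k, hk⟩ | ⟨k, hk⟩
  · rw [← hk]; exact hφ (e.symm k)
  · have hg : g = ut * ψ k := by rw [hk]; group
    rw [hg]
    exact Subgroup.mul_mem _ (Subgroup.subset_closure (by simp [ut, tt])) (hφ (e.symm k))

theorem CC_list (g : ↥CC) : ∃ j < 120, (((g : ↥J1) : GLm) : Mat) = toMat (getL j) :=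
  cl_sub _ (CC_closure g)

/-! #### an automorphism fixing the involution and the element of order 7 is trivial -/

theorem vb_val : ((cy * j1b : GLm) : Mat) = toMat (mulP cyL jB) := by
  rw [Units.val_mul, cy_val, cyP_eq, j1b_val, toMat_mulP]

theorem vXb_val : ((cy * jankoX * j1b : GLm) : Mat) = toMat (mulP (mulP cyL Xp) jB) := by
  rw [Units.val_mul, Units.val_mul, cy_val, cyP_eq, j1b_val, jankoX_val, toMat_mulP, toMat_mulP]

theorem vb_pow : (sv * sb) ^ 3 = 1 :=
  Subtype.ext (pow_eq_one_of (cy * j1b) _ vb_val 3 (pw3 _) (toMat_pw3 _) (by decide +kernel))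

theorem vXb_pow : (sv * sX * sb) ^ 5 = 1 :=
  Subtype.ext (pow_eq_one_of (cy * jankoX * j1b) _ vXb_val 5 (pw5 _) (toMat_pw5 _)
    (by decide +kernel))

theorem ywordP : mulP (mulP (mulP (mulP (mulP (mulP (mulP (mulP (mulP (mulP (mulP cyL Xp) jA) Xp)
    Xp) cyL) Xp) Xp) cyL) cyL) Xp) Xp = Yp := by decide +kernel

theorem yword : sY = sv * sX * sa * sX * sX * sv * sX * sX * sv * sv * sX * sX := by
  apply Subtype.ext
  apply Units.ext
  simp only [Subgroup.coe_mul, Units.val_mul, jankoX_val, jankoY_val, j1a_val, cy_val, cyP_eq,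
    ← toMat_mulP]
  rw [ywordP]

theorem fix_gen (β : MulAut ↥J1) (ha : β sa = sa) (hX : β sX = sX) : β = 1 := by
  have hb : β sb = sb := by
    have e : sb = sX * sa * sX⁻¹ := by rw [j1s_ta]; group
    rw [e, map_mul, map_mul, map_inv, ha, hX]
  have hvC : β sv ∈ CC := (mem_CC _).mpr (by
    have h0 : sa * sv = sv * sa := Subtype.ext cy_comm
    calc tt * β sv = β (sa * sv) := by rw [map_mul, ha]; rfl
      _ = β (sv * sa) := by rw [h0]
      _ = β sv * tt := by rw [map_mul, ha]; rfl)
  obtain ⟨j, hj, hjv⟩ := CC_list ⟨β sv, hvC⟩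
  have hjv' : (((β sv : ↥J1) : GLm) : Mat) = toMat (getL j) := hjv
  have t1 : (β sv * sb) ^ 3 = 1 := by
    have h := congrArg β vb_pow
    rwa [map_pow, map_mul, hb, map_one] at h
  have t2 : (β sv * sX * sb) ^ 5 = 1 := by
    have h := congrArg β vXb_pow
    rwa [map_pow, map_mul, map_mul, hb, hX, map_one] at h
  have g1 : (((β sv : ↥J1) : GLm) * j1b) ^ 3 = 1 := congrArg Subtype.val t1
  have g2 : (((β sv : ↥J1) : GLm) * jankoX * j1b) ^ 5 = 1 := congrArg Subtype.val t2
  have m1 := congrArg Units.val g1
  have m2 := congrArg Units.val g2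
  rw [Units.val_pow_eq_pow_val, Units.val_mul, Units.val_one, hjv', j1b_val, ← toMat_mulP,
    ← toMat_pw3] at m1
  rw [Units.val_pow_eq_pow_val, Units.val_mul, Units.val_mul, Units.val_one, hjv', j1b_val,
    jankoX_val, ← toMat_mulP, ← toMat_mulP, ← toMat_pw5] at m2
  have n1 : pw3 (mulP (getL j) jB) = oneP := eq_oneP_of_toMat m1
  have n2 : pw5 (mulP (mulP (getL j) Xp) jB) = oneP := eq_oneP_of_toMat m2
  have hT : tstR (getL j) = true := by
    simp only [tstR, Bool.and_eq_true]
    exact ⟨by rw [n1]; exact Nat.beq_refl _, by rw [n2]; exact Nat.beq_refl _⟩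
  have hR := chkR_all j hj
  simp only [chkR, Bool.or_eq_true, Bool.not_eq_true', hT] at hR
  have hj3 : j = 3 := by
    rcases hR with h | h
    · exact Nat.eq_of_beq_eq_true h
    · exact absurd h (by simp)
  have hv : β sv = sv := by
    apply Subtype.ext
    apply Units.ext
    rw [hjv', hj3, getL_three, ← cyP_eq, ← cy_val]
  have hY : β sY = sY := by
    rw [yword]
    simp only [map_mul, ha, hX, hv]
  have hall : ∀ g : ↥J1, β g = g := by
    intro g
    have hg : g ∈ Subgroup.closure ({sX, sY} : Set ↥J1) := by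
      rw [Cfsg.Agent.S0457.J1_gen]; trivial
    induction hg using Subgroup.closure_induction with
    | mem x hx =>
      rcases hx with h | h
      · rw [h]; exact hX
      · rw [Set.mem_singleton_iff.mp h]; exact hY
    | one => exact map_one β
    | mul x y _ _ hx hy => rw [map_mul, hx, hy]
    | inv x _ hx => rw [map_inv, hx]
  exact MulEquiv.ext hall

def czP : ℕ := (mulP (mulP (mulP (mulP (mulP (mulP (mulP (mulP (mulP (mulP (mulP (mulP (mulP (mulP (mulP (mulP (mulP (mulP (mulP (mulP Xp Yp) Yp) Xp) Yp) Xp) Yp) Yp) Xp) Xp) Yp) Xp) Yp) Xp) Yp) Yp) Xp) Xp) Yp) Yp) Xp)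
def cz : GLm := jankoX * jankoY * jankoY * jankoX * jankoY * jankoX * jankoY * jankoY * jankoX * jankoX * jankoY * jankoX * jankoY * jankoX * jankoY * jankoY * jankoX * jankoX * jankoY * jankoY * jankoX
theorem cz_mem : cz ∈ J1 := (Subgroup.mul_mem _ (Subgroup.mul_mem _ (Subgroup.mul_mem _ (Subgroup.mul_mem _ (Subgroup.mul_mem _ (Subgroup.mul_mem _ (Subgroup.mul_mem _ (Subgroup.mul_mem _ (Subgroup.mul_mem _ (Subgroup.mul_mem _ (Subgroup.mul_mem _ (Subgroup.mul_mem _ (Subgroup.mul_mem _ (Subgroup.mul_mem _ (Subgroup.mul_mem _ (Subgroup.mul_mem _ (Subgroup.mul_mem _ (Subgroup.mul_mem _ (Subgroup.mul_mem _ (Subgroup.mul_mem _ jX_mem jY_mem) jY_mem) jX_mem) jY_mem) jX_mem) jY_mem) jY_mem) jX_mem) jX_mem) jY_mem) jX_mem) jY_mem) jX_mem) jY_mem) jY_mem) jX_mem) jX_mem) jY_mem) jY_mem) jX_mem)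
/-! #### the element of order 3 normalising `⟨X⟩` and centralising the involution -/

theorem cz_val : (cz : Mat) = toMat czP := by
  simp only [cz, czP, Units.val_mul, jankoX_val, jankoY_val, toMat_mulP]

theorem czA : mulP czP jA = mulP jA czP := by decide +kernel
theorem czX : mulP czP Xp = mulP (mulP Xp Xp) czP := by decide +kernel

abbrev sZ : ↥J1 := ⟨cz, cz_mem⟩

theorem sZ_a : sZ * sa = sa * sZ := by
  apply Subtype.ext
  apply Units.ext
  simp only [Subgroup.coe_mul, Units.val_mul, j1a_val, cz_val, ← toMat_mulP]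
  rw [czA]

theorem sZ_X : sZ * sX = sX * sX * sZ := by
  apply Subtype.ext
  apply Units.ext
  simp only [Subgroup.coe_mul, Units.val_mul, jankoX_val, cz_val, ← toMat_mulP]
  rw [czX]

theorem relRP : mulP (mulP (mulP jA Xp) jA) (mulP Xp Xp) = mulP (mulP (mulP Xp Xp) Xp) jA := by
  decide +kernel

theorem relR : sa * sX * sa * (sX * sX) = sX * sX * sX * sa := by
  apply Subtype.ext
  apply Units.ext
  simp only [Subgroup.coe_mul, Units.val_mul, jankoX_val, j1a_val, ← toMat_mulP]
  rw [relRP]

theorem relR_false (m : ℕ) (P : ℕ) (hP : toMat P = toMat Xp ^ m)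
    (hne : Nat.beq (mulP (mulP (mulP jA P) jA) (mulP P P)) (mulP (mulP (mulP P P) P) jA) = false) :
    ¬ (sa * sX ^ m * sa * (sX ^ m * sX ^ m) = sX ^ m * sX ^ m * sX ^ m * sa) := by
  intro h
  have g1 : j1a * jankoX ^ m * j1a * (jankoX ^ m * jankoX ^ m) =
      jankoX ^ m * jankoX ^ m * jankoX ^ m * j1a := congrArg Subtype.val h
  have m1 := congrArg Units.val g1
  simp only [Units.val_mul, Units.val_pow_eq_pow_val, j1a_val, jankoX_val] at m1
  rw [← hP] at m1
  simp only [← toMat_mulP] at m1
  have h2 := mulP_inj _ _ _ _ m1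
  rw [h2, Nat.beq_refl] at hne
  exact absurd hne (by simp)

theorem inn_of_pow (β : MulAut ↥J1) (ha : β sa = sa) (k : ℤ) (hX : β sX = sX ^ k) :
    β ∈ Cfsg.Inn ↥J1 := by
  obtain ⟨m, hm7, hXm⟩ : ∃ m : ℕ, m < 7 ∧ β sX = sX ^ m := by
    refine ⟨(k % 7).toNat, ?_, ?_⟩
    · have h1 := Int.emod_lt_of_pos k (show (0 : ℤ) < 7 by norm_num)
      have h0 := Int.emod_nonneg k (show (7 : ℤ) ≠ 0 by norm_num)
      omega
    · have h0 := Int.emod_nonneg k (show (7 : ℤ) ≠ 0 by norm_num)
      rw [hX, ← zpow_natCast, Int.toNat_of_nonneg h0]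
      have h := zpow_mod_orderOf sX k
      rw [sX_order] at h
      exact h.symm
  have hR := congrArg β relR
  simp only [map_mul, ha, hXm] at hR
  interval_cases m
  · exfalso
    rw [pow_zero] at hXm
    have h1 : sX = 1 := β.injective (by rw [hXm, map_one])
    have h2 := sX_order
    rw [h1, orderOf_one] at h2
    exact absurd h2 (by norm_num)
  · rw [pow_one] at hXm
    rw [fix_gen β ha hXm]
    exact Subgroup.one_mem _
  · apply mem_of_conj_mul_mem sZ⁻¹
    have h1 : (MulAut.conj sZ⁻¹ * β) sa = sa := by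
      rw [MulAut.mul_apply, MulAut.conj_apply, ha, inv_inv, mul_assoc, ← sZ_a,
        inv_mul_cancel_left]
    have h2 : (MulAut.conj sZ⁻¹ * β) sX = sX := by
      rw [MulAut.mul_apply, MulAut.conj_apply, hXm, inv_inv, pow_two, mul_assoc, ← sZ_X,
        inv_mul_cancel_left]
    rw [fix_gen _ h1 h2]
    exact Subgroup.one_mem _
  · exact absurd hR (relR_false 3 (pw3 Xp) (toMat_pw3 Xp) (by decide +kernel))
  · apply mem_of_conj_mul_mem (sZ * sZ)⁻¹
    have h1 : (MulAut.conj (sZ * sZ)⁻¹ * β) sa = sa := by
      rw [MulAut.mul_apply, MulAut.conj_apply, ha, inv_inv]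
      have e : sa * (sZ * sZ) = sZ * sZ * sa := by
        rw [← mul_assoc, ← sZ_a, mul_assoc, ← sZ_a, ← mul_assoc]
      rw [mul_assoc, e, inv_mul_cancel_left]
    have h2 : (MulAut.conj (sZ * sZ)⁻¹ * β) sX = sX := by
      rw [MulAut.mul_apply, MulAut.conj_apply, hXm, inv_inv]
      have e1 : sZ * (sX * sX) = sX * sX * (sX * sX) * sZ := by
        rw [← mul_assoc, sZ_X, mul_assoc (sX * sX), sZ_X, ← mul_assoc]
      have e : sX ^ 4 * (sZ * sZ) = sZ * sZ * sX := by
        have e4 : sX ^ 4 = sX * sX * (sX * sX) := by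
          rw [pow_succ, pow_succ, pow_succ, pow_one]; simp only [mul_assoc]
        rw [e4, mul_assoc sZ sZ sX, sZ_X, ← mul_assoc sZ, e1]
        simp only [mul_assoc]
      rw [mul_assoc, e, inv_mul_cancel_left]
    rw [fix_gen _ h1 h2]
    exact Subgroup.one_mem _
  · exact absurd hR (relR_false 5 (pw5 Xp) (toMat_pw5 Xp) (by decide +kernel))
  · exact absurd hR (relR_false 6 (pw6 Xp) (toMat_pw6 Xp) (by decide +kernel))

theorem inn_of_map_le_of_pow (β : MulAut ↥J1) (hP : ∀ x ∈ PP, β x ∈ PP) (k : ℤ)
    (hX : β sX = sX ^ k) : β ∈ Cfsg.Inn ↥J1 := by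
  have h1 : β sa ∈ PP := hP sa (Subgroup.subset_closure (by simp))
  have h2 : β sa ≠ 1 := by
    intro h
    exact j1s_ne (β.injective (by rw [h, map_one]))
  obtain ⟨j, hj⟩ := c2cube_conj j1s_aa j1s_ta j1s_tb j1s_tc j1s_ab j1s_ac h1 h2
  apply mem_of_conj_mul_mem (sX ^ j)⁻¹
  refine inn_of_pow _ ?_ k ?_
  · rw [MulAut.mul_apply, MulAut.conj_apply, hj]; group
  · rw [MulAut.mul_apply, MulAut.conj_apply, hX]; group

theorem inn_of_map_le (β : MulAut ↥J1) (hP : ∀ x ∈ PP, β x ∈ PP) : β ∈ Cfsg.Inn ↥J1 := by
  have hfin := finJ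
  have hp7 : Fact (Nat.Prime 7) := ⟨by norm_num⟩
  have hXN : sX ∈ Subgroup.normalizer (PP : Set ↥J1) :=
    mem_normalizer_of_conj_mem PP sX sX_conj_mem
  have hxN : β sX ∈ Subgroup.normalizer (PP : Set ↥J1) := by
    refine mem_normalizer_of_conj_mem PP (β sX) ?_
    intro y hy
    obtain ⟨x, hx, rfl⟩ := exists_preimage_of_map_le PP β hP y hy
    rw [← map_inv, ← map_mul, ← map_mul]
    exact hP _ (sX_conj_mem x hx)
  have hcS : Nat.card ↥(Subgroup.zpowers (⟨sX, hXN⟩ : ↥(Subgroup.normalizer (PP : Set ↥J1)))) = 7 := by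
    rw [Nat.card_zpowers, Subgroup.orderOf_mk, sX_order]
  have hS : IsPGroup 7 (Subgroup.zpowers (⟨sX, hXN⟩ : ↥(Subgroup.normalizer (PP : Set ↥J1)))) :=
    IsPGroup.of_card (n := 1) (by rw [hcS, pow_one])
  have hSidx : ¬ 7 ∣ (Subgroup.zpowers (⟨sX, hXN⟩ : ↥(Subgroup.normalizer (PP : Set ↥J1)))).index := by
    rintro ⟨q, hq⟩
    have h1 := Subgroup.card_mul_index
      (Subgroup.zpowers (⟨sX, hXN⟩ : ↥(Subgroup.normalizer (PP : Set ↥J1))))
    have h2 : Nat.card ↥(Subgroup.normalizer (PP : Set ↥J1)) ∣ 175560 := by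
      rw [← card_J1]; exact Subgroup.card_subgroup_dvd_card _
    rw [hcS, hq] at h1
    rw [← h1] at h2
    have h3 : 49 ∣ 175560 := dvd_trans ⟨q, by ring⟩ h2
    norm_num at h3
  have hxo : orderOf (⟨β sX, hxN⟩ : ↥(Subgroup.normalizer (PP : Set ↥J1))) = 7 := by
    rw [Subgroup.orderOf_mk, MulEquiv.orderOf_eq, sX_order]
  obtain ⟨n, hn⟩ := exists_conj_mem_of_orderOf_prime _ hS hSidx hxo
  obtain ⟨k, hk⟩ := Subgroup.mem_zpowers_iff.mp hn
  have hk' : sX ^ k = (n : ↥J1) * β sX * (n : ↥J1)⁻¹ := congrArg Subtype.val hk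
  apply mem_of_conj_mul_mem (n : ↥J1)
  refine inn_of_map_le_of_pow _ ?_ k ?_
  · intro x hx
    rw [MulAut.mul_apply, MulAut.conj_apply]
    exact (Subgroup.mem_normalizer_iff.mp n.2 _).mp (hP x hx)
  · rw [MulAut.mul_apply, MulAut.conj_apply, hk']

theorem inn_all (α : MulAut ↥J1) : α ∈ Cfsg.Inn ↥J1 := by
  have hfin := finJ
  have hp2 : Fact (Nat.Prime 2) := ⟨Nat.prime_two⟩
  obtain ⟨g, hg⟩ := exists_conj_map_le PP PP_pgroup PP_index α
  apply mem_of_conj_mul_mem g
  refine inn_of_map_le _ ?_
  intro x hx
  rw [MulAut.mul_apply, MulAut.conj_apply]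
  exact hg x hx

/-- The outer automorphism group of the Janko group J₁ (the group generated by two explicit 7 × 7 matrices over the integers modulo 11) is trivial: every automorphism is inner. -/
theorem result : Nat.card (Cfsg.Out ↥Cfsg.Spor.J1) = 1 := by
  have h : Cfsg.Inn ↥J1 = ⊤ := by
    rw [eq_top_iff]
    intro α _
    exact inn_all α
  exact Subgroup.index_eq_one.mpr h

end Cfsg.Agent.S2065
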