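import Cfsg.Statements.S2086
import Mathlib
import Cfsg.Agent.Lib.Helper35.SLnMult
import Cfsg.Agent.Lib.Helper35.SL2Mult
-- import your own Cfsg.Agent.* helpers here

set_option autoImplicit false
open Cfsg

namespace Cfsg.Agent.S2086

open Cfsg.Agent.Lib.Helper35 Cfsg.Agent.Lib.Helper35.SLn

/-- Schur multipliers of the linear groups: for n ≥ 2 and a field F with q elements (q ≥ 4 when n = 2), apart from the five exceptional pairs (n, q) = (2, 4), (2, 9), (3, 2), (3, 4), (4, 2), the Schur multiplier of PSL_n(F) is cyclic of order gcd(n, q − 1); here the Schur multiplier is described through stem extensions, as in the definitions. -/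
theorem result {F : Type*} [Field F] [Fintype F] {q : ℕ} (hF : Fintype.card F = q) (n : ℕ) (hn : 2 ≤ n) (h2 : n = 2 → 4 ≤ q) (hexc : (n, q) ∉ ({(2, 4), (2, 9), (3, 2), (3, 4), (4, 2)} : Set (ℕ × ℕ))) : Cfsg.HasCyclicSchurMultiplier (Matrix.ProjectiveSpecialLinearGroup (Fin n) F) (Nat.gcd n (q - 1)) := by
  subst hF
  simp only [Set.mem_insert_iff, Set.mem_singleton_iff, Prod.mk.injEq, not_or, not_and] at hexc
  obtain ⟨e1, e2, e3, e4, e5⟩ := hexc
  rcases Nat.lt_or_ge n 3 with h | h
  · obtain rfl : n = 2 := by omega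
    have hq4 : Fintype.card F ≠ 4 := fun h => e1 rfl h
    have hq9 : Fintype.card F ≠ 9 := fun h => e2 rfl h
    have hq : 4 ≤ Fintype.card F := h2 rfl
    obtain ⟨a, ha⟩ := exists_unit_pow_ne_one (F := F) 2 (by
      intro hd
      have := Nat.le_of_dvd (by norm_num) hd
      omega)
    have ha' : (a : F) ^ 2 ≠ 1 := by
      intro h'
      apply ha
      ext
      simpa using h'
    exact hasCyclicSchurMultiplier_psl_of (by norm_num)
      (Matrix.SL2.commutator_eq_top (a := (a : F)) a.ne_zero ha')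
      (hasCyclicSchurMultiplier_one_of (fun Y _ _ τ hτ => sl2_stem_ker_eq_bot hq4 hq9 τ hτ))
  · exact hasCyclicSchurMultiplier_psl_of (by omega)
      (Cfsg.Agent.Lib.Helper5.commutator_SL_eq_top (by rw [Fintype.card_fin]; exact h))
      (hasCyclicSchurMultiplier_sln_one h (fun h3 => ⟨fun hc => e3 h3 hc, fun hc => e4 h3 hc⟩)
        (fun h4 hc => e5 h4 hc))

end Cfsg.Agent.S2086
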