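import Cfsg.Statements.S2202
import Cfsg.Agent.Lib.Helper50.CAI.Defs
import Cfsg.Agent.Lib.Helper50.CAI.Assembly
import Cfsg.Agent.Lib.Helper50.CAI.Final
import Cfsg.Agent.Lib.Helper43.CAI.Basic
import Cfsg.Agent.Lib.Helper80.CAI.Inj
import Cfsg.Agent.Lib.Helper80.CAI.DC
import Cfsg.Agent.Lib.Helper15.CAI.Semi
import Cfsg.Agent.Lib.Helper15.CAI.Inv
import Cfsg.Agent.Lib.Helper97.CAI.Fix2
import Cfsg.Agent.Lib.Helper77.CAI.Reg
import Cfsg.Agent.Lib.Helper77.CAI.Zas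
import Cfsg.Agent.Lib.Helper82.CAI.Elem
import Cfsg.Agent.Lib.Helper82.CAI.PSL
import Cfsg.Agent.Lib.Helper85.CAI.Sub
import Cfsg.Agent.Lib.Helper85.CAI.Dich
import Cfsg.Agent.Lib.Helper67.CAI.Quot
import Cfsg.Agent.Lib.Helper72.CAI.Block
import Cfsg.Agent.Lib.Helper48.CAI.Split
import Cfsg.Agent.Lib.Helper77.CAI.NoHall

set_option autoImplicit false
open Cfsg

namespace Cfsg.Agent.S2202

/-- Finite groups in which the centralizer of every involution is abelian. Let G be a finite group of even order in which the centralizer of every element of order 2 is abelian. Then the Sylow 2-subgroups of G are cyclic, or a Sylow 2-subgroup of G is normal, or G is isomorphic to the direct product of SL₂(F) for a finite field F of characteristic two and an abelian group of odd order. -/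
theorem result {G : Type*} [Group G] [Finite G] (heven : Even (Nat.card G)) (h : ∀ t : G, orderOf t = 2 → IsMulCommutative ↥(Subgroup.centralizer ({t} : Set G))) :
    (∀ P : Sylow 2 G, IsCyclic ↥P) ∨ (∀ P : Sylow 2 G, (P : Subgroup G).Normal) ∨
    (∃ (F : Type) (_ : Field F) (_ : Fintype F) (A : Type) (_ : CommGroup A) (_ : Finite A), CharP F 2 ∧ Odd (Nat.card A) ∧ Nonempty (G ≃* Matrix.SpecialLinearGroup (Fin 2) F × A)) := by
  have hB : Cfsg.Agent.Lib.Helper50.CAI.PkgBasic.{u_1} := Cfsg.Agent.Lib.Helper43.CAI.pkgBasic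
  have hInj : Cfsg.Agent.Lib.Helper50.CAI.PkgInj.{u_1} := Cfsg.Agent.Lib.Helper80.CAI.pkgInj hB
  have hDC : Cfsg.Agent.Lib.Helper50.CAI.PkgDC.{u_1} := Cfsg.Agent.Lib.Helper80.CAI.pkgDC hB
  have hSwap : Cfsg.Agent.Lib.Helper50.CAI.PkgSwap.{u_1} := Cfsg.Agent.Lib.Helper50.CAI.pkgSwap hB hInj hDC
  have hSemi : Cfsg.Agent.Lib.Helper50.CAI.PkgSemi.{u_1} := Cfsg.Agent.Lib.Helper15.CAI.pkgSemi hB
  have hInv : Cfsg.Agent.Lib.Helper50.CAI.PkgInv.{u_1} := Cfsg.Agent.Lib.Helper15.CAI.pkgInv hB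
  have hFix2 : Cfsg.Agent.Lib.Helper50.CAI.PkgFix2.{u_1} := Cfsg.Agent.Lib.Helper97.CAI.pkgFix2 hB
  have hReg : Cfsg.Agent.Lib.Helper50.CAI.PkgReg.{u_1} := Cfsg.Agent.Lib.Helper77.CAI.pkgReg hB
  have hZ : Cfsg.Agent.Lib.Helper50.CAI.PkgZ.{u_1} := Cfsg.Agent.Lib.Helper50.CAI.pkgZ hSwap hSemi hInv hFix2 hReg
  have hZas : Cfsg.Agent.Lib.Helper50.CAI.PkgZas.{u_1} := Cfsg.Agent.Lib.Helper77.CAI.pkgZas hB
  have hElem : Cfsg.Agent.Lib.Helper50.CAI.PkgElem.{u_1} := Cfsg.Agent.Lib.Helper82.CAI.pkgElem hB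
  have hSub : Cfsg.Agent.Lib.Helper50.CAI.PkgSub.{u_1} := Cfsg.Agent.Lib.Helper85.CAI.pkgSub hB
  have hQuot : Cfsg.Agent.Lib.Helper50.CAI.PkgQuot.{u_1} := Cfsg.Agent.Lib.Helper67.CAI.pkgQuot hB
  have hDich : Cfsg.Agent.Lib.Helper50.CAI.PkgDich.{u_1} := Cfsg.Agent.Lib.Helper85.CAI.pkgDich hB hSub
  have hNH : Cfsg.Agent.Lib.Helper50.CAI.PkgNoHall.{u_1} := Cfsg.Agent.Lib.Helper77.CAI.pkgNoHall hB
  have hBlock : Cfsg.Agent.Lib.Helper50.CAI.PkgBlock.{u_1} := Cfsg.Agent.Lib.Helper72.CAI.pkgBlock hB hSub hQuot hZ hNH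
  have hNB : Cfsg.Agent.Lib.Helper50.CAI.PkgNB.{u_1} := Cfsg.Agent.Lib.Helper50.CAI.pkgNB hB hQuot hDich hBlock hZ hZas hElem
  have hPSL : Cfsg.Agent.Lib.Helper50.CAI.PkgPSL.{u_1} := Cfsg.Agent.Lib.Helper82.CAI.pkgPSL hB hQuot hZ hZas hElem
  have hSplit : Cfsg.Agent.Lib.Helper50.CAI.PkgSplit.{u_1} := Cfsg.Agent.Lib.Helper48.CAI.pkgSplit
  exact Cfsg.Agent.Lib.Helper50.CAI.final hB hNB hPSL hSplit h

end Cfsg.Agent.S2202
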