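import Cfsg.Statements.S2222
import Cfsg.Agent.Lib.Helper95.SylNorm2
import Cfsg.Agent.Lib.Helper95.Pronormal

set_option autoImplicit false
open Cfsg

namespace Cfsg.Agent.S2222

open Cfsg.Agent.Lib.Helper95.Pronormal Cfsg.Agent.Lib.Helper95.SylNorm in
theorem pronormal_A5 (H : Subgroup (alternatingGroup (Fin 5))) (hH : Odd H.index) :
    Cfsg.IsPronormal H := by
  have hcard : Nat.card (alternatingGroup (Fin 5)) = 60 := by
    rw [nat_card_alternatingGroup]
    simp [Nat.factorial]
  have hdvd : H.index ∣ 60 := hcard ▸ H.index_dvd_card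
  have hle : H.index ≤ 60 := Nat.le_of_dvd (by norm_num) hdvd
  have hmul := H.card_mul_index
  rw [hcard] at hmul
  obtain ⟨k, hk⟩ := hH
  have hcases : H.index = 1 ∨ H.index = 3 ∨ H.index = 5 ∨ H.index = 15 := by
    generalize H.index = i at *
    interval_cases i <;> omega
  rcases hcases with h | h | h | h
  · have h1 : H = ⊤ := Subgroup.index_eq_one.mp h
    rw [h1]; exact pronormal_top
  · exact pronormal_of_prime_index H (by rw [h]; exact Nat.prime_three)
  · exact pronormal_of_prime_index H (by rw [h]; exact Nat.prime_five)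
  · have hc : Nat.card H = 2 ^ 2 := by rw [h] at hmul; omega
    have hpg : IsPGroup 2 H := IsPGroup.of_card hc
    have : Fact (Nat.Prime 2) := ⟨Nat.prime_two⟩
    have h2 := pronormal_of_sylow (hpg.toSylow (by rw [h]; decide))
    simpa using h2

/-- In the alternating group of degree n ≥ 5 every subgroup H of odd index is pronormal: for every element g, the subgroups H and gHg⁻¹ are conjugate by an element of the subgroup they generate. -/
theorem result (n : ℕ) (hn : 5 ≤ n)
    (H : Subgroup (alternatingGroup (Fin n))) (hH : Odd H.index) : Cfsg.IsPronormal H := by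
  rcases hn.eq_or_lt with rfl | h6
  · exact pronormal_A5 H hH
  · have : Fact (Nat.Prime 2) := ⟨Nat.prime_two⟩
    obtain ⟨S, hS⟩ := Cfsg.Agent.Lib.Helper95.Pronormal.exists_sylow_le (p := 2) H
      (fun h => (Nat.not_even_iff_odd.mpr hH) (even_iff_two_dvd.mpr h))
    exact Cfsg.Agent.Lib.Helper95.Pronormal.pronormal_of_sylow_normalizer H S hS
      (fun x hx => hS (Cfsg.Agent.Lib.Helper95.SylNorm.alt_self_norm
        (by rw [Fintype.card_fin]; omega) S x hx))

end Cfsg.Agent.S2222
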