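import Cfsg.Statements.S2263
import Cfsg.Agent.Lib.Helper58.PGUmax.Main
import Cfsg.Agent.Lib.Helper58.PGUmax.UB
import Cfsg.Agent.Lib.Helper58.PGUmax.EX
import Cfsg.Agent.Lib.Helper58.PGUmax.Mix
import Cfsg.Agent.Lib.Helper58.PGUmax.Unip
import Cfsg.Agent.Lib.Helper83.PGUmax.UBpoly
import Cfsg.Agent.Lib.Helper83.PGUmax.Hull
import Cfsg.Agent.Lib.Helper83.PGUmax.Eigen
import Cfsg.Agent.Lib.Helper95.PGUmax.BlockSelf
import Cfsg.Agent.Lib.Helper95.PGUmax.BlockPair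
import Cfsg.Agent.Lib.Helper87.PGUmax.N1
import Cfsg.Agent.Lib.Helper87.PGUmax.N2
import Cfsg.Agent.Lib.Helper50.PGUmax.N3
import Cfsg.Agent.Lib.Helper11.PGUmax.PolySelf
import Cfsg.Agent.Lib.Helper50.PGUmax.PolyPair

set_option autoImplicit false
open Cfsg

namespace Cfsg.Agent.S2263

open Cfsg.Agent.Lib.Helper58.PGUmax in
/-- Let q = p^f with p prime and f ≥ 1, F a field with q² elements, d ≥ 3 with (d, q) ≠ (3, 2), and PGU_d(q) the general unitary group of the standard Hermitian form modulo its centre. Then the largest order of an element of PGU_d(q) is: q^(d−1) − 1 if d is odd and f ≥ 2; (p^(d−2) + 1)p if d is odd and f = 1; q^(d−1) + 1 if d is even and q > 2; 4(2^(d−3) + 1) if d is even and q = 2. -/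
theorem result {F : Type*} [Field F] [Fintype F] (p f d : ℕ) (hp : p.Prime) (hf : 1 ≤ f) (q : ℕ) (hq : q = p ^ f)
    (hF : Fintype.card F = q ^ 2) (hd : 3 ≤ d) (h32 : ¬ (d = 3 ∧ q = 2)) :
    (Odd d → 2 ≤ f → (∀ g : (↥(Cfsg.GU d F q) ⧸ Subgroup.center ↥(Cfsg.GU d F q)), orderOf g ≤ q ^ (d - 1) - 1) ∧ ∃ g : (↥(Cfsg.GU d F q) ⧸ Subgroup.center ↥(Cfsg.GU d F q)), orderOf g = q ^ (d - 1) - 1) ∧
    (Odd d → f = 1 → (∀ g : (↥(Cfsg.GU d F q) ⧸ Subgroup.center ↥(Cfsg.GU d F q)), orderOf g ≤ (p ^ (d - 2) + 1) * p) ∧ ∃ g : (↥(Cfsg.GU d F q) ⧸ Subgroup.center ↥(Cfsg.GU d F q)), orderOf g = (p ^ (d - 2) + 1) * p) ∧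
    (Even d → 2 < q → (∀ g : (↥(Cfsg.GU d F q) ⧸ Subgroup.center ↥(Cfsg.GU d F q)), orderOf g ≤ q ^ (d - 1) + 1) ∧ ∃ g : (↥(Cfsg.GU d F q) ⧸ Subgroup.center ↥(Cfsg.GU d F q)), orderOf g = q ^ (d - 1) + 1) ∧
    (Even d → q = 2 → (∀ g : (↥(Cfsg.GU d F q) ⧸ Subgroup.center ↥(Cfsg.GU d F q)), orderOf g ≤ 4 * (2 ^ (d - 3) + 1)) ∧ ∃ g : (↥(Cfsg.GU d F q) ⧸ Subgroup.center ↥(Cfsg.GU d F q)), orderOf g = 4 * (2 ^ (d - 3) + 1)) := by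
  have hN1 : PkgN1 := Cfsg.Agent.Lib.Helper87.PGUmax.pkgN1
  have hN2 : PkgN2 := Cfsg.Agent.Lib.Helper87.PGUmax.pkgN2
  have hN3 : PkgN3 := Cfsg.Agent.Lib.Helper50.PGUmax.pkgN3
  have hPS : PkgPolySelf := Cfsg.Agent.Lib.Helper11.PGUmax.pkgPolySelf
  have hPP : PkgPolyPair := Cfsg.Agent.Lib.Helper50.PGUmax.pkgPolyPair
  have hUB : PkgUB := pkgUB_of Cfsg.Agent.Lib.Helper83.PGUmax.pkgHull
    Cfsg.Agent.Lib.Helper95.PGUmax.pkgBlockSelf Cfsg.Agent.Lib.Helper95.PGUmax.pkgBlockPair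
    (Cfsg.Agent.Lib.Helper83.PGUmax.pkgUBpoly_of hN1 hN2 hN3)
  have hEX : PkgEX := pkgEX_of hPS hPP pkgUnip2 pkgUnip3
    (pkgMix_of Cfsg.Agent.Lib.Helper83.PGUmax.pkgEigen)
  exact main hUB hEX p f d hp hf q hq hF hd h32

end Cfsg.Agent.S2263
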