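import Cfsg.Statements.S2271
import Mathlib

set_option autoImplicit false
open Cfsg

namespace Cfsg.Agent.S2271

open Equiv

variable {n : ℕ}

theorem inv_app {α : Type*} (f : Perm α) (x : α) : f⁻¹ (f x) = x := by simp

/-- If the agreements of `β'` with `a⁻¹` are agreements of `β`, and one agreement of `β` is lost,
then `a * β'` has fewer fixed points than `a * β`. -/
theorem loss (a β β' : Perm (Fin n))
    (h1 : ∀ x, β' x = a⁻¹ x → β x = a⁻¹ x) (p : Fin n) (hp : β p = a⁻¹ p) (hp' : β' p ≠ a⁻¹ p) :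
    Nat.card (Function.fixedPoints ⇑(a * β')) < Nat.card (Function.fixedPoints ⇑(a * β)) := by
  have key : ∀ (γ : Perm (Fin n)) (x : Fin n), x ∈ Function.fixedPoints ⇑(a * γ) ↔ γ x = a⁻¹ x := by
    intro γ x
    rw [Function.mem_fixedPoints, Function.IsFixedPt, Perm.mul_apply, Perm.eq_inv_iff_eq]
  have hsub : Function.fixedPoints ⇑(a * β') ⊂ Function.fixedPoints ⇑(a * β) := by
    constructor
    · intro x hx
      rw [key] at hx ⊢
      exact h1 x hx
    · intro hcontra
      have h2 : p ∈ Function.fixedPoints ⇑(a * β) := (key β p).mpr hp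
      exact hp' ((key β' p).mp (hcontra h2))
  rw [Nat.card_coe_set_eq, Nat.card_coe_set_eq]
  exact Set.ncard_lt_ncard hsub

/-- The transposition move. -/
theorem swap_move (α β : Perm (Fin n)) (p r : Fin n) (hp : β p = α p) (hpp : α p ≠ p)
    (hr1 : r ≠ p) (hr2 : r ≠ α p) (hr3 : r ≠ α (β⁻¹ p)) (hr4 : r ≠ β (α⁻¹ p)) :
    (∀ x, (swap p r * β * swap p r) x = α x → β x = α x) ∧ (swap p r * β * swap p r) p ≠ α p := by
  have hy1 : α p ≠ r := fun h => hr2 h.symm
  have c1 : (swap p r * β * swap p r) p ≠ α p := by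
    simp only [Perm.mul_apply, swap_apply_left]
    intro h
    -- swap p r (β r) = α p, so β r = swap p r (α p) = α p = β p
    have h' : β r = swap p r (α p) := by
      rw [← h, swap_apply_self]
    rw [swap_apply_of_ne_of_ne hpp hy1, ← hp] at h'
    exact hr1 (β.injective h')
  refine ⟨fun x hx => ?_, c1⟩
  by_cases hxp : x = p
  · subst hxp
    exact absurd hx c1
  by_cases hxr : x = r
  · subst hxr
    exfalso
    simp only [Perm.mul_apply, swap_apply_right] at hx
    rw [hp, swap_apply_of_ne_of_ne hpp hy1] at hx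
    exact hxp (α.injective hx).symm
  simp only [Perm.mul_apply, swap_apply_of_ne_of_ne hxp hxr] at hx
  by_cases h1 : β x = p
  · exfalso
    rw [h1, swap_apply_left] at hx
    apply hr3
    rw [hx]
    congr 1
    rw [Perm.eq_inv_iff_eq]
    exact h1
  by_cases h2 : β x = r
  · exfalso
    rw [h2, swap_apply_right] at hx
    apply hr4
    rw [← h2]
    congr 1
    rw [Perm.eq_inv_iff_eq]
    exact hx.symm
  rwa [swap_apply_of_ne_of_ne h1 h2] at hx


/-- The rotation move by the 3-cycle `p → q → r → p` on three consecutive points of a long cycle. -/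
theorem rot_move (α β : Perm (Fin n)) (p q r : Fin n) (hq : β p = q) (hr : β q = r)
    (hαp : α p = q) (hqp : q ≠ p) (hrp : r ≠ p) (hs : β r ≠ p) (hαr : α r ≠ p) :
    (∀ x, ((swap p q * swap q r) * β * (swap p q * swap q r)⁻¹) x = α x → β x = α x) ∧
      ((swap p q * swap q r) * β * (swap p q * swap q r)⁻¹) p ≠ α p := by
  have hrq : r ≠ q := by
    intro h
    rw [h] at hr
    have : β q = β p := by rw [hr, hq]
    exact hqp (β.injective this)
  have hpq : p ≠ q := fun h => hqp h.symm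
  have hpr : p ≠ r := fun h => hrp h.symm
  have hqr : q ≠ r := fun h => hrq h.symm
  -- the action of τ and τ⁻¹
  have hinv : (swap p q * swap q r)⁻¹ = swap q r * swap p q := by
    rw [mul_inv_rev, swap_inv, swap_inv]
  have tp : (swap p q * swap q r) p = q := by
    rw [Perm.mul_apply, swap_apply_of_ne_of_ne hpq hpr, swap_apply_left]
  have tr : (swap p q * swap q r) r = p := by
    rw [Perm.mul_apply, swap_apply_right, swap_apply_right]
  have tq : (swap p q * swap q r) q = r := by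
    rw [Perm.mul_apply, swap_apply_left, swap_apply_of_ne_of_ne hrp hrq]
  have tx : ∀ x, x ≠ p → x ≠ q → x ≠ r → (swap p q * swap q r) x = x := by
    intro x h1 h2 h3
    rw [Perm.mul_apply, swap_apply_of_ne_of_ne h2 h3, swap_apply_of_ne_of_ne h1 h2]
  have ip : (swap q r * swap p q) p = r := by
    rw [Perm.mul_apply, swap_apply_left, swap_apply_left]
  have iq : (swap q r * swap p q) q = p := by
    rw [Perm.mul_apply, swap_apply_right, swap_apply_of_ne_of_ne hpq hpr]
  have ir : (swap q r * swap p q) r = q := by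
    rw [Perm.mul_apply, swap_apply_of_ne_of_ne hrp hrq, swap_apply_right]
  have ix : ∀ x, x ≠ p → x ≠ q → x ≠ r → (swap q r * swap p q) x = x := by
    intro x h1 h2 h3
    rw [Perm.mul_apply, swap_apply_of_ne_of_ne h1 h2, swap_apply_of_ne_of_ne h2 h3]
  rw [hinv]
  have c1 : ((swap p q * swap q r) * β * (swap q r * swap p q)) p ≠ α p := by
    rw [Perm.mul_apply, Perm.mul_apply, ip, hαp]
    intro h
    -- τ (β r) = q, so β r = p
    by_cases h1 : β r = p
    · exact hs h1
    by_cases h2 : β r = q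
    · rw [h2, tq] at h; exact hrq h
    by_cases h3 : β r = r
    · rw [h3, tr] at h; exact hpq h
    · rw [tx _ h1 h2 h3] at h; exact h2 h
  refine ⟨fun x hx => ?_, c1⟩
  by_cases hxp : x = p
  · subst hxp; exact absurd hx c1
  by_cases hxq : x = q
  · subst hxq
    rw [Perm.mul_apply, Perm.mul_apply, iq, hq, tq] at hx
    rw [hr]; exact hx
  by_cases hxr : x = r
  · subst hxr
    exfalso
    rw [Perm.mul_apply, Perm.mul_apply, ir, hr, tr] at hx
    exact hαr hx.symm
  rw [Perm.mul_apply, Perm.mul_apply, ix x hxp hxq hxr] at hx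
  by_cases h1 : β x = p
  · exfalso
    rw [h1, tp] at hx
    rw [← hαp] at hx
    exact hxp (α.injective hx).symm
  by_cases h2 : β x = q
  · exfalso
    rw [← hq] at h2
    exact hxp (β.injective h2)
  by_cases h3 : β x = r
  · exfalso
    rw [← hr] at h3
    exact hxq (β.injective h3)
  rwa [tx _ h1 h2 h3] at hx

theorem exists_notMem (S : Finset (Fin n)) (h : S.card < n) : ∃ r, r ∉ S := by
  by_contra hcon
  push Not at hcon
  have : S = Finset.univ := Finset.eq_univ_iff_forall.mpr hcon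
  rw [this, Finset.card_univ, Fintype.card_fin] at h
  exact lt_irrefl _ h

/-- The alternating group of degree at least 5 is 3-transitive. -/
theorem exists_even_map3 (hn : 5 ≤ n) (u₁ u₂ u₃ x₁ x₂ x₃ : Fin n)
    (hu12 : u₁ ≠ u₂) (hu13 : u₁ ≠ u₃) (hu23 : u₂ ≠ u₃)
    (hx12 : x₁ ≠ x₂) (hx13 : x₁ ≠ x₃) (hx23 : x₂ ≠ x₃) :
    ∃ h : Perm (Fin n), h ∈ alternatingGroup (Fin n) ∧ h u₁ = x₁ ∧ h u₂ = x₂ ∧ h u₃ = x₃ := by
  set σ₁ : Perm (Fin n) := swap u₁ x₁ with hσ₁
  set σ₂ : Perm (Fin n) := swap (σ₁ u₂) x₂ with hσ₂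
  set σ₃ : Perm (Fin n) := swap (σ₂ (σ₁ u₃)) x₃ with hσ₃
  have e1 : σ₁ u₁ = x₁ := swap_apply_left _ _
  have e2 : σ₂ (σ₁ u₂) = x₂ := swap_apply_left _ _
  have e3 : σ₃ (σ₂ (σ₁ u₃)) = x₃ := swap_apply_left _ _
  have f1 : σ₂ x₁ = x₁ := by
    apply swap_apply_of_ne_of_ne
    · rw [← e1]; exact fun h => hu12 (σ₁.injective h)
    · exact hx12
  have f2 : σ₃ x₁ = x₁ := by
    apply swap_apply_of_ne_of_ne
    · intro h
      have : σ₂ (σ₁ u₁) = σ₂ (σ₁ u₃) := by rw [e1, f1]; exact h
      exact hu13 (σ₁.injective (σ₂.injective this))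
    · exact hx13
  have f3 : σ₃ x₂ = x₂ := by
    apply swap_apply_of_ne_of_ne
    · intro h
      have : σ₂ (σ₁ u₂) = σ₂ (σ₁ u₃) := by rw [e2]; exact h
      exact hu23 (σ₁.injective (σ₂.injective this))
    · exact hx23
  set h₀ : Perm (Fin n) := σ₃ * σ₂ * σ₁ with hh₀
  have g1 : h₀ u₁ = x₁ := by
    rw [hh₀, Perm.mul_apply, Perm.mul_apply, e1, f1, f2]
  have g2 : h₀ u₂ = x₂ := by
    rw [hh₀, Perm.mul_apply, Perm.mul_apply, e2, f3]
  have g3 : h₀ u₃ = x₃ := by
    rw [hh₀, Perm.mul_apply, Perm.mul_apply, e3]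
  rcases Int.units_eq_one_or (Perm.sign h₀) with hs | hs
  · exact ⟨h₀, Perm.mem_alternatingGroup.mpr hs, g1, g2, g3⟩
  · obtain ⟨v, hv⟩ := exists_notMem ({u₁, u₂, u₃} : Finset (Fin n)) (by
      have := Finset.card_le_three (a := u₁) (b := u₂) (c := u₃); omega)
    obtain ⟨w, hw⟩ := exists_notMem ({u₁, u₂, u₃, v} : Finset (Fin n)) (by
      have := Finset.card_le_four (a := u₁) (b := u₂) (c := u₃) (d := v); omega)
    simp only [Finset.mem_insert, Finset.mem_singleton, not_or] at hv hw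
    refine ⟨h₀ * swap v w, ?_, ?_, ?_, ?_⟩
    · rw [Perm.mem_alternatingGroup, map_mul, hs, Perm.sign_swap (fun h => hw.2.2.2 h.symm)]
      rfl
    · rw [Perm.mul_apply, swap_apply_of_ne_of_ne (fun h => hv.1 h.symm) (fun h => hw.1 h.symm), g1]
    · rw [Perm.mul_apply, swap_apply_of_ne_of_ne (fun h => hv.2.1 h.symm) (fun h => hw.2.1 h.symm), g2]
    · rw [Perm.mul_apply, swap_apply_of_ne_of_ne (fun h => hv.2.2 h.symm) (fun h => hw.2.2.1 h.symm), g3]

/-- If all cycles of `b` have length at most 3 and the degree is at least 5, then some odd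
permutation commutes with `b`. -/
theorem exists_odd_centralizer (hn : 5 ≤ n) (b : Perm (Fin n))
    (hS : ∀ u, b u = u ∨ b (b u) = u ∨ b (b (b u)) = u) :
    ∃ s : Perm (Fin n), s * b = b * s ∧ Perm.sign s = -1 := by
  by_contra hcon
  push Not at hcon
  have hle : Subgroup.centralizer {b} ≤ alternatingGroup (Fin n) := by
    intro s hs
    rw [Subgroup.mem_centralizer_singleton_iff] at hs
    rw [Perm.mem_alternatingGroup]
    rcases Int.units_eq_one_or (Perm.sign s) with h | h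
    · exact h
    · exact absurd h (hcon s hs)
  obtain ⟨hodd, hfix, hcount⟩ := Equiv.Perm.centralizer_le_alternating_iff.mp hle
  -- all cycle lengths are at most 3
  have hle3 : ∀ c ∈ b.cycleType, c ≤ 3 := by
    intro c hc
    obtain ⟨σ, τ, hb, hdisj, hcyc, hcard⟩ := Perm.mem_cycleType_iff.mp hc
    obtain ⟨u, hu⟩ : ∃ u, σ u ≠ u := by
      obtain ⟨u, hu, -⟩ := hcyc
      exact ⟨u, hu⟩
    have hfixτ : ∀ x, σ x ≠ x → τ x = x := by
      intro x hx
      rcases Perm.disjoint_iff_eq_or_eq.mp hdisj x with h | h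
      · exact absurd h hx
      · exact h
    have hbx : ∀ x, σ x ≠ x → b x = σ x := by
      intro x hx
      rw [hb, Perm.mul_apply, hfixτ x hx]
    have hu2 : σ (σ u) ≠ σ u := fun h => hu (σ.injective h)
    have hu3 : σ (σ (σ u)) ≠ σ (σ u) := fun h => hu2 (σ.injective h)
    have b1 : b u = σ u := hbx u hu
    have b2 : b (b u) = σ (σ u) := by rw [b1, hbx _ hu2]
    have b3 : b (b (b u)) = σ (σ (σ u)) := by rw [b2, hbx _ hu3]
    rw [← hcard, ← hcyc.orderOf]
    rcases hS u with h | h | h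
    · rw [b1] at h; exact absurd h hu
    · rw [b2] at h
      have : σ ^ 2 = 1 := (hcyc.pow_eq_one_iff' hu).mpr (by simpa [pow_two] using h)
      have := Nat.le_of_dvd (by norm_num) (orderOf_dvd_of_pow_eq_one this)
      omega
    · rw [b3] at h
      have : σ ^ 3 = 1 := (hcyc.pow_eq_one_iff' hu).mpr (by simpa [pow_succ] using h)
      exact Nat.le_of_dvd (by norm_num) (orderOf_dvd_of_pow_eq_one this)
  have h3 : ∀ c ∈ b.cycleType, c = 3 := by
    intro c hc
    have h1 := hle3 c hc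
    have h2 := Perm.two_le_of_mem_cycleType hc
    have h4 := hodd c hc
    rcases Nat.lt_or_ge c 3 with h | h
    · have : c = 2 := by omega
      rw [this] at h4
      exact absurd h4 (by decide)
    · omega
  have hrep : b.cycleType = Multiset.replicate (Multiset.card b.cycleType) 3 :=
    Multiset.eq_replicate.mpr ⟨rfl, h3⟩
  have hc3 := hcount 3
  rw [hrep, Multiset.count_replicate_self] at hc3
  have hsum : b.cycleType.sum ≤ 3 := by
    rw [hrep, Multiset.sum_replicate, smul_eq_mul]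
    nlinarith
  rw [Fintype.card_fin] at hfix
  omega

/-- Let n ≥ 5 and let a, b be non-identity permutations in the symmetric group S_n. Then the number of fixed points is not constant on the set of products a′b′ with a′ conjugate to a and b′ conjugate to b under the alternating group: there are even permutations g₁, h₁, g₂, h₂ such that (g₁ a g₁⁻¹)(h₁ b h₁⁻¹) and (g₂ a g₂⁻¹)(h₂ b h₂⁻¹) have different numbers of fixed points. -/
theorem result (n : ℕ) (hn : 5 ≤ n) (a b : Equiv.Perm (Fin n)) (ha : a ≠ 1) (hb : b ≠ 1) :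
    ∃ g₁ h₁ g₂ h₂ : Equiv.Perm (Fin n), g₁ ∈ alternatingGroup (Fin n) ∧ h₁ ∈ alternatingGroup (Fin n) ∧ g₂ ∈ alternatingGroup (Fin n) ∧ h₂ ∈ alternatingGroup (Fin n) ∧
      Nat.card (Function.fixedPoints ⇑(g₁ * a * g₁⁻¹ * (h₁ * b * h₁⁻¹))) ≠
        Nat.card (Function.fixedPoints ⇑(g₂ * a * g₂⁻¹ * (h₂ * b * h₂⁻¹))) := by
  -- it suffices to find two even conjugates of `b`
  suffices key : ∃ h₁ h₂ : Perm (Fin n), h₁ ∈ alternatingGroup (Fin n) ∧ h₂ ∈ alternatingGroup (Fin n) ∧
      Nat.card (Function.fixedPoints ⇑(a * (h₂ * b * h₂⁻¹))) <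
        Nat.card (Function.fixedPoints ⇑(a * (h₁ * b * h₁⁻¹))) by
    obtain ⟨h₁, h₂, hh₁, hh₂, hlt⟩ := key
    refine ⟨1, h₁, 1, h₂, Subgroup.one_mem _, hh₁, Subgroup.one_mem _, hh₂, ?_⟩
    simp only [one_mul, inv_one, mul_one]
    exact (ne_of_lt hlt).symm
  set α : Perm (Fin n) := a⁻¹ with hα
  -- a point moved by α
  obtain ⟨x₁, hx₁⟩ : ∃ x, α x ≠ x := by
    by_contra hcon
    push Not at hcon
    apply ha
    have : α = 1 := Perm.ext hcon
    rw [hα, inv_eq_one] at this
    exact this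
  set x₂ := α x₁ with hx₂
  -- a point moved by b
  obtain ⟨u₁, hu₁⟩ : ∃ u, b u ≠ u := by
    by_contra hcon
    push Not at hcon
    exact hb (Perm.ext hcon)
  by_cases hL : ∃ u, b u ≠ u ∧ b (b u) ≠ u ∧ b (b (b u)) ≠ u
  · -- a long cycle: rotation move
    obtain ⟨u, hu1, hu2, hu3⟩ := hL
    have hu12 : u ≠ b u := fun h => hu1 h.symm
    have hu13 : u ≠ b (b u) := fun h => hu2 h.symm
    have hu23 : b u ≠ b (b u) := fun h => hu12 (b.injective h)
    obtain ⟨x₃, hx₃⟩ := exists_notMem ({x₁, x₂, α⁻¹ x₁} : Finset (Fin n)) (by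
      have := Finset.card_le_three (a := x₁) (b := x₂) (c := α⁻¹ x₁); omega)
    simp only [Finset.mem_insert, Finset.mem_singleton, not_or] at hx₃
    obtain ⟨h, hhA, h1, h2, h3⟩ := exists_even_map3 hn u (b u) (b (b u)) x₁ x₂ x₃ hu12 hu13 hu23
      (fun h => hx₁ h.symm) (fun h => hx₃.1 h.symm) (fun h => hx₃.2.1 h.symm)
    set β : Perm (Fin n) := h * b * h⁻¹ with hβ
    have hβ1 : β x₁ = x₂ := by
      rw [hβ, Perm.mul_apply, Perm.mul_apply, ← h1, inv_app, h2]
    have hβ2 : β x₂ = x₃ := by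
      rw [hβ, Perm.mul_apply, Perm.mul_apply, ← h2, inv_app, h3]
    have hβ3 : β x₃ ≠ x₁ := by
      rw [hβ, Perm.mul_apply, Perm.mul_apply, ← h3, inv_app, ← h1]
      exact fun hh => hu3 (h.injective hh)
    have hαr : α x₃ ≠ x₁ := by
      intro hh
      apply hx₃.2.2
      rw [Perm.eq_inv_iff_eq]; exact hh
    obtain ⟨m1, m2⟩ := rot_move α β x₁ x₂ x₃ hβ1 hβ2 rfl hx₁ hx₃.1 hβ3 hαr
    refine ⟨h, swap x₁ x₂ * swap x₂ x₃ * h, hhA, ?_, ?_⟩
    · rw [Perm.mem_alternatingGroup, map_mul, map_mul, Perm.sign_swap (fun h => hx₁ h.symm),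
        Perm.sign_swap (fun h => hx₃.2.1 h.symm), Perm.mem_alternatingGroup.mp hhA]
      rfl
    · have hconj : swap x₁ x₂ * swap x₂ x₃ * h * b * (swap x₁ x₂ * swap x₂ x₃ * h)⁻¹
          = (swap x₁ x₂ * swap x₂ x₃) * β * (swap x₁ x₂ * swap x₂ x₃)⁻¹ := by
        rw [hβ]; group
      rw [hconj]
      exact loss a β _ m1 x₁ hβ1 m2
  · -- all cycles short: transposition move
    push Not at hL
    have hS : ∀ u, b u = u ∨ b (b u) = u ∨ b (b (b u)) = u := by
      intro u
      by_cases h1 : b u = u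
      · exact Or.inl h1
      by_cases h2 : b (b u) = u
      · exact Or.inr (Or.inl h2)
      · exact Or.inr (Or.inr (hL u h1 h2))
    obtain ⟨s, hsb, hsign⟩ := exists_odd_centralizer hn b hS
    -- auxiliary third points
    obtain ⟨u₃, hu₃⟩ := exists_notMem ({u₁, b u₁} : Finset (Fin n)) (by
      have := Finset.card_le_two (a := u₁) (b := b u₁); omega)
    obtain ⟨x₃, hx₃⟩ := exists_notMem ({x₁, x₂} : Finset (Fin n)) (by
      have := Finset.card_le_two (a := x₁) (b := x₂); omega)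
    simp only [Finset.mem_insert, Finset.mem_singleton, not_or] at hu₃ hx₃
    obtain ⟨h, hhA, h1, h2, -⟩ := exists_even_map3 hn u₁ (b u₁) u₃ x₁ x₂ x₃ (fun h => hu₁ h.symm)
      (fun h => hu₃.1 h.symm) (fun h => hu₃.2 h.symm)
      (fun h => hx₁ h.symm) (fun h => hx₃.1 h.symm) (fun h => hx₃.2 h.symm)
    set β : Perm (Fin n) := h * b * h⁻¹ with hβ
    have hβ1 : β x₁ = α x₁ := by
      have hβ1' : β x₁ = x₂ := by
        rw [hβ, Perm.mul_apply, Perm.mul_apply, ← h1, inv_app, h2]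
      exact hβ1'.trans hx₂
    obtain ⟨r, hr⟩ := exists_notMem ({x₁, α x₁, α (β⁻¹ x₁), β (α⁻¹ x₁)} : Finset (Fin n)) (by
      have := Finset.card_le_four (a := x₁) (b := α x₁) (c := α (β⁻¹ x₁)) (d := β (α⁻¹ x₁)); omega)
    simp only [Finset.mem_insert, Finset.mem_singleton, not_or] at hr
    obtain ⟨m1, m2⟩ := swap_move α β x₁ r hβ1 hx₁ hr.1 hr.2.1 hr.2.2.1 hr.2.2.2
    refine ⟨h, swap x₁ r * h * s, hhA, ?_, ?_⟩
    · rw [Perm.mem_alternatingGroup, map_mul, map_mul, Perm.sign_swap (fun h => hr.1 h.symm),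
        Perm.mem_alternatingGroup.mp hhA, hsign]
      rfl
    · have hconj : swap x₁ r * h * s * b * (swap x₁ r * h * s)⁻¹ = swap x₁ r * β * swap x₁ r := by
        have hs' : s * b * s⁻¹ = b := by rw [hsb]; group
        have : swap x₁ r * h * s * b * (swap x₁ r * h * s)⁻¹
            = swap x₁ r * h * (s * b * s⁻¹) * h⁻¹ * (swap x₁ r)⁻¹ := by group
        rw [this, hs', swap_inv, hβ]; group
      rw [hconj]
      exact loss a β _ m1 x₁ hβ1 m2

end Cfsg.Agent.S2271
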