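import Cfsg.Statements.S2276
import Cfsg.Agent.Lib.Helper75.APair.Top
import Cfsg.Agent.Lib.Helper75.APair.RL
import Cfsg.Agent.Lib.Helper75.APair.INV
import Cfsg.Agent.Lib.Helper75.APair.Fin
import Cfsg.Agent.Lib.Helper75.APair.C3
import Cfsg.Agent.Lib.Helper75.APair.TLb
import Cfsg.Agent.Lib.Helper29.APair.TLa
import Cfsg.Agent.Lib.Helper29.APair.C3B
import Cfsg.Agent.Lib.Helper43.APair.S3
import Cfsg.Agent.Lib.Helper43.APair.RedA
import Cfsg.Agent.Lib.Helper43.APair.RedB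
import Cfsg.Agent.Lib.Helper43.APair.RedC
import Cfsg.Agent.Lib.Helper66.APair.Rot
import Cfsg.Agent.Lib.Helper66.APair.OC
import Cfsg.Agent.Lib.Helper72.APair.Conj
import Cfsg.Agent.Lib.Helper72.APair.Symm
import Cfsg.Agent.Lib.Helper72.APair.OddComm
import Cfsg.Agent.Lib.Helper72.APair.Even
import Cfsg.Agent.Lib.Helper72.APair.NSG
import Cfsg.Agent.Lib.Helper72.APair.NS5
import Cfsg.Agent.Lib.Helper84.APair.C1
import Cfsg.Agent.Lib.Helper84.APair.EQ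
import Cfsg.Agent.Lib.Helper84.APair.C3A
import Cfsg.Agent.Lib.Helper84.APair.C3C

set_option autoImplicit false
open Cfsg

namespace Cfsg.Agent.S2276

/-- Let n ≥ 5, p ≥ 3 a prime, and u, w non-identity elements of p-power order in the alternating group A_n. Then there is g ∈ A_n such that u·(g w g⁻¹) does not have p-power order and ⟨u, g w g⁻¹⟩ is not solvable. -/
theorem result (n : ℕ) (hn : 5 ≤ n) (p : ℕ) (hp : p.Prime) (hp3 : 3 ≤ p) (u w : alternatingGroup (Fin n)) (hu : u ≠ 1) (hw : w ≠ 1)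
    (hu' : ∃ k : ℕ, orderOf u = p ^ k) (hw' : ∃ k : ℕ, orderOf w = p ^ k) :
    ∃ g : alternatingGroup (Fin n), (¬ ∃ k : ℕ, orderOf (u * (g * w * g⁻¹)) = p ^ k) ∧
      ¬ Group.IsSolvable ↥(Subgroup.closure ({u, g * w * g⁻¹} : Set (alternatingGroup (Fin n)))) := by
  have hTLa := Cfsg.Agent.Lib.Helper29.APair.pkgTLa
  have hTLb := Cfsg.Agent.Lib.Helper75.APair.pkgTLb
  have hRL := Cfsg.Agent.Lib.Helper75.APair.pkgRL
  have hFC := Cfsg.Agent.Lib.Helper66.APair.pkgFC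
  have hRot := Cfsg.Agent.Lib.Helper66.APair.pkgRot
  have hOC := Cfsg.Agent.Lib.Helper66.APair.pkgOC
  have hEven := Cfsg.Agent.Lib.Helper72.APair.pkgEven
  have hNS5 := Cfsg.Agent.Lib.Helper72.APair.pkgNS5
  have hNSG := Cfsg.Agent.Lib.Helper72.APair.pkgNSG
  have hODDC := Cfsg.Agent.Lib.Helper72.APair.pkgOddComm
  have hSymm := Cfsg.Agent.Lib.Helper72.APair.pkgSymm
  have hRedA := Cfsg.Agent.Lib.Helper43.APair.pkgRedA
  have hRedB := Cfsg.Agent.Lib.Helper43.APair.pkgRedB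
  have hRedC := Cfsg.Agent.Lib.Helper43.APair.pkgRedC
  have hEQ := Cfsg.Agent.Lib.Helper84.APair.pkgEQ hFC hEven hNS5
  have hC1 := Cfsg.Agent.Lib.Helper84.APair.pkgC1 hTLa hTLb hOC hODDC hFC hEven hNS5
  have hC3A := Cfsg.Agent.Lib.Helper84.APair.pkgC3A hTLa hTLb hFC hNS5 hODDC
  have hC3B := Cfsg.Agent.Lib.Helper29.APair.pkgC3B hODDC hFC hEven hNS5
  have hC3C := Cfsg.Agent.Lib.Helper84.APair.pkgC3C hRL hRedB hTLa hEven hNS5 hODDC
  have hC3 := Cfsg.Agent.Lib.Helper75.APair.pkgC3 hTLa hC3A hC3B hC3C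
  have hS3 := Cfsg.Agent.Lib.Helper43.APair.pkgS3 hRL hNSG
  exact Cfsg.Agent.Lib.Helper75.APair.top_result hSymm hRot hRL
    Cfsg.Agent.Lib.Helper75.APair.pkgINV hRedA hRedB hRedC Cfsg.Agent.Lib.Helper75.APair.pkgFin
    hEQ hC1 hC3 hS3 n hn p hp hp3 u w hu hw hu' hw'

end Cfsg.Agent.S2276
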