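import Cfsg.Statements.S2318
import Cfsg.Agent.Lib.Helper36.Stu.Main
import Cfsg.Agent.Lib.Helper36.Stu.CQ
import Cfsg.Agent.Lib.Helper36.Stu.CM
import Cfsg.Agent.Lib.Helper36.Stu.CR
import Cfsg.Agent.Lib.Helper36.Stu.CT
import Cfsg.Agent.Lib.Helper36.Stu.CP
import Cfsg.Agent.Lib.Helper36.Stu.CS1
import Cfsg.Agent.Lib.Helper36.Stu.CS2
import Cfsg.Agent.Lib.Helper36.Stu.CLa
import Cfsg.Agent.Lib.Helper80.Stu.CGlue
import Cfsg.Agent.Lib.Helper80.Stu.CLb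
import Cfsg.Agent.Lib.Helper22.Stu.Burn
import Cfsg.Agent.Lib.Helper22.Stu.Fib
import Cfsg.Agent.Lib.Helper22.Stu.Frob
import Cfsg.Agent.Lib.Helper22.Stu.ParSum
import Cfsg.Agent.Lib.Helper1.Stu.Uniq
import Cfsg.Agent.Lib.Helper1.Stu.Cmp
import Cfsg.Agent.Lib.Helper10.Stu.AddChar
import Cfsg.Agent.Lib.Helper47.Stu.Sph
import Cfsg.Agent.Lib.Helper98.Stu.Torus
import Cfsg.Agent.Lib.Helper98.Stu.Quad
import Cfsg.Agent.Lib.Helper93.Stu.Mult1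

set_option autoImplicit false
open Cfsg

namespace Cfsg.Agent.S2318

/-- In a Chevalley group of type G₂, B₂, D₄, F₄, E₆, E₇ or E₈ over a finite field of characteristic p (for types G₂ and B₂ the field is assumed to have at least 3 elements, so that the group is perfect), the Steinberg character is the only irreducible complex character whose degree is divisible by the full power of p dividing the group order (the only irreducible character of p-defect zero). -/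
theorem result {F : Type*} [Field F] [Fintype F] (p : ℕ) [Fact p.Prime] [CharP F p] (D : Cfsg.Lie.ChevalleyDatum) (hD : D ∈ [Cfsg.Lie.chevG2, Cfsg.Lie.chevB2, Cfsg.Lie.chevD4, Cfsg.Lie.chevF4, Cfsg.Lie.chevE6, Cfsg.Lie.chevE7, Cfsg.Lie.chevE8]) (hq : (D = Cfsg.Lie.chevG2 ∨ D = Cfsg.Lie.chevB2) → 3 ≤ Fintype.card F)
    (χ : ↥(D.group F) → ℂ) (hχ : Cfsg.IsIrrCharacter ↥(D.group F) χ)
    (hdeg : ∃ d : ℕ, χ 1 = (d : ℂ) ∧ p ^ (Nat.card ↥(D.group F)).factorization p ∣ d) :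
    χ = D.steinbergCharacter F := by
  exact Cfsg.Agent.Lib.Helper36.Stu.stu_main
    Cfsg.Agent.Lib.Helper47.Stu.pkgSph Cfsg.Agent.Lib.Helper98.Stu.pkgTorus
    Cfsg.Agent.Lib.Helper1.Stu.pkgCmp Cfsg.Agent.Lib.Helper1.Stu.pkgUniq
    Cfsg.Agent.Lib.Helper98.Stu.pkgQuad Cfsg.Agent.Lib.Helper22.Stu.pkgFib
    Cfsg.Agent.Lib.Helper93.Stu.pkgMult1 Cfsg.Agent.Lib.Helper10.Stu.pkgAddChar
    Cfsg.Agent.Lib.Helper22.Stu.pkgBurn Cfsg.Agent.Lib.Helper22.Stu.pkgFrob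
    Cfsg.Agent.Lib.Helper22.Stu.pkgParSum Cfsg.Agent.Lib.Helper80.Stu.pkgCGlue
    Cfsg.Agent.Lib.Helper36.Stu.pkgCQ_aux Cfsg.Agent.Lib.Helper36.Stu.pkgCM_aux
    Cfsg.Agent.Lib.Helper36.Stu.pkgCR_aux Cfsg.Agent.Lib.Helper36.Stu.pkgCT_aux
    Cfsg.Agent.Lib.Helper36.Stu.pkgCP_aux Cfsg.Agent.Lib.Helper36.Stu.pkgCS1_aux
    Cfsg.Agent.Lib.Helper36.Stu.pkgCS2_aux Cfsg.Agent.Lib.Helper36.Stu.pkgCLa_aux
    Cfsg.Agent.Lib.Helper80.Stu.pkgCLb p D hD χ hχ hdeg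

end Cfsg.Agent.S2318
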