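import Cfsg.Statements.S2331
import Cfsg.Agent.Lib.Helper39.SL2

set_option autoImplicit false
open Cfsg

namespace Cfsg.Agent.S2331

open Matrix Cfsg.Agent.Lib.Helper39

variable {F : Type*} [Field F]

/-- the parametrisation of classes. -/
def classMap : Option F → ConjClasses (Matrix.SpecialLinearGroup (Fin 2) F)
  | none => ConjClasses.mk 1
  | some t => ConjClasses.mk (twSL t 1)

theorem not_nonScal_one : ¬ NonScal ((1 : Matrix.SpecialLinearGroup (Fin 2) F) : Matrix (Fin 2) (Fin 2) F) := by
  have := not_nonScal_smul_one (1 : F)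
  rw [one_smul] at this
  exact this

theorem classMap_injective : Function.Injective (classMap (F := F)) := by
  rintro (_ | t) (_ | t') h
  · rfl
  · exfalso
    simp only [classMap, ConjClasses.mk_eq_mk_iff_isConj] at h
    exact not_nonScal_one (sl2_nonScal_of_isConj h.symm (twMat_nonScal _ one_ne_zero))
  · exfalso
    simp only [classMap, ConjClasses.mk_eq_mk_iff_isConj] at h
    exact not_nonScal_one (sl2_nonScal_of_isConj h (twMat_nonScal _ one_ne_zero))
  · simp only [classMap, ConjClasses.mk_eq_mk_iff_isConj] at h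
    have h1 := sl2_trace_eq_of_isConj h
    rw [twSL_coe, twSL_coe, twMat_trace, twMat_trace] at h1
    rw [h1]

theorem classMap_surjective [Fintype F] [CharP F 2] : Function.Surjective (classMap (F := F)) := by
  intro C
  obtain ⟨g, rfl⟩ := ConjClasses.mk_surjective C
  by_cases hg : NonScal (g : Matrix (Fin 2) (Fin 2) F)
  · obtain ⟨x, y, hxy⟩ := exists_cyc_of_nonScal hg
    obtain ⟨e, he⟩ := FiniteField.isSquare_of_char_two (ringChar.eq F 2)
      ((cycMat (g : Matrix (Fin 2) (Fin 2) F) x y).det)
    refine ⟨some (g : Matrix (Fin 2) (Fin 2) F).trace, ?_⟩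
    simp only [classMap, ConjClasses.mk_eq_mk_iff_isConj]
    apply IsConj.symm
    apply sl2_isConj_of_cyc g _ x y e 0
    · rw [twSL_coe, twMat_trace]
    · rw [twSL_coe, twMat_cyc_det, he]
      simp
      ring
    · exact hxy
  · refine ⟨none, ?_⟩
    have h1 := eq_smul_one_of_not_nonScal hg
    have hd := g.det_coe
    have hns := hg
    unfold NonScal at hns
    push Not at hns
    obtain ⟨e1, e2, e3⟩ := hns
    have ha2 : (g : Matrix (Fin 2) (Fin 2) F) 0 0 * (g : Matrix (Fin 2) (Fin 2) F) 0 0 = 1 := by
      rw [Matrix.det_fin_two, e1, e2, ← e3] at hd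
      simpa using hd
    have h2 : (2 : F) = 0 := CharP.ofNat_eq_zero F 2
    have ha : (g : Matrix (Fin 2) (Fin 2) F) 0 0 = 1 := by
      have : ((g : Matrix (Fin 2) (Fin 2) F) 0 0 - 1) ^ 2 = 0 := by
        linear_combination ha2 - (g : Matrix (Fin 2) (Fin 2) F) 0 0 * h2 + h2
      exact sub_eq_zero.mp (pow_eq_zero_iff (two_ne_zero) |>.mp this)
    simp only [classMap]
    congr 1
    apply Subtype.ext
    rw [h1, ha, one_smul]
    rfl

/-- Over a finite field with q elements, q even, the special linear group SL₂ has exactly q + 1 conjugacy classes. -/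
theorem result {F : Type*} [Field F] [Fintype F] [CharP F 2] :
    Nat.card (ConjClasses (Matrix.SpecialLinearGroup (Fin 2) F)) = Fintype.card F + 1 := by
  classical
  have hbij : Function.Bijective (classMap (F := F)) := ⟨classMap_injective, classMap_surjective⟩
  rw [← Nat.card_congr (Equiv.ofBijective _ hbij), Nat.card_eq_fintype_card, Fintype.card_option]

end Cfsg.Agent.S2331
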