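import Cfsg.Statements.S2401
import Mathlib
import Cfsg.Agent.Lib.Helper35.Pres.Final

set_option autoImplicit false
open Cfsg

namespace Cfsg.Agent.S2401

open scoped commutatorElement in
/-- The Steinberg presentation of `SL_n` over a finite field for `n ≥ 3`: the group generated by symbols `x_ij(t)` (`i ≠ j`, `t` in the field) subject to `x_ij(t) x_ij(u) = x_ij(t + u)` and, for `i ≠ l`, `x_ij(t) x_kl(u) x_ij(t)⁻¹ x_kl(u)⁻¹ = x_il(tu)` if `j = k` and `= 1` if `j ≠ k`, is isomorphic to `SL_n` by an isomorphism sending `x_ij(t)` to the elementary matrix `1 + t E_ij`. -/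
theorem result {K : Type*} [Field K] [Finite K] (n : ℕ) (hn : 3 ≤ n) :
    ∃ e : PresentedGroup
        ({g : FreeGroup ({ij : Fin n × Fin n // ij.1 ≠ ij.2} × K) | ∃ (a : {ij : Fin n × Fin n // ij.1 ≠ ij.2}) (t u : K),
            g = FreeGroup.of (a, t) * FreeGroup.of (a, u) * (FreeGroup.of (a, t + u))⁻¹} ∪
          {g | ∃ (a b : {ij : Fin n × Fin n // ij.1 ≠ ij.2}) (t u : K), a.1.1 ≠ b.1.2 ∧ a.1.2 ≠ b.1.1 ∧
            g = FreeGroup.of (a, t) * FreeGroup.of (b, u) * (FreeGroup.of (a, t))⁻¹ * (FreeGroup.of (b, u))⁻¹} ∪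
          {g | ∃ (a b : {ij : Fin n × Fin n // ij.1 ≠ ij.2}) (h : a.1.1 ≠ b.1.2) (t u : K), a.1.2 = b.1.1 ∧
            g = FreeGroup.of (a, t) * FreeGroup.of (b, u) * (FreeGroup.of (a, t))⁻¹ * (FreeGroup.of (b, u))⁻¹ *
              (FreeGroup.of (⟨(a.1.1, b.1.2), h⟩, t * u))⁻¹}) ≃* Matrix.SpecialLinearGroup (Fin n) K,
      ∀ (a : {ij : Fin n × Fin n // ij.1 ≠ ij.2}) (t : K), ((e (PresentedGroup.of (a, t)) : Matrix (Fin n) (Fin n) K)) = Matrix.transvection a.1.1 a.1.2 t := by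
  classical
  obtain ⟨m, rfl⟩ : ∃ m, n = m + 1 := ⟨n - 1, by omega⟩
  have : Fintype K := Fintype.ofFinite K
  generalize hrels : ({g : FreeGroup ({ij : Fin (m + 1) × Fin (m + 1) // ij.1 ≠ ij.2} × K) |
      ∃ (a : {ij : Fin (m + 1) × Fin (m + 1) // ij.1 ≠ ij.2}) (t u : K),
        g = FreeGroup.of (a, t) * FreeGroup.of (a, u) * (FreeGroup.of (a, t + u))⁻¹} ∪
      {g | ∃ (a b : {ij : Fin (m + 1) × Fin (m + 1) // ij.1 ≠ ij.2}) (t u : K),
        a.1.1 ≠ b.1.2 ∧ a.1.2 ≠ b.1.1 ∧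
        g = FreeGroup.of (a, t) * FreeGroup.of (b, u) * (FreeGroup.of (a, t))⁻¹ *
          (FreeGroup.of (b, u))⁻¹} ∪
      {g | ∃ (a b : {ij : Fin (m + 1) × Fin (m + 1) // ij.1 ≠ ij.2}) (h : a.1.1 ≠ b.1.2) (t u : K),
        a.1.2 = b.1.1 ∧
        g = FreeGroup.of (a, t) * FreeGroup.of (b, u) * (FreeGroup.of (a, t))⁻¹ *
          (FreeGroup.of (b, u))⁻¹ * (FreeGroup.of (⟨(a.1.1, b.1.2), h⟩, t * u))⁻¹}) = rels
  have hR1 : ∀ (a : {ij : Fin (m + 1) × Fin (m + 1) // ij.1 ≠ ij.2}) (t u : K),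
      FreeGroup.of (a, t) * FreeGroup.of (a, u) * (FreeGroup.of (a, t + u))⁻¹ ∈ rels := by
    intro a t u
    rw [← hrels]
    exact Or.inl (Or.inl ⟨a, t, u, rfl⟩)
  have hR2 : ∀ (a b : {ij : Fin (m + 1) × Fin (m + 1) // ij.1 ≠ ij.2}) (t u : K),
      a.1.1 ≠ b.1.2 → a.1.2 ≠ b.1.1 →
      FreeGroup.of (a, t) * FreeGroup.of (b, u) * (FreeGroup.of (a, t))⁻¹ *
          (FreeGroup.of (b, u))⁻¹ ∈ rels := by
    intro a b t u h1 h2
    rw [← hrels]
    exact Or.inl (Or.inr ⟨a, b, t, u, h1, h2, rfl⟩)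
  have hR3 : ∀ (a b : {ij : Fin (m + 1) × Fin (m + 1) // ij.1 ≠ ij.2}) (h : a.1.1 ≠ b.1.2)
      (t u : K), a.1.2 = b.1.1 →
      FreeGroup.of (a, t) * FreeGroup.of (b, u) * (FreeGroup.of (a, t))⁻¹ *
          (FreeGroup.of (b, u))⁻¹ * (FreeGroup.of (⟨(a.1.1, b.1.2), h⟩, t * u))⁻¹ ∈ rels := by
    intro a b h t u h1
    rw [← hrels]
    exact Or.inr ⟨a, b, h, t, u, h1, rfl⟩
  let f : {ij : Fin (m + 1) × Fin (m + 1) // ij.1 ≠ ij.2} × K →
      Matrix.SpecialLinearGroup (Fin (m + 1)) K :=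
    fun p => Cfsg.Agent.Lib.Helper35.SLn.ee p.1.1.1 p.1.1.2 p.2
  have hf : ∀ r ∈ rels, FreeGroup.lift f r = 1 := by
    intro r hr
    rw [← hrels] at hr
    rcases hr with (⟨a, t, u, rfl⟩ | ⟨a, b, t, u, h1, h2, rfl⟩) | ⟨a, b, h, t, u, h1, rfl⟩
    · simp only [map_mul, map_inv, FreeGroup.lift_apply_of, f]
      rw [Cfsg.Agent.Lib.Helper35.SLn.ee_add, mul_inv_cancel]
    · simp only [map_mul, map_inv, FreeGroup.lift_apply_of, f]
      have hc := Cfsg.Agent.Lib.Helper35.SLn.ee_comm (F := K) h2 h1 t u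
      rw [hc.eq]
      group
    · obtain ⟨⟨i, j⟩, hij⟩ := a
      obtain ⟨⟨k, l⟩, hkl⟩ := b
      simp only at h h1 hij hkl
      subst h1
      simp only [map_mul, map_inv, FreeGroup.lift_apply_of, f]
      have hc := Cfsg.Agent.Lib.Helper35.SLn.ee_commutator (F := K) hij hkl h t u
      rw [commutatorElement_def] at hc
      rw [hc, mul_inv_cancel]
  let τ : PresentedGroup rels →* Matrix.SpecialLinearGroup (Fin (m + 1)) K :=
    PresentedGroup.toGroup hf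
  let X : Fin (m + 1) → Fin (m + 1) → K → PresentedGroup rels := fun i j t =>
    if h : i ≠ j then PresentedGroup.of (⟨(i, j), h⟩, t) else 1
  have hXof : ∀ (i j : Fin (m + 1)) (h : i ≠ j) (t : K),
      X i j t = PresentedGroup.of (⟨(i, j), h⟩, t) := by
    intro i j h t
    simp only [X, dif_pos h]
  have hX : Cfsg.Agent.Lib.Helper35.SLPres.IsPre τ X := by
    refine ⟨?_, ?_, ?_, ?_⟩
    · intro i j t hij
      rw [hXof i j hij]
      exact PresentedGroup.toGroup.of hf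
    · intro i j s t hij
      rw [hXof i j hij, hXof i j hij, hXof i j hij]
      have h1 := PresentedGroup.one_of_mem (hR1 ⟨(i, j), hij⟩ s t)
      rw [map_mul, map_mul, map_inv, mul_inv_eq_one] at h1
      exact h1.symm
    · intro i j k s t hij hjk hik
      rw [hXof i j hij, hXof j k hjk, hXof i k hik]
      have h1 := PresentedGroup.one_of_mem (hR3 ⟨(i, j), hij⟩ ⟨(j, k), hjk⟩ hik s t rfl)
      rw [map_mul, map_mul, map_mul, map_mul, map_inv, map_inv, map_inv, mul_inv_eq_one] at h1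
      rw [commutatorElement_def]
      exact h1
    · intro i j k l s t hij hkl hjk hil
      rw [hXof i j hij, hXof k l hkl]
      have h1 := PresentedGroup.one_of_mem (hR2 ⟨(i, j), hij⟩ ⟨(k, l), hkl⟩ s t hil hjk)
      rw [map_mul, map_mul, map_mul, map_inv, map_inv, mul_inv_eq_one, mul_inv_eq_iff_eq_mul]
        at h1
      exact h1
  have hgen : Subgroup.closure {x | ∃ (i j : Fin (m + 1)) (t : K), i ≠ j ∧ x = X i j t} = ⊤ := by
    rw [eq_top_iff, ← PresentedGroup.closure_range_of rels, Subgroup.closure_le]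
    rintro x ⟨⟨⟨⟨i, j⟩, hij⟩, t⟩, rfl⟩
    exact Subgroup.subset_closure ⟨i, j, t, hij, (hXof i j hij t).symm⟩
  have hker := Cfsg.Agent.Lib.Helper35.SLPres.ker_eq_bot_of_isPre hX (by omega) hgen
  have hinj : Function.Injective τ := (MonoidHom.ker_eq_bot_iff τ).1 hker
  have : Nontrivial (Fin (m + 1)) := Fin.nontrivial_iff_two_le.2 (by omega)
  have hsurj : Function.Surjective τ := by
    rw [← MonoidHom.range_eq_top, MonoidHom.range_eq_map]
    apply Cfsg.Agent.Lib.Helper5.eq_top_of_transvection_mem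
    intro i j hij c
    refine ⟨X i j c, trivial, ?_⟩
    rw [hX.map i j c hij, Cfsg.Agent.Lib.Helper35.SLn.ee_of_ne hij]
  refine ⟨MulEquiv.ofBijective τ ⟨hinj, hsurj⟩, fun a t => ?_⟩
  obtain ⟨⟨i, j⟩, hij⟩ := a
  have h2 : (MulEquiv.ofBijective τ ⟨hinj, hsurj⟩) (PresentedGroup.of (⟨(i, j), hij⟩, t)) =
      τ (PresentedGroup.of (⟨(i, j), hij⟩, t)) := rfl
  have h1 : τ (PresentedGroup.of (⟨(i, j), hij⟩, t)) = Cfsg.Agent.Lib.Helper35.SLn.ee i j t :=
    PresentedGroup.toGroup.of hf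
  rw [h2, h1, Cfsg.Agent.Lib.Helper35.SLn.ee_of_ne hij,
    Matrix.SpecialLinearGroup.transvection_coe]
  rfl

end Cfsg.Agent.S2401
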