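import Cfsg.Statements.S2413
import Cfsg.Agent.Lib.Helper55.OOG.Asm
import Cfsg.Agent.Lib.Helper34.OOG.Exist
import Cfsg.Agent.Lib.Helper71.OOG.Alg
import Cfsg.Agent.Lib.Helper29.OOG.Conj
import Cfsg.Agent.Lib.Helper59.OOG.Comr
import Cfsg.Agent.Lib.Helper10.OOG.Pow
import Cfsg.Agent.Lib.Helper97.OOG.Om
import Cfsg.Agent.Lib.Helper29.OOG.Torus
import Cfsg.Agent.Lib.Helper1.OOG.Weyl
import Cfsg.Agent.Lib.Helper88.OOG.Levi
import Cfsg.Agent.Lib.Helper53.OOG.XL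
import Cfsg.Agent.Lib.Helper53.OOG.LeviOm
import Cfsg.Agent.Lib.Helper66.OOG.Shift
import Cfsg.Agent.Lib.Helper38.OOG.CoxB
import Cfsg.Agent.Lib.Helper38.OOG.Orb
import Cfsg.Agent.Lib.Helper10.OOG.Span
import Cfsg.Agent.Lib.Helper10.OOG.Char
import Cfsg.Agent.Lib.Helper10.OOG.Cop
import Cfsg.Agent.Lib.Helper52.OOG.Short
import Cfsg.Agent.Lib.Helper59.OOG.Long
import Cfsg.Agent.Lib.Helper37.OOG.EPerp
import Cfsg.Agent.Lib.Helper15.OOG.Red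
import Cfsg.Agent.Lib.Helper59.OOG.Line
import Cfsg.Agent.Lib.Helper6.OOG.Bridge

set_option autoImplicit false
open Cfsg

namespace Cfsg.Agent.S2413

/-- The simple orthogonal group `PΩ_{2m+1}(q)` (commutator subgroup of the orthogonal group of `x₀² + Σ x_i y_i` modulo its centre) with `m ≥ 2` and `q` odd is generated by two of its elements. -/
theorem result {F : Type*} [Field F] [Fintype F] (hodd : Odd (Fintype.card F)) (m : ℕ) (hm : 2 ≤ m) :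
    ∃ a b : Cfsg.POmega F (Cfsg.quadFormOdd m F), Subgroup.closure ({a, b} : Set (Cfsg.POmega F (Cfsg.quadFormOdd m F))) = ⊤ := by
  have hExist := Cfsg.Agent.Lib.Helper34.OOG.pkgExist
  have hAlg := Cfsg.Agent.Lib.Helper71.OOG.pkgAlg
  have hConj := Cfsg.Agent.Lib.Helper29.OOG.pkgConj
  have hComr := Cfsg.Agent.Lib.Helper59.OOG.pkgComr_of hAlg hConj
  have hPow := Cfsg.Agent.Lib.Helper10.OOG.pkgPow_of hAlg
  have hOm := Cfsg.Agent.Lib.Helper97.OOG.pkgOm_of hAlg hPow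
  have hXL := Cfsg.Agent.Lib.Helper53.OOG.pkgXL
  have hOrb := Cfsg.Agent.Lib.Helper38.OOG.pkgOrb
  have hRed := Cfsg.Agent.Lib.Helper15.OOG.pkgRed_of hExist
  have hEPerp := Cfsg.Agent.Lib.Helper37.OOG.pkgEPerp_of hExist hAlg
  exact Cfsg.Agent.Lib.Helper55.OOG.final_of
    (Cfsg.Agent.Lib.Helper55.OOG.main_of hExist hAlg hConj hPow hOm
      Cfsg.Agent.Lib.Helper29.OOG.pkgTorus Cfsg.Agent.Lib.Helper1.OOG.pkgWeyl
      Cfsg.Agent.Lib.Helper88.OOG.pkgLevi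
      (Cfsg.Agent.Lib.Helper53.OOG.pkgLeviOm_of hXL hOm)
      Cfsg.Agent.Lib.Helper66.OOG.pkgShift Cfsg.Agent.Lib.Helper38.OOG.pkgCoxB
      Cfsg.Agent.Lib.Helper10.OOG.pkgSpan Cfsg.Agent.Lib.Helper10.OOG.pkgChar
      Cfsg.Agent.Lib.Helper10.OOG.pkgCop
      (Cfsg.Agent.Lib.Helper52.OOG.pkgShort_of hExist hAlg hConj hOrb)
      (Cfsg.Agent.Lib.Helper59.OOG.pkgLong_of hExist hComr)
      (Cfsg.Agent.Lib.Helper59.OOG.pkgLine_of hAlg hConj hEPerp hRed)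
      Cfsg.Agent.Lib.Helper6.OOG.pkgBridge) F hodd m hm

end Cfsg.Agent.S2413
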