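import Cfsg.Statements.S2477
import Cfsg.Agent.Lib.Helper41.AltCycle

set_option autoImplicit false
open Cfsg

namespace Cfsg.Agent.S2477

open Cfsg.Agent.Lib.Helper41

/-- the final predicate: even parity forces the order into the list -/
def okOrder (L p : ℕ) : Bool :=
  p % 2 != 0 || decide (L ∈ [1, 2, 3, 4, 5, 6, 7, 8, 9, 10, 12, 15, 21])

/-- exhaustive search over all multisets of parts at least two with bounded sum -/
def good : ℕ → ℕ → ℕ → ℕ → Bool
  | 0, _, _, _ => true
  | fuel + 1, n, L, p =>
    okOrder L p &&
      (List.range (n + 1)).all (fun a => decide (a < 2) || good fuel (n - a) (Nat.lcm L a) (p + a + 1))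

theorem good_sound (t : Multiset ℕ) : ∀ (fuel n L p : ℕ), good fuel n L p = true →
    (∀ x ∈ t, 2 ≤ x) → t.sum ≤ n → Multiset.card t < fuel →
    okOrder (Nat.lcm L t.lcm) (p + t.sum + Multiset.card t) = true := by
  induction t using Multiset.induction_on with
  | empty =>
    intro fuel n L p hg _ _ hc
    obtain ⟨f, rfl⟩ : ∃ f, fuel = f + 1 := ⟨fuel - 1, by simp at hc; omega⟩
    simp only [good, Bool.and_eq_true] at hg
    simpa using hg.1
  | cons a u ih =>
    intro fuel n L p hg h2 hsum hc
    rw [Multiset.card_cons] at hc
    obtain ⟨f, rfl⟩ : ∃ f, fuel = f + 1 := ⟨fuel - 1, by omega⟩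
    simp only [good, Bool.and_eq_true, List.all_eq_true, List.mem_range, Bool.or_eq_true,
      decide_eq_true_eq] at hg
    rw [Multiset.sum_cons] at hsum
    have ha2 : 2 ≤ a := h2 a (Multiset.mem_cons_self a u)
    have h1 := hg.2 a (by omega)
    rcases h1 with h1 | h1
    · omega
    · have h3 := ih f (n - a) (Nat.lcm L a) (p + a + 1) h1
        (fun x hx => h2 x (Multiset.mem_cons_of_mem hx)) (by omega) (by omega)
      rw [Multiset.lcm_cons, Multiset.sum_cons, Multiset.card_cons, lcm_eq_nat_lcm,
        ← Nat.lcm_assoc]
      have e : p + (a + u.sum) + (Multiset.card u + 1) = p + a + 1 + u.sum + Multiset.card u := by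
        omega
      rw [e]
      exact h3

theorem good_ten : good 6 10 1 0 = true := by decide

/-- The set of element orders of the alternating group of degree 10 is {1, 2, 3, 4, 5, 6, 7, 8, 9, 10, 12, 15, 21}. -/
theorem result : Set.range (orderOf : alternatingGroup (Fin 10) → ℕ) = {1, 2, 3, 4, 5, 6, 7, 8, 9, 10, 12, 15, 21} := by
  apply Set.eq_of_subset_of_subset
  · rintro _ ⟨σ, rfl⟩
    obtain ⟨h2, hsum, hev, hlcm⟩ := alt_cycleType_props σ
    have hcard : Multiset.card (σ : Equiv.Perm (Fin 10)).cycleType < 6 := by
      have := Multiset.card_nsmul_le_sum h2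
      simp at this
      omega
    have := good_sound _ 6 10 1 0 good_ten h2 hsum hcard
    rw [hlcm] at this
    simp only [okOrder, Bool.or_eq_true, bne_iff_ne, ne_eq, decide_eq_true_eq, Nat.lcm_one_left,
      zero_add] at this
    rcases this with h | h
    · exfalso
      obtain ⟨k, hk⟩ := hev
      omega
    · simpa using h
  · intro x hx
    simp only [Set.mem_insert_iff, Set.mem_singleton_iff] at hx
    rcases hx with rfl | rfl | rfl | rfl | rfl | rfl | rfl | rfl | rfl | rfl | rfl | rfl | rfl
    · exact exists_alt_of_cycleType (n := 10) (0 : Multiset ℕ) (by simp) (by simp) (by simp)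
    · exact exists_alt_of_cycleType (n := 10) ({2, 2} : Multiset ℕ) (by decide) (by decide) (by decide)
    · exact exists_alt_of_cycleType (n := 10) ({3} : Multiset ℕ) (by decide) (by decide) (by decide)
    · exact exists_alt_of_cycleType (n := 10) ({4, 2} : Multiset ℕ) (by decide) (by decide) (by decide)
    · exact exists_alt_of_cycleType (n := 10) ({5} : Multiset ℕ) (by decide) (by decide) (by decide)
    · exact exists_alt_of_cycleType (n := 10) ({3, 2, 2} : Multiset ℕ) (by decide) (by decide) (by decide)
    · exact exists_alt_of_cycleType (n := 10) ({7} : Multiset ℕ) (by decide) (by decide) (by decide)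
    · exact exists_alt_of_cycleType (n := 10) ({8, 2} : Multiset ℕ) (by decide) (by decide) (by decide)
    · exact exists_alt_of_cycleType (n := 10) ({9} : Multiset ℕ) (by decide) (by decide) (by decide)
    · exact exists_alt_of_cycleType (n := 10) ({5, 2, 2} : Multiset ℕ) (by decide) (by decide) (by decide)
    · exact exists_alt_of_cycleType (n := 10) ({4, 3, 2} : Multiset ℕ) (by decide) (by decide) (by decide)
    · exact exists_alt_of_cycleType (n := 10) ({5, 3} : Multiset ℕ) (by decide) (by decide) (by decide)
    · exact exists_alt_of_cycleType (n := 10) ({7, 3} : Multiset ℕ) (by decide) (by decide) (by decide)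

end Cfsg.Agent.S2477
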