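-- Statement S2772 (Sims' theorem in local form).
-- Proof: `Cfsg.Agent.Lib.Helper67.Sub3.s2772_main` (Lib/Helper67/Sub3/LocalFinal.lean): the Sims
-- bound `lemSimsCore` (helper49) for `T` and `ρ T ρ⁻¹`, fixed point counting on `O₂(G)`, the
-- exclusion of `q = 7` (`no_d14`) and, for `q = 3`, the amalgam analysis `amalgam_core` of the
-- S3685 project (recognition packages by helper38, helper96, helper22, helper65).
import Cfsg.Statements.S2772
import Cfsg.Agent.Lib.Helper67.Sub3.LocalFinal

set_option autoImplicit false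
open Cfsg

namespace Cfsg.Agent.S2772

/-- Sims' Theorem in local form: let H be a finite non-abelian simple group and G a maximal subgroup of H with C_G(O₂(G)) ≤ O₂(G), such that N_H(S) is not contained in G for a Sylow 2-subgroup S of G and G/O₂(G) is dihedral of order 2q for a prime q. Then G is isomorphic to the symmetric group of degree 4 or to its direct product with a group of order 2. -/
theorem result {H : Type*} [Group H] [Finite H] [IsSimpleGroup H] (hna : ¬ IsMulCommutative H) (G : Subgroup H) (hG : IsCoatom G) (hchar : Subgroup.centralizer (Cfsg.pCore 2 ↥G : Set ↥G) ≤ Cfsg.pCore 2 ↥G) (S : Sylow 2 ↥G) (hN : ¬ Subgroup.normalizer (((S : Subgroup ↥G).map G.subtype : Subgroup H) : Set H) ≤ G) (q : ℕ) (hq : q.Prime) (hD : Nonempty (↥G ⧸ Cfsg.pCore 2 ↥G ≃* DihedralGroup q)) : Nonempty (↥G ≃* Equiv.Perm (Fin 4)) ∨ Nonempty (↥G ≃* Equiv.Perm (Fin 4) × Multiplicative (ZMod 2)) := by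
  exact Cfsg.Agent.Lib.Helper67.Sub3.s2772_main G hG hchar S hN q hq hD

end Cfsg.Agent.S2772
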