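import Cfsg.Statements.S2794
import Cfsg.Agent.S1969
import Cfsg.Agent.S0664
import Cfsg.Agent.Lib.Helper51.ZJFunctor
import Cfsg.Agent.Lib.Helper51.QdFusion

set_option autoImplicit false
open Cfsg

namespace Cfsg.Agent.S2794

/-- For an odd prime p and a finite group G, the group Qd(p) is not involved in G if and only if in every section K/R of G, for every Sylow p-subgroup S* of K/R, the centre of J(S*) (J generated by the abelian subgroups of largest order) controls strong fusion in K/R. -/
theorem result {G : Type*} [Group G] [Finite G] {p : ℕ} [Fact p.Prime] (hp : p ≠ 2) : ¬ Cfsg.Involves ↥(Cfsg.qd p) G ↔ ∀ (K R : Subgroup G) [hR : (R.subgroupOf K).Normal], ∀ T : Sylow p (K ⧸ R.subgroupOf K), Cfsg.ControlsStrongFusion p (Cfsg.centerThompsonAOf (T : Subgroup (K ⧸ R.subgroupOf K))) := by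
  constructor
  · intro hfree K R hR T
    have h := Cfsg.Agent.S1969.result (G := G) (p := p)
      (fun (Q : Type _) (_ : Group Q) => Cfsg.Agent.Lib.Helper51.zjA Q)
      (Cfsg.Agent.Lib.Helper51.isCharPFunctor_zjA p) (by
        intro K' R' hR' hc T'
        rw [Cfsg.Agent.Lib.Helper51.inducedFunctor_zjA]
        have hfree' : ¬ Cfsg.Involves ↥(Cfsg.qd p) (↥K' ⧸ R'.subgroupOf K') := fun h =>
          hfree (Cfsg.Agent.Lib.Helper34.involves_of_subgroup K'
            (Cfsg.Agent.Lib.Helper34.involves_of_quotient (R'.subgroupOf K') h))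
        exact Cfsg.Agent.S0664.result hp hfree' hc T') K R T
    rw [Cfsg.Agent.Lib.Helper51.inducedFunctor_zjA] at h
    exact h
  · rintro hctl ⟨K, R, hR, ⟨e⟩⟩
    obtain ⟨T⟩ : Nonempty (Sylow p (↥K ⧸ R.subgroupOf K)) := inferInstance
    exact Cfsg.Agent.Lib.Helper51.not_controlsStrongFusion_zj_of_equiv_qd e T (hctl K R T)

end Cfsg.Agent.S2794
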