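import Mathlib
import Cfsg.Statements.S2809

set_option autoImplicit false
open Cfsg
open scoped commutatorElement

namespace Cfsg.Agent.S2809

/-- power trick: if `z = h s h⁻¹ s⁻¹` commutes with `s`, then `h s^k h⁻¹ = z^k s^k`. -/
theorem conj_pow_eq {G : Type*} [Group G] (h s : G) (hz : Commute (h * s * h⁻¹ * s⁻¹) s) (k : ℕ) :
    h * s ^ k * h⁻¹ = (h * s * h⁻¹ * s⁻¹) ^ k * s ^ k := by
  have h1 : h * s * h⁻¹ = (h * s * h⁻¹ * s⁻¹) * s := by group
  have h2 : h * s ^ k * h⁻¹ = (h * s * h⁻¹) ^ k := by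
    rw [conj_pow]
  rw [h2, h1, hz.mul_pow]
  congr 1
  congr 1
  group

/-- one step: a `p'`-element `y` whose commutator with `h` is a `p`-element commuting with `y`
commutes with `h`. -/
theorem step {G : Type*} [Group G] (p : ℕ) (y h : G) (m : ℕ) (hy : y ^ m = 1) (hm : Nat.Coprime m p)
    (k : ℕ) (hz : (h * y * h⁻¹ * y⁻¹) ^ (p ^ k) = 1) (hc : Commute (h * y * h⁻¹ * y⁻¹) y) :
    h * y = y * h := by
  have hpow := conj_pow_eq h y hc m
  rw [hy] at hpow
  simp only [mul_one, mul_inv_cancel] at hpow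
  have hord1 : orderOf (h * y * h⁻¹ * y⁻¹) ∣ m := orderOf_dvd_of_pow_eq_one hpow.symm
  have hord2 : orderOf (h * y * h⁻¹ * y⁻¹) ∣ p ^ k := orderOf_dvd_of_pow_eq_one hz
  have h1 : orderOf (h * y * h⁻¹ * y⁻¹) = 1 :=
    Nat.eq_one_of_dvd_coprimes (Nat.Coprime.pow_right k hm) hord1 hord2
  rw [orderOf_eq_one_iff] at h1
  have : h * y = (h * y * h⁻¹ * y⁻¹) * (y * h) := by group
  rw [this, h1, one_mul]

theorem iter_le {H : Type*} [Group H] (R L : Subgroup H) (hL : L ≤ Subgroup.normalizer (R : Set H)) :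
    ∀ i, Cfsg.iterCommutator R L i ≤ R := by
  intro i
  induction i with
  | zero => exact le_refl _
  | succ i ih =>
    show ⁅Cfsg.iterCommutator R L i, L⁆ ≤ R
    rw [Subgroup.commutator_le]
    intro r hr l hl
    have hr' : r ∈ R := ih hr
    have h1 : l * r⁻¹ * l⁻¹ ∈ R := (Subgroup.mem_normalizer_iff.mp (hL hl) r⁻¹).mp (R.inv_mem hr')
    have : ⁅r, l⁆ = r * (l * r⁻¹ * l⁻¹) := by rw [commutatorElement_def]; group
    rw [this]
    exact R.mul_mem hr' h1

/-- Let H be a finite group, p a prime, R a p-subgroup of H with C_H(R) ≤ R, and L a subgroup of N_H(R) acting nilpotently on R (some iterated commutator [R, L, …, L] is trivial). Then L is a p-group. -/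
theorem result {H : Type*} [Group H] [Finite H] {p : ℕ} [Fact p.Prime] (R : Subgroup H) (hR : IsPGroup p ↥R) (hC : Subgroup.centralizer (R : Set H) ≤ R) (L : Subgroup H) (hL : L ≤ Subgroup.normalizer (R : Set H)) (hnil : ∃ n : ℕ, Cfsg.iterCommutator R L n = ⊥) : IsPGroup p ↥L := by
  have hp : p.Prime := Fact.out
  obtain ⟨n, hn⟩ := hnil
  -- p-elements of R
  have hRpow : ∀ z ∈ R, ∃ k : ℕ, z ^ (p ^ k) = 1 := by
    intro z hz
    obtain ⟨k, hk⟩ := hR ⟨z, hz⟩
    refine ⟨k, ?_⟩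
    have := congrArg (fun x : R => (x : H)) hk
    simpa using this
  -- key: p'-elements of L centralize R
  have key : ∀ (y : H), y ∈ L → ∀ m : ℕ, y ^ m = 1 → Nat.Coprime m p →
      ∀ k i : ℕ, Cfsg.iterCommutator R L (i + k) = ⊥ → ∀ h ∈ Cfsg.iterCommutator R L i, h * y = y * h := by
    intro y hyL m hym hm k
    induction k with
    | zero =>
      intro i hi h hh
      rw [Nat.add_zero] at hi
      rw [hi, Subgroup.mem_bot] at hh
      subst hh; simp
    | succ k ih =>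
      intro i hi h hh
      have hi' : Cfsg.iterCommutator R L (i + 1 + k) = ⊥ := by
        rw [← hi]; congr 1; omega
      have hz : h * y * h⁻¹ * y⁻¹ ∈ Cfsg.iterCommutator R L (i + 1) := by
        show h * y * h⁻¹ * y⁻¹ ∈ ⁅Cfsg.iterCommutator R L i, L⁆
        have := Subgroup.commutator_mem_commutator hh hyL
        rwa [commutatorElement_def] at this
      have hcomm : Commute (h * y * h⁻¹ * y⁻¹) y := ih (i + 1) hi' _ hz
      obtain ⟨t, ht⟩ := hRpow _ (iter_le R L hL (i + 1) hz)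
      exact step p y h m hym hm t ht hcomm
  intro x
  obtain ⟨a, m, hm, hxa⟩ := Nat.exists_eq_pow_mul_and_not_dvd (orderOf_pos (x : H)).ne' p hp.ne_one
  have hcop : Nat.Coprime m p := (Nat.Coprime.symm ((Nat.Prime.coprime_iff_not_dvd hp).mpr hm))
  have hy : ((x : H) ^ (p ^ a)) ^ m = 1 := by
    rw [← pow_mul, ← hxa, pow_orderOf_eq_one]
  have hyL : (x : H) ^ (p ^ a) ∈ L := L.pow_mem x.2 _
  have hcent : (x : H) ^ (p ^ a) ∈ Subgroup.centralizer (R : Set H) := by
    rw [Subgroup.mem_centralizer_iff]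
    intro h hh
    exact key _ hyL m hy hcop n 0 (by rw [Nat.zero_add]; exact hn) h hh
  obtain ⟨t, ht⟩ := hRpow _ (hC hcent)
  have h1 : orderOf ((x : H) ^ (p ^ a)) ∣ m := orderOf_dvd_of_pow_eq_one hy
  have h2 : orderOf ((x : H) ^ (p ^ a)) ∣ p ^ t := orderOf_dvd_of_pow_eq_one ht
  have h3 : orderOf ((x : H) ^ (p ^ a)) = 1 :=
    Nat.eq_one_of_dvd_coprimes (Nat.Coprime.pow_right t hcop) h1 h2
  rw [orderOf_eq_one_iff] at h3
  refine ⟨a, ?_⟩
  apply Subtype.ext
  simpa using h3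

end Cfsg.Agent.S2809
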