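import Mathlib
import Cfsg.Statements.S2810

set_option autoImplicit false
open Cfsg
open scoped commutatorElement

namespace Cfsg.Agent.S2810

/-- power trick: if `z = h s h⁻¹ s⁻¹` commutes with `s`, then `h s^k h⁻¹ = z^k s^k`. -/
theorem conj_pow_eq {G : Type*} [Group G] (h s : G) (hz : Commute (h * s * h⁻¹ * s⁻¹) s) (k : ℕ) :
    h * s ^ k * h⁻¹ = (h * s * h⁻¹ * s⁻¹) ^ k * s ^ k := by
  have h1 : h * s * h⁻¹ = (h * s * h⁻¹ * s⁻¹) * s := by group
  have h2 : h * s ^ k * h⁻¹ = (h * s * h⁻¹) ^ k := by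
    rw [conj_pow]
  rw [h2, h1, hz.mul_pow]
  congr 1
  congr 1
  group

theorem step {G : Type*} [Group G] (p : ℕ) (y h : G) (m : ℕ) (hy : y ^ m = 1) (hm : Nat.Coprime m p)
    (k : ℕ) (hz : (h * y * h⁻¹ * y⁻¹) ^ (p ^ k) = 1) (hc : Commute (h * y * h⁻¹ * y⁻¹) y) :
    h * y = y * h := by
  have hpow := conj_pow_eq h y hc m
  rw [hy] at hpow
  simp only [mul_one, mul_inv_cancel] at hpow
  have hord1 : orderOf (h * y * h⁻¹ * y⁻¹) ∣ m := orderOf_dvd_of_pow_eq_one hpow.symm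
  have hord2 : orderOf (h * y * h⁻¹ * y⁻¹) ∣ p ^ k := orderOf_dvd_of_pow_eq_one hz
  have h1 : orderOf (h * y * h⁻¹ * y⁻¹) = 1 :=
    Nat.eq_one_of_dvd_coprimes (Nat.Coprime.pow_right k hm) hord1 hord2
  rw [orderOf_eq_one_iff] at h1
  have : h * y = (h * y * h⁻¹ * y⁻¹) * (y * h) := by group
  rw [this, h1, one_mul]

/-- the stabilizer of a chain of normal subgroups -/
def chainStab {H : Type*} [Group H] (n : ℕ) (A : Fin (n + 1) → Subgroup H) (hnorm : ∀ i, (A i).Normal) :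
    Subgroup H where
  carrier := {x | ∀ i : Fin n, ∀ a ∈ A i.succ, a * x * a⁻¹ * x⁻¹ ∈ A i.castSucc}
  one_mem' := by
    intro i a _
    simp
  mul_mem' := by
    intro x y hx hy i a ha
    have h1 := hx i a ha
    have h2 := (hnorm i.castSucc).conj_mem _ (hy i a ha) x
    have : a * (x * y) * a⁻¹ * (x * y)⁻¹ = (a * x * a⁻¹ * x⁻¹) * (x * (a * y * a⁻¹ * y⁻¹) * x⁻¹) := by group
    rw [this]
    exact (A i.castSucc).mul_mem h1 h2
  inv_mem' := by
    intro x hx i a ha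
    have h1 := (A i.castSucc).inv_mem (hx i a ha)
    have h2 := (hnorm i.castSucc).conj_mem _ h1 x⁻¹
    have : a * x⁻¹ * a⁻¹ * x⁻¹⁻¹ = x⁻¹ * (a * x * a⁻¹ * x⁻¹)⁻¹ * x⁻¹⁻¹ := by group
    rw [this]
    exact h2

theorem chainStab_normal {H : Type*} [Group H] (n : ℕ) (A : Fin (n + 1) → Subgroup H) (hnorm : ∀ i, (A i).Normal) :
    (chainStab n A hnorm).Normal := by
  constructor
  intro x hx g i a ha
  have ha' : g⁻¹ * a * g⁻¹⁻¹ ∈ A i.succ := (hnorm i.succ).conj_mem _ ha g⁻¹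
  have h1 := hx i _ ha'
  have h2 := (hnorm i.castSucc).conj_mem _ h1 g
  have : a * (g * x * g⁻¹) * a⁻¹ * (g * x * g⁻¹)⁻¹ =
      g * (g⁻¹ * a * g⁻¹⁻¹ * x * (g⁻¹ * a * g⁻¹⁻¹)⁻¹ * x⁻¹) * g⁻¹ := by group
  rw [this]
  exact h2

theorem pCore_isPGroup' {H : Type*} [Group H] (p : ℕ) [Fact p.Prime] : IsPGroup p (Cfsg.pCore p H) := by
  unfold Cfsg.pCore
  exact Sylow.sSup_of_normal _ (fun _ h => h.2) (fun _ h => h.1)

/-- Let H be a finite group of characteristic p and L a subgroup of H centralizing every factor of some H-invariant chain 1 = A₀ ≤ A₁ ≤ … ≤ Aₙ = O_p(H) of normal subgroups (that is, [A_{i+1}, L] ≤ Aᵢ for each i). Then L ≤ O_p(H). -/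
theorem result {H : Type*} [Group H] [Finite H] {p : ℕ} [Fact p.Prime] (hchar : Subgroup.centralizer (Cfsg.pCore p H : Set H) ≤ Cfsg.pCore p H) (L : Subgroup H) (n : ℕ) (A : Fin (n + 1) → Subgroup H) (h0 : A 0 = ⊥) (hn : A (Fin.last n) = Cfsg.pCore p H) (hmono : Monotone A) (hnorm : ∀ i, (A i).Normal) (hcent : ∀ i : Fin n, ⁅A i.succ, L⁆ ≤ A i.castSucc) : L ≤ Cfsg.pCore p H := by
  have hp : p.Prime := Fact.out
  have hLK : L ≤ chainStab n A hnorm := by
    intro x hx i a ha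
    have := Subgroup.commutator_mem_commutator ha hx
    rw [commutatorElement_def] at this
    exact hcent i this
  have hKnorm := chainStab_normal n A hnorm
  have hcore : IsPGroup p (Cfsg.pCore p H) := pCore_isPGroup' p
  have hpow : ∀ z ∈ Cfsg.pCore p H, ∃ k : ℕ, z ^ (p ^ k) = 1 := by
    intro z hz
    obtain ⟨k, hk⟩ := hcore ⟨z, hz⟩
    refine ⟨k, ?_⟩
    have := congrArg (fun x : Cfsg.pCore p H => (x : H)) hk
    simpa using this
  have hAle : ∀ i, A i ≤ Cfsg.pCore p H := by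
    intro i
    rw [← hn]
    exact hmono (Fin.le_last i)
  -- p'-elements of the stabilizer centralize every term
  have key : ∀ (y : H), y ∈ chainStab n A hnorm → ∀ m : ℕ, y ^ m = 1 → Nat.Coprime m p →
      ∀ i : Fin (n + 1), ∀ h ∈ A i, h * y = y * h := by
    intro y hyK m hym hm i
    induction i using Fin.induction with
    | zero =>
      intro h hh
      rw [h0, Subgroup.mem_bot] at hh
      subst hh; simp
    | succ i ih =>
      intro h hh
      have hz : h * y * h⁻¹ * y⁻¹ ∈ A i.castSucc := hyK i h hh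
      have hcomm : Commute (h * y * h⁻¹ * y⁻¹) y := ih _ hz
      obtain ⟨t, ht⟩ := hpow _ (hAle _ hz)
      exact step p y h m hym hm t ht hcomm
  have hKp : IsPGroup p (chainStab n A hnorm) := by
    intro x
    obtain ⟨a, m, hm, hxa⟩ := Nat.exists_eq_pow_mul_and_not_dvd (orderOf_pos (x : H)).ne' p hp.ne_one
    have hcop : Nat.Coprime m p := (Nat.Coprime.symm ((Nat.Prime.coprime_iff_not_dvd hp).mpr hm))
    have hy : ((x : H) ^ (p ^ a)) ^ m = 1 := by
      rw [← pow_mul, ← hxa, pow_orderOf_eq_one]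
    have hyK : (x : H) ^ (p ^ a) ∈ chainStab n A hnorm := Subgroup.pow_mem _ x.2 _
    have hcent' : (x : H) ^ (p ^ a) ∈ Subgroup.centralizer (Cfsg.pCore p H : Set H) := by
      rw [Subgroup.mem_centralizer_iff]
      intro h hh
      have hh' : h ∈ A (Fin.last n) := by rw [hn]; exact hh
      exact key _ hyK m hy hcop (Fin.last n) h hh'
    obtain ⟨t, ht⟩ := hpow _ (hchar hcent')
    have h1 : orderOf ((x : H) ^ (p ^ a)) ∣ m := orderOf_dvd_of_pow_eq_one hy
    have h2 : orderOf ((x : H) ^ (p ^ a)) ∣ p ^ t := orderOf_dvd_of_pow_eq_one ht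
    have h3 : orderOf ((x : H) ^ (p ^ a)) = 1 :=
      Nat.eq_one_of_dvd_coprimes (Nat.Coprime.pow_right t hcop) h1 h2
    rw [orderOf_eq_one_iff] at h3
    refine ⟨a, ?_⟩
    apply Subtype.ext
    simpa using h3
  have hKle : chainStab n A hnorm ≤ Cfsg.pCore p H := by
    unfold Cfsg.pCore
    exact le_sSup ⟨hKnorm, hKp⟩
  exact hLK.trans hKle

end Cfsg.Agent.S2810
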