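import Cfsg.Statements.S2813
import Cfsg.Agent.Lib.Helper47.Basic

set_option autoImplicit false
open Cfsg

namespace Cfsg.Agent.S2813

open scoped commutatorElement
open Cfsg.Agent.Lib.Helper47

/-- The elements of `p`-power order in a commutative subgroup. -/
def pElts {H : Type*} [Group H] (D : Subgroup H) (hcomm : ∀ a ∈ D, ∀ b ∈ D, a * b = b * a)
    (p : ℕ) : Subgroup H where
  carrier := {d | d ∈ D ∧ ∃ n : ℕ, d ^ (p ^ n) = 1}
  one_mem' := ⟨D.one_mem, 0, by simp⟩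
  mul_mem' := by
    rintro a b ⟨ha, n, hn⟩ ⟨hb, m, hm⟩
    refine ⟨D.mul_mem ha hb, n + m, ?_⟩
    have hc : Commute a b := hcomm a ha b hb
    rw [hc.mul_pow, pow_add, pow_mul, hn, one_pow, mul_comm (p ^ n), pow_mul, hm, one_pow, mul_one]
  inv_mem' := by
    rintro a ⟨ha, n, hn⟩
    exact ⟨D.inv_mem ha, n, by rw [inv_pow, hn, inv_one]⟩

/-- Let K be a subgroup of the finite group H with O_p(K) = 1 and Y a p-subgroup of N_H(K) with [K, Y, Y] = 1. Then [K, Y] = 1. -/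
theorem result {H : Type*} [Group H] [Finite H] {p : ℕ} [Fact p.Prime] (K : Subgroup H) (hO : Cfsg.pCore p ↥K = ⊥) (Y : Subgroup H) (hY : IsPGroup p ↥Y) (hYK : Y ≤ Subgroup.normalizer (K : Set H)) (hq : ⁅⁅K, Y⁆, Y⁆ = ⊥) : ⁅K, Y⁆ = ⊥ := by
  -- step 1: D ≤ K
  have hDK : ⁅K, Y⁆ ≤ K := by
    rw [Subgroup.commutator_le]
    intro a ha l hl
    have h1 : l * a⁻¹ * l⁻¹ ∈ K :=
      (Subgroup.mem_normalizer_iff.mp (hYK hl) a⁻¹).mp (K.inv_mem ha)
    have : ⁅a, l⁆ = a * (l * a⁻¹ * l⁻¹) := by simp [commutatorElement_def, mul_assoc]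
    rw [this]
    exact K.mul_mem ha h1
  -- step 2: Y centralizes D
  have hYD : ∀ d ∈ ⁅K, Y⁆, ∀ y ∈ Y, d * y = y * d := by
    intro d hd y hy
    have h1 : ⁅d, y⁆ ∈ ⁅⁅K, Y⁆, Y⁆ := Subgroup.commutator_mem_commutator hd hy
    rw [hq, Subgroup.mem_bot] at h1
    exact commutatorElement_eq_one_iff_mul_comm.mp h1
  -- step 3: K normalizes D
  have hKD : ∀ k' ∈ K, ∀ d ∈ ⁅K, Y⁆, k' * d * k'⁻¹ ∈ ⁅K, Y⁆ := by
    intro k' hk'
    have : ⁅K, Y⁆ ≤ (⁅K, Y⁆ : Subgroup H).comap (MulAut.conj k').toMonoidHom := by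
      rw [Subgroup.commutator_le]
      intro k hk y hy
      rw [Subgroup.mem_comap]
      have h1 : ⁅k' * k, y⁆ ∈ ⁅K, Y⁆ := Subgroup.commutator_mem_commutator (K.mul_mem hk' hk) hy
      have h2 : ⁅k', y⁆ ∈ ⁅K, Y⁆ := Subgroup.commutator_mem_commutator hk' hy
      have h3 : (MulAut.conj k').toMonoidHom ⁅k, y⁆ = ⁅k' * k, y⁆ * ⁅k', y⁆⁻¹ := by
        simp [commutatorElement_def, MulAut.conj_apply]
        group
      rw [h3]
      exact Subgroup.mul_mem _ h1 (Subgroup.inv_mem _ h2)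
    intro d hd
    have := this hd
    simpa [Subgroup.mem_comap, MulAut.conj_apply] using this
  -- step 4: D commutative
  have hDcomm : ⁅K, Y⁆ ≤ Subgroup.centralizer ((⁅K, Y⁆ : Subgroup H) : Set H) := by
    rw [Subgroup.commutator_le]
    intro k hk y hy
    rw [Subgroup.mem_centralizer_iff]
    intro d hd
    have hd' : k⁻¹ * d * k⁻¹⁻¹ ∈ ⁅K, Y⁆ := hKD k⁻¹ (K.inv_mem hk) d hd
    have e1 := hYD _ hd' y hy
    have e2 := hYD d hd y⁻¹ (Y.inv_mem hy)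
    -- d * ⁅k,y⁆ = ⁅k,y⁆ * d
    have e3 : d * (k * y * k⁻¹) = (k * y * k⁻¹) * d := by
      have : d * (k * y * k⁻¹) = k * ((k⁻¹ * d * k⁻¹⁻¹) * y) * k⁻¹ := by group
      rw [this, e1]; group
    show d * ⁅k, y⁆ = ⁅k, y⁆ * d
    rw [commutatorElement_def]
    calc d * (k * y * k⁻¹ * y⁻¹) = (d * (k * y * k⁻¹)) * y⁻¹ := by group
      _ = (k * y * k⁻¹) * (d * y⁻¹) := by rw [e3]; group
      _ = (k * y * k⁻¹) * (y⁻¹ * d) := by rw [e2]
      _ = k * y * k⁻¹ * y⁻¹ * d := by group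
  have hcomm : ∀ a ∈ ⁅K, Y⁆, ∀ b ∈ ⁅K, Y⁆, a * b = b * a := by
    intro a ha b hb
    exact ((Subgroup.mem_centralizer_iff.mp (hDcomm hb)) a ha)
  -- step 5: every element of D has p-power order
  have hDp : ⁅K, Y⁆ ≤ pElts ⁅K, Y⁆ hcomm p := by
    rw [Subgroup.commutator_le]
    intro k hk y hy
    refine ⟨Subgroup.commutator_mem_commutator hk hy, ?_⟩
    obtain ⟨n, hn⟩ := hY ⟨y, hy⟩
    have hn' : y ^ (p ^ n) = 1 := by simpa [Subtype.ext_iff] using hn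
    refine ⟨n, ?_⟩
    have hc : Commute ⁅k, y⁆ y := hYD _ (Subgroup.commutator_mem_commutator hk hy) y hy
    have h1 : k * y * k⁻¹ = ⁅k, y⁆ * y := by simp [commutatorElement_def]
    have h2 : (k * y * k⁻¹) ^ (p ^ n) = 1 := by
      rw [conj_pow, hn']; simp
    rw [h1, hc.mul_pow, hn', mul_one] at h2
    exact h2
  -- step 6
  have hnorm : ((⁅K, Y⁆ : Subgroup H).subgroupOf K).Normal := by
    refine ⟨fun d hd k => ?_⟩
    rw [Subgroup.mem_subgroupOf] at hd ⊢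
    have := hKD k k.2 d hd
    simpa using this
  have hpg : IsPGroup p ((⁅K, Y⁆ : Subgroup H).subgroupOf K) := by
    intro g
    obtain ⟨-, n, hn⟩ := hDp (Subgroup.mem_subgroupOf.mp g.2)
    refine ⟨n, ?_⟩
    apply Subtype.ext
    apply Subtype.ext
    simpa using hn
  have hle : (⁅K, Y⁆ : Subgroup H).subgroupOf K ≤ Cfsg.pCore p ↥K := le_pCore hnorm hpg
  rw [hO, le_bot_iff, Subgroup.subgroupOf_eq_bot] at hle
  exact disjoint_self.mp (hle.mono_right hDK) |> fun h => by simpa using h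

end Cfsg.Agent.S2813
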