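import Cfsg.Statements.S2816
import Cfsg.Agent.Lib.Helper50.FstarAction2

set_option autoImplicit false
open Cfsg

namespace Cfsg.Agent.S2816

/-- Let H be a finite group and p a prime with O_p(H) = 1, and Y a p-subgroup of H. Then for every subnormal subgroup K of H containing Y, [F*(H), Y] = [F*(K), Y] = [F*(K), Y, Y]; and if Y₀ ≤ Y with [F*(H), Y, Y₀] = 1 then Y₀ = 1 (in particular [F*(H), Y] = 1 forces Y = 1). -/
theorem result {H : Type*} [Group H] [Finite H] {p : ℕ} [Fact p.Prime] (hO : Cfsg.pCore p H = ⊥) (Y : Subgroup H) (hY : IsPGroup p ↥Y) : (∀ K : Subgroup H, K.IsSubnormal → Y ≤ K → ⁅Cfsg.generalizedFittingSubgroup H, Y⁆ = ⁅(Cfsg.generalizedFittingSubgroup ↥K).map K.subtype, Y⁆ ∧ ⁅(Cfsg.generalizedFittingSubgroup ↥K).map K.subtype, Y⁆ = ⁅⁅(Cfsg.generalizedFittingSubgroup ↥K).map K.subtype, Y⁆, Y⁆) ∧ (∀ Y₀ : Subgroup H, Y₀ ≤ Y → ⁅⁅Cfsg.generalizedFittingSubgroup H, Y⁆, Y₀⁆ = ⊥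 → Y₀ = ⊥) := by
  refine ⟨?_, ?_⟩
  · intro K hK hYK
    have hFK : (Cfsg.generalizedFittingSubgroup ↥K).map K.subtype =
        Cfsg.generalizedFittingSubgroup H ⊓ K :=
      (Cfsg.Agent.Lib.Helper22.generalizedFittingSubgroup_subnormal hK).symm
    rw [hFK]
    have hXKn := Cfsg.Agent.Lib.Helper50.le_normalizer_fstar_inf (G := H) K
    have hXKsn := Cfsg.Agent.Lib.Helper50.fstar_inf_isSubnormal hK
    have hdata := Cfsg.Agent.Lib.Helper50.fstar_data_top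
      (Cfsg.generalizedFittingSubgroup H ⊓ K) hO inf_le_left hXKsn
    have hact := Cfsg.Agent.Lib.Helper50.fstar_action_of_data
      (Cfsg.generalizedFittingSubgroup H ⊓ K) Y hdata.1 hdata.2 hY (hYK.trans hXKn)
    have h3 : ⁅Cfsg.generalizedFittingSubgroup H, Y⁆ ≤
        ⁅Cfsg.generalizedFittingSubgroup H ⊓ K, Y⁆ :=
      calc ⁅Cfsg.generalizedFittingSubgroup H, Y⁆
          = ⁅⁅Cfsg.generalizedFittingSubgroup H, Y⁆, Y⁆ :=
            Cfsg.Agent.Lib.Helper50.fstar_comm_idem hO Y hY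
        _ ≤ ⁅Cfsg.generalizedFittingSubgroup H ⊓ K, Y⁆ :=
            Subgroup.commutator_mono
              (Cfsg.Agent.Lib.Helper50.fstar_comm_le_of_isSubnormal hO Y hY hK hYK) le_rfl
    exact ⟨le_antisymm h3 (Subgroup.commutator_mono inf_le_left le_rfl), hact.2.2.2⟩
  · intro Y₀ hY₀ hbot
    have hY₀p : IsPGroup p ↥Y₀ := hY.to_le hY₀
    have h1 : ⁅⁅Cfsg.generalizedFittingSubgroup H, Y₀⁆, Y₀⁆ ≤
        ⁅⁅Cfsg.generalizedFittingSubgroup H, Y⁆, Y₀⁆ :=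
      Subgroup.commutator_mono (Subgroup.commutator_mono le_rfl hY₀) le_rfl
    have h2 : ⁅Cfsg.generalizedFittingSubgroup H, Y₀⁆ = ⊥ :=
      (Cfsg.Agent.Lib.Helper50.fstar_comm_idem hO Y₀ hY₀p).trans
        (le_bot_iff.mp (h1.trans hbot.le))
    exact Cfsg.Agent.Lib.Helper50.eq_bot_of_fstar_comm_eq_bot hO Y₀ hY₀p h2

end Cfsg.Agent.S2816
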