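import Cfsg.Statements.S2818
import Cfsg.Agent.Lib.Helper47.Frat

set_option autoImplicit false
open Cfsg

namespace Cfsg.Agent.S2818

open Cfsg.Agent.Lib.Helper47
open scoped commutatorElement

/-- Let P be a finite p-subgroup of a group G and H a subgroup of N_G(P) with [P, H] ≤ Ω₁(Z(P)) (the elements of order dividing p in the centre of P). Then H centralizes the Frattini subgroup of P. -/
theorem result {G : Type*} [Group G] [Finite G] {p : ℕ} [Fact p.Prime] (P : Subgroup G) (hP : IsPGroup p ↥P) (H : Subgroup G) (hH : H ≤ Subgroup.normalizer (P : Set G)) (h : ⁅P, H⁆ ≤ Cfsg.omegaOne p (P ⊓ Subgroup.centralizer (P : Set G))) : ⁅(frattini ↥P).map P.subtype, H⁆ = ⊥ := by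
  rw [eq_bot_iff, Subgroup.commutator_le]
  rintro _ ⟨x, hx, rfl⟩ g hg
  rw [Subgroup.mem_bot]
  have hPH : ∀ y ∈ P, ⁅y, g⁆ ∈ Cfsg.omegaOne p (P ⊓ Subgroup.centralizer (P : Set G)) :=
    fun y hy => h (Subgroup.commutator_mem_commutator hy hg)
  have hΩ := omegaOne_le p (P ⊓ Subgroup.centralizer (P : Set G))
  have hel := isElementaryAbelian_omegaOne p (P ⊓ Subgroup.centralizer (P : Set G)) (by
    rintro a ⟨ha, -⟩ b ⟨-, hb⟩
    exact (Subgroup.mem_centralizer_iff.mp hb) a ha)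
  rw [isElementaryAbelian_iff] at hel
  let φ : ↥P →* G := MonoidHom.mk' (fun y => ⁅(y : G), g⁆) (by
    intro a b
    have hb := hΩ (hPH b b.2)
    have ha := hΩ (hPH a a.2)
    have comm1 : (a : G) * ⁅(b : G), g⁆ = ⁅(b : G), g⁆ * (a : G) :=
      (Subgroup.mem_centralizer_iff.mp hb.2) a a.2
    have comm2 : ⁅(a : G), g⁆ * ⁅(b : G), g⁆ = ⁅(b : G), g⁆ * ⁅(a : G), g⁆ :=
      (Subgroup.mem_centralizer_iff.mp hb.2) _ ha.1
    have e1 : ⁅((a * b : ↥P) : G), g⁆ = (a : G) * ⁅(b : G), g⁆ * (g * (a : G)⁻¹ * g⁻¹) := by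
      simp only [commutatorElement_def, Subgroup.coe_mul]; group
    have e2 : ⁅(b : G), g⁆ * (a : G) * (g * (a : G)⁻¹ * g⁻¹) = ⁅(b : G), g⁆ * ⁅(a : G), g⁆ := by
      simp only [commutatorElement_def]; group
    show ⁅((a * b : ↥P) : G), g⁆ = ⁅(a : G), g⁆ * ⁅(b : G), g⁆
    rw [e1, comm1, e2, comm2])
  have hker := frattini_le_ker_of_elementary (p := p) φ
    (fun u v => hel.1 _ (hPH u u.2) _ (hPH v v.2)) (fun u => hel.2 _ (hPH u u.2))
  exact hker hx

end Cfsg.Agent.S2818
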