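import Cfsg.Statements.S2826
import Cfsg.Agent.Lib.Helper47.ZL3

set_option autoImplicit false
open Cfsg

namespace Cfsg.Agent.S2826

open Cfsg.Agent.Lib.Helper47

/-- Let H be a finite group of characteristic p, T a Sylow p-subgroup, and V a normal elementary abelian p-subgroup of H containing Ω₁(Z(T)). Then C_H(Ω₁(Z(T))) = C_H([V, O^p(H)] ∩ Ω₁(Z(T))), O^p(H) being generated by the elements of order prime to p. -/
theorem result {H : Type*} [Group H] [Finite H] {p : ℕ} [Fact p.Prime] (hH : Subgroup.centralizer (Cfsg.pCore p H : Set H) ≤ Cfsg.pCore p H) (T : Sylow p H) (V : Subgroup H) [V.Normal] (hV : Cfsg.IsElementaryAbelian p V) (hZV : (Cfsg.omegaOne p ((T : Subgroup H) ⊓ Subgroup.centralizer (((T : Subgroup H) : Subgroup H) : Set H))) ≤ V) : Subgroup.centralizer ((Cfsg.omegaOne p ((T : Subgroup H) ⊓ Subgroup.centralizer (((T : Subgroup H) : Subgroup H) : Set H))) : Set H) = Subgroup.centralizer (((⁅V, Cfsg.pResidual p H⁆ ⊓ (Cfsg.omegaOne p ((T : Subgroup H) ⊓ Subgroup.centralizer (((T : Subgroup H) : Subgroup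 H) : Set H)))) : Subgroup H) : Set H) := by
  apply le_antisymm
  · exact Subgroup.centralizer_le inf_le_right
  · intro x hx
    rw [Subgroup.mem_centralizer_iff]
    intro z hz
    have hz' := omegaOne_center_sylow_le hH T V hZV hz
    have hRn := pResidual_normal p H
    have hWn : (⁅V, Cfsg.pResidual p H⁆).Normal := inferInstance
    have hz'' : z ∈ ((Cfsg.omegaOne p ((⊤ : Subgroup H) ⊓
        Subgroup.centralizer (((⊤ : Subgroup H) : Subgroup H) : Set H)) ⊔
        ⁅V, Cfsg.pResidual p H⁆ : Subgroup H) : Set H) := hz'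
    rw [Subgroup.mul_normal] at hz''
    obtain ⟨c, hc, w, hw, rfl⟩ := hz''
    have hZLT : (⊤ : Subgroup H) ⊓ Subgroup.centralizer (((⊤ : Subgroup H) : Subgroup H) : Set H) ≤
        (T : Subgroup H) ⊓ Subgroup.centralizer (((T : Subgroup H) : Subgroup H) : Set H) := by
      refine le_inf ?_ (inf_le_right.trans (Subgroup.centralizer_le le_top))
      rintro y ⟨-, hy⟩
      exact pCore_le_sylow T (hH (Subgroup.centralizer_le le_top hy))
    have hcZ := omegaOne_mono p hZLT hc
    have hcC := (omegaOne_le p _ hc).2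
    have hwZ : w ∈ Cfsg.omegaOne p ((T : Subgroup H) ⊓
        Subgroup.centralizer (((T : Subgroup H) : Subgroup H) : Set H)) := by
      have e : w = c⁻¹ * (c * w) := by group
      rw [e]
      exact Subgroup.mul_mem _ (Subgroup.inv_mem _ hcZ) hz
    have h1 : w * x = x * w := (Subgroup.mem_centralizer_iff.mp hx) w (Subgroup.mem_inf.mpr ⟨hw, hwZ⟩)
    have h2 : x * c = c * x := (Subgroup.mem_centralizer_iff.mp hcC) x (Subgroup.mem_top x)
    calc c * w * x = c * (w * x) := by group
      _ = c * (x * w) := by rw [h1]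
      _ = (c * x) * w := by group
      _ = (x * c) * w := by rw [h2]
      _ = x * (c * w) := by group

end Cfsg.Agent.S2826
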