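import Cfsg.Statements.S2827
import Cfsg.Agent.Lib.Helper47.PIrr

set_option autoImplicit false
open Cfsg

namespace Cfsg.Agent.S2827

open scoped commutatorElement
open Cfsg.Agent.Lib.Helper47

/-- Let H be a finite p-irreducible group (not p-closed, and O^p(H) lies in every normal subgroup that is not p-closed) and T a Sylow p-subgroup. Then H is generated by the conjugates of T and H = H'·T; O^p(H) ≤ H'; and for every normal subgroup Y of T not contained in O_p(H), O^p(H) = [O^p(H), Y] and O^p(H) is contained in the normal closure of Y in H. -/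
theorem result {H : Type*} [Group H] [Finite H] {p : ℕ} [Fact p.Prime] (hH : Cfsg.IsPIrreducible p H) (T : Sylow p H) : Subgroup.normalClosure ((T : Subgroup H) : Set H) = ⊤ ∧ commutator H ⊔ (T : Subgroup H) = ⊤ ∧ Cfsg.pResidual p H ≤ commutator H ∧ ∀ Y : Subgroup H, Y ≤ (T : Subgroup H) → (T : Subgroup H) ≤ Subgroup.normalizer (Y : Set H) → ¬ Y ≤ Cfsg.pCore p H → ⁅Cfsg.pResidual p H, Y⁆ = Cfsg.pResidual p H ∧ Cfsg.pResidual p H ≤ Subgroup.normalClosure (Y : Set H) := by
  obtain ⟨hncl, hirr⟩ := hH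
  have hXn : (Cfsg.pResidual p H).Normal := pResidual_normal p H
  have hXT := pResidual_sup_sylow T
  -- a normal subgroup containing a p-subgroup not in O_p(H) contains O^p(H)
  have key : ∀ (N : Subgroup H), N.Normal → ∀ Y : Subgroup H, IsPGroup p Y → Y ≤ N →
      ¬ Y ≤ Cfsg.pCore p H → Cfsg.pResidual p H ≤ N := by
    intro N hN Y hYp hYN hY
    apply hirr N hN
    intro hcl
    exact hY (le_pCore_of_isPClosed N hcl hYp hYN)
  have hTnot : ¬ (T : Subgroup H) ≤ Cfsg.pCore p H := by
    intro hle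
    have : (T : Subgroup H) = Cfsg.pCore p H := le_antisymm hle (pCore_le_sylow T)
    apply hncl
    apply isPClosed_of_normal_sylow T
    rw [this]
    exact Subgroup.sSup_normal _ (fun _ h => h.1)
  -- (i)
  have h1 : Subgroup.normalClosure ((T : Subgroup H) : Set H) = ⊤ := by
    have hle := key _ Subgroup.normalClosure_normal T T.isPGroup' Subgroup.le_normalClosure hTnot
    exact top_le_iff.mp (hXT ▸ sup_le hle Subgroup.le_normalClosure)
  -- (ii)
  have h2 : commutator H ⊔ (T : Subgroup H) = ⊤ := by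
    have hn : (commutator H ⊔ (T : Subgroup H)).Normal := normal_of_commutator_le _ le_sup_left
    have : Subgroup.normalClosure ((T : Subgroup H) : Set H) ≤ commutator H ⊔ (T : Subgroup H) :=
      Subgroup.normalClosure_le_normal (le_sup_right : (T : Subgroup H) ≤ commutator H ⊔ (T : Subgroup H))
    rw [h1] at this
    exact top_le_iff.mp this
  -- (iii)
  have h3 : Cfsg.pResidual p H ≤ commutator H := by
    have hc : (commutator H).Normal := normal_of_commutator_le _ le_rfl
    apply pResidual_le_of_isPGroup_quotient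
    apply isPGroup_quotient_of_sup_eq_top (T : Subgroup H) (commutator H) T.isPGroup'
    rw [sup_comm]; exact h2
  refine ⟨h1, h2, h3, ?_⟩
  intro Y hYT hTY hY
  have hYp : IsPGroup p Y := T.isPGroup'.to_le hYT
  refine ⟨?_, key _ Subgroup.normalClosure_normal Y hYp Subgroup.le_normalClosure hY⟩
  -- R = [X, Y]
  have hRX : ⁅Cfsg.pResidual p H, Y⁆ ≤ Cfsg.pResidual p H :=
    commutator_le_of_le_normalizer Subgroup.le_normalizer_of_normal le_rfl
  have hTR : (T : Subgroup H) ≤ Subgroup.normalizer ((⁅Cfsg.pResidual p H, Y⁆ : Subgroup H) : Set H) := by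
    intro t ht
    apply Subgroup.mem_normalizer_iff_map_conj_eq.mpr
    have e1 : (Cfsg.pResidual p H).map (MulAut.conj t).toMonoidHom = Cfsg.pResidual p H :=
      map_conj_eq_of_mem_normalizer (Subgroup.le_normalizer_of_normal (Subgroup.mem_top t))
    have e2 : Y.map (MulAut.conj t).toMonoidHom = Y := map_conj_eq_of_mem_normalizer (hTY ht)
    show (⁅Cfsg.pResidual p H, Y⁆).map (MulAut.conj t).toMonoidHom = ⁅Cfsg.pResidual p H, Y⁆
    rw [Subgroup.map_commutator, e1, e2]
  have hRn : (⁅Cfsg.pResidual p H, Y⁆ : Subgroup H).Normal := by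
    rw [← Subgroup.normalizer_eq_top_iff]
    apply top_le_iff.mp
    rw [← hXT]
    exact sup_le (le_normalizer_commutator_left _ _) hTR
  have hYRn : (Y ⊔ ⁅Cfsg.pResidual p H, Y⁆ : Subgroup H).Normal := by
    rw [← Subgroup.normalizer_eq_top_iff]
    apply top_le_iff.mp
    rw [← hXT]
    refine sup_le ?_ ?_
    · apply le_normalizer_of_conj_mem
      intro x hx n hn
      have hmap : (Y ⊔ ⁅Cfsg.pResidual p H, Y⁆).map (MulAut.conj x).toMonoidHom ≤ Y ⊔ ⁅Cfsg.pResidual p H, Y⁆ := by
        rw [Subgroup.map_sup]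
        refine sup_le ?_ ?_
        · rintro _ ⟨y, hy, rfl⟩
          have hc : ⁅x, y⁆ ∈ ⁅Cfsg.pResidual p H, Y⁆ := Subgroup.commutator_mem_commutator hx hy
          have e : (MulAut.conj x).toMonoidHom y = ⁅x, y⁆ * y := by
            simp [commutatorElement_def]
          rw [e]
          exact Subgroup.mul_mem _ ((le_sup_right : ⁅Cfsg.pResidual p H, Y⁆ ≤ _) hc) ((le_sup_left : Y ≤ _) hy)
        · rintro _ ⟨r, hr, rfl⟩
          exact (le_sup_right : ⁅Cfsg.pResidual p H, Y⁆ ≤ _) (hRn.conj_mem r hr x)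
      exact hmap ⟨n, hn, rfl⟩
    · exact (le_inf hTY hTR).trans (Subgroup.normalizer_inf_normalizer_le_normalizer_sup _ _)
  have hXle : Cfsg.pResidual p H ≤ Y ⊔ ⁅Cfsg.pResidual p H, Y⁆ := key _ hYRn Y hYp le_sup_left hY
  apply le_antisymm hRX
  apply pResidual_le_of_forall
  intro x hx
  have hxX : x ∈ Cfsg.pResidual p H := Subgroup.subset_closure hx
  exact mem_of_mem_sup_of_coprime (N := ⁅Cfsg.pResidual p H, Y⁆) hYp (hXle hxX) hx

end Cfsg.Agent.S2827
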