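import Cfsg.Statements.S2828
import Cfsg.Agent.Lib.Helper47.QuotIrr

set_option autoImplicit false
open Cfsg

namespace Cfsg.Agent.S2828

open Cfsg.Agent.Lib.Helper47

/-- Let H be a finite group, p a prime and D a normal p-subgroup of H. Then H is p-irreducible if and only if H/D is p-irreducible, and H is strongly p-irreducible if and only if H/D is strongly p-irreducible. -/
theorem result {H : Type*} [Group H] [Finite H] {p : ℕ} [Fact p.Prime] (D : Subgroup H) [D.Normal] (hD : IsPGroup p ↥D) : (Cfsg.IsPIrreducible p H ↔ Cfsg.IsPIrreducible p (H ⧸ D)) ∧ (Cfsg.IsStronglyPIrreducible p H ↔ Cfsg.IsStronglyPIrreducible p (H ⧸ D)) := by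
  have hq := isPClosed_quotient_iff D hD
  have hsurj := QuotientGroup.mk'_surjective D
  refine ⟨⟨fun h => ⟨fun hc => h.1 (hq.mpr hc), fun Nb hNb hncl => ?_⟩,
      fun h => ⟨fun hc => h.1 (hq.mp hc), fun N hN hncl => ?_⟩⟩,
    ⟨fun h => ⟨fun hc => h.1 (hq.mpr hc), fun Nb hNb hnc => ?_⟩,
      fun h => ⟨fun hc => h.1 (hq.mp hc), fun N hN hnc => ?_⟩⟩⟩
  · have h1 := h.2 (Nb.comap (QuotientGroup.mk' D)) (hNb.comap _)
      (fun hc => hncl ((isPClosed_comap_iff D hD Nb).mp hc))
    refine (pResidual_le_map p D).trans ?_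
    have h2 := Subgroup.map_mono (f := QuotientGroup.mk' D) h1
    rwa [map_comap_mk'] at h2
  · have hNDn : (N ⊔ D).Normal := inferInstance
    have hmapn : ((N ⊔ D).map (QuotientGroup.mk' D)).Normal := hNDn.map _ hsurj
    have hcm : ((N ⊔ D).map (QuotientGroup.mk' D)).comap (QuotientGroup.mk' D) = N ⊔ D :=
      comap_map_mk' D le_sup_right
    have h1 : ¬ Cfsg.IsPClosed p ↥((N ⊔ D).map (QuotientGroup.mk' D)) := by
      intro hc
      have h2 := (isPClosed_comap_iff D hD _).mpr hc
      rw [hcm] at h2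
      exact hncl (isPClosed_of_le le_sup_left h2)
    have h3 := h.2 _ hmapn h1
    have h4 : Cfsg.pResidual p H ≤ D ⊔ N := by
      have h5 := (map_pResidual_le p D).trans h3
      have h6 := Subgroup.map_le_iff_le_comap.mp h5
      rw [hcm, sup_comm] at h6
      exact h6
    exact pResidual_le_of_le_sup hD h4
  · have h1 := h.2 (Nb.comap (QuotientGroup.mk' D)) (hNb.comap _) (fun hc => hnc (by
      have h2 := Subgroup.map_mono (f := QuotientGroup.mk' D) hc
      rw [Subgroup.map_commutator, map_comap_mk', Subgroup.map_top_of_surjective _ hsurj] at h2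
      exact h2.trans (map_pCore_le D)))
    refine (pResidual_le_map p D).trans ?_
    have h2 := Subgroup.map_mono (f := QuotientGroup.mk' D) h1
    rwa [map_comap_mk'] at h2
  · have hmapn : (N.map (QuotientGroup.mk' D)).Normal := hN.map _ hsurj
    have h1 : ¬ ⁅N.map (QuotientGroup.mk' D), (⊤ : Subgroup (H ⧸ D))⁆ ≤ Cfsg.pCore p (H ⧸ D) := by
      intro hc
      apply hnc
      have h2 : (⁅N, (⊤ : Subgroup H)⁆).map (QuotientGroup.mk' D) ≤ Cfsg.pCore p (H ⧸ D) := by
        rw [Subgroup.map_commutator, Subgroup.map_top_of_surjective _ hsurj]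
        exact hc
      exact (Subgroup.map_le_iff_le_comap.mp h2).trans (comap_pCore_le D hD)
    have h3 := h.2 _ hmapn h1
    have h4 : Cfsg.pResidual p H ≤ D ⊔ N := by
      have h5 := (map_pResidual_le p D).trans h3
      have h6 := Subgroup.comap_mono (f := QuotientGroup.mk' D) h5
      rw [Subgroup.comap_map_eq, Subgroup.comap_map_eq, QuotientGroup.ker_mk'] at h6
      refine (le_sup_left.trans h6).trans ?_
      rw [sup_comm]
    exact pResidual_le_of_le_sup hD h4

end Cfsg.Agent.S2828
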