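import Cfsg.Statements.S2829
import Mathlib

set_option autoImplicit false
open Cfsg
open scoped commutatorElement

namespace Cfsg.Agent.S2829

/-- Every strongly p-irreducible finite group is p-irreducible. -/
theorem result {H : Type*} [Group H] [Finite H] {p : ℕ} [Fact p.Prime] (hH : Cfsg.IsStronglyPIrreducible p H) : Cfsg.IsPIrreducible p H := by
  refine ⟨hH.1, fun N hN hNp => hH.2 N hN ?_⟩
  intro hle
  apply hNp
  intro P
  have hcore : IsPGroup p (pCore p H) :=
    Sylow.sSup_of_normal _ (fun K hK => hK.2) (fun K hK => hK.1)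
  have hsub : IsPGroup p ((pCore p H).subgroupOf N) :=
    hcore.comap_of_injective N.subtype N.subtype_injective
  have hle2 : (pCore p H).subgroupOf N ≤ (P : Subgroup N) :=
    hsub.le_sylow_of_normal P
  refine ⟨fun s hs n => ?_⟩
  have h1 : ((n : H) * (s : H) * (n : H)⁻¹ * (s : H)⁻¹) ∈ pCore p H := by
    apply hle
    have : ⁅(n : H), (s : H)⁆ ∈ ⁅N, (⊤ : Subgroup H)⁆ :=
      Subgroup.commutator_mem_commutator n.2 (Subgroup.mem_top _)
    simpa [commutatorElement_def] using this
  have h2 : n * s * n⁻¹ * s⁻¹ ∈ (pCore p H).subgroupOf N := by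
    rw [Subgroup.mem_subgroupOf]
    simpa using h1
  have h3 := hle2 h2
  have h4 := (P : Subgroup N).mul_mem h3 hs
  simpa using h4

end Cfsg.Agent.S2829
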