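import Cfsg.Statements.S2830
import Cfsg.Agent.Lib.Helper47.PIrr2

set_option autoImplicit false
open Cfsg

namespace Cfsg.Agent.S2830

open Cfsg.Agent.Lib.Helper47

/-- Let H act by conjugation on the elementary abelian p-subgroup V of a finite group G (H ≤ N(V)), with H p-irreducible and O^p(H) not centralizing V. Then C_H(V) is p-closed and C_T(V) ≤ O_p(H) for every p-subgroup T of H. If in addition O_p(H) centralizes V, then C_T(V) = T ∩ O_p(H) for every p-subgroup T of H, and V is p-reduced for H: O_p(H/C_H(V)) = 1. -/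
theorem result {G : Type*} [Group G] [Finite G] {p : ℕ} [Fact p.Prime] (V H : Subgroup G) (hV : Cfsg.IsElementaryAbelian p V) (hHV : H ≤ Subgroup.normalizer (V : Set G)) (hH : Cfsg.IsPIrreducible p ↥H) (hnc : ¬ (Cfsg.pResidual p ↥H).map H.subtype ≤ Subgroup.centralizer (V : Set G)) [hn : ((Subgroup.centralizer (V : Set G)).subgroupOf H).Normal] : Cfsg.IsPClosed p ↥(H ⊓ Subgroup.centralizer (V : Set G)) ∧ (∀ T : Subgroup G, T ≤ H → IsPGroup p ↥T → T ⊓ Subgroup.centralizer (V : Set G) ≤ Cfsg.pCoreOf p H) ∧ (Cfsg.pCoreOf p H ≤ Subgroup.centralizer (V : Set G) → (∀ T : Subgroup G, T ≤ H → IsPGroup p ↥T → T ⊓ Subgroup.centralizer (V : Set G) = T ⊓ Cfsg.pCoreOf p H) ∧ Cfsg.pCore p (↥H ⧸ (Subgroup.centralizer (V : Set G)).subgroupOf H) = ⊥) := by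
  have hNcl : Cfsg.IsPClosed p ↥((Subgroup.centralizer (V : Set G)).subgroupOf H) := by
    by_contra hcon
    apply hnc
    have h1 := hH.2 _ hn hcon
    rintro _ ⟨x, hx, rfl⟩
    exact Subgroup.mem_subgroupOf.mp (h1 hx)
  have hXcl : Cfsg.IsPClosed p ↥(H ⊓ Subgroup.centralizer (V : Set G)) := by
    have e1 : (Subgroup.centralizer (V : Set G)).subgroupOf H =
        (H ⊓ Subgroup.centralizer (V : Set G)).subgroupOf H := by
      rw [Subgroup.inf_subgroupOf_left]
    rw [e1] at hNcl
    exact (isPClosed_subgroupOf_iff inf_le_left).mp hNcl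
  have hHX : H ≤ Subgroup.normalizer ((H ⊓ Subgroup.centralizer (V : Set G) : Subgroup G) : Set G) :=
    (le_inf Subgroup.le_normalizer (hHV.trans (normalizer_le_normalizer_centralizer V))).trans
      Subgroup.inf_normalizer_le_normalizer_inf
  have h2 : ∀ T : Subgroup G, T ≤ H → IsPGroup p ↥T →
      T ⊓ Subgroup.centralizer (V : Set G) ≤ Cfsg.pCoreOf p H := by
    intro T hTH hT
    exact le_pCoreOf_of_isPClosed hXcl inf_le_left hHX (hT.to_le inf_le_left)
      (inf_le_inf_right _ hTH)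
  refine ⟨hXcl, h2, fun hOC => ⟨fun T hTH hT => ?_, ?_⟩⟩
  · exact le_antisymm (le_inf inf_le_left (h2 T hTH hT)) (inf_le_inf_left _ hOC)
  · rw [pCore_quot_eq_bot_iff]
    intro D hDn hDp
    have hON : Cfsg.pCore p ↥H ≤ (Subgroup.centralizer (V : Set G)).subgroupOf H := by
      intro x hx
      exact Subgroup.mem_subgroupOf.mpr (hOC ⟨x, hx, rfl⟩)
    have hDNn : (D ⊔ (Subgroup.centralizer (V : Set G)).subgroupOf H).Normal :=
      Subgroup.sup_normal D _
    by_cases hcl : Cfsg.IsPClosed p ↥(D ⊔ (Subgroup.centralizer (V : Set G)).subgroupOf H)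
    · obtain ⟨S⟩ : Nonempty (Sylow p ↥H) := inferInstance
      have h3 := le_sup_sylow_of_pow_mem D _ hDp S
      intro d hd
      have hd' : d ∈ (((Subgroup.centralizer (V : Set G)).subgroupOf H ⊔ (S : Subgroup ↥H) :
          Subgroup ↥H) : Set ↥H) := h3 hd
      rw [Subgroup.normal_mul] at hd'
      obtain ⟨n, hn', s, hs, rfl⟩ := hd'
      have hsDN : s ∈ D ⊔ (Subgroup.centralizer (V : Set G)).subgroupOf H := by
        have e : s = n⁻¹ * (n * s) := by group
        rw [e]
        exact Subgroup.mul_mem _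
          ((le_sup_right : (Subgroup.centralizer (V : Set G)).subgroupOf H ≤
            D ⊔ (Subgroup.centralizer (V : Set G)).subgroupOf H) (Subgroup.inv_mem _ hn'))
          ((le_sup_left : D ≤ D ⊔ (Subgroup.centralizer (V : Set G)).subgroupOf H) hd)
      have hsO : s ∈ Cfsg.pCore p ↥H :=
        le_pCore_of_isPClosed (D ⊔ (Subgroup.centralizer (V : Set G)).subgroupOf H) hcl
          (S.isPGroup'.to_le inf_le_left) inf_le_right (Subgroup.mem_inf.mpr ⟨hs, hsDN⟩)
      exact Subgroup.mul_mem _ hn' (hON hsO)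
    · exfalso
      apply hnc
      have h3 := hH.2 _ hDNn hcl
      have h4 : Cfsg.pResidual p ↥H ≤ (Subgroup.centralizer (V : Set G)).subgroupOf H := by
        apply pResidual_le_of_forall
        intro x hx
        have hxR : x ∈ Cfsg.pResidual p ↥H := Subgroup.subset_closure hx
        exact mem_of_mem_sup_of_coprime_of_pow hDp (h3 hxR) hx
      rintro _ ⟨x, hx, rfl⟩
      exact Subgroup.mem_subgroupOf.mp (h4 hx)

end Cfsg.Agent.S2830
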