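import Cfsg.Statements.S2831
import Cfsg.Agent.Lib.Helper47.Minimal
import Cfsg.Agent.Lib.Helper47.Syl

set_option autoImplicit false
open Cfsg

namespace Cfsg.Agent.S2831

open Cfsg.Agent.Lib.Helper47

/-- Let H be a finite group with Sylow p-subgroup T such that H is T-minimal (H is generated by the conjugates of T and T lies in exactly one maximal subgroup of H). Then H is p-irreducible: H is not p-closed and O^p(H) lies in every normal subgroup of H that is not p-closed. -/
theorem result {H : Type*} [Group H] [Finite H] {p : ℕ} [Fact p.Prime] (T : Sylow p H) (hmin : Cfsg.IsMinimalOver (T : Subgroup H)) : Cfsg.IsPIrreducible p H := by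
  obtain ⟨hncl, M, ⟨hMco, hTM⟩, hMuniq⟩ := hmin
  have huniq : ∀ M' : Subgroup H, IsCoatom M' → (T : Subgroup H) ≤ M' → M' = M :=
    fun M' h1 h2 => hMuniq M' ⟨h1, h2⟩
  have K := le_of_unique_coatom huniq
  have N' := eq_top_of_normal_of_le hncl
  have hMtop : M ≠ ⊤ := hMco.1
  refine ⟨?_, ?_⟩
  · intro hcl
    have := N' _ (hcl T) le_rfl
    exact hMtop (top_le_iff.mp (this ▸ hTM))
  · intro N hN hNp
    have hnn := not_normal_inf_of_not_isPClosed T N hNp
    have hTle : (T : Subgroup H) ≤ Subgroup.normalizer (((T : Subgroup H) ⊓ N : Subgroup H) : Set H) := by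
      intro t ht
      rw [Subgroup.mem_normalizer_iff]
      intro x
      constructor
      · rintro ⟨hxT, hxN⟩
        exact ⟨Subgroup.mul_mem _ (Subgroup.mul_mem _ ht hxT) (Subgroup.inv_mem _ ht), hN.conj_mem _ hxN t⟩
      · rintro ⟨hxT, hxN⟩
        refine ⟨?_, ?_⟩
        · have h := Subgroup.mul_mem _ (Subgroup.mul_mem _ (Subgroup.inv_mem _ ht) hxT) ht
          have e : t⁻¹ * (t * x * t⁻¹) * t = x := by group
          rw [e] at h
          exact h
        · have h := hN.conj_mem _ hxN t⁻¹
          have e : t⁻¹ * (t * x * t⁻¹) * t⁻¹⁻¹ = x := by group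
          rw [e] at h
          exact h
    have hnle : Subgroup.normalizer (((T : Subgroup H) ⊓ N : Subgroup H) : Set H) ≤ M := by
      apply K _ hTle
      intro htop
      exact hnn (Subgroup.normalizer_eq_top_iff.mp htop)
    have hTN : (T : Subgroup H) ⊔ N = ⊤ := by
      by_contra hne
      have hle := K _ le_sup_left hne
      have hfr := normalizer_inf_sup_eq_top T N
      have : (⊤ : Subgroup H) ≤ M := by
        rw [← hfr]
        exact sup_le hnle (le_sup_right.trans hle)
      exact hMtop (top_le_iff.mp this)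
    exact pResidual_le_of_isPGroup_quotient N (isPGroup_quotient_of_sup_eq_top _ N T.isPGroup' hTN)

end Cfsg.Agent.S2831
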