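import Cfsg.Statements.S2832
import Cfsg.Agent.Lib.Helper47.Minimal
import Cfsg.Agent.Lib.Helper47.Syl
import Cfsg.Agent.Lib.Helper47.Quot

set_option autoImplicit false
open Cfsg

namespace Cfsg.Agent.S2832

open Cfsg.Agent.Lib.Helper47

/-- Let H be a finite group with Sylow p-subgroup T such that H is T-minimal (generated by the conjugates of T, with T in exactly one maximal subgroup), and let N be a normal subgroup of H. Then either H/N is a p-group or H/N is minimal over the image of T in the same sense. -/
theorem result {H : Type*} [Group H] [Finite H] {p : ℕ} [Fact p.Prime] (T : Sylow p H) (hmin : Cfsg.IsMinimalOver (T : Subgroup H)) (N : Subgroup H) [N.Normal] : IsPGroup p (H ⧸ N) ∨ Cfsg.IsMinimalOver ((T : Subgroup H).map (QuotientGroup.mk' N)) := by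
  obtain ⟨hncl, M, ⟨hMco, hTM⟩, hMuniq⟩ := hmin
  have huniq : ∀ M' : Subgroup H, IsCoatom M' → (T : Subgroup H) ≤ M' → M' = M :=
    fun M' h1 h2 => hMuniq M' ⟨h1, h2⟩
  have K := le_of_unique_coatom huniq
  have N' := eq_top_of_normal_of_le hncl
  by_cases hTN : (T : Subgroup H) ⊔ N = ⊤
  · left
    exact isPGroup_quotient_of_sup_eq_top _ N T.isPGroup' hTN
  · right
    have hle := K _ le_sup_left hTN
    have hNM : N ≤ M := le_sup_right.trans hle
    refine ⟨?_, M.map (QuotientGroup.mk' N), ⟨isCoatom_map_mk' N hMco hNM, Subgroup.map_mono hTM⟩, ?_⟩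
    · have hn : ((Subgroup.normalClosure (((T : Subgroup H).map (QuotientGroup.mk' N) : Subgroup (H ⧸ N)) : Set (H ⧸ N))).comap (QuotientGroup.mk' N)).Normal :=
        Subgroup.Normal.comap Subgroup.normalClosure_normal _
      have hT : (T : Subgroup H) ≤ (Subgroup.normalClosure (((T : Subgroup H).map (QuotientGroup.mk' N) : Subgroup (H ⧸ N)) : Set (H ⧸ N))).comap (QuotientGroup.mk' N) := by
        rw [← Subgroup.map_le_iff_le_comap]
        exact Subgroup.le_normalClosure
      have htop := N' _ hn hT
      rw [← map_comap_mk' N (Subgroup.normalClosure _), htop]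
      exact Subgroup.map_top_of_surjective _ (QuotientGroup.mk'_surjective N)
    · rintro M' ⟨hM'co, hTM'⟩
      have hco := isCoatom_comap_mk' N hM'co
      have hT : (T : Subgroup H) ≤ M'.comap (QuotientGroup.mk' N) := by
        rw [← Subgroup.map_le_iff_le_comap]
        exact hTM'
      have := huniq _ hco hT
      rw [← this, map_comap_mk']

end Cfsg.Agent.S2832
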