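import Cfsg.Statements.S2833
import Cfsg.Agent.Lib.Helper47.Comm

set_option autoImplicit false
open Cfsg

namespace Cfsg.Agent.S2833

open scoped commutatorElement Pointwise
open Cfsg.Agent.Lib.Helper47

/-- Let V be a subgroup of a finite group G normalized by the subgroup L, let X ≤ L and g ∈ L with [V, X, X] = 1 and L generated by X and gXg⁻¹. Put W = [V, L]. Then W = [V, X]·[V, gXg⁻¹], C_W(X) = [V, X], and C_W(L) = [V, X] ∩ [V, gXg⁻¹]. -/
theorem result {G : Type*} [Group G] [Finite G] (V L : Subgroup G) (hLV : L ≤ Subgroup.normalizer (V : Set G)) (X : Subgroup G) (hX : X ≤ L) (g : G) (hg : g ∈ L) (hq : ⁅⁅V, X⁆, X⁆ = ⊥) (hgen : X ⊔ X.map (MulAut.conj g).toMonoidHom = L) (W : Subgroup G) (hW : W = ⁅V, L⁆) : ⁅V, X⁆ ⊔ ⁅V, X.map (MulAut.conj g).toMonoidHom⁆ = W ∧ W ⊓ Subgroup.centralizer (X : Set G) = ⁅V, X⁆ ∧ W ⊓ Subgroup.centralizer (L : Set G) = ⁅V, X⁆ ⊓ ⁅V, X.map (MulAut.conj g).toMonoidHom⁆ := by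
  have hXgL : X.map (MulAut.conj g).toMonoidHom ≤ L := by rw [← hgen]; exact le_sup_right
  have hgV : V.map (MulAut.conj g).toMonoidHom = V :=
    Subgroup.mem_normalizer_iff_map_conj_eq.mp (hLV hg)
  have hB : ⁅V, X.map (MulAut.conj g).toMonoidHom⁆ = (⁅V, X⁆).map (MulAut.conj g).toMonoidHom := by
    rw [Subgroup.map_commutator, hgV]
  have hAV : ⁅V, X⁆ ≤ V := commutator_le_of_le_normalizer (hX.trans hLV) le_rfl
  have hBV : ⁅V, X.map (MulAut.conj g).toMonoidHom⁆ ≤ V :=
    commutator_le_of_le_normalizer (hXgL.trans hLV) le_rfl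
  -- part 1
  have h1 : ⁅V, X⁆ ⊔ ⁅V, X.map (MulAut.conj g).toMonoidHom⁆ = W := by
    rw [hW, ← hgen]
    exact (commutator_sup_right V X _ (hX.trans hLV) (hXgL.trans hLV)).symm
  -- X centralizes A
  have hAX : ∀ a ∈ ⁅V, X⁆, ∀ x ∈ X, x * a = a * x := by
    intro a ha x hx
    have h : ⁅a, x⁆ ∈ ⁅⁅V, X⁆, X⁆ := Subgroup.commutator_mem_commutator ha hx
    rw [hq, Subgroup.mem_bot] at h
    exact (commutatorElement_eq_one_iff_mul_comm.mp h).symm
  -- Xg centralizes B
  have hBXg : ∀ b ∈ ⁅V, X.map (MulAut.conj g).toMonoidHom⁆,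
      ∀ x ∈ X.map (MulAut.conj g).toMonoidHom, x * b = b * x := by
    intro b hb x hx
    rw [hB] at hb
    obtain ⟨a, ha, rfl⟩ := hb
    obtain ⟨x₀, hx₀, rfl⟩ := hx
    have := hAX a ha x₀ hx₀
    simp only [MulEquiv.coe_toMonoidHom, MulAut.conj_apply]
    calc g * x₀ * g⁻¹ * (g * a * g⁻¹) = g * (x₀ * a) * g⁻¹ := by group
      _ = g * (a * x₀) * g⁻¹ := by rw [this]
      _ = g * a * g⁻¹ * (g * x₀ * g⁻¹) := by group
  -- an element of B centralizing X lies in A
  have key : ∀ b ∈ ⁅V, X.map (MulAut.conj g).toMonoidHom⁆, (∀ x ∈ X, x * b = b * x) → b ∈ ⁅V, X⁆ := by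
    intro b hb hbX
    have hL : L ≤ Subgroup.centralizer ({b} : Set G) := by
      rw [← hgen]
      refine sup_le ?_ ?_
      · intro x hx
        rw [Subgroup.mem_centralizer_iff]
        intro h hh
        rw [Set.mem_singleton_iff] at hh
        rw [hh]; exact (hbX x hx).symm
      · intro x hx
        rw [Subgroup.mem_centralizer_iff]
        intro h hh
        rw [Set.mem_singleton_iff] at hh
        rw [hh]; exact (hBXg b hb x hx).symm
    have hgb : b * g = g * b := by
      have := hL hg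
      rw [Subgroup.mem_centralizer_iff] at this
      exact this b rfl
    rw [hB] at hb
    obtain ⟨a, ha, hab⟩ := hb
    simp only [MulEquiv.coe_toMonoidHom, MulAut.conj_apply] at hab
    have : a = b := by
      have e : a = g⁻¹ * (g * a * g⁻¹) * g := by group
      rw [e, hab, mul_assoc, hgb]; group
    rw [← this]; exact ha
  -- part 2
  have h2 : W ⊓ Subgroup.centralizer (X : Set G) = ⁅V, X⁆ := by
    apply le_antisymm
    · rintro w ⟨hwW, hwX⟩
      rw [← h1] at hwW
      have hnorm : ⁅V, X.map (MulAut.conj g).toMonoidHom⁆ ≤ Subgroup.normalizer ((⁅V, X⁆ : Subgroup G) : Set G) :=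
        hBV.trans (le_normalizer_commutator_left V X)
      have hset := Subgroup.coe_mul_of_right_le_normalizer_left ⁅V, X⁆ _ hnorm
      have hw' : w ∈ ((⁅V, X⁆ ⊔ ⁅V, X.map (MulAut.conj g).toMonoidHom⁆ : Subgroup G) : Set G) := hwW
      rw [hset] at hw'
      obtain ⟨a, ha, b, hb, rfl⟩ := hw'
      have hbX : ∀ x ∈ X, x * b = b * x := by
        intro x hx
        have e1 := hAX a ha x hx
        have e2 : x * (a * b) = (a * b) * x := by
          have := (Subgroup.mem_centralizer_iff.mp hwX) x hx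
          exact this
        have : a * (x * b) = a * (b * x) := by
          rw [← mul_assoc, ← e1, mul_assoc, e2, mul_assoc]
        exact mul_left_cancel this
      exact Subgroup.mul_mem _ ha (key b hb hbX)
    · intro a ha
      refine Subgroup.mem_inf.mpr ⟨?_, ?_⟩
      · rw [← h1]; exact (le_sup_left : ⁅V, X⁆ ≤ _) ha
      · rw [Subgroup.mem_centralizer_iff]
        intro x hx
        exact hAX a ha x hx
  refine ⟨h1, h2, ?_⟩
  apply le_antisymm
  · rintro w ⟨hwW, hwL⟩
    have hwX : w ∈ Subgroup.centralizer (X : Set G) := Subgroup.centralizer_le hX hwL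
    have hwA : w ∈ ⁅V, X⁆ := by rw [← h2]; exact ⟨hwW, hwX⟩
    refine Subgroup.mem_inf.mpr ⟨hwA, ?_⟩
    rw [hB]
    refine ⟨w, hwA, ?_⟩
    simp only [MulEquiv.coe_toMonoidHom, MulAut.conj_apply]
    have := (Subgroup.mem_centralizer_iff.mp hwL) g hg
    rw [this]; group
  · rintro w ⟨hwA, hwB⟩
    refine Subgroup.mem_inf.mpr ⟨?_, ?_⟩
    · rw [← h1]; exact (le_sup_left : ⁅V, X⁆ ≤ _) hwA
    · have : L ≤ Subgroup.centralizer ({w} : Set G) := by
        rw [← hgen]
        refine sup_le ?_ ?_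
        · intro x hx
          rw [Subgroup.mem_centralizer_iff]
          intro h hh
          rw [Set.mem_singleton_iff] at hh
          rw [hh]; exact (hAX w hwA x hx).symm
        · intro x hx
          rw [Subgroup.mem_centralizer_iff]
          intro h hh
          rw [Set.mem_singleton_iff] at hh
          rw [hh]; exact (hBXg w hwB x hx).symm
      rw [Subgroup.mem_centralizer_iff]
      intro l hl
      have := (Subgroup.mem_centralizer_iff.mp (this hl)) w rfl
      exact this.symm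

end Cfsg.Agent.S2833
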