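import Cfsg.Statements.S2835
import Cfsg.Agent.Lib.Helper47.Minimal

set_option autoImplicit false
open Cfsg

namespace Cfsg.Agent.S2835

open Cfsg.Agent.Lib.Helper47

/-- Let L be a finite group, L₀ a maximal subgroup, T a Sylow p-subgroup of L₀ and Y ≤ T, and suppose L is Y-minimal (generated by the conjugates of Y, with Y in exactly one maximal subgroup, necessarily L₀). Then N_L(T) ≤ L₀, O_p(L) ≤ L₀ and T is a Sylow p-subgroup of L; N_L(L₀) = L₀; L = ⟨Y, gYg⁻¹⟩ for each g ∈ L outside L₀; and if Y is abelian then Y ∩ gYg⁻¹ = C_Y(L) for each such g. -/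
theorem result {L : Type*} [Group L] [Finite L] {p : ℕ} [Fact p.Prime] (L₀ : Subgroup L) (hL₀ : IsCoatom L₀) (T : Sylow p ↥L₀) (Y : Subgroup L) (hYT : Y ≤ (T : Subgroup ↥L₀).map L₀.subtype) (hmin : Cfsg.IsMinimalOver Y) : Subgroup.normalizer (((T : Subgroup ↥L₀).map L₀.subtype : Subgroup L) : Set L) ≤ L₀ ∧ Cfsg.pCore p L ≤ L₀ ∧ (∃ P : Sylow p L, (P : Subgroup L) = (T : Subgroup ↥L₀).map L₀.subtype) ∧ Subgroup.normalizer (L₀ : Set L) = L₀ ∧ (∀ g : L, g ∉ L₀ → Y ⊔ Y.map (MulAut.conj g).toMonoidHom = ⊤) ∧ (IsMulCommutative ↥Y → ∀ g : L, g ∉ L₀ → Y ⊓ Y.map (MulAut.conj g).toMonoidHom = Y ⊓ Subgroup.center L) := by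
  obtain ⟨hncl, M, ⟨hMco, hYM⟩, hMuniq⟩ := hmin
  have hT'L₀ : (T : Subgroup ↥L₀).map L₀.subtype ≤ L₀ := by
    rintro _ ⟨t, -, rfl⟩; exact t.2
  have hYL₀ : Y ≤ L₀ := hYT.trans hT'L₀
  have huniq : ∀ M' : Subgroup L, IsCoatom M' → Y ≤ M' → M' = L₀ := fun M' h1 h2 =>
    (hMuniq M' ⟨h1, h2⟩).trans (hMuniq L₀ ⟨hL₀, hYL₀⟩).symm
  have K := le_of_unique_coatom huniq
  have N := eq_top_of_normal_of_le hncl
  have hL₀top : L₀ ≠ ⊤ := hL₀.1
  -- (i)
  have h1 : Subgroup.normalizer (((T : Subgroup ↥L₀).map L₀.subtype : Subgroup L) : Set L) ≤ L₀ := by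
    apply K _ (hYT.trans Subgroup.le_normalizer)
    intro htop
    have hn : ((T : Subgroup ↥L₀).map L₀.subtype).Normal := Subgroup.normalizer_eq_top_iff.mp htop
    have := N _ hn hYT
    exact hL₀top (top_le_iff.mp (this ▸ hT'L₀))
  -- (iii)
  have hT'p : IsPGroup p ((T : Subgroup ↥L₀).map L₀.subtype) := T.isPGroup'.map _
  obtain ⟨P, hP⟩ := hT'p.exists_le_sylow
  have hPT' : (P : Subgroup L) = (T : Subgroup ↥L₀).map L₀.subtype := by
    apply eq_of_inf_normalizer_le P.isPGroup' hP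
    rintro x ⟨hxP, hxN⟩
    have hxL₀ : x ∈ L₀ := h1 hxN
    have hQ : IsPGroup p (((P : Subgroup L) ⊓ L₀).subgroupOf L₀) :=
      (P.isPGroup'.to_le inf_le_left).comap_of_injective L₀.subtype L₀.subtype_injective
    have hTQ : (T : Subgroup ↥L₀) ≤ ((P : Subgroup L) ⊓ L₀).subgroupOf L₀ := by
      intro t ht
      rw [Subgroup.mem_subgroupOf]
      exact ⟨hP ⟨t, ht, rfl⟩, t.2⟩
    have hQT := T.is_maximal' hQ hTQ
    have : (⟨x, hxL₀⟩ : ↥L₀) ∈ ((P : Subgroup L) ⊓ L₀).subgroupOf L₀ := by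
      rw [Subgroup.mem_subgroupOf]
      exact ⟨hxP, hxL₀⟩
    rw [hQT] at this
    exact ⟨⟨x, hxL₀⟩, this, rfl⟩
  -- (iv)
  have h4 : Subgroup.normalizer (L₀ : Set L) = L₀ := by
    apply le_antisymm _ Subgroup.le_normalizer
    apply K _ (hYL₀.trans Subgroup.le_normalizer)
    intro htop
    have hn : L₀.Normal := Subgroup.normalizer_eq_top_iff.mp htop
    exact hL₀top (N _ hn hYL₀)
  -- (v)
  have h5 : ∀ g : L, g ∉ L₀ → Y ⊔ Y.map (MulAut.conj g).toMonoidHom = ⊤ := by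
    intro g hg
    by_contra hne
    have hle := K _ le_sup_left hne
    have hYg : Y.map (MulAut.conj g).toMonoidHom ≤ L₀ := le_sup_right.trans hle
    rw [map_conj_le_iff] at hYg
    have hco := isCoatom_map_conj hL₀ g⁻¹
    have heq := huniq _ hco hYg
    have hmem : g⁻¹ ∈ Subgroup.normalizer (L₀ : Set L) :=
      Subgroup.mem_normalizer_iff_map_conj_eq.mpr heq
    rw [h4] at hmem
    exact hg (by simpa using L₀.inv_mem hmem)
  refine ⟨h1, ?_, ⟨P, hPT'⟩, h4, h5, ?_⟩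
  · exact (pCore_le_sylow P).trans (hPT' ▸ hT'L₀)
  · intro hcomm g hg
    have htop := h5 g hg
    apply le_antisymm
    · rintro z ⟨hzY, hzYg⟩
      refine Subgroup.mem_inf.mpr ⟨hzY, ?_⟩
      have hcent : Y ⊔ Y.map (MulAut.conj g).toMonoidHom ≤ Subgroup.centralizer ({z} : Set L) := by
        refine sup_le ?_ ?_
        · intro y hy
          rw [Subgroup.mem_centralizer_iff]
          intro h hh
          rw [Set.mem_singleton_iff] at hh
          rw [hh]
          exact comm_of_isMulCommutative hcomm hzY hy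
        · rintro _ ⟨y, hy, rfl⟩
          obtain ⟨z₀, hz₀, hz₀z⟩ := hzYg
          rw [Subgroup.mem_centralizer_iff]
          intro h hh
          rw [Set.mem_singleton_iff] at hh
          rw [hh, ← hz₀z]
          simp only [MulEquiv.coe_toMonoidHom, MulAut.conj_apply]
          have e : z₀ * y = y * z₀ := comm_of_isMulCommutative hcomm hz₀ hy
          calc g * z₀ * g⁻¹ * (g * y * g⁻¹) = g * (z₀ * y) * g⁻¹ := by group
            _ = g * (y * z₀) * g⁻¹ := by rw [e]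
            _ = g * y * g⁻¹ * (g * z₀ * g⁻¹) := by group
      rw [htop] at hcent
      rw [Subgroup.mem_center_iff]
      intro l
      have := hcent (Subgroup.mem_top l)
      rw [Subgroup.mem_centralizer_iff] at this
      exact (this z rfl).symm
    · rintro z ⟨hzY, hzZ⟩
      refine Subgroup.mem_inf.mpr ⟨hzY, z, hzY, ?_⟩
      simp only [MulEquiv.coe_toMonoidHom, MulAut.conj_apply]
      have := (Subgroup.mem_center_iff.mp hzZ) g
      rw [this]; group

end Cfsg.Agent.S2835
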