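import Cfsg.Statements.S2842
import Cfsg.Agent.Lib.Helper50.WeakClosedCharP
import Cfsg.Agent.Lib.Helper48.Cores

set_option autoImplicit false
open Cfsg

namespace Cfsg.Agent.S2842

/-- Let Q be a nontrivial p-subgroup of the finite group H that is a weakly closed subgroup with C_H(Q) ≤ Q, and Q ≤ L ≤ H. Suppose H has characteristic p, or more generally that C_H(y) has characteristic p for some nonidentity y ∈ C_{O_p(L)}(Q). Then [Q, C_H(O_p(L))] ≤ Q ∩ O_p(L), C_H(O_p(L)) is a p-group, and L has characteristic p. -/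
theorem result {H : Type*} [Group H] [Finite H] {p : ℕ} [Fact p.Prime] (Q : Subgroup H) (hQp : IsPGroup p ↥Q) (hQ1 : Q ≠ ⊥) (hwc : Cfsg.IsWeaklyClosedSubgroup p Q) (hCQ : Subgroup.centralizer ((Q : Subgroup H) : Set H) ≤ Q) (L : Subgroup H) (hQL : Q ≤ L) (hyp : Subgroup.centralizer (Cfsg.pCore p H : Set H) ≤ Cfsg.pCore p H ∨ ∃ y : H, y ≠ 1 ∧ y ∈ (Cfsg.pCoreOf p L) ⊓ Subgroup.centralizer ((Q : Subgroup H) : Set H) ∧ Subgroup.centralizer (Cfsg.pCore p ↥(Subgroup.centralizer ({y} : Set H)) : Set ↥(Subgroup.centralizer ({y} : Set H))) ≤ Cfsg.pCore p ↥(Subgroup.centralizer ({y} : Set H))) : ⁅Q, Subgroup.centralizer (((Cfsg.pCoreOf p L) : Subgroup H) : Set H)⁆ ≤ Q ⊓ (Cfsg.pCoreOf p L) ∧ IsPGroup p ↥(Subgroup.centralizer (((Cfsg.pCoreOf p L) : Subgroup H) : Set H)) ∧ Subgroup.centralizer (Cfsg.pCore p ↥L : Set ↥L) ≤ Cfsg.pCore p ↥L := by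
  have key : ∃ M R : Subgroup H, Q ≤ M ∧
      Subgroup.centralizer (((Cfsg.pCoreOf p L) : Subgroup H) : Set H) ≤ M ∧ IsPGroup p ↥R ∧
      M ≤ Subgroup.normalizer (R : Set H) ∧ M ⊓ Subgroup.centralizer (R : Set H) ≤ R := by
    rcases hyp with h | ⟨y, -, hy, hch⟩
    · refine ⟨⊤, Cfsg.pCore p H, le_top, le_top, Cfsg.Agent.Lib.Helper48.pCore_isPGroup' p H,
        ?_, ?_⟩
      · exact (Subgroup.normalizer_eq_top_iff.mpr (Cfsg.Agent.Lib.Helper48.pCore_normal' p H)).ge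
      · exact inf_le_right.trans h
    · refine ⟨Subgroup.centralizer ({y} : Set H),
        Cfsg.pCoreOf p (Subgroup.centralizer ({y} : Set H)), ?_, ?_,
        Cfsg.Agent.Lib.Helper47.pCoreOf_isPGroup p _,
        Cfsg.Agent.Lib.Helper47.le_normalizer_pCoreOf p _, ?_⟩
      · intro q hq
        rw [Subgroup.mem_centralizer_iff]
        intro h hh
        rw [Set.mem_singleton_iff] at hh
        subst hh
        exact ((Subgroup.mem_centralizer_iff.mp hy.2) q hq).symm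
      · apply Subgroup.centralizer_le
        intro z hz
        rw [Set.mem_singleton_iff] at hz
        rw [hz]; exact hy.1
      · intro x hx
        have hx1 : (⟨x, hx.1⟩ : ↥(Subgroup.centralizer ({y} : Set H))) ∈
            Subgroup.centralizer (Cfsg.pCore p ↥(Subgroup.centralizer ({y} : Set H)) :
              Set ↥(Subgroup.centralizer ({y} : Set H))) := by
          rw [Subgroup.mem_centralizer_iff]
          intro z hz
          apply Subtype.ext
          exact (Subgroup.mem_centralizer_iff.mp hx.2) (z : H) ⟨z, hz, rfl⟩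
        exact ⟨_, hch hx1, rfl⟩
  obtain ⟨M, R, hQM, hCM, hRp, hMR, hMc⟩ := key
  obtain ⟨h1, h2, h3⟩ := Cfsg.Agent.Lib.Helper50.wc_main hQp hwc hCQ hQL hQM hCM hRp hMR hMc
  have hQNC : Q ≤ Subgroup.normalizer
      ((Subgroup.centralizer ((Cfsg.pCoreOf p L : Subgroup H) : Set H) : Subgroup H) : Set H) :=
    hQL.trans ((Cfsg.Agent.Lib.Helper47.le_normalizer_pCoreOf p L).trans
      (Cfsg.Agent.Lib.Helper47.normalizer_le_normalizer_centralizer _))
  refine ⟨?_, h3, Cfsg.Agent.Lib.Helper50.wc_charp_of_ambient L h1⟩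
  rw [Subgroup.commutator_le]
  intro q hq c hc
  rw [commutatorElement_def]
  have hqc : q * c * q⁻¹ * c⁻¹ ∈ Q := by
    have h4 : c * q⁻¹ * c⁻¹ ∈ Q := Cfsg.Agent.Lib.Helper50.wc_conj_mem (h2 hc) (Q.inv_mem hq)
    have e : q * c * q⁻¹ * c⁻¹ = q * (c * q⁻¹ * c⁻¹) := by group
    rw [e]; exact Q.mul_mem hq h4
  have hqc' : q * c * q⁻¹ * c⁻¹ ∈
      Subgroup.centralizer ((Cfsg.pCoreOf p L : Subgroup H) : Set H) :=
    Subgroup.mul_mem _ (Cfsg.Agent.Lib.Helper50.wc_conj_mem (hQNC hq) hc) (Subgroup.inv_mem _ hc)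
  exact ⟨hqc, h1 ⟨hQL hqc, hqc'⟩⟩

end Cfsg.Agent.S2842
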