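import Cfsg.Statements.S2843
import Mathlib
import Cfsg.Agent.Lib.Helper48.LargeSub
import Cfsg.Agent.Lib.Helper22.Layer

set_option autoImplicit false
open Cfsg

namespace Cfsg.Agent.S2843
open scoped commutatorElement

open Cfsg.Agent.Lib.Helper47 Cfsg.Agent.Lib.Helper48 Cfsg.Agent.Lib.Helper22

/-- Let Q be a nontrivial large p-subgroup of the finite group H, Q ≤ L ≤ H, and Y a nontrivial p-subgroup of H normalized by L. Let L° be the weak closure of Q in L (generated by the conjugates of Q inside L). Then L° equals the weak closure of Q in L·C_H(Y), and [L°, C_H(Y)] ≤ O_p(L°); in particular C_H(Y) normalizes L°. -/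
theorem result {H : Type*} [Group H] [Finite H] {p : ℕ} [Fact p.Prime] (Q : Subgroup H) (hQp : IsPGroup p ↥Q) (hQ1 : Q ≠ ⊥) (hL : Cfsg.IsLarge Q) (L : Subgroup H) (hQL : Q ≤ L) (Y : Subgroup H) (hYp : IsPGroup p ↥Y) (hY1 : Y ≠ ⊥) (hLY : L ≤ Subgroup.normalizer ((Y : Subgroup H) : Set H)) : Cfsg.weakClosure Q L = Cfsg.weakClosure Q (L ⊔ Subgroup.centralizer ((Y : Subgroup H) : Set H)) ∧ ⁅Cfsg.weakClosure Q L, Subgroup.centralizer ((Y : Subgroup H) : Set H)⁆ ≤ (Cfsg.pCoreOf p (Cfsg.weakClosure Q L)) ∧ Subgroup.centralizer ((Y : Subgroup H) : Set H) ≤ Subgroup.normalizer (((Cfsg.weakClosure Q L) : Subgroup H) : Set H) := by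
  set C := Subgroup.centralizer ((Y : Subgroup H) : Set H) with hCdef
  have hCY : C ≤ Subgroup.normalizer (Y : Set H) := Subgroup.centralizer_le_normalizer _
  have hLC : L ≤ Subgroup.normalizer (C : Set H) :=
    hLY.trans (normalizer_le_normalizer_centralizer Y)
  have hF1 : ∀ g : H, Q.map (MulAut.conj g).toMonoidHom ≤ Subgroup.normalizer (Y : Set H) →
      C ≤ Subgroup.normalizer ((Q.map (MulAut.conj g).toMonoidHom : Subgroup H) : Set H) :=
    fun g hg => large_centralizer_le_normalizer (isLarge_map_conj hL g) (hQp.map _) hYp hY1 hg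
  have hF2 : ∀ g : H, Q.map (MulAut.conj g).toMonoidHom ≤ L ⊔ C →
      Q.map (MulAut.conj g).toMonoidHom ≤ L := by
    intro g hg
    have hMN : L ⊔ C ≤ Subgroup.normalizer (Y : Set H) := sup_le hLY hCY
    have hCW := hF1 g (hg.trans hMN)
    obtain ⟨m, hm, P, hP, hWP, hQmP⟩ := exists_conj_le_common_pgroup (L ⊔ C)
      (Q.map (MulAut.conj g).toMonoidHom) Q (hQp.map _) hQp hg (hQL.trans le_sup_left)
    have hm' : m ∈ ((C ⊔ L : Subgroup H) : Set H) := by rw [sup_comm]; exact hm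
    rw [Subgroup.coe_mul_of_right_le_normalizer_left C L hLC] at hm'
    obtain ⟨c, hc, l, hl, rfl⟩ := hm'
    have h1 : Q.map (MulAut.conj l).toMonoidHom ≤ P.map (MulAut.conj c⁻¹).toMonoidHom := by
      have := Subgroup.map_mono (f := (MulAut.conj c⁻¹).toMonoidHom) hQmP
      rw [map_conj_map_conj] at this
      simpa using this
    have h2 : Q.map (MulAut.conj g).toMonoidHom ≤ P.map (MulAut.conj c⁻¹).toMonoidHom := by
      have := Subgroup.map_mono (f := (MulAut.conj c⁻¹).toMonoidHom) hWP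
      rwa [map_conj_eq_of_mem_normalizer (Subgroup.inv_mem _ (hCW hc))] at this
    have h3 := large_conj_eq_of_le_pgroup hL hQ1 (P.map (MulAut.conj c⁻¹).toMonoidHom)
      (hP.map _) g l h2 h1
    rw [h3]
    rintro _ ⟨q, hq, rfl⟩
    exact L.mul_mem (L.mul_mem hl (hQL hq)) (L.inv_mem hl)
  have hWL : Cfsg.weakClosure Q L ≤ L := iSup_le fun g => g.2
  have hgen : ∀ g : H, Q.map (MulAut.conj g).toMonoidHom ≤ L →
      Q.map (MulAut.conj g).toMonoidHom ≤ Cfsg.weakClosure Q L := fun g hg =>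
    le_iSup (fun g : {g : H // Q.map (MulAut.conj g).toMonoidHom ≤ L} =>
      Q.map (MulAut.conj (g : H)).toMonoidHom) ⟨g, hg⟩
  have hCW : C ≤ Subgroup.normalizer ((Cfsg.weakClosure Q L : Subgroup H) : Set H) := by
    apply Cfsg.Agent.Lib.Helper47.le_normalizer_of_conj_mem
    intro c hc n hn
    have h1 : (Cfsg.weakClosure Q L).map (MulAut.conj c).toMonoidHom ≤ Cfsg.weakClosure Q L := by
      conv_lhs => unfold Cfsg.weakClosure
      rw [Subgroup.map_iSup]
      apply iSup_le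
      rintro ⟨g, hg⟩
      rw [map_conj_eq_of_mem_normalizer (hF1 g (hg.trans hLY) hc)]
      exact hgen g hg
    exact h1 ⟨n, hn, rfl⟩
  refine ⟨le_antisymm ?_ ?_, ?_, hCW⟩
  · apply iSup_le
    rintro ⟨g, hg⟩
    exact le_iSup (fun g : {g : H // Q.map (MulAut.conj g).toMonoidHom ≤ L ⊔ C} =>
      Q.map (MulAut.conj (g : H)).toMonoidHom) ⟨g, hg.trans le_sup_left⟩
  · apply iSup_le
    rintro ⟨g, hg⟩
    exact hgen g (hF2 g hg)
  · have hWO : Cfsg.weakClosure Q L ≤ Subgroup.normalizer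
        ((Cfsg.pCoreOf p (Cfsg.weakClosure Q L) : Subgroup H) : Set H) :=
      le_normalizer_pCoreOf p _
    have hWC : Cfsg.weakClosure Q L ≤ Subgroup.normalizer
        ((Cfsg.weakClosure Q L ⊓ C : Subgroup H) : Set H) :=
      (le_inf Subgroup.le_normalizer (hWL.trans hLC)).trans Subgroup.inf_normalizer_le_normalizer_inf
    have hO2 : Cfsg.pCoreOf p (Cfsg.weakClosure Q L ⊓ C) ≤ Cfsg.pCoreOf p (Cfsg.weakClosure Q L) :=
      le_pCoreOf_of_le_normalizer (pCoreOf_isPGroup p _) ((pCoreOf_le p _).trans inf_le_left)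
        (hWC.trans (normalizer_le_normalizer_pCoreOf p _))
    have hgenO : ∀ g : H, Q.map (MulAut.conj g).toMonoidHom ≤ L →
        ∀ x ∈ Q.map (MulAut.conj g).toMonoidHom, ∀ c ∈ C,
          x * c * x⁻¹ * c⁻¹ ∈ Cfsg.pCoreOf p (Cfsg.weakClosure Q L) := by
      intro g hg x hx c hc
      apply hO2
      have hA : Q.map (MulAut.conj g).toMonoidHom ⊓ C ≤ Cfsg.pCoreOf p (Cfsg.weakClosure Q L ⊓ C) :=
        le_pCoreOf_of_le_normalizer ((hQp.map _).to_le inf_le_left)
          (inf_le_inf_right _ (hgen g hg))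
          ((inf_le_right.trans (le_inf (hF1 g (hg.trans hLY)) Subgroup.le_normalizer)).trans
            Subgroup.inf_normalizer_le_normalizer_inf)
      apply hA
      refine ⟨?_, ?_⟩
      · have h1 : c * x⁻¹ * c⁻¹ ∈ Q.map (MulAut.conj g).toMonoidHom :=
          (Subgroup.mem_normalizer_iff.mp (hF1 g (hg.trans hLY) hc) x⁻¹).mp (Subgroup.inv_mem _ hx)
        have e : x * c * x⁻¹ * c⁻¹ = x * (c * x⁻¹ * c⁻¹) := by group
        rw [e]; exact Subgroup.mul_mem _ hx h1
      · have h1 : x * c * x⁻¹ ∈ C := (Subgroup.mem_normalizer_iff.mp (hLC (hg hx)) c).mp hc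
        exact C.mul_mem h1 (C.inv_mem hc)
    rw [Subgroup.commutator_le]
    intro w hw c hc
    have key : w ∈ Subgroup.normalizer
          ((Cfsg.pCoreOf p (Cfsg.weakClosure Q L) : Subgroup H) : Set H) ∧
        ∀ c ∈ C, w * c * w⁻¹ * c⁻¹ ∈ Cfsg.pCoreOf p (Cfsg.weakClosure Q L) := by
      refine Subgroup.iSup_induction
        (fun g : {g : H // Q.map (MulAut.conj g).toMonoidHom ≤ L} =>
          Q.map (MulAut.conj (g : H)).toMonoidHom)
        (C := fun w => w ∈ Subgroup.normalizer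
          ((Cfsg.pCoreOf p (Cfsg.weakClosure Q L) : Subgroup H) : Set H) ∧
          ∀ c ∈ C, w * c * w⁻¹ * c⁻¹ ∈ Cfsg.pCoreOf p (Cfsg.weakClosure Q L)) hw ?_ ?_ ?_
      · rintro ⟨g, hg⟩ x hx
        exact ⟨hWO (hgen g hg hx), hgenO g hg x hx⟩
      · exact ⟨Subgroup.one_mem _, fun c hc => by simp⟩
      · rintro x y ⟨hx1, hx2⟩ ⟨hy1, hy2⟩
        refine ⟨Subgroup.mul_mem _ hx1 hy1, fun c hc => ?_⟩
        have e : x * y * c * (x * y)⁻¹ * c⁻¹ =
            x * (y * c * y⁻¹ * c⁻¹) * x⁻¹ * (x * c * x⁻¹ * c⁻¹) := by group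
        rw [e]
        exact Subgroup.mul_mem _ ((Subgroup.mem_normalizer_iff.mp hx1 _).mp (hy2 c hc)) (hx2 c hc)
    exact key.2 c hc

end Cfsg.Agent.S2843
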