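import Cfsg.Statements.S2844
import Cfsg.Agent.Lib.Helper47.Large

set_option autoImplicit false
open Cfsg

namespace Cfsg.Agent.S2844

open Cfsg.Agent.Lib.Helper47

/-- Let Q be a nontrivial large p-subgroup of the finite group H and Q• = O_p(N_H(Q)). Then for every g ∈ H outside N_H(Q): C_H(Q) ∩ C_H(gQg⁻¹) = 1, C_H(Q•) ∩ C_H(gQ•g⁻¹) = 1, Z(Q) ∩ Z(gQg⁻¹) = 1 and Z(Q•) ∩ Z(gQ•g⁻¹) = 1; moreover N_H(Q) = N_H(Q•) and Q• is large in H. -/
theorem result {H : Type*} [Group H] [Finite H] {p : ℕ} [Fact p.Prime] (Q : Subgroup H) (hQp : IsPGroup p ↥Q) (hQ1 : Q ≠ ⊥) (hL : Cfsg.IsLarge Q) (Qb : Subgroup H) (hQb : Qb = Cfsg.largeBullet p Q) : (∀ g : H, g ∉ Subgroup.normalizer ((Q : Subgroup H) : Set H) → Subgroup.centralizer ((Q : Subgroup H) : Set H) ⊓ Subgroup.centralizer ((((Q : Subgroup H).map (MulAut.conj (g : H)).toMonoidHom) : Subgroup H) : Set H) = ⊥ ∧ Subgroup.centralizer ((Qb : Subgroup H) : Set H) ⊓ Subgroup.centralizer ((((Qb : Subgroup H).map (MulAut.conj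 (g : H)).toMonoidHom) : Subgroup H) : Set H) = ⊥ ∧ (Q ⊓ Subgroup.centralizer ((Q : Subgroup H) : Set H)) ⊓ (((Q : Subgroup H).map (MulAut.conj (g : H)).toMonoidHom) ⊓ Subgroup.centralizer ((((Q : Subgroup H).map (MulAut.conj (g : H)).toMonoidHom) : Subgroup H) : Set H)) = ⊥ ∧ (Qb ⊓ Subgroup.centralizer ((Qb : Subgroup H) : Set H)) ⊓ (((Qb : Subgroup H).map (MulAut.conj (g : H)).toMonoidHom) ⊓ Subgroup.centralizer ((((Qb : Subgroup H).map (MulAut.conj (g : H)).toMonoidHom) : Subgroup H) : Set H)) = ⊥) ∧ Subgroup.normalizer ((Q : Subgroup H) : Set H) = Subgroup.normalizer ((Qb : Subgroup H) : Set H) ∧ Cfsg.IsLarge Qb := by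
  have hQQb : Q ≤ Qb := by rw [hQb]; exact le_pCoreOf_normalizer hQp
  have hQbp : IsPGroup p Qb := by rw [hQb]; exact pCoreOf_isPGroup p _
  have hCle : Subgroup.centralizer (Qb : Set H) ≤ Subgroup.centralizer (Q : Set H) :=
    Subgroup.centralizer_le hQQb
  have hN : Subgroup.normalizer (Q : Set H) = Subgroup.normalizer (Qb : Set H) := by
    apply le_antisymm
    · rw [hQb]; exact le_normalizer_pCoreOf p _
    · exact IsLarge_normalizer_le hL hQbp hQQb hQ1
  have hLb : Cfsg.IsLarge Qb := by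
    refine ⟨hCle.trans (hL.1.trans hQQb), ?_⟩
    intro U hU hU1
    rw [← hN]
    exact hL.2 U (hU.trans hCle) hU1
  -- claim 1
  have c1 : ∀ g : H, g ∉ Subgroup.normalizer (Q : Set H) →
      Subgroup.centralizer (Q : Set H) ⊓
        Subgroup.centralizer ((Q.map (MulAut.conj g).toMonoidHom : Subgroup H) : Set H) = ⊥ := by
    intro g hg
    by_contra hU
    have hLg := isLarge_map_conj hL g
    have n1 := hL.2 _ inf_le_left hU
    have n2 := hLg.2 _ inf_le_right hU
    have q1 : Q ≤ Subgroup.normalizer ((Q.map (MulAut.conj g).toMonoidHom : Subgroup H) : Set H) :=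
      ((Subgroup.le_centralizer_iff.mp inf_le_left).trans (Subgroup.centralizer_le_normalizer _)).trans n2
    have q2 : Q.map (MulAut.conj g).toMonoidHom ≤ Subgroup.normalizer (Q : Set H) :=
      ((Subgroup.le_centralizer_iff.mp inf_le_right).trans (Subgroup.centralizer_le_normalizer _)).trans n1
    have hp : IsPGroup p (Q.map (MulAut.conj g).toMonoidHom ⊔ Q : Subgroup H) :=
      IsPGroup.to_sup_of_normal_right' (hQp.map _) hQp q2
    obtain ⟨T, hT⟩ := hp.exists_le_sylow
    exact hg (IsLarge_mem_normalizer_of_le_sylow hL hQ1 T (le_sup_right.trans hT) g (le_sup_left.trans hT))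
  refine ⟨fun g hg => ⟨c1 g hg, ?_, ?_, ?_⟩, hN, hLb⟩
  · have hCle' : Subgroup.centralizer ((Qb.map (MulAut.conj g).toMonoidHom : Subgroup H) : Set H) ≤
        Subgroup.centralizer ((Q.map (MulAut.conj g).toMonoidHom : Subgroup H) : Set H) :=
      Subgroup.centralizer_le (Subgroup.map_mono hQQb)
    exact le_bot_iff.mp ((inf_le_inf hCle hCle').trans (c1 g hg).le)
  · exact le_bot_iff.mp ((inf_le_inf inf_le_right inf_le_right).trans (c1 g hg).le)
  · have hCle' : Subgroup.centralizer ((Qb.map (MulAut.conj g).toMonoidHom : Subgroup H) : Set H) ≤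
        Subgroup.centralizer ((Q.map (MulAut.conj g).toMonoidHom : Subgroup H) : Set H) :=
      Subgroup.centralizer_le (Subgroup.map_mono hQQb)
    exact le_bot_iff.mp ((inf_le_inf (inf_le_right.trans hCle) (inf_le_right.trans hCle')).trans (c1 g hg).le)

end Cfsg.Agent.S2844
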