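import Cfsg.Statements.S2847
import Cfsg.Agent.Lib.Helper47.FrakM

set_option autoImplicit false
open Cfsg

namespace Cfsg.Agent.S2847
open Cfsg.Agent.Lib.Helper47

/-- Let H be a finite group of parabolic characteristic p, T a Sylow p-subgroup and L a subgroup containing T with O_p(L) ≠ 1 and C_H(O_p(L)) ≤ O_p(L). Then there are M ≥ T with the basic property (M ∈ 𝔐_H) and L* with T ≤ L* ≤ M, O_p(L*) ≠ 1, C_H(O_p(L*)) ≤ O_p(L*), such that Y_L = Y_{L*} ≤ Y_M and L·C_H(Y_L) = L*·C_H(Y_L), Y denoting largest p-reduced normal subgroups. -/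
theorem result {H : Type*} [Group H] [Finite H] {p : ℕ} [Fact p.Prime] (hH : Cfsg.IsOfParabolicCharacteristic p H) (T : Sylow p H) (L : Subgroup H) (hTL : (T : Subgroup H) ≤ L) (hL : L ∈ Cfsg.charPSubgroups p H) : ∃ M Ls : Subgroup H, (T : Subgroup H) ≤ M ∧ Cfsg.IsInFrakM p M ∧ (T : Subgroup H) ≤ Ls ∧ Ls ≤ M ∧ Ls ∈ Cfsg.charPSubgroups p H ∧ (Cfsg.largestPReducedOf p L) = (Cfsg.largestPReducedOf p Ls) ∧ (Cfsg.largestPReducedOf p L) ≤ (Cfsg.largestPReducedOf p M) ∧ L ⊔ Subgroup.centralizer (((Cfsg.largestPReducedOf p L) : Subgroup H) : Set H) = Ls ⊔ Subgroup.centralizer (((Cfsg.largestPReducedOf p L) : Subgroup H) : Set H) := by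
  obtain ⟨M, hTM, hMF, hYLM, hprod⟩ := exists_frakM hH T L hTL hL
  have hLc := charP_of_mem_charPSubgroups hL
  obtain ⟨hLY, hEA, -⟩ := largestPReducedOf_spec p L
  have hYL1 : Cfsg.largestPReducedOf p L ≠ ⊥ := largestPReducedOf_ne_bot T hTL hLc hL.1
  have hLA : L ⊔ Subgroup.centralizer ((Cfsg.largestPReducedOf p L : Subgroup H) : Set H) ≤
      Subgroup.normalizer ((Cfsg.largestPReducedOf p L : Subgroup H) : Set H) :=
    sup_le hLY (Subgroup.centralizer_le_normalizer _)
  have hTL₁ : (T : Subgroup H) ≤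
      (L ⊔ Subgroup.centralizer ((Cfsg.largestPReducedOf p L : Subgroup H) : Set H)) ⊓ M :=
    le_inf (hTL.trans le_sup_left) hTM
  have hfac : (L ⊔ Subgroup.centralizer ((Cfsg.largestPReducedOf p L : Subgroup H) : Set H)) ⊓ M ⊔
      Subgroup.centralizer ((Cfsg.largestPReducedOf p L : Subgroup H) : Set H) =
      L ⊔ Subgroup.centralizer ((Cfsg.largestPReducedOf p L : Subgroup H) : Set H) := by
    apply le_antisymm
    · exact sup_le inf_le_left le_sup_right
    · refine sup_le ?_ le_sup_right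
      intro l hl
      obtain ⟨m, hm, a, ha, e⟩ := hprod l hl
      have hm' : m ∈ (L ⊔ Subgroup.centralizer
          ((Cfsg.largestPReducedOf p L : Subgroup H) : Set H)) ⊓ M := by
        refine ⟨?_, hm⟩
        have : m = l * a⁻¹ := by rw [e]; group
        rw [this]
        exact Subgroup.mul_mem _ (Subgroup.mem_sup_left hl)
          (Subgroup.mem_sup_right (Subgroup.inv_mem _ ha))
      rw [e]
      exact Subgroup.mul_mem _ (Subgroup.mem_sup_left hm') (Subgroup.mem_sup_right ha)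
  have hYL₁ : Cfsg.largestPReducedOf p L ≤
      (L ⊔ Subgroup.centralizer ((Cfsg.largestPReducedOf p L : Subgroup H) : Set H)) ⊓ M :=
    le_inf ((largestPReducedOf_le p L).trans le_sup_left)
      (hYLM.trans (largestPReducedOf_le p M))
  have hL₁O : Cfsg.pCore p
      ↥((L ⊔ Subgroup.centralizer ((Cfsg.largestPReducedOf p L : Subgroup H) : Set H)) ⊓ M) ≠ ⊥ := by
    apply pCore_ne_bot_of_pCoreOf_ne_bot
    intro h0
    apply hYL1
    have h1 := le_pCoreOf_of_le_normalizer (isPGroup_of_isElementaryAbelian hEA) hYL₁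
      (inf_le_left.trans hLA)
    rw [h0] at h1
    exact le_bot_iff.mp h1
  have hL₁L := mem_charPSubgroups_of_parabolic hH T hTL₁ hL₁O
  have hL₁c := charP_of_mem_charPSubgroups hL₁L
  obtain ⟨hY1, hfac'⟩ := Cfsg.Agent.S2824.result T L _ hTL hTL₁ hLc hL₁c _ rfl hfac _ rfl
  have hTLs : (T : Subgroup H) ≤
      (L ⊔ Subgroup.centralizer ((Cfsg.largestPReducedOf p L : Subgroup H) : Set H)) ⊓ M ⊓
        Subgroup.normalizer ((((T : Subgroup H) ⊓ Subgroup.centralizer
          ((Cfsg.largestPReducedOf p L : Subgroup H) : Set H) : Subgroup H)) : Set H) := by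
    refine le_inf hTL₁ ?_
    exact (le_inf Subgroup.le_normalizer
      ((hTL.trans hLY).trans (normalizer_le_normalizer_centralizer _))).trans
      Subgroup.inf_normalizer_le_normalizer_inf
  have hLsO : Cfsg.pCore p
      ↥((L ⊔ Subgroup.centralizer ((Cfsg.largestPReducedOf p L : Subgroup H) : Set H)) ⊓ M ⊓
        Subgroup.normalizer ((((T : Subgroup H) ⊓ Subgroup.centralizer
          ((Cfsg.largestPReducedOf p L : Subgroup H) : Set H) : Subgroup H)) : Set H)) ≠ ⊥ := by
    apply pCore_ne_bot_of_pCoreOf_ne_bot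
    intro h0
    apply hYL1
    have h1 := largestPReducedOf_le_pCoreOf p
      ((L ⊔ Subgroup.centralizer ((Cfsg.largestPReducedOf p L : Subgroup H) : Set H)) ⊓ M ⊓
        Subgroup.normalizer ((((T : Subgroup H) ⊓ Subgroup.centralizer
          ((Cfsg.largestPReducedOf p L : Subgroup H) : Set H) : Subgroup H)) : Set H))
    rw [hY1, h0] at h1
    exact le_bot_iff.mp h1
  exact ⟨M, _, hTM, hMF, hTLs, inf_le_left.trans inf_le_right,
    mem_charPSubgroups_of_parabolic hH T hTLs hLsO, hY1.symm, hYLM, hfac'⟩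

end Cfsg.Agent.S2847
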