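import Cfsg.Statements.S2846
import Cfsg.Agent.Lib.Helper47.FrakMLarge
import Cfsg.Agent.S2847

set_option autoImplicit false
open Cfsg

namespace Cfsg.Agent.S2846
open Cfsg.Agent.Lib.Helper47

/-- Let Q be a nontrivial large p-subgroup of the finite group H, S a Sylow p-subgroup containing Q, and L a subgroup containing S with O_p(L) ≠ 1 and C_H(O_p(L)) ≤ O_p(L). Then there are a subgroup M containing S having the basic property (M ∈ 𝔐_H, writing Y_X for the largest p-reduced normal subgroup of X and 𝓛_H for the set of subgroups X with O_p(X) ≠ 1 and C_H(O_p(X)) ≤ O_p(X): M ∈ 𝓛_H, M·C_H(Y_M) is the only maximal member of 𝓛_H containing M and its largest p-reduced normal subgroup is again Y_M, C_M(Y_M) is p-closed, and the image of C_M(Y_M) in M/O_p(M) lies in the Frattini subgroup of M/O_p(M)) and a subgroup L* with S ≤ L* ≤ M, O_p(L*) ≠ 1, C_H(O_p(L*)) ≤ O_p(L*), such that L·C_H(Y_L) = L*·C_H(Y_L), the weak closures of Q in L and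 in L* agree and lie in that of M, and Y_L = Y_{L*} ≤ Y_M. If moreover Q is not normal in L, then Q is normal in neither L* nor M. -/
theorem result {H : Type*} [Group H] [Finite H] {p : ℕ} [Fact p.Prime] (Q : Subgroup H) (hQp : IsPGroup p ↥Q) (hQ1 : Q ≠ ⊥) (hLg : Cfsg.IsLarge Q) (S : Sylow p H) (hQS : Q ≤ (S : Subgroup H)) (L : Subgroup H) (hSL : (S : Subgroup H) ≤ L) (hL : L ∈ Cfsg.charPSubgroups p H) : ∃ M Ls : Subgroup H, (S : Subgroup H) ≤ M ∧ Cfsg.IsInFrakM p M ∧ (S : Subgroup H) ≤ Ls ∧ Ls ≤ M ∧ Ls ∈ Cfsg.charPSubgroups p H ∧ L ⊔ Subgroup.centralizer (((Cfsg.largestPReducedOf p L) : Subgroup H) : Set H) = Ls ⊔ Subgroup.centralizer (((Cfsg.largestPReducedOf p L) : Subgroup H) : Set H) ∧ Cfsg.weakClosure Q L = Cfsg.weakClosure Q Ls ∧ Cfsg.weakClosure Q Ls ≤ Cfsg.weakClosure Q M ∧ (Cfsg.largestPReducedOf p L) = (Cfsg.largestPReducedOf p Ls) ∧ (Cfsg.largestPReducedOf p Ls) ≤ (Cfsg.largestPReducedOf p M) ∧ (¬ L ≤ Subgroup.normalizer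 ((Q : Subgroup H) : Set H) → ¬ Ls ≤ Subgroup.normalizer ((Q : Subgroup H) : Set H) ∧ ¬ M ≤ Subgroup.normalizer ((Q : Subgroup H) : Set H)) := by
  have hH := isOfParabolicCharacteristic_of_isLarge hQp hQ1 hLg
  obtain ⟨M, Ls, hSM, hMF, hSLs, hLsM, hLsL, hY, hYM, hfac⟩ :=
    Cfsg.Agent.S2847.result hH S L hSL hL
  have hLc := charP_of_mem_charPSubgroups hL
  obtain ⟨hLY, hEA, -⟩ := largestPReducedOf_spec p L
  have hLsY : Ls ≤ Subgroup.normalizer ((Cfsg.largestPReducedOf p L : Subgroup H) : Set H) := by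
    have := (largestPReducedOf_spec p Ls).1
    rwa [← hY] at this
  have hYL1 : Cfsg.largestPReducedOf p L ≠ ⊥ := largestPReducedOf_ne_bot S hSL hLc hL.1
  have hYS : Cfsg.largestPReducedOf p L ≤ (S : Subgroup H) :=
    (largestPReducedOf_le_pCoreOf p L).trans (pCoreOf_le_sylow S hSL)
  obtain ⟨w, hwY, hw1, hwc⟩ :=
    exists_mem_center_of_normal_subgroup S.isPGroup' hYS (hSL.trans hLY) hYL1
  have hAQ : Subgroup.centralizer ((Cfsg.largestPReducedOf p L : Subgroup H) : Set H) ≤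
      Subgroup.normalizer (Q : Set H) := by
    intro d hd
    exact mem_normalizer_of_isLarge_of_commute hLg S hQS hw1 hwc
      ((Subgroup.mem_centralizer_iff.mp hd) w hwY)
  have hNN := normalizer_le_normalizer_centralizer (Cfsg.largestPReducedOf p L)
  have hwc1 : Cfsg.weakClosure Q L ≤ Cfsg.weakClosure Q Ls :=
    weakClosure_le_of_le_sup hQp hQ1 hLg S hQS hSL hSLs (hLsY.trans hNN) hAQ
      (le_sup_left.trans hfac.le)
  have hwc2 : Cfsg.weakClosure Q Ls ≤ Cfsg.weakClosure Q L :=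
    weakClosure_le_of_le_sup hQp hQ1 hLg S hQS hSLs hSL (hLY.trans hNN) hAQ
      (le_sup_left.trans hfac.ge)
  have hwc3 : Cfsg.weakClosure Q Ls ≤ Cfsg.weakClosure Q M := by
    unfold Cfsg.weakClosure
    apply iSup_le
    rintro ⟨g, hg⟩
    exact le_iSup_of_le (⟨g, hg.trans hLsM⟩ :
      {g : H // Q.map (MulAut.conj g).toMonoidHom ≤ M}) le_rfl
  refine ⟨M, Ls, hSM, hMF, hSLs, hLsM, hLsL, hfac, le_antisymm hwc1 hwc2, hwc3, hY,
    hY ▸ hYM, ?_⟩
  intro hLQ
  have h1 : ¬ Ls ≤ Subgroup.normalizer (Q : Set H) := by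
    intro h
    apply hLQ
    exact (le_sup_left.trans hfac.le).trans (sup_le h hAQ)
  exact ⟨h1, fun h => h1 (hLsM.trans h)⟩

end Cfsg.Agent.S2846
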