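import Cfsg.Statements.S2848
import Cfsg.Agent.Lib.Helper47.PRedSub
import Cfsg.Agent.Lib.Helper47.PIrr

set_option autoImplicit false
open Cfsg

namespace Cfsg.Agent.S2848

open Cfsg.Agent.Lib.Helper47

/-- A `p`-subgroup of a `p`-closed subgroup `X` normalized by `M ≥ X` lies in `O_p(M)`. -/
theorem le_pCoreOf_of_isPClosed {G : Type*} [Group G] [Finite G] {p : ℕ} [Fact p.Prime]
    {X M : Subgroup G} (hX : Cfsg.IsPClosed p ↥X) (hXM : X ≤ M)
    (hMX : M ≤ Subgroup.normalizer (X : Set G)) {A : Subgroup G} (hA : IsPGroup p A)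
    (hAX : A ≤ X) : A ≤ Cfsg.pCoreOf p M := by
  obtain ⟨P₀⟩ : Nonempty (Sylow p X) := inferInstance
  have hP₀n : (P₀ : Subgroup X).Normal := hX P₀
  -- every p-subgroup of X lies in P₀
  have hall : ∀ B : Subgroup G, IsPGroup p B → B ≤ X → B ≤ (P₀ : Subgroup X).map X.subtype := by
    intro B hB hBX
    have hB' : IsPGroup p (B.subgroupOf X) := hB.comap_of_injective _ X.subtype_injective
    obtain ⟨P', hP'⟩ := hB'.exists_le_sylow
    have hle : (P₀ : Subgroup X) ≤ P' := P₀.isPGroup'.le_sylow_of_normal P'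
    have hPP := P₀.is_maximal' P'.isPGroup' hle
    intro b hb
    exact ⟨⟨b, hBX hb⟩, hPP ▸ hP' (Subgroup.mem_subgroupOf.mpr hb), rfl⟩
  have hP₀X : (P₀ : Subgroup X).map X.subtype ≤ X := by
    rintro _ ⟨x, -, rfl⟩; exact x.2
  have hP₀p : IsPGroup p ((P₀ : Subgroup X).map X.subtype) := P₀.isPGroup'.map _
  have hMP : M ≤ Subgroup.normalizer (((P₀ : Subgroup X).map X.subtype : Subgroup G) : Set G) := by
    apply le_normalizer_of_conj_mem
    intro m hm n hn
    have hXm : X.map (MulAut.conj m).toMonoidHom = X := map_conj_eq_of_mem_normalizer (hMX hm)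
    have h1 : ((P₀ : Subgroup X).map X.subtype).map (MulAut.conj m).toMonoidHom ≤ X := by
      have := Subgroup.map_mono (f := (MulAut.conj m).toMonoidHom) hP₀X
      rwa [hXm] at this
    exact hall _ (hP₀p.map _) h1 ⟨n, hn, rfl⟩
  have hn : (((P₀ : Subgroup X).map X.subtype).subgroupOf M).Normal :=
    (Subgroup.normal_subgroupOf_iff_le_normalizer (hP₀X.trans hXM)).mpr hMP
  have hle := le_pCore hn (hP₀p.comap_of_injective _ M.subtype_injective)
  intro a ha
  have ha' := hall A hA hAX ha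
  exact ⟨⟨a, hXM (hP₀X ha')⟩, hle (Subgroup.mem_subgroupOf.mpr ha'), rfl⟩

/-- Standing hypotheses: G a finite group, S a Sylow p-subgroup, Q a nontrivial large p-subgroup of G contained in S (C_G(Q) ≤ Q and N_G(U) ≤ N_G(Q) for all nontrivial U ≤ C_G(Q)), and M a subgroup containing S with the basic property (M ∈ 𝔐_G(S)); Y_M denotes the largest p-reduced normal subgroup of M and M† = M·C_G(Y_M). Then O_p(M) is a weakly closed subgroup of M† (for p): it is the only M†-conjugate of itself inside some Sylow p-subgroup of M† containing it. -/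
theorem result {G : Type*} [Group G] [Finite G] {p : ℕ} [Fact p.Prime] (S : Sylow p G) (Q : Subgroup G) (hQp : IsPGroup p ↥Q) (hQ1 : Q ≠ ⊥) (hQS : Q ≤ (S : Subgroup G)) (hQ : Cfsg.IsLarge Q) (M : Subgroup G) (hSM : (S : Subgroup G) ≤ M) (hM : Cfsg.IsInFrakM p M) : Cfsg.IsWeaklyClosedSubgroup p (((Cfsg.pCoreOf p M)).subgroupOf (M ⊔ Subgroup.centralizer (((Cfsg.largestPReducedOf p M) : Subgroup G) : Set G))) := by
  obtain ⟨hMY, -, -⟩ := largestPReducedOf_spec p M
  have hpcl : Cfsg.IsPClosed p ↥(M ⊓ Subgroup.centralizer ((Cfsg.largestPReducedOf p M : Subgroup G) : Set G)) :=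
    hM.2.2.2.2.1
  have hNC := normalizer_le_normalizer_centralizer (Cfsg.largestPReducedOf p M)
  have hMdN : M ⊔ Subgroup.centralizer ((Cfsg.largestPReducedOf p M : Subgroup G) : Set G) ≤
      Subgroup.normalizer ((Subgroup.centralizer ((Cfsg.largestPReducedOf p M : Subgroup G) : Set G) : Subgroup G) : Set G) :=
    sup_le (hMY.trans hNC) Subgroup.le_normalizer
  have hSMd : (S : Subgroup G) ≤ M ⊔ Subgroup.centralizer ((Cfsg.largestPReducedOf p M : Subgroup G) : Set G) :=
    hSM.trans le_sup_left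
  have hOS : Cfsg.pCoreOf p M ≤ (S : Subgroup G) := pCoreOf_le_sylow S hSM
  have hOC := pCoreOf_le_centralizer_largestPReducedOf p M
  have hMX : M ≤ Subgroup.normalizer ((M ⊓ Subgroup.centralizer ((Cfsg.largestPReducedOf p M : Subgroup G) : Set G) : Subgroup G) : Set G) :=
    (le_inf Subgroup.le_normalizer (hMY.trans hNC)).trans Subgroup.inf_normalizer_le_normalizer_inf
  have hkey : (S : Subgroup G) ⊓ Subgroup.centralizer ((Cfsg.largestPReducedOf p M : Subgroup G) : Set G) ≤ Cfsg.pCoreOf p M :=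
    le_pCoreOf_of_isPClosed hpcl inf_le_left hMX (S.isPGroup'.to_le inf_le_left)
      (inf_le_inf_right _ hSM)
  refine ⟨S.subtype hSMd, ?_, ?_⟩
  · rw [Sylow.coe_subtype]
    intro x hx
    rw [Subgroup.mem_subgroupOf] at hx ⊢
    exact hOS hx
  · intro g hg
    rw [Sylow.coe_subtype] at hg
    have hle : ((Cfsg.pCoreOf p M).subgroupOf (M ⊔ Subgroup.centralizer ((Cfsg.largestPReducedOf p M : Subgroup G) : Set G))).map (MulAut.conj g).toMonoidHom ≤
        (Cfsg.pCoreOf p M).subgroupOf (M ⊔ Subgroup.centralizer ((Cfsg.largestPReducedOf p M : Subgroup G) : Set G)) := by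
      rintro _ ⟨x, hx, rfl⟩
      have hxS' := hg ⟨x, hx, rfl⟩
      have hx' : (x : G) ∈ Cfsg.pCoreOf p M := Subgroup.mem_subgroupOf.mp hx
      have hxS : (((MulAut.conj g).toMonoidHom x : _) : G) ∈ (S : Subgroup G) :=
        Subgroup.mem_subgroupOf.mp hxS'
      refine Subgroup.mem_subgroupOf.mpr (hkey (Subgroup.mem_inf.mpr ⟨hxS, ?_⟩))
      have hgn := hMdN g.2
      have := (Subgroup.mem_normalizer_iff.mp hgn (x : G)).mp (hOC hx')
      simpa using this
    exact (Subgroup.eq_of_le_of_card_ge hle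
      (Subgroup.card_map_of_injective (MulAut.conj g).injective).symm.le)

end Cfsg.Agent.S2848
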