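import Cfsg.Statements.S2849
import Cfsg.Agent.Lib.Helper47.PRedSub
import Cfsg.Agent.Lib.Helper47.WeakClosed

set_option autoImplicit false
open Cfsg

namespace Cfsg.Agent.S2849

open scoped commutatorElement
open Cfsg.Agent.Lib.Helper47

/-- The closure of a set of pairwise commuting elements of exponent `p` is elementary abelian. -/
theorem isElementaryAbelian_closure {G : Type*} [Group G] (p : ℕ) (s : Set G)
    (hcomm : ∀ x ∈ s, ∀ y ∈ s, x * y = y * x) (hpow : ∀ x ∈ s, x ^ p = 1) :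
    Cfsg.IsElementaryAbelian p (Subgroup.closure s) := by
  have hZ : IsMulCommutative (Subgroup.closure s) := Subgroup.isMulCommutative_closure hcomm
  have hc : ∀ a ∈ Subgroup.closure s, ∀ b ∈ Subgroup.closure s, a * b = b * a :=
    fun a ha b hb => comm_of_isMulCommutative hZ ha hb
  have hle : Subgroup.closure s ≤ omegaSub (Subgroup.closure s) hc p := by
    rw [Subgroup.closure_le]
    intro x hx
    exact ⟨Subgroup.subset_closure hx, hpow x hx⟩
  rw [isElementaryAbelian_iff]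
  exact ⟨hc, fun a ha => (hle ha).2⟩

/-- Standing hypotheses: G a finite group, S a Sylow p-subgroup, Q a nontrivial large p-subgroup of G contained in S (C_G(Q) ≤ Q and N_G(U) ≤ N_G(Q) for all nontrivial U ≤ C_G(Q)), and M a subgroup containing S with the basic property (M ∈ 𝔐_G(S)); Y_M denotes the largest p-reduced normal subgroup of M and M† = M·C_G(Y_M). Suppose Y_M is asymmetric in G. Then for every subgroup R with Y_M ≤ R ≤ M†, the normal closure of Y_M in N_G(R) is elementary abelian. -/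
theorem result {G : Type*} [Group G] [Finite G] {p : ℕ} [Fact p.Prime] (S : Sylow p G) (Q : Subgroup G) (hQp : IsPGroup p ↥Q) (hQ1 : Q ≠ ⊥) (hQS : Q ≤ (S : Subgroup G)) (hQ : Cfsg.IsLarge Q) (M : Subgroup G) (hSM : (S : Subgroup G) ≤ M) (hM : Cfsg.IsInFrakM p M) (hasym : ¬ Cfsg.IsSymmetricIn (Cfsg.largestPReducedOf p M)) (R : Subgroup G) (hYR : (Cfsg.largestPReducedOf p M) ≤ R) (hRM : R ≤ (M ⊔ Subgroup.centralizer (((Cfsg.largestPReducedOf p M) : Subgroup G) : Set G))) : Cfsg.IsElementaryAbelian p ((Subgroup.normalClosure ((((Cfsg.largestPReducedOf p M)).subgroupOf (Subgroup.normalizer ((R : Subgroup G) : Set G)) : Subgroup ↥(Subgroup.normalizer ((R : Subgroup G) : Set G))) : Set ↥(Subgroup.normalizer ((R : Subgroup G) : Set G)))).map (Subgroup.normalizer ((R : Subgroup G) : Set G)).subtype) := by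
  obtain ⟨hMY, hEA, -⟩ := largestPReducedOf_spec p M
  rw [isElementaryAbelian_iff] at hEA
  obtain ⟨hYc, hYp⟩ := hEA
  have hRY : R ≤ Subgroup.normalizer ((Cfsg.largestPReducedOf p M : Subgroup G) : Set G) :=
    hRM.trans (sup_le hMY (Subgroup.centralizer_le_normalizer _))
  -- conjugates under N(R) commute with Y
  have key : ∀ n ∈ Subgroup.normalizer (R : Set G), ∀ a ∈ Cfsg.largestPReducedOf p M,
      ∀ b ∈ Cfsg.largestPReducedOf p M, a * (n * b * n⁻¹) = (n * b * n⁻¹) * a := by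
    intro n hn a ha b hb
    have hRn : R.map (MulAut.conj n).toMonoidHom = R := map_conj_eq_of_mem_normalizer hn
    have h1 : (Cfsg.largestPReducedOf p M).map (MulAut.conj n).toMonoidHom ≤
        Subgroup.normalizer ((Cfsg.largestPReducedOf p M : Subgroup G) : Set G) := by
      have := Subgroup.map_mono (f := (MulAut.conj n).toMonoidHom) hYR
      rw [hRn] at this
      exact this.trans hRY
    have h2 : Cfsg.largestPReducedOf p M ≤ Subgroup.normalizer
        (((Cfsg.largestPReducedOf p M).map (MulAut.conj n).toMonoidHom : Subgroup G) : Set G) := by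
      rw [normalizer_map_conj]
      have := Subgroup.map_mono (f := (MulAut.conj n).toMonoidHom) hRY
      rw [hRn] at this
      exact hYR.trans this
    have c1 : ⁅Cfsg.largestPReducedOf p M, (Cfsg.largestPReducedOf p M).map (MulAut.conj n).toMonoidHom⁆ ≤
        Cfsg.largestPReducedOf p M := commutator_le_of_le_normalizer h1 le_rfl
    have c2 : ⁅Cfsg.largestPReducedOf p M, (Cfsg.largestPReducedOf p M).map (MulAut.conj n).toMonoidHom⁆ ≤
        (Cfsg.largestPReducedOf p M).map (MulAut.conj n).toMonoidHom := by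
      rw [Subgroup.commutator_comm]
      exact commutator_le_of_le_normalizer h2 le_rfl
    have hbot : ⁅Cfsg.largestPReducedOf p M, (Cfsg.largestPReducedOf p M).map (MulAut.conj n).toMonoidHom⁆ = ⊥ := by
      by_contra hne
      exact hasym ⟨n, hne, le_inf c1 c2⟩
    have hmem : ⁅a, n * b * n⁻¹⁆ ∈ ⁅Cfsg.largestPReducedOf p M, (Cfsg.largestPReducedOf p M).map (MulAut.conj n).toMonoidHom⁆ :=
      Subgroup.commutator_mem_commutator ha ⟨b, hb, by simp⟩
    rw [hbot, Subgroup.mem_bot] at hmem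
    exact commutatorElement_eq_one_iff_mul_comm.mp hmem
  unfold Subgroup.normalClosure
  rw [MonoidHom.map_closure]
  apply isElementaryAbelian_closure
  · rintro _ ⟨x, hx, rfl⟩ _ ⟨y, hy, rfl⟩
    rw [Group.mem_conjugatesOfSet_iff] at hx hy
    obtain ⟨a, ha, hax⟩ := hx
    obtain ⟨b, hb, hby⟩ := hy
    obtain ⟨n₁, hn₁⟩ := isConj_iff.mp hax
    obtain ⟨n₂, hn₂⟩ := isConj_iff.mp hby
    have ha' : (a : G) ∈ Cfsg.largestPReducedOf p M := Subgroup.mem_subgroupOf.mp ha
    have hb' : (b : G) ∈ Cfsg.largestPReducedOf p M := Subgroup.mem_subgroupOf.mp hb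
    have hk := key ((n₁ : G)⁻¹ * (n₂ : G)) (Subgroup.mul_mem _ (Subgroup.inv_mem _ n₁.2) n₂.2)
      a ha' b hb'
    rw [← hn₁, ← hn₂]
    simp only [Subgroup.coe_subtype, Subgroup.coe_mul, InvMemClass.coe_inv]
    calc (n₁ : G) * a * (n₁ : G)⁻¹ * ((n₂ : G) * b * (n₂ : G)⁻¹)
        = (n₁ : G) * ((a : G) * (((n₁ : G)⁻¹ * (n₂ : G)) * b * ((n₁ : G)⁻¹ * (n₂ : G))⁻¹)) * (n₁ : G)⁻¹ := by group
      _ = (n₁ : G) * ((((n₁ : G)⁻¹ * (n₂ : G)) * b * ((n₁ : G)⁻¹ * (n₂ : G))⁻¹) * (a : G)) * (n₁ : G)⁻¹ := by rw [hk]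
      _ = (n₂ : G) * b * (n₂ : G)⁻¹ * ((n₁ : G) * a * (n₁ : G)⁻¹) := by group
  · rintro _ ⟨x, hx, rfl⟩
    rw [Group.mem_conjugatesOfSet_iff] at hx
    obtain ⟨a, ha, hax⟩ := hx
    obtain ⟨n₁, hn₁⟩ := isConj_iff.mp hax
    have ha' : (a : G) ∈ Cfsg.largestPReducedOf p M := Subgroup.mem_subgroupOf.mp ha
    rw [← hn₁]
    simp only [Subgroup.coe_subtype, Subgroup.coe_mul, InvMemClass.coe_inv]
    rw [conj_pow, hYp _ ha']
    simp

end Cfsg.Agent.S2849
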