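import Cfsg.Statements.S2850
import Mathlib
import Cfsg.Agent.Lib.Helper48.Asym

set_option autoImplicit false
open Cfsg

namespace Cfsg.Agent.S2850
open scoped commutatorElement

open Cfsg.Agent.Lib.Helper47 Cfsg.Agent.Lib.Helper48
open scoped Pointwise

/-- Standing hypotheses: G a finite group, S a Sylow p-subgroup, Q a nontrivial large p-subgroup of G contained in S (C_G(Q) ≤ Q and N_G(U) ≤ N_G(Q) for all nontrivial U ≤ C_G(Q)), and M a subgroup containing S with the basic property (M ∈ 𝔐_G(S)); Y_M denotes the largest p-reduced normal subgroup of M and M† = M·C_G(Y_M). Suppose Y_M is asymmetric in G. Then N_G(L) ≤ N_G(O_p(M)) ≤ M† for every p-subgroup L containing O_p(M); O_p(M) is a weakly closed subgroup of G; for every subgroup L containing O_p(M), L ∩ M† contains a Sylow p-subgroup of L; and two elements of Y_M conjugate in G are conjugate in M. -/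
theorem result {G : Type*} [Group G] [Finite G] {p : ℕ} [Fact p.Prime] (S : Sylow p G) (Q : Subgroup G) (hQp : IsPGroup p ↥Q) (hQ1 : Q ≠ ⊥) (hQS : Q ≤ (S : Subgroup G)) (hQ : Cfsg.IsLarge Q) (M : Subgroup G) (hSM : (S : Subgroup G) ≤ M) (hM : Cfsg.IsInFrakM p M) (hasym : ¬ Cfsg.IsSymmetricIn (Cfsg.largestPReducedOf p M)) : (∀ L : Subgroup G, IsPGroup p ↥L → (Cfsg.pCoreOf p M) ≤ L → Subgroup.normalizer ((L : Subgroup G) : Set G) ≤ Subgroup.normalizer (((Cfsg.pCoreOf p M) : Subgroup G) : Set G) ∧ Subgroup.normalizer (((Cfsg.pCoreOf p M) : Subgroup G) : Set G) ≤ (M ⊔ Subgroup.centralizer (((Cfsg.largestPReducedOf p M) : Subgroup G) : Set G))) ∧ Cfsg.IsWeaklyClosedSubgroup p (Cfsg.pCoreOf p M) ∧ (∀ L : Subgroup G, (Cfsg.pCoreOf p M) ≤ L → Cfsg.IsParabolic p ((L ⊓ (M ⊔ Subgroup.centralizer (((Cfsg.largestPReducedOf p M) : Subgroup G) : Set G))).subgroupOf L)) ∧ (∀ x ∈ (Cfsg.largestPReducedOf p M), ∀ g : G, g * x * g⁻¹ ∈ (Cfsg.largestPReducedOf p M) → ∃ m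 ∈ M, m * x * m⁻¹ = g * x * g⁻¹) := by
  have hNR := frakM_normalizer_pCoreOf_le S Q hQp hQ M hSM hM
  have hRS : Cfsg.pCoreOf p M ≤ (S : Subgroup G) := pCoreOf_le_sylow S hSM
  have hRC := pCoreOf_le_centralizer_largestPReducedOf p M
  refine ⟨?_, ?_, ?_, ?_⟩
  · intro L hL hRL
    refine ⟨?_, hNR⟩
    intro g hg
    have hgL : (Cfsg.pCoreOf p M).map (MulAut.conj g).toMonoidHom ≤ L := by
      have := Subgroup.map_mono (f := (MulAut.conj g).toMonoidHom) hRL
      rwa [map_conj_eq_of_mem_normalizer hg] at this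
    exact asym_mem_normalizer_of_common S Q hQp hQ M hSM hM hasym hL hRL hgL
  · refine ⟨S, hRS, fun g hg => ?_⟩
    exact map_conj_eq_of_mem_normalizer
      (asym_mem_normalizer_of_common S Q hQp hQ M hSM hM hasym S.isPGroup' hRS hg)
  · intro L hRL
    have hp : IsPGroup p ((Cfsg.pCoreOf p M).subgroupOf L) :=
      (pCoreOf_isPGroup p M).comap_of_injective L.subtype L.subtype_injective
    obtain ⟨T, hT⟩ := hp.exists_le_sylow
    refine ⟨T, ?_⟩
    intro x hx
    rw [Subgroup.mem_subgroupOf]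
    refine ⟨x.2, ?_⟩
    have hTp : IsPGroup p ((T : Subgroup L).map L.subtype) := T.isPGroup'.map _
    have hRT : Cfsg.pCoreOf p M ≤ (T : Subgroup L).map L.subtype :=
      fun r hr => ⟨⟨r, hRL hr⟩, hT (Subgroup.mem_subgroupOf.mpr hr), rfl⟩
    exact hNR (asym_le_normalizer_of_isPGroup S Q hQp hQ M hSM hM hasym hTp hRT ⟨x, hx, rfl⟩)
  · intro x hx g hgx
    have hRC' : Cfsg.pCoreOf p M ≤ Subgroup.centralizer ({g * x * g⁻¹} : Set G) := by
      intro r hr
      rw [Subgroup.mem_centralizer_iff]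
      intro y hy
      rw [Set.mem_singleton_iff] at hy
      rw [hy]
      exact (Subgroup.mem_centralizer_iff.mp (hRC hr)) _ hgx
    have hRgC : (Cfsg.pCoreOf p M).map (MulAut.conj g).toMonoidHom ≤
        Subgroup.centralizer ({g * x * g⁻¹} : Set G) := by
      rintro _ ⟨r, hr, rfl⟩
      rw [Subgroup.mem_centralizer_iff]
      intro y hy
      rw [Set.mem_singleton_iff] at hy
      rw [hy]
      have h1 := (Subgroup.mem_centralizer_iff.mp (hRC hr)) x hx
      show g * x * g⁻¹ * (g * r * g⁻¹) = (g * r * g⁻¹) * (g * x * g⁻¹)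
      calc g * x * g⁻¹ * (g * r * g⁻¹) = g * (x * r) * g⁻¹ := by group
        _ = g * (r * x) * g⁻¹ := by rw [h1]
        _ = g * r * g⁻¹ * (g * x * g⁻¹) := by group
    obtain ⟨c, hc, P, hP, hRP, hcP⟩ := exists_conj_le_common_pgroup
      (Subgroup.centralizer ({g * x * g⁻¹} : Set G)) (Cfsg.pCoreOf p M)
      ((Cfsg.pCoreOf p M).map (MulAut.conj g).toMonoidHom) (pCoreOf_isPGroup p M)
      ((pCoreOf_isPGroup p M).map _) hRC' hRgC
    rw [Cfsg.Agent.Lib.Helper48.map_conj_map_conj] at hcP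
    have hcg : c * g ∈ M ⊔ Subgroup.centralizer ((Cfsg.largestPReducedOf p M : Subgroup G) : Set G) :=
      hNR (asym_mem_normalizer_of_common S Q hQp hQ M hSM hM hasym hP hRP hcP)
    have hcoe := Subgroup.coe_mul_of_left_le_normalizer_right M
      (Subgroup.centralizer ((Cfsg.largestPReducedOf p M : Subgroup G) : Set G))
      ((largestPReducedOf_spec p M).1.trans
        (normalizer_le_normalizer_centralizer (Cfsg.largestPReducedOf p M)))
    have hcg' : c * g ∈ (M : Set G) *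
        (Subgroup.centralizer ((Cfsg.largestPReducedOf p M : Subgroup G) : Set G) : Set G) := by
      rw [← hcoe]; exact hcg
    obtain ⟨m, hm, c', hc', hmc⟩ := Set.mem_mul.mp hcg'
    refine ⟨m, hm, ?_⟩
    have h1 : c' * x = x * c' := ((Subgroup.mem_centralizer_iff.mp hc') x hx).symm
    have h2 : c * (g * x * g⁻¹) = (g * x * g⁻¹) * c :=
      ((Subgroup.mem_centralizer_iff.mp hc) (g * x * g⁻¹) rfl).symm
    have hm' : m = c * g * c'⁻¹ := by rw [← hmc]; group
    have h3 : c'⁻¹ * x * c' = x := by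
      rw [mul_assoc, ← h1, ← mul_assoc, inv_mul_cancel, one_mul]
    calc m * x * m⁻¹ = c * g * (c'⁻¹ * x * c') * g⁻¹ * c⁻¹ := by rw [hm']; group
      _ = c * (g * x * g⁻¹) * c⁻¹ := by rw [h3]; group
      _ = g * x * g⁻¹ := by rw [h2]; group

end Cfsg.Agent.S2850
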