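import Cfsg.Statements.S2851
import Mathlib
import Cfsg.Agent.Lib.Helper48.FrakH
import Cfsg.Agent.Lib.Helper48.FstarQuot
import Cfsg.Agent.Lib.Helper48.PMinComp
import Cfsg.Agent.Lib.Helper47.ZL
import Cfsg.Agent.Lib.Helper47.PRedSub

set_option autoImplicit false
open Cfsg

namespace Cfsg.Agent.S2851
open scoped commutatorElement

open Cfsg.Agent.Lib.Helper47 Cfsg.Agent.Lib.Helper48
open scoped Pointwise

/-- Standing hypotheses: G a finite group, S a Sylow p-subgroup, Q a nontrivial large p-subgroup of G contained in S, M a subgroup containing S with the basic property (M ∈ 𝔐_G(S)); Y_M the largest p-reduced normal subgroup of M and M† = M·C_G(Y_M). Let F be the preimage in M† of the generalized Fitting subgroup of M†/C_{M†}(Y_M). If Y_M is asymmetric in G and H is a subgroup of characteristic p containing F, then Y_M ≤ Y_H. -/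
theorem result {G : Type*} [Group G] [Finite G] {p : ℕ} [Fact p.Prime] (S : Sylow p G) (Q : Subgroup G) (hQp : IsPGroup p ↥Q) (hQ1 : Q ≠ ⊥) (hQS : Q ≤ (S : Subgroup G)) (hQ : Cfsg.IsLarge Q) (M : Subgroup G) (hSM : (S : Subgroup G) ≤ M) (hM : Cfsg.IsInFrakM p M) (hasym : ¬ Cfsg.IsSymmetricIn (Cfsg.largestPReducedOf p M)) [hn : ((Subgroup.centralizer (((Cfsg.largestPReducedOf p M) : Subgroup G) : Set G)).subgroupOf (M ⊔ Subgroup.centralizer (((Cfsg.largestPReducedOf p M) : Subgroup G) : Set G))).Normal] (F : Subgroup G) (hF : F = ((Cfsg.generalizedFittingSubgroup (↥(M ⊔ Subgroup.centralizer (((Cfsg.largestPReducedOf p M) : Subgroup G) : Set G)) ⧸ (Subgroup.centralizer (((Cfsg.largestPReducedOf p M) : Subgroup G) : Set G)).subgroupOf (M ⊔ Subgroup.centralizer (((Cfsg.largestPReducedOf p M) : Subgroup G) : Set G)))).comap (QuotientGroup.mk' ((Subgroup.centralizer (((Cfsg.largestPReducedOf p M) : Subgroup G) : Set G)).subgroupOf (M ⊔ Subgroup.centralizer (((Cfsg.largestPReducedOf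 p M) : Subgroup G) : Set G))))).map ((M ⊔ Subgroup.centralizer (((Cfsg.largestPReducedOf p M) : Subgroup G) : Set G))).subtype) (H : Subgroup G) (hFH : F ≤ H) (hH : Subgroup.centralizer (Cfsg.pCore p ↥H : Set ↥H) ≤ Cfsg.pCore p ↥H) : (Cfsg.largestPReducedOf p M) ≤ Cfsg.largestPReducedOf p H := by
  have hRp := pCoreOf_isPGroup p M
  have hNR := frakM_normalizer_pCoreOf_le S Q hQp hQ M hSM hM
  have hYR := largestPReducedOf_le_pCoreOf p M
  have hYp : IsPGroup p (Cfsg.largestPReducedOf p M) := hRp.to_le hYR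
  have hRC := pCoreOf_le_centralizer_largestPReducedOf p M
  have hCMd : (Subgroup.centralizer ((Cfsg.largestPReducedOf p M : Subgroup G) : Set G)) ≤ (M ⊔ Subgroup.centralizer ((Cfsg.largestPReducedOf p M : Subgroup G) : Set G)) := le_sup_right
  have hred : ∀ D : Subgroup G, D ≤ (M ⊔ Subgroup.centralizer ((Cfsg.largestPReducedOf p M : Subgroup G) : Set G)) → (M ⊔ Subgroup.centralizer ((Cfsg.largestPReducedOf p M : Subgroup G) : Set G)) ≤ Subgroup.normalizer (D : Set G) →
      (∀ d ∈ D, ∃ k : ℕ, d ^ (p ^ k) ∈ (Subgroup.centralizer ((Cfsg.largestPReducedOf p M : Subgroup G) : Set G))) → D ≤ (Subgroup.centralizer ((Cfsg.largestPReducedOf p M : Subgroup G) : Set G)) := by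
    have h := (largestPReducedOf_spec p (M ⊔ Subgroup.centralizer ((Cfsg.largestPReducedOf p M : Subgroup G) : Set G))).2.2
    rw [← hM.2.2.2.1] at h
    exact h
  have Q3 : ∀ {P : Subgroup G}, IsPGroup p P → P ≤ (M ⊔ Subgroup.centralizer ((Cfsg.largestPReducedOf p M : Subgroup G) : Set G)) →
      (∀ x ∈ P, ∀ f ∈ F, x * f * x⁻¹ * f⁻¹ ∈ (Subgroup.centralizer ((Cfsg.largestPReducedOf p M : Subgroup G) : Set G))) → P ≤ (Subgroup.centralizer ((Cfsg.largestPReducedOf p M : Subgroup G) : Set G)) := by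
    intro P hP hPMd hc
    rw [hF] at hc
    exact fstarQuot_centralizing_pgroup_le _ _ hred hP hPMd hc
  have Q4 : ∀ {X : Subgroup G}, X ≤ F → F ≤ Subgroup.normalizer (X : Set G) →
      (∀ x ∈ X, ∃ k : ℕ, x ^ (p ^ k) ∈ (Subgroup.centralizer ((Cfsg.largestPReducedOf p M : Subgroup G) : Set G))) → X ≤ (Subgroup.centralizer ((Cfsg.largestPReducedOf p M : Subgroup G) : Set G)) := by
    intro X h1 h2 h3
    rw [hF] at h1 h2
    exact fstarQuot_normal_pgroup_le _ _ hred h1 h2 h3
  have hMdF : (M ⊔ Subgroup.centralizer ((Cfsg.largestPReducedOf p M : Subgroup G) : Set G)) ≤ Subgroup.normalizer (F : Set G) := by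
    rw [hF]; exact fstarQuot_le_normalizer _ _
  have hCF : (Subgroup.centralizer ((Cfsg.largestPReducedOf p M : Subgroup G) : Set G)) ≤ F := by
    rw [hF]
    have := fstarQuot_inf_le (M ⊔ Subgroup.centralizer ((Cfsg.largestPReducedOf p M : Subgroup G) : Set G)) (Subgroup.centralizer ((Cfsg.largestPReducedOf p M : Subgroup G) : Set G))
    rwa [inf_of_le_left hCMd] at this
  have hFMd : F ≤ (M ⊔ Subgroup.centralizer ((Cfsg.largestPReducedOf p M : Subgroup G) : Set G)) := by
    rw [hF]; rintro _ ⟨y, -, rfl⟩; exact y.2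
  have hRH : (Cfsg.pCoreOf p M) ≤ H := (hRC.trans hCF).trans hFH
  have hYH := hYR.trans hRH
  have hDp := pCoreOf_isPGroup p H
  have hRD : IsPGroup p ↥((Cfsg.pCoreOf p M) ⊔ (Cfsg.pCoreOf p H)) :=
    IsPGroup.to_sup_of_normal_right' hRp hDp (hRH.trans (le_normalizer_pCoreOf p H))
  have hDMd : (Cfsg.pCoreOf p H) ≤ (M ⊔ Subgroup.centralizer ((Cfsg.largestPReducedOf p M : Subgroup G) : Set G)) :=
    (le_sup_right.trans
      (asym_le_normalizer_of_isPGroup S Q hQp hQ M hSM hM hasym hRD le_sup_left)).trans hNR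
  have hHD := le_normalizer_pCoreOf p H
  have hX1 : (Cfsg.pCoreOf p H) ⊓ F ≤ (Subgroup.centralizer ((Cfsg.largestPReducedOf p M : Subgroup G) : Set G)) := by
    apply Q4 inf_le_right
    · exact (le_inf (hFH.trans hHD) (hFMd.trans hMdF)).trans
        Subgroup.inf_normalizer_le_normalizer_inf
    · intro x hx
      obtain ⟨k, hk⟩ := hDp ⟨x, hx.1⟩
      refine ⟨k, ?_⟩
      have : x ^ (p ^ k) = 1 := by simpa [Subtype.ext_iff] using hk
      rw [this]; exact Subgroup.one_mem _
  have hDC : (Cfsg.pCoreOf p H) ≤ (Subgroup.centralizer ((Cfsg.largestPReducedOf p M : Subgroup G) : Set G)) := by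
    apply Q3 hDp hDMd
    intro x hx f hf
    apply hX1
    constructor
    · have h1 : f * x⁻¹ * f⁻¹ ∈ (Cfsg.pCoreOf p H) :=
        (Subgroup.mem_normalizer_iff.mp (hHD (hFH hf)) _).mp (Subgroup.inv_mem _ hx)
      have e : x * f * x⁻¹ * f⁻¹ = x * (f * x⁻¹ * f⁻¹) := by group
      rw [e]; exact Subgroup.mul_mem _ hx h1
    · exact Subgroup.mul_mem _ ((Subgroup.mem_normalizer_iff.mp (hMdF (hDMd hx)) f).mp hf)
        (Subgroup.inv_mem _ hf)
  have hYD : (Cfsg.largestPReducedOf p M) ≤ (Cfsg.pCoreOf p H) := by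
    intro y hy
    have hmem : (⟨y, hYH hy⟩ : ↥H) ∈ Subgroup.centralizer (Cfsg.pCore p ↥H : Set ↥H) := by
      rw [Subgroup.mem_centralizer_iff]
      intro z hz
      have hz' : (z : G) ∈ (Subgroup.centralizer ((Cfsg.largestPReducedOf p M : Subgroup G) : Set G)) := hDC ⟨z, hz, rfl⟩
      have := (Subgroup.mem_centralizer_iff.mp hz') y hy
      exact Subtype.ext this.symm
    exact ⟨⟨y, hYH hy⟩, hH hmem, rfl⟩
  have hYZ : (Cfsg.largestPReducedOf p M) ≤ (Cfsg.pCoreOf p H) ⊓ Subgroup.centralizer (((Cfsg.pCoreOf p H) : Subgroup G) : Set G) :=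
    le_inf hYD (Subgroup.le_centralizer_iff.mp hDC)
  have hHZ : H ≤ Subgroup.normalizer
      (((Cfsg.pCoreOf p H) ⊓ Subgroup.centralizer (((Cfsg.pCoreOf p H) : Subgroup G) : Set G) : Subgroup G) : Set G) :=
    (le_inf hHD (hHD.trans (normalizer_le_normalizer_centralizer _))).trans
      Subgroup.inf_normalizer_le_normalizer_inf
  have hVZ : (conjSup H (Cfsg.largestPReducedOf p M)) ≤ (Cfsg.pCoreOf p H) ⊓ Subgroup.centralizer (((Cfsg.pCoreOf p H) : Subgroup G) : Set G) := by
    apply iSup_le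
    intro h
    have := Subgroup.map_mono (f := (MulAut.conj (h : G)).toMonoidHom) hYZ
    rwa [map_conj_eq_of_mem_normalizer (hHZ h.2)] at this
  have hVH : (conjSup H (Cfsg.largestPReducedOf p M)) ≤ H := hVZ.trans (inf_le_left.trans (pCoreOf_le p H))
  have hHV : H ≤ Subgroup.normalizer (((conjSup H (Cfsg.largestPReducedOf p M)) : Subgroup G) : Set G) := conjSup_le_normalizer H _
  have hYV : (Cfsg.largestPReducedOf p M) ≤ (conjSup H (Cfsg.largestPReducedOf p M)) := le_conjSup H _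
  have hcommV : ∀ a ∈ (conjSup H (Cfsg.largestPReducedOf p M)), ∀ b ∈ (conjSup H (Cfsg.largestPReducedOf p M)), a * b = b * a := by
    intro a ha b hb
    exact (Subgroup.mem_centralizer_iff.mp (hVZ hb).2) a (hVZ ha).1
  have hVea : Cfsg.IsElementaryAbelian p (conjSup H (Cfsg.largestPReducedOf p M)) := by
    rw [isElementaryAbelian_iff]
    refine ⟨hcommV, ?_⟩
    obtain ⟨-, hYe⟩ := (isElementaryAbelian_iff p (Cfsg.largestPReducedOf p M)).mp (largestPReducedOf_spec p M).2.1
    intro a ha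
    refine Subgroup.iSup_induction'
      (S := fun s : ↥H => (Cfsg.largestPReducedOf p M).map (MulAut.conj (s : G)).toMonoidHom)
      (C := fun x _ => x ^ p = 1) ?_ ?_ ?_ ha
    · rintro s _ ⟨y, hy, rfl⟩
      rw [← map_pow, hYe y hy, map_one]
    · exact one_pow p
    · intro x y hx hy hxp hyp
      have hc : Commute x y := hcommV x hx y hy
      rw [hc.mul_pow, hxp, hyp, one_mul]
  have hVred : Cfsg.IsPReducedNormal p ((conjSup H (Cfsg.largestPReducedOf p M)).subgroupOf H) := by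
    rw [isPReducedNormal_subgroupOf_iff p hVH]
    refine ⟨hHV, hVea, ?_⟩
    intro E hEH hHE hEp
    obtain ⟨T, hRT, hTN⟩ := frakH_exists_sylow S Q hQp hQ M hSM hM hasym hRH
    have hTH : (T : Subgroup ↥H).map H.subtype ≤ H := by rintro _ ⟨x, -, rfl⟩; exact x.2
    obtain ⟨CV, hCV⟩ : ∃ CV : Subgroup G,
        CV = Subgroup.centralizer (((conjSup H (Cfsg.largestPReducedOf p M)) : Subgroup G) : Set G) ⊓ H := ⟨_, rfl⟩
    have hHCV : H ≤ Subgroup.normalizer (CV : Set G) := by
      rw [hCV]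
      exact (le_inf (hHV.trans (normalizer_le_normalizer_centralizer _))
        Subgroup.le_normalizer).trans Subgroup.inf_normalizer_le_normalizer_inf
    have hCVC : CV ≤ (Subgroup.centralizer ((Cfsg.largestPReducedOf p M : Subgroup G) : Set G)) := by
      rw [hCV]
      exact inf_le_left.trans (Subgroup.centralizer_le (SetLike.coe_subset_coe.mpr hYV))
    have hCVV : CV ≤ Subgroup.centralizer (((conjSup H (Cfsg.largestPReducedOf p M)) : Subgroup G) : Set G) := by
      rw [hCV]; exact inf_le_left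
    have hCVH : CV ≤ H := by rw [hCV]; exact inf_le_right
    have hE2H : E ⊔ CV ≤ H := sup_le hEH hCVH
    have hHE2 : H ≤ Subgroup.normalizer ((E ⊔ CV : Subgroup G) : Set G) :=
      (le_inf hHE hHCV).trans (normalizer_inf_le_normalizer_sup _ _)
    have hE2p : ∀ x ∈ E ⊔ CV, ∃ k : ℕ, x ^ (p ^ k) ∈ CV := by
      intro x hx
      have hx' : x ∈ ((E ⊔ CV : Subgroup G) : Set G) := hx
      rw [Subgroup.coe_mul_of_left_le_normalizer_right E CV (hEH.trans hHCV)] at hx'
      obtain ⟨e, he, c, hc, rfl⟩ := hx'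
      obtain ⟨k, hk⟩ := hEp e he
      obtain ⟨c', hc', hpow⟩ := exists_pow_mul_eq (hHCV (hEH he)) hc (p ^ k)
      refine ⟨k, ?_⟩
      rw [hpow]
      refine Subgroup.mul_mem _ ?_ hc'
      rw [hCV]
      exact ⟨hk, H.pow_mem (hEH he) _⟩
    have hE2T : E ⊔ CV ≤ CV ⊔ (T : Subgroup ↥H).map H.subtype :=
      le_sup_sylow_map_of_pow_mem hE2H hHE2 CV hE2p T
    have hX2 : (E ⊔ CV) ⊓ F ≤ (Subgroup.centralizer ((Cfsg.largestPReducedOf p M : Subgroup G) : Set G)) := by
      apply Q4 inf_le_right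
      · exact (le_inf (hFH.trans hHE2) (hFMd.trans hMdF)).trans
          Subgroup.inf_normalizer_le_normalizer_inf
      · intro x hx
        obtain ⟨k, hk⟩ := hE2p x hx.1
        exact ⟨k, hCVC hk⟩
    have hPE : (E ⊔ CV) ⊓ (T : Subgroup ↥H).map H.subtype ≤ (Subgroup.centralizer ((Cfsg.largestPReducedOf p M : Subgroup G) : Set G)) := by
      apply Q3 ((T.isPGroup'.map _).to_le inf_le_right) (inf_le_right.trans (hTN.trans hNR))
      intro x hx f hf
      apply hX2
      constructor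
      · have h1 : f * x⁻¹ * f⁻¹ ∈ E ⊔ CV :=
          (Subgroup.mem_normalizer_iff.mp (hHE2 (hFH hf)) _).mp (Subgroup.inv_mem _ hx.1)
        have e : x * f * x⁻¹ * f⁻¹ = x * (f * x⁻¹ * f⁻¹) := by group
        rw [e]; exact Subgroup.mul_mem _ hx.1 h1
      · exact Subgroup.mul_mem _
          ((Subgroup.mem_normalizer_iff.mp (hMdF ((hTN.trans hNR) hx.2)) f).mp hf)
          (Subgroup.inv_mem _ hf)
    have hE2C : E ⊔ CV ≤ (Subgroup.centralizer ((Cfsg.largestPReducedOf p M : Subgroup G) : Set G)) := by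
      intro e he
      have he' : e ∈ ((CV ⊔ (T : Subgroup ↥H).map H.subtype : Subgroup G) : Set G) := hE2T he
      rw [Subgroup.coe_mul_of_right_le_normalizer_left CV ((T : Subgroup ↥H).map H.subtype)
        (hTH.trans hHCV)] at he'
      obtain ⟨c, hc, t, ht, rfl⟩ := he'
      have htE : t ∈ E ⊔ CV := by
        have : t = c⁻¹ * (c * t) := by group
        rw [this]
        exact Subgroup.mul_mem _ (Subgroup.inv_mem _ (Subgroup.mem_sup_right hc)) he
      exact Subgroup.mul_mem _ (hCVC hc) (hPE ⟨htE, ht⟩)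
    have hYE : (Cfsg.largestPReducedOf p M) ≤ Subgroup.centralizer ((E ⊔ CV : Subgroup G) : Set G) :=
      Subgroup.le_centralizer_iff.mp hE2C
    have hVE : (conjSup H (Cfsg.largestPReducedOf p M)) ≤ Subgroup.centralizer ((E ⊔ CV : Subgroup G) : Set G) := by
      apply iSup_le
      intro h
      have := Subgroup.map_mono (f := (MulAut.conj (h : G)).toMonoidHom) hYE
      rwa [map_conj_eq_of_mem_normalizer
        ((hHE2.trans (normalizer_le_normalizer_centralizer _)) h.2)] at this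
    exact le_sup_left.trans (Subgroup.le_centralizer_iff.mp hVE)
  exact hYV.trans (le_largestPReducedOf hVH hVred)

end Cfsg.Agent.S2851
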