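import Cfsg.Statements.S2852
import Mathlib
import Cfsg.Agent.Lib.Helper48.Asym
import Cfsg.Agent.Lib.Helper48.CharPSub
import Cfsg.Agent.Lib.Helper47.Syl

set_option autoImplicit false
open Cfsg

namespace Cfsg.Agent.S2852
open scoped commutatorElement

open Cfsg.Agent.Lib.Helper47 Cfsg.Agent.Lib.Helper48

/-- Standing hypotheses: G a finite group, S a Sylow p-subgroup, Q a nontrivial large p-subgroup of G contained in S, M a subgroup containing S with the basic property (M ∈ 𝔐_G(S)); Y_M the largest p-reduced normal subgroup of M. If Y_M is char-p-tall and asymmetric in G, then some subgroup H of G lies in ℌ_G(O_p(M)): H has characteristic p, O_p(M) ≤ H, Y_M ≰ O_p(H), and Y_M ≤ O_p(P) for every proper subgroup P of H containing O_p(M). -/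
theorem result {G : Type*} [Group G] [Finite G] {p : ℕ} [Fact p.Prime] (S : Sylow p G) (Q : Subgroup G) (hQp : IsPGroup p ↥Q) (hQ1 : Q ≠ ⊥) (hQS : Q ≤ (S : Subgroup G)) (hQ : Cfsg.IsLarge Q) (M : Subgroup G) (hSM : (S : Subgroup G) ≤ M) (hM : Cfsg.IsInFrakM p M) (htall : Cfsg.IsCharPTall p (Cfsg.largestPReducedOf p M)) (hasym : ¬ Cfsg.IsSymmetricIn (Cfsg.largestPReducedOf p M)) : ∃ H : Subgroup G, Cfsg.IsInFrakH p M H := by
  obtain ⟨T, L, hTL, hLchar, hYL⟩ := htall
  have hRC := pCoreOf_le_centralizer_largestPReducedOf p M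
  have hRp : IsPGroup p (Cfsg.pCoreOf p M) := pCoreOf_isPGroup p M
  obtain ⟨g, hg⟩ := exists_conj_le_sylow
    (hRp.comap_of_injective (Subgroup.centralizer
      ((Cfsg.largestPReducedOf p M : Subgroup G) : Set G)).subtype (Subgroup.subtype_injective _)) T
  have hRL : (Cfsg.pCoreOf p M).map (MulAut.conj (g : G)).toMonoidHom ≤ L := by
    rintro _ ⟨r, hr, rfl⟩
    apply hTL
    exact ⟨g * ⟨r, hRC hr⟩ * g⁻¹, hg ⟨⟨r, hRC hr⟩, Subgroup.mem_subgroupOf.mpr hr, by simp⟩,
      by simp⟩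
  obtain ⟨c, hc⟩ : ∃ c : G, c = (g : G)⁻¹ := ⟨_, rfl⟩
  have hcC : c ∈ Subgroup.centralizer ((Cfsg.largestPReducedOf p M : Subgroup G) : Set G) := by
    rw [hc]; exact Subgroup.inv_mem _ g.2
  have hcinv : c⁻¹ = (g : G) := by rw [hc, inv_inv]
  have hRL' : Cfsg.pCoreOf p M ≤ L.map (MulAut.conj c).toMonoidHom := by
    have := Subgroup.map_mono (f := (MulAut.conj c).toMonoidHom) hRL
    rwa [← hcinv, map_conj_map_conj_inv] at this
  have hcY : (Cfsg.largestPReducedOf p M).map (MulAut.conj c⁻¹).toMonoidHom =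
      Cfsg.largestPReducedOf p M :=
    map_conj_eq_of_mem_normalizer (Subgroup.centralizer_le_normalizer _ (Subgroup.inv_mem _ hcC))
  have hDp : IsPGroup p ((Cfsg.pCoreOf p L).map (MulAut.conj c).toMonoidHom) :=
    (pCoreOf_isPGroup p L).map _
  have hL'D : L.map (MulAut.conj c).toMonoidHom ≤ Subgroup.normalizer
      (((Cfsg.pCoreOf p L).map (MulAut.conj c).toMonoidHom : Subgroup G) : Set G) := by
    rw [normalizer_map_conj]; exact Subgroup.map_mono (le_normalizer_pCoreOf p L)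
  have hamb : Subgroup.centralizer ((Cfsg.pCoreOf p L : Subgroup G) : Set G) ⊓ L ≤
      Cfsg.pCoreOf p L := by
    rintro x ⟨hx1, hx2⟩
    have : (⟨x, hx2⟩ : ↥L) ∈ Subgroup.centralizer (Cfsg.pCore p ↥L : Set ↥L) := by
      rw [Subgroup.mem_centralizer_iff]
      intro y hy
      have := (Subgroup.mem_centralizer_iff.mp hx1) (y : G) ⟨y, hy, rfl⟩
      exact Subtype.ext this
    exact ⟨⟨x, hx2⟩, hLchar this, rfl⟩
  have hCD : Subgroup.centralizer
      (((Cfsg.pCoreOf p L).map (MulAut.conj c).toMonoidHom : Subgroup G) : Set G) ⊓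
      L.map (MulAut.conj c).toMonoidHom ≤ (Cfsg.pCoreOf p L).map (MulAut.conj c).toMonoidHom := by
    rintro x ⟨hx1, hx2⟩
    rw [centralizer_map_conj] at hx1
    obtain ⟨z, hz, rfl⟩ := hx1
    obtain ⟨l, hl, hlz⟩ := hx2
    have : l = z := (MulAut.conj c).injective hlz
    exact ⟨z, hamb ⟨hz, this ▸ hl⟩, rfl⟩
  have hYL' : ¬ Cfsg.largestPReducedOf p M ≤
      Cfsg.pCoreOf p (L.map (MulAut.conj c).toMonoidHom) := by
    intro h
    apply hYL
    have hE : (Cfsg.pCoreOf p (L.map (MulAut.conj c).toMonoidHom)).map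
        (MulAut.conj c⁻¹).toMonoidHom ≤ Cfsg.pCoreOf p L := by
      apply le_pCoreOf_of_le_normalizer ((pCoreOf_isPGroup p _).map _)
      · have := Subgroup.map_mono (f := (MulAut.conj c⁻¹).toMonoidHom)
          (pCoreOf_le p (L.map (MulAut.conj c).toMonoidHom))
        rwa [map_conj_inv_map_conj] at this
      · have := Subgroup.map_mono (f := (MulAut.conj c⁻¹).toMonoidHom)
          (le_normalizer_pCoreOf p (L.map (MulAut.conj c).toMonoidHom))
        rwa [map_conj_inv_map_conj, ← normalizer_map_conj] at this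
    have := Subgroup.map_mono (f := (MulAut.conj c⁻¹).toMonoidHom) h
    rw [hcY] at this
    exact this.trans hE
  obtain ⟨H, hHL, hHmin⟩ := Finite.exists_le_minimal
    (p := fun H : Subgroup G => Cfsg.pCoreOf p M ≤ H ∧ H ≤ L.map (MulAut.conj c).toMonoidHom ∧
      ¬ Cfsg.largestPReducedOf p M ≤ Cfsg.pCoreOf p H) ⟨hRL', le_rfl, hYL'⟩
  obtain ⟨hRH, hHL', hYH⟩ := hHmin.1
  refine ⟨H, ?_, hRH, hYH, ?_⟩
  · apply Cfsg.Agent.S2845.charp_of_ambient
    have hRD : IsPGroup p ↥(Cfsg.pCoreOf p M ⊔ (Cfsg.pCoreOf p L).map (MulAut.conj c).toMonoidHom) :=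
      IsPGroup.to_sup_of_normal_right' hRp hDp (hRL'.trans hL'D)
    have hDR := asym_le_normalizer_of_isPGroup S Q hQp hQ M hSM hM hasym hRD le_sup_left
    exact charp_subgroup hDp hRp hRH (hHL'.trans hL'D) (le_sup_right.trans hDR)
      ((inf_le_inf_left _ hHL').trans hCD) (inf_le_left.trans hM.1.2)
  · intro P hRP hPH
    by_contra hYP
    have := hHmin.2 (y := P) ⟨hRP, hPH.le.trans hHL', hYP⟩ hPH.le
    exact lt_irrefl _ (lt_of_lt_of_le hPH this)

end Cfsg.Agent.S2852
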