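import Cfsg.Statements.S2853
import Mathlib
import Cfsg.Agent.Lib.Helper48.FrakH
import Cfsg.Agent.Lib.Helper47.Syl

set_option autoImplicit false
open Cfsg

namespace Cfsg.Agent.S2853
open scoped commutatorElement

open Cfsg.Agent.Lib.Helper47 Cfsg.Agent.Lib.Helper48
open scoped Pointwise

/-- Standing hypotheses: G a finite group, S a Sylow p-subgroup, Q a nontrivial large p-subgroup of G contained in S, M a subgroup containing S with the basic property (M ∈ 𝔐_G(S)); Y_M the largest p-reduced normal subgroup of M and M† = M·C_G(Y_M). Suppose Y_M is char-p-tall and asymmetric in G and H ∈ ℌ_G(O_p(M)). Then every Sylow p-subgroup of H ∩ M† is a Sylow p-subgroup of H; O_p(H) normalizes O_p(M) and Y_M; O^p(H) = [O^p(H), Y_M] and H = O^p(H)·O_p(M); O^p(H)·Y_M is the normal closure of Y_M in H; and H is the normal closure of O_p(M) in H. Here O^p(H) is the subgroup generated by the elements of H of order prime to p. -/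
theorem result {G : Type*} [Group G] [Finite G] {p : ℕ} [Fact p.Prime] (S : Sylow p G) (Q : Subgroup G) (hQp : IsPGroup p ↥Q) (hQ1 : Q ≠ ⊥) (hQS : Q ≤ (S : Subgroup G)) (hQ : Cfsg.IsLarge Q) (M : Subgroup G) (hSM : (S : Subgroup G) ≤ M) (hM : Cfsg.IsInFrakM p M) (htall : Cfsg.IsCharPTall p (Cfsg.largestPReducedOf p M)) (hasym : ¬ Cfsg.IsSymmetricIn (Cfsg.largestPReducedOf p M)) (H : Subgroup G) (hH : Cfsg.IsInFrakH p M H) (R : Subgroup G) (hR : R = (Cfsg.pResidual p ↥H).map H.subtype) : (∀ T : Sylow p ↥(H ⊓ (M ⊔ Subgroup.centralizer (((Cfsg.largestPReducedOf p M) : Subgroup G) : Set G))), ∃ P : Sylow p ↥H, ((P : Subgroup ↥H).map H.subtype) = (T : Subgroup ↥(H ⊓ (M ⊔ Subgroup.centralizer (((Cfsg.largestPReducedOf p M) : Subgroup G) : Set G)))).map (H ⊓ (M ⊔ Subgroup.centralizer (((Cfsg.largestPReducedOf p M) : Subgroup G) : Set G))).subtype) ∧ Cfsg.pCoreOf p H ≤ Subgroup.normalizer (((Cfsg.pCoreOf p M) : Subgroup G) : Set G) ⊓ Subgroup.normalizer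 (((Cfsg.largestPReducedOf p M) : Subgroup G) : Set G) ∧ ⁅R, (Cfsg.largestPReducedOf p M)⁆ = R ∧ R ⊔ (Cfsg.pCoreOf p M) = H ∧ R ⊔ (Cfsg.largestPReducedOf p M) = (Subgroup.normalClosure ((((Cfsg.largestPReducedOf p M)).subgroupOf H : Subgroup ↥H) : Set ↥H)).map H.subtype ∧ (Subgroup.normalClosure ((((Cfsg.pCoreOf p M)).subgroupOf H : Subgroup ↥H) : Set ↥H)).map H.subtype = H := by
  have hNR := frakM_normalizer_pCoreOf_le S Q hQp hQ M hSM hM
  have hRp : IsPGroup p (Cfsg.pCoreOf p M) := pCoreOf_isPGroup p M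
  obtain ⟨h3, h5⟩ := frakH_structure S Q hQp hQ M hSM hM hasym hH
  subst hR
  refine ⟨?_, ?_, h3, frakH_pResidual_sup S Q hQp hQ M hSM hM hasym hH, h5,
    frakH_normalClosure_pCoreOf hH⟩
  · intro T
    obtain ⟨T₀, hRT₀, hT₀N⟩ := frakH_exists_sylow S Q hQp hQ M hSM hM hasym hH.2.1
    have hT₀H : (T₀ : Subgroup ↥H).map H.subtype ≤ H := by
      rintro _ ⟨x, -, rfl⟩; exact x.2
    have hT₀I : (T₀ : Subgroup ↥H).map H.subtype ≤
        H ⊓ (M ⊔ Subgroup.centralizer ((Cfsg.largestPReducedOf p M : Subgroup G) : Set G)) :=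
      le_inf hT₀H (hT₀N.trans hNR)
    have hA : IsPGroup p (((T₀ : Subgroup ↥H).map H.subtype).subgroupOf
        (H ⊓ (M ⊔ Subgroup.centralizer ((Cfsg.largestPReducedOf p M : Subgroup G) : Set G)))) :=
      (T₀.isPGroup'.map _).comap_of_injective _ (Subgroup.subtype_injective _)
    obtain ⟨x, hx⟩ := exists_conj_le_sylow hA T
    have h1 : ((((⟨(x : G), x.2.1⟩ : ↥H) • T₀ : Sylow p ↥H) : Subgroup ↥H)).map H.subtype ≤
        (T : Subgroup ↥(H ⊓ (M ⊔ Subgroup.centralizer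
          ((Cfsg.largestPReducedOf p M : Subgroup G) : Set G)))).map
          (H ⊓ (M ⊔ Subgroup.centralizer
            ((Cfsg.largestPReducedOf p M : Subgroup G) : Set G))).subtype := by
      rintro _ ⟨y, hy, rfl⟩
      rw [SetLike.mem_coe, Sylow.coe_subgroup_smul, Subgroup.mem_smul_pointwise_iff_exists] at hy
      obtain ⟨t, ht, rfl⟩ := hy
      have htI : (t : G) ∈ H ⊓ (M ⊔ Subgroup.centralizer
          ((Cfsg.largestPReducedOf p M : Subgroup G) : Set G)) := hT₀I ⟨t, ht, rfl⟩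
      refine ⟨x * ⟨(t : G), htI⟩ * x⁻¹, hx ⟨⟨(t : G), htI⟩, ?_, rfl⟩, ?_⟩
      · exact Subgroup.mem_subgroupOf.mpr ⟨t, ht, rfl⟩
      · simp [MulAut.smul_def]
    refine ⟨(⟨(x : G), x.2.1⟩ : ↥H) • T₀, le_antisymm h1 ?_⟩
    have hT'H : (T : Subgroup ↥(H ⊓ (M ⊔ Subgroup.centralizer
          ((Cfsg.largestPReducedOf p M : Subgroup G) : Set G)))).map
          (H ⊓ (M ⊔ Subgroup.centralizer
            ((Cfsg.largestPReducedOf p M : Subgroup G) : Set G))).subtype ≤ H := by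
      rintro _ ⟨z, -, rfl⟩; exact z.2.1
    have hT'p : IsPGroup p (((T : Subgroup ↥(H ⊓ (M ⊔ Subgroup.centralizer
          ((Cfsg.largestPReducedOf p M : Subgroup G) : Set G)))).map
          (H ⊓ (M ⊔ Subgroup.centralizer
            ((Cfsg.largestPReducedOf p M : Subgroup G) : Set G))).subtype).subgroupOf H) :=
      (T.isPGroup'.map _).comap_of_injective _ (Subgroup.subtype_injective _)
    have hle : ((((⟨(x : G), x.2.1⟩ : ↥H) • T₀ : Sylow p ↥H) : Subgroup ↥H)) ≤
        ((T : Subgroup ↥(H ⊓ (M ⊔ Subgroup.centralizer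
          ((Cfsg.largestPReducedOf p M : Subgroup G) : Set G)))).map
          (H ⊓ (M ⊔ Subgroup.centralizer
            ((Cfsg.largestPReducedOf p M : Subgroup G) : Set G))).subtype).subgroupOf H := by
      intro y hy
      exact Subgroup.mem_subgroupOf.mpr (h1 ⟨y, hy, rfl⟩)
    have heq := Sylow.is_maximal' _ hT'p hle
    intro z hz
    have hz' : (⟨z, hT'H hz⟩ : ↥H) ∈ ((T : Subgroup ↥(H ⊓ (M ⊔ Subgroup.centralizer
          ((Cfsg.largestPReducedOf p M : Subgroup G) : Set G)))).map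
          (H ⊓ (M ⊔ Subgroup.centralizer
            ((Cfsg.largestPReducedOf p M : Subgroup G) : Set G))).subtype).subgroupOf H :=
      Subgroup.mem_subgroupOf.mpr hz
    rw [heq] at hz'
    exact ⟨⟨z, hT'H hz⟩, hz', rfl⟩
  · have hDp : IsPGroup p ↥(Cfsg.pCoreOf p M ⊔ Cfsg.pCoreOf p H) :=
      IsPGroup.to_sup_of_normal_right' hRp (pCoreOf_isPGroup p H)
        (hH.2.1.trans (le_normalizer_pCoreOf p H))
    have h1 := asym_le_normalizer_of_isPGroup S Q hQp hQ M hSM hM hasym hDp le_sup_left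
    exact le_inf (le_sup_right.trans h1)
      ((le_sup_right.trans h1).trans (hNR.trans (frakM_dagger_le_normalizer M)))

end Cfsg.Agent.S2853
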