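import Cfsg.Statements.S2854
import Mathlib
import Cfsg.Agent.Lib.Helper48.FrakH
import Cfsg.Agent.Lib.Helper48.PClosedCrit
import Cfsg.Agent.Lib.Helper48.QuotStab
import Cfsg.Agent.Lib.Helper48.PMinComp
import Cfsg.Agent.Lib.Helper47.QuotIrr
import Cfsg.Agent.Lib.Helper47.PIrr2

set_option autoImplicit false
open Cfsg

namespace Cfsg.Agent.S2854
open scoped commutatorElement

open Cfsg.Agent.Lib.Helper47 Cfsg.Agent.Lib.Helper48
open scoped Pointwise

/-- Standing hypotheses: G a finite group, S a Sylow p-subgroup, Q a nontrivial large p-subgroup of G contained in S, M a subgroup containing S with the basic property (M ∈ 𝔐_G(S)); Y_M the largest p-reduced normal subgroup of M and M† = M·C_G(Y_M). Suppose Y_M is asymmetric in G, H ∈ ℌ_G(O_p(M)), and H ≤ N_G(gQg⁻¹) for some g ∈ G. Then gQg⁻¹ ≤ O_p(H·gQg⁻¹) ≤ N_G(O_p(M)) ≤ N_G(Y_M) = M†; H is normal in H·gQg⁻¹ with O^p(H) = O^p(H·gQg⁻¹); and H·gQg⁻¹ is p-irreducible. -/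
theorem result {G : Type*} [Group G] [Finite G] {p : ℕ} [Fact p.Prime] (S : Sylow p G) (Q : Subgroup G) (hQp : IsPGroup p ↥Q) (hQ1 : Q ≠ ⊥) (hQS : Q ≤ (S : Subgroup G)) (hQ : Cfsg.IsLarge Q) (M : Subgroup G) (hSM : (S : Subgroup G) ≤ M) (hM : Cfsg.IsInFrakM p M) (hasym : ¬ Cfsg.IsSymmetricIn (Cfsg.largestPReducedOf p M)) (H : Subgroup G) (hH : Cfsg.IsInFrakH p M H) (g : G) (hHQ : H ≤ Subgroup.normalizer ((((Q : Subgroup G).map (MulAut.conj (g : G)).toMonoidHom) : Subgroup G) : Set G)) : ((Q : Subgroup G).map (MulAut.conj (g : G)).toMonoidHom) ≤ Cfsg.pCoreOf p (H ⊔ ((Q : Subgroup G).map (MulAut.conj (g : G)).toMonoidHom)) ∧ Cfsg.pCoreOf p (H ⊔ ((Q : Subgroup G).map (MulAut.conj (g : G)).toMonoidHom)) ≤ Subgroup.normalizer (((Cfsg.pCoreOf p M) : Subgroup G) : Set G) ∧ Subgroup.normalizer (((Cfsg.pCoreOf p M) : Subgroup G) : Set G) ≤ Subgroup.normalizer (((Cfsg.largestPReducedOf p M) : Subgroup G) : Set G) ∧ Subgroup.normalizer (((Cfsg.largestPReducedOf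 p M) : Subgroup G) : Set G) = (M ⊔ Subgroup.centralizer (((Cfsg.largestPReducedOf p M) : Subgroup G) : Set G)) ∧ (H.subgroupOf (H ⊔ ((Q : Subgroup G).map (MulAut.conj (g : G)).toMonoidHom))).Normal ∧ (Cfsg.pResidual p ↥H).map H.subtype = (Cfsg.pResidual p ↥(H ⊔ ((Q : Subgroup G).map (MulAut.conj (g : G)).toMonoidHom))).map (H ⊔ ((Q : Subgroup G).map (MulAut.conj (g : G)).toMonoidHom)).subtype ∧ Cfsg.IsPIrreducible p ↥(H ⊔ ((Q : Subgroup G).map (MulAut.conj (g : G)).toMonoidHom)) := by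
  obtain ⟨Q', hQ'⟩ : ∃ Q' : Subgroup G, Q' = Q.map (MulAut.conj g).toMonoidHom := ⟨_, rfl⟩
  rw [← hQ'] at hHQ ⊢
  have hQ'p : IsPGroup p Q' := by rw [hQ']; exact hQp.map _
  obtain ⟨K, hK⟩ : ∃ K : Subgroup G, K = (Cfsg.pResidual p ↥H).map H.subtype := ⟨_, rfl⟩
  have hRp := pCoreOf_isPGroup p M
  have hNR := frakM_normalizer_pCoreOf_le S Q hQp hQ M hSM hM
  have hMdY := frakM_dagger_le_normalizer (p := p) M
  have hYR := largestPReducedOf_le_pCoreOf p M
  have hYp : IsPGroup p (Cfsg.largestPReducedOf p M) := hRp.to_le hYR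
  have hRH := hH.2.1
  have hYH := hYR.trans hRH
  have hLQ : H ⊔ Q' ≤ Subgroup.normalizer (Q' : Set G) := sup_le hHQ Subgroup.le_normalizer
  have h1 : Q' ≤ Cfsg.pCoreOf p (H ⊔ Q') := le_pCoreOf_of_le_normalizer hQ'p le_sup_right hLQ
  have hDp := pCoreOf_isPGroup p (H ⊔ Q')
  have hRD : IsPGroup p ↥(Cfsg.pCoreOf p M ⊔ Cfsg.pCoreOf p (H ⊔ Q')) :=
    IsPGroup.to_sup_of_normal_right' hRp hDp
      ((hRH.trans le_sup_left).trans (le_normalizer_pCoreOf p _))
  have h2 : Cfsg.pCoreOf p (H ⊔ Q') ≤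
      Subgroup.normalizer ((Cfsg.pCoreOf p M : Subgroup G) : Set G) :=
    le_sup_right.trans
      (asym_le_normalizer_of_isPGroup S Q hQp hQ M hSM hM hasym hRD le_sup_left)
  have h3 : Subgroup.normalizer ((Cfsg.pCoreOf p M : Subgroup G) : Set G) ≤
      Subgroup.normalizer ((Cfsg.largestPReducedOf p M : Subgroup G) : Set G) := hNR.trans hMdY
  have h4 : Subgroup.normalizer ((Cfsg.largestPReducedOf p M : Subgroup G) : Set G) =
      M ⊔ Subgroup.centralizer ((Cfsg.largestPReducedOf p M : Subgroup G) : Set G) := by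
    apply le_antisymm _ hMdY
    by_cases hY1 : Cfsg.largestPReducedOf p M = ⊥
    · have : Subgroup.centralizer ((Cfsg.largestPReducedOf p M : Subgroup G) : Set G) = ⊤ := by
        rw [hY1, Subgroup.coe_bot, Subgroup.centralizer_eq_top_iff_subset]
        intro x hx
        rw [Set.mem_singleton_iff] at hx
        rw [hx]; exact Subgroup.one_mem _
      rw [this, sup_top_eq]; exact le_top
    · exact frakM_normalizer_le_dagger S Q hQp hQ M hSM hM hYp hY1 (largestPReducedOf_spec p M).1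
  have hQ'R : Q' ≤ Subgroup.normalizer ((Cfsg.pCoreOf p M : Subgroup G) : Set G) := h1.trans h2
  have hQ'Y : Q' ≤ Subgroup.normalizer ((Cfsg.largestPReducedOf p M : Subgroup G) : Set G) :=
    hQ'R.trans h3
  have hRY : Cfsg.pCoreOf p M ≤
      Subgroup.normalizer ((Cfsg.largestPReducedOf p M : Subgroup G) : Set G) :=
    (pCoreOf_le p M).trans (largestPReducedOf_spec p M).1
  obtain ⟨hKY, -⟩ := frakH_structure S Q hQp hQ M hSM hM hasym hH
  rw [← hK] at hKY
  have hKR : K ⊔ Cfsg.pCoreOf p M = H := by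
    rw [hK]; exact frakH_pResidual_sup S Q hQp hQ M hSM hM hasym hH
  have hKH : K ≤ H := by rw [hK]; exact pResidual_map_subtype_le p H
  have hHK : H ≤ Subgroup.normalizer (K : Set G) := by
    rw [hK]; exact Subgroup.le_normalizer.trans (normalizer_le_normalizer_pResidual_map p H)
  have hKeq : K = Subgroup.closure {x : G | x ∈ H ∧ (orderOf x).Coprime p} := by
    rw [hK, pResidual_map_subtype_eq]
  have hE1 : conjSup (H ⊔ Q') (Cfsg.largestPReducedOf p M) ≤ K ⊔ Cfsg.largestPReducedOf p M := by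
    apply iSup_le
    rintro ⟨l, hl⟩
    have hl' : l ∈ ((H ⊔ Q' : Subgroup G) : Set G) := hl
    rw [Subgroup.coe_mul_of_left_le_normalizer_right H Q' hHQ] at hl'
    obtain ⟨h, hh, q, hq, rfl⟩ := hl'
    have hh' : h ∈ ((K ⊔ Cfsg.pCoreOf p M : Subgroup G) : Set G) := by rw [hKR]; exact hh
    rw [Subgroup.coe_mul_of_right_le_normalizer_left K (Cfsg.pCoreOf p M) (hRH.trans hHK)] at hh'
    obtain ⟨k, hk, r, hr, rfl⟩ := hh'
    rintro _ ⟨y, hy, rfl⟩
    have hy1 : q * y * q⁻¹ ∈ Cfsg.largestPReducedOf p M :=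
      (Subgroup.mem_normalizer_iff.mp (hQ'Y hq) y).mp hy
    have hy2 : r * (q * y * q⁻¹) * r⁻¹ ∈ Cfsg.largestPReducedOf p M :=
      (Subgroup.mem_normalizer_iff.mp (hRY hr) _).mp hy1
    have e : (MulAut.conj (k * r * q)).toMonoidHom y =
        ⁅k, r * (q * y * q⁻¹) * r⁻¹⁆ * (r * (q * y * q⁻¹) * r⁻¹) := by
      rw [commutatorElement_def]
      simp only [MulEquiv.coe_toMonoidHom, MulAut.conj_apply]
      group
    show (MulAut.conj (k * r * q)).toMonoidHom y ∈ K ⊔ Cfsg.largestPReducedOf p M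
    rw [e]
    exact Subgroup.mul_mem _ (Subgroup.mem_sup_left
      (hKY.le (Subgroup.commutator_mem_commutator hk hy2))) (Subgroup.mem_sup_right hy2)
  have hE2 : K ⊔ Cfsg.largestPReducedOf p M ≤ conjSup (H ⊔ Q') (Cfsg.largestPReducedOf p M) := by
    refine sup_le ?_ (le_conjSup _ _)
    have : ⁅K, Cfsg.largestPReducedOf p M⁆ ≤
        conjSup (H ⊔ Q') (Cfsg.largestPReducedOf p M) := by
      rw [Subgroup.commutator_le]
      intro k hk y hy
      have e : ⁅k, y⁆ = (k * y * k⁻¹) * y⁻¹ := by rw [commutatorElement_def]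
      rw [e]
      refine Subgroup.mul_mem _ ?_ (Subgroup.inv_mem _ (le_conjSup _ _ hy))
      have hkL : k ∈ H ⊔ Q' := le_sup_left (α := Subgroup G) (hKH hk)
      exact (le_iSup (fun s : ↥(H ⊔ Q') =>
        (Cfsg.largestPReducedOf p M).map (MulAut.conj (s : G)).toMonoidHom) ⟨k, hkL⟩)
        ⟨y, hy, rfl⟩
    exact hKY.ge.trans this
  have hE : conjSup (H ⊔ Q') (Cfsg.largestPReducedOf p M) = K ⊔ Cfsg.largestPReducedOf p M :=
    le_antisymm hE1 hE2
  have hLE : H ⊔ Q' ≤ Subgroup.normalizer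
      ((K ⊔ Cfsg.largestPReducedOf p M : Subgroup G) : Set G) := by
    rw [← hE]; exact conjSup_le_normalizer _ _
  have hOE : (Cfsg.pResidual p ↥(K ⊔ Cfsg.largestPReducedOf p M)).map
      (K ⊔ Cfsg.largestPReducedOf p M).subtype = K := by
    rw [pResidual_map_subtype_eq]
    apply le_antisymm
    · rw [Subgroup.closure_le]
      rintro x ⟨hx, hxc⟩
      rw [sup_comm] at hx
      exact mem_of_mem_sup_of_coprime_of_le_normalizer (hYH.trans hHK) hYp hx hxc
    · conv_lhs => rw [hKeq]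
      apply Subgroup.closure_mono
      rintro x ⟨hxH, hxc⟩
      refine ⟨Subgroup.mem_sup_left ?_, hxc⟩
      rw [hKeq]; exact Subgroup.subset_closure ⟨hxH, hxc⟩
  have hLK : H ⊔ Q' ≤ Subgroup.normalizer (K : Set G) := by
    have := normalizer_le_normalizer_pResidual_map p (K ⊔ Cfsg.largestPReducedOf p M)
    rw [hOE] at this
    exact hLE.trans this
  have hLH : H ⊔ Q' ≤ Subgroup.normalizer (H : Set G) := by
    refine sup_le Subgroup.le_normalizer ?_
    have : Q' ≤ Subgroup.normalizer ((K ⊔ Cfsg.pCoreOf p M : Subgroup G) : Set G) :=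
      (le_inf (le_sup_right.trans hLK) hQ'R).trans (normalizer_inf_le_normalizer_sup _ _)
    rwa [hKR] at this
  have h5 : (H.subgroupOf (H ⊔ Q')).Normal :=
    (Subgroup.normal_subgroupOf_iff_le_normalizer le_sup_left).mpr hLH
  have hR₁p : IsPGroup p ↥(Q' ⊔ Cfsg.pCoreOf p M) :=
    IsPGroup.to_sup_of_normal_right' hQ'p hRp hQ'R
  have hR₁L : Q' ⊔ Cfsg.pCoreOf p M ≤ H ⊔ Q' := sup_le le_sup_right (hRH.trans le_sup_left)
  have hLeq : (Q' ⊔ Cfsg.pCoreOf p M) ⊔ K = H ⊔ Q' := by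
    apply le_antisymm (sup_le hR₁L (hKH.trans le_sup_left))
    refine sup_le ?_ (le_sup_left.trans le_sup_left)
    rw [← hKR]
    exact sup_le le_sup_right (le_sup_right.trans le_sup_left)
  have hcopL : ∀ x ∈ H ⊔ Q', (orderOf x).Coprime p → x ∈ K := by
    intro x hx hxc
    rw [← hLeq] at hx
    exact mem_of_mem_sup_of_coprime_of_le_normalizer (hR₁L.trans hLK) hR₁p hx hxc
  have h6 : (Cfsg.pResidual p ↥H).map H.subtype =
      (Cfsg.pResidual p ↥(H ⊔ Q')).map (H ⊔ Q').subtype := by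
    apply le_antisymm (pResidual_map_subtype_mono p le_sup_left)
    rw [pResidual_map_subtype_eq p (H ⊔ Q'), ← hK, Subgroup.closure_le]
    rintro x ⟨hx, hxc⟩
    exact hcopL x hx hxc
  have hYD : ¬ Cfsg.largestPReducedOf p M ≤ Cfsg.pCoreOf p (H ⊔ Q') := by
    intro h
    apply hH.2.2.1
    exact (le_inf h hYH).trans (le_pCoreOf_of_le_normalizer (hDp.to_le inf_le_left) inf_le_right
      ((le_inf (le_sup_left.trans (le_normalizer_pCoreOf p _)) Subgroup.le_normalizer).trans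
        Subgroup.inf_normalizer_le_normalizer_inf))
  have h7 : Cfsg.IsPIrreducible p ↥(H ⊔ Q') := by
    constructor
    · intro hcl
      apply hYD
      obtain ⟨P, hP⟩ := (hYp.comap_of_injective (H ⊔ Q').subtype
        (Subgroup.subtype_injective _)).exists_le_sylow
      have hPle := (isPClosed_iff_sylow_le_pCore P).mp hcl
      intro y hy
      exact ⟨⟨y, le_sup_left (α := Subgroup G) (hYH hy)⟩,
        hPle (hP (Subgroup.mem_subgroupOf.mpr hy)), rfl⟩
    · intro N hN hNcl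
      by_contra hcon
      apply hNcl
      obtain ⟨NG, hNG⟩ : ∃ NG : Subgroup G, NG = N.map (H ⊔ Q').subtype := ⟨_, rfl⟩
      have hNGL : NG ≤ H ⊔ Q' := by rw [hNG]; rintro _ ⟨x, -, rfl⟩; exact x.2
      have hLNG : H ⊔ Q' ≤ Subgroup.normalizer (NG : Set G) := by
        rw [hNG]; exact le_normalizer_map_subtype N
      have hNsub : NG.subgroupOf (H ⊔ Q') = N := by
        rw [hNG]; exact Subgroup.comap_map_eq_self_of_injective (Subgroup.subtype_injective _) N
      rw [← hNsub, isPClosed_subgroupOf_iff hNGL]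
      have hKNG : ¬ K ≤ NG := by
        intro h
        apply hcon
        intro x hx
        have hxK : (x : G) ∈ K := by
          have : (x : G) ∈ (Cfsg.pResidual p ↥(H ⊔ Q')).map (H ⊔ Q').subtype := ⟨x, hx, rfl⟩
          rw [← h6, ← hK] at this; exact this
        have h' := h hxK
        rw [hNG] at h'
        obtain ⟨z, hz, hzx⟩ := h'
        have : z = x := Subtype.ext hzx
        rw [← this]; exact hz
      have hne : NG ⊔ (Q' ⊔ Cfsg.pCoreOf p M) ≠ H ⊔ Q' := by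
        intro heq
        apply hKNG
        rw [hKeq, Subgroup.closure_le]
        rintro x ⟨hxH, hxc⟩
        have hx : x ∈ (Q' ⊔ Cfsg.pCoreOf p M) ⊔ NG := by
          rw [sup_comm, heq]; exact le_sup_left (α := Subgroup G) hxH
        exact mem_of_mem_sup_of_coprime_of_le_normalizer (hR₁L.trans hLNG) hR₁p hx hxc
      have hPH : (NG ⊔ (Q' ⊔ Cfsg.pCoreOf p M)) ⊓ H ≠ H := by
        intro heq
        apply hne
        apply le_antisymm (sup_le hNGL hR₁L)
        refine sup_le ?_ (le_sup_left.trans le_sup_right)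
        rw [← heq]; exact inf_le_left
      have hP1 : Cfsg.largestPReducedOf p M ≤
          Cfsg.pCoreOf p ((NG ⊔ (Q' ⊔ Cfsg.pCoreOf p M)) ⊓ H) :=
        hH.2.2.2 _ (le_inf (le_sup_right.trans le_sup_right) hRH)
          (lt_of_le_of_ne inf_le_right hPH)
      have hNGP : NG ≤ Subgroup.normalizer
          (((NG ⊔ (Q' ⊔ Cfsg.pCoreOf p M)) ⊓ H : Subgroup G) : Set G) :=
        (le_inf (le_sup_left.trans Subgroup.le_normalizer) (hNGL.trans hLH)).trans
          Subgroup.inf_normalizer_le_normalizer_inf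
      have hNGO : NG ≤ Subgroup.normalizer
          ((Cfsg.pCoreOf p ((NG ⊔ (Q' ⊔ Cfsg.pCoreOf p M)) ⊓ H) : Subgroup G) : Set G) :=
        hNGP.trans (normalizer_le_normalizer_pCoreOf p _)
      have hB : Cfsg.pCoreOf p ((NG ⊔ (Q' ⊔ Cfsg.pCoreOf p M)) ⊓ H) ⊓ NG ≤ Cfsg.pCoreOf p NG :=
        le_pCoreOf_of_le_normalizer ((pCoreOf_isPGroup p _).to_le inf_le_left) inf_le_right
          ((le_inf hNGO Subgroup.le_normalizer).trans Subgroup.inf_normalizer_le_normalizer_inf)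
      have hLD : H ⊔ Q' ≤ Subgroup.normalizer ((Cfsg.pCoreOf p NG : Subgroup G) : Set G) :=
        hLNG.trans (normalizer_le_normalizer_pCoreOf p NG)
      have hYq : Cfsg.largestPReducedOf p M ≤ quotStab (Cfsg.pCoreOf p NG) NG := by
        intro y hy
        have hyL : y ∈ H ⊔ Q' := le_sup_left (α := Subgroup G) (hYH hy)
        refine ⟨hLD hyL, fun n hn => hB ⟨?_, ?_⟩⟩
        · have h1 : n * y⁻¹ * n⁻¹ ∈ Cfsg.pCoreOf p ((NG ⊔ (Q' ⊔ Cfsg.pCoreOf p M)) ⊓ H) :=
            (Subgroup.mem_normalizer_iff.mp (hNGO hn) _).mp (Subgroup.inv_mem _ (hP1 hy))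
          have e : y * n * y⁻¹ * n⁻¹ = y * (n * y⁻¹ * n⁻¹) := by group
          rw [e]; exact Subgroup.mul_mem _ (hP1 hy) h1
        · exact NG.mul_mem ((Subgroup.mem_normalizer_iff.mp (hLNG hyL) n).mp hn) (NG.inv_mem hn)
      have hLq : H ⊔ Q' ≤ Subgroup.normalizer
          ((quotStab (Cfsg.pCoreOf p NG) NG : Subgroup G) : Set G) :=
        (le_inf hLD hLNG).trans (normalizer_inf_le_normalizer_quotStab _ _)
      have hKq : K ≤ quotStab (Cfsg.pCoreOf p NG) NG := by
        refine (le_sup_left : K ≤ K ⊔ Cfsg.largestPReducedOf p M).trans ?_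
        rw [← hE]
        apply iSup_le
        intro l
        have := Subgroup.map_mono (f := (MulAut.conj (l : G)).toMonoidHom) hYq
        rwa [map_conj_eq_of_mem_normalizer (hLq l.2)] at this
      apply isPClosed_subgroup_of_coprime_central
      intro x hx hxc n hn
      exact (hKq (hcopL x (hNGL hx) hxc)).2 n hn
  exact ⟨h1, h2, h3, h4, h5, h6, h7⟩

end Cfsg.Agent.S2854
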