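import Cfsg.Statements.S2859
import Cfsg.Agent.Lib.Helper47.WCFact

set_option autoImplicit false
open Cfsg

namespace Cfsg.Agent.S2859
open Cfsg.Agent.Lib.Helper47

/-- Let Q be a nontrivial p-subgroup of the finite group H that is a weakly closed subgroup, H° the weak closure of Q in H (generated by the conjugates of Q) and H_∘ = O^p(H°). Suppose H₁, H₂ are normal subgroups of H° with H° = H₁H₂ and [H₁, H₂] ≤ N_H(Q), and put Kᵢ = O^p of the weak closure of Q in HᵢQ. Then for i = 1, 2: Kᵢ = [Kᵢ, Q] = [Kᵢ, Hᵢ] ≤ Hᵢ′ and Kᵢ is normal in H°; H_∘ = K₁K₂; and [K₁, K₂] ≤ O_p(H°). -/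
theorem result {G : Type*} [Group G] [Finite G] {p : ℕ} [Fact p.Prime] (Q : Subgroup G) (hQp : IsPGroup p ↥Q) (hQ1 : Q ≠ ⊥) (hwc : Cfsg.IsWeaklyClosedSubgroup p Q) (Hc : Subgroup G) (hHc : Hc = Cfsg.weakClosure Q ⊤) (H₁ H₂ : Subgroup G) (hn₁ : H₁ ≤ Hc ∧ Hc ≤ Subgroup.normalizer ((H₁ : Subgroup G) : Set G)) (hn₂ : H₂ ≤ Hc ∧ Hc ≤ Subgroup.normalizer ((H₂ : Subgroup G) : Set G)) (hprod : H₁ ⊔ H₂ = Hc) (hcomm : ⁅H₁, H₂⁆ ≤ Subgroup.normalizer ((Q : Subgroup G) : Set G)) (K₁ K₂ : Subgroup G) (hK₁ : K₁ = ((Cfsg.pResidual p ↥(Cfsg.weakClosure Q (H₁ ⊔ Q))).map ((Cfsg.weakClosure Q (H₁ ⊔ Q))).subtype)) (hK₂ : K₂ = ((Cfsg.pResidual p ↥(Cfsg.weakClosure Q (H₂ ⊔ Q))).map ((Cfsg.weakClosure Q (H₂ ⊔ Q))).subtype)) : (⁅K₁, Q⁆ = K₁ ∧ ⁅K₁, H₁⁆ = K₁ ∧ K₁ ≤ ⁅H₁, H₁⁆ ∧ Hc ≤ Subgroup.normalizer ((K₁ : Subgroup G) : Set G)) ∧ (⁅K₂, Q⁆ = K₂ ∧ ⁅K₂, H₂⁆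 = K₂ ∧ K₂ ≤ ⁅H₂, H₂⁆ ∧ Hc ≤ Subgroup.normalizer ((K₂ : Subgroup G) : Set G)) ∧ K₁ ⊔ K₂ = ((Cfsg.pResidual p ↥Hc).map (Hc).subtype) ∧ ⁅K₁, K₂⁆ ≤ (Cfsg.pCoreOf p Hc) := by
  subst hHc
  have hQHc : Q ≤ Cfsg.weakClosure Q ⊤ := (weakClosure_basic hQp hwc le_top).1
  have hgen := weakClosure_le_iSup_self hQp hwc (le_top : Q ≤ ⊤)
  have hDle := commutator_le_pCoreOf_of_iSup Q hQp _ H₁ H₂ hQHc hgen hn₁.1 hn₁.2 hn₂.1 hn₂.2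
    hprod hcomm
  have hD : IsPGroup p ↥⁅H₁, H₂⁆ := (pCoreOf_isPGroup p _).to_le hDle
  have hD' : IsPGroup p ↥⁅H₂, H₁⁆ := by rw [Subgroup.commutator_comm]; exact hD
  obtain ⟨s1, hK₁H, hW₁, hH₁W⟩ := wc_factor_side Q hQp hwc _ H₁ H₂ hQHc hn₁.1 hn₁.2
    hn₂.1 hn₂.2 hprod hD K₁ hK₁
  obtain ⟨s2, hK₂H, hW₂, hH₂W⟩ := wc_factor_side Q hQp hwc _ H₂ H₁ hQHc hn₂.1 hn₂.2
    hn₁.1 hn₁.2 (by rw [sup_comm]; exact hprod) hD' K₂ hK₂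
  refine ⟨s1, s2, ?_, ?_⟩
  · apply le_antisymm
    · refine sup_le ?_ ?_
      · rw [hK₁]
        apply pResidual_map_subtype_mono p
        rw [hW₁]
        exact sup_le (hK₁H.trans hn₁.1) hQHc
      · rw [hK₂]
        apply pResidual_map_subtype_mono p
        rw [hW₂]
        exact sup_le (hK₂H.trans hn₂.1) hQHc
    · apply pResidual_map_subtype_le_of_forall
      intro x hx hc
      have hU : Cfsg.weakClosure Q ⊤ ≤ Q ⊔ (K₁ ⊔ K₂) := by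
        apply weakClosure_le_of_le_normalizer hQp hwc le_top le_sup_left
        conv_lhs => rw [← hprod]
        refine sup_le ?_ ?_
        · have e : Q ⊔ (K₁ ⊔ K₂) = Cfsg.weakClosure Q (H₁ ⊔ Q) ⊔ K₂ := by
            rw [hW₁, sup_comm Q, sup_right_comm]
          rw [e]
          exact (le_inf hH₁W (hn₁.1.trans s2.2.2.2)).trans (normalizer_inf_le_normalizer_sup _ _)
        · have e : Q ⊔ (K₁ ⊔ K₂) = Cfsg.weakClosure Q (H₂ ⊔ Q) ⊔ K₁ := by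
            rw [hW₂, sup_comm Q, sup_comm K₁ K₂, sup_right_comm]
          rw [e]
          exact (le_inf hH₂W (hn₂.1.trans s1.2.2.2)).trans (normalizer_inf_le_normalizer_sup _ _)
      exact mem_of_mem_sup_of_coprime_of_le_normalizer
        (hQHc.trans ((le_inf s1.2.2.2 s2.2.2.2).trans (normalizer_inf_le_normalizer_sup K₁ K₂)))
        hQp (hU hx) hc
  · exact (Subgroup.commutator_mono hK₁H hK₂H).trans hDle

end Cfsg.Agent.S2859
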