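import Cfsg.Statements.S2860
import Mathlib
import Cfsg.Agent.Lib.Helper48.QSSectionMain

set_option autoImplicit false
open Cfsg

namespace Cfsg.Agent.S2860
open scoped commutatorElement

open Cfsg.Agent.Lib.Helper47 Cfsg.Agent.Lib.Helper48

/-- Let Q be a nontrivial large p-subgroup of the finite group H, U a nontrivial elementary abelian p-subgroup of H, and Q ≤ E ≤ N_H(U) with Q not normal in E. Suppose O_p(E/C_E(U)) = 1 and O^p(E)·C_E(U)/C_E(U) is quasisimple. Let E° be the weak closure of Q in E (generated by the conjugates of Q inside E) and E_∘ = O^p(E°). Then O^p(E)·C_E(U) = E_∘·C_E(U); E_∘ is perfect and equals O^p(E_∘); E_∘/C_{E_∘}(U) and E_∘/O_p(E_∘) are quasisimple; and E_∘ = [E_∘, Y] for every p-subgroup Y of E not centralizing U. -/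
theorem result {G : Type*} [Group G] [Finite G] {p : ℕ} [Fact p.Prime] (Q : Subgroup G) (hQp : IsPGroup p ↥Q) (hQ1 : Q ≠ ⊥) (hQ : Cfsg.IsLarge Q) (U : Subgroup G) (hU : Cfsg.IsElementaryAbelian p U) (hU1 : U ≠ ⊥) (E : Subgroup G) (hQE : Q ≤ E) (hEU : E ≤ Subgroup.normalizer ((U : Subgroup G) : Set G)) (hQn : ¬ E ≤ Subgroup.normalizer ((Q : Subgroup G) : Set G)) [hn : ((Subgroup.centralizer ((U : Subgroup G) : Set G)).subgroupOf E).Normal] (hred : Cfsg.pCore p (↥E ⧸ (Subgroup.centralizer ((U : Subgroup G) : Set G)).subgroupOf E) = ⊥) (hqs : Cfsg.IsQuasisimple ↥(((Cfsg.pResidual p ↥E) ⊔ (Subgroup.centralizer ((U : Subgroup G) : Set G)).subgroupOf E).map (QuotientGroup.mk' ((Subgroup.centralizer ((U : Subgroup G) : Set G)).subgroupOf E)))) (Er : Subgroup G) (hEr : Er = ((Cfsg.pResidual p ↥(Cfsg.weakClosure Q E)).map ((Cfsg.weakClosure Q E)).subtype)) [hn2 : ((Subgroup.centralizer ((U : Subgroup G) : Set G)).subgroupOf Er).Normal] : ((Cfsg.pResidual p ↥E).map (E).subtype)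 ⊔ (E ⊓ Subgroup.centralizer ((U : Subgroup G) : Set G)) = Er ⊔ (E ⊓ Subgroup.centralizer ((U : Subgroup G) : Set G)) ∧ ⁅Er, Er⁆ = Er ∧ ((Cfsg.pResidual p ↥Er).map (Er).subtype) = Er ∧ Cfsg.IsQuasisimple (↥Er ⧸ (Subgroup.centralizer ((U : Subgroup G) : Set G)).subgroupOf Er) ∧ Cfsg.IsQuasisimple (↥Er ⧸ Cfsg.pCore p ↥Er) ∧ ∀ Y : Subgroup G, Y ≤ E → IsPGroup p ↥Y → ¬ Y ≤ Subgroup.centralizer ((U : Subgroup G) : Set G) → ⁅Er, Y⁆ = Er := by
  classical
  have hUp : IsPGroup p U := by
    intro u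
    refine ⟨1, ?_⟩
    rw [pow_one]
    apply Subtype.ext
    simpa using hU.2 u.1 u.2
  have hECU : E ≤ Subgroup.normalizer ((Subgroup.centralizer (U : Set G) : Subgroup G) : Set G) :=
    hEU.trans (normalizer_le_normalizer_centralizer U)
  have hCconj : ∀ g : G, Q.map (MulAut.conj g).toMonoidHom ≤ E →
      Subgroup.centralizer (U : Set G) ≤
        Subgroup.normalizer ((Q.map (MulAut.conj g).toMonoidHom : Subgroup G) : Set G) := by
    intro g hg
    exact large_centralizer_le_normalizer (isLarge_map_conj hQ g) (hQp.map _) hUp hU1 (hg.trans hEU)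
  have hQ_one : Q.map (MulAut.conj (1 : G)).toMonoidHom = Q := by
    ext x; simp
  have hQC : ¬ Q ≤ Subgroup.centralizer (U : Set G) := by
    intro hQC
    apply hQn
    intro e he
    have hCQ : Subgroup.centralizer (U : Set G) ≤ Subgroup.normalizer (Q : Set G) := by
      have := hCconj 1 (by rw [hQ_one]; exact hQE)
      rwa [hQ_one] at this
    have hQe : Q.map (MulAut.conj e).toMonoidHom ≤ Subgroup.centralizer (U : Set G) := by
      have h1 := Subgroup.map_mono (f := (MulAut.conj e).toMonoidHom) hQC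
      rwa [map_conj_eq_of_mem_normalizer (hECU he)] at h1
    have hP : IsPGroup p ↥(Q.map (MulAut.conj e).toMonoidHom ⊔ Q) :=
      IsPGroup.to_sup_of_normal_right' (hQp.map _) hQp (hQe.trans hCQ)
    have h2 := large_conj_eq_of_le_pgroup hQ hQ1 _ hP e 1 le_sup_left
      (by rw [hQ_one]; exact le_sup_right)
    rw [hQ_one] at h2
    exact mem_normalizer_of_map_conj_eq h2
  have hW : Cfsg.weakClosure Q E = sSup (Set.range (fun g : {g : G // Q.map (MulAut.conj g).toMonoidHom ≤ E} =>
      Q.map (MulAut.conj (g : G)).toMonoidHom)) := by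
    unfold Cfsg.weakClosure
    rw [sSup_range]
  have h𝒬 : ∀ Q' ∈ Set.range (fun g : {g : G // Q.map (MulAut.conj g).toMonoidHom ≤ E} =>
      Q.map (MulAut.conj (g : G)).toMonoidHom), IsPGroup p Q' := by
    rintro _ ⟨g, rfl⟩
    exact hQp.map _
  have hWE : Cfsg.weakClosure Q E ≤ E := by
    unfold Cfsg.weakClosure
    exact iSup_le fun g => g.2
  have hEW : E ≤ Subgroup.normalizer ((Cfsg.weakClosure Q E : Subgroup G) : Set G) := by
    apply Cfsg.Agent.Lib.Helper47.le_normalizer_of_conj_mem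
    intro e he n hn
    have h1 : (Cfsg.weakClosure Q E).map (MulAut.conj e).toMonoidHom ≤ Cfsg.weakClosure Q E := by
      unfold Cfsg.weakClosure
      rw [Subgroup.map_iSup]
      apply iSup_le
      intro g
      rw [Cfsg.Agent.Lib.Helper48.map_conj_map_conj]
      have hle : Q.map (MulAut.conj (e * (g : G))).toMonoidHom ≤ E := by
        rw [← Cfsg.Agent.Lib.Helper48.map_conj_map_conj]
        rintro _ ⟨x, hx, rfl⟩
        simp only [MulEquiv.coe_toMonoidHom, MulAut.conj_apply]
        exact E.mul_mem (E.mul_mem he (g.2 hx)) (E.inv_mem he)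
      exact le_iSup (fun g : {g : G // Q.map (MulAut.conj g).toMonoidHom ≤ E} =>
        Q.map (MulAut.conj (g : G)).toMonoidHom) ⟨e * (g : G), hle⟩
    exact h1 ⟨n, hn, rfl⟩
  have hECn : E ≤ Subgroup.normalizer ((E ⊓ Subgroup.centralizer (U : Set G) : Subgroup G) : Set G) :=
    qss_le_normalizer_inf Subgroup.le_normalizer hECU
  have hWC : ⁅Cfsg.weakClosure Q E, E ⊓ Subgroup.centralizer (U : Set G)⁆ ≤
      Cfsg.pCoreOf p (E ⊓ Subgroup.centralizer (U : Set G)) := by
    have h1 : Cfsg.weakClosure Q E ≤ quotStab (Cfsg.pCoreOf p (E ⊓ Subgroup.centralizer (U : Set G)))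
        (E ⊓ Subgroup.centralizer (U : Set G)) := by
      unfold Cfsg.weakClosure
      apply iSup_le
      rintro ⟨g, hg⟩ u hu
      have hu' : u ∈ Q.map (MulAut.conj g).toMonoidHom := hu
      rw [mem_quotStab]
      have huE : u ∈ E := hg hu'
      refine ⟨(hECn.trans (normalizer_le_normalizer_pCoreOf p _)) huE, ?_⟩
      intro k hk
      have hkN := hCconj g hg hk.2
      have hle : Q.map (MulAut.conj g).toMonoidHom ⊓ (E ⊓ Subgroup.centralizer (U : Set G)) ≤
          Cfsg.pCoreOf p (E ⊓ Subgroup.centralizer (U : Set G)) := by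
        apply le_pCoreOf_of_le_normalizer
        · exact (hQp.map _).to_le inf_le_left
        · exact inf_le_right
        · exact qss_le_normalizer_inf (inf_le_right.trans (hCconj g hg)) Subgroup.le_normalizer
      apply hle
      constructor
      · have e1 : u * k * u⁻¹ * k⁻¹ = u * (k * u⁻¹ * k⁻¹) := by group
        rw [e1]
        exact Subgroup.mul_mem _ hu'
          ((Subgroup.mem_normalizer_iff.mp hkN _).mp (Subgroup.inv_mem _ hu'))
      · exact Subgroup.mul_mem _ ((Subgroup.mem_normalizer_iff.mp (hECn huE) k).mp hk)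
          (Subgroup.inv_mem _ hk)
    rw [Subgroup.commutator_le]
    intro w hw c hc
    rw [commutatorElement_def]
    exact (mem_quotStab.mp (h1 hw)).2 c hc
  have heq : ((Cfsg.pResidual p ↥E) ⊔ (Subgroup.centralizer (U : Set G)).subgroupOf E).map
      (QuotientGroup.mk' ((Subgroup.centralizer (U : Set G)).subgroupOf E)) =
      Cfsg.pResidual p (↥E ⧸ (Subgroup.centralizer (U : Set G)).subgroupOf E) := by
    rw [Subgroup.map_sup, QuotientGroup.map_mk'_self, sup_bot_eq]
    exact le_antisymm (map_pResidual_le p _) (pResidual_le_map p _)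
  rw [heq] at hqs
  exact qss_main E (Subgroup.centralizer (U : Set G)) hred hqs (Cfsg.weakClosure Q E) hWE hEW _ h𝒬 hW
    ⟨Q, ⟨⟨1, by rw [hQ_one]; exact hQE⟩, hQ_one⟩, hQC⟩
    (Cfsg.pCoreOf p (E ⊓ Subgroup.centralizer (U : Set G))) (pCoreOf_isPGroup p _) hWC Er hEr

end Cfsg.Agent.S2860
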