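import Cfsg.Statements.S2861
import Mathlib
import Cfsg.Agent.Lib.Helper62.FrakL.Transfer
import Cfsg.Agent.Lib.Helper62.FrakL.TransferN
import Cfsg.Agent.Lib.Helper48.FrakL.CaseDih
import Cfsg.Agent.Lib.Helper48.FrakL.DefsN
import Cfsg.Agent.Lib.Helper80.FrakL.CaseNTwo
import Cfsg.Agent.Lib.Helper11.FrakL.CaseNSz
import Cfsg.Agent.Lib.Helper68.FrakL.CaseNSL2
import Cfsg.Agent.Lib.Helper64.FrakL.SzNormal

set_option autoImplicit false
open Cfsg

namespace Cfsg.Agent.S2861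

/-- Standing hypotheses: G a finite group, S a Sylow p-subgroup, Q a nontrivial large p-subgroup of G contained in S, M a subgroup containing S with the basic property (M ∈ 𝔐_G(S)); Y_M the largest p-reduced normal subgroup of M and M† = M·C_G(Y_M). Let L ∈ 𝔏_G(Y_M) (L ∈ 𝔏_G(Y_M): Y_M ≤ L; O_p(L) is the normal closure in L of Y_M ∩ O_p(L) and normalizes Y_M; L is Y_M-minimal of characteristic p with N_L(Y_M) its unique maximal subgroup over Y_M; and L/O_p(L) ≅ SL₂(q) with q = |Y_M : Y_M ∩ O_p(L)|, or p = 2 and L/O_p(L) is a Suzuki group Sz(q) or dihedral of order 2r, r an odd prime) and A = O_p(L). Then Y_M·A/A is the unique nontrivial elementary abelian normal p-subgroup of N_L(Y_M)/A. -/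
theorem result {G : Type*} [Group G] [Finite G] {p : ℕ} [Fact p.Prime] (S : Sylow p G) (Q : Subgroup G) (hQp : IsPGroup p ↥Q) (hQ1 : Q ≠ ⊥) (hQS : Q ≤ (S : Subgroup G)) (hQ : Cfsg.IsLarge Q) (M : Subgroup G) (hSM : (S : Subgroup G) ≤ M) (hM : Cfsg.IsInFrakM p M) (L : Subgroup G) (hL : Cfsg.IsInFrakL p M L) (NL : Subgroup G) (hNL : NL = L ⊓ Subgroup.normalizer (((Cfsg.largestPReducedOf p M) : Subgroup G) : Set G)) [hn : (((Cfsg.pCoreOf p L)).subgroupOf NL).Normal] : let Ybar : Subgroup (↥NL ⧸ ((Cfsg.pCoreOf p L)).subgroupOf NL) := (((Cfsg.largestPReducedOf p M)).subgroupOf NL).map (QuotientGroup.mk' (((Cfsg.pCoreOf p L)).subgroupOf NL)); Ybar ≠ ⊥ ∧ Ybar.Normal ∧ Cfsg.IsElementaryAbelian p Ybar ∧ ∀ (V : Subgroup (↥NL ⧸ ((Cfsg.pCoreOf p L)).subgroupOf NL)), V.Normal → Cfsg.IsElementaryAbelian p V → V ≠ ⊥ → V = Ybar := by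
  have d := Cfsg.Agent.Lib.Helper62.FrakL.data_of_frakL M L hL
  have hcard := Cfsg.Agent.Lib.Helper62.FrakL.card_map_mk M L hL
  have hConcl : Cfsg.Agent.Lib.Helper48.FrakL.ConclN p
      ((Cfsg.largestPReducedOf p M).subgroupOf L) (Cfsg.pCore p ↥L) := by
    rcases hL.2.2.2.2.2.2 with ⟨F, instF, instFin, hF, ⟨φ⟩⟩ |
      ⟨hp2, F, instF, instFin, m, hF1, hF2, ⟨φ⟩⟩ | ⟨hp2, r, hr, hr2, ⟨φ⟩⟩
    · exact Cfsg.Agent.Lib.Helper68.FrakL.caseN_sl2 d (by rw [hcard, hF]) φ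
    · subst hp2
      by_cases hm : 1 ≤ m
      · exact Cfsg.Agent.Lib.Helper11.FrakL.caseN_sz d hm hF1 (by rw [hcard, ← hF2, hF1]) φ
          Cfsg.Agent.Lib.Helper64.FrakL.szNormal
      · have hm0 : m = 0 := by omega
        subst hm0
        exact Cfsg.Agent.Lib.Helper80.FrakL.caseN_two d (by rw [hcard, ← hF2, hF1]; norm_num)
    · subst hp2
      exact Cfsg.Agent.Lib.Helper80.FrakL.caseN_two d
        (Cfsg.Agent.Lib.Helper48.FrakL.card_two_of_dihedral d hr hr2 φ)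
  exact Cfsg.Agent.Lib.Helper62.FrakL.s2861_of_conclN M L hL hConcl NL hNL

end Cfsg.Agent.S2861
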