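import Cfsg.Statements.S2864
import Mathlib
import Cfsg.Agent.Lib.Helper48.QuotStab
import Cfsg.Agent.Lib.Helper48.PMinComp
import Cfsg.Agent.Lib.Helper48.PMinimal
import Cfsg.Agent.Lib.Helper47.Large
import Cfsg.Agent.Lib.Helper47.Subn
import Cfsg.Agent.Lib.Helper61.Coprime
import Cfsg.Agent.Lib.Helper1.BurnsideBasis
import Cfsg.Agent.S0029
import Cfsg.Agent.S2845

set_option autoImplicit false
open Cfsg

namespace Cfsg.Agent.S2864
open scoped commutatorElement

open Cfsg.Agent.Lib.Helper47 Cfsg.Agent.Lib.Helper48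

/-- Standing hypotheses: G a finite group, S a Sylow p-subgroup, Q a nontrivial large p-subgroup of G contained in S, M a subgroup containing S with the basic property (M ∈ 𝔐_G(S)); Y_M the largest p-reduced normal subgroup of M and M† = M·C_G(Y_M). Let I be a nontrivial normal p-subgroup of M and Y ≤ O_p(M†); let L be a subgroup of G containing Y and A a normal p-subgroup of L with I ≤ A ≤ M. If [Y, A] ≤ [I, A], then Y ≤ O_p(L). -/
theorem result {G : Type*} [Group G] [Finite G] {p : ℕ} [Fact p.Prime] (S : Sylow p G) (Q : Subgroup G) (hQp : IsPGroup p ↥Q) (hQ1 : Q ≠ ⊥) (hQS : Q ≤ (S : Subgroup G)) (hQ : Cfsg.IsLarge Q) (M : Subgroup G) (hSM : (S : Subgroup G) ≤ M) (hM : Cfsg.IsInFrakM p M) (I : Subgroup G) (hI1 : I ≠ ⊥) (hIp : IsPGroup p ↥I) (hIM : I ≤ M ∧ M ≤ Subgroup.normalizer ((I : Subgroup G) : Set G)) (Y : Subgroup G) (hY : Y ≤ (Cfsg.pCoreOf p (M ⊔ Subgroup.centralizer (((Cfsg.largestPReducedOf p M) : Subgroup G) :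 Set G)))) (L : Subgroup G) (hYL : Y ≤ L) (A : Subgroup G) (hAp : IsPGroup p ↥A) (hAL : A ≤ L ∧ L ≤ Subgroup.normalizer ((A : Subgroup G) : Set G)) (hIA : I ≤ A) (hAM : A ≤ M) (hc : ⁅Y, A⁆ ≤ ⁅I, A⁆) : Y ≤ (Cfsg.pCoreOf p L) := by
  obtain ⟨hMc, hMdmax, hMduniq, -, -, -⟩ := hM
  set Md : Subgroup G := M ⊔ Subgroup.centralizer ((Cfsg.largestPReducedOf p M : Subgroup G) : Set G)
    with hMd
  -- Step A: N_G(I) ≤ M†
  have hNI : Subgroup.normalizer (I : Set G) ≤ Md := by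
    have hpar : Cfsg.IsParabolic p (Subgroup.normalizer (I : Set G)) := ⟨S, hSM.trans hIM.2⟩
    have hne : Cfsg.pCore p ↥(Subgroup.normalizer (I : Set G)) ≠ ⊥ := by
      intro h
      apply hI1
      have h1 := le_pCoreOf_normalizer hIp
      have h2 : Cfsg.pCoreOf p (Subgroup.normalizer (I : Set G)) = ⊥ := by
        unfold Cfsg.pCoreOf; rw [h, Subgroup.map_bot]
      rw [h2] at h1
      exact le_bot_iff.mp h1
    have hchar : Subgroup.normalizer (I : Set G) ∈ Cfsg.charPSubgroups p G :=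
      ⟨hne, Cfsg.Agent.S2845.large_parabolic Q hQp hQ _ hpar hne⟩
    obtain ⟨X, hX1, hX2⟩ := Finite.exists_le_maximal
      (p := fun L : Subgroup G => L ∈ Cfsg.charPSubgroups p G) hchar
    have hXmax : X ∈ Cfsg.maxCharPSubgroups p G :=
      ⟨hX2.1, fun L hL hXL => le_antisymm (hX2.2 hL hXL) hXL⟩
    have := hMduniq X hXmax (hIM.2.trans hX1)
    rw [← this]; exact hX1
  -- Step B
  have hLA' : L ≤ Subgroup.normalizer ((⁅A, A⁆ : Subgroup G) : Set G) :=
    (le_inf hAL.2 hAL.2).trans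
      (Cfsg.Agent.Lib.Helper61.normalizer_inf_le_normalizer_commutator A A)
  set N : Subgroup G := L ⊓ quotStab ⁅A, A⁆ A with hNdef
  set N₀ : Subgroup G := L ⊓ Subgroup.centralizer (A : Set G) with hN₀def
  have hLN : L ≤ Subgroup.normalizer (N : Set G) :=
    (le_inf Subgroup.le_normalizer ((le_inf hLA' hAL.2).trans
      (normalizer_inf_le_normalizer_quotStab _ _))).trans Subgroup.inf_normalizer_le_normalizer_inf
  have hYN : Y ≤ N := by
    intro y hy
    refine ⟨hYL hy, hLA' (hYL hy), fun k hk => ?_⟩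
    have h1 : ⁅y, k⁆ ∈ ⁅Y, A⁆ := Subgroup.commutator_mem_commutator hy hk
    exact (Subgroup.commutator_mono hIA le_rfl) (hc h1)
  have hLN₀ : L ≤ Subgroup.normalizer (N₀ : Set G) :=
    (le_inf Subgroup.le_normalizer (hAL.2.trans (normalizer_le_normalizer_centralizer A))).trans
      Subgroup.inf_normalizer_le_normalizer_inf
  have hN₀Md : N₀ ≤ Md :=
    (inf_le_right.trans ((Subgroup.centralizer_le (SetLike.coe_subset_coe.mpr hIA)).trans
      (Subgroup.centralizer_le_normalizer _))).trans hNI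
  have hB4 : ∀ x ∈ N, (orderOf x).Coprime p → x ∈ Subgroup.centralizer (A : Set G) := by
    intro x hx hcop
    have hz : Subgroup.zpowers x ≤ quotStab ⁅A, A⁆ A := by
      rw [Subgroup.zpowers_le]; exact hx.2
    have hzA : Subgroup.zpowers x ≤ Subgroup.normalizer (A : Set G) := by
      rw [Subgroup.zpowers_le]; exact hAL.2 hx.1
    have hfr : IsPGroup p ↥(frattini ↥A) := hAp.to_subgroup _
    have hcop' : (Nat.card ↥(Subgroup.zpowers x)).Coprime (Nat.card ↥(frattini ↥A)) := by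
      obtain ⟨k, hk⟩ := hfr.exists_card_eq
      rw [hk, Nat.card_zpowers]
      exact Nat.Coprime.pow_right k hcop
    have hcf : ⁅A, A⁆ ≤ (frattini ↥A).map A.subtype := by
      rw [← Subgroup.map_subtype_commutator]
      exact Subgroup.map_mono (Cfsg.Agent.Lib.Helper1.commutator_le_frattini_of_pGroup p hAp)
    have := Cfsg.Agent.S0029.result (Subgroup.zpowers x) A hzA hcop'
      (fun u hu k hk => hcf ((hz hu).2 k hk))
    exact this (Subgroup.mem_zpowers x)
  set D : Subgroup G := Cfsg.pCoreOf p N₀ with hDdef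
  have hDL : L ≤ Subgroup.normalizer (D : Set G) :=
    hLN₀.trans (normalizer_le_normalizer_pCoreOf p _)
  have hB7 : ∀ y ∈ Y, ∀ n ∈ N₀, y * n * y⁻¹ * n⁻¹ ∈ D := by
    intro y hy n hn
    have hO : Md ≤ Subgroup.normalizer ((Cfsg.pCoreOf p Md : Subgroup G) : Set G) :=
      le_normalizer_pCoreOf p _
    have h1 : y * n * y⁻¹ * n⁻¹ ∈ Cfsg.pCoreOf p Md := by
      have h2 : n * y⁻¹ * n⁻¹ ∈ Cfsg.pCoreOf p Md :=
        (Subgroup.mem_normalizer_iff.mp (hO (hN₀Md hn)) _).mp (Subgroup.inv_mem _ (hY hy))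
      have e : y * n * y⁻¹ * n⁻¹ = y * (n * y⁻¹ * n⁻¹) := by group
      rw [e]; exact Subgroup.mul_mem _ (hY hy) h2
    have h3 : y * n * y⁻¹ * n⁻¹ ∈ N₀ :=
      Subgroup.mul_mem _ ((Subgroup.mem_normalizer_iff.mp (hLN₀ (hYL hy)) n).mp hn)
        (Subgroup.inv_mem _ hn)
    have h4 : Cfsg.pCoreOf p Md ⊓ N₀ ≤ D :=
      le_pCoreOf_of_le_normalizer ((pCoreOf_isPGroup p _).to_le inf_le_left) inf_le_right
        ((le_inf (hN₀Md.trans hO) Subgroup.le_normalizer).trans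
          Subgroup.inf_normalizer_le_normalizer_inf)
    exact h4 ⟨h1, h3⟩
  -- Step C
  have hYp : IsPGroup p Y := (pCoreOf_isPGroup p _).to_le hY
  obtain ⟨P, hP⟩ := (hYp.comap_of_injective N.subtype (Subgroup.subtype_injective _)).exists_le_sylow
  have hT₁N : (P : Subgroup ↥N).map N.subtype ≤ N := by rintro _ ⟨x, -, rfl⟩; exact x.2
  have hYT₁ : Y ≤ (P : Subgroup ↥N).map N.subtype :=
    fun y hy => ⟨⟨y, hYN hy⟩, hP (Subgroup.mem_subgroupOf.mpr hy), rfl⟩
  have hT₁D : IsPGroup p ↥((P : Subgroup ↥N).map N.subtype ⊔ D) :=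
    IsPGroup.to_sup_of_normal_right' (P.isPGroup'.map _) (pCoreOf_isPGroup p _)
      ((hT₁N.trans inf_le_left).trans hDL)
  haveI := pResidual_normal' p ↥N
  have hres : ∀ r : ↥N, r ∈ Cfsg.pResidual p ↥N → (r : G) ∈ N₀ := by
    intro r hr
    have hle : Cfsg.pResidual p ↥N ≤ N₀.subgroupOf N := by
      unfold Cfsg.pResidual
      rw [Subgroup.closure_le]
      intro g hg
      have hg' : (orderOf g).Coprime p := hg
      rw [← Subgroup.orderOf_coe] at hg'
      exact Subgroup.mem_subgroupOf.mpr ⟨g.2.1, hB4 _ g.2 hg'⟩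
    exact Subgroup.mem_subgroupOf.mp (hle hr)
  have hconj : ∀ n ∈ N, Y.map (MulAut.conj n).toMonoidHom ≤ (P : Subgroup ↥N).map N.subtype ⊔ D := by
    rintro n hn _ ⟨y, hy, rfl⟩
    have htop : (⟨n, hn⟩ : ↥N) ∈
        ((Cfsg.pResidual p ↥N ⊔ (P : Subgroup ↥N) : Subgroup ↥N) : Set ↥N) := by
      rw [Cfsg.Agent.Lib.Helper48.pResidual_sup_sylow P]; exact Set.mem_univ _
    rw [Subgroup.normal_mul] at htop
    obtain ⟨r, hr, t, ht, hrt⟩ := htop
    have hn' : n = (r : G) * (t : G) := by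
      have := congrArg Subtype.val hrt
      simpa using this.symm
    have hr₀ := hres r hr
    have htL : (t : G) ∈ L := t.2.1
    have hr₁ : (t : G)⁻¹ * (r : G) * (t : G) ∈ N₀ :=
      (Subgroup.mem_normalizer_iff''.mp (hLN₀ htL) _).mp hr₀
    have hd := hB7 y hy _ hr₁
    have hd' : (t : G) * (y * ((t : G)⁻¹ * (r : G) * (t : G)) * y⁻¹ *
        ((t : G)⁻¹ * (r : G) * (t : G))⁻¹)⁻¹ * (t : G)⁻¹ ∈ D :=
      (Subgroup.mem_normalizer_iff.mp (hDL htL) _).mp (Subgroup.inv_mem _ hd)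
    have hy' : (t : G) * y * (t : G)⁻¹ ∈ (P : Subgroup ↥N).map N.subtype :=
      ⟨t * ⟨y, hYN hy⟩ * t⁻¹, (P : Subgroup ↥N).mul_mem ((P : Subgroup ↥N).mul_mem ht
        (hP (Subgroup.mem_subgroupOf.mpr hy))) ((P : Subgroup ↥N).inv_mem ht), rfl⟩
    have e : (MulAut.conj n).toMonoidHom y = ((t : G) * (y * ((t : G)⁻¹ * (r : G) * (t : G)) * y⁻¹ *
        ((t : G)⁻¹ * (r : G) * (t : G))⁻¹)⁻¹ * (t : G)⁻¹) * ((t : G) * y * (t : G)⁻¹) := by
      show n * y * n⁻¹ = _
      rw [hn']; group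
    rw [e]
    exact Subgroup.mul_mem _ (Subgroup.mem_sup_right hd') (Subgroup.mem_sup_left hy')
  have hE : conjSup N Y ≤ (P : Subgroup ↥N).map N.subtype ⊔ D := by
    apply iSup_le
    intro s
    exact hconj s s.2
  have hEp : IsPGroup p ↥(conjSup N Y) := hT₁D.to_le hE
  have hEN : conjSup N Y ≤ N := by
    apply iSup_le
    rintro s _ ⟨y, hy, rfl⟩
    exact Subgroup.mul_mem _ (Subgroup.mul_mem _ s.2 (hYN hy)) (Subgroup.inv_mem _ s.2)
  have h1 : conjSup N Y ≤ Cfsg.pCoreOf p N :=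
    le_pCoreOf_of_le_normalizer hEp hEN (conjSup_le_normalizer N Y)
  have h2 : Cfsg.pCoreOf p N ≤ Cfsg.pCoreOf p L :=
    le_pCoreOf_of_le_normalizer (pCoreOf_isPGroup p _) ((pCoreOf_le p _).trans inf_le_left)
      (hLN.trans (normalizer_le_normalizer_pCoreOf p _))
  exact ((le_conjSup N Y).trans h1).trans h2

end Cfsg.Agent.S2864
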