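import Mathlib
import Cfsg.Statements.S2872

set_option autoImplicit false
open Cfsg

namespace Cfsg.Agent.S2872

/-- A maximal subgroup of a finite `p`-group has index `p`. -/
theorem index_of_coatom {S : Type*} [Group S] [Finite S] {p : ℕ} [Fact p.Prime]
    (hS : IsPGroup p S) (T : Subgroup S) (hT : IsCoatom T) : T.index = p := by
  have hp : p.Prime := Fact.out
  obtain ⟨N, hN⟩ := IsPGroup.iff_card.mp hS
  obtain ⟨n, hn⟩ := IsPGroup.iff_card.mp (hS.to_subgroup T)
  have hle : n ≤ N := by
    have h1 : Nat.card T ∣ Nat.card S := Subgroup.card_subgroup_dvd_card T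
    rw [hn, hN] at h1
    exact (Nat.pow_dvd_pow_iff_le_right hp.one_lt).mp h1
  have hlt : n < N := by
    rcases lt_or_eq_of_le hle with h | h
    · exact h
    · exfalso
      apply hT.1
      apply Subgroup.eq_top_of_card_eq
      rw [hn, hN, h]
  have hdvd : p ^ (n + 1) ∣ Nat.card S := by
    rw [hN]; exact pow_dvd_pow p hlt
  obtain ⟨K, hK, hTK⟩ := Sylow.exists_subgroup_card_pow_succ hdvd hn
  have hKtop : K = ⊤ := by
    apply hT.2 K
    apply lt_of_le_of_ne hTK
    intro h
    rw [← h, hn] at hK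
    have := Nat.pow_right_injective hp.two_le hK
    omega
  have hcard : Nat.card S = p ^ (n + 1) := by
    rw [← hK, hKtop, Subgroup.card_top]
  have h2 := Subgroup.card_mul_index T
  rw [hn, hcard, pow_succ] at h2
  exact Nat.eq_of_mul_eq_mul_left (pow_pos hp.pos n) h2

/-- If `d` divides the size of every orbit, it divides the size of the set. -/
theorem dvd_card_of_dvd_orbit {S X : Type*} [Group S] [MulAction S X] [Finite X] (d : ℕ)
    (h : ∀ x : X, d ∣ Nat.card (MulAction.orbit S x)) : d ∣ Nat.card X := by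
  classical
  have e := MulAction.selfEquivSigmaOrbits S X
  have : Fintype (Quotient (MulAction.orbitRel S X)) := Fintype.ofFinite _
  rw [Nat.card_congr e, Nat.card_sigma]
  exact Finset.dvd_sum (fun ω _ => h _)

/-- Sign of an involution in terms of its fixed points. -/
theorem sign_of_sq_eq_one {α : Type*} [Fintype α] [DecidableEq α] (σ : Equiv.Perm α)
    (h : σ ^ 2 = 1) :
    Equiv.Perm.sign σ = (-1) ^ ((Fintype.card α - Fintype.card (Function.fixedPoints σ)) / 2) := by
  have hrep : σ.cycleType = Multiset.replicate σ.cycleType.card 2 := by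
    rw [Multiset.eq_replicate]
    refine ⟨rfl, fun n hn => ?_⟩
    have h1 := Equiv.Perm.dvd_of_mem_cycleType hn
    have h2 : orderOf σ ∣ 2 := orderOf_dvd_of_pow_eq_one h
    have h3 := Equiv.Perm.two_le_of_mem_cycleType hn
    have h4 := Nat.le_of_dvd (by norm_num) (h1.trans h2)
    omega
  have := Equiv.Perm.sign_of_cycleType_eq_replicate (by norm_num : 0 < 2) hrep
  rw [this, if_neg (by decide)]


/-- Fixed cosets of an element. -/
theorem smul_mk_eq_iff {G : Type*} [Group G] (T : Subgroup G) (g k : G) :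
    g • (k : G ⧸ T) = (k : G ⧸ T) ↔ k⁻¹ * g * k ∈ T := by
  rw [MulAction.Quotient.smul_mk, QuotientGroup.eq]
  constructor
  · intro h
    have := T.inv_mem h
    have e : ((g • k)⁻¹ * k)⁻¹ = k⁻¹ * g * k := by simp [smul_eq_mul, mul_assoc]
    rwa [e] at this
  · intro h
    have := T.inv_mem h
    have e : (k⁻¹ * g * k)⁻¹ = (g • k)⁻¹ * k := by simp [smul_eq_mul, mul_assoc]
    rwa [e] at this

/-- Let S be a Sylow 2-subgroup of the finite group G. Then G has a proper normal subgroup of 2-power index (O²(G) ≠ G), or Ω₁(Z(S)) is contained in the Frattini subgroup of S, or N_G(S) acts nontrivially on Ω₁(Z(S)) by conjugation. -/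
theorem result {G : Type*} [Group G] [Finite G] (S : Sylow 2 G) : Cfsg.pResidual 2 G ≠ ⊤ ∨ Cfsg.omegaOne 2 ((S : Subgroup G) ⊓ Subgroup.centralizer ((S : Subgroup G) : Set G)) ≤ (frattini ↥(S : Subgroup G)).map (S : Subgroup G).subtype ∨ ∃ g ∈ Subgroup.normalizer ((S : Subgroup G) : Set G), ∃ z ∈ Cfsg.omegaOne 2 ((S : Subgroup G) ⊓ Subgroup.centralizer ((S : Subgroup G) : Set G)), g * z * g⁻¹ ≠ z := by
  classical
  by_contra hcon
  push Not at hcon
  obtain ⟨h1, h2, h3⟩ := hcon
  -- a central involution z outside the Frattini subgroup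
  have hex : ∃ z, z ∈ (S : Subgroup G) ⊓ Subgroup.centralizer ((S : Subgroup G) : Set G) ∧
      z ^ 2 = 1 ∧ z ∉ (frattini ↥(S : Subgroup G)).map (S : Subgroup G).subtype := by
    by_contra hno
    push Not at hno
    apply h2
    unfold Cfsg.omegaOne
    rw [Subgroup.closure_le]
    intro x hx
    exact hno x hx.1 hx.2
  obtain ⟨z, hzSC, hz2, hzF⟩ := hex
  have hzS : z ∈ (S : Subgroup G) := hzSC.1
  have hzC : z ∈ Subgroup.centralizer ((S : Subgroup G) : Set G) := hzSC.2
  have hzΩ : z ∈ Cfsg.omegaOne 2 ((S : Subgroup G) ⊓ Subgroup.centralizer ((S : Subgroup G) : Set G)) :=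
    Subgroup.subset_closure ⟨hzSC, hz2⟩
  have hzcomm : ∀ s ∈ (S : Subgroup G), s * z = z * s := fun s hs =>
    Subgroup.mem_centralizer_iff.mp hzC s hs
  have hz' : (⟨z, hzS⟩ : (S : Subgroup G)) ∉ frattini ↥(S : Subgroup G) :=
    fun h => hzF ⟨⟨z, hzS⟩, h, rfl⟩
  obtain ⟨T', hT'co, hzT'⟩ : ∃ T' : Subgroup (S : Subgroup G), IsCoatom T' ∧
      (⟨z, hzS⟩ : (S : Subgroup G)) ∉ T' := by
    by_contra hno
    push Not at hno
    apply hz'
    unfold frattini Order.radical
    simp only [Subgroup.mem_iInf]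
    intro K hK
    exact hno K hK
  have hidx : T'.index = 2 := index_of_coatom S.isPGroup' T' hT'co
  set T : Subgroup G := T'.map (S : Subgroup G).subtype with hT
  have hTS : T ≤ (S : Subgroup G) := by
    rintro _ ⟨y, -, rfl⟩; exact y.2
  have hzT : z ∉ T := by
    rintro ⟨y, hy, hyz⟩
    apply hzT'
    have : y = ⟨z, hzS⟩ := Subtype.ext hyz
    rwa [← this]
  have hST : ∀ s ∈ (S : Subgroup G), s ∈ T ∨ z * s ∈ T := by
    intro s hs
    by_cases hsT : (⟨s, hs⟩ : (S : Subgroup G)) ∈ T'
    · left; exact ⟨_, hsT, rfl⟩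
    · right
      have h5 : (⟨z, hzS⟩ : (S : Subgroup G)) * ⟨s, hs⟩ ∈ T' :=
        (Subgroup.mul_mem_iff_of_index_two hidx).mpr (by simp [hzT', hsT])
      exact ⟨_, h5, rfl⟩
  have hsubT : T.subgroupOf (S : Subgroup G) = T' :=
    Subgroup.comap_map_eq_self_of_injective (Subgroup.subtype_injective _) T'
  have hcardT : Nat.card T * 2 = Nat.card (S : Subgroup G) := by
    have h := Subgroup.card_mul_index T'
    rw [hidx] at h
    rw [← h, hT, Subgroup.card_map_of_injective (Subgroup.subtype_injective _)]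
  have hTidx : T.index = 2 * (S : Subgroup G).index := by
    have h := Subgroup.relIndex_mul_index hTS
    have hrel : T.relIndex (S : Subgroup G) = 2 := by
      unfold Subgroup.relIndex
      rw [hsubT, hidx]
    rw [← h, hrel]
  have hodd : ¬ 2 ∣ (S : Subgroup G).index := S.not_dvd_index
  -- the sign of the action on the cosets of T
  have : Fintype (G ⧸ T) := Fintype.ofFinite _
  let ψ : G →* ℤˣ := Equiv.Perm.sign.comp (MulAction.toPermHom G (G ⧸ T))
  have hker : Cfsg.pResidual 2 G ≤ ψ.ker := by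
    unfold Cfsg.pResidual
    rw [Subgroup.closure_le]
    intro g hg
    rw [SetLike.mem_coe, MonoidHom.mem_ker]
    have h4 : ψ g ^ orderOf g = 1 := by rw [← map_pow, pow_orderOf_eq_one, map_one]
    have h5 : ψ g ^ 2 = 1 := Int.units_sq (ψ g)
    have h6 : orderOf (ψ g) ∣ Nat.gcd (orderOf g) 2 :=
      Nat.dvd_gcd (orderOf_dvd_of_pow_eq_one h4) (orderOf_dvd_of_pow_eq_one h5)
    have hg' : Nat.Coprime (orderOf g) 2 := hg
    rw [hg'.gcd_eq_one, Nat.dvd_one, orderOf_eq_one_iff] at h6
    exact h6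
  set σ : Equiv.Perm (G ⧸ T) := MulAction.toPermHom G (G ⧸ T) z with hσ
  have hσ2 : σ ^ 2 = 1 := by rw [hσ, ← map_pow, hz2, map_one]
  have hσapp : ∀ ω : G ⧸ T, σ ω = z • ω := fun ω => rfl
  have hsign := sign_of_sq_eq_one σ hσ2
  have hcardΩ : Fintype.card (G ⧸ T) = 2 * (S : Subgroup G).index := by
    rw [← Nat.card_eq_fintype_card]; exact hTidx
  -- the action of S on the fixed points of z
  let FS : SubMulAction (S : Subgroup G) (G ⧸ T) :=
    { carrier := Function.fixedPoints σ
      smul_mem' := by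
        intro s ω hω
        have hω' : z • ω = ω := hω
        show z • (s • ω) = s • ω
        have e1 : z • (s • ω) = (z * (s : G)) • ω := by
          rw [mul_smul]; rfl
        have e2 : s • ω = (s : G) • ω := rfl
        rw [e1, ← hzcomm s s.2, mul_smul, hω', e2] }
  have hFSmem : ∀ x : FS, z • (x : G ⧸ T) = (x : G ⧸ T) := fun x => x.2
  have h4 : 4 ∣ Nat.card FS := by
    apply dvd_card_of_dvd_orbit (S := (S : Subgroup G))
    intro x
    obtain ⟨n, hn⟩ := S.isPGroup'.card_orbit x
    rw [hn]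
    obtain ⟨k, hk⟩ := QuotientGroup.mk_surjective (x : G ⧸ T)
    -- y = k⁻¹ z k ∈ T
    have hy : k⁻¹ * z * k ∈ T := by
      rw [← smul_mk_eq_iff, hk]; exact hFSmem x
    -- the stabilizer of x in S
    have hstab : ∀ s : (S : Subgroup G), s ∈ MulAction.stabilizer (S : Subgroup G) x ↔
        k⁻¹ * (s : G) * k ∈ T := by
      intro s
      rw [MulAction.mem_stabilizer_iff, ← smul_mk_eq_iff, hk, Subtype.ext_iff]
      rfl
    have horb : Nat.card (MulAction.stabilizer (S : Subgroup G) x) * 2 ^ n =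
        Nat.card (S : Subgroup G) := by
      rw [← hn, ← Subgroup.card_mul_index (MulAction.stabilizer (S : Subgroup G) x)]
      congr 1
      exact Nat.card_congr (MulAction.orbitEquivQuotientStabilizer (S : Subgroup G) x)
    -- image of the stabilizer in T
    set St : Subgroup G := ((MulAction.stabilizer (S : Subgroup G) x).map
      (S : Subgroup G).subtype).map (MulAut.conj k⁻¹).toMonoidHom with hSt
    have hStT : St ≤ T := by
      rintro _ ⟨_, ⟨s, hs, rfl⟩, rfl⟩
      have := (hstab s).mp hs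
      simpa using this
    have hStcard : Nat.card St = Nat.card (MulAction.stabilizer (S : Subgroup G) x) := by
      rw [hSt, Subgroup.card_map_of_injective (MulAut.conj k⁻¹).injective,
        Subgroup.card_map_of_injective (Subgroup.subtype_injective _)]
    have hTpos : 0 < Nat.card T := Nat.card_pos
    have hle := Subgroup.card_le_of_le hStT
    rcases n with _ | _ | n
    · exfalso
      rw [pow_zero, mul_one] at horb
      omega
    · exfalso
      rw [pow_one] at horb
      have hStT' : St = T := Subgroup.eq_of_le_of_card_ge hStT (by omega)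
      -- every element of T is k⁻¹ s k with s ∈ S
      have hTconj : ∀ t ∈ T, ∃ s ∈ (S : Subgroup G), k⁻¹ * s * k = t := by
        intro t ht
        rw [← hStT'] at ht
        obtain ⟨_, ⟨s, -, rfl⟩, rfl⟩ := ht
        exact ⟨s, s.2, by simp⟩
      have hyT : ∀ t ∈ T, (k⁻¹ * z * k) * t = t * (k⁻¹ * z * k) := by
        intro t ht
        obtain ⟨s, hs, rfl⟩ := hTconj t ht
        calc k⁻¹ * z * k * (k⁻¹ * s * k) = k⁻¹ * (z * s) * k := by group
          _ = k⁻¹ * (s * z) * k := by rw [hzcomm s hs]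
          _ = k⁻¹ * s * k * (k⁻¹ * z * k) := by group
      have hyz : (k⁻¹ * z * k) * z = z * (k⁻¹ * z * k) := hzcomm _ (hTS hy)
      have hyC : k⁻¹ * z * k ∈ Subgroup.centralizer ((S : Subgroup G) : Set G) := by
        rw [Subgroup.mem_centralizer_iff]
        intro s hs
        rcases hST s hs with hsT | hsT
        · exact (hyT s hsT).symm
        · have h5 := hyT _ hsT
          have h6 : z * (k⁻¹ * z * k * s) = z * (s * (k⁻¹ * z * k)) := by
            calc z * (k⁻¹ * z * k * s) = (z * (k⁻¹ * z * k)) * s := by group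
              _ = ((k⁻¹ * z * k) * z) * s := by rw [hyz]
              _ = (k⁻¹ * z * k) * (z * s) := by group
              _ = (z * s) * (k⁻¹ * z * k) := h5
              _ = z * (s * (k⁻¹ * z * k)) := by group
          exact (mul_left_cancel h6).symm
      obtain ⟨m, hm, hmz⟩ := Sylow.conj_eq_normalizer_conj_of_mem_centralizer S z k hzC hyC
      have h7 := h3 m⁻¹ (Subgroup.inv_mem _ hm) z hzΩ
      rw [inv_inv] at h7
      rw [hmz, h7] at hy
      exact hzT hy
    · exact ⟨2 ^ n, by ring⟩
  have hcardF : Fintype.card (Function.fixedPoints σ) = Nat.card FS := by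
    rw [← Nat.card_eq_fintype_card]; rfl
  have hexp : Odd ((Fintype.card (G ⧸ T) - Fintype.card (Function.fixedPoints σ)) / 2) := by
    obtain ⟨c, hc⟩ := h4
    have hle : Fintype.card (Function.fixedPoints σ) ≤ Fintype.card (G ⧸ T) :=
      Fintype.card_subtype_le _
    rw [hcardF, hc] at hle ⊢
    rw [hcardΩ] at hle ⊢
    have hm : Odd (S : Subgroup G).index := Nat.odd_iff.mpr (by omega)
    obtain ⟨j, hj⟩ := hm
    rw [hj] at hle ⊢
    refine ⟨j - c, ?_⟩
    omega
  have hψz : ψ z = -1 := by
    show Equiv.Perm.sign σ = -1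
    rw [hsign, hexp.neg_one_pow]
  have hzker : z ∈ ψ.ker := hker (h1 ▸ Subgroup.mem_top z)
  rw [MonoidHom.mem_ker, hψz] at hzker
  exact absurd hzker (by decide)

end Cfsg.Agent.S2872
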