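import Cfsg.Statements.S2873
import Mathlib

set_option autoImplicit false
open Cfsg

namespace Cfsg.Agent.S2873

theorem two_ne_zero_zmod {r : ℕ} [Fact r.Prime] (hr : r ≠ 2) : (2 : ZMod r) ≠ 0 := by
  intro h
  have h2 : ((2 : ℕ) : ZMod r) = 0 := by exact_mod_cast h
  rw [ZMod.natCast_eq_zero_iff] at h2
  exact hr ((Nat.prime_dvd_prime_iff_eq Fact.out Nat.prime_two).mp h2)

/-- an element of `D_r` squaring to one but not one is a reflection -/
theorem eq_sr_of_sq {r : ℕ} [Fact r.Prime] (hr : r ≠ 2) (d : DihedralGroup r) (h1 : d ≠ 1)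
    (h2 : d * d = 1) : ∃ i, d = DihedralGroup.sr i := by
  cases d with
  | r i =>
    exfalso
    rw [DihedralGroup.r_mul_r, DihedralGroup.one_def] at h2
    have h3 : i + i = 0 := by injection h2
    have h4 : (2 : ZMod r) * i = 0 := by rw [two_mul]; exact h3
    rcases mul_eq_zero.mp h4 with h | h
    · exact two_ne_zero_zmod hr h
    · apply h1; rw [h, DihedralGroup.r_zero]
  | sr i => exact ⟨i, rfl⟩

/-- the rotation subgroup of a dihedral group -/
def rot (r : ℕ) : Subgroup (DihedralGroup r) where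
  carrier := {d | ∃ i, d = DihedralGroup.r i}
  mul_mem' := by
    rintro _ _ ⟨i, rfl⟩ ⟨j, rfl⟩
    exact ⟨i + j, DihedralGroup.r_mul_r i j⟩
  one_mem' := ⟨0, DihedralGroup.one_def⟩
  inv_mem' := by
    rintro _ ⟨i, rfl⟩
    exact ⟨-i, DihedralGroup.inv_r i⟩

theorem mem_rot {r : ℕ} (d : DihedralGroup r) : d ∈ rot r ↔ ∃ i, d = DihedralGroup.r i := Iff.rfl

instance rot_normal (r : ℕ) : (rot r).Normal := ⟨by
  rintro _ ⟨i, rfl⟩ g
  cases g with
  | r j =>
    exact ⟨i, by rw [DihedralGroup.r_mul_r, DihedralGroup.inv_r, DihedralGroup.r_mul_r]; congr 1; ring⟩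
  | sr j =>
    exact ⟨-i, by rw [DihedralGroup.sr_mul_r, DihedralGroup.inv_sr, DihedralGroup.sr_mul_sr]; congr 1; ring⟩⟩

theorem core {G : Type*} [Group G] [Finite G] {r : ℕ} [Fact r.Prime] (hr : r ≠ 2)
    (V : Subgroup G) [V.Normal] (hV : IsPGroup 2 V)
    (φ : G →* DihedralGroup r) (hφs : Function.Surjective φ) (hφk : φ.ker = V)
    (R : Sylow r G) (hC : V ⊓ Subgroup.centralizer ((R : Subgroup G) : Set G) = ⊥) :
    Nonempty (↥(Subgroup.normalizer ((R : Subgroup G) : Set G)) ≃* DihedralGroup r) ∧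
    ∀ a : G, a ∈ Subgroup.normalizer ((R : Subgroup G) : Set G) → orderOf a = 2 →
      (∀ b : G, orderOf b = 2 → b ∉ V → ∃ g : G, g * a * g⁻¹ = b) ∧
      Nat.card ↥(V ⊓ Subgroup.centralizer ({a} : Set G)) ^ 2 = Nat.card ↥V := by
  classical
  set N := Subgroup.normalizer ((R : Subgroup G) : Set G) with hNdef
  have hr_prime : r.Prime := Fact.out
  have : NeZero r := ⟨hr_prime.ne_zero⟩
  have h2ne : (2 : ZMod r) ≠ 0 := two_ne_zero_zmod hr
  have hVn : V.Normal := inferInstance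
  have hφV : ∀ x, φ x = 1 ↔ x ∈ V := by
    intro x; rw [← hφk, MonoidHom.mem_ker]
  -- cardinalities
  obtain ⟨k, hk⟩ := IsPGroup.iff_card.mp hV
  have hcardG : Nat.card G = 2 ^ k * (2 * r) := by
    have h1 := Subgroup.card_eq_card_quotient_mul_card_subgroup φ.ker
    have h2 : Nat.card (G ⧸ φ.ker) = 2 * r := by
      rw [Nat.card_congr (QuotientGroup.quotientKerEquivOfSurjective φ hφs).toEquiv,
        DihedralGroup.nat_card]
    rw [h1, h2, hφk, hk]; ring
  have hfac : (2 ^ k * (2 * r)).factorization r = 1 := by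
    have h2r : (2 : ℕ).factorization r = 0 := by
      apply Nat.factorization_eq_zero_of_not_dvd
      intro h
      exact hr ((Nat.prime_dvd_prime_iff_eq hr_prime Nat.prime_two).mp h)
    rw [Nat.factorization_mul (pow_ne_zero _ two_ne_zero)
      (mul_ne_zero two_ne_zero hr_prime.ne_zero), Nat.factorization_pow,
      Nat.factorization_mul (by norm_num) hr_prime.ne_zero]
    simp [h2r, hr_prime.factorization_self]
  have hcardR : Nat.card (R : Subgroup G) = r := by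
    rw [Sylow.card_eq_multiplicity R, hcardG, hfac, pow_one]
  have hRV : ∀ x ∈ (R : Subgroup G), x ∈ V → x = 1 := by
    intro x hxR hxV
    have hd := IsPGroup.disjoint_of_ne r 2 hr _ _ R.isPGroup' hV
    have : x ∈ (R : Subgroup G) ⊓ V := ⟨hxR, hxV⟩
    rw [disjoint_iff.mp hd] at this
    exact Subgroup.mem_bot.mp this
  have hNV : ∀ x ∈ N, x ∈ V → x = 1 := by
    intro x hxN hxV
    have hx : x ∈ V ⊓ Subgroup.centralizer ((R : Subgroup G) : Set G) := by
      refine Subgroup.mem_inf.mpr ⟨hxV, ?_⟩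
      rw [Subgroup.mem_centralizer_iff]
      intro y hy
      have h1 : x * y * x⁻¹ ∈ (R : Subgroup G) := (Subgroup.mem_normalizer_iff.mp hxN y).mp hy
      have h2 : x * y * x⁻¹ * y⁻¹ ∈ (R : Subgroup G) := mul_mem h1 (inv_mem hy)
      have h3 : x * y * x⁻¹ * y⁻¹ ∈ V := by
        have : x * y * x⁻¹ * y⁻¹ = x * (y * x⁻¹ * y⁻¹) := by group
        rw [this]
        exact mul_mem hxV (hVn.conj_mem _ (inv_mem hxV) y)
      have h4 := hRV _ h2 h3
      have h5 : x * y * x⁻¹ * y⁻¹ * (y * x) = y * x := by rw [h4, one_mul]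
      rw [← h5]; group
    rw [hC] at hx
    exact Subgroup.mem_bot.mp hx
  have hRrot : ∀ x ∈ (R : Subgroup G), ∃ i, φ x = DihedralGroup.r i := by
    intro x hx
    have hxr : x ^ r = 1 := by
      have := pow_card_eq_one' (G := (R : Subgroup G)) (x := ⟨x, hx⟩)
      rw [hcardR] at this
      simpa using congrArg Subtype.val this
    cases hd : φ x with
    | r i => exact ⟨i, rfl⟩
    | sr i =>
      exfalso
      have h1 : (DihedralGroup.sr i : DihedralGroup r) ^ r = 1 := by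
        rw [← hd, ← map_pow, hxr, map_one]
      have h2 := orderOf_dvd_of_pow_eq_one h1
      rw [DihedralGroup.orderOf_sr] at h2
      exact hr ((Nat.prime_dvd_prime_iff_eq Nat.prime_two hr_prime).mp h2).symm
  obtain ⟨ρ₀, hρ₀R, hρ₀1⟩ : ∃ x ∈ (R : Subgroup G), x ≠ 1 := by
    by_contra hcon
    push Not at hcon
    have : (R : Subgroup G) = ⊥ := (Subgroup.eq_bot_iff_forall _).mpr hcon
    rw [this] at hcardR
    simp at hcardR
    exact hr_prime.one_lt.ne' hcardR.symm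
  obtain ⟨k₀, hk₀⟩ := hRrot ρ₀ hρ₀R
  have hk₀0 : k₀ ≠ 0 := by
    intro h
    rw [h, DihedralGroup.r_zero] at hk₀
    exact hρ₀1 (hRV ρ₀ hρ₀R ((hφV ρ₀).mp hk₀))
  have hrotR : ∀ i : ZMod r, ∃ x ∈ (R : Subgroup G), φ x = DihedralGroup.r i := by
    intro i
    refine ⟨ρ₀ ^ (k₀⁻¹ * i).val, pow_mem hρ₀R _, ?_⟩
    rw [map_pow, hk₀, DihedralGroup.r_pow, ZMod.natCast_zmod_val, ← mul_assoc,
      mul_inv_cancel₀ hk₀0, one_mul]
  have hRgen : ∀ y ∈ (R : Subgroup G), y ≠ 1 → ∀ h ∈ (R : Subgroup G), ∃ m : ℤ, y ^ m = h := by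
    intro y hy hy1 h hh
    have := mem_zpowers_of_prime_card (G := (R : Subgroup G)) (p := r) hcardR
      (g := ⟨y, hy⟩) (g' := ⟨h, hh⟩) (by intro h; exact hy1 (congrArg Subtype.val h))
    obtain ⟨m, hm⟩ := Subgroup.mem_zpowers_iff.mp this
    exact ⟨m, by simpa using congrArg Subtype.val hm⟩
  have hinvN : ∀ c y : G, y ∈ (R : Subgroup G) → y ≠ 1 → c * y * c⁻¹ ∈ (R : Subgroup G) →
      c ∈ N := by
    intro c y hy hy1 hcy
    rw [hNdef, Subgroup.mem_normalizer_iff]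
    intro h
    constructor
    · intro hh
      obtain ⟨m, rfl⟩ := hRgen y hy hy1 h hh
      rw [← conj_zpow]
      exact zpow_mem hcy m
    · intro hh
      have hcy1 : c * y * c⁻¹ ≠ 1 := by
        intro h1
        apply hy1
        have : y = c⁻¹ * (c * y * c⁻¹) * c := by group
        rw [this, h1]; group
      obtain ⟨m, hm⟩ := hRgen _ hcy hcy1 _ hh
      rw [conj_zpow] at hm
      have : h = y ^ m := by
        have e : h = c⁻¹ * (c * h * c⁻¹) * c := by group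
        rw [e, ← hm]; group
      rw [this]
      exact zpow_mem hy m
  -- Frattini
  set M := (rot r).comap φ with hMdef
  have hRM : (R : Subgroup G) ≤ M := by
    intro x hx
    rw [hMdef, Subgroup.mem_comap]
    exact hRrot x hx
  have hNM : N ⊔ M = ⊤ := Sylow.normalizer_sup_eq_top' R hRM
  have hG : ∀ g : G, ∃ n ∈ N, ∃ v ∈ V, g = n * v := by
    intro g
    have hg : g ∈ N ⊔ M := by rw [hNM]; trivial
    obtain ⟨n, hn, m, hm, rfl⟩ := Subgroup.mem_sup_of_normal_right.mp hg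
    obtain ⟨i, hi⟩ : ∃ i, φ m = DihedralGroup.r i := hm
    obtain ⟨x, hx, hxi⟩ := hrotR i
    refine ⟨n * x, mul_mem hn (Subgroup.le_normalizer hx), x⁻¹ * m, ?_, by group⟩
    rw [← hφV, map_mul, map_inv, hxi, hi, inv_mul_cancel]
  have hG' : ∀ g : G, ∃ u ∈ V, ∃ n ∈ N, g = u * n := by
    intro g
    obtain ⟨n, hn, v, hv, rfl⟩ := hG g
    exact ⟨n * v * n⁻¹, hVn.conj_mem _ hv n, n, hn, by group⟩
  -- the isomorphism
  have hiso : Nonempty (↥N ≃* DihedralGroup r) := by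
    refine ⟨MulEquiv.ofBijective (φ.comp N.subtype) ⟨?_, ?_⟩⟩
    · rw [injective_iff_map_eq_one]
      intro n hn
      have h1 : φ (n : G) = 1 := hn
      exact Subtype.ext (hNV _ n.2 ((hφV _).mp h1))
    · intro d
      obtain ⟨g, rfl⟩ := hφs d
      obtain ⟨n, hn, v, hv, rfl⟩ := hG g
      refine ⟨⟨n, hn⟩, ?_⟩
      change φ n = φ (n * v)
      rw [map_mul, (hφV v).mpr hv, mul_one]
  refine ⟨hiso, ?_⟩
  -- involutions map to reflections
  have hinvol : ∀ a : G, a * a = 1 → a ∉ V → ∃ i, φ a = DihedralGroup.sr i := by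
    intro a haa haV
    apply eq_sr_of_sq hr
    · intro h; exact haV ((hφV a).mp h)
    · rw [← map_mul, haa, map_one]
  -- Lemma M
  have hLM : ∀ v ∈ V, ∀ x ∈ N, v * x * v⁻¹ ∈ N → v * x = x * v := by
    intro v hv x hx hvx
    have h1 : v * x * v⁻¹ * x⁻¹ ∈ N := mul_mem hvx (inv_mem hx)
    have h2 : v * x * v⁻¹ * x⁻¹ ∈ V := by
      have : v * x * v⁻¹ * x⁻¹ = v * (x * v⁻¹ * x⁻¹) := by group
      rw [this]
      exact mul_mem hv (hVn.conj_mem _ (inv_mem hv) x)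
    have h3 := hNV _ h1 h2
    have h4 : v * x * v⁻¹ * x⁻¹ * (x * v) = x * v := by rw [h3, one_mul]
    rw [← h4]; group
  -- Lemma S
  have hLS : ∀ a1 a2 : G, a1 * a1 = 1 → a2 * a2 = 1 → ∀ i j : ZMod r,
      φ a1 = DihedralGroup.sr i → φ a2 = DihedralGroup.sr j → i ≠ j →
      ∃ u ∈ V, u⁻¹ * a1 * u ∈ N ∧ u⁻¹ * a2 * u ∈ N := by
    intro a1 a2 h1 h2 i j hi hj hij
    have e1 : a1⁻¹ = a1 := inv_eq_of_mul_eq_one_left h1
    have e2 : a2⁻¹ = a2 := inv_eq_of_mul_eq_one_left h2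
    have hφx : φ (a1 * a2) = DihedralGroup.r (j - i) := by
      rw [map_mul, hi, hj, DihedralGroup.sr_mul_sr]
    have hφw : φ ((a1 * a2) ^ (2 ^ k)) = DihedralGroup.r ((j - i) * ((2 ^ k : ℕ) : ZMod r)) := by
      rw [map_pow, hφx, DihedralGroup.r_pow]
    have hw1 : (a1 * a2) ^ (2 ^ k) ≠ 1 := by
      intro h
      rw [h, map_one, DihedralGroup.one_def] at hφw
      have h3 : (0 : ZMod r) = (j - i) * ((2 ^ k : ℕ) : ZMod r) := by injection hφw
      have h4 : ((2 ^ k : ℕ) : ZMod r) ≠ 0 := by push_cast; exact pow_ne_zero _ h2ne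
      rcases mul_eq_zero.mp h3.symm with h | h
      · exact hij (sub_eq_zero.mp h).symm
      · exact h4 h
    have hwr : ((a1 * a2) ^ (2 ^ k)) ^ r = 1 := by
      have hxr : (a1 * a2) ^ r ∈ V := by
        rw [← hφV, map_pow, hφx, DihedralGroup.r_pow, ZMod.natCast_self, mul_zero,
          DihedralGroup.r_zero]
      have := pow_card_eq_one' (G := V) (x := ⟨(a1 * a2) ^ r, hxr⟩)
      rw [hk] at this
      have h5 : ((a1 * a2) ^ r) ^ (2 ^ k) = 1 := by simpa using congrArg Subtype.val this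
      rw [← pow_mul, mul_comm, pow_mul]; exact h5
    have hinv1 : a1 * (a1 * a2) ^ (2 ^ k) * a1⁻¹ = ((a1 * a2) ^ (2 ^ k))⁻¹ := by
      have : a1 * (a1 * a2) * a1⁻¹ = (a1 * a2)⁻¹ := by
        rw [mul_inv_rev, e1, e2, ← mul_assoc, h1, one_mul]
      rw [← conj_pow, this, inv_pow]
    have hinv2 : a2 * (a1 * a2) ^ (2 ^ k) * a2⁻¹ = ((a1 * a2) ^ (2 ^ k))⁻¹ := by
      have : a2 * (a1 * a2) * a2⁻¹ = (a1 * a2)⁻¹ := by
        rw [mul_inv_rev, e1, e2, mul_assoc, mul_assoc, h2, mul_one]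
      rw [← conj_pow, this, inv_pow]
    generalize (a1 * a2) ^ (2 ^ k) = w at hw1 hwr hinv1 hinv2
    have hwp : IsPGroup r (Subgroup.zpowers w) := by
      apply IsPGroup.of_card (n := 1)
      rw [Nat.card_zpowers, pow_one]
      exact orderOf_eq_prime hwr hw1
    obtain ⟨Q, hQ⟩ := hwp.exists_le_sylow
    obtain ⟨g, rfl⟩ := MulAction.exists_smul_eq G R Q
    have hwQ : w ∈ ((g • R : Sylow r G) : Subgroup G) := hQ (Subgroup.mem_zpowers w)
    rw [Sylow.coe_subgroup_smul, Subgroup.mem_smul_pointwise_iff_exists] at hwQ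
    obtain ⟨y, hyR, hyw⟩ := hwQ
    have hyw' : g * y * g⁻¹ = w := by simpa [MulAut.smul_def] using hyw
    obtain ⟨u, hu, n, hn, rfl⟩ := hG' g
    have hy'R : n * y * n⁻¹ ∈ (R : Subgroup G) := (Subgroup.mem_normalizer_iff.mp hn y).mp hyR
    have huw : u * (n * y * n⁻¹) * u⁻¹ = w := by rw [← hyw']; group
    generalize n * y * n⁻¹ = y' at hy'R huw
    have hy'1 : y' ≠ 1 := by
      intro h
      apply hw1
      rw [← huw, h]; group
    have key : ∀ c : G, c * w * c⁻¹ = w⁻¹ → u⁻¹ * c * u ∈ N := by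
      intro c hc
      apply hinvN (u⁻¹ * c * u) y' hy'R hy'1
      have e : u⁻¹ * c * u * y' * (u⁻¹ * c * u)⁻¹ = u⁻¹ * (c * (u * y' * u⁻¹) * c⁻¹) * u := by
        group
      have e' : u⁻¹ * w⁻¹ * u = y'⁻¹ := by rw [← huw]; group
      rw [e, huw, hc, e']
      exact inv_mem hy'R
    exact ⟨u, hu, key a1 hinv1, key a2 hinv2⟩
  intro a haN hao
  have haa : a * a = 1 := by
    have := pow_orderOf_eq_one a
    rw [hao, sq] at this; exact this
  have ha1 : a ≠ 1 := by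
    intro h; rw [h, orderOf_one] at hao; norm_num at hao
  have haV : a ∉ V := fun h => ha1 (hNV a haN h)
  obtain ⟨i, hi⟩ := hinvol a haa haV
  have hainv : a⁻¹ = a := inv_eq_of_mul_eq_one_left haa
  have hρ₀N : ρ₀ ∈ N := Subgroup.le_normalizer hρ₀R
  obtain ⟨a', ha'⟩ : ∃ a' : G, a' = ρ₀ * a * ρ₀⁻¹ := ⟨_, rfl⟩
  have ha'N : a' ∈ N := by rw [ha']; exact mul_mem (mul_mem hρ₀N haN) (inv_mem hρ₀N)
  have ha'a' : a' * a' = 1 := by
    rw [ha']
    have : ρ₀ * a * ρ₀⁻¹ * (ρ₀ * a * ρ₀⁻¹) = ρ₀ * (a * a) * ρ₀⁻¹ := by group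
    rw [this, haa]; group
  have hi' : φ a' = DihedralGroup.sr (i - k₀ - k₀) := by
    rw [ha', map_mul, map_mul, map_inv, hk₀, hi, DihedralGroup.inv_r, DihedralGroup.r_mul_sr,
      DihedralGroup.sr_mul_r]
    congr 1
    ring
  have hii' : i ≠ i - k₀ - k₀ := by
    intro h
    have : (2 : ZMod r) * k₀ = 0 := by linear_combination h
    rcases mul_eq_zero.mp this with h | h
    · exact h2ne h
    · exact hk₀0 h
  -- conjugacy of reflections of N
  have hconjN : ∀ x ∈ N, ∀ y ∈ N, ∀ i j : ZMod r, φ x = DihedralGroup.sr i →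
      φ y = DihedralGroup.sr j → ∃ n : G, n * x * n⁻¹ = y := by
    intro x hx y hy i j hxi hyj
    obtain ⟨ρ, hρR, hρ⟩ := hrotR ((i - j) * (2 : ZMod r)⁻¹)
    have hρN : ρ ∈ N := Subgroup.le_normalizer hρR
    refine ⟨ρ, ?_⟩
    have hk2 : (i - j) * (2 : ZMod r)⁻¹ + (i - j) * (2 : ZMod r)⁻¹ = i - j := by
      rw [← mul_add, ← two_mul, mul_inv_cancel₀ h2ne, mul_one]
    have h1 : φ (ρ * x * ρ⁻¹) = φ y := by
      rw [map_mul, map_mul, map_inv, hρ, hxi, hyj, DihedralGroup.inv_r, DihedralGroup.r_mul_sr,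
        DihedralGroup.sr_mul_r]
      congr 1
      linear_combination (-1 : ZMod r) * hk2
    have h2 : ρ * x * ρ⁻¹ * y⁻¹ ∈ N :=
      mul_mem (mul_mem (mul_mem hρN hx) (inv_mem hρN)) (inv_mem hy)
    have h3 : ρ * x * ρ⁻¹ * y⁻¹ ∈ V := by
      rw [← hφV, map_mul, h1, map_inv, mul_inv_cancel]
    exact mul_inv_eq_one.mp (hNV _ h2 h3)
  constructor
  · intro b hbo hbV
    have hbb : b * b = 1 := by
      have := pow_orderOf_eq_one b
      rw [hbo, sq] at this; exact this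
    obtain ⟨j, hj⟩ := hinvol b hbb hbV
    obtain ⟨c, hcc, i', hci', hi'j⟩ : ∃ c : G, c * c = 1 ∧
        ∃ i' : ZMod r, φ c = DihedralGroup.sr i' ∧ i' ≠ j := by
      by_cases hij : i = j
      · exact ⟨a', ha'a', _, hi', by rw [← hij]; exact hii'.symm⟩
      · exact ⟨a, haa, i, hi, hij⟩
    obtain ⟨u, hu, -, hbu⟩ := hLS c b hcc hbb i' j hci' hj hi'j
    have hφbu : φ (u⁻¹ * b * u) = DihedralGroup.sr j := by
      rw [map_mul, map_mul, map_inv, (hφV u).mpr hu, hj]; simp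
    obtain ⟨n, hn⟩ := hconjN a haN (u⁻¹ * b * u) hbu i j hi hφbu
    refine ⟨u * n, ?_⟩
    have : u * n * a * (u * n)⁻¹ = u * (n * a * n⁻¹) * u⁻¹ := by group
    rw [this, hn]; group
  · set A := V ⊓ Subgroup.centralizer ({a} : Set G) with hA
    have hmemA : ∀ x, x ∈ A ↔ x ∈ V ∧ a * x = x * a := by
      intro x
      rw [hA, Subgroup.mem_inf, Subgroup.mem_centralizer_singleton_iff, eq_comm]
    have hconj_comm : ∀ t : G, a * t = t * a → a' * (ρ₀ * t * ρ₀⁻¹) = (ρ₀ * t * ρ₀⁻¹) * a' := by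
      intro t ht
      have e1 : a' * (ρ₀ * t * ρ₀⁻¹) = ρ₀ * (a * t) * ρ₀⁻¹ := by rw [ha']; group
      have e2 : (ρ₀ * t * ρ₀⁻¹) * a' = ρ₀ * (t * a) * ρ₀⁻¹ := by rw [ha']; group
      rw [e1, e2, ht]
    have hconj_comm' : ∀ s : G, a' * s = s * a' →
        a * (ρ₀⁻¹ * s * ρ₀) = (ρ₀⁻¹ * s * ρ₀) * a := by
      intro s hs
      have e1 : a * (ρ₀⁻¹ * s * ρ₀) = ρ₀⁻¹ * (a' * s) * ρ₀ := by rw [ha']; group
      have e2 : (ρ₀⁻¹ * s * ρ₀) * a = ρ₀⁻¹ * (s * a') * ρ₀ := by rw [ha']; group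
      rw [e1, e2, hs]
    -- trivial intersection
    have hint : ∀ x ∈ V, a * x = x * a → a' * x = x * a' → x = 1 := by
      intro x hxV hxa hxa'
      have hyR : a * a' ∈ (R : Subgroup G) := by
        have : a * a' = (a * ρ₀ * a⁻¹) * ρ₀⁻¹ := by rw [ha', hainv]; group
        rw [this]
        exact mul_mem ((Subgroup.mem_normalizer_iff.mp haN ρ₀).mp hρ₀R) (inv_mem hρ₀R)
      have hy1 : a * a' ≠ 1 := by
        intro h
        have h5 : a' = a := by
          have h6 : a⁻¹ = a' := inv_eq_of_mul_eq_one_right h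
          rw [← h6, hainv]
        rw [h5, hi] at hi'
        have : i = i - k₀ - k₀ := by injection hi'
        exact hii' this
      have hxy : Commute (a * a') x := Commute.mul_left hxa hxa'
      have hx : x ∈ V ⊓ Subgroup.centralizer ((R : Subgroup G) : Set G) := by
        refine Subgroup.mem_inf.mpr ⟨hxV, ?_⟩
        rw [Subgroup.mem_centralizer_iff]
        intro h hh
        obtain ⟨m, rfl⟩ := hRgen _ hyR hy1 h hh
        exact (Commute.zpow_left hxy m).eq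
      rw [hC] at hx
      exact Subgroup.mem_bot.mp hx
    -- product decomposition
    have hprod : ∀ v ∈ V, ∃ c ∈ V, a * c = c * a ∧ a' * (c⁻¹ * v) = (c⁻¹ * v) * a' := by
      intro v hv
      have hbb : (v * a' * v⁻¹) * (v * a' * v⁻¹) = 1 := by
        have : (v * a' * v⁻¹) * (v * a' * v⁻¹) = v * (a' * a') * v⁻¹ := by group
        rw [this, ha'a']; group
      have hφb : φ (v * a' * v⁻¹) = DihedralGroup.sr (i - k₀ - k₀) := by
        rw [map_mul, map_mul, map_inv, (hφV v).mpr hv, hi']; simp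
      obtain ⟨u, hu, hau, hbu⟩ := hLS a (v * a' * v⁻¹) haa hbb i _ hi hφb hii'
      refine ⟨u, hu, ?_, ?_⟩
      · have h1 := hLM u⁻¹ (inv_mem hu) a haN (by simpa using hau)
        have : a * u = u * (u⁻¹ * a) * u := by group
        rw [this, h1]; group
      · have h2 : (u⁻¹ * v) * a' * (u⁻¹ * v)⁻¹ ∈ N := by
          have : (u⁻¹ * v) * a' * (u⁻¹ * v)⁻¹ = u⁻¹ * (v * a' * v⁻¹) * u := by group
          rw [this]; exact hbu
        exact (hLM (u⁻¹ * v) (mul_mem (inv_mem hu) hv) a' ha'N h2).symm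
    -- the bijection
    let f : A × A → V := fun p => ⟨(p.1 : G) * (ρ₀ * (p.2 : G) * ρ₀⁻¹),
      mul_mem ((hmemA _).mp p.1.2).1 (hVn.conj_mem _ ((hmemA _).mp p.2.2).1 ρ₀)⟩
    have hf : Function.Bijective f := by
      constructor
      · rintro ⟨⟨x1, hx1⟩, ⟨y1, hy1⟩⟩ ⟨⟨x2, hx2⟩, ⟨y2, hy2⟩⟩ h
        have h' : x1 * (ρ₀ * y1 * ρ₀⁻¹) = x2 * (ρ₀ * y2 * ρ₀⁻¹) := congrArg Subtype.val h
        obtain ⟨hx1V, hx1a⟩ := (hmemA _).mp hx1
        obtain ⟨hx2V, hx2a⟩ := (hmemA _).mp hx2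
        obtain ⟨hy1V, hy1a⟩ := (hmemA _).mp hy1
        obtain ⟨hy2V, hy2a⟩ := (hmemA _).mp hy2
        have hz : x2⁻¹ * x1 = ρ₀ * (y2 * y1⁻¹) * ρ₀⁻¹ := by
          have : x2⁻¹ * x1 = x2⁻¹ * (x1 * (ρ₀ * y1 * ρ₀⁻¹)) * (ρ₀ * y1⁻¹ * ρ₀⁻¹) := by group
          rw [this, h']; group
        have hc1 : Commute a (x2⁻¹ * x1) :=
          Commute.mul_right (Commute.inv_right hx2a) hx1a
        have hc2 : Commute a (y2 * y1⁻¹) :=
          Commute.mul_right hy2a (Commute.inv_right hy1a)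
        have hz1 : x2⁻¹ * x1 = 1 := by
          apply hint _ (mul_mem (inv_mem hx2V) hx1V) hc1.eq
          rw [hz]
          exact hconj_comm _ hc2.eq
        have hxx : x1 = x2 := by
          have : x1 = x2 * (x2⁻¹ * x1) := by group
          rw [this, hz1, mul_one]
        have hyy : y1 = y2 := by
          rw [hz1] at hz
          have : y2 * y1⁻¹ = ρ₀⁻¹ * (ρ₀ * (y2 * y1⁻¹) * ρ₀⁻¹) * ρ₀ := by group
          rw [← hz] at this
          have h7 : y2 * y1⁻¹ = 1 := by rw [this]; group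
          exact (mul_inv_eq_one.mp h7).symm
        subst hxx; subst hyy; rfl
      · rintro ⟨v, hv⟩
        obtain ⟨c, hcV, hca, hcv⟩ := hprod v hv
        have hyV : ρ₀⁻¹ * (c⁻¹ * v) * ρ₀ ∈ V := by
          have := hVn.conj_mem _ (mul_mem (inv_mem hcV) hv) ρ₀⁻¹
          simpa using this
        refine ⟨⟨⟨c, (hmemA c).mpr ⟨hcV, hca⟩⟩,
          ⟨ρ₀⁻¹ * (c⁻¹ * v) * ρ₀, (hmemA _).mpr ⟨hyV, hconj_comm' _ hcv⟩⟩⟩, ?_⟩
        apply Subtype.ext
        change c * (ρ₀ * (ρ₀⁻¹ * (c⁻¹ * v) * ρ₀) * ρ₀⁻¹) = v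
        group
    have hcard : Nat.card (A × A) = Nat.card V := Nat.card_congr (Equiv.ofBijective f hf)
    rw [Nat.card_prod] at hcard
    rw [sq]; exact hcard

theorem pCore_two_isPGroup (G : Type*) [Group G] : IsPGroup 2 (Cfsg.pCore 2 G) := by
  obtain ⟨P⟩ := (inferInstance : Nonempty (Sylow 2 G))
  apply P.isPGroup'.to_le
  apply sSup_le
  rintro N ⟨hN, hp⟩
  have h1 : IsPGroup 2 ((P : Subgroup G) ⊔ N : Subgroup G) :=
    P.isPGroup'.to_sup_of_normal_right hp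
  have h2 := P.is_maximal' h1 le_sup_left
  calc N ≤ (P : Subgroup G) ⊔ N := le_sup_right
    _ = P := h2

/-- Let G be a finite group and r an odd prime such that G ⧸ O₂(G) is dihedral of order 2r, and let R be a Sylow r-subgroup of G with C_{O₂(G)}(R) = 1. Then N_G(R) is dihedral of order 2r; for any involution a of N_G(R), every involution of G outside O₂(G) is conjugate to a; and |C_{O₂(G)}(a)|² = |O₂(G)|. -/
theorem result {G : Type*} [Group G] [Finite G] {r : ℕ} [Fact r.Prime] (hr : r ≠ 2) [hN : (Cfsg.pCore 2 G).Normal] (hquot : Nonempty (G ⧸ Cfsg.pCore 2 G ≃* DihedralGroup r)) (R : Sylow r G) (hC : Cfsg.pCore 2 G ⊓ Subgroup.centralizer ((R : Subgroup G) : Set G) = ⊥) : Nonempty (↥(Subgroup.normalizer ((R : Subgroup G) : Set G)) ≃* DihedralGroup r) ∧ ∀ a : G, a ∈ Subgroup.normalizer ((R : Subgroup G) : Set G) → orderOf a = 2 → (∀ b : G, orderOf b = 2 → b ∉ Cfsg.pCore 2 G → ∃ g : G, g * a * g⁻¹ = b) ∧ Nat.card ↥(Cfsg.pCore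 2 G ⊓ Subgroup.centralizer ({a} : Set G)) ^ 2 = Nat.card ↥(Cfsg.pCore 2 G) := by
  obtain ⟨ψ⟩ := hquot
  have hφs : Function.Surjective (ψ.toMonoidHom.comp (QuotientGroup.mk' (Cfsg.pCore 2 G))) :=
    ψ.surjective.comp (QuotientGroup.mk'_surjective _)
  have hφk : (ψ.toMonoidHom.comp (QuotientGroup.mk' (Cfsg.pCore 2 G))).ker = Cfsg.pCore 2 G := by
    ext x
    rw [MonoidHom.mem_ker, MonoidHom.comp_apply]
    simp
  exact core hr (Cfsg.pCore 2 G) (pCore_two_isPGroup G) _ hφs hφk R hC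

end Cfsg.Agent.S2873
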