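-- Statement S2879: solvable, O(G) = 1, dihedral/semidihedral Sylow 2, Z(T) normal => normal SL(2,3).
import Mathlib
import Cfsg.Statements.S2879
import Cfsg.Agent.S0017
import Cfsg.Agent.Lib.Helper84.PCoreBasic
import Cfsg.Agent.Lib.Helper95.SL23b
import Cfsg.Agent.Lib.Helper95.OddAutQ8

set_option autoImplicit false
open Cfsg

namespace Cfsg.Agent.S2879

open Cfsg.Agent.Lib.Helper95 Cfsg.Agent.Lib.Helper95.OddAut Cfsg.Agent.Lib.Helper95.OddAutQ8

/-- a dihedral (order ≥ 8) or quasi-dihedral group has a cyclic subgroup of index 2 and order at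
least 8. -/
lemma exists_cyclic_half {G : Type*} [Group G] [Finite G] (T : Subgroup G)
    (hT : (∃ n : ℕ, 4 ≤ n ∧ Nonempty (↥T ≃* DihedralGroup n)) ∨ Cfsg.IsQuasiDihedral ↥T) :
    ∃ C : Subgroup G, C ≤ T ∧ IsCyclic C ∧ Nat.card T = 2 * Nat.card C ∧ 8 ≤ Nat.card T := by
  rcases hT with ⟨n, hn, ⟨e⟩⟩ | ⟨n, hn, hcard, x, y, hx, hy, hxy⟩
  · refine ⟨(Subgroup.zpowers (e.symm (DihedralGroup.r 1))).map T.subtype, ?_, ?_, ?_, ?_⟩
    · exact Subgroup.map_subtype_le _
    · have : IsCyclic (Subgroup.zpowers (e.symm (DihedralGroup.r 1))) := inferInstance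
      exact isCyclic_of_surjective
        ((Subgroup.zpowers (e.symm (DihedralGroup.r 1))).equivMapOfInjective T.subtype
          T.subtype_injective) (MulEquiv.surjective _)
    · rw [Subgroup.card_subtype, Nat.card_zpowers, MulEquiv.orderOf_eq, DihedralGroup.orderOf_r_one,
        Nat.card_congr e.toEquiv, DihedralGroup.nat_card]
    · rw [Nat.card_congr e.toEquiv, DihedralGroup.nat_card]
      omega
  · refine ⟨(Subgroup.zpowers x).map T.subtype, ?_, ?_, ?_, ?_⟩
    · exact Subgroup.map_subtype_le _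
    · have : IsCyclic (Subgroup.zpowers x) := inferInstance
      exact isCyclic_of_surjective
        ((Subgroup.zpowers x).equivMapOfInjective T.subtype T.subtype_injective)
        (MulEquiv.surjective _)
    · rw [Subgroup.card_subtype, Nat.card_zpowers, hx, hcard, pow_succ, mul_comm]
    · rw [hcard]
      calc 8 = 2 ^ 3 := by norm_num
        _ ≤ 2 ^ (n + 1) := Nat.pow_le_pow_right (by norm_num) (by omega)

/-- Let G be a finite solvable group with O(G) = 1 whose Sylow 2-subgroup T is dihedral of order at least 8 or semidihedral, with G ≠ T and Z(T) normal in G. Then G has a normal subgroup isomorphic to SL₂(3). -/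
theorem result {G : Type*} [Group G] [Finite G] (hsol : IsSolvable G) (hO : Cfsg.oddCore G = ⊥) (T : Sylow 2 G) (hT : (∃ n : ℕ, 4 ≤ n ∧ Nonempty (↥(T : Subgroup G) ≃* DihedralGroup n)) ∨ Cfsg.IsQuasiDihedral ↥(T : Subgroup G)) (hne : (T : Subgroup G) ≠ ⊤) (hZ : ((T : Subgroup G) ⊓ Subgroup.centralizer ((T : Subgroup G) : Set G)).Normal) : ∃ U : Subgroup G, U.Normal ∧ Nonempty (↥U ≃* Matrix.SpecialLinearGroup (Fin 2) (ZMod 3)) := by
  classical
  have hsol' : Group.IsSolvable G := hsol
  obtain ⟨C, hCT, hCcyc, hTC, hT8⟩ := exists_cyclic_half (T : Subgroup G) hT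
  -- the 2-core
  obtain ⟨Q, hQdef⟩ : ∃ Q : Subgroup G, Q = Cfsg.pCore 2 G := ⟨_, rfl⟩
  have hQn : Q.Normal := by
    rw [hQdef]
    exact Subgroup.sSup_normal _ (fun H hH => hH.1)
  have hQT : Q ≤ (T : Subgroup G) := by
    rw [hQdef]
    exact Cfsg.Agent.Lib.Helper84.pCore_le_sylow 2 T
  have hQ2 : IsPGroup 2 Q := T.isPGroup'.to_le hQT
  have hCQ : Subgroup.centralizer (Q : Set G) ≤ Q := by
    rw [hQdef]
    exact Cfsg.Agent.S0017.result 2 hO
  -- an element of odd prime order
  have hidx : (T : Subgroup G).index ≠ 1 := fun h => hne (Subgroup.index_eq_one.mp h)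
  obtain ⟨p, hp, hpdvd⟩ := Nat.exists_prime_and_dvd hidx
  have hp2 : p ≠ 2 := by
    rintro rfl
    exact T.not_dvd_index hpdvd
  have : Fact p.Prime := ⟨hp⟩
  obtain ⟨y, hy⟩ := exists_prime_orderOf_dvd_card' (G := G) p
    (hpdvd.trans (Subgroup.index_dvd_card _))
  have hodd : Odd (orderOf y) := by
    rw [hy]
    exact hp.odd_of_ne_two hp2
  have hyQ : ∀ q ∈ Q, y * q * y⁻¹ ∈ Q := fun q hq => hQn.conj_mem q hq y
  -- odd order elements of `Q` are trivial
  have hodd_Q : ∀ w ∈ Q, Odd (orderOf w) → w = 1 := by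
    intro w hw hwodd
    obtain ⟨k, hk⟩ := hQ2 ⟨w, hw⟩
    have h1 : w ^ 2 ^ k = 1 := by
      have := congrArg Subtype.val hk
      simpa using this
    have h2 : orderOf w ∣ 2 ^ k := orderOf_dvd_of_pow_eq_one h1
    have hcop : Nat.Coprime (orderOf w) (2 ^ k) :=
      Nat.Coprime.pow_right k (Nat.Coprime.symm (Nat.coprime_two_left.mpr hwodd))
    exact orderOf_eq_one_iff.mp (Nat.eq_one_of_dvd_coprimes hcop dvd_rfl h2)
  have hy1 : y ≠ 1 := by
    rintro rfl
    rw [orderOf_one] at hy
    exact hp.one_lt.ne' hy.symm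
  have hyC : ∃ q ∈ Q, y * q * y⁻¹ ≠ q := by
    by_contra h
    push Not at h
    have hmem : y ∈ Subgroup.centralizer (Q : Set G) := by
      rw [Subgroup.mem_centralizer_iff]
      intro q hq
      have := h q hq
      rw [mul_inv_eq_iff_eq_mul] at this
      exact this.symm
    exact hy1 (hodd_Q y (hCQ hmem) hodd)
  -- the cyclic subgroup of index at most two in `Q`
  have hDcyc : IsCyclic (Q ⊓ C : Subgroup G) := by
    have := hCcyc
    exact Subgroup.isCyclic_of_le inf_le_right
  have hQD : Nat.card Q ≤ 2 * Nat.card (Q ⊓ C : Subgroup G) := by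
    have h1 := card_eq_relIndex_mul_card (inf_le_left : Q ⊓ C ≤ Q)
    have h2 : (Q ⊓ C).relIndex Q = C.relIndex Q := by
      rw [inf_comm]
      exact Subgroup.inf_relIndex_right C Q
    have h3 := card_eq_relIndex_mul_card hCT
    have hCpos : 0 < Nat.card C := Nat.card_pos
    have h4 : C.relIndex (T : Subgroup G) = 2 := by
      rw [hTC] at h3
      exact (Nat.eq_of_mul_eq_mul_right hCpos h3.symm)
    have h5 : C.relIndex Q ≤ C.relIndex (T : Subgroup G) :=
      Subgroup.relIndex_le_of_le_right hQT (by rw [h4]; norm_num)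
    rw [h1, h2]
    have : C.relIndex Q ≤ 2 := by omega
    exact Nat.mul_le_mul_right _ this
  -- `Q` is a quaternion group of order 8
  have hQ8 : 8 ≤ Nat.card Q := by
    by_contra hlt
    push Not at hlt
    obtain ⟨k, hk⟩ := IsPGroup.iff_card.mp hQ2
    have hk2 : k ≤ 2 := by
      by_contra h
      push Not at h
      have : 2 ^ 3 ≤ 2 ^ k := Nat.pow_le_pow_right (by norm_num) h
      omega
    obtain ⟨q, hq, hne'⟩ := hyC
    apply hne'
    interval_cases k
    · -- trivial
      have hQbot : Q = ⊥ := by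
        rw [← Subgroup.card_eq_one]
        simpa using hk
      rw [hQbot, Subgroup.mem_bot] at hq
      rw [hq]
      simp
    · -- cyclic of order 2
      have hcyc : IsCyclic Q := isCyclic_of_prime_card (p := 2) (by simpa using hk)
      exact centralizes_cyclic_two Q hcyc hQ2 y hyQ hodd q hq
    · -- order 4: use the centre of `T`
      obtain ⟨W, hWdef⟩ : ∃ W : Subgroup G, W = (T : Subgroup G) ⊓
          Subgroup.centralizer ((T : Subgroup G) : Set G) := ⟨_, rfl⟩
      have hWn : W.Normal := by rw [hWdef]; exact hZ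
      have hWT : W ≤ (T : Subgroup G) := by rw [hWdef]; exact inf_le_left
      have hW2 : IsPGroup 2 W := T.isPGroup'.to_le hWT
      have hWQ : W ≤ Q := by
        rw [hQdef]
        exact Cfsg.Agent.Lib.Helper84.le_pCore hWn hW2
      have hWne : W ≠ ⊥ := by
        have hTnt : Nontrivial (T : Subgroup G) := by
          rw [← Finite.one_lt_card_iff_nontrivial]
          omega
        have hc := IsPGroup.center_nontrivial (G := (T : Subgroup G)) T.isPGroup'
        obtain ⟨z, hz⟩ := exists_ne (1 : Subgroup.center (T : Subgroup G))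
        intro hbot
        apply hz
        have hzW : ((z : (T : Subgroup G)) : G) ∈ W := by
          rw [hWdef]
          refine Subgroup.mem_inf.mpr ⟨(z : (T : Subgroup G)).2, ?_⟩
          rw [Subgroup.mem_centralizer_iff]
          intro t ht
          have := (Subgroup.mem_center_iff.mp z.2) ⟨t, ht⟩
          exact congrArg Subtype.val this
        rw [hbot, Subgroup.mem_bot] at hzW
        apply Subtype.ext
        apply Subtype.ext
        simpa using hzW
      have hWneQ : W ≠ Q := by
        intro h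
        have hTle : (T : Subgroup G) ≤ Subgroup.centralizer (Q : Set G) := by
          intro t ht
          rw [Subgroup.mem_centralizer_iff]
          intro q' hq'
          rw [← h, hWdef] at hq'
          have := (Subgroup.mem_centralizer_iff.mp hq'.2) t ht
          exact this.symm
        have hle : Nat.card (T : Subgroup G) ≤ Nat.card Q :=
          Nat.card_le_card_of_injective _ (Subgroup.inclusion_injective (hTle.trans hCQ))
        omega
      have hWcard : Nat.card W = 2 := by
        have hdvd : Nat.card W ∣ 2 ^ 2 := by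
          rw [← hk]
          exact Subgroup.card_dvd_of_le hWQ
        obtain ⟨j, hj, hjc⟩ := (Nat.dvd_prime_pow Nat.prime_two).mp hdvd
        interval_cases j
        · exfalso
          apply hWne
          rw [← Subgroup.card_eq_one]
          simpa using hjc
        · simpa using hjc
        · exfalso
          apply hWneQ
          apply Subgroup.eq_of_le_of_card_ge hWQ
          rw [hk, hjc]
      have hWcyc : IsCyclic W := isCyclic_of_prime_card (p := 2) hWcard
      have hWrel : W.relIndex Q = 2 := by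
        have h1 := card_eq_relIndex_mul_card hWQ
        rw [hk, hWcard] at h1
        omega
      have hyW : ∀ d ∈ W, y * d * y⁻¹ ∈ W := fun d hd => hWn.conj_mem d hd y
      have hcent := centralizes_cyclic_two W hWcyc hW2 y hyW hodd
      exact centralizes_of_relIndex_two Q W hWQ hQ2 hWrel y hodd hyQ hcent q hq
  obtain ⟨e⟩ := nonempty_mulEquiv_quaternion_of_odd_action Q (Q ⊓ C) inf_le_left hQ2 hDcyc hQD
    hQ8 y hodd hyQ hyC
  -- elements of odd order normalizing `Q` have cube one
  have hcube : ∀ w : G, Odd (orderOf w) → w ^ 3 = 1 := by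
    intro w hw
    have hwQ : ∀ q ∈ Q, w * q * w⁻¹ ∈ Q := fun q hq => hQn.conj_mem q hq w
    have h3 := SL23.cube_centralizes Q e w hwQ hw
    have hmem : w ^ 3 ∈ Subgroup.centralizer (Q : Set G) := by
      rw [Subgroup.mem_centralizer_iff]
      intro q hq
      have := h3 q hq
      rw [mul_inv_eq_iff_eq_mul] at this
      exact this.symm
    apply hodd_Q _ (hCQ hmem)
    exact Odd.of_dvd_nat hw (orderOf_pow_dvd 3)
  have hy3 : y ^ 3 = 1 := hcube y hodd
  refine ⟨Q ⊔ Subgroup.zpowers y, ?_, SL23.nonempty_sup_zpowers_mulEquiv_SL23 Q e y hy3 hyQ hyC⟩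
  -- normality
  have hconj : ∀ g : G, g * y * g⁻¹ ∈ Q ⊔ Subgroup.zpowers y := by
    intro g
    have hodd' : Odd (orderOf (g * y * g⁻¹)) := by
      have : orderOf (g * y * g⁻¹) = orderOf y := by
        have := MulEquiv.orderOf_eq (MulAut.conj g) y
        simpa using this
      rw [this]
      exact hodd
    have hyQ' : ∀ q ∈ Q, (g * y * g⁻¹) * q * (g * y * g⁻¹)⁻¹ ∈ Q :=
      fun q hq => hQn.conj_mem q hq _
    have hyC' : ∃ q ∈ Q, (g * y * g⁻¹) * q * (g * y * g⁻¹)⁻¹ ≠ q := by
      obtain ⟨q, hq, hne'⟩ := hyC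
      refine ⟨g * q * g⁻¹, hQn.conj_mem q hq g, ?_⟩
      intro h
      apply hne'
      have h1 : g * y * g⁻¹ * (g * q * g⁻¹) * (g * y * g⁻¹)⁻¹ = g * (y * q * y⁻¹) * g⁻¹ := by
        group
      rw [h1] at h
      exact mul_left_cancel (mul_right_cancel h)
    have hc3 : ∀ w : G, w ^ 3 = 1 → ∀ h ∈ Q, w ^ 3 * h * (w ^ 3)⁻¹ = h := by
      intro w hw h _
      rw [hw]
      simp
    obtain ⟨q, hq, hcase⟩ := SL23.exists_mul_conj_eq Q e y (g * y * g⁻¹) hyQ (hc3 y hy3) hyC
      hyQ' (hc3 _ (hcube _ hodd')) hyC'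
    -- in both cases the ratio centralizes `Q`
    have hfin : ∀ v : G, v ∈ Q ⊔ Subgroup.zpowers y →
        (∀ h ∈ Q, (g * y * g⁻¹) * h * (g * y * g⁻¹)⁻¹ = v * h * v⁻¹) →
        g * y * g⁻¹ ∈ Q ⊔ Subgroup.zpowers y := by
      intro v hv hact
      have hmem : v⁻¹ * (g * y * g⁻¹) ∈ Subgroup.centralizer (Q : Set G) := by
        rw [Subgroup.mem_centralizer_iff]
        intro h hh
        have := hact h hh
        have h1 : (g * y * g⁻¹) * h = v * h * v⁻¹ * (g * y * g⁻¹) := by
          rw [← this]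
          group
        calc h * (v⁻¹ * (g * y * g⁻¹)) = v⁻¹ * (v * h * v⁻¹ * (g * y * g⁻¹)) := by group
          _ = v⁻¹ * ((g * y * g⁻¹) * h) := by rw [h1]
          _ = v⁻¹ * (g * y * g⁻¹) * h := by group
      have h2 : v⁻¹ * (g * y * g⁻¹) ∈ Q ⊔ Subgroup.zpowers y :=
        Subgroup.mem_sup_left (hCQ hmem)
      have : g * y * g⁻¹ = v * (v⁻¹ * (g * y * g⁻¹)) := by group
      rw [this]
      exact Subgroup.mul_mem _ hv h2
    rcases hcase with hcase | hcase
    · exact hfin (q * y) (Subgroup.mul_mem _ (Subgroup.mem_sup_left hq)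
        (Subgroup.mem_sup_right (Subgroup.mem_zpowers y))) hcase
    · exact hfin (q * y ^ 2) (Subgroup.mul_mem _ (Subgroup.mem_sup_left hq)
        (Subgroup.mem_sup_right (Subgroup.pow_mem _ (Subgroup.mem_zpowers y) 2))) hcase
  constructor
  intro u hu g
  have hmap : (Q ⊔ Subgroup.zpowers y).map (MulAut.conj g).toMonoidHom ≤
      Q ⊔ Subgroup.zpowers y := by
    rw [Subgroup.map_sup, MonoidHom.map_zpowers, sup_le_iff]
    constructor
    · rintro _ ⟨q, hq, rfl⟩
      exact Subgroup.mem_sup_left (hQn.conj_mem q hq g)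
    · rw [Subgroup.zpowers_le]
      exact hconj g
  exact hmap (Subgroup.mem_map_of_mem _ hu)

end Cfsg.Agent.S2879
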