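import Mathlib
import Cfsg.Statements.S2880
import Cfsg.Agent.Lib.Helper48.Extraspecial

set_option autoImplicit false
open Cfsg

namespace Cfsg.Agent.S2880

open Cfsg.Agent.Lib.Helper48 in
open scoped commutatorElement in
/-- Let E be an extraspecial 2-group of order 2^(2m+1) of plus type, that is, containing an elementary abelian subgroup of order 2^(m+1) (equivalently, a central product of m dihedral groups of order 8). Then E has exactly 2^(2m) − 2^m elements of order 4. -/
theorem result {E : Type*} [Group E] [Finite E] (m : ℕ) (hm : 1 ≤ m) (hE : Cfsg.IsExtraspecial 2 E) (hcard : Nat.card E = 2 ^ (2 * m + 1)) (hplus : ∃ A : Subgroup E, Cfsg.IsElementaryAbelian 2 A ∧ Nat.card A = 2 ^ (m + 1)) : Nat.card {x : E // orderOf x = 4} = 2 ^ (2 * m) - 2 ^ m := by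
  obtain ⟨⟨-, -, hcm⟩, hZ⟩ := hE
  obtain ⟨A, ⟨hAc, hAe⟩, hAcard⟩ := hplus
  have hcomm : ∀ x y : E, ⁅x, y⁆ ∈ Subgroup.center E := by
    intro x y
    rw [← hcm, commutator_def]
    exact Subgroup.commutator_mem_commutator (Subgroup.mem_top x) (Subgroup.mem_top y)
  have key := plus_type_count m hcomm hZ hcard A
    (fun a ha b hb => congrArg Subtype.val (hAc.is_comm.comm ⟨a, ha⟩ ⟨b, hb⟩))
    (fun a ha => by rw [← pow_two]; exact hAe a ha) hAcard
  rw [← key]
  apply Nat.card_congr
  apply Equiv.subtypeEquivRight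
  intro x
  exact orderOf_eq_four_iff hcomm hZ x

end Cfsg.Agent.S2880
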