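import Mathlib
import Cfsg.Statements.S2881
import Cfsg.Agent.Lib.Helper48.Extraspecial

set_option autoImplicit false
open Cfsg

namespace Cfsg.Agent.S2881

open Cfsg.Agent.Lib.Helper48 in
open scoped commutatorElement in
/-- Let E be an extraspecial 2-group of order 2^(2m+1) of plus type (containing an elementary abelian subgroup of order 2^(m+1)), and let ω be an automorphism of E of order 5 whose fixed points are exactly the centre of E. Then m is divisible by 4. -/
theorem result {E : Type*} [Group E] [Finite E] (m : ℕ) (hm : 1 ≤ m) (hE : Cfsg.IsExtraspecial 2 E) (hcard : Nat.card E = 2 ^ (2 * m + 1)) (hplus : ∃ A : Subgroup E, Cfsg.IsElementaryAbelian 2 A ∧ Nat.card A = 2 ^ (m + 1)) (ω : E ≃* E) (hω : orderOf ω = 5) (hfix : ∀ x : E, ω x = x ↔ x ∈ Subgroup.center E) : 4 ∣ m := by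
  classical
  obtain ⟨⟨-, -, hcm⟩, hZ⟩ := hE
  obtain ⟨A, ⟨hAc, hAe⟩, hAcard⟩ := hplus
  have hcomm : ∀ x y : E, ⁅x, y⁆ ∈ Subgroup.center E := by
    intro x y
    rw [← hcm, commutator_def]
    exact Subgroup.commutator_mem_commutator (Subgroup.mem_top x) (Subgroup.mem_top y)
  have key := plus_type_count m hcomm hZ hcard A
    (fun a ha b hb => congrArg Subtype.val (hAc.is_comm.comm ⟨a, ha⟩ ⟨b, hb⟩))
    (fun a ha => by rw [← pow_two]; exact hAe a ha) hAcard
  have hsq := center_sq_eq_one hZ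
  letI : Fintype E := Fintype.ofFinite E
  have hiff : ∀ x : E, ((MulAut.toPerm E ω) x * (MulAut.toPerm E ω) x ≠ 1) ↔ (x * x ≠ 1) := by
    intro x
    have h1 : (MulAut.toPerm E ω) x = ω x := rfl
    rw [h1, ← map_mul]
    apply not_congr
    constructor
    · intro h
      have : ω (x * x) = ω 1 := by rw [h, map_one]
      exact ω.injective this
    · intro h
      rw [h, map_one]
  let σ : Equiv.Perm {x : E // x * x ≠ 1} := (MulAut.toPerm E ω).subtypePerm hiff
  have hσ : σ ^ 5 ^ 1 = 1 := by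
    rw [pow_one, Equiv.Perm.subtypePerm_pow]
    have h5 : ω ^ 5 = 1 := by rw [← hω]; exact pow_orderOf_eq_one ω
    have : (MulAut.toPerm E ω) ^ 5 = 1 := by rw [← map_pow, h5, map_one]
    simp only [this]
    exact Equiv.Perm.subtypePerm_one _ _
  have : Fact (Nat.Prime 5) := ⟨by norm_num⟩
  have hdvd : 5 ∣ Fintype.card {x : E // x * x ≠ 1} := by
    by_contra hnd
    obtain ⟨t, ht⟩ := Equiv.Perm.exists_fixed_point_of_prime hnd hσ
    have h1 : ω t.1 = t.1 := congrArg Subtype.val ht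
    exact t.2 (hsq _ ((hfix t.1).mp h1))
  rw [← Nat.card_eq_fintype_card, key] at hdvd
  -- arithmetic
  have h1 : 2 ^ (2 * m) - 2 ^ m = 2 ^ m * (2 ^ m - 1) := by
    rw [Nat.mul_sub, mul_one, ← pow_add]; congr 2; ring
  rw [h1] at hdvd
  have h2 : 5 ∣ 2 ^ m - 1 := by
    have hcop : Nat.Coprime 5 (2 ^ m) := Nat.Coprime.pow_right m (by norm_num)
    exact hcop.dvd_of_dvd_mul_left hdvd
  have h3 : 2 ^ m % 5 = 1 := by
    have hpos : 1 ≤ 2 ^ m := Nat.one_le_two_pow
    omega
  have h4 : 2 ^ m % 5 = 2 ^ (m % 4) % 5 := by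
    conv_lhs => rw [← Nat.div_add_mod m 4, pow_add, pow_mul]
    rw [Nat.mul_mod, Nat.pow_mod]
    norm_num
  rw [h4] at h3
  have h5 : m % 4 < 4 := Nat.mod_lt _ (by norm_num)
  have h6 : m % 4 = 0 := by
    interval_cases (m % 4) <;> simp_all
  exact Nat.dvd_of_mod_eq_zero h6

end Cfsg.Agent.S2881
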