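import Cfsg.Statements.S2882
import Cfsg.Agent.Lib.Helper86.SylowNormalizer
import Cfsg.Agent.S5170

set_option autoImplicit false
open Cfsg

namespace Cfsg.Agent.S2882

open Cfsg.Agent.Lib.Helper86 Cfsg.Agent.S5170

/-- In the Mathieu group of degree 24 (realised as the automorphism group of the extended binary Golay code) every Sylow 2-subgroup is self-normalizing. -/
theorem result (S : Sylow 2 ↥Cfsg.M24) : Subgroup.normalizer ((S : Subgroup ↥Cfsg.M24) : Set ↥Cfsg.M24) = (S : Subgroup ↥Cfsg.M24) :=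
  sylow_normalizer_eq_of_cert Cfsg.M24 m24Tab m24Tab_spec ys z 12717187 ts1 ts2 ts3 239085
    (by rw [Cfsg.Agent.Lib.Helper6.M24.card_M24]; decide) (by decide) (by decide +kernel)
    c1 (pcOK_spec hv c2).1 (pcOK_spec hv c2).2 c4 c5 c6 c7 c8 c9 S

end Cfsg.Agent.S2882
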