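import Cfsg.Statements.S2896
import Mathlib
import Cfsg.Agent.Lib.Helper49.CharP3
import Cfsg.Agent.Lib.Helper48.SPE
import Cfsg.Agent.Lib.Helper4.SylowTwo

set_option autoImplicit false
open Cfsg

namespace Cfsg.Agent.S2896

open Cfsg.Agent.Lib.Helper49

/-- Let p be a prime dividing the order of the finite group G, S a Sylow p-subgroup of G and X a subgroup of S. (i) If some nontrivial element z of the centre of X has F*(C_G(z)) = O_p(C_G(z)), then F*(N_G(X)) = O_p(N_G(X)). (ii) G has parabolic characteristic p if and only if F*(C_G(z)) = O_p(C_G(z)) for every nontrivial z ∈ Ω₁(Z(S)). (iii) If F*(C_G(z)) = O_p(C_G(z)) for every element z of S of order p, then G has local characteristic p. -/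
theorem result {G : Type*} [Group G] [Finite G] {p : ℕ} [Fact p.Prime] (hdiv : p ∣ Nat.card G) (S : Sylow p G) (X : Subgroup G) (hX : X ≤ (S : Subgroup G)) : (∀ z : G, z ≠ 1 → z ∈ X → (∀ x ∈ X, x * z = z * x) → Cfsg.generalizedFittingSubgroup ↥(Subgroup.centralizer ({z} : Set G)) = Cfsg.pCore p ↥(Subgroup.centralizer ({z} : Set G)) → Cfsg.generalizedFittingSubgroup ↥(Subgroup.normalizer (X : Set G)) = Cfsg.pCore p ↥(Subgroup.normalizer (X : Set G))) ∧ (Cfsg.IsOfParabolicCharacteristic p G ↔ ∀ z : G, z ≠ 1 → z ∈ Cfsg.omegaOne p ((S : Subgroup G) ⊓ Subgroup.centralizer ((S : Subgroup G) : Set G)) → Cfsg.generalizedFittingSubgroup ↥(Subgroup.centralizer ({z} : Set G)) = Cfsg.pCore p ↥(Subgroup.centralizer ({z} : Set G))) ∧ ((∀ z : G, z ∈ (S : Subgroup G) → orderOf z = p → Cfsg.generalizedFittingSubgroup ↥(Subgroup.centralizer ({z} : Set G)) = Cfsg.pCore p ↥(Subgroup.centralizer ({z} : Set G))) → Cfsg.IsOfLocalCharacteristic p G) := by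
  classical
  have hSp : IsPGroup p (S : Subgroup G) := S.isPGroup'
  -- transport from a conjugate
  have htrans : ∀ (g z' : G),
      Cfsg.generalizedFittingSubgroup ↥(Subgroup.centralizer ({g⁻¹ * z' * g} : Set G)) =
        Cfsg.pCore p ↥(Subgroup.centralizer ({g⁻¹ * z' * g} : Set G)) →
      Subgroup.centralizer (Cfsg.pCore p ↥(Subgroup.centralizer ({z'} : Set G)) :
        Set ↥(Subgroup.centralizer ({z'} : Set G))) ≤
          Cfsg.pCore p ↥(Subgroup.centralizer ({z'} : Set G)) := by
    intro g z' hF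
    have h1 := charp_centralizer_conj (g⁻¹ * z' * g) g (charp_of_fstar_eq hF)
    have e : g * (g⁻¹ * z' * g) * g⁻¹ = z' := by group
    rw [e] at h1
    exact h1
  refine ⟨?_, ?_, ?_⟩
  · intro z hz1 hzX hzc hF
    apply Cfsg.Agent.Lib.Helper31.generalizedFittingSubgroup_eq_pCore
    exact charp_normalizer_of_centralizer_elt X (hSp.to_le hX) z hzX (charp_of_fstar_eq hF)
  · constructor
    · intro hpar z hz1 hzΩ
      have hzZ : z ∈ (S : Subgroup G) ⊓ Subgroup.centralizer ((S : Subgroup G) : Set G) := by
        have hle : Cfsg.omegaOne p ((S : Subgroup G) ⊓ Subgroup.centralizer ((S : Subgroup G) : Set G))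
            ≤ (S : Subgroup G) ⊓ Subgroup.centralizer ((S : Subgroup G) : Set G) := by
          unfold Cfsg.omegaOne
          rw [Subgroup.closure_le]
          intro x hx
          exact hx.1
        exact hle hzΩ
      obtain ⟨hzS, hzc⟩ := Subgroup.mem_inf.mp hzZ
      apply Cfsg.Agent.Lib.Helper31.generalizedFittingSubgroup_eq_pCore
      apply charp_centralizer_elt_of_normalizer
      apply hpar
      · exact hSp.to_le (Subgroup.zpowers_le.mpr hzS)
      · intro h
        have : z ∈ (⊥ : Subgroup G) := h ▸ Subgroup.mem_zpowers z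
        exact hz1 (Subgroup.mem_bot.mp this)
      · refine ⟨S, ?_⟩
        refine le_trans ?_ (Subgroup.centralizer_le_normalizer _)
        rw [centralizer_zpowers_eq]
        intro s hs
        rw [Subgroup.mem_centralizer_singleton_iff]
        exact Subgroup.mem_centralizer_iff.mp hzc s hs
    · intro hz R hRp hR1 hpar
      obtain ⟨T, hT⟩ := hpar
      have hRT : R ≤ (T : Subgroup G) := by
        have h1 : IsPGroup p ↥((T : Subgroup G) ⊔ R) :=
          IsPGroup.to_sup_of_normal_right' T.isPGroup' hRp hT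
        have h2 := T.is_maximal' h1 le_sup_left
        rw [← h2]
        exact le_sup_right
      obtain ⟨g, hg⟩ := MulAction.exists_smul_eq G S T
      obtain ⟨z', hz'R, hz'p, hz'c⟩ :=
        Cfsg.Agent.Lib.Helper48.exists_central_orderOf_eq_prime (T : Subgroup G) R T.isPGroup'
          hRT hR1 hT
      have hmemT : ∀ x : G, x ∈ (T : Subgroup G) ↔ g⁻¹ * x * g ∈ (S : Subgroup G) := by
        intro x
        rw [← hg]
        exact Cfsg.Agent.Lib.Helper4.mem_sylow_smul_iff
      have hz'1 : z' ≠ 1 := by
        intro h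
        rw [h, orderOf_one] at hz'p
        exact (Fact.out : p.Prime).one_lt.ne hz'p
      have hzΩ : g⁻¹ * z' * g ∈ Cfsg.omegaOne p
          ((S : Subgroup G) ⊓ Subgroup.centralizer ((S : Subgroup G) : Set G)) := by
        apply Subgroup.subset_closure
        refine ⟨Subgroup.mem_inf.mpr ⟨(hmemT z').mp (hRT hz'R), ?_⟩, ?_⟩
        · rw [Subgroup.mem_centralizer_iff]
          intro s hs
          have hsT : g * s * g⁻¹ ∈ (T : Subgroup G) := by
            rw [hmemT]
            have : g⁻¹ * (g * s * g⁻¹) * g = s := by group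
            rw [this]
            exact hs
          have h1 := hz'c _ hsT
          calc s * (g⁻¹ * z' * g) = g⁻¹ * ((g * s * g⁻¹) * z') * g := by group
            _ = g⁻¹ * (z' * (g * s * g⁻¹)) * g := by rw [h1]
            _ = g⁻¹ * z' * g * s := by group
        · have h1 : (g⁻¹ * z' * g) ^ p = g⁻¹ * z' ^ p * g := by
            have := conj_pow (a := g⁻¹) (b := z') (i := p)
            rw [inv_inv] at this
            exact this
          rw [h1, ← hz'p, pow_orderOf_eq_one]
          group
      have hz1 : g⁻¹ * z' * g ≠ 1 := by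
        intro h
        apply hz'1
        calc z' = g * (g⁻¹ * z' * g) * g⁻¹ := by group
          _ = 1 := by rw [h]; group
      exact charp_normalizer_of_centralizer_elt R hRp z' hz'R
        (htrans g z' (hz _ hz1 hzΩ))
  · intro hz
    refine ⟨hdiv, ?_⟩
    intro T hTp hT1
    obtain ⟨T', hT'⟩ := hTp.exists_le_sylow
    obtain ⟨g, hg⟩ := MulAction.exists_smul_eq G S T'
    obtain ⟨z', hz'T, hz'p, -⟩ :=
      Cfsg.Agent.Lib.Helper48.exists_central_orderOf_eq_prime T T hTp le_rfl hT1
        Subgroup.le_normalizer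
    have hzS : g⁻¹ * z' * g ∈ (S : Subgroup G) := by
      have h1 : z' ∈ g • S := by rw [hg]; exact hT' hz'T
      exact Cfsg.Agent.Lib.Helper4.mem_sylow_smul_iff.mp h1
    have hzp : orderOf (g⁻¹ * z' * g) = p := by
      have := Cfsg.Agent.Lib.Helper4.orderOf_conj' g⁻¹ z'
      rw [inv_inv] at this
      rw [this, hz'p]
    exact charp_normalizer_of_centralizer_elt T hTp z' hz'T (htrans g z' (hz _ hzS hzp))

end Cfsg.Agent.S2896
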