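import Cfsg.Statements.S2906
import Mathlib
import Cfsg.Agent.Lib.Helper48.PMinComp

set_option autoImplicit false
open Cfsg

namespace Cfsg.Agent.S2906

open Cfsg.Agent.Lib.Helper48
open scoped commutatorElement

/-- Let P be a finite p-minimal group with O_p(P) = 1, S a Sylow p-subgroup of P and K a component of P. Then O^p(P) = F*(P) = E(P) is generated by the S-conjugates of K, and the subgroup K·N_S(K) is again p-minimal. -/
theorem result {P : Type*} [Group P] [Finite P] {p : ℕ} [Fact p.Prime] (hP : Cfsg.IsPMinimal p P) (hOp : Cfsg.pCore p P = ⊥) (S : Sylow p P) (K : Subgroup P) (hK : Cfsg.IsComponent K) : Cfsg.pResidual p P = Cfsg.generalizedFittingSubgroup P ∧ Cfsg.generalizedFittingSubgroup P = Cfsg.layer P ∧ Cfsg.layer P = ⨆ s : ↥(S : Subgroup P), K.map (MulAut.conj (s : P)).toMonoidHom ∧ Cfsg.IsPMinimal p ↥(K ⊔ ((S : Subgroup P) ⊓ Subgroup.normalizer (K : Set P))) := by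
  classical
  obtain ⟨hSn, M, ⟨hM, hSM⟩, hMuniq⟩ := hP S
  haveI hLn : (Cfsg.layer P).Normal := Cfsg.Agent.Lib.Helper22.layer_normal' P
  have hperf := Cfsg.Agent.Lib.Helper22.IsComponent.perfect hK
  have h1 : Cfsg.pResidual p P ≤ Cfsg.layer P :=
    pmin_pResidual_le_of_component hP hOp S M hM hSM K hK _
      (Cfsg.Agent.Lib.Helper22.component_le_layer hK)
  have h2 : Cfsg.layer P ≤ Cfsg.pResidual p P := by
    rw [Cfsg.Agent.Lib.Helper22.layer_le_iff]
    intro C hC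
    exact perfect_le_pResidual C (Cfsg.Agent.Lib.Helper22.IsComponent.perfect hC)
  have h3 : Cfsg.fittingSubgroup P ≤ Cfsg.pResidual p P := fitting_le_pResidual hOp
  have h4 : Cfsg.generalizedFittingSubgroup P = Cfsg.layer P := by
    apply le_antisymm
    · exact sup_le le_rfl (le_trans h3 h1)
    · exact le_sup_left
  haveI hEn := pmin_conjSup_normal hP hOp S M hM hSM K hK
  have h5 : Cfsg.layer P = conjSup (S : Subgroup P) K := by
    apply le_antisymm
    · exact le_trans h2 (pmin_pResidual_le_of_component hP hOp S M hM hSM K hK _ (le_conjSup _ K))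
    · apply iSup_le
      intro s
      exact Cfsg.Agent.Lib.Helper22.component_le_layer
        (Cfsg.Agent.Lib.Helper22.isComponent_map_equiv (MulAut.conj (s : P)) hK)
  refine ⟨?_, h4, h5, ?_⟩
  · rw [h4]; exact le_antisymm h1 h2
  -- the `p`-minimality of `K N_S(K)`
  have hKM : ¬ K ≤ M := pmin_component_not_le hP hOp S M hM hSM K hK
  have hSKn : (S : Subgroup P) ⊓ Subgroup.normalizer (K : Set P) ≤ Subgroup.normalizer (K : Set P) :=
    inf_le_right
  have hY₀M : (M ⊓ K) ⊔ ((S : Subgroup P) ⊓ Subgroup.normalizer (K : Set P)) ≤ M :=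
    sup_le inf_le_left (le_trans inf_le_left hSM)
  have hKY₀ : ¬ K ≤ (M ⊓ K) ⊔ ((S : Subgroup P) ⊓ Subgroup.normalizer (K : Set P)) :=
    fun h => hKM (le_trans h hY₀M)
  have hmul := Subgroup.coe_mul_of_right_le_normalizer_left K
    ((S : Subgroup P) ⊓ Subgroup.normalizer (K : Set P)) hSKn
  -- every subgroup of `X` over `N_S(K)` not containing `K` lies in `Y₀`
  have hα : ∀ Y : Subgroup P, (S : Subgroup P) ⊓ Subgroup.normalizer (K : Set P) ≤ Y →
      Y ≤ K ⊔ ((S : Subgroup P) ⊓ Subgroup.normalizer (K : Set P)) → ¬ K ≤ Y →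
      Y ≤ (M ⊓ K) ⊔ ((S : Subgroup P) ⊓ Subgroup.normalizer (K : Set P)) := by
    intro Y hSY hYX hne y hy
    have hyX : y ∈ ((K ⊔ ((S : Subgroup P) ⊓ Subgroup.normalizer (K : Set P)) : Subgroup P) :
        Set P) := hYX hy
    rw [hmul] at hyX
    obtain ⟨k, hk, s, hs, rfl⟩ := hyX
    have hkY : k ∈ Y := by
      have : k = k * s * s⁻¹ := by group
      rw [this]; exact Y.mul_mem hy (Y.inv_mem (hSY hs))
    have hkM : k ∈ M := pmin_component_inf_le hP S M hM hSM K hK Y hSY hne ⟨hkY, hk⟩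
    exact Subgroup.mul_mem _ (Subgroup.mem_sup_left ⟨hkM, hk⟩) (Subgroup.mem_sup_right hs)
  -- `N_S(K)` is not normal in `X`
  have hγ : ¬ K ⊔ ((S : Subgroup P) ⊓ Subgroup.normalizer (K : Set P)) ≤
      Subgroup.normalizer (((S : Subgroup P) ⊓ Subgroup.normalizer (K : Set P) : Subgroup P) :
        Set P) := by
    intro hXn
    obtain ⟨k, hk, hkY₀⟩ := SetLike.not_le_iff_exists.mp hKY₀
    have hkn := hXn (Subgroup.mem_sup_left hk)
    have hKW : K ≤ Subgroup.zpowers k ⊔ ((S : Subgroup P) ⊓ Subgroup.normalizer (K : Set P)) := by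
      by_contra hne
      have h6 := hα _ le_sup_right
        (sup_le (Subgroup.zpowers_le.mpr (Subgroup.mem_sup_left hk)) le_sup_right) hne
      exact hkY₀ (h6 (Subgroup.mem_sup_left (Subgroup.mem_zpowers k)))
    have h7 := commutator_zpowers_sup_le
      ((S : Subgroup P) ⊓ Subgroup.normalizer (K : Set P)) k hkn
    have h8 : K ≤ (S : Subgroup P) ⊓ Subgroup.normalizer (K : Set P) := by
      calc K = ⁅K, K⁆ := hperf.symm
        _ ≤ _ := Subgroup.commutator_mono hKW hKW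
        _ ≤ _ := h7
    exact hKM (le_trans h8 (le_trans inf_le_left hSM))
  -- `N_S(K)` is a Sylow `p`-subgroup of `X`
  have hSKp : IsPGroup p ↥((((S : Subgroup P) ⊓ Subgroup.normalizer (K : Set P)) : Subgroup P).subgroupOf
      (K ⊔ ((S : Subgroup P) ⊓ Subgroup.normalizer (K : Set P)))) :=
    (S.isPGroup'.to_le inf_le_left).comap_subtype
  obtain ⟨T₀, hT₀le⟩ := hSKp.exists_le_sylow
  have hT₀ : (T₀ : Subgroup ↥(K ⊔ ((S : Subgroup P) ⊓ Subgroup.normalizer (K : Set P)))) =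
      (((S : Subgroup P) ⊓ Subgroup.normalizer (K : Set P)) : Subgroup P).subgroupOf
        (K ⊔ ((S : Subgroup P) ⊓ Subgroup.normalizer (K : Set P))) := by
    apply le_antisymm _ hT₀le
    intro x hx
    rw [Subgroup.mem_subgroupOf]
    have hxX : (x : P) ∈ ((K ⊔ ((S : Subgroup P) ⊓ Subgroup.normalizer (K : Set P)) : Subgroup P) :
        Set P) := x.2
    rw [hmul] at hxX
    obtain ⟨k, hk, s, hs, hks⟩ := hxX
    have hsT : (⟨s, Subgroup.mem_sup_right hs⟩ :
        ↥(K ⊔ ((S : Subgroup P) ⊓ Subgroup.normalizer (K : Set P)))) ∈ T₀ :=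
      hT₀le (Subgroup.mem_subgroupOf.mpr hs)
    have hkT : (⟨k, Subgroup.mem_sup_left hk⟩ :
        ↥(K ⊔ ((S : Subgroup P) ⊓ Subgroup.normalizer (K : Set P)))) ∈ T₀ := by
      have h9 : (⟨k, Subgroup.mem_sup_left hk⟩ :
          ↥(K ⊔ ((S : Subgroup P) ⊓ Subgroup.normalizer (K : Set P)))) =
          x * (⟨s, Subgroup.mem_sup_right hs⟩ :
            ↥(K ⊔ ((S : Subgroup P) ⊓ Subgroup.normalizer (K : Set P))))⁻¹ := by
        apply Subtype.ext
        simp [← hks]
      rw [h9]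
      exact Subgroup.mul_mem _ hx (Subgroup.inv_mem _ hsT)
    have hkS : k ∈ (S : Subgroup P) := by
      obtain ⟨Q, hQ⟩ := Cfsg.Agent.S0542.result p K hK.1 S
      have hD : IsPGroup p ↥(((T₀ : Subgroup ↥(K ⊔ ((S : Subgroup P) ⊓
          Subgroup.normalizer (K : Set P)))).map (Subgroup.subtype _)).subgroupOf K) :=
        (T₀.isPGroup'.map _).comap_subtype
      have hQD : (Q : Subgroup K) ≤ ((T₀ : Subgroup ↥(K ⊔ ((S : Subgroup P) ⊓
          Subgroup.normalizer (K : Set P)))).map (Subgroup.subtype _)).subgroupOf K := by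
        rw [hQ]
        intro y hy
        rw [Subgroup.mem_subgroupOf] at hy ⊢
        have hyS : (y : P) ∈ (S : Subgroup P) ⊓ Subgroup.normalizer (K : Set P) :=
          ⟨hy, Subgroup.le_normalizer y.2⟩
        exact ⟨⟨y, Subgroup.mem_sup_right hyS⟩, hT₀le (Subgroup.mem_subgroupOf.mpr hyS), rfl⟩
      have h10 := Q.is_maximal' hD hQD
      have hkD : (⟨k, hk⟩ : K) ∈ ((T₀ : Subgroup ↥(K ⊔ ((S : Subgroup P) ⊓
          Subgroup.normalizer (K : Set P)))).map (Subgroup.subtype _)).subgroupOf K :=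
        Subgroup.mem_subgroupOf.mpr ⟨⟨k, Subgroup.mem_sup_left hk⟩, hkT, rfl⟩
      rw [h10, hQ, Subgroup.mem_subgroupOf] at hkD
      exact hkD
    rw [← hks]
    exact Subgroup.mul_mem _ ⟨hkS, Subgroup.le_normalizer hk⟩ hs
  -- subgroups of `↥X` over `T₀`
  have key : ∀ Z : Subgroup ↥(K ⊔ ((S : Subgroup P) ⊓ Subgroup.normalizer (K : Set P))),
      (T₀ : Subgroup ↥(K ⊔ ((S : Subgroup P) ⊓ Subgroup.normalizer (K : Set P)))) ≤ Z → Z ≠ ⊤ →
      Z ≤ ((M ⊓ K) ⊔ ((S : Subgroup P) ⊓ Subgroup.normalizer (K : Set P))).subgroupOf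
        (K ⊔ ((S : Subgroup P) ⊓ Subgroup.normalizer (K : Set P))) := by
    intro Z hTZ hZtop
    have hSZ : (S : Subgroup P) ⊓ Subgroup.normalizer (K : Set P) ≤ Z.map (Subgroup.subtype _) := by
      intro s hs
      exact ⟨⟨s, Subgroup.mem_sup_right hs⟩, hTZ (hT₀ ▸ Subgroup.mem_subgroupOf.mpr hs), rfl⟩
    have hKZ : ¬ K ≤ Z.map (Subgroup.subtype _) := by
      intro hKZ
      apply hZtop
      rw [eq_top_iff]
      intro x _
      have hx : (x : P) ∈ Z.map (Subgroup.subtype _) := (sup_le hKZ hSZ) x.2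
      obtain ⟨z, hz, hzx⟩ := hx
      have : z = x := Subtype.ext hzx
      rw [← this]; exact hz
    have h11 := hα _ hSZ (Subgroup.map_subtype_le Z) hKZ
    intro z hz
    rw [Subgroup.mem_subgroupOf]
    exact h11 ⟨z, hz, rfl⟩
  have hY₀top : ((M ⊓ K) ⊔ ((S : Subgroup P) ⊓ Subgroup.normalizer (K : Set P))).subgroupOf
      (K ⊔ ((S : Subgroup P) ⊓ Subgroup.normalizer (K : Set P))) ≠ ⊤ := by
    rw [Ne, Subgroup.subgroupOf_eq_top]
    intro h
    exact hKY₀ (le_trans le_sup_left h)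
  have hT₀Y₀ : (T₀ : Subgroup ↥(K ⊔ ((S : Subgroup P) ⊓ Subgroup.normalizer (K : Set P)))) ≤
      ((M ⊓ K) ⊔ ((S : Subgroup P) ⊓ Subgroup.normalizer (K : Set P))).subgroupOf
        (K ⊔ ((S : Subgroup P) ⊓ Subgroup.normalizer (K : Set P))) := by
    rw [hT₀]
    intro x hx
    exact Subgroup.mem_subgroupOf.mpr (Subgroup.mem_sup_right (Subgroup.mem_subgroupOf.mp hx))
  apply isPMinimal_of_sylow T₀ ?_
    (((M ⊓ K) ⊔ ((S : Subgroup P) ⊓ Subgroup.normalizer (K : Set P))).subgroupOf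
      (K ⊔ ((S : Subgroup P) ⊓ Subgroup.normalizer (K : Set P)))) ?_ hT₀Y₀ ?_
  · rw [hT₀, Subgroup.normal_subgroupOf_iff_le_normalizer le_sup_right]
    exact hγ
  · refine ⟨hY₀top, ?_⟩
    intro Z hZ
    by_contra hZtop
    exact hZ.not_ge (key Z (le_trans hT₀Y₀ hZ.le) hZtop)
  · intro M' hM' hTM'
    exact ((hM'.le_iff_eq hY₀top).mp (key M' hTM' hM'.1)).symm

end Cfsg.Agent.S2906
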