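import Cfsg.Statements.S2934
import Mathlib
import Cfsg.Agent.Lib.Helper73.QBuild
import Cfsg.Agent.Lib.Helper2.ESLExtra

set_option autoImplicit false
open Cfsg

namespace Cfsg.Agent.S2934

open Cfsg.Agent.Lib.Helper73
open Cfsg.Agent.Lib.Helper48 (fixSubgroup mem_fixSubgroup)
open scoped commutatorElement

/-- Let p be an odd prime, W a finite 2-group and E a non-cyclic abelian p-subgroup of Aut(W) such that, for every nontrivial e ∈ E, the fixed points of e in W contain at most one involution. Then E has order 9, W is extraspecial of order 2⁵, 2⁷ or 2⁹, and the common fixed points of E in W form exactly the centre Z(W). -/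
theorem result {W : Type*} [Group W] [Finite W] (hW : IsPGroup 2 W) {p : ℕ} [Fact p.Prime] (hp : p ≠ 2) (E : Subgroup (MulAut W)) (hE : IsPGroup p ↥E) (hab : IsMulCommutative ↥E) (hnc : ¬ IsCyclic ↥E) (hfix : ∀ e ∈ E, e ≠ 1 → ∀ x y : W, orderOf x = 2 → orderOf y = 2 → e x = x → e y = y → x = y) : Nat.card ↥E = 9 ∧ Cfsg.IsExtraspecial 2 W ∧ (Nat.card W = 2 ^ 5 ∨ Nat.card W = 2 ^ 7 ∨ Nat.card W = 2 ^ 9) ∧ {x : W | ∀ e ∈ E, e x = x} = (Subgroup.center W : Set W) := by
  classical
  obtain ⟨hp3, c, hcE, hcne, hEz, hEfix⟩ := build hW hp E hE hab hnc hfix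
  subst hp3
  have h2 : Fact (Nat.Prime 2) := ⟨Nat.prime_two⟩
  obtain ⟨hcomm, hcard⟩ := c.top_facts hW
  have hk2 := c.two_le_kq hcne
  have hk4 := c.kq_le
  obtain ⟨j, j', t, t', htF, htF', ht1, htz, ht1', htz', htt, htt', hcomm', h8, h8', hinf,
    u, v, huv⟩ := c.exists_pair hW hcne
  have hcomE : ∀ e ∈ E, ∀ f ∈ E, ∀ x, e (f x) = f (e x) := by
    intro e he f hf x
    have h1 := hab.is_comm.comm (⟨e, he⟩ : E) ⟨f, hf⟩
    have h3 := congrArg (fun s : E => (s : MulAut W) x) h1
    exact h3
  have hzo : orderOf c.z = 2 := orderOf_eq_prime (by rw [pow_two]; exact c.z_sq) c.z_ne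
  refine ⟨?_, ?_, ?_, ?_⟩
  · -- the order of `E`
    have hstab : ∀ e ∈ E, e t = t → e t' = t' → e = 1 := by
      intro e he het het'
      by_contra he1
      have hw2 : orderOf (t * t') = 2 := by
        apply orderOf_eq_prime
        · rw [pow_two]
          calc t * t' * (t * t') = t * (t' * t) * t' := by group
            _ = t * (t * t') * t' := by rw [hcomm']
            _ = (t * t) * (t' * t') := by group
            _ = 1 := by rw [htt, htt', c.z_sq]
        · intro h
          have h1 : t' = t⁻¹ := eq_inv_of_mul_eq_one_right h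
          have h3 : c.g j t' = t' := by rw [h1, map_inv, htF]
          rcases hinf t' h3 htF' with h4 | h4
          · exact ht1' h4
          · exact htz' h4
      have h0 := hfix e he he1 (t * t') c.z hw2 hzo (by rw [map_mul, het, het']) (hEz e he)
      have h1 : t' = t⁻¹ * c.z := by rw [← h0]; group
      have h3 : c.g j t' = t' := by rw [h1, map_mul, map_inv, htF, c.fix_z]
      rcases hinf t' h3 htF' with h4 | h4
      · exact ht1' h4
      · exact htz' h4
    have hO : Nat.card (MulAction.orbit ↥E t) ≤ 3 :=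
      orbit_le_three E hE (fixSubgroup (c.g j)) h8 c.z t c.z_ne (c.fix_z j)
        (fun e he x hx => by
          show c.g j (e x) = e x
          rw [hcomE _ (hcE j) e he, show c.g j x = x from hx])
        hEz htF ht1 htz
    have hO' : Nat.card (MulAction.orbit ↥E t') ≤ 3 :=
      orbit_le_three E hE (fixSubgroup (c.g j')) h8' c.z t' c.z_ne (c.fix_z j')
        (fun e he x hx => by
          show c.g j' (e x) = e x
          rw [hcomE _ (hcE j') e he, show c.g j' x = x from hx])
        hEz htF' ht1' htz'
    let φ : ↥E → ↥(MulAction.orbit ↥E t) × ↥(MulAction.orbit ↥E t') :=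
      fun e => (⟨e • t, MulAction.mem_orbit t e⟩, ⟨e • t', MulAction.mem_orbit t' e⟩)
    have hφ : Function.Injective φ := by
      intro e e' h
      have h1 : e • t = e' • t := congrArg (fun q => (q.1 : W)) h
      have h1' : e • t' = e' • t' := congrArg (fun q => (q.2 : W)) h
      have h3 : (e⁻¹ * e') • t = t := by rw [mul_smul, ← h1, inv_smul_smul]
      have h3' : (e⁻¹ * e') • t' = t' := by rw [mul_smul, ← h1', inv_smul_smul]
      have h4 := hstab _ (e⁻¹ * e').2 h3 h3'
      have h5 : e⁻¹ * e' = 1 := Subtype.ext h4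
      exact (inv_mul_eq_one.mp h5)
    have hle : Nat.card ↥E ≤ 9 := by
      calc Nat.card ↥E ≤ Nat.card (↥(MulAction.orbit ↥E t) × ↥(MulAction.orbit ↥E t')) :=
            Nat.card_le_card_of_injective φ hφ
        _ = Nat.card ↥(MulAction.orbit ↥E t) * Nat.card ↥(MulAction.orbit ↥E t') :=
            Nat.card_prod _ _
        _ ≤ 3 * 3 := Nat.mul_le_mul hO hO'
    obtain ⟨m, hm⟩ := IsPGroup.iff_card.mp hE
    have hm2 : 2 ≤ m := by
      by_contra hcon
      apply hnc
      have hm1 : m = 0 ∨ m = 1 := by omega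
      rcases hm1 with rfl | rfl
      · rw [pow_zero] at hm
        haveI : Subsingleton ↥E := (Nat.card_eq_one_iff_unique.mp hm).1
        exact isCyclic_of_subsingleton
      · rw [pow_one] at hm
        exact isCyclic_of_prime_card (p := 3) hm
    have hm3 : m ≤ 2 := by
      by_contra hcon
      have : 3 ^ 3 ≤ 3 ^ m := Nat.pow_le_pow_right (by norm_num) (by omega)
      omega
    have hm4 : m = 2 := by omega
    rw [hm, hm4]; norm_num
  · -- extraspecial
    apply Cfsg.Agent.Lib.Helper2.ESL.isExtraspecial_of (p := 2)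
    · exact c.card_center
    · intro x y
      rw [c.mem_center_iff']
      exact (c.mem_Zs _).mp (hcomm x y)
    · exact ⟨u, v, huv⟩
  · -- the order of `W`
    rw [hcard]
    have hk : c.kq = 2 ∨ c.kq = 3 ∨ c.kq = 4 := by omega
    rcases hk with h | h | h <;> rw [h] <;> norm_num
  · ext x
    simp only [Set.mem_ofPred_eq, SetLike.mem_coe]
    rw [c.mem_center_iff']
    constructor
    · exact hEfix x
    · rintro (rfl | rfl)
      · intro e _
        exact map_one e
      · exact hEz

end Cfsg.Agent.S2934
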