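import Cfsg.Statements.S2968
import Cfsg.Agent.Lib.Helper49.Isolated

set_option autoImplicit false
open Cfsg

namespace Cfsg.Agent.S2968

/-- Let G be a finite group, p a prime, P a Sylow p-subgroup of G and x ∈ P an element of p-power order which is isolated in G (the only conjugate of x commuting with x is x itself). Then x lies in the centre of P, and the subgroup generated by x is both strongly closed and weakly closed in P with respect to G. -/
theorem result {G : Type*} [Group G] [Finite G] {p : ℕ} [Fact p.Prime] (P : Sylow p G) (x : G) (hxP : x ∈ (P : Subgroup G)) (hx : ∃ k : ℕ, orderOf x = p ^ k) (hiso : Cfsg.IsIsolated x) : x ∈ (P : Subgroup G) ⊓ Subgroup.centralizer ((P : Subgroup G) : Set G) ∧ Cfsg.IsStronglyClosed (Subgroup.zpowers x) (P : Subgroup G) ∧ Cfsg.IsWeaklyClosed (Subgroup.zpowers x) (P : Subgroup G) := by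
  classical
  have hPp : IsPGroup p (P : Subgroup G) := P.isPGroup'
  have hcomm := Cfsg.Agent.Lib.Helper49.isolated_commute_of_mem_pgroup hiso (P : Subgroup G) hPp hxP
  have hzP : Subgroup.zpowers x ≤ (P : Subgroup G) := by
    rw [Subgroup.zpowers_le]; exact hxP
  refine ⟨Subgroup.mem_inf.mpr ⟨hxP, ?_⟩, ⟨hzP, ?_⟩, ⟨hzP, ?_⟩⟩
  · rw [Subgroup.mem_centralizer_iff]
    intro h hh
    exact (hcomm h hh).eq.symm
  · intro y hy g hg
    obtain ⟨n, rfl⟩ := Subgroup.mem_zpowers_iff.mp hy
    -- w = g x^n g⁻¹ ∈ P ; H = C_G(w)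
    set w : G := g * x ^ n * g⁻¹ with hw
    have hxH : x ∈ Subgroup.centralizer ({w} : Set G) := by
      rw [Subgroup.mem_centralizer_iff]
      intro h hh
      rw [Set.mem_singleton_iff] at hh
      rw [hh]
      exact (hcomm w hg).eq.symm
    have hgH : g * x * g⁻¹ ∈ Subgroup.centralizer ({w} : Set G) := by
      rw [Subgroup.mem_centralizer_iff]
      intro h hh
      rw [Set.mem_singleton_iff] at hh
      rw [hh, hw, ← conj_zpow]
      exact ((Commute.refl (g * x * g⁻¹)).zpow_left n).eq
    obtain ⟨h, hhH, hh⟩ := Cfsg.Agent.Lib.Helper49.isolated_conj_in_subgroup hx hiso _ hxH g hgH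
    have h1 : w * h = h * w := Subgroup.mem_centralizer_iff.mp hhH w (Set.mem_singleton w)
    have h2 : w = h * w * h⁻¹ := by
      rw [← h1]; group
    have h3 : h * w * h⁻¹ = ((h * g) * x * (h * g)⁻¹) ^ n := by
      rw [conj_zpow, hw]; group
    rw [h2, h3, hh]
    exact Subgroup.zpow_mem_zpowers x n
  · intro g hg
    have h1 : g * x * g⁻¹ ∈ (P : Subgroup G) := hg ⟨x, Subgroup.mem_zpowers x, rfl⟩
    have h2 := Cfsg.Agent.Lib.Helper49.isolated_conj_eq hiso (P : Subgroup G) hPp hxP g h1
    rw [MonoidHom.map_zpowers]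
    simp only [MulEquiv.coe_toMonoidHom, MulAut.conj_apply]
    rw [h2]

end Cfsg.Agent.S2968
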