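import Cfsg.Statements.S2970
import Cfsg.Agent.Lib.Helper49.Isolated

set_option autoImplicit false
open Cfsg

namespace Cfsg.Agent.S2970

/-- Number theory behind automorphisms of a cyclic `p`-group. -/
theorem nt_aux {p : ℕ} (hp : p.Prime) (n : ℕ) (a s : ℤ) (k : ℕ) (hk : ¬ p ∣ k)
    (h1 : ((p ^ n : ℕ) : ℤ) ∣ (a - 1) * s) (h2 : ¬ ((p ^ n : ℕ) : ℤ) ∣ s)
    (h3 : ((p ^ n : ℕ) : ℤ) ∣ a ^ k - 1) : ((p ^ n : ℕ) : ℤ) ∣ a - 1 := by
  have hpZ : Prime (p : ℤ) := Nat.prime_iff_prime_int.mp hp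
  have hpa : (p : ℤ) ∣ a - 1 := by
    by_contra hnd
    have hcop : IsCoprime (p : ℤ) (a - 1) := hpZ.coprime_iff_not_dvd.mpr hnd
    have hcop' : IsCoprime (((p ^ n : ℕ) : ℤ)) (a - 1) := by
      rw [Nat.cast_pow]; exact hcop.pow_left
    apply h2
    have h1' : ((p ^ n : ℕ) : ℤ) ∣ s * (a - 1) := by rwa [mul_comm] at h1
    exact hcop'.dvd_of_dvd_mul_right h1'
  cases n with
  | zero => simp
  | succ m =>
    have h4 : ((p : ℤ) ^ (m + 1)) ∣ a ^ (p ^ m) - 1 ^ (p ^ m) := dvd_sub_pow_of_dvd_sub hpa m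
    rw [one_pow] at h4
    have hA1 : ((a : ZMod (p ^ (m + 1))) ^ (p ^ m)) = 1 := by
      have : ((a ^ (p ^ m) - 1 : ℤ) : ZMod (p ^ (m + 1))) = 0 := by
        rw [ZMod.intCast_zmod_eq_zero_iff_dvd, Nat.cast_pow]; exact h4
      push_cast at this
      exact sub_eq_zero.mp this
    have hA2 : ((a : ZMod (p ^ (m + 1))) ^ k) = 1 := by
      have : ((a ^ k - 1 : ℤ) : ZMod (p ^ (m + 1))) = 0 := by
        rw [ZMod.intCast_zmod_eq_zero_iff_dvd]; exact h3
      push_cast at this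
      exact sub_eq_zero.mp this
    have hcop : (p ^ m).Coprime k := Nat.Coprime.pow_left m ((Nat.Prime.coprime_iff_not_dvd hp).mpr hk)
    have hA : (a : ZMod (p ^ (m + 1))) = 1 := (pow_eq_one_iff_of_coprime hcop).mp ⟨hA1, hA2⟩
    have : ((a - 1 : ℤ) : ZMod (p ^ (m + 1))) = 0 := by
      push_cast; rw [hA]; ring
    exact (ZMod.intCast_zmod_eq_zero_iff_dvd _ _).mp this

/-- If `x ≠ 1` is an isolated element of the cyclic Sylow `p`-subgroup `P`, then `N(P) ≤ C(P)`. -/
theorem normalizer_le_centralizer_of_isolated {G : Type*} [Group G] [Finite G] {p : ℕ}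
    [hp : Fact p.Prime] (x : G) (hiso : Cfsg.IsIsolated x) (hx1 : x ≠ 1) (P : Sylow p G)
    (hxP : x ∈ (P : Subgroup G)) (hcyc : IsCyclic ↥(P : Subgroup G)) :
    Subgroup.normalizer ((P : Subgroup G) : Set G) ≤ Subgroup.centralizer ((P : Subgroup G) : Set G) := by
  classical
  intro g hg
  obtain ⟨u₀, hu₀⟩ := hcyc.exists_generator
  set u : G := (u₀ : G) with hu
  have hpow : ∀ y ∈ (P : Subgroup G), ∃ m : ℤ, u ^ m = y := by
    intro y hy
    obtain ⟨m, hm⟩ := Subgroup.mem_zpowers_iff.mp (hu₀ ⟨y, hy⟩)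
    refine ⟨m, ?_⟩
    have := congrArg Subtype.val hm
    simpa [hu] using this
  obtain ⟨n, hn⟩ := IsPGroup.iff_card.mp P.isPGroup'
  have hq : orderOf u = p ^ n := by
    rw [hu, Subgroup.orderOf_coe, orderOf_eq_card_of_forall_mem_zpowers hu₀]
    exact hn
  have huP : u ∈ (P : Subgroup G) := u₀.2
  -- g u g⁻¹ = u ^ a
  have hguP : g * u * g⁻¹ ∈ (P : Subgroup G) := (Subgroup.mem_normalizer_iff.mp hg u).mp huP
  obtain ⟨a, ha⟩ := hpow _ hguP
  obtain ⟨s, hs⟩ := hpow x hxP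
  have hs' : ¬ ((p ^ n : ℕ) : ℤ) ∣ s := by
    intro hdvd
    apply hx1
    rw [← hs]
    rw [← hq] at hdvd
    exact orderOf_dvd_iff_zpow_eq_one.mp hdvd
  -- g x g⁻¹ = x
  have hgx : g * x * g⁻¹ = x := by
    have h1 : g * x * g⁻¹ ∈ (P : Subgroup G) := (Subgroup.mem_normalizer_iff.mp hg x).mp hxP
    exact Cfsg.Agent.Lib.Helper49.isolated_conj_eq hiso (P : Subgroup G) P.isPGroup' hxP g h1
  have h1 : ((p ^ n : ℕ) : ℤ) ∣ (a - 1) * s := by
    have e1 : u ^ (a * s) = u ^ s := by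
      rw [zpow_mul, ha, conj_zpow, hs, hgx]
    have e2 := (zpow_eq_zpow_iff_modEq.mp e1).dvd
    rw [hq] at e2
    have e3 : (a - 1) * s = -(s - a * s) := by ring
    rw [e3]
    exact (dvd_neg).mpr e2
  -- the index of P in its normalizer
  set N : Subgroup G := Subgroup.normalizer ((P : Subgroup G) : Set G) with hN
  set kk : ℕ := (P : Subgroup G).relIndex N with hkk
  have hkk' : ¬ p ∣ kk := by
    intro hdvd
    exact P.not_dvd_index (dvd_trans hdvd (Subgroup.relIndex_dvd_index_of_le Subgroup.le_normalizer))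
  have hgk : g ^ kk ∈ (P : Subgroup G) := by
    have h0 := Subgroup.pow_index_mem ((P : Subgroup G).subgroupOf N) (⟨g, hg⟩ : N)
    rw [Subgroup.mem_subgroupOf] at h0
    have h0' : g ^ ((P : Subgroup G).subgroupOf N).index ∈ (P : Subgroup G) := by simpa using h0
    exact h0'
  have hconj : ∀ j : ℕ, g ^ j * u * (g ^ j)⁻¹ = u ^ (a ^ j) := by
    intro j
    induction j with
    | zero => simp
    | succ j ih =>
      have e1 : g ^ (j + 1) * u * (g ^ (j + 1))⁻¹ = g * (g ^ j * u * (g ^ j)⁻¹) * g⁻¹ := by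
        rw [pow_succ']; group
      rw [e1, ih, ← conj_zpow, ← ha, ← zpow_mul, pow_succ']
  have h3 : ((p ^ n : ℕ) : ℤ) ∣ a ^ kk - 1 := by
    obtain ⟨m, hm⟩ := hpow _ hgk
    have e0 : g ^ kk * u * (g ^ kk)⁻¹ = u := by
      rw [← hm]
      have : Commute (u ^ m) u := (Commute.refl u).zpow_left m
      rw [this.eq]; group
    have e1 : u ^ (a ^ kk) = u ^ (1 : ℤ) := by
      rw [← hconj kk, e0, zpow_one]
    have e2 := (zpow_eq_zpow_iff_modEq.mp e1).dvd
    rw [hq] at e2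
    have e3 : a ^ kk - 1 = -(1 - a ^ kk) := by ring
    rw [e3]
    exact (dvd_neg).mpr e2
  have h4 := nt_aux hp.out n a s kk hkk' h1 hs' h3
  have hgu : g * u * g⁻¹ = u := by
    rw [← ha]
    have e1 : a ≡ 1 [ZMOD (orderOf u : ℤ)] := by
      rw [hq]
      exact (Int.modEq_iff_dvd.mpr (by
        have e3 : (1 : ℤ) - a = -(a - 1) := by ring
        rw [e3]; exact (dvd_neg).mpr h4))
    have := zpow_eq_zpow_iff_modEq.mpr e1
    rw [this, zpow_one]
  rw [Subgroup.mem_centralizer_iff]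
  intro y hy
  obtain ⟨m, hm⟩ := hpow y hy
  have e1 : g * y * g⁻¹ = y := by
    rw [← hm, ← conj_zpow, hgu]
  calc y * g = (g * y * g⁻¹) * g := by rw [e1]
    _ = g * y := by group

/-- Let G be a finite group, p a prime and x ∈ G an element of p-power order which is isolated in G. Then the image of x in any quotient G ⧸ N is isolated in G ⧸ N; and if x ≠ 1 and the Sylow p-subgroups of G are cyclic, then G has a normal p-complement. -/
theorem result {G : Type*} [Group G] [Finite G] {p : ℕ} [Fact p.Prime] (x : G) (hx : ∃ k : ℕ, orderOf x = p ^ k) (hiso : Cfsg.IsIsolated x) : (∀ (N : Subgroup G) [N.Normal], Cfsg.IsIsolated (QuotientGroup.mk x : G ⧸ N)) ∧ (x ≠ 1 → (∀ P : Sylow p G, IsCyclic ↥(P : Subgroup G)) → Cfsg.HasNormalPComplement p G) := by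
  classical
  refine ⟨?_, ?_⟩
  · intro N _ gbar hcomm
    obtain ⟨g, rfl⟩ := QuotientGroup.mk_surjective gbar
    set S : Set (G ⧸ N) := {(QuotientGroup.mk x : G ⧸ N), (QuotientGroup.mk (g * x * g⁻¹) : G ⧸ N)} with hS
    set H : Subgroup G := (Subgroup.closure S).comap (QuotientGroup.mk' N) with hH
    have hxH : x ∈ H := by
      show (QuotientGroup.mk' N) x ∈ Subgroup.closure S
      exact Subgroup.subset_closure (by simp [hS])
    have hgH : g * x * g⁻¹ ∈ H := by
      show (QuotientGroup.mk' N) (g * x * g⁻¹) ∈ Subgroup.closure S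
      exact Subgroup.subset_closure (by simp [hS])
    obtain ⟨h, hhH, hh⟩ := Cfsg.Agent.Lib.Helper49.isolated_conj_in_subgroup hx hiso H hxH g hgH
    have hcomm' : (QuotientGroup.mk x : G ⧸ N) * (QuotientGroup.mk (g * x * g⁻¹) : G ⧸ N)
        = (QuotientGroup.mk (g * x * g⁻¹) : G ⧸ N) * (QuotientGroup.mk x : G ⧸ N) := by
      have := hcomm.eq
      simpa using this
    have hcent : (QuotientGroup.mk (g * x * g⁻¹) : G ⧸ N) ∈ Subgroup.centralizer S := by
      rw [Subgroup.mem_centralizer_iff]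
      intro y hy
      rcases hy with rfl | hy
      · exact hcomm'
      · rw [Set.mem_singleton_iff] at hy
        rw [hy]
    have h5 : (QuotientGroup.mk h : G ⧸ N) ∈
        Subgroup.centralizer (Subgroup.centralizer S : Set (G ⧸ N)) :=
      Subgroup.closure_le_centralizer_centralizer S hhH
    have h6 := Subgroup.mem_centralizer_iff.mp h5 _ hcent
    have h7 : (QuotientGroup.mk ((h * g) * x * (h * g)⁻¹) : G ⧸ N) = (QuotientGroup.mk x : G ⧸ N) := by
      rw [hh]
    have h8 : (QuotientGroup.mk ((h * g) * x * (h * g)⁻¹) : G ⧸ N)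
        = (QuotientGroup.mk h : G ⧸ N) * (QuotientGroup.mk (g * x * g⁻¹) : G ⧸ N) * (QuotientGroup.mk h : G ⧸ N)⁻¹ := by
      rw [← QuotientGroup.mk_inv, ← QuotientGroup.mk_mul, ← QuotientGroup.mk_mul]
      congr 1
      group
    rw [h8, ← h6] at h7
    have h9 : (QuotientGroup.mk (g * x * g⁻¹) : G ⧸ N) = (QuotientGroup.mk x : G ⧸ N) := by
      rw [← h7]; group
    simpa using h9
  · intro hx1 hcyc
    obtain ⟨k, hk⟩ := hx
    have hpx : IsPGroup p (Subgroup.zpowers x) :=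
      IsPGroup.of_card (n := k) (by rw [Nat.card_zpowers, hk])
    obtain ⟨P, hP⟩ := hpx.exists_le_sylow
    have hxP : x ∈ (P : Subgroup G) := hP (Subgroup.mem_zpowers x)
    have hNC := normalizer_le_centralizer_of_isolated x hiso hx1 P hxP (hcyc P)
    exact ⟨P, (MonoidHom.transferSylow P hNC).ker, MonoidHom.normal_ker _,
      MonoidHom.ker_transferSylow_isComplement' P hNC⟩

end Cfsg.Agent.S2970
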