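import Cfsg.Statements.S2971
import Cfsg.Agent.S0016
import Cfsg.Agent.Lib.Helper54.Frobenius
import Cfsg.Agent.Lib.Helper50.LargeAbelian

set_option autoImplicit false
open Cfsg

namespace Cfsg.Agent.S2971

open Cfsg.Agent.Lib.Helper50 Cfsg.Agent.Lib.Helper54

lemma conj_pow_eq' {G : Type*} [Group G] (g w : G) (l : ℕ) (h : g * w * g⁻¹ = w ^ l) (j : ℕ) :
    g ^ j * w * (g ^ j)⁻¹ = w ^ (l ^ j) := by
  induction j with
  | zero => simp
  | succ j ih =>
    calc g ^ (j + 1) * w * (g ^ (j + 1))⁻¹ = g * (g ^ j * w * (g ^ j)⁻¹) * g⁻¹ := by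
          rw [pow_succ']; group
      _ = g * w ^ (l ^ j) * g⁻¹ := by rw [ih]
      _ = (g * w * g⁻¹) ^ (l ^ j) := by rw [conj_pow]
      _ = w ^ (l ^ (j + 1)) := by rw [h, ← pow_mul, pow_succ']

lemma exists_nat_pow_of_mem_zpowers {G : Type*} [Group G] [Finite G] (w a : G)
    (h : a ∈ Subgroup.zpowers w) : ∃ l : ℕ, a = w ^ l := by
  obtain ⟨k, hk⟩ := h
  refine ⟨(k % (orderOf w : ℤ)).toNat, ?_⟩
  have hpos : (0 : ℤ) < orderOf w := by exact_mod_cast orderOf_pos w
  rw [← hk, ← zpow_natCast, Int.toNat_of_nonneg (Int.emod_nonneg _ hpos.ne'), zpow_mod_orderOf]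

/-- A `p'`-element normalizing a cyclic `p`-group and centralizing an element of order `p` of
it centralizes the group. -/
lemma centralizes_cyclic {G : Type*} [Group G] [Finite G] {p : ℕ} [Fact p.Prime] (g w x : G)
    (c : ℕ) (hw : orderOf w = p ^ c)
    (hgw : g * w * g⁻¹ ∈ Subgroup.zpowers w) (hx : x ∈ Subgroup.zpowers w) (hxo : orderOf x = p)
    (hgx : g * x * g⁻¹ = x) (hg : (orderOf g).Coprime p) : g * w * g⁻¹ = w := by
  have hp : p.Prime := Fact.out
  obtain ⟨l, hl⟩ := exists_nat_pow_of_mem_zpowers w _ hgw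
  obtain ⟨m, hm⟩ := exists_nat_pow_of_mem_zpowers w _ hx
  have h1 : w ^ (l * m) = w ^ m := by
    have h : g * x * g⁻¹ = (g * w * g⁻¹) ^ m := by rw [hm, conj_pow]
    rw [hgx, hl, ← pow_mul] at h
    rw [← h, hm]
  have h2 : l * m ≡ m [MOD p ^ c] := by rw [← hw]; exact pow_eq_pow_iff_modEq.mp h1
  have h3 : p ^ c / Nat.gcd (p ^ c) m = p := by
    have := hxo
    rw [hm, orderOf_pow, hw] at this
    exact this
  set d := Nat.gcd (p ^ c) m with hd
  have hd1 : d ∣ p ^ c := Nat.gcd_dvd_left _ _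
  have hd2 : d ∣ m := Nat.gcd_dvd_right _ _
  have hdp : d * p = p ^ c := by
    have := Nat.mul_div_cancel' hd1
    rw [h3] at this
    exact this
  have hdpos : 0 < d := by
    rcases Nat.eq_zero_or_pos d with h | h
    · rw [h, zero_mul] at hdp
      exact absurd hdp.symm (pow_pos hp.pos c).ne'
    · exact h
  obtain ⟨u, hu⟩ := hd2
  have hpu : ¬ p ∣ u := by
    rintro ⟨v, hv⟩
    have h4 : p ^ c ∣ m := by rw [hu, hv, ← mul_assoc, hdp]; exact dvd_mul_right _ _
    have h5 : p ^ c ∣ d := Nat.dvd_gcd dvd_rfl h4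
    rw [← hdp] at h5
    have h6 : d * p ∣ d * 1 := by simpa using h5
    have h7 : p ∣ 1 := Nat.dvd_of_mul_dvd_mul_left hdpos h6
    exact hp.one_lt.ne' (Nat.dvd_one.mp h7)
  have h4 : (p : ℤ) ∣ (l : ℤ) - 1 := by
    have h5 : ((p ^ c : ℕ) : ℤ) ∣ (m : ℤ) - ((l * m : ℕ) : ℤ) := (Nat.modEq_iff_dvd).mp h2
    rw [← hdp, hu] at h5
    push_cast at h5
    have h6 : (d : ℤ) * p ∣ (d : ℤ) * ((u : ℤ) * (1 - l)) := by
      have e : (d : ℤ) * u - l * (d * u) = (d : ℤ) * ((u : ℤ) * (1 - l)) := by ring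
      rw [e] at h5; exact h5
    have h7 : (p : ℤ) ∣ (u : ℤ) * (1 - l) :=
      Int.dvd_of_mul_dvd_mul_left (by exact_mod_cast hdpos.ne') h6
    have hpi : Prime (p : ℤ) := Nat.prime_iff_prime_int.mp hp
    rcases hpi.dvd_or_dvd h7 with h8 | h8
    · exact absurd (Int.natCast_dvd_natCast.mp h8) hpu
    · have : (l : ℤ) - 1 = -(1 - l) := by ring
      rw [this]; exact (dvd_neg).mpr h8
  have h5 : (p : ℤ) ^ (c + 1) ∣ (l : ℤ) ^ p ^ c - 1 ^ p ^ c := dvd_sub_pow_of_dvd_sub h4 c
  have h6 : l ^ p ^ c ≡ 1 [MOD p ^ c] := by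
    apply Nat.ModEq.symm
    rw [Nat.modEq_iff_dvd]
    push_cast
    rw [one_pow] at h5
    exact dvd_trans (pow_dvd_pow _ (Nat.le_succ c)) h5
  have h7 : g ^ (p ^ c) * w * (g ^ (p ^ c))⁻¹ = w := by
    rw [conj_pow_eq' g w l hl]
    have : w ^ (l ^ p ^ c) = w ^ 1 := by
      rw [pow_eq_pow_iff_modEq, hw]; exact h6
    rw [this, pow_one]
  have hcop : (p ^ c).Coprime (orderOf g) := (Nat.Coprime.pow_right c hg).symm
  obtain ⟨j, hj⟩ := exists_pow_eq_self_of_coprime hcop
  have hcomm : Commute (g ^ (p ^ c)) w := by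
    have : g ^ (p ^ c) * w = w * g ^ (p ^ c) := by
      calc g ^ (p ^ c) * w = (g ^ (p ^ c) * w * (g ^ (p ^ c))⁻¹) * g ^ (p ^ c) := by group
        _ = w * g ^ (p ^ c) := by rw [h7]
    exact this
  have hcomm2 : Commute g w := by
    have := hcomm.pow_left j
    rwa [hj] at this
  rw [hcomm2.eq]; group

/-- In a group of `p`-rank at most one, every subgroup of order `p` of a Sylow `p`-subgroup
coincides with a fixed central one. -/
lemma unique_order_p {G : Type*} [Group G] [Finite G] {p : ℕ} [Fact p.Prime]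
    (hrk : Cfsg.PRankLE p 1 G) (P : Sylow p G) (z : G)
    (hzc : ∀ y ∈ (P : Subgroup G), y * z = z * y) (hzo : orderOf z = p)
    (H : Subgroup G) (hHP : H ≤ P) (hH : Nat.card H = p) : H = Subgroup.zpowers z := by
  have hZc : Subgroup.zpowers z ≤ Subgroup.centralizer (H : Set G) := by
    rw [Subgroup.zpowers_le, Subgroup.mem_centralizer_iff]
    intro h hh
    exact hzc h (hHP hh)
  have hHcomm : IsMulCommutative H := by
    have : IsCyclic H := isCyclic_of_prime_card hH
    infer_instance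
  have hZcomm : IsMulCommutative (Subgroup.zpowers z) := inferInstance
  have hA := isMulCommutative_sup H (Subgroup.zpowers z) hHcomm hZcomm hZc
  have hexp : ∀ a ∈ H ⊔ Subgroup.zpowers z, a ^ p = 1 := by
    intro a ha
    obtain ⟨h, hh, k, hk, rfl⟩ := exists_mul_of_mem_sup_of_le_centralizer H _ hZc ha
    have hcomm : Commute h k := (Subgroup.mem_centralizer_iff.mp (hZc hk) h hh)
    rw [hcomm.mul_pow]
    have h1 : h ^ p = 1 := by
      have := Subgroup.orderOf_dvd_natCard H hh
      rw [hH] at this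
      exact orderOf_dvd_iff_pow_eq_one.mp this
    have h2 : k ^ p = 1 := by
      have := Subgroup.orderOf_dvd_natCard _ hk
      rw [Nat.card_zpowers, hzo] at this
      exact orderOf_dvd_iff_pow_eq_one.mp this
    rw [h1, h2, one_mul]
  have hcard := hrk _ hA hexp
  rw [pow_one] at hcard
  have e1 : H = H ⊔ Subgroup.zpowers z :=
    Subgroup.eq_of_le_of_card_ge le_sup_left (by rw [hH]; exact hcard)
  have e2 : Subgroup.zpowers z = H ⊔ Subgroup.zpowers z :=
    Subgroup.eq_of_le_of_card_ge le_sup_right (by rw [Nat.card_zpowers, hzo]; exact hcard)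
  exact e1.trans e2.symm

/-- Let G be a finite group and p an odd prime such that G has p-rank at most 1 (no elementary abelian subgroup of order p²). If x ∈ G is an isolated element of order p, then x is central modulo the largest normal subgroup of G of order prime to p. -/
theorem result {G : Type*} [Group G] [Finite G] {p : ℕ} [Fact p.Prime] (hp : p ≠ 2) (hrk : Cfsg.PRankLE p 1 G) (x : G) (hx : orderOf x = p) (hiso : Cfsg.IsIsolated x) : Cfsg.InZStar p x := by
  have hpp : p.Prime := Fact.out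
  have hxp : IsPGroup p (Subgroup.zpowers x) :=
    IsPGroup.of_card (n := 1) (by rw [Nat.card_zpowers, hx, pow_one])
  obtain ⟨P, hxP⟩ := hxp.exists_le_sylow
  have hxP' : x ∈ (P : Subgroup G) := hxP (Subgroup.mem_zpowers x)
  have hx1 : x ≠ 1 := by
    intro h
    rw [h, orderOf_one] at hx
    exact hpp.one_lt.ne hx
  -- a central element of order p
  obtain ⟨z, hzP, hzc, hzo⟩ : ∃ z : G, z ∈ (P : Subgroup G) ∧
      (∀ y ∈ (P : Subgroup G), y * z = z * y) ∧ orderOf z = p := by
    have : Nontrivial ↥(P : Subgroup G) :=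
      ⟨⟨⟨x, hxP'⟩, 1, fun h => hx1 (congrArg Subtype.val h)⟩⟩
    have := IsPGroup.center_nontrivial P.2
    have hcp : IsPGroup p (Subgroup.center ↥(P : Subgroup G)) := P.2.to_subgroup _
    have hdvd : p ∣ Nat.card (Subgroup.center ↥(P : Subgroup G)) := by
      rcases hcp.card_eq_or_dvd with h | h
      · exact absurd h (Finite.one_lt_card).ne'
      · exact h
    obtain ⟨z₀, hz₀⟩ := exists_prime_orderOf_dvd_card' p hdvd
    refine ⟨((z₀ : ↥(P : Subgroup G)) : G), (z₀ : ↥(P : Subgroup G)).2, ?_, ?_⟩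
    · intro y hy
      have := Subgroup.mem_center_iff.mp z₀.2 ⟨y, hy⟩
      exact congrArg Subtype.val this
    · rw [Subgroup.orderOf_coe, Subgroup.orderOf_coe]; exact hz₀
  have huniq : ∀ H : Subgroup G, H ≤ P → Nat.card H = p → H = Subgroup.zpowers z :=
    fun H hHP hH => unique_order_p hrk P z hzc hzo H hHP hH
  -- P is cyclic
  have hcyc : IsCyclic ↥(P : Subgroup G) := by
    have h16 := Cfsg.Agent.S0016.result (G := ↥(P : Subgroup G)) p P.2 ?_
    · rcases h16 with h | ⟨h2, -⟩
      · exact h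
      · exact absurd h2 hp
    · intro H K hH hK
      have h1 : H.map (P : Subgroup G).subtype = Subgroup.zpowers z :=
        huniq _ (Subgroup.map_subtype_le H)
          (by rw [Subgroup.card_map_of_injective (Subgroup.subtype_injective _)]; exact hH)
      have h2 : K.map (P : Subgroup G).subtype = Subgroup.zpowers z :=
        huniq _ (Subgroup.map_subtype_le K)
          (by rw [Subgroup.card_map_of_injective (Subgroup.subtype_injective _)]; exact hK)
      exact Subgroup.map_injective (Subgroup.subtype_injective _) (h1.trans h2.symm)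
  have hPcomm : ∀ a ∈ (P : Subgroup G), ∀ b ∈ (P : Subgroup G), a * b = b * a := by
    intro a ha b hb
    have := mul_comm' (⟨a, ha⟩ : ↥(P : Subgroup G)) ⟨b, hb⟩
    exact congrArg Subtype.val this
  have hxz : Subgroup.zpowers x = Subgroup.zpowers z :=
    huniq _ hxP (by rw [Nat.card_zpowers, hx])
  -- Frobenius condition
  have hF : FrobeniusCondition p G := by
    apply frobeniusCondition_of_le_sylow P
    intro Q hQP g hg hgp
    have : IsCyclic ↥Q := Subgroup.isCyclic_of_le hQP
    obtain ⟨w, hw⟩ := (Subgroup.isCyclic_iff_exists_zpowers_eq_top Q).mp inferInstance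
    have hwQ : w ∈ Q := by rw [← hw]; exact Subgroup.mem_zpowers w
    by_cases hQbot : Q = ⊥
    · rw [hQbot, Subgroup.mem_centralizer_iff]
      intro h hh
      have : h = 1 := hh
      rw [this, one_mul, mul_one]
    -- order of w
    obtain ⟨c, hc⟩ : ∃ c, orderOf w = p ^ c := by
      obtain ⟨k, hk⟩ := P.2 ⟨w, hQP hwQ⟩
      have h1 : orderOf w ∣ p ^ k := by
        apply orderOf_dvd_of_pow_eq_one
        have := congrArg Subtype.val hk
        simpa using this
      obtain ⟨c, -, hc⟩ := (Nat.dvd_prime_pow hpp).mp h1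
      exact ⟨c, hc⟩
    -- x ∈ Q
    have hxQ : x ∈ Q := by
      have hQp : IsPGroup p Q := P.2.to_le hQP
      have hdvd : p ∣ Nat.card Q := by
        rcases hQp.card_eq_or_dvd with h | h
        · exact absurd (Subgroup.card_eq_one.mp h) hQbot
        · exact h
      obtain ⟨v, hv⟩ := exists_prime_orderOf_dvd_card' p hdvd
      have h1 : Subgroup.zpowers (v : G) = Subgroup.zpowers z :=
        huniq _ ((Subgroup.zpowers_le.mpr v.2).trans hQP)
          (by rw [Nat.card_zpowers, Subgroup.orderOf_coe]; exact hv)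
      have h2 : x ∈ Subgroup.zpowers (v : G) := by
        rw [h1, ← hxz]; exact Subgroup.mem_zpowers x
      exact (Subgroup.zpowers_le.mpr v.2) h2
    have hgx : g * x * g⁻¹ = x := by
      apply hiso g
      have h1 : g * x * g⁻¹ ∈ Q := (Subgroup.mem_normalizer_iff.mp hg x).mp hxQ
      exact hPcomm x hxP' _ (hQP h1)
    have hgw : g * w * g⁻¹ ∈ Subgroup.zpowers w := by
      rw [hw]; exact (Subgroup.mem_normalizer_iff.mp hg w).mp hwQ
    have hxw : x ∈ Subgroup.zpowers w := by rw [hw]; exact hxQ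
    have key := centralizes_cyclic g w x c hc hgw hxw hx hgx hgp
    have hcomm : Commute g w := by
      have : g * w = w * g := by
        calc g * w = (g * w * g⁻¹) * g := by group
          _ = w * g := by rw [key]
      exact this
    rw [Subgroup.mem_centralizer_iff]
    intro h hh
    rw [SetLike.mem_coe, ← hw] at hh
    obtain ⟨k, rfl⟩ := hh
    exact ((hcomm.zpow_right k).eq).symm
  obtain ⟨N, hN⟩ := exists_isNormalPComplement_of_frobeniusCondition hF
  have hNle : N ≤ Cfsg.pPrimeCore p G := le_sSup ⟨hN.1, hN.2.1⟩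
  intro g
  apply hNle
  have hc := hN.isComplement' P
  obtain ⟨⟨n, u⟩, hnu⟩ := hc.2 g
  have hnu' : (n : G) * (u : G) = g := hnu
  have hux : (u : G) * x * (u : G)⁻¹ = x := by
    rw [hPcomm _ u.2 x hxP']; group
  have hNn := hN.1
  have e : g * x * g⁻¹ * x⁻¹ = (n : G) * (x * (n : G)⁻¹ * x⁻¹) := by
    rw [← hnu']
    calc (n : G) * u * x * ((n : G) * u)⁻¹ * x⁻¹
        = (n : G) * ((u : G) * x * (u : G)⁻¹) * (n : G)⁻¹ * x⁻¹ := by group
      _ = (n : G) * (x * (n : G)⁻¹ * x⁻¹) := by rw [hux]; group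
  rw [e]
  exact N.mul_mem n.2 (hNn.conj_mem _ (N.inv_mem n.2) x)

end Cfsg.Agent.S2971
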