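import Cfsg.Statements.S2972
import Cfsg.Agent.Lib.Helper50.ZStar
import Cfsg.Agent.Lib.Helper50.Burnside

set_option autoImplicit false
open Cfsg

namespace Cfsg.Agent.S2972

open Cfsg.Agent.Lib.Helper50
open scoped commutatorElement

section Aux

universe u

variable {G : Type u} [Group G]

/-- An abelian normal subgroup of a finite group with trivial `p'`-core is a `p`-group. -/
theorem isPGroup_of_abelian_normal [Finite G] {p : ℕ} [Fact p.Prime]
    (hcore : Cfsg.pPrimeCore p G = ⊥) (N : Subgroup G) [hN : N.Normal]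
    (hab : ∀ a ∈ N, ∀ b ∈ N, a * b = b * a) : IsPGroup p N := by
  have hp : p.Prime := Fact.out
  obtain ⟨k, m, hm, hcard⟩ := Nat.exists_eq_pow_mul_and_not_dvd
    (Nat.card_pos (α := N)).ne' p hp.ne_one
  let I : Subgroup G :=
    { carrier := {b | ∃ a ∈ N, a ^ (p ^ k) = b}
      mul_mem' := by
        rintro _ _ ⟨a, ha, rfl⟩ ⟨b, hb, rfl⟩
        exact ⟨a * b, N.mul_mem ha hb, Commute.mul_pow (hab a ha b hb) _⟩
      one_mem' := ⟨1, N.one_mem, one_pow _⟩
      inv_mem' := by
        rintro _ ⟨a, ha, rfl⟩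
        exact ⟨a⁻¹, N.inv_mem ha, inv_pow _ _⟩ }
  have hIn : I.Normal := by
    constructor
    rintro _ ⟨a, ha, rfl⟩ g
    exact ⟨g * a * g⁻¹, hN.conj_mem a ha g, conj_pow⟩
  have hIm : ∀ b ∈ I, b ^ m = 1 := by
    rintro _ ⟨a, ha, rfl⟩
    rw [← pow_mul, ← hcard]
    have h1 : (⟨a, ha⟩ : N) ^ Nat.card N = 1 := pow_card_eq_one'
    have h2 : (((⟨a, ha⟩ : N) ^ Nat.card N : N) : G) = ((1 : N) : G) := congrArg Subtype.val h1
    rw [Subgroup.coe_pow, Subgroup.coe_one] at h2
    exact h2
  have hIc : (Nat.card I).Coprime p := by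
    rw [Nat.coprime_comm, Nat.Prime.coprime_iff_not_dvd hp]
    intro hdvd
    obtain ⟨b, hb⟩ := exists_prime_orderOf_dvd_card' p hdvd
    have h1 : (b : G) ^ m = 1 := hIm b b.2
    have h2 : orderOf (b : G) ∣ m := orderOf_dvd_of_pow_eq_one h1
    rw [Subgroup.orderOf_coe, hb] at h2
    exact hm h2
  have hIle := Cfsg.Agent.Lib.Helper22.le_pPrimeCore_of_normal p hIn hIc
  rw [hcore] at hIle
  intro g
  refine ⟨k, ?_⟩
  have h1 : (g : G) ^ (p ^ k) ∈ I := ⟨g, g.2, rfl⟩
  have h2 := (Subgroup.mem_bot).mp (hIle h1)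
  apply Subtype.ext
  simpa using h2

/-- Key lemma: in a minimal counterexample, `x` centralizes every normal subgroup `M` with
`M⟨x⟩ ≠ G`. -/
theorem conj_eq_of_normal_of_sup_ne_top [Finite G] {p : ℕ} [Fact p.Prime] (x : G)
    (hcore : Cfsg.pPrimeCore p G = ⊥)
    (hmin : ∀ (H : Subgroup G) (hxH : x ∈ H), H ≠ ⊤ → Cfsg.InZStar p (⟨x, hxH⟩ : ↥H))
    (M : Subgroup G) [hMn : M.Normal] (hM : M ⊔ Subgroup.zpowers x ≠ ⊤) :
    ∀ m ∈ M, m * x * m⁻¹ = x := by
  have hxH : x ∈ M ⊔ Subgroup.zpowers x :=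
    (le_sup_right : Subgroup.zpowers x ≤ _) (Subgroup.mem_zpowers x)
  have hZ := hmin _ hxH hM
  set H : Subgroup G := M ⊔ Subgroup.zpowers x with hH
  have hMH : M ≤ H := le_sup_left
  set D : Subgroup G := (Cfsg.pPrimeCore p ↥H).map H.subtype ⊓ M with hD
  have hDn : (D.subgroupOf M).Normal := by
    constructor
    intro d hd m
    rw [Subgroup.mem_subgroupOf] at hd ⊢
    obtain ⟨d', hd', hdd⟩ := hd.1
    refine ⟨⟨(⟨m, hMH m.2⟩ : ↥H) * d' * (⟨m, hMH m.2⟩ : ↥H)⁻¹,
      (Cfsg.Agent.Lib.Helper22.pPrimeCore_normal' p ↥H).conj_mem d' hd' _, ?_⟩, ?_⟩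
    · rw [map_mul, map_mul, map_inv, hdd]
      rfl
    · exact (m * d * m⁻¹).2
  have hDc : (Nat.card D).Coprime p := by
    have h1 : Nat.card D ∣ Nat.card ((Cfsg.pPrimeCore p ↥H).map H.subtype) :=
      Subgroup.card_dvd_of_le inf_le_left
    rw [Subgroup.card_map_of_injective H.subtype_injective] at h1
    exact Nat.Coprime.coprime_dvd_left h1 (Cfsg.Agent.Lib.Helper22.card_pPrimeCore_coprime p ↥H)
  have hDs : D.IsSubnormal :=
    Subgroup.IsSubnormal.step D M inf_le_right hMn.isSubnormal hDn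
  have hDle := Cfsg.Agent.Lib.Helper22.le_pPrimeCore_of_subnormal p hDs hDc
  rw [hcore] at hDle
  intro m hm
  have h1 := hZ ⟨m, hMH hm⟩
  have h2 : m * x * m⁻¹ * x⁻¹ ∈ D := by
    refine ⟨⟨_, h1, by simp⟩, ?_⟩
    have h3 : x * m⁻¹ * x⁻¹ ∈ M := hMn.conj_mem _ (M.inv_mem hm) x
    have h4 : m * x * m⁻¹ * x⁻¹ = m * (x * m⁻¹ * x⁻¹) := by group
    rw [h4]
    exact M.mul_mem hm h3
  have h5 := (Subgroup.mem_bot).mp (hDle h2)
  exact mul_inv_eq_one.mp h5

/-- A normal subgroup containing `x` is everything, in a minimal counterexample. -/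
theorem eq_top_of_normal_of_mem [Finite G] {p : ℕ} [Fact p.Prime] (x : G)
    (hiso : Cfsg.IsIsolated x) (hnc : ¬ ∀ g : G, g * x * g⁻¹ = x)
    (hcore : Cfsg.pPrimeCore p G = ⊥)
    (hmin : ∀ (H : Subgroup G) (hxH : x ∈ H), H ≠ ⊤ → Cfsg.InZStar p (⟨x, hxH⟩ : ↥H))
    (M : Subgroup G) [hMn : M.Normal] (hxM : x ∈ M) : M = ⊤ := by
  by_contra hne
  have h1 : M ⊔ Subgroup.zpowers x ≠ ⊤ := by
    rw [sup_eq_left.mpr ((Subgroup.zpowers_le).mpr hxM)]
    exact hne
  have h2 := conj_eq_of_normal_of_sup_ne_top x hcore hmin M h1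
  apply hnc
  intro g
  apply hiso
  have h3 := h2 (g * x * g⁻¹) (hMn.conj_mem x hxM g)
  exact (mul_inv_eq_iff_eq_mul.mp h3).symm

/-- A subgroup containing the derived subgroup is normal. -/
theorem normal_of_commutator_le (H : Subgroup G) (h : commutator G ≤ H) : H.Normal := by
  constructor
  intro a ha g
  have h1 : ⁅g, a⁆ ∈ commutator G := by
    rw [commutator_def]
    exact Subgroup.commutator_mem_commutator (Subgroup.mem_top g) (Subgroup.mem_top a)
  have h2 : g * a * g⁻¹ = ⁅g, a⁆ * a := by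
    rw [commutatorElement_def]
    group
  rw [h2]
  exact H.mul_mem (h h1) ha

/-- The centre of a minimal counterexample is trivial. -/
theorem center_eq_bot [Finite G] {p : ℕ} [Fact p.Prime] (x : G)
    (hiso : Cfsg.IsIsolated x) (hnc : ¬ ∀ g : G, g * x * g⁻¹ = x)
    (hcore : Cfsg.pPrimeCore p G = ⊥)
    (hquot : ∀ (N : Subgroup G) [N.Normal], N ≠ ⊥ →
      Cfsg.InZStar p (QuotientGroup.mk x : G ⧸ N)) :
    Subgroup.center G = ⊥ := by
  have hp : p.Prime := Fact.out
  by_contra hZ
  have hq := hquot (Subgroup.center G) hZ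
  have hZp : IsPGroup p (Subgroup.center G) :=
    isPGroup_of_abelian_normal hcore _ (fun a _ b hb => (Subgroup.mem_center_iff.mp hb a))
  have hLn : ((Cfsg.pPrimeCore p (G ⧸ Subgroup.center G)).comap
      (QuotientGroup.mk' (Subgroup.center G))).Normal :=
    (Cfsg.Agent.Lib.Helper22.pPrimeCore_normal' p _).comap _
  have hrel : (Subgroup.center G).relIndex ((Cfsg.pPrimeCore p (G ⧸ Subgroup.center G)).comap
      (QuotientGroup.mk' (Subgroup.center G)))
      = Nat.card (Cfsg.pPrimeCore p (G ⧸ Subgroup.center G)) := by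
    have h1 := Subgroup.relIndex_comap (H := (⊥ : Subgroup (G ⧸ Subgroup.center G)))
      (QuotientGroup.mk' (Subgroup.center G))
      ((Cfsg.pPrimeCore p (G ⧸ Subgroup.center G)).comap (QuotientGroup.mk' (Subgroup.center G)))
    rw [MonoidHom.comap_bot, QuotientGroup.ker_mk'] at h1
    rw [h1, Subgroup.relIndex_bot_left,
      Subgroup.map_comap_eq_self_of_surjective (QuotientGroup.mk'_surjective _)]
  set L : Subgroup G := (Cfsg.pPrimeCore p (G ⧸ Subgroup.center G)).comap
      (QuotientGroup.mk' (Subgroup.center G)) with hL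
  have hidx : ¬ p ∣ ((Subgroup.center G).subgroupOf L).index := by
    have h0 : ((Subgroup.center G).subgroupOf L).index = (Subgroup.center G).relIndex L := rfl
    rw [h0, hrel]
    exact (Nat.Prime.coprime_iff_not_dvd hp).mp
      (Cfsg.Agent.Lib.Helper22.card_pPrimeCore_coprime p _).symm
  have hPN : Subgroup.normalizer
      ((((hZp.comap_subtype (K := L)).toSylow hidx : Sylow p ↥L) : Subgroup ↥L) : Set ↥L)
      ≤ Subgroup.centralizer (((hZp.comap_subtype (K := L)).toSylow hidx : Sylow p ↥L) : Set ↥L) := by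
    intro l _
    rw [Subgroup.mem_centralizer_iff]
    intro z hz
    have hz' : (z : G) ∈ Subgroup.center G := hz
    apply Subtype.ext
    rw [Subgroup.coe_mul, Subgroup.coe_mul]
    exact ((Subgroup.mem_center_iff.mp hz' l).symm)
  have hcomp := pPrimeCore_isComplement' _ hPN
  have hcoreL : Cfsg.pPrimeCore p ↥L = ⊥ := by
    have h1 := Cfsg.Agent.Lib.Helper22.pPrimeCore_map_subtype_le_of_normal p L
    rw [hcore] at h1
    rw [eq_bot_iff]
    intro a ha
    have h2 : (a : G) ∈ (Cfsg.pPrimeCore p ↥L).map L.subtype := ⟨a, ha, rfl⟩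
    have h3 := (Subgroup.mem_bot).mp (h1 h2)
    rw [Subgroup.mem_bot]
    exact Subtype.ext h3
  rw [hcoreL, Subgroup.isComplement'_bot_left] at hcomp
  have hLZ : L ≤ Subgroup.center G := by
    intro l hl
    have h1 : (⟨l, hl⟩ : ↥L) ∈
        (((hZp.comap_subtype (K := L)).toSylow hidx : Sylow p ↥L) : Subgroup ↥L) := by
      rw [hcomp]
      trivial
    exact h1
  apply hnc
  intro g
  apply hiso
  have hc : g * x * g⁻¹ * x⁻¹ ∈ L := by
    rw [hL, Subgroup.mem_comap]
    have h1 := hq (QuotientGroup.mk' (Subgroup.center G) g)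
    simpa using h1
  have hc' := Subgroup.mem_center_iff.mp (hLZ hc) x
  show x * (g * x * g⁻¹) = (g * x * g⁻¹) * x
  calc x * (g * x * g⁻¹) = (x * (g * x * g⁻¹ * x⁻¹)) * x := by group
    _ = ((g * x * g⁻¹ * x⁻¹) * x) * x := by rw [hc']
    _ = (g * x * g⁻¹) * x := by group

/-- In a minimal counterexample every nontrivial normal subgroup contains the derived subgroup. -/
theorem commutator_le_of_normal [Finite G] {p : ℕ} [Fact p.Prime] (x : G)
    (hiso : Cfsg.IsIsolated x) (hnc : ¬ ∀ g : G, g * x * g⁻¹ = x)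
    (hcore : Cfsg.pPrimeCore p G = ⊥)
    (hmin : ∀ (H : Subgroup G) (hxH : x ∈ H), H ≠ ⊤ → Cfsg.InZStar p (⟨x, hxH⟩ : ↥H))
    (hcenter : Subgroup.center G = ⊥)
    (M : Subgroup G) [hMn : M.Normal] (hM : M ≠ ⊥) : commutator G ≤ M := by
  by_cases hsup : M ⊔ Subgroup.zpowers x = ⊤
  · rw [commutator_def, Subgroup.commutator_le]
    intro g₁ _ g₂ _
    have hg₁ : g₁ ∈ M ⊔ Subgroup.zpowers x := by rw [hsup]; trivial
    have hg₂ : g₂ ∈ M ⊔ Subgroup.zpowers x := by rw [hsup]; trivial
    rw [Subgroup.mem_sup_of_normal_left] at hg₁ hg₂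
    obtain ⟨m₁, hm₁, y₁, hy₁, rfl⟩ := hg₁
    obtain ⟨m₂, hm₂, y₂, hy₂, rfl⟩ := hg₂
    obtain ⟨i, rfl⟩ := Subgroup.mem_zpowers_iff.mp hy₁
    obtain ⟨j, rfl⟩ := Subgroup.mem_zpowers_iff.mp hy₂
    have h1 : QuotientGroup.mk' M m₁ = 1 := (QuotientGroup.eq_one_iff m₁).mpr hm₁
    have h2 : QuotientGroup.mk' M m₂ = 1 := (QuotientGroup.eq_one_iff m₂).mpr hm₂
    have h3 : QuotientGroup.mk' M ⁅m₁ * x ^ i, m₂ * x ^ j⁆ = 1 := by
      rw [map_commutatorElement, map_mul, map_mul, h1, h2, one_mul, one_mul, map_zpow, map_zpow,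
        commutatorElement_eq_one_iff_commute]
      exact Commute.zpow_zpow_self _ _ _
    exact (QuotientGroup.eq_one_iff _).mp h3
  · have h2 := conj_eq_of_normal_of_sup_ne_top x hcore hmin M hsup
    have hxC : x ∈ Subgroup.centralizer (M : Set G) := by
      rw [Subgroup.mem_centralizer_iff]
      intro m hm
      exact mul_inv_eq_iff_eq_mul.mp (h2 m hm)
    have hC := eq_top_of_normal_of_mem x hiso hnc hcore hmin (Subgroup.centralizer (M : Set G)) hxC
    exfalso
    apply hM
    rw [eq_bot_iff, ← hcenter]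
    intro m hm
    rw [Subgroup.mem_center_iff]
    intro g
    have hg : g ∈ Subgroup.centralizer (M : Set G) := by rw [hC]; trivial
    exact (Subgroup.mem_centralizer_iff.mp hg m hm).symm

end Aux

/-- Let G be a finite group, p a prime and x ∈ G an isolated element of order p (the only conjugate of x commuting with x is x) which is not central modulo the largest normal subgroup of order prime to p, while x is central modulo the largest normal subgroup of order prime to p in every proper subgroup containing x, and the image of x is so in every quotient of G by a nontrivial normal subgroup (a minimal counterexample to the Z*_p statement). Then the derived subgroup G' is a non-abelian simple group and G = G'⟨x⟩. -/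
theorem result {G : Type*} [Group G] [Finite G] {p : ℕ} [Fact p.Prime] (x : G) (hx : orderOf x = p) (hiso : Cfsg.IsIsolated x) (hnz : ¬ Cfsg.InZStar p x) (hmin : ∀ (H : Subgroup G) (hxH : x ∈ H), H ≠ ⊤ → Cfsg.InZStar p (⟨x, hxH⟩ : ↥H)) (hquot : ∀ (N : Subgroup G) [N.Normal], N ≠ ⊥ → Cfsg.InZStar p (QuotientGroup.mk x : G ⧸ N)) : IsSimpleGroup ↥(commutator G) ∧ ¬ IsMulCommutative ↥(commutator G) ∧ commutator G ⊔ Subgroup.zpowers x = ⊤ := by
  have hp : p.Prime := Fact.out
  have hcore := pPrimeCore_eq_bot_of_quot x hnz hquot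
  have hnc : ¬ ∀ g : G, g * x * g⁻¹ = x := fun h =>
    hnz (fun g => by rw [h g, mul_inv_cancel]; exact one_mem _)
  have hcenter := center_eq_bot x hiso hnc hcore hquot
  have hsup : commutator G ⊔ Subgroup.zpowers x = ⊤ := by
    have := normal_of_commutator_le (commutator G ⊔ Subgroup.zpowers x) le_sup_left
    exact eq_top_of_normal_of_mem x hiso hnc hcore hmin _
      ((le_sup_right : Subgroup.zpowers x ≤ _) (Subgroup.mem_zpowers x))
  have hle : ∀ (M : Subgroup G) [M.Normal], M ≠ ⊥ → commutator G ≤ M := fun M _ hM =>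
    commutator_le_of_normal x hiso hnc hcore hmin hcenter M hM
  have hx1 : x ≠ 1 := by
    rintro rfl
    rw [orderOf_one] at hx
    exact hp.ne_one hx.symm
  have hnab : ¬ IsMulCommutative ↥(commutator G) := by
    intro hab
    have hG'p : IsPGroup p (commutator G) :=
      isPGroup_of_abelian_normal hcore _ (fun a ha b hb => by
        have h1 := hab.is_comm.comm (⟨a, ha⟩ : commutator G) ⟨b, hb⟩
        exact congrArg Subtype.val h1)
    have htop : IsPGroup p (commutator G ⊔ Subgroup.zpowers x : Subgroup G) :=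
      hG'p.to_sup_of_normal_left (isPGroup_zpowers_of_orderOf x hx)
    rw [hsup] at htop
    have hG : IsPGroup p G := htop.of_equiv Subgroup.topEquiv
    have : Nontrivial G := ⟨⟨x, 1, hx1⟩⟩
    have h1 := hG.center_nontrivial
    exact (Subgroup.nontrivial_iff_ne_bot _).mp h1 hcenter
  have hG'ne : commutator G ≠ ⊥ := by
    intro h
    apply hnab
    have : Subsingleton ↥(commutator G) := by
      rw [h]
      infer_instance
    exact ⟨⟨fun a b => Subsingleton.elim _ _⟩⟩
  refine ⟨?_, hnab, hsup⟩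
  have : Nontrivial ↥(commutator G) := (Subgroup.nontrivial_iff_ne_bot _).mpr hG'ne
  refine ⟨fun N hN => ?_⟩
  by_cases hNbot : N = ⊥
  · exact Or.inl hNbot
  right
  have hN'ne : N.map (commutator G).subtype ≠ ⊥ := by
    intro h
    apply hNbot
    rw [eq_bot_iff]
    intro a ha
    have h1 : (a : G) ∈ N.map (commutator G).subtype := ⟨a, ha, rfl⟩
    rw [h, Subgroup.mem_bot] at h1
    rw [Subgroup.mem_bot]
    exact Subtype.ext h1
  have hN'le : N.map (commutator G).subtype ≤ commutator G := Subgroup.map_subtype_le N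
  have hN'norm : commutator G ≤ Subgroup.normalizer
      ((N.map (commutator G).subtype : Subgroup G) : Set G) := by
    intro a ha
    apply Subgroup.le_normalizer_map (commutator G).subtype
    refine ⟨⟨a, ha⟩, ?_, rfl⟩
    rw [Subgroup.normalizer_eq_top_iff.mpr hN]
    trivial
  obtain ⟨M, hMN, hMmin⟩ := exists_minimal_le_of_wellFoundedLT
    (fun M : Subgroup G => M ≠ ⊥ ∧ M ≤ commutator G ∧
      commutator G ≤ Subgroup.normalizer (M : Set G))
    (N.map (commutator G).subtype) ⟨hN'ne, hN'le, hN'norm⟩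
  obtain ⟨⟨hMne, hMle, hMnorm⟩, hMmin'⟩ := hMmin
  have hclaim : commutator G ≤ M := by
    have hpM : p ∣ Nat.card M := by
      by_contra hnd
      have hc : (Nat.card M).Coprime p := ((Nat.Prime.coprime_iff_not_dvd hp).mpr hnd).symm
      have hMsub : M.IsSubnormal :=
        Subgroup.IsSubnormal.step M (commutator G) hMle
          (inferInstance : (commutator G).Normal).isSubnormal
          (Subgroup.normal_subgroupOf_of_le_normalizer hMnorm)
      have h1 := Cfsg.Agent.Lib.Helper22.le_pPrimeCore_of_subnormal p hMsub hc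
      rw [hcore] at h1
      exact hMne (le_bot_iff.mp h1)
    obtain ⟨t, ht⟩ := exists_prime_orderOf_dvd_card' p hpM
    have htG : orderOf (t : G) = p := by
      rw [Subgroup.orderOf_coe]
      exact ht
    obtain ⟨P, hP⟩ := (isPGroup_zpowers_of_orderOf (t : G) htG).exists_le_sylow
    obtain ⟨Q, hQ⟩ := (isPGroup_zpowers_of_orderOf x hx).exists_le_sylow
    obtain ⟨g, hg⟩ := MulAction.exists_smul_eq G Q P
    have hx'P : g * x * g⁻¹ ∈ (P : Subgroup G) := by
      rw [← hg, Sylow.coe_subgroup_smul, Subgroup.mem_pointwise_smul_iff_inv_smul_mem]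
      have h1 : (MulAut.conj g)⁻¹ • (g * x * g⁻¹) = x := by
        rw [← map_inv, MulAut.smul_def, MulAut.conj_apply]
        group
      rw [h1]
      exact hQ (Subgroup.mem_zpowers x)
    have hiso' := isIsolated_conj hiso g
    have hcomm : Commute (g * x * g⁻¹) (t : G) :=
      commute_of_isIsolated hiso' P P.isPGroup' hx'P t (hP (Subgroup.mem_zpowers _))
    have hx'N : g * x * g⁻¹ ∈ Subgroup.normalizer (M : Set G) := by
      have hD : M ⊓ M.map (MulAut.conj (g * x * g⁻¹)).toMonoidHom ≠ ⊥ := by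
        intro h
        have h1 : (t : G) ∈ M ⊓ M.map (MulAut.conj (g * x * g⁻¹)).toMonoidHom := by
          refine ⟨t.2, ⟨t, t.2, ?_⟩⟩
          show (g * x * g⁻¹) * t * (g * x * g⁻¹)⁻¹ = t
          rw [hcomm.eq, mul_inv_cancel_right]
        rw [h, Subgroup.mem_bot] at h1
        rw [h1, orderOf_one] at htG
        exact hp.ne_one htG.symm
      have hM₁le : M.map (MulAut.conj (g * x * g⁻¹)).toMonoidHom ≤ commutator G := by
        rintro _ ⟨m, hm, rfl⟩
        exact (inferInstance : (commutator G).Normal).conj_mem m (hMle hm) _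
      have hM₁norm : commutator G ≤ Subgroup.normalizer
          ((M.map (MulAut.conj (g * x * g⁻¹)).toMonoidHom : Subgroup G) : Set G) := by
        intro a ha
        have h1 : (g * x * g⁻¹)⁻¹ * a * (g * x * g⁻¹) ∈ Subgroup.normalizer (M : Set G) := by
          apply hMnorm
          have h0 := (inferInstance : (commutator G).Normal).conj_mem a ha (g * x * g⁻¹)⁻¹
          rw [inv_inv] at h0
          exact h0
        have h2 := Subgroup.le_normalizer_map (MulAut.conj (g * x * g⁻¹)).toMonoidHom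
          ⟨_, h1, rfl⟩
        have h3 : (MulAut.conj (g * x * g⁻¹)).toMonoidHom
            ((g * x * g⁻¹)⁻¹ * a * (g * x * g⁻¹)) = a := by
          show (g * x * g⁻¹) * ((g * x * g⁻¹)⁻¹ * a * (g * x * g⁻¹)) * (g * x * g⁻¹)⁻¹ = a
          group
        rw [h3] at h2
        exact h2
      have hDnorm : commutator G ≤ Subgroup.normalizer
          ((M ⊓ M.map (MulAut.conj (g * x * g⁻¹)).toMonoidHom : Subgroup G) : Set G) := by
        intro a ha
        have ha1 := Subgroup.mem_normalizer_iff.mp (hMnorm ha)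
        have ha2 := Subgroup.mem_normalizer_iff.mp (hM₁norm ha)
        rw [Subgroup.mem_normalizer_iff]
        intro h
        exact ⟨fun hh => ⟨(ha1 h).mp hh.1, (ha2 h).mp hh.2⟩,
          fun hh => ⟨(ha1 h).mpr hh.1, (ha2 h).mpr hh.2⟩⟩
      have hMD : M ≤ M ⊓ M.map (MulAut.conj (g * x * g⁻¹)).toMonoidHom :=
        hMmin' ⟨hD, inf_le_left.trans hMle, hDnorm⟩ inf_le_left
      have hMM₁ : M ≤ M.map (MulAut.conj (g * x * g⁻¹)).toMonoidHom := hMD.trans inf_le_right
      have hcard : Nat.card (M.map (MulAut.conj (g * x * g⁻¹)).toMonoidHom) = Nat.card M :=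
        Subgroup.card_map_of_injective (MulAut.conj (g * x * g⁻¹)).injective
      have hEq : M = M.map (MulAut.conj (g * x * g⁻¹)).toMonoidHom :=
        Subgroup.eq_of_le_of_card_ge hMM₁ (le_of_eq hcard)
      rw [Subgroup.mem_normalizer_iff_map_conj_eq]
      exact hEq.symm
    have hsup' : commutator G ⊔ Subgroup.zpowers (g * x * g⁻¹) = ⊤ := by
      have hn := normal_of_commutator_le (commutator G ⊔ Subgroup.zpowers (g * x * g⁻¹)) le_sup_left
      have := hn
      apply eq_top_of_normal_of_mem x hiso hnc hcore hmin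
      have h1 : g * x * g⁻¹ ∈ commutator G ⊔ Subgroup.zpowers (g * x * g⁻¹) :=
        (le_sup_right : Subgroup.zpowers (g * x * g⁻¹) ≤ _) (Subgroup.mem_zpowers _)
      have h2 := hn.conj_mem _ h1 g⁻¹
      have h3 : g⁻¹ * (g * x * g⁻¹) * g⁻¹⁻¹ = x := by group
      rw [h3] at h2
      exact h2
    have hMnormal : M.Normal := by
      rw [← Subgroup.normalizer_eq_top_iff, eq_top_iff, ← hsup']
      exact sup_le hMnorm ((Subgroup.zpowers_le).mpr hx'N)
    exact hle M hMne
  rw [eq_top_iff]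
  intro a _
  have h1 : (a : G) ∈ N.map (commutator G).subtype := hMN (hclaim a.2)
  obtain ⟨b, hb, hba⟩ := h1
  have h2 : b = a := Subtype.ext hba
  rw [← h2]
  exact hb

end Cfsg.Agent.S2972
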