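import Cfsg.Statements.S2975
import Cfsg.Agent.Lib.Helper50.ZStar

set_option autoImplicit false
open Cfsg

namespace Cfsg.Agent.S2975

open Cfsg.Agent.Lib.Helper50

/-- Let G be a finite group, p a prime and x ∈ G an isolated element of order p (the only conjugate of x commuting with x is x) which is not central modulo the largest normal subgroup of order prime to p, while x is central modulo the largest normal subgroup of order prime to p in every proper subgroup containing x, and the image of x is so in every quotient of G by a nontrivial normal subgroup (a minimal counterexample to the Z*_p statement). Then for every prime q, every q-subgroup of G that is normalized by x and maximal among the q-subgroups normalized by x is either trivial or a Sylow q-subgroup of G; and C_G(x) permutes the x-invariant Sylow q-subgroups of G transitively by conjugation. -/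
theorem result {G : Type*} [Group G] [Finite G] {p : ℕ} [Fact p.Prime] (x : G) (hx : orderOf x = p) (hiso : Cfsg.IsIsolated x) (hnz : ¬ Cfsg.InZStar p x) (hmin : ∀ (H : Subgroup G) (hxH : x ∈ H), H ≠ ⊤ → Cfsg.InZStar p (⟨x, hxH⟩ : ↥H)) (hquot : ∀ (N : Subgroup G) [N.Normal], N ≠ ⊥ → Cfsg.InZStar p (QuotientGroup.mk x : G ⧸ N)) (q : ℕ) [Fact q.Prime] : (∀ Q : Subgroup G, IsPGroup q ↥Q → x ∈ Subgroup.normalizer (Q : Set G) → (∀ R : Subgroup G, IsPGroup q ↥R → x ∈ Subgroup.normalizer (R : Set G) → Q ≤ R → R = Q) → Q = ⊥ ∨ ∃ S : Sylow q G, (S : Subgroup G) = Q) ∧ (∀ S₁ S₂ : Sylow q G, x ∈ Subgroup.normalizer ((S₁ : Subgroup G) : Set G) → x ∈ Subgroup.normalizer ((S₂ : Subgroup G) : Set G) → ∃ c ∈ Subgroup.centralizer ({x} : Set G), (S₁ : Subgroup G).map (MulAut.conj c).toMonoidHom = (S₂ : Subgroup G)) := by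
  have hcore : Cfsg.pPrimeCore p G = ⊥ := pPrimeCore_eq_bot_of_quot x hnz hquot
  have hp : p.Prime := Fact.out
  have hq : q.Prime := Fact.out
  constructor
  · intro Q hQ hxQ hmax
    by_cases hQbot : Q = ⊥
    · exact Or.inl hQbot
    right
    by_cases hqp : q = p
    · subst hqp
      have h1 : IsPGroup q ↥(Q ⊔ Subgroup.zpowers x) :=
        hQ.to_sup_of_normal_left' (isPGroup_zpowers_of_orderOf x hx)
          ((Subgroup.zpowers_le).mpr hxQ)
      have h2 : x ∈ Q ⊔ Subgroup.zpowers x :=
        (le_sup_right : Subgroup.zpowers x ≤ _) (Subgroup.mem_zpowers x)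
      have h3 := hmax _ h1 (Subgroup.le_normalizer h2) le_sup_left
      have hxQ' : x ∈ Q := by rw [← h3]; exact h2
      obtain ⟨P, hPle⟩ := hQ.exists_le_sylow
      have h4 := hmax _ P.isPGroup' (Subgroup.le_normalizer (hPle hxQ')) hPle
      exact ⟨P, h4⟩
    · have hN : Subgroup.normalizer (Q : Set G) ≠ ⊤ := by
        intro hNtop
        have hQn : Q.Normal := Subgroup.normalizer_eq_top_iff.mp hNtop
        have hcop : (Nat.card Q).Coprime p := by
          obtain ⟨n, hn⟩ := IsPGroup.iff_card.mp hQ
          rw [hn]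
          exact Nat.Coprime.pow_left n ((Nat.coprime_primes hq hp).mpr hqp)
        have h1 := Cfsg.Agent.Lib.Helper22.le_pPrimeCore_of_normal p hQn hcop
        rw [hcore] at h1
        exact hQbot (le_bot_iff.mp h1)
      have hZ := hmin _ hxQ hN
      obtain ⟨T, hT⟩ := exists_sylow_normalizer_of_inZStar (q := q)
        (⟨x, hxQ⟩ : ↥(Subgroup.normalizer (Q : Set G))) hZ
        (by rw [Subgroup.orderOf_mk]; exact hx)
      -- the normal `q`-subgroup `Q` of its normalizer lies in `T`
      have hQT : Q.subgroupOf (Subgroup.normalizer (Q : Set G)) ≤ (T : Subgroup _) := by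
        have hQ' : IsPGroup q ↥(Q.subgroupOf (Subgroup.normalizer (Q : Set G))) := hQ.comap_subtype
        obtain ⟨T', hT'⟩ := hQ'.exists_le_sylow
        obtain ⟨g, hg⟩ := MulAction.exists_smul_eq ↥(Subgroup.normalizer (Q : Set G)) T' T
        intro a ha
        rw [← hg, Sylow.coe_subgroup_smul, Subgroup.mem_pointwise_smul_iff_inv_smul_mem]
        apply hT'
        have hn : (Q.subgroupOf (Subgroup.normalizer (Q : Set G))).Normal :=
          Subgroup.normal_in_normalizer
        have h0 : (MulAut.conj g)⁻¹ • a = g⁻¹ * a * g⁻¹⁻¹ := by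
          rw [← map_inv, MulAut.smul_def, MulAut.conj_apply]
        rw [h0]
        exact hn.conj_mem a ha g⁻¹
      have hR : IsPGroup q ↥((T : Subgroup _).map (Subgroup.normalizer (Q : Set G)).subtype) :=
        T.isPGroup'.map _
      have hxR : x ∈ Subgroup.normalizer
          (((T : Subgroup _).map (Subgroup.normalizer (Q : Set G)).subtype : Subgroup G) : Set G) := by
        apply Subgroup.le_normalizer_map
        exact ⟨⟨x, hxQ⟩, hT, rfl⟩
      have hQR : Q ≤ (T : Subgroup _).map (Subgroup.normalizer (Q : Set G)).subtype := by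
        intro a ha
        exact ⟨⟨a, Subgroup.le_normalizer ha⟩, hQT (by rw [Subgroup.mem_subgroupOf]; exact ha), rfl⟩
      have hRQ := hmax _ hR hxR hQR
      obtain ⟨P, hQP⟩ := hQ.exists_le_sylow
      refine ⟨P, le_antisymm ?_ hQP⟩
      apply le_of_isPGroup_of_inf_normalizer Q P P.isPGroup' hQP
      apply le_antisymm
      · have hW : IsPGroup q ↥(((P : Subgroup G) ⊓ Subgroup.normalizer (Q : Set G)).subgroupOf
            (Subgroup.normalizer (Q : Set G))) :=
          (P.isPGroup'.to_le inf_le_left).comap_subtype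
        have hTW : (T : Subgroup _) ≤ ((P : Subgroup G) ⊓ Subgroup.normalizer (Q : Set G)).subgroupOf
            (Subgroup.normalizer (Q : Set G)) := by
          intro t ht
          rw [Subgroup.mem_subgroupOf]
          have h1 : (t : G) ∈ (T : Subgroup _).map (Subgroup.normalizer (Q : Set G)).subtype :=
            ⟨t, ht, rfl⟩
          rw [hRQ] at h1
          exact ⟨hQP h1, t.2⟩
        have hWT := T.is_maximal' hW hTW
        intro y hy
        have h1 : (⟨y, hy.2⟩ : ↥(Subgroup.normalizer (Q : Set G))) ∈ (T : Subgroup _) := by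
          rw [← hWT, Subgroup.mem_subgroupOf]
          exact hy
        rw [← hRQ]
        exact ⟨⟨y, hy.2⟩, h1, rfl⟩
      · exact le_inf hQP Subgroup.le_normalizer
  · intro S₁ S₂ h1 h2
    obtain ⟨g, hg⟩ := MulAction.exists_smul_eq G S₁ S₂
    by_cases hN : Subgroup.normalizer ((S₁ : Subgroup G) : Set G) = ⊤
    · have h3 : g • S₁ = S₁ := Sylow.smul_eq_iff_mem_normalizer.mpr
        (show g ∈ Subgroup.normalizer ((S₁ : Subgroup G) : Set G) by rw [hN]; trivial)
      refine ⟨1, one_mem _, ?_⟩
      rw [← hg, h3]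
      ext a
      simp
    · have hy1 : g⁻¹ * x * g ∈ Subgroup.normalizer ((S₁ : Subgroup G) : Set G) := by
        apply Sylow.smul_eq_iff_mem_normalizer.mp
        rw [mul_smul, mul_smul, hg, Sylow.smul_eq_iff_mem_normalizer.mpr h2, ← hg, inv_smul_smul]
      have hZ := hmin _ h1 hN
      have hord : orderOf (g⁻¹ * x * g) = p := by
        have h0 := orderOf_injective (MulAut.conj g⁻¹).toMonoidHom (MulAut.conj g⁻¹).injective x
        have h00 : (MulAut.conj g⁻¹).toMonoidHom x = g⁻¹ * x * g := by simp
        rw [h00, hx] at h0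
        exact h0
      obtain ⟨w, hw⟩ := exists_conj_commute_of_inZStar
        (⟨x, h1⟩ : ↥(Subgroup.normalizer ((S₁ : Subgroup G) : Set G))) ⟨g⁻¹ * x * g, hy1⟩ hZ
        (by rw [Subgroup.orderOf_mk]; exact hx)
        (by rw [Subgroup.orderOf_mk]; exact hord)
      have hw' : Commute x ((w : G) * (g⁻¹ * x * g) * (w : G)⁻¹) := by
        have h3 := congrArg Subtype.val hw.eq
        show x * ((w : G) * (g⁻¹ * x * g) * (w : G)⁻¹) = (w : G) * (g⁻¹ * x * g) * (w : G)⁻¹ * x
        simpa using h3
      have h3 : ((w : G) * g⁻¹) * x * ((w : G) * g⁻¹)⁻¹ = x := by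
        apply hiso
        have e : ((w : G) * g⁻¹) * x * ((w : G) * g⁻¹)⁻¹ = (w : G) * (g⁻¹ * x * g) * (w : G)⁻¹ := by
          group
        rw [e]
        exact hw'
      refine ⟨g * (w : G)⁻¹, ?_, ?_⟩
      · rw [Subgroup.mem_centralizer_iff]
        intro h hh
        rw [Set.mem_singleton_iff.mp hh]
        have h4 : ((w : G) * g⁻¹) * x = x * ((w : G) * g⁻¹) := mul_inv_eq_iff_eq_mul.mp h3
        calc x * (g * (w : G)⁻¹)
            = (g * (w : G)⁻¹) * (((w : G) * g⁻¹) * x) * (g * (w : G)⁻¹) := by group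
          _ = (g * (w : G)⁻¹) * (x * ((w : G) * g⁻¹)) * (g * (w : G)⁻¹) := by rw [h4]
          _ = (g * (w : G)⁻¹) * x := by group
      · have h5 : (g * (w : G)⁻¹) • S₁ = S₂ := by
          rw [mul_smul, Sylow.smul_eq_iff_mem_normalizer.mpr (inv_mem w.2), hg]
        rw [← h5, Sylow.coe_subgroup_smul]
        rfl

end Cfsg.Agent.S2975
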