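import Cfsg.Statements.S2986
import Cfsg.Agent.Lib.Helper41.SnB.Top
import Cfsg.Agent.Lib.Helper41.SnB.Q8Defs
import Cfsg.Agent.Lib.Helper11.SnB.SB
import Cfsg.Agent.Lib.Helper11.SnB.TY
import Cfsg.Agent.Lib.Helper87.SnB.SL3
import Cfsg.Agent.Lib.Helper87.SnB.CQ
import Cfsg.Agent.Lib.Helper34.SnB.QS
import Cfsg.Agent.Lib.Helper77.SnB.C3
import Cfsg.Agent.Lib.Helper80.SnB.Q8Syl
import Cfsg.Agent.Lib.Helper85.SnB.Q8SL3x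
import Cfsg.Agent.Lib.Helper27.SnB.Q8X
import Cfsg.Agent.Lib.Helper23.SnB.NQ
import Cfsg.Agent.Lib.Helper83.SnB.Q8MDefs
import Cfsg.Agent.Lib.Helper96.SnB.QSRes
import Cfsg.Agent.Lib.Helper6.SnB.QSBF
import Cfsg.Agent.Lib.Helper38.SnB.Q8MGF
import Cfsg.Agent.Lib.Helper38.SnB.Q8MOB1
import Cfsg.Agent.Lib.Helper83.SnB.Q8MNB
import Cfsg.Agent.Lib.Helper45.SnB.Q8MXB
import Cfsg.Agent.Lib.Helper45.SnB.Q8MZQ
import Cfsg.Agent.Lib.Helper95.SnB.Q8MCP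
import Cfsg.Agent.Lib.Helper79.SnB.Q8MCQP
import Cfsg.Agent.Lib.Helper79.SnB.Q8MSI
import Cfsg.Agent.Lib.Helper27.SnB.Q8MEQ
import Cfsg.Agent.Lib.Helper27.SnB.Q8MCQ2
import Cfsg.Agent.Lib.Helper79.SnB.Q8MSNN
import Cfsg.Agent.Lib.Helper83.SnB.Q8MSXN
import Cfsg.Agent.Lib.Helper83.SnB.Q8MSXXs
import Cfsg.Agent.Lib.Helper46.SnB.Q8MSXXo
import Cfsg.Agent.Lib.Helper59.SnB.Q8MONN
import Cfsg.Agent.Lib.Helper59.SnB.Q8MOXN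
import Cfsg.Agent.Lib.Helper24.SnB.Q8MOXXo
import Cfsg.Agent.Lib.Helper23.SnB.Q8MOXXs

set_option autoImplicit false
open Cfsg

namespace Cfsg.Agent.S2986

/-- Let G be a finite group of characteristic p (C_G(O_p(G)) ≤ O_p(G)). If E and F are subnormal subgroups of G each of which is a B(T)-block of G for some Sylow p-subgroup T of G (possibly different ones), then E = F or [E, F] = 1. -/
theorem result {G : Type*} [Group G] [Finite G] {p : ℕ} [Fact p.Prime] (hG : Subgroup.centralizer (Cfsg.pCore p G : Set G) ≤ Cfsg.pCore p G) (E F : Subgroup G) (hE : ∃ T : Sylow p G, Cfsg.IsBaumannBlock p (T : Subgroup G) E) (hF : ∃ T : Sylow p G, Cfsg.IsBaumannBlock p (T : Subgroup G) F) (hEs : E.IsSubnormal) (hFs : F.IsSubnormal) : E = F ∨ ⁅E, F⁆ = ⊥ := by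
  exact Cfsg.Agent.Lib.Helper41.SnB.s2986_of Cfsg.Agent.Lib.Helper11.SnB.pkgSB
    Cfsg.Agent.Lib.Helper11.SnB.pkgTY Cfsg.Agent.Lib.Helper87.SnB.pkgSL3
    Cfsg.Agent.Lib.Helper34.SnB.pkgQS
    (Cfsg.Agent.Lib.Helper77.SnB.pkgC3_of Cfsg.Agent.Lib.Helper87.SnB.pkgCQ)
    (Cfsg.Agent.Lib.Helper41.SnB.pkgQ8_of Cfsg.Agent.Lib.Helper80.SnB.pkgSyl
      (Cfsg.Agent.Lib.Helper27.SnB.pkgQ8X_of Cfsg.Agent.Lib.Helper87.SnB.pkgSL3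
        Cfsg.Agent.Lib.Helper85.SnB.pkgSL3x)
      Cfsg.Agent.Lib.Helper23.SnB.pkgNQ
      (Cfsg.Agent.Lib.Helper83.SnB.pkgQ8M_asm Cfsg.Agent.Lib.Helper87.SnB.pkgCQ
        (Cfsg.Agent.Lib.Helper6.SnB.pkgBF_of Cfsg.Agent.Lib.Helper96.SnB.pkgRes)
        Cfsg.Agent.Lib.Helper38.SnB.pkgGF Cfsg.Agent.Lib.Helper38.SnB.pkgOB1
        Cfsg.Agent.Lib.Helper83.SnB.pkgNB Cfsg.Agent.Lib.Helper45.SnB.pkgXB
        Cfsg.Agent.Lib.Helper45.SnB.pkgZQ Cfsg.Agent.Lib.Helper95.SnB.pkgCP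
        Cfsg.Agent.Lib.Helper79.SnB.pkgCQP
        (Cfsg.Agent.Lib.Helper27.SnB.pkgEQ_of Cfsg.Agent.Lib.Helper79.SnB.pkgSI)
        (Cfsg.Agent.Lib.Helper27.SnB.pkgCQ2_of Cfsg.Agent.Lib.Helper87.SnB.pkgCQ)
        Cfsg.Agent.Lib.Helper79.SnB.pkgSNN Cfsg.Agent.Lib.Helper83.SnB.pkgSXN
        Cfsg.Agent.Lib.Helper83.SnB.pkgSXXs
        (Cfsg.Agent.Lib.Helper46.SnB.pkgSXXo_of Cfsg.Agent.Lib.Helper79.SnB.pkgSI)
        Cfsg.Agent.Lib.Helper59.SnB.pkgONN Cfsg.Agent.Lib.Helper59.SnB.pkgOXN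
        Cfsg.Agent.Lib.Helper24.SnB.pkgOXXo Cfsg.Agent.Lib.Helper23.SnB.pkgOXXs))
    hG E F hE hF hEs hFs

end Cfsg.Agent.S2986
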