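import Cfsg.Statements.S3012
import Mathlib

set_option autoImplicit false
open Cfsg

namespace Cfsg.Agent.S3012

/-- Let G be a finite group, V a nontrivial elementary abelian 2-subgroup of G satisfying the Sidki pair condition (every odd-order element inverted by an element of V commutes with a nontrivial element of V), and K a normal subgroup of G with V ∩ K = 1. Then the image of V in G/K satisfies the Sidki pair condition in G/K. -/
theorem result {G : Type*} [Group G] [Finite G] (V K : Subgroup G) [K.Normal] (hV : Cfsg.IsElementaryAbelian 2 V) (hV1 : V ≠ ⊥) (hS : Cfsg.IsSidkiPair V) (hVK : V ⊓ K = ⊥) : Cfsg.IsSidkiPair (V.map (QuotientGroup.mk' K)) := by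
  intro h v hv hodd hinv
  obtain ⟨v₀, hv₀, rfl⟩ := hv
  obtain ⟨h₀, rfl⟩ := QuotientGroup.mk'_surjective K h
  have hv2 : v₀ ^ 2 = 1 := hV.2 v₀ hv₀
  have hvinv : v₀⁻¹ = v₀ := by
    rw [inv_eq_iff_mul_eq_one, ← pow_two]; exact hv2
  set y := h₀ * v₀ * h₀⁻¹ * v₀ with hy
  have hyinv : v₀ * y * v₀⁻¹ = y⁻¹ := by
    rw [hy]
    have e1 : (h₀ * v₀ * h₀⁻¹ * v₀)⁻¹ = v₀⁻¹ * h₀ * v₀⁻¹ * h₀⁻¹ := by group
    have e2 : v₀ * (h₀ * v₀ * h₀⁻¹ * v₀) * v₀⁻¹ = v₀ * h₀ * v₀ * h₀⁻¹ := by group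
    rw [e1, e2, hvinv]
  have hn0 : orderOf y ≠ 0 := (orderOf_pos y).ne'
  obtain ⟨k, m, hm, hkm⟩ := Nat.exists_eq_two_pow_mul_odd hn0
  set y' := y ^ (2 ^ k) with hy'
  have hy'odd : Odd (orderOf y') := by
    have h1 : orderOf y' = orderOf y / Nat.gcd (orderOf y) (2 ^ k) := orderOf_pow y
    have h2 : Nat.gcd (orderOf y) (2 ^ k) = 2 ^ k := by
      rw [hkm]; exact Nat.gcd_eq_right (dvd_mul_right _ _)
    rw [h1, h2, hkm, Nat.mul_div_cancel_left _ (by positivity)]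
    exact hm
  have hy'inv : v₀ * y' * v₀⁻¹ = y'⁻¹ := by
    rw [hy', ← conj_pow, hyinv, inv_pow]
  obtain ⟨w, hwV, hw1, hwy⟩ := hS y' v₀ hv₀ hy'odd hy'inv
  refine ⟨(QuotientGroup.mk' K) w, ⟨w, hwV, rfl⟩, ?_, ?_⟩
  · intro hw
    rw [QuotientGroup.mk'_apply, QuotientGroup.eq_one_iff] at hw
    have : w ∈ V ⊓ K := ⟨hwV, hw⟩
    rw [hVK, Subgroup.mem_bot] at this
    exact hw1 this
  · set π := QuotientGroup.mk' K with hπ
    have hinv' : π v₀ * π h₀ * π v₀ = (π h₀)⁻¹ := by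
      have h3 : (π v₀)⁻¹ = π v₀ := by rw [← map_inv, hvinv]
      rw [h3] at hinv
      exact hinv
    have hπy : π y = (π h₀) ^ 2 := by
      rw [hy, map_mul, map_mul, map_mul, map_inv, pow_two]
      have e : π v₀ * (π h₀)⁻¹ * π v₀ = π h₀ := by
        have h1 : (π v₀ * π h₀ * π v₀)⁻¹ = π h₀ := by rw [hinv', inv_inv]
        have h2 : (π v₀ * π h₀ * π v₀)⁻¹ = (π v₀)⁻¹ * (π h₀)⁻¹ * (π v₀)⁻¹ := by group
        have h3 : (π v₀)⁻¹ = π v₀ := by rw [← map_inv, hvinv]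
        rw [h2, h3] at h1
        exact h1
      calc π h₀ * π v₀ * (π h₀)⁻¹ * π v₀ = π h₀ * (π v₀ * (π h₀)⁻¹ * π v₀) := by group
        _ = π h₀ * π h₀ := by rw [e]
    have hπy' : π y' = (π h₀) ^ (2 ^ (k + 1)) := by
      rw [hy', map_pow, hπy, ← pow_mul, pow_succ, mul_comm]
    have hcop : (2 ^ (k + 1)).Coprime (orderOf (π h₀)) := by
      apply Nat.Coprime.pow_left
      rw [Nat.coprime_two_left]
      exact hodd
    obtain ⟨j, hj⟩ := exists_pow_eq_self_of_coprime hcop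
    have hc : Commute (π w) (π y') := by
      change π w * π y' = π y' * π w
      rw [← map_mul, ← map_mul, hwy]
    rw [hπy'] at hc
    have hc2 : Commute (π w) (((π h₀) ^ (2 ^ (k + 1))) ^ j) := hc.pow_right j
    rw [hj] at hc2
    exact hc2.eq

end Cfsg.Agent.S3012
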