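import Cfsg.Statements.S3023
import Mathlib
import Cfsg.Agent.S2897

set_option autoImplicit false
open Cfsg

namespace Cfsg.Agent.S3023

open Cfsg.Agent.Lib.Helper49

/-- Let p be a prime, G a finite group of parabolic characteristic p (every p-local subgroup containing a Sylow p-subgroup of G has characteristic p), S a Sylow p-subgroup of G and G₁ a subnormal subgroup of G. If the centre of S ∩ G₁ is nontrivial and contained in the centre of S, then G₁ has parabolic characteristic p. -/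
theorem result {G : Type*} [Group G] [Finite G] {p : ℕ} [Fact p.Prime] (hG : Cfsg.IsOfParabolicCharacteristic p G) (S : Sylow p G) (G₁ : Subgroup G) (hsn : G₁.IsSubnormal) (hne : ((S : Subgroup G) ⊓ G₁) ⊓ Subgroup.centralizer (((S : Subgroup G) ⊓ G₁ : Subgroup G) : Set G) ≠ ⊥) (hle : ((S : Subgroup G) ⊓ G₁) ⊓ Subgroup.centralizer (((S : Subgroup G) ⊓ G₁ : Subgroup G) : Set G) ≤ (S : Subgroup G) ⊓ Subgroup.centralizer ((S : Subgroup G) : Set G)) : Cfsg.IsOfParabolicCharacteristic p ↥G₁ := by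
  classical
  intro R hRp hR1 hpar
  obtain ⟨T, hT⟩ := hpar
  have hRT : R ≤ (T : Subgroup ↥G₁) := by
    have h1 : IsPGroup p ↥((T : Subgroup ↥G₁) ⊔ R) :=
      IsPGroup.to_sup_of_normal_right' T.isPGroup' hRp hT
    have h2 := T.is_maximal' h1 le_sup_left
    rw [← h2]
    exact le_sup_right
  obtain ⟨S₁, hS₁⟩ := Cfsg.Agent.S0542.result p G₁ hsn S
  obtain ⟨g, hg⟩ := MulAction.exists_smul_eq ↥G₁ S₁ T
  obtain ⟨z', hz'R, hz'p, hz'c⟩ :=
    Cfsg.Agent.Lib.Helper48.exists_central_orderOf_eq_prime (T : Subgroup ↥G₁) R T.isPGroup'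
      hRT hR1 hT
  have hdiv : p ∣ Nat.card G := by
    have h1 : orderOf (z' : G) = p := by
      rw [Subgroup.orderOf_coe]
      exact hz'p
    rw [← h1]
    exact orderOf_dvd_natCard _
  have hkey := (Cfsg.Agent.S2896.result hdiv S ⊥ bot_le).2.1.mp hG
  have hmemT : ∀ x : ↥G₁, x ∈ (T : Subgroup ↥G₁) ↔ g⁻¹ * x * g ∈ (S₁ : Subgroup ↥G₁) := by
    intro x
    rw [← hg]
    exact Cfsg.Agent.Lib.Helper4.mem_sylow_smul_iff
  have hz'1 : z' ≠ 1 := by
    intro h
    rw [h, orderOf_one] at hz'p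
    exact (Fact.out : p.Prime).one_lt.ne hz'p
  have hS₁mem : ∀ x : ↥G₁, x ∈ (S₁ : Subgroup ↥G₁) ↔ (x : G) ∈ (S : Subgroup G) := by
    intro x
    rw [hS₁, Subgroup.mem_subgroupOf]
  -- the conjugate of `z'` lying in `Ω₁(Z(S))`
  have hzΩ : ((g⁻¹ * z' * g : ↥G₁) : G) ∈ Cfsg.omegaOne p
      ((S : Subgroup G) ⊓ Subgroup.centralizer ((S : Subgroup G) : Set G)) := by
    apply Subgroup.subset_closure
    refine ⟨hle (Subgroup.mem_inf.mpr ⟨Subgroup.mem_inf.mpr
      ⟨(hS₁mem _).mp ((hmemT z').mp (hRT hz'R)), (g⁻¹ * z' * g : ↥G₁).2⟩, ?_⟩), ?_⟩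
    · rw [Subgroup.mem_centralizer_iff]
      intro s hs
      obtain ⟨hsS, hsG⟩ := Subgroup.mem_inf.mp hs
      have hsT : g * ⟨s, hsG⟩ * g⁻¹ ∈ (T : Subgroup ↥G₁) := by
        rw [hmemT]
        have : g⁻¹ * (g * ⟨s, hsG⟩ * g⁻¹) * g = (⟨s, hsG⟩ : ↥G₁) := by group
        rw [this, hS₁mem]
        exact hsS
      have h1 := hz'c _ hsT
      have h2 : (⟨s, hsG⟩ : ↥G₁) * (g⁻¹ * z' * g) = (g⁻¹ * z' * g) * ⟨s, hsG⟩ := by
        calc (⟨s, hsG⟩ : ↥G₁) * (g⁻¹ * z' * g)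
            = g⁻¹ * ((g * ⟨s, hsG⟩ * g⁻¹) * z') * g := by group
          _ = g⁻¹ * (z' * (g * ⟨s, hsG⟩ * g⁻¹)) * g := by rw [h1]
          _ = g⁻¹ * z' * g * ⟨s, hsG⟩ := by group
      exact congrArg Subtype.val h2
    · have h1 : (g⁻¹ * z' * g) ^ p = g⁻¹ * z' ^ p * g := by
        have := conj_pow (a := g⁻¹) (b := z') (i := p)
        rw [inv_inv] at this
        exact this
      have h2 : (g⁻¹ * z' * g) ^ p = 1 := by
        rw [h1, ← hz'p, pow_orderOf_eq_one]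
        group
      have h3 := congrArg Subtype.val h2
      simpa using h3
  have hz1 : ((g⁻¹ * z' * g : ↥G₁) : G) ≠ 1 := by
    intro h
    apply hz'1
    have h' : g⁻¹ * z' * g = 1 := Subtype.ext h
    calc z' = g * (g⁻¹ * z' * g) * g⁻¹ := by group
      _ = 1 := by rw [h']; group
  have hF := hkey _ hz1 hzΩ
  have h1 := charp_centralizer_conj ((g⁻¹ * z' * g : ↥G₁) : G) (g : G) (charp_of_fstar_eq hF)
  have e : (g : G) * ((g⁻¹ * z' * g : ↥G₁) : G) * (g : G)⁻¹ = (z' : G) := by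
    push_cast
    group
  rw [e] at h1
  -- pass to `C_{G₁}(z')`
  have hsub : (G₁.subgroupOf (Subgroup.centralizer ({(z' : G)} : Set G))).IsSubnormal :=
    hsn.subgroupOf
  have h2 := charp_of_subnormal h1 _ hsub
  have h3 := charp_of_equiv (Cfsg.Agent.S2897.centEquiv G₁ z') h2
  exact charp_normalizer_of_centralizer_elt R hRp z' hz'R h3

end Cfsg.Agent.S3023
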