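import Cfsg.Statements.S3049
import Cfsg.Agent.Lib.Helper50.IsoRank

set_option autoImplicit false
open Cfsg

namespace Cfsg.Agent.S3049

/-- Let G be a finite group and p an odd prime with O_{p'}(G) = 1. Suppose that G has p-rank at most 2 (no elementary abelian subgroup of order p³) and that some element x of order p is isolated in G (no G-conjugate of x other than x commutes with x) and not central. Then the generalized Fitting subgroup F*(G) is a non-abelian simple group. Since O_{p'}(G) = 1, such an x is not central modulo O_{p'}(G): the hypotheses describe a counterexample to the Z*_p statement in p-rank at most 2. -/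
theorem result {G : Type*} [Group G] [Finite G] {p : ℕ} [Fact p.Prime] (hp : p ≠ 2) (hcore : Cfsg.pPrimeCore p G = ⊥)
    (hrank : Cfsg.PRankLE p 2 G) (x : G) (hx : orderOf x = p) (hiso : Cfsg.IsIsolated x) (hnc : x ∉ Subgroup.center G) :
    IsSimpleGroup ↥(Cfsg.generalizedFittingSubgroup G) ∧ ¬ IsMulCommutative ↥(Cfsg.generalizedFittingSubgroup G) := by
  obtain ⟨L, hL, hFL, hLz⟩ :=
    Cfsg.Agent.Lib.Helper50.iz_fstar_simple hp hcore hrank x hx hiso hnc
  refine ⟨?_, ?_⟩
  · rw [hFL]; exact Cfsg.Agent.Lib.Helper50.sk_isSimpleGroup_of_component hL hLz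
  · rw [hFL]; exact Cfsg.Agent.Lib.Helper21.quasisimple_not_isMulCommutative hL.2

end Cfsg.Agent.S3049
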