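import Cfsg.Statements.S3062
import Cfsg.Agent.Lib.Helper51.DStarZJ

set_option autoImplicit false
open Cfsg

namespace Cfsg.Agent.S3062

/-- Let S be a finite p-group, J(S) the subgroup generated by the abelian subgroups of S of largest order and Z(J(S)) its centre. Then Z(S) ≤ D*(S) ≤ Z(J(S)), and every maximal normal abelian subgroup of S contains D*(S). -/
theorem result {S : Type*} [Group S] [Finite S] {p : ℕ} [Fact p.Prime]
    (hS : IsPGroup p S) :
    Subgroup.center S ≤ Cfsg.dStar S ∧
    Cfsg.dStar S ≤ Cfsg.thompsonSubgroupA S ⊓ Subgroup.centralizer (Cfsg.thompsonSubgroupA S : Set S) ∧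
    ∀ A : Subgroup S, A.Normal → IsMulCommutative A →
      (∀ B : Subgroup S, B.Normal → IsMulCommutative B → A ≤ B → B = A) → Cfsg.dStar S ≤ A := by
  have hD := Cfsg.Agent.Lib.Helper51.dStar_mem_dStarFamily hS
  have hDc : IsMulCommutative (Cfsg.dStar S) := hD.1
  have hn := Cfsg.Agent.Lib.Helper51.dStar_normal S
  have hmaxle := Cfsg.Agent.Lib.Helper51.dStar_le_of_mem_maxAbelianSubgroups hS
  refine ⟨?_, ?_, ?_⟩
  · have hZ : Subgroup.center S ∈ Cfsg.dStarFamily S := by
      refine ⟨inferInstance, ?_⟩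
      intro x _ a ha
      exact (Subgroup.mem_center_iff.mp ha x).symm
    exact le_sSup hZ
  · obtain ⟨A₀, hA₀⟩ := Cfsg.Agent.Lib.Helper51.maxAbelianSubgroups_nonempty S
    refine le_inf ((hmaxle A₀ hA₀).trans (le_sSup hA₀)) ?_
    rw [Subgroup.le_centralizer_iff]
    unfold Cfsg.thompsonSubgroupA
    apply sSup_le
    intro A hA a ha
    rw [Subgroup.mem_centralizer_iff]
    intro d hd
    have hAc : IsMulCommutative A := hA.1
    exact setLike_mul_comm (hmaxle A hA hd) ha
  · intro A hAn hAc hAmax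
    have hN : Cfsg.dStar S ≤ Subgroup.normalizer (A : Set S) := by
      rw [Subgroup.normalizer_eq_top]
      exact le_top
    have hcomm := Cfsg.Agent.Lib.Helper51.dStar_commute_of_le_normalizer hS A hAc hN
    have hsup : IsMulCommutative ↥(A ⊔ Cfsg.dStar S) :=
      Cfsg.Agent.Lib.Helper51.isMulCommutative_sup_of_commute A (Cfsg.dStar S) hAc hDc hcomm
    have heq := hAmax (A ⊔ Cfsg.dStar S) inferInstance hsup le_sup_left
    rw [← heq]
    exact le_sup_right

end Cfsg.Agent.S3062
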