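import Cfsg.Statements.S3072
import Cfsg.Agent.Lib.Helper22.AG.Main
import Cfsg.Agent.Lib.Helper20.AG.ConjL
import Cfsg.Agent.Lib.Helper20.AG.Fin
import Cfsg.Agent.Lib.Helper20.AG.Rev
import Cfsg.Agent.Lib.Helper43.AG.GT1
import Cfsg.Agent.Lib.Helper43.AG.GT2
import Cfsg.Agent.Lib.Helper43.AG.GT3
import Cfsg.Agent.Lib.Helper64.AG.GT5
import Cfsg.Agent.Lib.Helper64.AG.MinX
import Cfsg.Agent.Lib.Helper75.AG.GT4
import Cfsg.Agent.Lib.Helper75.AG.SPE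
import Cfsg.Agent.Lib.Helper77.AG.CCIso
import Cfsg.Agent.Lib.Helper77.AG.ConjGood
import Cfsg.Agent.Lib.Helper77.AG.ConjX
import Cfsg.Agent.Lib.Helper79.AG.Comp
import Cfsg.Agent.Lib.Helper79.AG.Inv

set_option autoImplicit false
open Cfsg

namespace Cfsg.Agent.S3072

/-- A strong form of the Alperin–Goldschmidt fusion Theorem. Let P be a Sylow p-subgroup of the finite group G, A a subset of P containing a nonidentity element, and g an element with g⁻¹Ag ⊆ P. Then g = c·x₁⋯xₙ·y with c ∈ C_G(A), y ∈ N_G(P) and, for each i, an element xᵢ and a subgroup Hᵢ ≤ P such that: N_P(Hᵢ) is a Sylow p-subgroup of N_G(Hᵢ); C_P(Hᵢ) ≤ Hᵢ; O_{p',p}(N_G(Hᵢ)) = Hᵢ·C_G(Hᵢ); the Sylow p-subgroups of N_G(Hᵢ)/Hᵢ are not chain-connected through nontrivial intersections (the quotient has a strongly p-embedded subgroup); xᵢ lies in O^p(Xᵢ), where Xᵢ/Hᵢ is the smallest normal subgroup of N_G(Hᵢ)/Hᵢ of order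 divisible by p; and (x₁⋯xᵢ₋₁)⁻¹A(x₁⋯xᵢ₋₁) ⊆ Hᵢ. -/
theorem result {G : Type*} [Group G] [Finite G] {p : ℕ} [Fact p.Prime]
    (P : Sylow p G) (A : Set G) (hA : A ⊆ (P : Set G)) (hA1 : ∃ a ∈ A, a ≠ 1)
    (g : G) (hAg : (fun a => g⁻¹ * a * g) '' A ⊆ (P : Set G)) :
    ∃ (n : ℕ) (H X : Fin n → Subgroup G) (x : Fin n → G) (c y : G),
      c ∈ Subgroup.centralizer A ∧ y ∈ Subgroup.normalizer ((P : Subgroup G) : Set G) ∧
      g = c * (List.ofFn x).prod * y ∧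
      ∀ i : Fin n,
        H i ≤ (P : Subgroup G) ∧
        ¬ p ∣ ((P : Subgroup G) ⊓ Subgroup.normalizer (H i : Set G)).relIndex (Subgroup.normalizer (H i : Set G)) ∧
        (P : Subgroup G) ⊓ Subgroup.centralizer (H i : Set G) ≤ H i ∧
        (Cfsg.pPrimePCore p ↥(Subgroup.normalizer (H i : Set G))).map (Subgroup.normalizer (H i : Set G)).subtype =
          H i ⊔ Subgroup.centralizer (H i : Set G) ∧
        ¬ Cfsg.IsSylowChainConnected p
            (↥(Subgroup.normalizer (H i : Set G)) ⧸ (H i).subgroupOf (Subgroup.normalizer (H i : Set G))) ∧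
        (H i ≤ X i ∧ X i ≤ Subgroup.normalizer (H i : Set G) ∧
          ((X i).subgroupOf (Subgroup.normalizer (H i : Set G))).Normal ∧ p ∣ (H i).relIndex (X i) ∧
          ∀ Y : Subgroup G, H i ≤ Y → Y ≤ Subgroup.normalizer (H i : Set G) →
            (Y.subgroupOf (Subgroup.normalizer (H i : Set G))).Normal → p ∣ (H i).relIndex Y → X i ≤ Y) ∧
        x i ∈ (Cfsg.pResidual p ↥(X i)).map (X i).subtype ∧
        (fun a => (((List.ofFn x).take i.val).prod)⁻¹ * a * ((List.ofFn x).take i.val).prod) '' A ⊆ (H i : Set G) := by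
  have hConj : Cfsg.Agent.Lib.Helper22.AG.PkgConj :=
    Cfsg.Agent.Lib.Helper22.AG.pkgConj
      (Cfsg.Agent.Lib.Helper77.AG.pkgConjGood Cfsg.Agent.Lib.Helper77.AG.pkgCCIso)
      Cfsg.Agent.Lib.Helper77.AG.pkgConjX
  have hCL : Cfsg.Agent.Lib.Helper22.AG.PkgConjL := Cfsg.Agent.Lib.Helper20.AG.pkgConjL hConj
  exact Cfsg.Agent.Lib.Helper22.AG.main Cfsg.Agent.Lib.Helper20.AG.pkgFin
    (Cfsg.Agent.Lib.Helper79.AG.pkgComp hCL)
    (Cfsg.Agent.Lib.Helper79.AG.pkgInv hCL Cfsg.Agent.Lib.Helper20.AG.pkgRev)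
    Cfsg.Agent.Lib.Helper43.AG.pkgGT1 Cfsg.Agent.Lib.Helper43.AG.pkgGT2
    Cfsg.Agent.Lib.Helper43.AG.pkgGT3
    (Cfsg.Agent.Lib.Helper75.AG.pkgGT4 Cfsg.Agent.Lib.Helper75.AG.pkgSPE)
    Cfsg.Agent.Lib.Helper64.AG.pkgMinX Cfsg.Agent.Lib.Helper64.AG.pkgGT5 P A hA g hAg

end Cfsg.Agent.S3072
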