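import Cfsg.Statements.S3175
import Cfsg.Agent.Lib.Helper49.RUW.Main
import Cfsg.Agent.Lib.Helper32.RUW.StageA
import Cfsg.Agent.Lib.Helper86.RUW.Ucs
import Cfsg.Agent.Lib.Helper86.RUW.NormZ
import Cfsg.Agent.Lib.Helper57.RUW.Tower
import Cfsg.Agent.Lib.Helper16.RUW.Chain
import Cfsg.Agent.Lib.Helper20.RUW.FixStep
import Cfsg.Agent.Lib.Helper85.RUW.StageB
import Cfsg.Agent.Lib.Helper72.RUW.Elem
import Cfsg.Agent.Lib.Helper85.RUW.Center
import Cfsg.Agent.Lib.Helper72.RUW.NormCent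
import Cfsg.Agent.Lib.Helper85.RUW.ZFacts
import Cfsg.Agent.Lib.Helper94.RUW.CenK
import Cfsg.Agent.Lib.Helper20.RUW.SqG
import Cfsg.Agent.Lib.Helper72.RUW.Compl
import Cfsg.Agent.Lib.Helper6.RUW.Dih
import Cfsg.Agent.Lib.Helper25.RUW.OddAut
import Cfsg.Agent.Lib.Helper86.RUW.NPC
import Cfsg.Agent.Lib.Helper32.RUW.WC

set_option autoImplicit false
open Cfsg

namespace Cfsg.Agent.S3175

/-- Let G be a finite group whose Sylow 2-subgroup T has order at least 2^14 and whose upper central series has fourth term of order 16; let W be the centralizer in T of the third term, and suppose the Frattini subgroup of W has order at most 8 and lies in every subgroup of W of index at most 16. Then the normalizer of T in G has a normal 2-complement, and W is weakly closed in T with respect to G. -/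
theorem result {G : Type*} [Group G] [Finite G]
    (T : Sylow 2 G) (ha : 2 ^ 14 ≤ Nat.card ↥(T : Subgroup G))
    (hb : Nat.card ↥(Subgroup.upperCentralSeries ↥(T : Subgroup G) 4) = 16)
    (W : Subgroup ↥(T : Subgroup G))
    (hW : W = Subgroup.centralizer ((Subgroup.upperCentralSeries ↥(T : Subgroup G) 3 : Subgroup ↥(T : Subgroup G)) : Set ↥(T : Subgroup G)))
    (hc : Nat.card ↥(frattini ↥W) ≤ 8)
    (hd : ∀ U : Subgroup ↥W, U.index ≤ 16 → frattini ↥W ≤ U) :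
    Cfsg.HasNormalPComplement 2 ↥(Subgroup.normalizer ((T : Subgroup G) : Set G)) ∧
      Cfsg.IsWeaklyClosed (W.map (T : Subgroup G).subtype) (T : Subgroup G) := by
  exact Cfsg.Agent.Lib.Helper49.RUW.s3175_of
    (Cfsg.Agent.Lib.Helper25.RUW.pkgOddAut
      (Cfsg.Agent.Lib.Helper49.RUW.s3174_of
        (Cfsg.Agent.Lib.Helper32.RUW.pkgStageA Cfsg.Agent.Lib.Helper86.RUW.pkgUcs
          Cfsg.Agent.Lib.Helper86.RUW.pkgNormZ Cfsg.Agent.Lib.Helper57.RUW.pkgTower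
          (Cfsg.Agent.Lib.Helper16.RUW.pkgChain Cfsg.Agent.Lib.Helper20.RUW.pkgFixStep))
        (Cfsg.Agent.Lib.Helper85.RUW.pkgStageB Cfsg.Agent.Lib.Helper72.RUW.pkgElem)
        (Cfsg.Agent.Lib.Helper85.RUW.pkgCenter Cfsg.Agent.Lib.Helper57.RUW.pkgTower
          (Cfsg.Agent.Lib.Helper16.RUW.pkgChain Cfsg.Agent.Lib.Helper20.RUW.pkgFixStep)
          Cfsg.Agent.Lib.Helper72.RUW.pkgNormCent Cfsg.Agent.Lib.Helper85.RUW.pkgZFacts
          (Cfsg.Agent.Lib.Helper94.RUW.pkgCenK Cfsg.Agent.Lib.Helper20.RUW.pkgSqG)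
          Cfsg.Agent.Lib.Helper72.RUW.pkgCompl)
        Cfsg.Agent.Lib.Helper6.RUW.pkgDih)
      Cfsg.Agent.Lib.Helper86.RUW.pkgUcs Cfsg.Agent.Lib.Helper72.RUW.pkgNormCent)
    Cfsg.Agent.Lib.Helper86.RUW.pkgNPC
    (Cfsg.Agent.Lib.Helper32.RUW.pkgWC
      (Cfsg.Agent.Lib.Helper49.RUW.s3174_of
        (Cfsg.Agent.Lib.Helper32.RUW.pkgStageA Cfsg.Agent.Lib.Helper86.RUW.pkgUcs
          Cfsg.Agent.Lib.Helper86.RUW.pkgNormZ Cfsg.Agent.Lib.Helper57.RUW.pkgTower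
          (Cfsg.Agent.Lib.Helper16.RUW.pkgChain Cfsg.Agent.Lib.Helper20.RUW.pkgFixStep))
        (Cfsg.Agent.Lib.Helper85.RUW.pkgStageB Cfsg.Agent.Lib.Helper72.RUW.pkgElem)
        (Cfsg.Agent.Lib.Helper85.RUW.pkgCenter Cfsg.Agent.Lib.Helper57.RUW.pkgTower
          (Cfsg.Agent.Lib.Helper16.RUW.pkgChain Cfsg.Agent.Lib.Helper20.RUW.pkgFixStep)
          Cfsg.Agent.Lib.Helper72.RUW.pkgNormCent Cfsg.Agent.Lib.Helper85.RUW.pkgZFacts
          (Cfsg.Agent.Lib.Helper94.RUW.pkgCenK Cfsg.Agent.Lib.Helper20.RUW.pkgSqG)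
          Cfsg.Agent.Lib.Helper72.RUW.pkgCompl)
        Cfsg.Agent.Lib.Helper6.RUW.pkgDih)
      Cfsg.Agent.Lib.Helper72.RUW.pkgCompl) T ha hb W hW hc hd

end Cfsg.Agent.S3175
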