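import Cfsg.Statements.S3360
import Cfsg.Agent.Lib.Helper50.HUPT.Main
import Cfsg.Agent.Lib.Helper15.HUPT.XM
import Cfsg.Agent.Lib.Helper15.HUPT.TwoM
import Cfsg.Agent.Lib.Helper20.HUPT.PpdA
import Cfsg.Agent.Lib.Helper25.HUPT.FixM
import Cfsg.Agent.Lib.Helper25.HUPT.Min
import Cfsg.Agent.Lib.Helper26.HUPT.Card
import Cfsg.Agent.Lib.Helper26.HUPT.One
import Cfsg.Agent.Lib.Helper38.HUPT.CenAbs
import Cfsg.Agent.Lib.Helper41.HUPT.PkgFld
import Cfsg.Agent.Lib.Helper41.HUPT.Sq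
import Cfsg.Agent.Lib.Helper41.HUPT.DegAbs
import Cfsg.Agent.Lib.Helper47.HUPT.Cent
import Cfsg.Agent.Lib.Helper47.HUPT.Fit
import Cfsg.Agent.Lib.Helper38.HUPT.G24
import Cfsg.Agent.Lib.Helper66.HUPT.XN
import Cfsg.Agent.Lib.Helper68.HUPT.E26
import Cfsg.Agent.Lib.Helper72.HUPT.Cen
import Cfsg.Agent.Lib.Helper72.HUPT.Deg
import Cfsg.Agent.Lib.Helper77.HUPT.Abn
import Cfsg.Agent.Lib.Helper77.HUPT.PpdC
import Cfsg.Agent.Lib.Helper87.HUPT.Nop
import Cfsg.Agent.Lib.Helper87.HUPT.Num3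
import Cfsg.Agent.Lib.Helper87.HUPT.Orb
import Cfsg.Agent.Lib.Helper90.HUPT.Scal
import Cfsg.Agent.Lib.Helper90.HUPT.TwoZ
import Cfsg.Agent.Lib.Helper92.HUPT.FStr
import Cfsg.Agent.Lib.Helper92.HUPT.XSyl
import Cfsg.Agent.Lib.Helper97.HUPT.Cnt
import Cfsg.Agent.Lib.Helper97.HUPT.PNum
import Cfsg.Agent.Lib.Helper97.HUPT.XB

set_option autoImplicit false
open Cfsg

namespace Cfsg.Agent.S3360

open Cfsg.Agent.Lib.Helper50.HUPT
open Cfsg.Agent.Lib

universe u v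

theorem hupt_abn : PkgAbn.{u, v} := Helper77.HUPT.pkgAbn Helper41.HUPT.pkgFld

theorem hupt_ppdA : PkgPpdA.{u, v} := Helper20.HUPT.pkgPpdA Helper97.HUPT.pkgCnt

theorem hupt_cent : PkgCent.{u, v} := Helper47.HUPT.pkgCent Helper97.HUPT.pkgCnt hupt_abn

theorem hupt_nop : PkgNop.{u, v} := Helper87.HUPT.pkgNop hupt_ppdA hupt_abn

theorem hupt_fit : PkgFit.{u, v} := Helper47.HUPT.pkgFit hupt_nop

theorem hupt_deg : PkgDeg.{u, v} :=
  Helper72.HUPT.pkgDeg Helper92.HUPT.pkgFStr Helper41.HUPT.pkgDegAbs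

theorem hupt_cen : PkgCen.{u, v} :=
  Helper72.HUPT.pkgCen Helper92.HUPT.pkgFStr Helper38.HUPT.pkgCenAbs

theorem hupt_xm : PkgXM.{u, v} :=
  Helper15.HUPT.pkgXM Helper87.HUPT.pkgOrb hupt_fit Helper25.HUPT.pkgMin hupt_cent hupt_ppdA
    Helper77.HUPT.pkgPpdC Helper25.HUPT.pkgFixM

theorem hupt_xn : PkgXN.{u, v} :=
  Helper66.HUPT.pkgXN hupt_abn Helper41.HUPT.pkgSq hupt_deg Helper92.HUPT.pkgXSyl

theorem hupt_x : PkgX.{u, v} :=
  x_of Helper87.HUPT.pkgOrb Helper97.HUPT.pkgPNum hupt_xm hupt_xn Helper97.HUPT.pkgXB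

theorem hupt_scal : PkgScal.{u, v} := Helper90.HUPT.pkgScal hupt_abn

theorem hupt_twoZ : PkgTwoZ.{u, v} := Helper90.HUPT.pkgTwoZ hupt_scal

theorem hupt_twoM : PkgTwoM.{u, v} := Helper15.HUPT.pkgTwoM hupt_abn hupt_scal hupt_deg hupt_cen

theorem hupt_two : PkgTwo.{u, v} :=
  two_of Helper87.HUPT.pkgOrb hupt_twoZ hupt_twoM Helper38.HUPT.pkgG24

theorem hupt_e26 : PkgE26.{u, v} :=
  Helper68.HUPT.pkgE26 Helper87.HUPT.pkgOrb hupt_abn hupt_deg hupt_cen

/-- Let q be a prime and V a non-trivial finite vector space over the field with q elements, and let G be a finite solvable group acting faithfully and linearly on V and transitively on the non-zero vectors. Then either V can be identified with the additive group of a finite field F in such a way that every element of G acts as x ↦ a·σ(x) for some a ∈ F and some field automorphism σ, or the number of elements of V is one of 3^2, 5^2, 7^2, 11^2, 23^2,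 3^4. -/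
theorem result
    (q : ℕ) [Fact q.Prime] {V : Type*} [AddCommGroup V] [Module (ZMod q) V] [Finite V] [Nontrivial V]
    {G : Type*} [Group G] [Finite G] (hsol : Group.IsSolvable G)
    (ρ : G →* (V ≃ₗ[ZMod q] V)) (hρ : Function.Injective ρ)
    (htrans : ∀ v w : V, v ≠ 0 → w ≠ 0 → ∃ g : G, ρ g v = w) :
    (∃ (F : Type) (_ : Field F) (_ : Fintype F) (e : V ≃+ F),
        ∀ g : G, ∃ (a : F) (σ : F ≃+* F), ∀ v : V, e (ρ g v) = a * σ (e v)) ∨
    Nat.card V ∈ ({9, 25, 49, 121, 529, 81} : Set ℕ) := by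
  exact hupt_main Helper26.HUPT.pkgCard Helper26.HUPT.pkgOne hupt_two hupt_e26 hupt_x
    Helper87.HUPT.pkgNum3 q hsol ρ hρ htrans

end Cfsg.Agent.S3360
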