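import Cfsg.Statements.S3390
import Cfsg.Agent.Lib.Helper95.Fix2.Main
import Cfsg.Agent.Lib.Helper95.Fix2.V4
import Cfsg.Agent.Lib.Helper95.Fix2.Loc
import Cfsg.Agent.Lib.Helper92.Fix2.Orb
import Cfsg.Agent.Lib.Helper47.Fix2.B
import Cfsg.Agent.Lib.Helper46.Fix2.Tr
import Cfsg.Agent.Lib.Helper46.Fix2.A2N
import Cfsg.Agent.Lib.Helper72.Fix2.Frob
import Cfsg.Agent.Lib.Helper72.Fix2.A1

set_option autoImplicit false
open Cfsg

namespace Cfsg.Agent.S3390

/-- Let G be a finite group acting faithfully and transitively on a finite set Ω with fixity 2 (every non-identity element fixes at most two points, and some fixes exactly two). Let α ∈ Ω and S a Sylow 2-subgroup of G. Then one of the following holds: the stabilizer S_α of α in S is trivial; S is dihedral or semidihedral and either |S_α| = 2 or |S : S_α| = 2; |S| ≥ 4, S has exactly one orbit of size 2 on Ω, every other S-orbit is regular, and G has a normal subgroup of index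 2 or of index |S| which is a Frobenius group; or S ≤ G_α. -/
theorem result {G : Type*} [Group G] [Finite G] {Ω : Type*} [Fintype Ω] [MulAction G Ω] [FaithfulSMul G Ω] (htr : MulAction.IsPretransitive G Ω)
    (hfix : ∀ g : G, g ≠ 1 → Nat.card (MulAction.fixedBy Ω g) ≤ 2) (hex : ∃ g : G, g ≠ 1 ∧ Nat.card (MulAction.fixedBy Ω g) = 2) (α : Ω) (S : Sylow 2 G) :
    (S : Subgroup G) ⊓ MulAction.stabilizer G α = ⊥ ∨
    (((∃ n : ℕ, Nonempty (↥(S : Subgroup G) ≃* DihedralGroup n)) ∨ Cfsg.IsQuasiDihedral ↥(S : Subgroup G)) ∧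
       (Nat.card ↥((S : Subgroup G) ⊓ MulAction.stabilizer G α) = 2 ∨ ((S : Subgroup G) ⊓ MulAction.stabilizer G α).relIndex (S : Subgroup G) = 2)) ∨
    (4 ≤ Nat.card (S : Subgroup G) ∧
       (∃ ω : Ω, Nat.card (MulAction.orbit ↥(S : Subgroup G) ω) = 2 ∧
          ∀ ω' : Ω, ω' ∉ MulAction.orbit ↥(S : Subgroup G) ω → Nat.card (MulAction.orbit ↥(S : Subgroup G) ω') = Nat.card (S : Subgroup G)) ∧
       ∃ N : Subgroup G, N.Normal ∧ (N.index = 2 ∨ N.index = Nat.card (S : Subgroup G)) ∧ (∃ H : Subgroup ↥N, Cfsg.IsFrobeniusComplement H)) ∨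
    (S : Subgroup G) ≤ MulAction.stabilizer G α :=
  Cfsg.Agent.Lib.Helper95.Fix2.s3390_of Cfsg.Agent.Lib.Helper95.Fix2.pkgLoc
    Cfsg.Agent.Lib.Helper47.Fix2.pkgB Cfsg.Agent.Lib.Helper72.Fix2.pkgA1
    Cfsg.Agent.Lib.Helper95.Fix2.pkgV4 Cfsg.Agent.Lib.Helper92.Fix2.pkgOrb
    Cfsg.Agent.Lib.Helper46.Fix2.pkgTr Cfsg.Agent.Lib.Helper46.Fix2.pkgA2N
    Cfsg.Agent.Lib.Helper72.Fix2.pkgFrob htr hfix α S

end Cfsg.Agent.S3390
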