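import Cfsg.Statements.S3496
import Mathlib
import Cfsg.Agent.S3494
import Cfsg.Agent.S3495
import Cfsg.Agent.S3497
import Cfsg.Agent.S0041
import Cfsg.Agent.S0547
import Cfsg.Agent.Lib.Helper1.MinNormal
import Cfsg.Agent.Lib.Helper10.PrimSolv
import Cfsg.Agent.Lib.Helper58.IrredField

set_option autoImplicit false
open Cfsg

namespace Cfsg.Agent.S3496

open MulAction

/-- Existence of a minimal normal subgroup. -/
lemma exists_minNormal' (G : Type*) [Group G] [Finite G] [Nontrivial G] :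
    ∃ Q : Subgroup G, Q.Normal ∧ Q ≠ ⊥ ∧
      ∀ M : Subgroup G, M.Normal → M ≤ Q → M = ⊥ ∨ M = Q := by
  obtain ⟨Q, -, hQ⟩ := Finite.exists_le_minimal (p := fun Q : Subgroup G => Q.Normal ∧ Q ≠ ⊥)
    (a := (⊤ : Subgroup G)) ⟨inferInstance, top_ne_bot⟩
  refine ⟨Q, hQ.prop.1, hQ.prop.2, ?_⟩
  intro M hM hMQ
  by_cases h : M = ⊥
  · exact Or.inl h
  · exact Or.inr (le_antisymm hMQ (hQ.le_of_le ⟨hM, h⟩ hMQ))

/-- The abstract linear-algebra input, for a normal abelian subgroup `N` of `G` of exponent `p`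
and order `p ^ d` and a subgroup `H` acting on it by conjugation. -/
lemma conj_abstract {G : Type*} [Group G] [Finite G] (N : Subgroup G) [hNn : N.Normal]
    (hNcomm : ∀ a ∈ N, ∀ b ∈ N, a * b = b * a) (H : Subgroup G)
    (p d q : ℕ) [Fact p.Prime] (hcard : Nat.card N = p ^ d) (hexp : ∀ a ∈ N, a ^ p = 1)
    (t : H) (htq : t ^ q = 1)
    (hirr : ∀ L : Subgroup G, L ≤ N → (∀ x ∈ L, (t : G) * x * (t : G)⁻¹ ∈ L) → L = ⊥ ∨ L = N) :
    (∀ i, 0 < i → i < d → ¬ q ∣ p ^ i - 1) ∧
    (0 < d → (∀ h : H, (∀ n ∈ N, (h : G) * n = n * h) → h = 1) →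
      (∀ h : H, ∃ k : ℕ, h * t * h⁻¹ = t ^ k) →
      (Subgroup.centralizer ({t} : Set H)).index ∣ d) := by
  letI : CommGroup N :=
    { (inferInstance : Group N) with mul_comm := fun a b => Subtype.ext (hNcomm a a.2 b b.2) }
  let c : H →* MulAut N := (MulAut.conjNormal (H := N)).comp H.subtype
  have hirr' : ∀ L : Subgroup N, (∀ x ∈ L, c t x ∈ L) → L = ⊥ ∨ L = ⊤ := by
    intro L hL
    rcases hirr (L.map N.subtype) (Subgroup.map_subtype_le L) (by
      rintro x ⟨l, hl, rfl⟩
      exact ⟨c t l, hL l hl, rfl⟩) with h | h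
    · left
      exact (Subgroup.map_eq_bot_iff_of_injective _ N.subtype_injective).mp h
    · right
      apply Subgroup.map_injective N.subtype_injective
      rw [h, ← MonoidHom.range_eq_map, Subgroup.range_subtype]
  have hmain := Cfsg.Agent.Lib.Helper58.IrredField.main_abstract c p d q hcard
    (fun a => Subtype.ext (hexp a a.2)) t htq hirr'
  refine ⟨hmain.1, fun hd hinj hnorm => hmain.2 hd ?_ hnorm⟩
  rw [injective_iff_map_eq_one]
  intro h hh
  apply hinj
  intro n hn
  have h1 := congrArg (fun f : MulAut N => ((f ⟨n, hn⟩ : N) : G)) hh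
  have h2 : (h : G) * n * (h : G)⁻¹ = n := h1
  calc (h : G) * n = (h : G) * n * (h : G)⁻¹ * h := by group
    _ = n * h := by rw [h2]

/-- The soluble extremely primitive groups. Let a finite solvable group G act faithfully and primitively on a finite set Ω with p ^ d points (p prime), with non-trivial point stabilizers each acting primitively on every one of its orbits. Then there is a prime q such that every orbit of a point stabilizer G_α other than {α} has exactly q points, q divides p ^ d − 1 but no p ^ i − 1 with 0 < i < d, and G_α has a normal subgroup T of order q with G_α generated by T and one further element and the order of G_α dividing q·d (so G_α is cyclic of order q, or an extension of T by a cyclic group of order dividing d). -/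
theorem result {G : Type*} [Group G] [Finite G] {Ω : Type*} [Fintype Ω] [MulAction G Ω] [FaithfulSMul G Ω] [Group.IsSolvable G] (p d : ℕ) (hp : p.Prime) (hcard : Fintype.card Ω = p ^ d)
    (hprim : MulAction.IsPreprimitive G Ω) (hH : ∀ α : Ω, MulAction.stabilizer G α ≠ ⊥) (hep : ∀ (α : Ω) (ω : Ω), MulAction.IsPreprimitive (MulAction.stabilizer G α) (MulAction.orbit (MulAction.stabilizer G α) ω)) (α : Ω) :
    ∃ q : ℕ, q.Prime ∧ (∀ ω : Ω, ω ≠ α → Nat.card (MulAction.orbit (MulAction.stabilizer G α) ω) = q) ∧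
      q ∣ p ^ d - 1 ∧ (∀ i : ℕ, 0 < i → i < d → ¬ q ∣ p ^ i - 1) ∧
      ∃ T : Subgroup G, T ≤ MulAction.stabilizer G α ∧ MulAction.stabilizer G α ≤ Subgroup.normalizer (T : Set G) ∧ Nat.card T = q ∧
        (∃ h : G, MulAction.stabilizer G α = T ⊔ Subgroup.zpowers h) ∧ Nat.card (MulAction.stabilizer G α) ∣ q * d := by
  classical
  haveI : IsPretransitive G Ω := hprim.toIsPretransitive
  haveI : Finite Ω := Finite.of_fintype Ω
  haveI : Nonempty Ω := ⟨α⟩
  haveI hpF : Fact p.Prime := ⟨hp⟩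
  have hfaith : ∀ ω : Ω, ω ≠ α → ∀ h : stabilizer G α,
      (∀ x ∈ orbit (stabilizer G α) ω, h • x = x) → h = 1 :=
    fun ω hω h hfix => Cfsg.Agent.S3494.result hprim hH hep α ω hω h hfix
  obtain ⟨ω₀, hω₀⟩ : ∃ ω : Ω, ω ≠ α := by
    by_contra hcon
    push Not at hcon
    apply hH α
    rw [eq_bot_iff]
    intro g hg
    rw [Subgroup.mem_bot]
    apply FaithfulSMul.eq_of_smul_eq_smul (α := Ω)
    intro x
    rw [hcon x, one_smul]
    exact hg
  have hf := hfaith ω₀ hω₀
  have hpr := hep α ω₀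
  haveI : Nontrivial (stabilizer G α) := (Subgroup.nontrivial_iff_ne_bot _).mpr (hH α)
  haveI : Nontrivial G := by
    obtain ⟨x, y, hxy⟩ := exists_pair_ne (stabilizer G α)
    exact ⟨⟨x, y, fun h => hxy (Subtype.ext h)⟩⟩
  -- the regular normal subgroup
  obtain ⟨N, hNn, hN, hNmin⟩ := exists_minNormal' G
  haveI := hNn
  have hNcomm := Cfsg.Agent.Lib.Helper10.comm_of_minimal_normal_solvable N hNmin
  obtain ⟨hNtr, hNreg, p', d', hp', hd', hΩ', hNcard'⟩ :=
    Cfsg.Agent.S0547.result hprim N hN hNmin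
  have hpd : p' ^ d' = p ^ d := by rw [← hΩ', Nat.card_eq_fintype_card, hcard]
  have hNcard : Nat.card N = p ^ d := by rw [hNcard', hpd]
  have hd : 0 < d := by
    rcases Nat.eq_zero_or_pos d with h | h
    · exfalso
      rw [h, pow_zero] at hNcard
      exact hN (Subgroup.card_eq_one.mp hNcard)
    · exact h
  have hNexp : ∀ n ∈ N, n ^ p = 1 := by
    obtain ⟨-, p₂, hp₂, hNexp₂⟩ :=
      Cfsg.Agent.Lib.Helper1.minNormal_elementary N inferInstance hN hNmin
    obtain ⟨n, hnN, hn1⟩ : ∃ n ∈ N, n ≠ 1 := by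
      by_contra hcon
      push Not at hcon
      exact hN ((Subgroup.eq_bot_iff_forall N).mpr hcon)
    have h1 : orderOf n = p₂ := by
      haveI : Fact p₂.Prime := ⟨hp₂⟩
      exact orderOf_eq_prime (hNexp₂ n hnN) hn1
    have h2 : orderOf (⟨n, hnN⟩ : N) ∣ Nat.card N := orderOf_dvd_natCard _
    rw [Subgroup.orderOf_mk, h1, hNcard] at h2
    have h3 : p₂ = p := (Nat.prime_dvd_prime_iff_eq hp₂ hp).mp (hp₂.dvd_of_dvd_pow h2)
    rw [← h3]; exact hNexp₂
  have hNregel : ∀ n ∈ N, n • α = α → n = 1 := by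
    intro n hn h
    have h1 : (⟨n, hn⟩ : N) ∈ stabilizer N α := h
    rw [hNreg α, Subgroup.mem_bot] at h1
    exact congrArg Subtype.val h1
  -- a minimal normal subgroup of the stabilizer
  obtain ⟨T, hTn, hT, hTmin⟩ := exists_minNormal' (stabilizer G α)
  haveI := hTn
  obtain ⟨hTc, q, hq, hTexp⟩ :=
    Cfsg.Agent.Lib.Helper1.minNormal_elementary T inferInstance hT hTmin
  haveI hqF : Fact q.Prime := ⟨hq⟩
  have hTcomm : ∀ a ∈ T, ∀ b ∈ T, a * b = b * a := fun a ha b hb =>
    congrArg Subtype.val (hTc.is_comm.comm (⟨a, ha⟩ : T) ⟨b, hb⟩)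
  have hTsemi : ∀ x ∈ T, ∀ ω : Ω, ω ≠ α → x • ω = ω → x = 1 := fun x hx ω hω hfix =>
    Cfsg.Agent.S3497.cent_semireg α ω (hfaith ω hω) (hep α ω) T hT x
      (fun n hn => hTcomm x hx n hn) hfix
  have hTcent : ∀ c : stabilizer G α, (∀ n ∈ T, c * n = n * c) → c ∈ T := fun c hc =>
    Cfsg.Agent.S3497.cent_eq α ω₀ hf hpr T hT hTcomm c hc
  let TG : Subgroup G := T.map (stabilizer G α).subtype
  have hTGle : TG ≤ stabilizer G α := Subgroup.map_subtype_le T
  have hTGne : TG ≠ ⊥ := fun h =>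
    hT ((Subgroup.map_eq_bot_iff_of_injective _ (Subgroup.subtype_injective _)).mp h)
  have hTGnorm : stabilizer G α ≤ Subgroup.normalizer (TG : Set G) := by
    intro g hg
    rw [Subgroup.mem_normalizer_iff]
    intro n
    constructor
    · rintro ⟨y, hy, rfl⟩
      exact ⟨⟨g, hg⟩ * y * ⟨g, hg⟩⁻¹, hTn.conj_mem y hy ⟨g, hg⟩, rfl⟩
    · intro h
      obtain ⟨y, hy, hy'⟩ := h
      refine ⟨⟨g, hg⟩⁻¹ * y * ⟨g, hg⟩, ?_, ?_⟩
      · have := hTn.conj_mem y hy ⟨g, hg⟩⁻¹
        simpa using this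
      · show g⁻¹ * (y : G) * g = n
        have hy'' : (y : G) = g * n * g⁻¹ := hy'
        rw [hy'']; group
  have hTGcyc : IsCyclic TG := by
    haveI : IsMulCommutative N := ⟨⟨fun a b => Subtype.ext (hNcomm a a.2 b b.2)⟩⟩
    apply Cfsg.Agent.S0041.result TG N hN
    · intro x _
      rw [Subgroup.normalizer_eq_top]
      trivial
    · intro a ha ha1
      rw [eq_bot_iff]
      rintro n ⟨hnN, hnc⟩
      rw [Subgroup.mem_bot]
      obtain ⟨a', ha', rfl⟩ := ha
      have hcomm : (a' : G) * n = n * a' :=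
        Subgroup.mem_centralizer_iff.mp hnc _ (Set.mem_singleton _)
      by_contra hn1
      have hnα : n • α ≠ α := fun h => hn1 (hNregel n hnN h)
      have hfix : a' • (n • α) = n • α := by
        show (a' : G) • n • α = n • α
        rw [← mul_smul, hcomm, mul_smul]
        congr 1
        exact a'.2
      have h1 := hTsemi a' ha' (n • α) hnα hfix
      apply ha1
      rw [h1]; rfl
    · left
      exact ⟨⟨fun a b => by
        obtain ⟨a, ha⟩ := a
        obtain ⟨b, hb⟩ := b
        obtain ⟨a', ha', rfl⟩ := ha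
        obtain ⟨b', hb', rfl⟩ := hb
        apply Subtype.ext
        show (a' : G) * (b' : G) = (b' : G) * (a' : G)
        exact congrArg Subtype.val (hTcomm a' ha' b' hb')⟩⟩
  have hTcyc : IsCyclic T := by
    have e : T ≃* TG := T.equivMapOfInjective _ (Subgroup.subtype_injective _)
    exact isCyclic_of_surjective e.symm.toMonoidHom e.symm.surjective
  have hTcard : Nat.card T = q := by
    have h1 : Monoid.exponent T ∣ q :=
      Monoid.exponent_dvd_of_forall_pow_eq_one (fun x => Subtype.ext (hTexp x x.2))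
    rw [IsCyclic.exponent_eq_card] at h1
    rcases (Nat.dvd_prime hq).mp h1 with h | h
    · exact absurd (Subgroup.card_eq_one.mp h) hT
    · exact h
  obtain ⟨t, htT, ht1⟩ : ∃ t ∈ T, t ≠ 1 := by
    by_contra hcon
    push Not at hcon
    exact hT ((Subgroup.eq_bot_iff_forall T).mpr hcon)
  have hpow : ∀ x ∈ T, ∃ k : ℕ, x = t ^ k := by
    intro x hx
    have h1 : Subgroup.zpowers (⟨t, htT⟩ : T) = ⊤ :=
      zpowers_eq_top_of_prime_card hTcard (fun h => ht1 (congrArg Subtype.val h))
    have h2 : (⟨x, hx⟩ : T) ∈ Subgroup.zpowers (⟨t, htT⟩ : T) := by rw [h1]; trivial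
    rw [← mem_powers_iff_mem_zpowers] at h2
    obtain ⟨k, hk⟩ := h2
    exact ⟨k, (congrArg Subtype.val hk).symm⟩
  -- orbits
  have horb : ∀ ω : Ω, ω ≠ α → Nat.card (orbit (stabilizer G α) ω) = q := by
    intro ω hω
    rw [← hTcard]
    symm
    apply Nat.card_congr
    refine Equiv.ofBijective (fun x : T =>
      (⟨(x : stabilizer G α) • ω, mem_orbit ω _⟩ : orbit (stabilizer G α) ω)) ⟨?_, ?_⟩
    · intro x y hxy
      have h1 : (x : stabilizer G α) • ω = (y : stabilizer G α) • ω := congrArg Subtype.val hxy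
      have h2 : ((y : stabilizer G α)⁻¹ * x) • ω = ω := by rw [mul_smul, h1, inv_smul_smul]
      have h3 := hTsemi _ (T.mul_mem (T.inv_mem y.2) x.2) ω hω h2
      apply Subtype.ext
      rw [inv_mul_eq_one] at h3
      exact h3.symm
    · rintro ⟨_, ⟨h, rfl⟩⟩
      obtain ⟨n, hn, hn'⟩ :=
        Cfsg.Agent.S3497.trans_of_normal' α ω (hfaith ω hω) (hep α ω) T hT h
      exact ⟨⟨n, hn⟩, Subtype.ext hn'⟩
  have hqdvd : q ∣ p ^ d - 1 := by
    have hfree : ∀ b : SubMulAction.ofStabilizer G α, stabilizer T b = ⊥ := by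
      intro b
      rw [eq_bot_iff]
      intro n hn
      rw [Subgroup.mem_bot]
      have hb : (b : Ω) ≠ α := b.2
      have h1 : (n : stabilizer G α) • (b : Ω) = b :=
        congrArg Subtype.val (mem_stabilizer_iff.mp hn)
      exact Subtype.ext (hTsemi n n.2 b hb h1)
    have e1 := selfEquivOrbitsQuotientProd hfree
    have h2 : Nat.card (SubMulAction.ofStabilizer G α) =
        Nat.card (Quotient (orbitRel T (SubMulAction.ofStabilizer G α))) * Nat.card T := by
      rw [Nat.card_congr e1, Nat.card_prod]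
    rw [SubMulAction.nat_card_ofStabilizer_eq, Nat.card_eq_fintype_card, hcard, hTcard] at h2
    rw [h2]
    exact dvd_mul_left _ _
  -- the linear part
  have habs := conj_abstract N hNcomm (stabilizer G α) p d q hNcard hNexp t (hTexp t htT) (by
    intro L hLN hLt
    have hk : ∀ k : ℕ, ∀ x ∈ L,
        ((t ^ k : stabilizer G α) : G) * x * ((t ^ k : stabilizer G α) : G)⁻¹ ∈ L := by
      intro k
      induction k with
      | zero => intro x hx; simpa using hx
      | succ k ih =>
        intro x hx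
        have h1 := hLt _ (ih x hx)
        have e : ((t ^ (k + 1) : stabilizer G α) : G) * x *
            ((t ^ (k + 1) : stabilizer G α) : G)⁻¹ =
            (t : G) * (((t ^ k : stabilizer G α) : G) * x *
              ((t ^ k : stabilizer G α) : G)⁻¹) * (t : G)⁻¹ := by
          rw [pow_succ']
          simp [mul_assoc]
        rw [e]; exact h1
    have hall : ∀ s ∈ T, ∀ x ∈ L, (s : G) * x * (s : G)⁻¹ ∈ L := by
      intro s hs x hx
      obtain ⟨k, rfl⟩ := hpow s hs
      exact hk k x hx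
    refine (Cfsg.Agent.S3495.result hprim hH hep N
      ⟨⟨fun a b => Subtype.ext (hNcomm a a.2 b b.2)⟩⟩ p hp hNexp hNtr hNreg α TG hTGne hTGle
      hTGnorm).2 L hLN ?_
    intro s hs
    obtain ⟨s', hs', rfl⟩ := hs
    rw [Subgroup.mem_normalizer_iff]
    intro x
    constructor
    · intro hx; exact hall s' hs' x hx
    · intro hx
      have h1 := hall s'⁻¹ (T.inv_mem hs') _ hx
      simpa [mul_assoc] using h1)
  obtain ⟨hsmall, hidx⟩ := habs
  have hinjc : ∀ h : stabilizer G α, (∀ n ∈ N, (h : G) * n = n * h) → h = 1 := by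
    intro h hh
    apply Subtype.ext
    apply Cfsg.Agent.Lib.Helper10.eq_one_of_fix_of_centralizes N α (mem_stabilizer_iff.mp h.2)
    rw [Subgroup.mem_centralizer_iff]
    intro n hn
    exact (hh n hn).symm
  have hnormt : ∀ h : stabilizer G α, ∃ k : ℕ, h * t * h⁻¹ = t ^ k :=
    fun h => hpow _ (hTn.conj_mem t htT h)
  have hcentT : Subgroup.centralizer ({t} : Set (stabilizer G α)) = T := by
    ext x
    rw [Subgroup.mem_centralizer_iff]
    constructor
    · intro hx
      apply hTcent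
      intro n hn
      obtain ⟨k, rfl⟩ := hpow n hn
      have h1 : t * x = x * t := hx t (Set.mem_singleton _)
      exact (Commute.pow_right (show Commute x t from h1.symm) k).eq
    · intro hx g hg
      rw [Set.mem_singleton_iff] at hg
      rw [hg]
      exact hTcomm t htT x hx
  have hidx' : T.index ∣ d := by
    rw [← hcentT]; exact hidx hd hinjc hnormt
  have hHcard : Nat.card (stabilizer G α) ∣ q * d := by
    rw [← Subgroup.card_mul_index T, hTcard]
    exact Nat.mul_dvd_mul_left q hidx'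
  have hgen : ∃ h₀ : stabilizer G α, ∀ x : stabilizer G α, ∃ n : ℤ, x * h₀ ^ n ∈ T := by
    let χ : stabilizer G α →* MulAut T := MulAut.conjNormal (H := T)
    haveI : Fact (Nat.card T).Prime := ⟨hTcard ▸ hq⟩
    haveI : IsCyclic (MulAut T) :=
      isCyclic_of_surjective (IsCyclic.mulAutMulEquiv T).symm.toMonoidHom
        (IsCyclic.mulAutMulEquiv T).symm.surjective
    obtain ⟨g, hg⟩ := (isCyclic_iff_exists_zpowers_eq_top (α := χ.range)).mp inferInstance
    obtain ⟨h₀, hh₀⟩ := g.2
    refine ⟨h₀, fun x => ?_⟩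
    have h1 : (⟨χ x, ⟨x, rfl⟩⟩ : χ.range) ∈ Subgroup.zpowers g := by rw [hg]; trivial
    obtain ⟨n, hn⟩ := h1
    have h2 : χ h₀ ^ n = χ x := by
      rw [hh₀]
      have := congrArg Subtype.val hn
      simpa using this
    refine ⟨-n, ?_⟩
    apply hTcent
    intro m hm
    have h3 : χ (x * h₀ ^ (-n)) = 1 := by
      rw [map_mul, map_zpow, zpow_neg, h2, mul_inv_cancel]
    have h4 := congrArg (fun f : MulAut T => ((f ⟨m, hm⟩ : T) : stabilizer G α)) h3
    simp only [χ, MulAut.conjNormal_apply, MulAut.one_apply] at h4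
    calc x * h₀ ^ (-n) * m = x * h₀ ^ (-n) * m * (x * h₀ ^ (-n))⁻¹ * (x * h₀ ^ (-n)) := by group
      _ = m * (x * h₀ ^ (-n)) := by rw [h4]
  obtain ⟨h₀, hh₀⟩ := hgen
  refine ⟨q, hq, horb, hqdvd, fun i hi hid => hsmall i hi hid, TG, hTGle, hTGnorm, ?_,
    ⟨(h₀ : G), ?_⟩, hHcard⟩
  · rw [← hTcard]
    exact Nat.card_congr (T.equivMapOfInjective _ (Subgroup.subtype_injective _)).symm.toEquiv
  · apply le_antisymm
    · intro x hx
      obtain ⟨n, hn⟩ := hh₀ ⟨x, hx⟩
      have e : x = ((⟨x, hx⟩ * h₀ ^ n : stabilizer G α) : G) * (h₀ : G) ^ (-n) := by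
        simp
      rw [e]
      exact Subgroup.mul_mem_sup ⟨_, hn, rfl⟩ (Subgroup.zpow_mem_zpowers _ _)
    · exact sup_le hTGle (by rw [Subgroup.zpowers_le]; exact h₀.2)

end Cfsg.Agent.S3496
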