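import Cfsg.Statements.S3501
import Mathlib
import Cfsg.Agent.Lib.Helper58.DerClasses
import Cfsg.Agent.Lib.Helper58.SharplyTwo

set_option autoImplicit false
open Cfsg

namespace Cfsg.Agent.S3501

open MulAction Cfsg.Agent.Lib.Helper58.DerClasses


/-- Let a finite group G act faithfully and primitively on a finite set Ω with at least two points, and suppose G is not almost simple (it has no non-abelian simple normal subgroup with trivial centralizer). Then the derangements of G form a single conjugacy class if and only if G is sharply 2-transitive (2-transitive, and no non-identity element fixes two points). -/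
theorem result {G : Type*} [Group G] [Finite G] {Ω : Type*} [Fintype Ω] [MulAction G Ω] [FaithfulSMul G Ω] (hΩ : 2 ≤ Fintype.card Ω) (hprim : MulAction.IsPreprimitive G Ω) (hnas : ¬ ∃ T : Subgroup G, T.Normal ∧ IsSimpleGroup T ∧ ¬ IsMulCommutative T ∧ Subgroup.centralizer (T : Set G) = ⊥) :
    Nat.card {c : ConjClasses G // ∃ g : G, ConjClasses.mk g = c ∧ ∀ ω : Ω, g • ω ≠ ω} = 1 ↔ (MulAction.IsMultiplyPretransitive G Ω 2 ∧ ∀ g : G, g ≠ 1 → ∀ a b : Ω, a ≠ b → g • a = a → g • b ≠ b) := by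
  classical
  haveI : Nontrivial Ω := Fintype.one_lt_card_iff_nontrivial.mp hΩ
  constructor
  · intro hκ
    rw [Nat.card_eq_one_iff_unique] at hκ
    obtain ⟨hsub, -⟩ := hκ
    have hall : ∀ x y : G, (∀ ω : Ω, x • ω ≠ ω) → (∀ ω : Ω, y • ω ≠ ω) →
        ∃ g, g * x * g⁻¹ = y := by
      intro x y hx hy
      have h1 : (⟨ConjClasses.mk x, x, rfl, hx⟩ :
          {c : ConjClasses G // ∃ g : G, ConjClasses.mk g = c ∧ ∀ ω : Ω, g • ω ≠ ω}) =
          ⟨ConjClasses.mk y, y, rfl, hy⟩ := Subsingleton.elim _ _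
      have h2 : ConjClasses.mk x = ConjClasses.mk y := congrArg Subtype.val h1
      rw [ConjClasses.mk_eq_mk_iff_isConj, isConj_iff] at h2
      exact h2
    have hκ3 : AtMostTwo G Ω := fun x y z hx hy hz => Or.inl (hall x y hx hy)
    obtain ⟨N, hNn, hNbot, hNc, hNtr, hNreg⟩ := core hΩ hprim hnas hκ3
    haveI := hNn
    have hNder : ∀ x ∈ N, x ≠ 1 → ∀ ω : Ω, x • ω ≠ ω :=
      fun x hx hx1 ω hω => hx1 (hNreg x hx ω hω)
    obtain ⟨x₀, hx₀, hx₀1⟩ : ∃ x ∈ N, x ≠ 1 := by
      by_contra hcon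
      push Not at hcon
      exact hNbot ((Subgroup.eq_bot_iff_forall _).mpr hcon)
    have hDN : ∀ d : G, (∀ ω : Ω, d • ω ≠ ω) → d ∈ N := by
      intro d hd
      obtain ⟨g, hg⟩ := hall x₀ d (hNder x₀ hx₀ hx₀1) hd
      rw [← hg]; exact hNn.conj_mem x₀ hx₀ g
    refine ⟨two_trans_of_conj N hNtr hNc (fun x hx y hy hx1 hy1 =>
      hall x y (hNder x hx hx1) (hNder y hy hy1)), ?_⟩
    intro g hg a b hab ha hb
    apply hab
    by_cases hgN : g ∈ N
    · exact absurd (hNreg g hgN a ha) hg
    · apply fix_unique_of_coset N hNtr hNreg g _ ha hb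
      intro m hm
      by_contra hcon
      push Not at hcon
      have h4 := hDN (m * g) hcon
      apply hgN
      have h5 : g = m⁻¹ * (m * g) := by group
      rw [h5]; exact N.mul_mem (N.inv_mem hm) h4
  · rintro ⟨h2t, hsharp⟩
    have S : Cfsg.Agent.Lib.Helper58.SharpTwo G Ω :=
      ⟨fun a b c d hab hcd => is_two_pretransitive_iff.mp h2t hab hcd,
        fun g a b hab ha hb => by
          by_contra hg
          exact hsharp g hg a b hab ha hb⟩
    rw [Nat.card_eq_one_iff_unique]
    constructor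
    · constructor
      rintro ⟨c, u, rfl, hu⟩ ⟨c', v, rfl, hv⟩
      apply Subtype.ext
      obtain ⟨g, hg⟩ := S.conj_of_fpf (u := u) (v := v) hu hv
      show ConjClasses.mk u = ConjClasses.mk v
      rw [ConjClasses.mk_eq_mk_iff_isConj, isConj_iff]
      exact ⟨g, hg.symm⟩
    · have h1 := S.ncard_fpf
      have h2 : (Cfsg.Agent.Lib.Helper58.SharpTwo.fpf G Ω).Nonempty := by
        rw [← Set.ncard_pos, h1, Nat.card_eq_fintype_card]
        omega
      obtain ⟨u, hu⟩ := h2
      exact ⟨⟨ConjClasses.mk u, u, rfl, hu⟩⟩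

end Cfsg.Agent.S3501
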