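import Cfsg.Statements.S3520
import Mathlib
import Cfsg.Agent.Lib.Helper58.DerClasses

set_option autoImplicit false
open Cfsg

namespace Cfsg.Agent.S3520

open MulAction Cfsg.Agent.Lib.Helper58.DerClasses


/-- Let a finite group G act faithfully and primitively on a finite set Ω with at least two points, suppose G is not almost simple (no non-abelian simple normal subgroup with trivial centralizer), and suppose the derangements of G form exactly two conjugacy classes. Then either Ω has 3 points and G has order 3; or G has a non-trivial abelian normal subgroup N acting regularly, every non-identity element of G fixes at most one point (so, when n > 3, G is a Frobenius group with kernel N), the number n of points is odd and a point stabilizer has order (n − 1)/2; or G is 2-transitive with a non-trivial abelian regular normal subgroup and some non-identity element fixes at least two points (a non-Frobenius 2-transitive affine group). -/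
theorem result {G : Type*} [Group G] [Finite G] {Ω : Type*} [Fintype Ω] [MulAction G Ω] [FaithfulSMul G Ω] (hΩ : 2 ≤ Fintype.card Ω) (hprim : MulAction.IsPreprimitive G Ω) (hnas : ¬ ∃ T : Subgroup G, T.Normal ∧ IsSimpleGroup T ∧ ¬ IsMulCommutative T ∧ Subgroup.centralizer (T : Set G) = ⊥)
    (hκ : Nat.card {c : ConjClasses G // ∃ g : G, ConjClasses.mk g = c ∧ ∀ ω : Ω, g • ω ≠ ω} = 2) (α : Ω) :
    (Fintype.card Ω = 3 ∧ Nat.card G = 3) ∨
    ((∃ N : Subgroup G, N.Normal ∧ N ≠ ⊥ ∧ IsMulCommutative N ∧ ∀ ω : Ω, MulAction.stabilizer N ω = ⊥) ∧ (∀ g : G, g ≠ 1 → Nat.card (MulAction.fixedBy Ω g) ≤ 1) ∧ ¬ 2 ∣ Fintype.card Ω ∧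
        2 * Nat.card (MulAction.stabilizer G α) = Fintype.card Ω - 1) ∨
    ((∃ N : Subgroup G, N.Normal ∧ N ≠ ⊥ ∧ IsMulCommutative N ∧ ∀ ω : Ω, MulAction.stabilizer N ω = ⊥) ∧ MulAction.IsMultiplyPretransitive G Ω 2 ∧ ∃ g : G, g ≠ 1 ∧ 2 ≤ Nat.card (MulAction.fixedBy Ω g)) := by
  classical
  haveI : Nontrivial Ω := Fintype.one_lt_card_iff_nontrivial.mp hΩ
  -- the two classes
  obtain ⟨c₁, c₂, hc12, huniv⟩ := Nat.card_eq_two_iff.mp hκ
  obtain ⟨d₁, hd₁c, hd₁⟩ := c₁.2
  obtain ⟨d₂, hd₂c, hd₂⟩ := c₂.2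
  have hcls : ∀ d : G, (∀ ω : Ω, d • ω ≠ ω) →
      (∃ g, g * d₁ * g⁻¹ = d) ∨ (∃ g, g * d₂ * g⁻¹ = d) := by
    intro d hd
    have hmem : (⟨ConjClasses.mk d, d, rfl, hd⟩ :
        {c : ConjClasses G // ∃ g : G, ConjClasses.mk g = c ∧ ∀ ω : Ω, g • ω ≠ ω}) ∈
        ({c₁, c₂} : Set _) := by rw [huniv]; trivial
    rcases hmem with h | h
    · left
      have h1 : ConjClasses.mk d₁ = ConjClasses.mk d := by
        rw [hd₁c]; exact (congrArg Subtype.val h).symm
      rw [ConjClasses.mk_eq_mk_iff_isConj, isConj_iff] at h1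
      exact h1
    · right
      have h1 : ConjClasses.mk d₂ = ConjClasses.mk d := by
        rw [hd₂c]; exact (congrArg Subtype.val h).symm
      rw [ConjClasses.mk_eq_mk_iff_isConj, isConj_iff] at h1
      exact h1
  have hnc : ¬ ∃ g, g * d₁ * g⁻¹ = d₂ := by
    rintro ⟨g, hg⟩
    apply hc12
    apply Subtype.ext
    rw [← hd₁c, ← hd₂c, ConjClasses.mk_eq_mk_iff_isConj, isConj_iff]
    exact ⟨g, hg⟩
  have key : ∀ (d x y a b : G), a * d * a⁻¹ = x → b * d * b⁻¹ = y → ∃ g, g * x * g⁻¹ = y := by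
    intro d x y a b hx hy
    exact ⟨b * a⁻¹, by rw [← hx, ← hy]; group⟩
  have hκ3 : AtMostTwo G Ω := by
    intro x y z hx hy hz
    rcases hcls x hx with ⟨a, ha⟩ | ⟨a, ha⟩ <;> rcases hcls y hy with ⟨b, hb⟩ | ⟨b, hb⟩ <;>
      rcases hcls z hz with ⟨c, hc⟩ | ⟨c, hc⟩
    · exact Or.inl (key _ _ _ _ _ ha hb)
    · exact Or.inl (key _ _ _ _ _ ha hb)
    · exact Or.inr (Or.inl (key _ _ _ _ _ ha hc))
    · exact Or.inr (Or.inr (key _ _ _ _ _ hb hc))
    · exact Or.inr (Or.inr (key _ _ _ _ _ hb hc))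
    · exact Or.inr (Or.inl (key _ _ _ _ _ ha hc))
    · exact Or.inl (key _ _ _ _ _ ha hb)
    · exact Or.inl (key _ _ _ _ _ ha hb)
  obtain ⟨N, hNn, hNbot, hNc, hNtr, hNreg⟩ := core hΩ hprim hnas hκ3
  haveI := hNn
  have hNex : ∃ N : Subgroup G, N.Normal ∧ N ≠ ⊥ ∧ IsMulCommutative N ∧
      ∀ ω : Ω, stabilizer N ω = ⊥ := by
    refine ⟨N, hNn, hNbot, ⟨⟨fun a b => Subtype.ext (hNc a a.2 b b.2)⟩⟩, fun ω => ?_⟩
    rw [eq_bot_iff]
    intro n hn
    rw [Subgroup.mem_bot]
    exact Subtype.ext (hNreg n n.2 ω hn)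
  have hNder : ∀ x ∈ N, x ≠ 1 → ∀ ω : Ω, x • ω ≠ ω :=
    fun x hx hx1 ω hω => hx1 (hNreg x hx ω hω)
  by_cases hDN : ∀ d : G, (∀ ω : Ω, d • ω ≠ ω) → d ∈ N
  · right; left
    have hfix1 : ∀ g : G, g ≠ 1 → ∀ a b : Ω, g • a = a → g • b = b → a = b := by
      intro g hg a b ha hb
      by_cases hgN : g ∈ N
      · exact absurd (hNreg g hgN a ha) hg
      · apply fix_unique_of_coset N hNtr hNreg g _ ha hb
        intro m hm
        by_contra hcon
        push Not at hcon
        have h4 := hDN (m * g) hcon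
        apply hgN
        have h5 : g = m⁻¹ * (m * g) := by group
        rw [h5]; exact N.mul_mem (N.inv_mem hm) h4
    have hd₁N := hDN d₁ hd₁
    have hd₂N := hDN d₂ hd₂
    have hd₁1 : d₁ ≠ 1 := by
      intro h; exact hd₁ α (by rw [h, one_smul])
    have hd₂1 : d₂ ≠ 1 := by
      intro h; exact hd₂ α (by rw [h, one_smul])
    -- the counting
    have hmemS : ∀ (d : G), d ∈ N → d ≠ 1 → ∀ h : stabilizer G α,
        (h : G) * d * (h : G)⁻¹ ∈ ((N : Set G) \ {1}) := by
      intro d hd hd1 h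
      refine ⟨hNn.conj_mem d hd h, ?_⟩
      intro h1
      apply hd1
      have h2 : (h : G) * d * (h : G)⁻¹ = 1 := h1
      have h5 : d = (h : G)⁻¹ * ((h : G) * d * (h : G)⁻¹) * (h : G) := by group
      rw [h5, h2]; group
    let f : stabilizer G α ⊕ stabilizer G α → ((N : Set G) \ {1} : Set G) :=
      Sum.elim (fun h => ⟨(h : G) * d₁ * (h : G)⁻¹, hmemS d₁ hd₁N hd₁1 h⟩)
        (fun h => ⟨(h : G) * d₂ * (h : G)⁻¹, hmemS d₂ hd₂N hd₂1 h⟩)
    have hinjd : ∀ (d : G), (∀ ω : Ω, d • ω ≠ ω) → ∀ h h' : stabilizer G α,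
        (h : G) * d * (h : G)⁻¹ = (h' : G) * d * (h' : G)⁻¹ → h = h' := by
      intro d hd h h' heq
      have hk : ((h' : G)⁻¹ * (h : G)) * d = d * ((h' : G)⁻¹ * (h : G)) := by
        calc ((h' : G)⁻¹ * (h : G)) * d
            = (h' : G)⁻¹ * ((h : G) * d * (h : G)⁻¹) * (h : G) := by group
          _ = (h' : G)⁻¹ * ((h' : G) * d * (h' : G)⁻¹) * (h : G) := by rw [heq]
          _ = d * ((h' : G)⁻¹ * (h : G)) := by group
      have hkα : ((h' : G)⁻¹ * (h : G)) • α = α := by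
        rw [mul_smul, h.2, inv_smul_eq_iff, h'.2]
      have hkd : ((h' : G)⁻¹ * (h : G)) • (d • α) = d • α := by
        rw [← mul_smul, hk, mul_smul, hkα]
      have hk1 : (h' : G)⁻¹ * (h : G) = 1 := by
        by_contra hne
        exact hd α (hfix1 _ hne _ _ hkd hkα)
      apply Subtype.ext
      rw [inv_mul_eq_one] at hk1
      exact hk1.symm
    have hf : Function.Bijective f := by
      constructor
      · rintro (h | h) (h' | h') heq
        · have h1 : (h : G) * d₁ * (h : G)⁻¹ = (h' : G) * d₁ * (h' : G)⁻¹ :=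
            congrArg Subtype.val heq
          rw [hinjd d₁ hd₁ h h' h1]
        · exfalso
          have h1 : (h : G) * d₁ * (h : G)⁻¹ = (h' : G) * d₂ * (h' : G)⁻¹ :=
            congrArg Subtype.val heq
          apply hnc
          refine ⟨(h' : G)⁻¹ * (h : G), ?_⟩
          calc (h' : G)⁻¹ * (h : G) * d₁ * ((h' : G)⁻¹ * (h : G))⁻¹
              = (h' : G)⁻¹ * ((h : G) * d₁ * (h : G)⁻¹) * (h' : G) := by group
            _ = (h' : G)⁻¹ * ((h' : G) * d₂ * (h' : G)⁻¹) * (h' : G) := by rw [h1]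
            _ = d₂ := by group
        · exfalso
          have h1 : (h : G) * d₂ * (h : G)⁻¹ = (h' : G) * d₁ * (h' : G)⁻¹ :=
            congrArg Subtype.val heq
          apply hnc
          refine ⟨(h : G)⁻¹ * (h' : G), ?_⟩
          calc (h : G)⁻¹ * (h' : G) * d₁ * ((h : G)⁻¹ * (h' : G))⁻¹
              = (h : G)⁻¹ * ((h' : G) * d₁ * (h' : G)⁻¹) * (h : G) := by group
            _ = (h : G)⁻¹ * ((h : G) * d₂ * (h : G)⁻¹) * (h : G) := by rw [h1]
            _ = d₂ := by group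
        · have h1 : (h : G) * d₂ * (h : G)⁻¹ = (h' : G) * d₂ * (h' : G)⁻¹ :=
            congrArg Subtype.val heq
          rw [hinjd d₂ hd₂ h h' h1]
      · rintro ⟨x, hxN, hx1⟩
        have hx1' : x ≠ 1 := hx1
        have hstab : ∀ (d : G), d ∈ N → ∀ g : G, g * d * g⁻¹ = x →
            ∃ h : stabilizer G α, (h : G) * d * (h : G)⁻¹ = x := by
          intro d hd g hg
          obtain ⟨m, hm, hmα⟩ := hNtr α (g⁻¹ • α)
          refine ⟨⟨g * m, by rw [mem_stabilizer_iff, mul_smul, hmα, smul_inv_smul]⟩, ?_⟩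
          have h1 := hNc m hm d hd
          calc g * m * d * (g * m)⁻¹ = g * (m * d) * m⁻¹ * g⁻¹ := by group
            _ = g * (d * m) * m⁻¹ * g⁻¹ := by rw [h1]
            _ = g * d * g⁻¹ := by group
            _ = x := hg
        rcases hcls x (hNder x hxN hx1') with ⟨g, hg⟩ | ⟨g, hg⟩
        · obtain ⟨h, hh⟩ := hstab d₁ hd₁N g hg
          exact ⟨Sum.inl h, Subtype.ext hh⟩
        · obtain ⟨h, hh⟩ := hstab d₂ hd₂N g hg
          exact ⟨Sum.inr h, Subtype.ext hh⟩
    have hcount : 2 * Nat.card (stabilizer G α) = Fintype.card Ω - 1 := by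
      have h1 := Nat.card_eq_of_bijective f hf
      have h3 : Nat.card ((N : Set G) \ {1} : Set G) = Nat.card N - 1 := by
        rw [Nat.card_coe_set_eq,
          Set.ncard_sdiff_singleton_of_mem (show (1 : G) ∈ (N : Set G) from N.one_mem)]
        rfl
      have h4 : Nat.card N = Fintype.card Ω := by
        rw [card_of_reg N hNtr hNreg α, Nat.card_eq_fintype_card]
      rw [Nat.card_sum, h3, h4] at h1
      omega
    refine ⟨hNex, ?_, ?_, hcount⟩
    · intro g hg
      rw [Finite.card_le_one_iff_subsingleton]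
      exact ⟨fun a b => Subtype.ext (hfix1 g hg a b a.2 b.2)⟩
    · rintro ⟨j, hj⟩
      omega
  · right; right
    push Not at hDN
    obtain ⟨d₀, hd₀, hd₀N⟩ := hDN
    have hconj : ∀ x ∈ N, ∀ y ∈ N, x ≠ 1 → y ≠ 1 → ∃ g : G, g * x * g⁻¹ = y := by
      intro x hx y hy hx1 hy1
      rcases hκ3 x y d₀ (hNder x hx hx1) (hNder y hy hy1) hd₀ with h | ⟨g, hg⟩ | ⟨g, hg⟩
      · exact h
      · exact absurd (by rw [← hg]; exact hNn.conj_mem x hx g) hd₀N
      · exact absurd (by rw [← hg]; exact hNn.conj_mem y hy g) hd₀N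
    refine ⟨hNex, two_trans_of_conj N hNtr hNc hconj, ?_⟩
    by_contra hcon
    push Not at hcon
    have hfix1 : ∀ g : G, g ≠ 1 → ∀ a b : Ω, g • a = a → g • b = b → a = b := by
      intro g hg a b ha hb
      have h1 := hcon g hg
      have h2 : Nat.card (fixedBy Ω g) ≤ 1 := by omega
      rw [Finite.card_le_one_iff_subsingleton] at h2
      have h3 : (⟨a, ha⟩ : fixedBy Ω g) = ⟨b, hb⟩ := Subsingleton.elim _ _
      exact congrArg Subtype.val h3
    obtain ⟨ω, hω⟩ := fix_exists_of_coset N hNtr hNreg α d₀ (fun m hm a b ha hb =>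
      hfix1 (m * d₀) (by
        intro h1
        apply hd₀N
        have h5 : d₀ = m⁻¹ * (m * d₀) := by group
        rw [h5, h1, mul_one]; exact N.inv_mem hm) a b ha hb)
    exact hd₀ ω hω

end Cfsg.Agent.S3520
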