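import Cfsg.Statements.S3554
import Mathlib

set_option autoImplicit false
open Cfsg

namespace Cfsg.Agent.S3554

/-- Let G act faithfully and transitively on a finite set and suppose G has a non-trivial cyclic normal subgroup. Then some element of G of prime order fixes no point. -/
theorem result {G Ω : Type*} [Group G] [Finite G] [MulAction G Ω] [FaithfulSMul G Ω] [Finite Ω]
    (htrans : MulAction.IsPretransitive G Ω) (C : Subgroup G) (hC : C.Normal) (hC1 : C ≠ ⊥) (hcyc : IsCyclic ↥C) :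
    ∃ g : G, (orderOf g).Prime ∧ ∀ ω : Ω, g • ω ≠ ω := by
  classical
  obtain ⟨c, hc⟩ := hcyc.exists_generator
  have hcG : ∀ y ∈ C, ∃ i : ℤ, (c : G) ^ i = y := by
    intro y hy
    obtain ⟨i, hi⟩ := Subgroup.mem_zpowers_iff.mp (hc ⟨y, hy⟩)
    refine ⟨i, ?_⟩
    have := congrArg (Subtype.val) hi
    simpa using this
  have hmpos : 0 < orderOf (c : G) := orderOf_pos _
  have hm1 : orderOf (c : G) ≠ 1 := by
    intro h
    rw [orderOf_eq_one_iff] at h
    apply hC1
    rw [Subgroup.eq_bot_iff_forall]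
    intro y hy
    obtain ⟨i, hi⟩ := hcG y hy
    rw [← hi, h, one_zpow]
  set m := orderOf (c : G) with hm
  have hp : (m.minFac).Prime := Nat.minFac_prime hm1
  set p := m.minFac with hpdef
  have hpm : p ∣ m := Nat.minFac_dvd m
  have hmp0 : m / p ≠ 0 := by
    have : p ≤ m := Nat.le_of_dvd hmpos hpm
    have := Nat.div_pos this hp.pos
    omega
  have hmpdvd : m / p ∣ m := Nat.div_dvd_of_dvd hpm
  set g : G := (c : G) ^ (m / p) with hg
  have hgord : orderOf g = p := by
    rw [hg, orderOf_pow_of_dvd hmp0 hmpdvd, Nat.div_div_self hpm (by omega)]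
  have hgC : g ∈ C := C.pow_mem c.2 _
  -- every conjugate of g is a power of g
  have key : ∀ x : G, ∃ j : ℤ, x * g * x⁻¹ = g ^ j := by
    intro x
    have hxC : x * g * x⁻¹ ∈ C := hC.conj_mem g hgC x
    obtain ⟨i, hi⟩ := hcG _ hxC
    have h1 : (x * g * x⁻¹) ^ p = 1 := by
      rw [conj_pow, ← hgord, pow_orderOf_eq_one]; simp
    have h2 : (c : G) ^ (i * (p : ℤ)) = 1 := by
      rw [zpow_mul, hi, zpow_natCast, h1]
    have h3 : (m : ℤ) ∣ i * (p : ℤ) := orderOf_dvd_iff_zpow_eq_one.mpr h2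
    have h4 : ((m / p : ℕ) : ℤ) ∣ i := by
      have hmeq : (m : ℤ) = ((m / p : ℕ) : ℤ) * (p : ℤ) := by
        exact_mod_cast (Nat.div_mul_cancel hpm).symm
      rw [hmeq] at h3
      exact Int.dvd_of_mul_dvd_mul_right (by exact_mod_cast hp.ne_zero) h3
    obtain ⟨j, hj⟩ := h4
    refine ⟨j, ?_⟩
    rw [← hi, hj, zpow_mul, zpow_natCast]
  by_contra hcon
  push Not at hcon
  obtain ⟨ω, hω⟩ := hcon g (by rw [hgord]; exact hp)
  have hfix : ∀ ω' : Ω, g • ω' = ω' := by
    intro ω'
    obtain ⟨x, rfl⟩ := MulAction.exists_smul_eq G ω ω'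
    obtain ⟨j, hj⟩ := key x⁻¹
    have h5 : g = x * g ^ j * x⁻¹ := by
      rw [← hj]; group
    have h6 : g ^ j • ω = ω := by
      have : g ∈ MulAction.stabilizer G ω := hω
      exact Subgroup.zpow_mem _ this j
    calc g • x • ω = (x * g ^ j * x⁻¹) • x • ω := by rw [← h5]
      _ = x • (g ^ j • ω) := by simp [mul_smul]
      _ = x • ω := by rw [h6]
  have hg1 : g = 1 := by
    apply FaithfulSMul.eq_of_smul_eq_smul (α := Ω)
    intro a
    rw [hfix a, one_smul]
  rw [hg1, orderOf_one] at hgord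
  exact hp.ne_one hgord.symm

end Cfsg.Agent.S3554
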