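import Cfsg.Statements.S3634
import Cfsg.Agent.Lib.Helper60.FpfCount

set_option autoImplicit false
open Cfsg

namespace Cfsg.Agent.S3634

/-- Let G be a finite group with normal subgroups K ≤ M, and let p, q, r be distinct primes with p dividing the order of K, q dividing the order of M/K and r dividing the order of G/M. Then p, q, r are not pairwise non-adjacent in the prime graph of G: G has an element of order pq, pr or qr. -/
theorem result {G : Type*} [Group G] [Finite G] (K M : Subgroup G) [K.Normal] [M.Normal] (hKM : K ≤ M)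
    (p q r : ℕ) (hp : p.Prime) (hq : q.Prime) (hr : r.Prime) (hpq : p ≠ q) (hpr : p ≠ r) (hqr : q ≠ r)
    (hpK : p ∣ Nat.card ↥K) (hqM : q ∣ Nat.card ↥M / Nat.card ↥K) (hrG : r ∣ Nat.card G / Nat.card ↥M) :
    (∃ x : G, orderOf x = p * q) ∨ (∃ x : G, orderOf x = p * r) ∨ (∃ x : G, orderOf x = q * r) := by
  classical
  have := Fact.mk hp
  have := Fact.mk hq
  have := Fact.mk hr
  -- numbers
  have hk0 : 0 < Nat.card K := Nat.card_pos
  have hm0 : 0 < Nat.card M := Nat.card_pos
  have ha : Nat.card K * K.relIndex M = Nat.card M := by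
    have h := Subgroup.relIndex_mul_relIndex (⊥ : Subgroup G) K M bot_le hKM
    rwa [Subgroup.relIndex_bot_left, Subgroup.relIndex_bot_left] at h
  have hb : Nat.card M * M.index = Nat.card G := M.card_mul_index
  have hqa : q ∣ K.relIndex M := by
    have e : Nat.card M / Nat.card K = K.relIndex M := by
      rw [← ha]; exact Nat.mul_div_cancel_left _ hk0
    rwa [e] at hqM
  have hrb : r ∣ M.index := by
    have e : Nat.card G / Nat.card M = M.index := by
      rw [← hb]; exact Nat.mul_div_cancel_left _ hm0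
    rwa [e] at hrG
  have hab : K.relIndex M * M.index = K.index := Subgroup.relIndex_mul_index hKM
  have hb0 : 0 < M.index := Nat.pos_of_ne_zero Subgroup.index_ne_zero_of_finite
  -- Sylow p-subgroup of K and its normalizer
  let P : Sylow p K := default
  let P' : Subgroup G := (P : Subgroup K).map K.subtype
  have hP'1 : P' ≠ ⊥ := by
    intro h
    have h2 : (P : Subgroup K) = ⊥ :=
      (Subgroup.map_eq_bot_iff_of_injective _ K.subtype_injective).mp h
    exact P.ne_bot_of_dvd_card hpK h2
  have hP'p : IsPGroup p P' := P.2.map K.subtype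
  let G1 : Subgroup G := Subgroup.normalizer (P' : Set G)
  have hF : G1 ⊔ K = ⊤ := Sylow.normalizer_sup_eq_top P
  have hFM : G1 ⊔ M = ⊤ := by
    rw [eq_top_iff, ← hF]
    exact sup_le_sup_left hKM G1
  -- inside G1
  let P1 : Subgroup G1 := P'.subgroupOf G1
  have hP1n : P1.Normal := Subgroup.normal_in_normalizer
  have hP1p : IsPGroup p P1 := hP'p.comap_subtype
  have hP1 : P1 ≠ ⊥ := by
    obtain ⟨⟨x, hx⟩, hx1⟩ := (Subgroup.ne_bot_iff_exists_ne_one).mp hP'1
    rw [Subgroup.ne_bot_iff_exists_ne_one]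
    have hxG1 : x ∈ G1 := Subgroup.le_normalizer hx
    refine ⟨⟨⟨x, hxG1⟩, Subgroup.mem_subgroupOf.mpr hx⟩, fun h => hx1 ?_⟩
    have h2 : x = 1 := by simpa using congrArg (fun z : P1 => ((z : G1) : G)) h
    exact Subtype.ext h2
  let M1 : Subgroup G1 := M.subgroupOf G1
  let K1 : Subgroup G1 := K.subgroupOf G1
  have hM1n : M1.Normal := Subgroup.normal_subgroupOf
  have hK1M1 : K1 ≤ M1 := fun x hx => hKM hx
  have hM1idx : M1.index = M.index := by
    change M.relIndex G1 = M.index
    rw [← Subgroup.relIndex_sup_right (H := G1) (K := M), hFM, Subgroup.relIndex_top_right]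
  have hK1idx : K1.index = K.index := by
    change K.relIndex G1 = K.index
    rw [← Subgroup.relIndex_sup_right (H := G1) (K := K), hF, Subgroup.relIndex_top_right]
  have hrel : K1.relIndex M1 = K.relIndex M := by
    have h := Subgroup.relIndex_mul_index hK1M1
    rw [hM1idx, hK1idx, ← hab] at h
    exact Nat.eq_of_mul_eq_mul_right hb0 h
  have hqM1 : q ∣ Nat.card M1 := by
    have h : K1.relIndex M1 ∣ Nat.card M1 := Subgroup.relIndex_dvd_card K1 M1
    rw [hrel] at h
    exact hqa.trans h
  let Q : Sylow q M1 := default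
  let Q' : Subgroup G1 := (Q : Subgroup M1).map M1.subtype
  have hQ'1 : Q' ≠ ⊥ := by
    intro h
    have h2 : (Q : Subgroup M1) = ⊥ :=
      (Subgroup.map_eq_bot_iff_of_injective _ M1.subtype_injective).mp h
    exact Q.ne_bot_of_dvd_card hqM1 h2
  have hQ'q : IsPGroup q Q' := Q.2.map M1.subtype
  let N2 : Subgroup G1 := Subgroup.normalizer (Q' : Set G1)
  have hF2 : N2 ⊔ M1 = ⊤ := Sylow.normalizer_sup_eq_top Q
  have hrN2 : r ∣ Nat.card N2 := by
    have h1 : M1.relIndex N2 = M.index := by
      rw [← Subgroup.relIndex_sup_right (H := N2) (K := M1), hF2, Subgroup.relIndex_top_right,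
        hM1idx]
    have h2 : M1.relIndex N2 ∣ Nat.card N2 := Subgroup.relIndex_dvd_card M1 N2
    rw [h1] at h2
    exact hrb.trans h2
  obtain ⟨y2, hy2⟩ := exists_prime_orderOf_dvd_card' r hrN2
  have hy1 : orderOf (y2 : G1) = r := by rw [Subgroup.orderOf_coe]; exact hy2
  have key := Cfsg.Agent.Lib.Helper60.base1 p q r hp hq hr hpq hpr hqr P1 hP1p hP1 Q' hQ'q hQ'1
    (y2 : G1) hy1 y2.2
  rcases key with ⟨x, hx⟩ | ⟨x, hx⟩ | ⟨x, hx⟩
  · exact Or.inl ⟨(x : G), by rw [Subgroup.orderOf_coe]; exact hx⟩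
  · exact Or.inr (Or.inl ⟨(x : G), by rw [Subgroup.orderOf_coe]; exact hx⟩)
  · exact Or.inr (Or.inr ⟨(x : G), by rw [Subgroup.orderOf_coe]; exact hx⟩)

end Cfsg.Agent.S3634
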