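import Cfsg.Statements.S3633
import Cfsg.Agent.S3634

set_option autoImplicit false
open Cfsg

namespace Cfsg.Agent.S3633

open scoped commutatorElement

/-- Lifting element orders along a homomorphism out of a finite group. -/
theorem exists_orderOf_of_map {G H : Type*} [Group G] [Finite G] [Group H] (f : G →* H) (x : G)
    (n : ℕ) (hn : orderOf (f x) = n) : ∃ z : G, orderOf z = n := by
  have hd : n ∣ orderOf x := hn ▸ orderOf_map_dvd f x
  exact ⟨x ^ (orderOf x / n), orderOf_pow_orderOf_div (orderOf_pos x).ne' hd⟩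

/-- Two distinct primes dividing the order of an abelian section give an element whose order
is their product. -/
theorem exists_orderOf_of_abelian_section {G : Type*} [Group G] [Finite G] (K' K : Subgroup G)
    [K'.Normal] (hcomm : ⁅K, K⁆ ≤ K') (u v : ℕ) (hu : u.Prime) (hv : v.Prime)
    (huv : u ≠ v) (hua : u ∣ K'.relIndex K) (hva : v ∣ K'.relIndex K) :
    ∃ x : G, orderOf x = u * v := by
  have := Fact.mk hu
  have := Fact.mk hv
  have hcard : Nat.card (↥K ⧸ K'.subgroupOf K) = K'.relIndex K := rfl
  obtain ⟨x, hx⟩ := exists_prime_orderOf_dvd_card' (G := ↥K ⧸ K'.subgroupOf K) u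
    (by rw [hcard]; exact hua)
  obtain ⟨y, hy⟩ := exists_prime_orderOf_dvd_card' (G := ↥K ⧸ K'.subgroupOf K) v
    (by rw [hcard]; exact hva)
  have hab : ∀ a b : ↥K ⧸ K'.subgroupOf K, a * b = b * a := by
    intro a b
    induction a using QuotientGroup.induction_on with
    | H a =>
      induction b using QuotientGroup.induction_on with
      | H b =>
        rw [← QuotientGroup.mk_mul, ← QuotientGroup.mk_mul, QuotientGroup.eq]
        rw [Subgroup.mem_subgroupOf]
        apply hcomm
        have h := Subgroup.commutator_mem_commutator (Subgroup.inv_mem K b.2)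
          (Subgroup.inv_mem K a.2)
        have e : (((a * b)⁻¹ * (b * a) : ↥K) : G) = ⁅((b : G))⁻¹, ((a : G))⁻¹⁆ := by
          rw [commutatorElement_def]
          simp only [Subgroup.coe_mul, Subgroup.coe_inv, mul_inv_rev, inv_inv]
          group
        rw [e]
        exact h
  have hxy : orderOf (x * y) = u * v := by
    have hc : Commute x y := hab x y
    rw [hc.orderOf_mul_eq_mul_orderOf_of_coprime, hx, hy]
    rw [hx, hy]
    exact (Nat.coprime_primes hu hv).mpr huv
  obtain ⟨z, hz⟩ := QuotientGroup.mk_surjective (x * y)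
  have hz' : orderOf (QuotientGroup.mk' (K'.subgroupOf K) z) = u * v := by
    rw [QuotientGroup.mk'_apply, hz]; exact hxy
  obtain ⟨w, hw⟩ := exists_orderOf_of_map (QuotientGroup.mk' (K'.subgroupOf K)) z (u * v) hz'
  exact ⟨(w : G), by rw [Subgroup.orderOf_coe]; exact hw⟩

/-- The derived subgroup of a non-trivial solvable subgroup is strictly smaller. -/
theorem commutator_lt_of_solvable {G : Type*} [Group G] (K : Subgroup G)
    [hK : Group.IsSolvable K] (hK1 : K ≠ ⊥) : ⁅K, K⁆ < K := by
  have : Nontrivial K := (Subgroup.nontrivial_iff_ne_bot K).mpr hK1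
  have h := Group.IsSolvable.commutator_lt_top_of_nontrivial K
  have e1 : (⊤ : Subgroup K).map K.subtype = K := by
    rw [← MonoidHom.range_eq_map, K.range_subtype]
  have e : ⁅K, K⁆ = (commutator K).map K.subtype := by
    rw [commutator_def, Subgroup.map_commutator, e1]
  rw [e]
  calc (commutator K).map K.subtype < (⊤ : Subgroup K).map K.subtype :=
        Subgroup.map_subtype_lt_map_subtype.mpr h
    _ = K := e1

/-- A solvable normal subgroup whose order is divisible by two primes, together with a third
prime dividing the group order: two of the three primes are adjacent in the prime graph. -/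
theorem solv_three {G : Type*} [Group G] [Finite G] :
    ∀ (n : ℕ) (K : Subgroup G) [K.Normal], Group.IsSolvable K → Nat.card K ≤ n →
    ∀ r s t : ℕ, r.Prime → s.Prime → t.Prime → r ≠ s → r ≠ t → s ≠ t →
      r ∣ Nat.card K → s ∣ Nat.card K → t ∣ Nat.card G →
      (∃ x : G, orderOf x = r * s) ∨ (∃ x : G, orderOf x = r * t) ∨
        (∃ x : G, orderOf x = s * t) := by
  intro n
  induction n with
  | zero =>
    intro K _ _ hcard
    have : 0 < Nat.card K := Nat.card_pos
    omega
  | succ n ih =>
    intro K hKn hKs hcard r s t hr hs ht hrs hrt hst hrK hsK htG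
    have hK1 : K ≠ ⊥ := by
      rintro rfl
      rw [Subgroup.card_bot] at hrK
      exact hr.one_lt.ne' (Nat.dvd_one.mp hrK)
    obtain ⟨D, hD⟩ : ∃ D : Subgroup G, D = ⁅K, K⁆ := ⟨_, rfl⟩
    have hDn : D.Normal := hD ▸ Subgroup.commutator_normal K K
    have hlt : D < K := hD ▸ commutator_lt_of_solvable K hK1
    have hle : D ≤ K := hlt.le
    have hcard' : Nat.card D ≤ n := by
      by_contra hcon
      have h1 : Nat.card K ≤ Nat.card D := by omega
      exact hlt.ne (Subgroup.eq_of_le_of_card_ge hle h1)
    have hsolv' : Group.IsSolvable D :=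
      Group.isSolvable_of_isSolvable_injective (Subgroup.inclusion_injective hle)
    have ha : Nat.card D * D.relIndex K = Nat.card K := by
      have h := Subgroup.relIndex_mul_relIndex (⊥ : Subgroup G) D K bot_le hle
      rwa [Subgroup.relIndex_bot_left, Subgroup.relIndex_bot_left] at h
    have hb : Nat.card K * K.index = Nat.card G := K.card_mul_index
    have hk0 : 0 < Nat.card K := Nat.card_pos
    have hk0' : 0 < Nat.card D := Nat.card_pos
    have hsplit : ∀ u : ℕ, u.Prime → u ∣ Nat.card K →
        u ∣ Nat.card D ∨ u ∣ D.relIndex K := by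
      intro u hu hd
      rw [← ha] at hd
      exact (Nat.Prime.dvd_mul hu).mp hd
    have hW : ∀ u v : ℕ, u.Prime → v.Prime → u ≠ v →
        u ∣ D.relIndex K → v ∣ D.relIndex K →
        ∃ x : G, orderOf x = u * v :=
      fun u v hu hv huv h1 h2 =>
        exists_orderOf_of_abelian_section D K hD.ge u v hu hv huv h1 h2
    have e1 : Nat.card K / Nat.card D = D.relIndex K := by
      rw [← ha]; exact Nat.mul_div_cancel_left _ hk0'
    have e2 : Nat.card G / Nat.card K = K.index := by
      rw [← hb]; exact Nat.mul_div_cancel_left _ hk0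
    have htsplit : t ∣ Nat.card K ∨ t ∣ K.index := by
      rw [← hb] at htG
      exact (Nat.Prime.dvd_mul ht).mp htG
    have hKG : ∀ u : ℕ, u ∣ Nat.card K → u ∣ Nat.card G := fun u hu =>
      hu.trans ⟨K.index, hb.symm⟩
    rcases hsplit r hr hrK with hr' | hr' <;> rcases hsplit s hs hsK with hs' | hs'
    · exact ih D hsolv' hcard' r s t hr hs ht hrs hrt hst hr' hs' htG
    · rcases htsplit with htK | htb
      · rcases hsplit t ht htK with ht' | ht'
        · rcases ih D hsolv' hcard' r t s hr ht hs hrt hrs (Ne.symm hst) hr' ht'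
            (hKG s hsK) with h | h | h
          · exact Or.inr (Or.inl h)
          · exact Or.inl h
          · obtain ⟨x, hx⟩ := h
            exact Or.inr (Or.inr ⟨x, by rw [hx, mul_comm]⟩)
        · exact Or.inr (Or.inr (hW s t hs ht hst hs' ht'))
      · exact Cfsg.Agent.S3634.result D K hle r s t hr hs ht hrs hrt hst hr'
          (by rw [e1]; exact hs') (by rw [e2]; exact htb)
    · rcases htsplit with htK | htb
      · rcases hsplit t ht htK with ht' | ht'
        · rcases ih D hsolv' hcard' s t r hs ht hr hst (Ne.symm hrs) (Ne.symm hrt) hs' ht'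
            (hKG r hrK) with h | h | h
          · exact Or.inr (Or.inr h)
          · obtain ⟨x, hx⟩ := h
            exact Or.inl ⟨x, by rw [hx, mul_comm]⟩
          · obtain ⟨x, hx⟩ := h
            exact Or.inr (Or.inl ⟨x, by rw [hx, mul_comm]⟩)
        · exact Or.inr (Or.inl (hW r t hr ht hrt hr' ht'))
      · rcases Cfsg.Agent.S3634.result D K hle s r t hs hr ht (Ne.symm hrs) hst hrt hs'
          (by rw [e1]; exact hr') (by rw [e2]; exact htb) with h | h | h
        · obtain ⟨x, hx⟩ := h
          exact Or.inl ⟨x, by rw [hx, mul_comm]⟩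
        · exact Or.inr (Or.inr h)
        · exact Or.inr (Or.inl h)
    · exact Or.inl (hW r s hr hs hrs hr' hs')

/-- Let G be a finite group and ρ a set of at least three prime divisors of the order of G that are pairwise non-adjacent in the prime graph (no element of order rs for distinct r, s ∈ ρ). Then at most one prime of ρ divides the order of any given solvable normal subgroup of G; in particular G is not solvable. -/
theorem result {G : Type*} [Group G] [Finite G] (ρ : Finset ℕ) (hρ : 3 ≤ ρ.card) (hc : ((∀ r ∈ ρ, r.Prime ∧ r ∣ Nat.card G) ∧ (∀ r ∈ ρ, ∀ s ∈ ρ, r ≠ s → ¬ ∃ x : G, orderOf x = r * s)))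
    (K : Subgroup G) [K.Normal] (hK : Group.IsSolvable ↥K) :
    (∀ r ∈ ρ, ∀ s ∈ ρ, r ∣ Nat.card ↥K → s ∣ Nat.card ↥K → r = s) ∧ ¬ Group.IsSolvable G := by
  classical
  obtain ⟨hprime, hnonadj⟩ := hc
  have key : ∀ (K : Subgroup G) [K.Normal], Group.IsSolvable K →
      ∀ r ∈ ρ, ∀ s ∈ ρ, r ∣ Nat.card K → s ∣ Nat.card K → r = s := by
    intro K _ hKs r hr s hs hrK hsK
    by_contra hrs
    obtain ⟨a, b, c, ha, hb, hc, hab, hac, hbc⟩ := Finset.two_lt_card_iff.mp hρ
    obtain ⟨t, ht, htr, hts⟩ : ∃ t ∈ ρ, t ≠ r ∧ t ≠ s := by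
      rcases (show (a ≠ r ∧ a ≠ s) ∨ (b ≠ r ∧ b ≠ s) ∨ (c ≠ r ∧ c ≠ s) by omega) with h | h | h
      · exact ⟨a, ha, h⟩
      · exact ⟨b, hb, h⟩
      · exact ⟨c, hc, h⟩
    rcases solv_three (Nat.card K) K hKs le_rfl r s t (hprime r hr).1 (hprime s hs).1
      (hprime t ht).1 hrs (Ne.symm htr) (Ne.symm hts) hrK hsK (hprime t ht).2 with h | h | h
    · exact hnonadj r hr s hs hrs h
    · exact hnonadj r hr t ht (Ne.symm htr) h
    · exact hnonadj s hs t ht (Ne.symm hts) h
  refine ⟨key K hK, fun hG => ?_⟩
  obtain ⟨a, b, c, ha, hb, hc, hab, hac, hbc⟩ := Finset.two_lt_card_iff.mp hρ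
  have hsolv : Group.IsSolvable (⊤ : Subgroup G) := inferInstance
  exact hab (key ⊤ hsolv a ha b hb (by rw [Subgroup.card_top]; exact (hprime a ha).2)
    (by rw [Subgroup.card_top]; exact (hprime b hb).2))

end Cfsg.Agent.S3633
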