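-- Statement S3685 (Wong's theorem: primitive group with a suborbit of length 3).
-- Proof: Sims' bound (= statement S3385: |G_a| = 2^k * 3, k ≤ 4; helper49's `sims_of_packages`
-- with helper21's `lemSimsRed` and helper49's `lemSimsCore`) + the amalgam analysis of
-- `Cfsg.Agent.Lib.Helper67.Sub3.s3685_core`, with the four identification packages
-- (D12: helper38, S4: helper96, exponent 2: helper22, S4 x C2: helper65).
import Cfsg.Statements.S3685
import Cfsg.Agent.Lib.Helper21.Sims.SimsRed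
import Cfsg.Agent.Lib.Helper49.Shunt.SimsCoreFinal
import Cfsg.Agent.Lib.Helper67.Sub3.Core
import Cfsg.Agent.Lib.Helper38.Sub3.IsoD12
import Cfsg.Agent.Lib.Helper96.Sub3.IsoS4
import Cfsg.Agent.Lib.Helper22.Sub3.ExpTwo
import Cfsg.Agent.Lib.Helper65.Sub3.IsoS4xC2

set_option autoImplicit false
open Cfsg

namespace Cfsg.Agent.S3685

universe u

theorem pkD12 : Cfsg.Agent.Lib.Helper67.Sub3.PKD12.{u} :=
  fun _ _ _ hcard T hT hTn z σ hzT hσT hz1 hz2 hzc hσ1 hσz hσ2 =>
    Cfsg.Agent.Lib.Helper38.Sub3.iso_D12 hcard T hT hTn z σ hzT hσT hz1 hz2 hzc hσ1 hσz hσ2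

theorem pk24 : Cfsg.Agent.Lib.Helper67.Sub3.PK24.{u} :=
  fun _ _ _ hcard K _ hK hcent hcore =>
    Cfsg.Agent.Lib.Helper96.Sub3.iso_S4_of_core hcard K hK hcent hcore

theorem pk8 : Cfsg.Agent.Lib.Helper67.Sub3.PK8.{u} :=
  fun _ _ K _ hK ρ hρ hnorm hcent =>
    Cfsg.Agent.Lib.Helper22.Sub3.exp_two_or_unique_invol K hK ρ hρ hnorm hcent

theorem pk48 : Cfsg.Agent.Lib.Helper67.Sub3.PK48.{u} :=
  fun _ _ _ hcard K _ hK hK2 hcent τ hτ hτK hcore =>
    Cfsg.Agent.Lib.Helper65.Sub3.iso_S4xC2 hcard K hK hK2 hcent τ hτ hτK hcore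

/-- Let a finite group G act faithfully and primitively on a set Ω, and suppose the stabilizer of a point a has an orbit of length 3. Then the stabilizer of a is isomorphic to one of: the cyclic group of order 3, the symmetric group of degree 3, the dihedral group of order 12, the symmetric group of degree 4, or the direct product of the symmetric group of degree 4 with a group of order 2. -/
theorem result {G Ω : Type*} [Group G] [Finite G] [MulAction G Ω] [FaithfulSMul G Ω] [Finite Ω]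
    (hprim : MulAction.IsPreprimitive G Ω) (a b : Ω) (h3 : Nat.card (MulAction.orbit (MulAction.stabilizer G a) b) = 3) :
    Nonempty (MulAction.stabilizer G a ≃* Multiplicative (ZMod 3)) ∨ Nonempty (MulAction.stabilizer G a ≃* Equiv.Perm (Fin 3)) ∨
      Nonempty (MulAction.stabilizer G a ≃* DihedralGroup 6) ∨ Nonempty (MulAction.stabilizer G a ≃* Equiv.Perm (Fin 4)) ∨
      Nonempty (MulAction.stabilizer G a ≃* Equiv.Perm (Fin 4) × Multiplicative (ZMod 2)) := by
  exact Cfsg.Agent.Lib.Helper67.Sub3.s3685_core pkD12 pk24 pk8 pk48 hprim a b h3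
    (Cfsg.Agent.Lib.Helper49.Shunt.sims_of_packages Cfsg.Agent.Lib.Helper21.Sims.lemSimsRed
      Cfsg.Agent.Lib.Helper49.Shunt.lemSimsCore hprim a b h3)

end Cfsg.Agent.S3685
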