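import Cfsg.Statements.S3701
import Cfsg.Agent.Lib.Helper70.S3701.Defs
import Cfsg.Agent.Lib.Helper85.S3701.Gens
import Cfsg.Agent.Lib.Helper85.S3701.Symm
import Cfsg.Agent.Lib.Helper48.S3701.Local
import Cfsg.Agent.Lib.Helper48.S3701.Syl3
import Cfsg.Agent.Lib.Helper66.S3701.End
import Cfsg.Agent.Lib.Helper67.S3701.Setup
import Cfsg.Agent.Lib.Helper62.S3701.TI
import Cfsg.Agent.Lib.Helper90.S3701.Nu
import Cfsg.Agent.Lib.Helper66.S3701.NoFuse
import Cfsg.Agent.Lib.Helper3.S3701.ExcGen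
import Cfsg.Agent.Lib.Helper3.S3701.KerGen

set_option autoImplicit false
open Cfsg

namespace Cfsg.Agent.S3701

/-- Let H₀ ≤ Sym(9) be generated by the 3-cycles (1 2 3), (4 5 6), (7 8 9) and the involutions (1 2)(4 5), (1 2)(7 8) (a group of order 108, elementary abelian of order 27 extended by a four-group). Let G be a finite group with a subgroup H ≅ H₀, and T ≤ H of order 27 (a Sylow 3-subgroup of H) with N_G(T) = H and C_G(t) ≤ H for every t ≠ 1 in T. Then G = H. -/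
theorem result {G : Type*} [Group G] [Finite G] (H : Subgroup G)
    (hH : Nonempty (↥H ≃* ↥(Subgroup.closure ({Equiv.swap (0 : Fin 9) 1 * Equiv.swap 1 2, Equiv.swap (3 : Fin 9) 4 * Equiv.swap 4 5, Equiv.swap (6 : Fin 9) 7 * Equiv.swap 7 8,
        Equiv.swap (0 : Fin 9) 1 * Equiv.swap 3 4, Equiv.swap (0 : Fin 9) 1 * Equiv.swap 6 7} : Set (Equiv.Perm (Fin 9))))))
    (T : Subgroup G) (hTH : T ≤ H) (hT : Nat.card T = 27) (hN : Subgroup.normalizer (T : Set G) = H)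
    (hC : ∀ t ∈ T, t ≠ 1 → Subgroup.centralizer ({t} : Set G) ≤ H) : H = ⊤ :=
  Cfsg.Agent.Lib.Helper70.S3701.s3701_of
    Cfsg.Agent.Lib.Helper85.S3701.pkgGens
    Cfsg.Agent.Lib.Helper67.S3701.pkgSetup
    Cfsg.Agent.Lib.Helper85.S3701.pkgSymm
    Cfsg.Agent.Lib.Helper62.S3701.pkgTI
    Cfsg.Agent.Lib.Helper48.S3701.pkgSyl3
    Cfsg.Agent.Lib.Helper66.S3701.pkgNoFuse
    Cfsg.Agent.Lib.Helper90.S3701.pkgNu
    Cfsg.Agent.Lib.Helper3.S3701.pkgExcGen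
    Cfsg.Agent.Lib.Helper3.S3701.pkgKerGen
    Cfsg.Agent.Lib.Helper48.S3701.pkgLocal
    Cfsg.Agent.Lib.Helper66.S3701.pkgEnd
    H hH T hTH hT hN hC

end Cfsg.Agent.S3701
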