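import Mathlib
import Cfsg.Statements.S3740
import Cfsg.Agent.Lib.Helper11.SL2Normalized

set_option autoImplicit false
open Cfsg

namespace Cfsg.Agent.S3740

/-- Let F be a finite field of odd characteristic p and let a be a p-element of SL₂(F) normalizing a subgroup R of order prime to p with [R, a] ≠ 1. Then p = 3, R is a quaternion group of order 8, and R⟨a⟩ is isomorphic to SL₂(3). -/
theorem result (F : Type) [Field F] [Fintype F] {p : ℕ} [Fact p.Prime] [CharP F p] (hp : p ≠ 2) (a : Matrix.SpecialLinearGroup (Fin 2) F) (ha : IsPGroup p ↥(Subgroup.zpowers a)) (R : Subgroup (Matrix.SpecialLinearGroup (Fin 2) F)) (hR : (Nat.card R).Coprime p) (haR : a ∈ Subgroup.normalizer (R : Set (Matrix.SpecialLinearGroup (Fin 2) F))) (hnt : ⁅R, Subgroup.zpowers a⁆ ≠ ⊥) : p = 3 ∧ Nonempty (↥R ≃* QuaternionGroup 2) ∧ Nonempty (↥(R ⊔ Subgroup.zpowers a) ≃* Matrix.SpecialLinearGroup (Fin 2) (ZMod 3)) := by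
  have hpp : p.Prime := Fact.out
  obtain ⟨k, hk⟩ := ha ⟨a, Subgroup.mem_zpowers a⟩
  have hak : a ^ p ^ k = 1 := by
    have := congrArg Subtype.val hk
    rwa [Subgroup.coe_pow, Subgroup.coe_one] at this
  have hta : a.1.trace = 2 := by
    apply Cfsg.Agent.Lib.Helper41.trace_of_pow_char_pow p (k := k)
    rw [← Matrix.SpecialLinearGroup.coe_pow, hak, Matrix.SpecialLinearGroup.coe_one]
  have hap : a ^ p = 1 := by
    apply Cfsg.Agent.Lib.Helper41.sl2_pow_eq_one_of_coe
    rw [Cfsg.Agent.Lib.Helper41.pow_char_of_trace p a.det_coe (e := 1) (by ring)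
      (by rw [hta]; ring), one_pow, one_smul]
  have haC : a ∉ Subgroup.centralizer (R : Set (Matrix.SpecialLinearGroup (Fin 2) F)) := by
    intro hc
    apply hnt
    rw [eq_bot_iff, Subgroup.commutator_le]
    intro r hr z hz
    rw [Subgroup.mem_bot, commutatorElement_eq_one_iff_commute]
    have hz' : z ∈ Subgroup.centralizer (R : Set (Matrix.SpecialLinearGroup (Fin 2) F)) :=
      (Subgroup.zpowers_le.mpr hc) hz
    exact Subgroup.mem_centralizer_iff.mp hz' r hr
  exact Cfsg.Agent.Lib.Helper11.sl2_normalized_pPrime p hp a hap R hR haR haC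

end Cfsg.Agent.S3740
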