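-- Statement S3765: Hall–Higman/Shult type fixed point theorem (reduction to the Hall–Higman bound).
import Mathlib
import Cfsg.Statements.S3765
import Cfsg.Agent.Lib.Helper54.HHSection
import Cfsg.Agent.Lib.Helper54.HHModule

set_option autoImplicit false
open Cfsg

namespace Cfsg.Agent.S3765

open scoped commutatorElement
open Cfsg.Agent.Lib.Helper54

universe u

theorem main {G : Type u} [Group G] [Finite G] {p q r : ℕ} (hp : p.Prime) (hq : q.Prime)
    (hr : r.Prime) (hpq : p ≠ q) (hpr : p ≠ r) (hqr : q ≠ r) (X Q V : Subgroup G)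
    (hX : Nat.card X = r) (hQ : IsPGroup q Q) (hXQ : X ≤ Subgroup.normalizer (Q : Set G))
    (hXfaith : X ⊓ Subgroup.centralizer (Q : Set G) = ⊥) (hV : Cfsg.IsElementaryAbelian p V)
    (hXV : X ≤ Subgroup.normalizer (V : Set G)) (hQV : Q ≤ Subgroup.normalizer (V : Set G))
    (hfaith : (X ⊔ Q) ⊓ Subgroup.centralizer (V : Set G) = ⊥)
    (hexc : q = 2 → (∃ n : ℕ, r = 2 ^ n + 1) → IsMulCommutative Q) :
    V ⊓ Subgroup.centralizer (X : Set G) ≠ ⊥ := by
  intro hCV0
  -- `Q` is not centralized by `X`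
  have hnc : ¬ Q ≤ Subgroup.centralizer (X : Set G) := by
    intro h
    have h1 : X ≤ X ⊓ Subgroup.centralizer (Q : Set G) :=
      le_inf le_rfl (Subgroup.le_centralizer_iff.mp h)
    rw [hXfaith, le_bot_iff] at h1
    rw [h1, Subgroup.card_bot] at hX
    exact hr.one_lt.ne hX
  obtain ⟨P, hPQ, hXP, hncP, hmin⟩ := exists_minimal_invariant X Q hXQ hnc
  have hPq : IsPGroup q P := hQ.to_le hPQ
  have hcomm := minimal_commutator_eq hq hr hqr X P hX hPq hXP hncP hmin
  have hPV : P ≤ Subgroup.normalizer (V : Set G) := hPQ.trans hQV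
  have hPbot : ∀ U : Subgroup G, U ≤ P → U ≤ Subgroup.centralizer (V : Set G) → U = ⊥ := by
    intro U hUP hUV
    rw [eq_bot_iff, ← hfaith]
    exact le_inf ((hUP.trans hPQ).trans le_sup_right) hUV
  by_cases hPab : ∀ a ∈ P, ∀ b ∈ P, a * b = b * a
  · -- abelian case
    have h1 := abelian_case hp hq hr hpq hqr X P V hX hPq hXP hcomm hPab hV hXV hPV hCV0
    have h2 := hPbot P le_rfl h1
    apply hncP
    rw [h2]
    exact bot_le
  · -- nonabelian case
    push Not at hPab
    obtain ⟨a, ha, b, hb, hab⟩ := hPab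
    have hnab : ∃ a ∈ P, ∃ b ∈ P, a * b ≠ b * a := ⟨a, ha, b, hb, hab⟩
    have hP1 : P ≠ ⊥ := by
      intro h
      rw [h, Subgroup.mem_bot] at ha hb
      rw [ha, hb] at hab
      exact hab rfl
    have hD1 := minimal_comm_mem hq X P hPq hXP hP1 hmin
    have hD2 := minimal_pow_mem hq X P hPq hXP hP1 hmin
    have hD3 := minimal_centralizer_central X P hcomm hD1
    have hD5 := centralizer_le_commutator hq hr hqr X P hX hPq hXP hcomm
    have hD6 := minimal_centralizer_exponent (q := q) X P hD1 hD2 hD3 hD5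
    set C : Subgroup G := P ⊓ Subgroup.centralizer (X : Set G) with hC
    have hCP : C ≤ P := inf_le_left
    have hCV : ¬ C ≤ Subgroup.centralizer (V : Set G) := by
      intro h
      have h1 := hPbot C hCP h
      have h2 : ⁅a, b⁆ ∈ C := ⟨by
        rw [commutatorElement_def]
        exact P.mul_mem (P.mul_mem (P.mul_mem ha hb) (P.inv_mem ha)) (P.inv_mem hb),
        hD1 a ha b hb⟩
      rw [h1, Subgroup.mem_bot] at h2
      apply hab
      rw [commutatorElement_def] at h2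
      calc a * b = (a * b * a⁻¹ * b⁻¹) * (b * a) := by group
        _ = b * a := by rw [h2, one_mul]
    obtain ⟨V₁, hV₁V, hXV₁, hPV₁, a₀, ha₀C, ha₀V, hidx⟩ :=
      exists_irreducible_module hp hq hpq X P C V hPq hCP
        (fun c hc => hD6 c hc.1 hc.2)
        (fun c hc y hy => Subgroup.mem_centralizer_iff.mp hc.2 y hy)
        (fun c hc a ha => hD3 c hc.1 hc.2 a ha) hV hXV hPV hCV
    obtain ⟨x, hxX, hXx, hxr, hx1⟩ := exists_generator_of_prime_card X hr hX
    have hcx : ∀ c : G, c ∈ Subgroup.centralizer (X : Set G) ↔ c * x = x * c := by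
      intro c
      constructor
      · intro hc
        exact (Subgroup.mem_centralizer_iff.mp hc x hxX).symm
      · intro hc
        rw [hXx]
        exact mem_centralizer_zpowers hc
    set K : Subgroup G := C ⊓ Subgroup.centralizer (V₁ : Set G) with hK
    have hKP : K ≤ P := inf_le_left.trans hCP
    have hKx : ∀ k ∈ K, k * x = x * k := fun k hk => (hcx k).mp hk.1.2
    have hKV : K ≤ Subgroup.centralizer (V₁ : Set G) := inf_le_right
    have hKcen : ∀ k ∈ K, ∀ a ∈ P, a * k = k * a := fun k hk a ha => hD3 k hk.1.1 hk.1.2 a ha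
    have hnabK : ∃ a ∈ P, ∃ b ∈ P, ⁅a, b⁆ ∉ K := by
      by_contra hcon
      push Not at hcon
      have h1 : ⁅P, P⁆ ≤ K := Subgroup.commutator_le.mpr hcon
      exact ha₀V (hKV (h1 (hD5 a₀ ha₀C.1 ha₀C.2)))
    have hcen := minimal_center_mod x hXx (hXP hxX) hKx hKcen hnabK hmin
    have hVfix : ∀ v ∈ V₁, x * v = v * x → v = 1 := by
      intro v hv hxv
      have h1 : v ∈ V ⊓ Subgroup.centralizer (X : Set G) :=
        Subgroup.mem_inf.mpr ⟨hV₁V hv, (hcx v).mpr hxv.symm⟩
      rw [hCV0, Subgroup.mem_bot] at h1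
      exact h1
    have hVab : ∀ u ∈ V₁, ∀ v ∈ V₁, u * v = v * u := by
      intro u hu v hv
      have h1 := hV.1.is_comm.comm (⟨u, hV₁V hu⟩ : ↥V) ⟨v, hV₁V hv⟩
      exact congrArg Subtype.val h1
    obtain ⟨hq2, hfer⟩ := hh_section hp hq hr hpq hpr hqr X P V₁ K x hX hxX hxr hPq hXP hXV₁ hPV₁
      hVab (fun v hv => hV.2 v (hV₁V hv)) hVfix hKP hKx hKV
      (fun a ha b hb => (hcx _).mp (hD1 a ha b hb))
      (fun c hc hcx' a ha => hD3 c hc ((hcx c).mpr hcx') a ha)
      hcen a₀ ha₀C.1 ((hcx a₀).mp ha₀C.2) (hD6 a₀ ha₀C.1 ha₀C.2) ha₀V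
      (fun b hb hbx => by
        obtain ⟨j, hj⟩ := hidx b ⟨hb, (hcx b).mpr hbx⟩
        exact ⟨j, Subgroup.mem_inf.mpr
          ⟨C.mul_mem ⟨hb, (hcx b).mpr hbx⟩ (C.pow_mem ha₀C j), hj⟩⟩)
      hnabK
    have hQab := hexc hq2 hfer
    exact hab (congrArg Subtype.val (hQab.is_comm.comm (⟨a, hPQ ha⟩ : ↥Q) ⟨b, hPQ hb⟩))

/-- Let p, q, r be distinct primes and let X, Q, V be subgroups of a finite group with X of order r normalizing the q-group Q and acting faithfully on it (X ∩ C(Q) = 1), and V a nontrivial elementary abelian p-group normalized by X and Q on which XQ acts faithfully. If q = 2 and r has the form 2^n + 1, assume in addition that Q is abelian. Then C_V(X) ≠ 1. -/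
theorem result {G : Type*} [Group G] [Finite G] {p q r : ℕ} (hp : p.Prime) (hq : q.Prime) (hr : r.Prime) (hpq : p ≠ q) (hpr : p ≠ r) (hqr : q ≠ r) (X Q V : Subgroup G) (hX : Nat.card X = r) (hQ : IsPGroup q Q) (hXQ : X ≤ Subgroup.normalizer (Q : Set G)) (hXfaith : X ⊓ Subgroup.centralizer (Q : Set G) = ⊥) (hV : Cfsg.IsElementaryAbelian p V) (hV1 : V ≠ ⊥) (hXV : X ≤ Subgroup.normalizer (V : Set G)) (hQV : Q ≤ Subgroup.normalizer (V : Set G)) (hfaith : (X ⊔ Q) ⊓ Subgroup.centralizer (V : Set G) = ⊥) (hexc : q = 2 → (∃ n : ℕ, r = 2 ^ n + 1) → IsMulCommutative Q) : V ⊓ Subgroup.centralizer (X : Set G) ≠ ⊥ := by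
  exact main hp hq hr hpq hpr hqr X Q V hX hQ hXQ hXfaith hV hXV hQV hfaith hexc

end Cfsg.Agent.S3765
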