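import Cfsg.Statements.S3770
import Cfsg.Agent.S0035
import Cfsg.Agent.S0033
import Cfsg.Agent.Lib.Helper97.FrobActMain

set_option autoImplicit false
open Cfsg

namespace Cfsg.Agent.S3770

open scoped Pointwise commutatorElement

theorem mem_zpowers_of_prime_card {X : Type*} [Group X] (C : Subgroup X) {ℓ : ℕ} (hℓ : ℓ.Prime)
    (hC : Nat.card C = ℓ) (u u' : X) (hu : u ∈ C) (hu' : u' ∈ C) (hu1 : u ≠ 1) :
    u' ∈ Subgroup.zpowers u := by
  have : Fact ℓ.Prime := ⟨hℓ⟩
  have h1 : Subgroup.zpowers (⟨u, hu⟩ : C) = ⊤ :=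
    zpowers_eq_top_of_prime_card hC (fun h => hu1 (Subtype.ext_iff.mp h))
  have h2 : (⟨u', hu'⟩ : C) ∈ Subgroup.zpowers (⟨u, hu⟩ : C) := by
    rw [h1]
    exact Subgroup.mem_top _
  obtain ⟨i, hi⟩ := Subgroup.mem_zpowers_iff.mp h2
  refine Subgroup.mem_zpowers_iff.mpr ⟨i, ?_⟩
  have h3 := Subtype.ext_iff.mp hi
  rw [Subgroup.coe_zpow] at h3
  exact h3

/-- The conjugation action of a subgroup `G` of the normalizer of `V` on `V`. -/
@[reducible] def conjAct {X : Type*} [Group X] (G V : Subgroup X)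
    (h : G ≤ Subgroup.normalizer (V : Set X)) : MulDistribMulAction G V where
  smul g v := ⟨g * v * (g : X)⁻¹, (Subgroup.mem_normalizer_iff.mp (h g.2) v).mp v.2⟩
  one_smul v := Subtype.ext (by
    change ((1 : G) : X) * v * ((1 : G) : X)⁻¹ = v
    simp)
  mul_smul a b v := Subtype.ext (by
    change ((a * b : G) : X) * v * ((a * b : G) : X)⁻¹ = (a : X) * ((b : X) * v * (b : X)⁻¹) * (a : X)⁻¹
    simp [mul_assoc])
  smul_mul a v w := Subtype.ext (by
    change (a : X) * ((v * w : V) : X) * (a : X)⁻¹ = ((a : X) * v * (a : X)⁻¹) * ((a : X) * w * (a : X)⁻¹)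
    simp [mul_assoc])
  smul_one a := Subtype.ext (by
    change (a : X) * ((1 : V) : X) * (a : X)⁻¹ = 1
    simp)

/-- Let G and V be subgroups of a finite group with G a Frobenius group with complement R of prime order and kernel K, G normalizing V, and V an elementary abelian ℓ-group for a prime ℓ not dividing the order of G. If C_V(R) has order ℓ, then the derived subgroup of K centralizes V. -/
theorem result {X : Type*} [Group X] [Finite X] (G : Subgroup X) (V : Subgroup X) {ℓ : ℕ} (hℓ : ℓ.Prime) (hV : Cfsg.IsElementaryAbelian ℓ V) (hℓG : ¬ ℓ ∣ Nat.card G) (hGV : G ≤ Subgroup.normalizer (V : Set X)) (R : Subgroup ↥G) (hR : Cfsg.IsFrobeniusComplement R) (hRp : (Nat.card R).Prime) (hCV : Nat.card ↥(V ⊓ Subgroup.centralizer ((R.map G.subtype : Subgroup X) : Set X)) = ℓ) : ⁅Subgroup.closure (Subtype.val '' Cfsg.frobeniusKernel R), Subgroup.closure (Subtype.val '' Cfsg.frobeniusKernel R)⁆ ≤ Subgroup.centralizer (V : Set X) := by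
  classical
  obtain ⟨N, hNset, hNnormal, hNcompl⟩ := Cfsg.Agent.S0035.result R hR
  have hcl : Subgroup.closure (Subtype.val '' Cfsg.frobeniusKernel R) = N.map G.subtype := by
    rw [← hNset]
    have h1 : (Subtype.val '' (N : Set ↥G)) = ((N.map G.subtype : Subgroup X) : Set X) := by
      rw [Subgroup.coe_map]
      rfl
    rw [h1, Subgroup.closure_eq]
  rw [hcl]
  have := hNnormal
  -- a generator of `R`
  have hpF : Fact (Nat.card R).Prime := ⟨hRp⟩
  obtain ⟨r, hrR, hr1⟩ : ∃ r ∈ R, r ≠ 1 := by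
    by_contra hcon
    push Not at hcon
    exact hR.1 ((Subgroup.eq_bot_iff_forall R).mpr hcon)
  have hrp : r ^ Nat.card R = 1 := by
    have h1 : (⟨r, hrR⟩ : R) ^ Nat.card R = 1 := pow_card_eq_one'
    have h2 : (((⟨r, hrR⟩ : R) ^ Nat.card R : R) : G) = ((1 : R) : G) := congrArg Subtype.val h1
    rw [Subgroup.coe_pow, Subgroup.coe_one] at h2
    exact h2
  have hRz : ∀ x ∈ R, ∃ i : ℤ, r ^ i = x := by
    intro x hx
    have h1 : Subgroup.zpowers (⟨r, hrR⟩ : R) = ⊤ :=
      zpowers_eq_top_of_prime_card (p := Nat.card R) rfl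
        (fun h => hr1 (congrArg Subtype.val h))
    have h2 : (⟨x, hx⟩ : R) ∈ Subgroup.zpowers (⟨r, hrR⟩ : R) := by
      rw [h1]
      exact Subgroup.mem_top _
    obtain ⟨i, hi⟩ := Subgroup.mem_zpowers_iff.mp h2
    exact ⟨i, by simpa using congrArg Subtype.val hi⟩
  -- `r` centralizes no nonidentity element of `N`
  have hfix : ∀ k ∈ N, r * k = k * r → k = 1 := by
    intro k hk hcomm
    by_contra hk1
    have hk' : k ∈ Cfsg.frobeniusKernel R := by
      rw [← hNset]
      exact hk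
    rcases hk' with h | h
    · exact hk1 h
    · have hkR : k ∉ R := by
        have := h 1
        simpa using this
      have h1 := hR.2.2 k hkR
      have h2 : r ∈ R ⊓ (MulAut.conj k • R) := by
        refine ⟨hrR, ?_⟩
        have h3 : MulAut.conj k • r ∈ MulAut.conj k • R :=
          Subgroup.smul_mem_pointwise_smul r _ R hrR
        have h4 : MulAut.conj k • r = r := by
          rw [MulAut.smul_def, MulAut.conj_apply, ← hcomm, mul_inv_cancel_right]
        rwa [h4] at h3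
      rw [h1] at h2
      exact hr1 (Subgroup.mem_bot.mp h2)
  -- `N` is nilpotent
  have hnil : Group.IsNilpotent N := by
    let φ : N →* N := (MulAut.conjNormal r : MulAut N).toMonoidHom
    have hφ : MonoidHom.FixedPointFree φ := by
      intro k hk
      have h1 : ((φ k : N) : G) = r * k * r⁻¹ := rfl
      have h3 : r * (k : G) * r⁻¹ = k := by
        rw [← h1, hk]
      have h2 : r * (k : G) = k * r := by
        calc r * (k : G) = (r * k * r⁻¹) * r := by group
          _ = k * r := by rw [h3]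
      exact Subtype.ext (hfix k k.2 h2)
    have hφp : (⇑φ)^[Nat.card R] = _root_.id := by
      funext x
      have h1 : (MulAut.conjNormal r : MulAut N) ^ Nat.card R = 1 := by
        rw [← map_pow, hrp, map_one]
      have h2 := Cfsg.Agent.S0033.mulEquiv_pow_apply (MulAut.conjNormal r : MulAut N)
        (Nat.card R) x
      rw [h1] at h2
      exact h2.symm
    exact Cfsg.Agent.S0033.fpf_nilpotent_of_iterate φ hφ hRp hφp
  obtain ⟨hVc, hVexp⟩ := hV
  letI : CommGroup V := { (inferInstance : Group V) with mul_comm := hVc.is_comm.comm }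
  letI : MulDistribMulAction G V := conjAct G V hGV
  have hsmul : ∀ (g : G) (v : V), ((g • v : V) : X) = g * v * (g : X)⁻¹ := fun _ _ => rfl
  have hmem : ∀ w : V, r • w = w →
      (w : X) ∈ V ⊓ Subgroup.centralizer ((R.map G.subtype : Subgroup X) : Set X) := by
    intro w hw
    refine Subgroup.mem_inf.mpr ⟨w.2, ?_⟩
    rw [Subgroup.mem_centralizer_iff]
    rintro _ ⟨x, hx, rfl⟩
    obtain ⟨i, rfl⟩ := hRz x hx
    have h1 : (r : X) * w * (r : X)⁻¹ = w := by
      rw [← hsmul, hw]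
    have h2 : Commute (r : X) (w : X) := by
      change (r : X) * w = w * r
      calc (r : X) * w = ((r : X) * w * (r : X)⁻¹) * r := by group
        _ = w * r := by rw [h1]
    simpa using (h2.zpow_left i).eq
  have hcyc : ∀ u ∈ (⊤ : Subgroup V), ∀ u' ∈ (⊤ : Subgroup V), r • u = u → r • u' = u' → u ≠ 1 →
      u' ∈ Subgroup.zpowers u := by
    intro u _ u' _ hu hu' hu1
    obtain ⟨i, hi⟩ := Subgroup.mem_zpowers_iff.mp
      (mem_zpowers_of_prime_card _ hℓ hCV (u : X) (u' : X) (hmem u hu) (hmem u' hu')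
        (fun h => hu1 (Subtype.ext h)))
    exact Subgroup.mem_zpowers_iff.mpr ⟨i, Subtype.ext hi⟩
  have key := Cfsg.Agent.Lib.Helper97.FrobAct.comm_of_frob (G := G) (V := V) N hnil r hRp hrp hfix
    hℓ (fun v => Subtype.ext (by simpa using hVexp v v.2)) hℓG
    (Nat.card (⊤ : Subgroup V)) ⊤ le_rfl (fun g u _ => Subgroup.mem_top _) hcyc
  rw [Subgroup.commutator_le]
  rintro _ ⟨k, hk, rfl⟩ _ ⟨k', hk', rfl⟩
  rw [Subgroup.mem_centralizer_iff]
  intro v hv
  have h := key k⁻¹ (N.inv_mem hk) k'⁻¹ (N.inv_mem hk') ⟨v, hv⟩ (Subgroup.mem_top _)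
  have h' : ((k : X)⁻¹ * ((k' : X)⁻¹ * v * (k' : X)⁻¹⁻¹) * (k : X)⁻¹⁻¹ : X) =
      (k' : X)⁻¹ * ((k : X)⁻¹ * v * (k : X)⁻¹⁻¹) * (k' : X)⁻¹⁻¹ := congrArg Subtype.val h
  rw [commutatorElement_def]
  change v * ((k : X) * (k' : X) * (k : X)⁻¹ * (k' : X)⁻¹) =
    (k : X) * (k' : X) * (k : X)⁻¹ * (k' : X)⁻¹ * v
  calc v * ((k : X) * (k' : X) * (k : X)⁻¹ * (k' : X)⁻¹)
      = ((k : X) * k') * ((k' : X)⁻¹ * ((k : X)⁻¹ * v * (k : X)⁻¹⁻¹) * (k' : X)⁻¹⁻¹) *
          ((k : X)⁻¹ * (k' : X)⁻¹) := by group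
    _ = ((k : X) * k') * ((k : X)⁻¹ * ((k' : X)⁻¹ * v * (k' : X)⁻¹⁻¹) * (k : X)⁻¹⁻¹) *
          ((k : X)⁻¹ * (k' : X)⁻¹) := by rw [h']
    _ = (k : X) * (k' : X) * (k : X)⁻¹ * (k' : X)⁻¹ * v := by group

end Cfsg.Agent.S3770
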