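import Mathlib
import Cfsg.Statements.S3778

set_option autoImplicit false
open Cfsg

namespace Cfsg.Agent.S3778

open scoped commutatorElement

theorem card_mul_le {G : Type*} [Group G] {p : ℕ} [Fact p.Prime] [Finite G] (hG : IsPGroup p G)
    (H K : Subgroup G) (hle : H ≤ K) (hne : H ≠ K) : Nat.card H * p ≤ Nat.card K := by
  have hp : p.Prime := Fact.out
  obtain ⟨m, hm⟩ := Subgroup.card_dvd_of_le hle
  obtain ⟨n, hn⟩ := IsPGroup.iff_card.1 hG
  have hK : Nat.card K ∣ p ^ n := by rw [← hn]; exact Subgroup.card_subgroup_dvd_card K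
  have hmd : m ∣ p ^ n := (Dvd.intro_left _ hm.symm).trans hK
  obtain ⟨j, -, hj⟩ := (Nat.dvd_prime_pow hp).1 hmd
  have hj0 : j ≠ 0 := by
    rintro rfl
    rw [pow_zero] at hj
    rw [hj, mul_one] at hm
    exact hne (Subgroup.eq_of_le_of_card_ge hle hm.le)
  rw [hm, hj]
  exact Nat.mul_le_mul_left _ (Nat.le_self_pow hj0 p)

/-- the two-step centralizer of `γ_i / γ_{i+2}` -/
def twoStep (G : Type*) [Group G] (i : ℕ) : Subgroup G where
  carrier := {x | ∀ l ∈ (⊤ : Subgroup G).lowerCentralSeries i,
    ⁅l, x⁆ ∈ (⊤ : Subgroup G).lowerCentralSeries (i + 2)}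
  mul_mem' := by
    intro x y hx hy l hl
    have h1 : ⁅l, x * y⁆ = ⁅l, x⁆ * (x * ⁅l, y⁆ * x⁻¹) := by
      simp only [commutatorElement_def]; group
    rw [h1]
    exact mul_mem (hx l hl) ((inferInstance :
      ((⊤ : Subgroup G).lowerCentralSeries (i + 2)).Normal).conj_mem _ (hy l hl) x)
  one_mem' := by
    intro l _
    rw [commutatorElement_one_right]; exact one_mem _
  inv_mem' := by
    intro x hx l hl
    have h1 : ⁅l, x⁻¹⁆ = x⁻¹ * ⁅l, x⁆⁻¹ * x⁻¹⁻¹ := by
      simp only [commutatorElement_def]; group
    rw [h1]
    exact (inferInstance : ((⊤ : Subgroup G).lowerCentralSeries (i + 2)).Normal).conj_mem _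
      (inv_mem (hx l hl)) x⁻¹

theorem twoStep_ne_top {G : Type*} [Group G] (i : ℕ)
    (h : (⊤ : Subgroup G).lowerCentralSeries (i + 1) ≠ (⊤ : Subgroup G).lowerCentralSeries (i + 2)) :
    twoStep G i ≠ ⊤ := by
  intro htop
  apply h
  apply le_antisymm _ ((⊤ : Subgroup G).lowerCentralSeries_antitone (Nat.le_succ _))
  rw [Subgroup.lowerCentralSeries_succ, Subgroup.commutator_le]
  intro l hl x _
  have h1 : x ∈ twoStep G i := by rw [htop]; exact Subgroup.mem_top _
  exact h1 l hl

theorem breadth_bound {G : Type*} [Group G] [Finite G] {p : ℕ} [Fact p.Prime] (hG : IsPGroup p G)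
    (x : G) (n : ℕ) [DecidablePred (fun i => x ∉ twoStep G i)] :
    p ^ ((Finset.range n).filter (fun i => x ∉ twoStep G i)).card ≤
      (Subgroup.centralizer ({x} : Set G)).index := by
  classical
  have hp : p.Prime := Fact.out
  set C := Subgroup.centralizer ({x} : Set G) with hC
  set H : ℕ → Subgroup G := fun i => C ⊔ (⊤ : Subgroup G).lowerCentralSeries i with hH
  have hA : ∀ i, H (i + 1) = H i → x ∈ twoStep G i := by
    intro i heq l hl
    have h1 : l ∈ H (i + 1) := by rw [heq]; exact Subgroup.mem_sup_right hl
    have h2 : l ∈ ((C ⊔ (⊤ : Subgroup G).lowerCentralSeries (i + 1) : Subgroup G) : Set G) := h1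
    rw [Subgroup.mul_normal] at h2
    obtain ⟨c, hc, l', hl', rfl⟩ := Set.mem_mul.1 h2
    have hcx : c * x = x * c := (Subgroup.mem_centralizer_iff.1 hc x rfl).symm
    have h3 : ⁅c * l', x⁆ = c * ⁅l', x⁆ * c⁻¹ := by
      have hcx' : c⁻¹ * x⁻¹ = x⁻¹ * c⁻¹ := by rw [← mul_inv_rev, ← mul_inv_rev, hcx]
      simp only [commutatorElement_def, mul_inv_rev, mul_assoc]
      rw [hcx']
    rw [h3]
    refine (inferInstance : ((⊤ : Subgroup G).lowerCentralSeries (i + 2)).Normal).conj_mem _ ?_ c
    rw [Subgroup.lowerCentralSeries_succ]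
    exact Subgroup.commutator_mem_commutator hl' (Subgroup.mem_top x)
  have hmono : ∀ i, H (i + 1) ≤ H i := fun i =>
    sup_le_sup_left ((⊤ : Subgroup G).lowerCentralSeries_antitone (Nat.le_succ i)) _
  have hB : ∀ i, p ^ ((Finset.range i).filter (fun j => H (j + 1) ≠ H j)).card * Nat.card (H i) ≤
      Nat.card (H 0) := by
    intro i
    induction i with
    | zero => simp
    | succ i ih =>
      rw [Finset.range_add_one, Finset.filter_insert]
      by_cases h : H (i + 1) = H i
      · rw [if_neg (not_not.2 h), h]; exact ih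
      · rw [if_pos h, Finset.card_insert_of_notMem (by simp), pow_succ]
        calc p ^ ((Finset.range i).filter (fun j => H (j + 1) ≠ H j)).card * p *
              Nat.card (H (i + 1))
            = p ^ ((Finset.range i).filter (fun j => H (j + 1) ≠ H j)).card *
              (Nat.card (H (i + 1)) * p) := by ring
          _ ≤ p ^ ((Finset.range i).filter (fun j => H (j + 1) ≠ H j)).card * Nat.card (H i) :=
            Nat.mul_le_mul_left _ (card_mul_le hG _ _ (hmono i) h)
          _ ≤ _ := ih
  have h0 : H 0 = ⊤ := by simp [hH]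
  have h1 := hB n
  rw [h0, Subgroup.card_top] at h1
  have h2 : Nat.card C ≤ Nat.card (H n) := Subgroup.card_le_of_le le_sup_left
  have h3 : ((Finset.range n).filter (fun i => x ∉ twoStep G i)).card ≤
      ((Finset.range n).filter (fun j => H (j + 1) ≠ H j)).card := by
    apply Finset.card_le_card
    intro i hi
    rw [Finset.mem_filter] at hi ⊢
    exact ⟨hi.1, fun heq => hi.2 (hA i heq)⟩
  have h4 := Nat.pow_le_pow_right hp.pos h3
  have h5 := Subgroup.card_mul_index C
  have hCpos : 0 < Nat.card C := Nat.card_pos
  have h6 : Nat.card C * p ^ ((Finset.range n).filter (fun i => x ∉ twoStep G i)).card ≤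
      Nat.card C * C.index := by
    rw [h5, mul_comm]
    exact (Nat.mul_le_mul h4 h2).trans h1
  exact Nat.le_of_mul_le_mul_left h6 hCpos

/-- If G is a finite p-group in which every conjugacy class has at most p^b elements (every element has centralizer of index at most p^b), then G is abelian when b = 0, and when b ≥ 1 its nilpotency class c satisfies (c − 1)(p − 1) < bp, that is c < bp/(p − 1) + 1, and hence c ≤ 2b. -/
theorem result {G : Type*} [Group G] [Finite G] {p : ℕ} [Fact p.Prime] (hG : IsPGroup p G) (b : ℕ) (hb : ∀ x : G, (Subgroup.centralizer ({x} : Set G)).index ≤ p ^ b) : ∃ c : ℕ, (⊤ : Subgroup G).lowerCentralSeries c = ⊥ ∧ (b ≠ 0 → (c - 1) * (p - 1) < b * p ∧ c ≤ 2 * b) ∧ (b = 0 → c ≤ 1) := by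
  classical
  have hp : p.Prime := Fact.out
  by_cases hb0 : b = 0
  · refine ⟨1, ?_, fun h => absurd hb0 h, fun _ => le_rfl⟩
    rw [Subgroup.lowerCentralSeries_succ, Subgroup.lowerCentralSeries_zero,
      Subgroup.commutator_eq_bot_iff_le_centralizer]
    intro y _
    rw [Subgroup.mem_centralizer_iff]
    intro x _
    have h1 := hb x
    rw [hb0, pow_zero] at h1
    have h2 : (Subgroup.centralizer ({x} : Set G)).index = 1 := by
      have := Subgroup.index_ne_zero_of_finite (H := Subgroup.centralizer ({x} : Set G))
      omega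
    rw [Subgroup.index_eq_one] at h2
    have h3 : y ∈ Subgroup.centralizer ({x} : Set G) := by rw [h2]; exact Subgroup.mem_top _
    exact Subgroup.mem_centralizer_iff.1 h3 x rfl
  · haveI : Group.IsNilpotent G := hG.isNilpotent
    have hex : ∃ n, (⊤ : Subgroup G).lowerCentralSeries n = ⊥ :=
      Subgroup.nilpotent_iff_lowerCentralSeries.1 inferInstance
    refine ⟨Nat.find hex, Nat.find_spec hex, fun _ => ?_, fun h => absurd h hb0⟩
    have hLc : (⊤ : Subgroup G).lowerCentralSeries (Nat.find hex) = ⊥ := Nat.find_spec hex
    have hmin : ∀ i < Nat.find hex, (⊤ : Subgroup G).lowerCentralSeries i ≠ ⊥ :=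
      fun i hi => Nat.find_min hex hi
    generalize Nat.find hex = c at hLc hmin ⊢
    have hpos : 0 < b := Nat.pos_of_ne_zero hb0
    obtain ⟨q, hq⟩ : ∃ q, p = q + 1 := ⟨p - 1, by have := hp.pos; omega⟩
    have hq1 : 1 ≤ q := by have := hp.two_le; omega
    have key : (c - 1) * q < b * p := by
      rcases Nat.lt_or_ge c 2 with hc2 | hc2
      · have h1 : c - 1 = 0 := by omega
        rw [h1, zero_mul]; exact Nat.mul_pos hpos hp.pos
      have hstrict : ∀ i, i + 1 < c → (⊤ : Subgroup G).lowerCentralSeries (i + 1) ≠
          (⊤ : Subgroup G).lowerCentralSeries (i + 2) := by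
        intro i hi heq
        have h1 : ∀ k, (⊤ : Subgroup G).lowerCentralSeries (i + 1 + k) =
            (⊤ : Subgroup G).lowerCentralSeries (i + 1) := by
          intro k
          induction k with
          | zero => rfl
          | succ k ih =>
            rw [← add_assoc, Subgroup.lowerCentralSeries_succ, ih,
              ← Subgroup.lowerCentralSeries_succ]
            exact heq.symm
        have h2 := h1 (c - (i + 1))
        rw [show i + 1 + (c - (i + 1)) = c by omega, hLc] at h2
        exact hmin (i + 1) hi h2.symm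
      set N := Nat.card G with hNdef
      have hNpos : 0 < N := Nat.card_pos
      letI : Fintype G := Fintype.ofFinite G
      have hNu : (Finset.univ : Finset G).card = N := by
        rw [Finset.card_univ, hNdef, Nat.card_eq_fintype_card]
      have hi : ∀ i ∈ Finset.range (c - 1),
          q * N ≤ p * (Finset.univ.filter (fun x : G => x ∉ twoStep G i)).card := by
        intro i hi
        rw [Finset.mem_range] at hi
        have hne : twoStep G i ≠ ⊤ := twoStep_ne_top i (hstrict i (by omega))
        have h1 : Nat.card (twoStep G i) * p ≤ N := by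
          have h := card_mul_le hG (twoStep G i) ⊤ le_top hne
          rwa [Subgroup.card_top] at h
        have h2 : (Finset.univ.filter (fun x : G => x ∈ twoStep G i)).card =
            Nat.card (twoStep G i) := by
          rw [Nat.card_eq_fintype_card]
          exact (Fintype.card_of_subtype _ (by simp)).symm
        have h3 := Finset.card_filter_add_card_filter_not (s := (Finset.univ : Finset G))
          (fun x : G => x ∈ twoStep G i)
        rw [h2, hNu] at h3
        rw [hq] at h1 ⊢
        rw [← h3] at h1 ⊢
        nlinarith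
      have hsum1 : (c - 1) * (q * N) ≤ p * ∑ i ∈ Finset.range (c - 1),
          (Finset.univ.filter (fun x : G => x ∉ twoStep G i)).card := by
        rw [Finset.mul_sum]
        calc (c - 1) * (q * N) = ∑ i ∈ Finset.range (c - 1), q * N := by
              rw [Finset.sum_const, Finset.card_range, smul_eq_mul]
          _ ≤ _ := Finset.sum_le_sum hi
      have hswap : ∑ i ∈ Finset.range (c - 1),
          (Finset.univ.filter (fun x : G => x ∉ twoStep G i)).card =
          ∑ x : G, ((Finset.range (c - 1)).filter (fun i => x ∉ twoStep G i)).card := by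
        simp only [Finset.card_filter]
        exact Finset.sum_comm
      have hk : ∀ x : G, ((Finset.range (c - 1)).filter (fun i => x ∉ twoStep G i)).card ≤ b := by
        intro x
        have h1 := breadth_bound hG x (c - 1)
        have h2 := h1.trans (hb x)
        exact (Nat.pow_le_pow_iff_right hp.one_lt).1 h2
      have hk1 : ((Finset.range (c - 1)).filter (fun i => (1 : G) ∉ twoStep G i)).card = 0 := by
        rw [Finset.card_eq_zero, Finset.filter_eq_empty_iff]
        intro i _
        simp [one_mem]
      have hsum2 : ∑ x : G, ((Finset.range (c - 1)).filter (fun i => x ∉ twoStep G i)).card ≤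
          b * (N - 1) := by
        rw [← Finset.add_sum_erase _ _ (Finset.mem_univ (1 : G)), hk1, zero_add]
        calc _ ≤ ((Finset.univ : Finset G).erase 1).card • b :=
              Finset.sum_le_card_nsmul _ _ _ (fun x _ => hk x)
          _ = b * (N - 1) := by
              rw [Finset.card_erase_of_mem (Finset.mem_univ _), hNu, smul_eq_mul, mul_comm]
      have h7 : (c - 1) * q * N < b * p * N := by
        calc (c - 1) * q * N = (c - 1) * (q * N) := by ring
          _ ≤ p * ∑ i ∈ Finset.range (c - 1),
              (Finset.univ.filter (fun x : G => x ∉ twoStep G i)).card := hsum1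
          _ = p * ∑ x : G, ((Finset.range (c - 1)).filter (fun i => x ∉ twoStep G i)).card := by
              rw [hswap]
          _ ≤ p * (b * (N - 1)) := Nat.mul_le_mul_left _ hsum2
          _ < b * p * N := by
            have h8 : N - 1 < N := by omega
            have hbp : 0 < p * b := Nat.mul_pos hp.pos hpos
            calc p * (b * (N - 1)) = p * b * (N - 1) := by ring
              _ < p * b * N := Nat.mul_lt_mul_of_pos_left h8 hbp
              _ = b * p * N := by ring
      exact Nat.lt_of_mul_lt_mul_right h7
    refine ⟨by rw [show p - 1 = q by omega]; exact key, ?_⟩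
    by_contra hcon
    push Not at hcon
    have h1 : 2 * b ≤ c - 1 := by omega
    have h2 : 2 * b * q ≤ (c - 1) * q := Nat.mul_le_mul_right _ h1
    have h3 : b * p = b * q + b := by rw [hq]; ring
    have h4 : b ≤ b * q := Nat.le_mul_of_pos_right _ hq1
    nlinarith

end Cfsg.Agent.S3778
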