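import Mathlib
import Cfsg.Statements.S3783
import Cfsg.Agent.Lib.Helper54.ThmBAbelian
import Cfsg.Agent.Lib.Helper63.FrattiniAction
import Cfsg.Agent.Lib.Helper63.PLength
import Cfsg.Agent.Lib.Helper63.HallHigman
import Cfsg.Agent.Lib.Helper87.PGroupFrattini

set_option autoImplicit false
open Cfsg

namespace Cfsg.Agent.S3783

open Cfsg.Agent.Lib.Helper54 Cfsg.Agent.Lib.Helper63

/-- The exponent hypothesis on `p`-elements passes to quotients. -/
theorem exp_of_surj {G G' : Type*} [Group G] [Finite G] [Group G'] {p : ℕ} [Fact p.Prime]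
    (f : G →* G') (hf : Function.Surjective f) (n : ℕ)
    (h : ∀ g : G, (∃ k, g ^ p ^ k = 1) → g ^ p ^ n = 1) :
    ∀ g : G', (∃ k, g ^ p ^ k = 1) → g ^ p ^ n = 1 := by
  rintro g' ⟨k, hk⟩
  obtain ⟨P', hP'⟩ := (Cfsg.Agent.Lib.Helper11.isPGroup_zpowers_of_pow g' hk).exists_le_sylow
  obtain ⟨P, rfl⟩ := Sylow.mapSurjective_surjective hf p P'
  rw [Sylow.coe_mapSurjective] at hP'
  obtain ⟨g, hg, rfl⟩ := hP' (Subgroup.mem_zpowers g')
  have h1 : ∃ j, g ^ p ^ j = 1 := by
    obtain ⟨j, hj⟩ := P.isPGroup' ⟨g, hg⟩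
    exact ⟨j, congrArg Subtype.val hj⟩
  rw [← map_pow, h g h1, map_one]

/-- Commutativity of the `q`-subgroups passes to quotients. -/
theorem ab_of_surj {G G' : Type*} [Group G] [Finite G] [Group G'] {p : ℕ}
    (f : G →* G') (hf : Function.Surjective f)
    (h : ∀ q : ℕ, q.Prime → q ≠ p → ∀ Q : Subgroup G, IsPGroup q Q →
      ∀ s ∈ Q, ∀ t ∈ Q, s * t = t * s) :
    ∀ q : ℕ, q.Prime → q ≠ p → ∀ Q : Subgroup G', IsPGroup q Q →
      ∀ s ∈ Q, ∀ t ∈ Q, s * t = t * s := by
  intro q hq hqp Q' hQ' s hs t ht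
  have : Fact q.Prime := ⟨hq⟩
  obtain ⟨P', hP'⟩ := hQ'.exists_le_sylow
  obtain ⟨P, rfl⟩ := Sylow.mapSurjective_surjective hf q P'
  rw [Sylow.coe_mapSurjective] at hP'
  obtain ⟨s0, hs0, rfl⟩ := hP' hs
  obtain ⟨t0, ht0, rfl⟩ := hP' ht
  rw [← map_mul, ← map_mul, h q hq hqp P P.isPGroup' s0 hs0 t0 ht0]

/-- The case `O_{p'}(X) = 1`: `p ^ n`-th powers of `p`-elements lie in `O_p(X)`. -/
theorem pow_mem_pCore.{u} {X : Type u} [Group X] [Finite X] {p : ℕ} [Fact p.Prime]
    (hsol : Cfsg.IsPSolvable p X) (h0 : Cfsg.pPrimeCore p X = ⊥)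
    (hab : ∀ q : ℕ, q.Prime → q ≠ p → ∀ Q : Subgroup X, IsPGroup q Q →
      ∀ s ∈ Q, ∀ t ∈ Q, s * t = t * s)
    (n : ℕ) (hexp : ∀ g : X, (∃ k, g ^ p ^ k = 1) → g ^ p ^ (n + 1) = 1)
    (x : X) (hx : ∃ k, x ^ p ^ k = 1) : x ^ p ^ n ∈ Cfsg.pCore p X := by
  have hp : p.Prime := Fact.out
  have hVn : (Cfsg.pCore p X).Normal := inferInstance
  have hVp : IsPGroup p (Cfsg.pCore p X) := pCore_isPGroup' p X
  have hΦn : ((frattini ↥(Cfsg.pCore p X)).map (Cfsg.pCore p X).subtype).Normal :=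
    ConjAct.normal_of_characteristic_of_normal
  have hΦV : (frattini ↥(Cfsg.pCore p X)).map (Cfsg.pCore p X).subtype ≤ Cfsg.pCore p X :=
    Subgroup.map_subtype_le _
  have hΦp : IsPGroup p ((frattini ↥(Cfsg.pCore p X)).map (Cfsg.pCore p X).subtype) :=
    hVp.to_le hΦV
  have hπ : Function.Surjective (QuotientGroup.mk'
      ((frattini ↥(Cfsg.pCore p X)).map (Cfsg.pCore p X).subtype)) := QuotientGroup.mk'_surjective _
  have hmk1 : ∀ x : X, QuotientGroup.mk'
      ((frattini ↥(Cfsg.pCore p X)).map (Cfsg.pCore p X).subtype) x = 1 ↔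
      x ∈ (frattini ↥(Cfsg.pCore p X)).map (Cfsg.pCore p X).subtype := fun x =>
    QuotientGroup.eq_one_iff x
  have hVn' : ((Cfsg.pCore p X).map (QuotientGroup.mk'
      ((frattini ↥(Cfsg.pCore p X)).map (Cfsg.pCore p X).subtype))).Normal := hVn.map _ hπ
  have hl := exists_plengthLE_of_isPSolvable hsol
  have key := pow_mem_of_abelian_sylows (Cfsg.Agent.Lib.Helper69.isPSolvable_of_surj p _ hπ hsol)
    ((Cfsg.pCore p X).map (QuotientGroup.mk'
      ((frattini ↥(Cfsg.pCore p X)).map (Cfsg.pCore p X).subtype))) (hVp.map _)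
    (by
      rintro _ ⟨u, hu, rfl⟩ _ ⟨w, hw, rfl⟩
      have h1 := Cfsg.Agent.Lib.Helper87.comm_mem_frattini hVp ⟨u, hu⟩ ⟨w, hw⟩
      have h2 : u * w * u⁻¹ * w⁻¹ ∈
          (frattini ↥(Cfsg.pCore p X)).map (Cfsg.pCore p X).subtype := ⟨_, h1, rfl⟩
      have h3 := (hmk1 _).2 h2
      rw [map_mul, map_mul, map_mul, map_inv, map_inv] at h3
      generalize (QuotientGroup.mk'
        ((frattini ↥(Cfsg.pCore p X)).map (Cfsg.pCore p X).subtype)) u = u' at h3 ⊢
      generalize (QuotientGroup.mk'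
        ((frattini ↥(Cfsg.pCore p X)).map (Cfsg.pCore p X).subtype)) w = w' at h3 ⊢
      calc u' * w' = (u' * w' * u'⁻¹ * w'⁻¹) * (w' * u') := by group
        _ = w' * u' := by rw [h3, one_mul])
    (by
      intro y hy
      obtain ⟨x, rfl⟩ := hπ y
      rw [Subgroup.mem_centralizer_iff] at hy
      refine ⟨x, ?_, rfl⟩
      apply mem_pCore_of_trivial_on_frattini h0 hl x
      intro r hr
      rw [← hmk1]
      have h1 := hy _ ⟨r, hr, rfl⟩
      rw [map_mul, map_mul, map_mul, map_inv, map_inv, ← h1]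
      group)
    (by
      have h1 : (Cfsg.pCore p (X ⧸ (frattini ↥(Cfsg.pCore p X)).map
          (Cfsg.pCore p X).subtype)).comap (QuotientGroup.mk'
          ((frattini ↥(Cfsg.pCore p X)).map (Cfsg.pCore p X).subtype)) ≤ Cfsg.pCore p X := by
        apply le_pCore' (Subgroup.Normal.comap inferInstance _)
        apply IsPGroup.comap_of_ker_isPGroup (pCore_isPGroup' p _)
        rw [QuotientGroup.ker_mk']
        exact hΦp
      intro y hy
      obtain ⟨x, rfl⟩ := hπ y
      exact ⟨x, h1 hy, rfl⟩)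
    (ab_of_surj _ hπ hab) n (exp_of_surj _ hπ (n + 1) hexp)
    (QuotientGroup.mk' ((frattini ↥(Cfsg.pCore p X)).map (Cfsg.pCore p X).subtype) x)
    (by
      obtain ⟨k, hk⟩ := hx
      exact ⟨k, by rw [← map_pow, hk, map_one]⟩)
  rw [← map_pow] at key
  obtain ⟨v, hv, hva⟩ := key
  have h1 : QuotientGroup.mk' ((frattini ↥(Cfsg.pCore p X)).map (Cfsg.pCore p X).subtype)
      (v⁻¹ * x ^ p ^ n) = 1 := by
    rw [map_mul, map_inv, hva, inv_mul_cancel]
  have h2 := hΦV ((hmk1 _).1 h1)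
  have e : x ^ p ^ n = v * (v⁻¹ * x ^ p ^ n) := by group
  rw [e]
  exact Subgroup.mul_mem _ hv h2

theorem main.{u} (p : ℕ) [Fact p.Prime] : ∀ (N : ℕ) (G : Type u) [Group G] [Finite G],
    Nat.card G ≤ N → Cfsg.IsPSolvable p G →
    (∀ q : ℕ, q.Prime → q ≠ p → ∀ Q : Subgroup G, IsPGroup q Q →
      ∀ s ∈ Q, ∀ t ∈ Q, s * t = t * s) →
    ∀ n : ℕ, (∀ g : G, (∃ k, g ^ p ^ k = 1) → g ^ p ^ n = 1) → Cfsg.PLengthLE p n G := by
  have hp : p.Prime := Fact.out
  intro N
  induction N with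
  | zero =>
    intro G _ _ hN
    have := Nat.card_pos (α := G)
    omega
  | succ N ih =>
    intro G _ _ hN hsol hab n hexp
    by_cases hK : Cfsg.pPrimeCore p G = ⊥
    · -- `O_{p'}(G) = 1`
      cases n with
      | zero =>
        rw [plengthLE_zero_iff, Nat.coprime_comm, Nat.Prime.coprime_iff_not_dvd hp]
        intro hdvd
        obtain ⟨g, hg⟩ := exists_prime_orderOf_dvd_card' p hdvd
        have h1 := hexp g ⟨1, by rw [pow_one, ← hg, pow_orderOf_eq_one]⟩
        rw [pow_zero, pow_one] at h1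
        rw [h1, orderOf_one] at hg
        exact hp.one_lt.ne hg
      | succ n =>
        by_cases hV : Cfsg.pCore p G = ⊥
        · -- then `G` is trivial
          have h1 := centralizer_pCore_le hK (exists_plengthLE_of_isPSolvable hsol)
          rw [hV] at h1
          have h2 : ∀ g : G, g = 1 := by
            intro g
            have h3 : g ∈ Subgroup.centralizer (((⊥ : Subgroup G) : Set G)) := by
              rw [Subgroup.mem_centralizer_iff]
              intro h hh
              have h4 : h = 1 := Subgroup.mem_bot.1 hh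
              rw [h4, one_mul, mul_one]
            exact Subgroup.mem_bot.1 (h1 h3)
          have h5 : Nat.card G = 1 := by
            rw [Nat.card_eq_one_iff_unique]
            exact ⟨⟨fun a b => by rw [h2 a, h2 b]⟩, ⟨1⟩⟩
          apply plengthLE_mono (k := 0) _ (Nat.zero_le _)
          rw [plengthLE_zero_iff, h5]
          exact Nat.coprime_one_left p
        · -- pass to `G ⧸ O_p(G)`
          have hVp : IsPGroup p (Cfsg.pCore p G) := pCore_isPGroup' p G
          have hπ : Function.Surjective (QuotientGroup.mk' (Cfsg.pCore p G)) :=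
            QuotientGroup.mk'_surjective _
          have hcard : Nat.card (G ⧸ Cfsg.pCore p G) ≤ N := by
            have h1 : Nat.card G = Nat.card (G ⧸ Cfsg.pCore p G) * Nat.card (Cfsg.pCore p G) :=
              Subgroup.card_eq_card_quotient_mul_card_subgroup _
            have h2 : 1 < Nat.card (Cfsg.pCore p G) := by
              rw [Subgroup.one_lt_card_iff_ne_bot]
              exact hV
            have h3 : 0 < Nat.card (G ⧸ Cfsg.pCore p G) := Nat.card_pos
            nlinarith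
          have hexpQ : ∀ g : G ⧸ Cfsg.pCore p G, (∃ k, g ^ p ^ k = 1) → g ^ p ^ n = 1 := by
            rintro g ⟨k, hk⟩
            obtain ⟨x, rfl⟩ := hπ g
            rw [← map_pow] at hk ⊢
            have hxk : x ^ p ^ k ∈ Cfsg.pCore p G := (QuotientGroup.eq_one_iff _).1 hk
            obtain ⟨j, hj⟩ := hVp ⟨_, hxk⟩
            have hj' : (x ^ p ^ k) ^ p ^ j = 1 := congrArg Subtype.val hj
            have hx : ∃ k, x ^ p ^ k = 1 := ⟨k + j, by rw [pow_add, pow_mul]; exact hj'⟩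
            exact (QuotientGroup.eq_one_iff _).2 (pow_mem_pCore hsol hK hab n hexp x hx)
          have h1 := ih (G ⧸ Cfsg.pCore p G) hcard
            (Cfsg.Agent.Lib.Helper69.isPSolvable_of_surj p _ hπ hsol) (ab_of_surj _ hπ hab) n hexpQ
          have h2 : Cfsg.PLengthLE p 1 ↥(Cfsg.pCore p G) := plengthLE_one_of_isPGroup hVp
          have h3 := plengthLE_of_normal (Cfsg.pCore p G) h2 h1
          rwa [add_comm] at h3
    · -- `O_{p'}(G) ≠ 1`
      have hπ : Function.Surjective (QuotientGroup.mk' (Cfsg.pPrimeCore p G)) :=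
        QuotientGroup.mk'_surjective _
      have hcard : Nat.card (G ⧸ Cfsg.pPrimeCore p G) ≤ N := by
        have h1 : Nat.card G
            = Nat.card (G ⧸ Cfsg.pPrimeCore p G) * Nat.card (Cfsg.pPrimeCore p G) :=
          Subgroup.card_eq_card_quotient_mul_card_subgroup _
        have h2 : 1 < Nat.card (Cfsg.pPrimeCore p G) := by
          rw [Subgroup.one_lt_card_iff_ne_bot]
          exact hK
        have h3 : 0 < Nat.card (G ⧸ Cfsg.pPrimeCore p G) := Nat.card_pos
        nlinarith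
      have h1 := ih (G ⧸ Cfsg.pPrimeCore p G) hcard
        (Cfsg.Agent.Lib.Helper69.isPSolvable_of_surj p _ hπ hsol) (ab_of_surj _ hπ hab) n
        (exp_of_surj _ hπ n hexp)
      have h2 : Cfsg.PLengthLE p 0 ↥(Cfsg.pPrimeCore p G) := by
        rw [plengthLE_zero_iff]
        exact card_pPrimeCore_coprime' p G
      have h3 := plengthLE_of_normal (Cfsg.pPrimeCore p G) h2 h1
      rwa [zero_add] at h3

/-- Let G be a finite p-soluble group in which, for every prime q ≠ p, the Sylow q-subgroups are abelian. If the Sylow p-subgroups of G have exponent dividing p^n, then G has p-length at most n. -/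
theorem result {G : Type*} [Group G] [Finite G] {p : ℕ} [Fact p.Prime] (hG : Cfsg.IsPSolvable p G) (hab : ∀ (q : ℕ) [Fact q.Prime], q ≠ p → ∀ Q : Sylow q G, IsMulCommutative (Q : Subgroup G)) (n : ℕ) (hexp : ∀ (P : Sylow p G), ∀ x ∈ (P : Subgroup G), x ^ p ^ n = 1) : Cfsg.PLengthLE p n G := by
  refine main p (Nat.card G) G le_rfl hG ?_ n ?_
  · intro q hq hqp Q hQ s hs t ht
    have : Fact q.Prime := ⟨hq⟩
    obtain ⟨P, hP⟩ := hQ.exists_le_sylow
    have hc := hab q hqp P
    have h1 := hc.is_comm.comm (⟨s, hP hs⟩ : (P : Subgroup G)) ⟨t, hP ht⟩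
    exact congrArg Subtype.val h1
  · rintro g ⟨k, hk⟩
    obtain ⟨P, hP⟩ := (Cfsg.Agent.Lib.Helper11.isPGroup_zpowers_of_pow g hk).exists_le_sylow
    exact hexp P g (hP (Subgroup.mem_zpowers g))

end Cfsg.Agent.S3783
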