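import Cfsg.Statements.S3787
import Mathlib
import Cfsg.Agent.Lib.Helper32.PL1Frat
import Cfsg.Agent.Lib.Helper32.PL1Sec
import Cfsg.Agent.Lib.Helper63.PLength
import Cfsg.Agent.Lib.Helper63.HallHigman
import Cfsg.Agent.Lib.Helper63.FrattiniAction
import Cfsg.Agent.Lib.Helper54.ThmBAbelian
import Cfsg.Agent.Lib.Helper69.PSolvable

set_option autoImplicit false
open Cfsg

namespace Cfsg.Agent.S3787

/-- Let G be a finite p-soluble group, p an odd prime not of the form 2^k + 1, and suppose the wreath product C_p ≀ C_p (of order p^(p+1)) is not involved in a Sylow p-subgroup of G: no section of a Sylow p-subgroup is isomorphic to it. Then G has p-length at most 1. -/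
theorem result {G : Type*} [Group G] [Finite G] {p : ℕ} [Fact p.Prime] (hp2 : p ≠ 2) (hnf : (¬ ∃ k : ℕ, p = 2 ^ k + 1)) (hG : Cfsg.IsPSolvable p G) (P : Sylow p G) (hwr : ∀ (W : Type) [Group W] [Finite W], (∃ (B : Subgroup W) (t : W), B.Normal ∧ IsMulCommutative B ∧ (∀ b ∈ B, b ^ p = 1) ∧ Nat.card B = p ^ p ∧ orderOf t = p ∧ t ∉ B ∧ Nat.card W = p ^ (p + 1) ∧ Nat.card ↥(B ⊓ Subgroup.centralizer ({t} : Set W)) = p) → ¬ Cfsg.Involves W ↥(P : Subgroup G)) : Cfsg.PLengthLE p 1 G := by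
  classical
  have hp : p.Prime := Fact.out
  set N := Cfsg.pPrimeCore p G with hN
  have hN0 : Cfsg.PLengthLE p 0 ↥N := by
    rw [Cfsg.Agent.Lib.Helper63.plengthLE_zero_iff]
    exact Cfsg.Agent.Lib.Helper63.card_pPrimeCore_coprime' p G
  suffices hH : Cfsg.PLengthLE p 1 (G ⧸ N) by
    have h1 := Cfsg.Agent.Lib.Helper63.plengthLE_of_normal N hN0 hH
    rwa [zero_add] at h1
  have hsolH : Cfsg.IsPSolvable p (G ⧸ N) :=
    Cfsg.Agent.Lib.Helper69.isPSolvable_of_surj p (QuotientGroup.mk' N)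
      (QuotientGroup.mk'_surjective N) hG
  have h0 : Cfsg.pPrimeCore p (G ⧸ N) = ⊥ :=
    Cfsg.Agent.Lib.Helper63.pPrimeCore_quotient_eq_bot p G
  have hl : ∃ k, Cfsg.PLengthLE p k (G ⧸ N) :=
    Cfsg.Agent.Lib.Helper63.exists_plengthLE_of_isPSolvable hsolH
  set R := Cfsg.pCore p (G ⧸ N) with hR
  have hRn : R.Normal := inferInstance
  have hRp : IsPGroup p R := Cfsg.Agent.Lib.Helper63.pCore_isPGroup' p _
  have hR1 : Cfsg.PLengthLE p 1 ↥R := Cfsg.Agent.Lib.Helper63.plengthLE_one_of_isPGroup hRp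
  suffices hQ : Cfsg.PLengthLE p 0 ((G ⧸ N) ⧸ R) by
    have h1 := Cfsg.Agent.Lib.Helper63.plengthLE_of_normal R hR1 hQ
    rwa [add_zero] at h1
  rw [Cfsg.Agent.Lib.Helper63.plengthLE_zero_iff]
  by_contra hcop
  have hdvd : p ∣ R.index := by
    rw [Subgroup.index_eq_card]
    by_contra h
    exact hcop ((hp.coprime_iff_not_dvd.2 h).symm)
  -- the image of the Sylow subgroup
  set π : G →* G ⧸ N := QuotientGroup.mk' N with hπ
  have hπs : Function.Surjective π := QuotientGroup.mk'_surjective N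
  set S : Subgroup (G ⧸ N) := (P : Subgroup G).map π with hS
  have hSp : IsPGroup p S := P.isPGroup'.map π
  have hRS : R ≤ S := Cfsg.Agent.Lib.Helper63.pCore_le_sylow' p (P.mapSurjective hπs)
  have hSR : ¬ S ≤ R := by
    intro h
    have h1 : S = R := le_antisymm h hRS
    have h2 := (P.mapSurjective hπs).not_dvd_index
    rw [Sylow.coe_mapSurjective] at h2
    apply h2
    show p ∣ S.index
    rw [h1]
    exact hdvd
  -- an element of S outside R with p-th power in R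
  obtain ⟨b, hbS, hbR⟩ := SetLike.not_le_iff_exists.1 hSR
  obtain ⟨kb, hkb⟩ := hSp ⟨b, hbS⟩
  have hbk : b ^ p ^ kb = 1 := congrArg Subtype.val hkb
  have hex : ∃ j, b ^ p ^ j ∈ R := ⟨kb, by rw [hbk]; exact R.one_mem⟩
  obtain ⟨j, hj, hmin⟩ : ∃ j, b ^ p ^ j ∈ R ∧ ∀ i < j, b ^ p ^ i ∉ R :=
    ⟨Nat.find hex, Nat.find_spec hex, fun i hi => Nat.find_min hex hi⟩
  have hj0 : j ≠ 0 := by
    intro h
    rw [h, pow_zero, pow_one] at hj
    exact hbR hj
  obtain ⟨j', rfl⟩ := Nat.exists_eq_succ_of_ne_zero hj0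
  have haS : b ^ p ^ j' ∈ S := S.pow_mem hbS _
  have haR : b ^ p ^ j' ∉ R := hmin j' (Nat.lt_succ_self j')
  have hapR : (b ^ p ^ j') ^ p ∈ R := by
    rw [← pow_mul, ← pow_succ]
    exact hj
  obtain ⟨q, hq, Q, n, hqp, hQq, hnR, hxQ, s, hsQ, hs⟩ :=
    Cfsg.Agent.Lib.Helper54.exists_normalizing_q_group_pow hsolH R hRp le_rfl (b ^ p ^ j') 1 1
      (by rw [pow_one]; exact hapR) (by rw [pow_one]; exact haR)
  rw [pow_one] at hs
  haveI : Fact q.Prime := ⟨hq⟩
  have hxS : n * b ^ p ^ j' ∈ S := S.mul_mem (hRS hnR) haS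
  have hxR : n * b ^ p ^ j' ∉ R := by
    intro h
    apply haR
    have h1 := R.mul_mem (R.inv_mem hnR) h
    rwa [inv_mul_cancel_left] at h1
  have hxpR : (n * b ^ p ^ j') ^ p ∈ R := by
    have h1 : (QuotientGroup.mk' R) ((n * b ^ p ^ j') ^ p) = 1 := by
      have hn1 : (QuotientGroup.mk' R) n = 1 := (QuotientGroup.eq_one_iff n).2 hnR
      rw [map_pow, map_mul, hn1, one_mul, ← map_pow]
      exact (QuotientGroup.eq_one_iff _).2 hapR
    exact (QuotientGroup.eq_one_iff _).1 h1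
  have hQx : ∀ a ∈ Q, (n * b ^ p ^ j') * a * (n * b ^ p ^ j')⁻¹ ∈ Q := by
    intro a ha
    exact (Subgroup.mem_normalizer_iff.1 hxQ a).1 ha
  -- the commutator acts non-trivially on the Frattini quotient
  have hact : ¬ ∀ k ∈ R, ((n * b ^ p ^ j') * s * (n * b ^ p ^ j')⁻¹ * s⁻¹) * k *
      ((n * b ^ p ^ j') * s * (n * b ^ p ^ j')⁻¹ * s⁻¹)⁻¹ * k⁻¹ ∈
      (frattini ↥R).map R.subtype := by
    intro h
    have h1 := Cfsg.Agent.Lib.Helper63.mem_pCore_of_trivial_on_frattini h0 hl _ h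
    have h2 : (n * b ^ p ^ j') * s * (n * b ^ p ^ j')⁻¹ * s⁻¹ ∈ Q :=
      Q.mul_mem (hQx s hsQ) (Q.inv_mem hsQ)
    have h3 : Disjoint R Q := IsPGroup.disjoint_of_ne p q (fun h => hqp h.symm) R Q hRp hQq
    have h4 := Subgroup.disjoint_def.1 h3 h1 h2
    apply hs
    have h5 : (n * b ^ p ^ j') * s =
        ((n * b ^ p ^ j') * s * (n * b ^ p ^ j')⁻¹ * s⁻¹) * (s * (n * b ^ p ^ j')) := by group
    rw [h5, h4, one_mul]
  obtain ⟨u, hu, v, hv, hnorm⟩ :=
    Cfsg.Agent.Lib.Helper32.exists_norm_not_mem_of_nonfermat (fun h => hqp h.symm) hp2 hnf R hRp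
      Q hQq (n * b ^ p ^ j') hxpR hQx s hsQ hact
  -- the modified element
  have hx1S : u * (n * b ^ p ^ j') ∈ S := S.mul_mem (hRS hu) hxS
  have hx1R : u * (n * b ^ p ^ j') ∉ R := by
    intro h
    apply hxR
    have h1 := R.mul_mem (R.inv_mem hu) h
    rwa [inv_mul_cancel_left] at h1
  have hx1pR : (u * (n * b ^ p ^ j')) ^ p ∈ R := by
    have h1 : (QuotientGroup.mk' R) ((u * (n * b ^ p ^ j')) ^ p) = 1 := by
      have hu1 : (QuotientGroup.mk' R) u = 1 := (QuotientGroup.eq_one_iff u).2 hu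
      rw [map_pow, map_mul, hu1, one_mul, ← map_pow]
      exact (QuotientGroup.eq_one_iff _).2 hxpR
    exact (QuotientGroup.eq_one_iff _).1 h1
  have hΦn : ((frattini ↥R).map R.subtype).Normal := ConjAct.normal_of_characteristic_of_normal
  have hinv : Cfsg.Involves (Cfsg.Agent.Lib.Helper32.Wr p)
      ↥(R ⊔ Subgroup.zpowers (u * (n * b ^ p ^ j'))) := by
    refine Cfsg.Agent.Lib.Helper32.involves_wr_of_norm R ((frattini ↥R).map R.subtype)
      (Subgroup.map_subtype_le _) ?_ ?_ (u * (n * b ^ p ^ j')) v hx1R hx1pR hv hnorm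
    · intro a ha c hc
      have h1 := Cfsg.Agent.Lib.Helper87.comm_mem_frattini hRp (⟨a, ha⟩ : ↥R) ⟨c, hc⟩
      exact Subgroup.mem_map_of_mem R.subtype h1
    · intro a ha
      have h1 := Cfsg.Agent.Lib.Helper87.pow_p_mem_frattini hRp (⟨a, ha⟩ : ↥R)
      exact Subgroup.mem_map_of_mem R.subtype h1
  -- transfer the section to `P`
  have hle : R ⊔ Subgroup.zpowers (u * (n * b ^ p ^ j')) ≤ S :=
    sup_le hRS ((Subgroup.zpowers_le).2 hx1S)
  have hinvS : Cfsg.Involves (Cfsg.Agent.Lib.Helper32.Wr p) ↥S := by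
    obtain ⟨K, φ, hφ⟩ := Cfsg.Agent.Lib.Helper34.involves_iff_exists_hom.1 hinv
    exact Cfsg.Agent.Lib.Helper34.involves_of_hom ((Subgroup.inclusion hle).comp K.subtype)
      ((Subgroup.inclusion_injective hle).comp K.subtype_injective) φ hφ
  have hinvP : Cfsg.Involves (Cfsg.Agent.Lib.Helper32.Wr p) ↥(P : Subgroup G) :=
    Cfsg.Agent.Lib.Helper34.involves_of_surjective (π.subgroupMap (P : Subgroup G))
      (π.subgroupMap_surjective (P : Subgroup G)) hinvS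
  haveI : Finite (Cfsg.Agent.Lib.Helper32.Wr p) := Cfsg.Agent.Lib.Helper32.wr_finite p
  exact hwr (Cfsg.Agent.Lib.Helper32.Wr p) (Cfsg.Agent.Lib.Helper32.wr_prop p) hinvP

end Cfsg.Agent.S3787
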