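import Mathlib
import Cfsg.Statements.S3788
import Cfsg.Agent.Lib.Helper54.CyclicNormal
import Cfsg.Agent.Lib.Helper63.FrattiniAction
import Cfsg.Agent.Lib.Helper87.PGroupFrattini

set_option autoImplicit false
open Cfsg

namespace Cfsg.Agent.S3788

open Cfsg.Agent.Lib.Helper54 Cfsg.Agent.Lib.Helper63

/-- The case `O_{p'}(X) = 1`: a cyclic `p`-subgroup normalized by `O_p(X)` lies in `O_p(X)`. -/
theorem core_case.{u} {X : Type u} [Group X] [Finite X] {p : ℕ} [Fact p.Prime]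
    (hsol : Cfsg.IsPSolvable p X) (h0 : Cfsg.pPrimeCore p X = ⊥) (A : Subgroup X)
    (hA : IsCyclic A) (hAp : IsPGroup p A)
    (hVA : Cfsg.pCore p X ≤ Subgroup.normalizer (A : Set X))
    (h : p ≠ 2 ∨ ¬ Cfsg.Involves (Equiv.Perm (Fin 4)) X) : A ≤ Cfsg.pCore p X := by
  have hp : p.Prime := Fact.out
  by_contra hcon
  have hVn : (Cfsg.pCore p X).Normal := inferInstance
  have hVp : IsPGroup p (Cfsg.pCore p X) := pCore_isPGroup' p X
  obtain ⟨g, hg⟩ := hA.exists_generator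
  have hgV : (g : X) ∉ Cfsg.pCore p X := by
    intro hgV
    apply hcon
    intro x hx
    obtain ⟨j, hj⟩ := Subgroup.mem_zpowers_iff.1 (hg ⟨x, hx⟩)
    have e : x = (g : X) ^ j := by
      rw [← Subgroup.coe_zpow, hj]
    rw [e]
    exact Subgroup.zpow_mem _ hgV j
  have hex : ∃ k : ℕ, (g : X) ^ p ^ k ∈ Cfsg.pCore p X := by
    obtain ⟨k, hk⟩ := hAp g
    refine ⟨k, ?_⟩
    rw [← Subgroup.coe_pow, hk]
    exact Subgroup.one_mem _
  classical
  have hk0 : Nat.find hex ≠ 0 := by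
    intro h0'
    have h1 := Nat.find_spec hex
    rw [h0', pow_zero, pow_one] at h1
    exact hgV h1
  obtain ⟨k, hk⟩ := Nat.exists_eq_succ_of_ne_zero hk0
  obtain ⟨a, ha⟩ : ∃ a : X, a = (g : X) ^ p ^ k := ⟨_, rfl⟩
  have haV : a ∉ Cfsg.pCore p X := by
    intro h1
    rw [ha] at h1
    have := Nat.find_min' hex h1
    omega
  have hap : a ^ p ∈ Cfsg.pCore p X := by
    have h1 := Nat.find_spec hex
    rw [hk, pow_succ, pow_mul] at h1
    rw [ha]
    exact h1
  have hq1 : ∀ v ∈ Cfsg.pCore p X, v * a * v⁻¹ * a⁻¹ ∈ Subgroup.zpowers (a ^ p) := by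
    intro v hv
    have h1 : v * (g : X) * v⁻¹ ∈ A := (Subgroup.mem_normalizer_iff.1 (hVA hv) g).1 g.2
    obtain ⟨j, hj⟩ := Subgroup.mem_zpowers_iff.1 (hg ⟨_, h1⟩)
    have hj' : v * (g : X) * v⁻¹ = (g : X) ^ j := by
      have h2 := congrArg Subtype.val hj
      rw [Subgroup.coe_zpow] at h2
      exact h2.symm
    have h2 : v * a * v⁻¹ = a ^ j := by
      rw [ha, ← conj_pow, hj', ← zpow_natCast, ← zpow_natCast, ← zpow_mul, ← zpow_mul, mul_comm]
    have e : v * a * v⁻¹ * a⁻¹ = a ^ (j - 1) := by rw [h2, zpow_sub, zpow_one]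
    have h3 : a ^ (j - 1) ∈ Cfsg.pCore p X := by
      rw [← e]
      have e2 : v * a * v⁻¹ * a⁻¹ = v * (a * v⁻¹ * a⁻¹) := by group
      rw [e2]
      exact Subgroup.mul_mem _ hv (hVn.conj_mem _ (Subgroup.inv_mem _ hv) a)
    have h4 : (p : ℤ) ∣ j - 1 := by
      by_contra hnd
      have hcop : IsCoprime (p : ℤ) (j - 1) :=
        ((Nat.prime_iff_prime_int.1 hp).irreducible.coprime_iff_not_dvd).2 hnd
      obtain ⟨s, t, hst⟩ := hcop
      apply haV
      have e3 : a = (a ^ p) ^ s * (a ^ (j - 1)) ^ t := by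
        rw [← zpow_natCast a p, ← zpow_mul, ← zpow_mul, ← zpow_add, mul_comm (p : ℤ) s,
          mul_comm (j - 1) t, hst, zpow_one]
      rw [e3]
      exact Subgroup.mul_mem _ (Subgroup.zpow_mem _ hap s) (Subgroup.zpow_mem _ h3 t)
    obtain ⟨d, hd⟩ := h4
    rw [Subgroup.mem_zpowers_iff]
    refine ⟨d, ?_⟩
    rw [e, hd, zpow_mul, zpow_natCast]
  -- pass to the Frattini quotient of `O_p(X)`
  have hΦn : ((frattini ↥(Cfsg.pCore p X)).map (Cfsg.pCore p X).subtype).Normal :=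
    ConjAct.normal_of_characteristic_of_normal
  have hΦV : (frattini ↥(Cfsg.pCore p X)).map (Cfsg.pCore p X).subtype ≤ Cfsg.pCore p X :=
    Subgroup.map_subtype_le _
  have hΦp : IsPGroup p ((frattini ↥(Cfsg.pCore p X)).map (Cfsg.pCore p X).subtype) :=
    hVp.to_le hΦV
  have hπ : Function.Surjective (QuotientGroup.mk'
      ((frattini ↥(Cfsg.pCore p X)).map (Cfsg.pCore p X).subtype)) := QuotientGroup.mk'_surjective _
  have hmk1 : ∀ x : X, QuotientGroup.mk'
      ((frattini ↥(Cfsg.pCore p X)).map (Cfsg.pCore p X).subtype) x = 1 ↔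
      x ∈ (frattini ↥(Cfsg.pCore p X)).map (Cfsg.pCore p X).subtype := fun x =>
    QuotientGroup.eq_one_iff x
  have hVn' : ((Cfsg.pCore p X).map (QuotientGroup.mk'
      ((frattini ↥(Cfsg.pCore p X)).map (Cfsg.pCore p X).subtype))).Normal := hVn.map _ hπ
  have hl := exists_plengthLE_of_isPSolvable hsol
  have key := cyclic_normal_key (Cfsg.Agent.Lib.Helper69.isPSolvable_of_surj p _ hπ hsol)
    ((Cfsg.pCore p X).map (QuotientGroup.mk'
      ((frattini ↥(Cfsg.pCore p X)).map (Cfsg.pCore p X).subtype))) (hVp.map _)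
    (by
      rintro _ ⟨u, hu, rfl⟩ _ ⟨w, hw, rfl⟩
      have h1 := Cfsg.Agent.Lib.Helper87.comm_mem_frattini hVp ⟨u, hu⟩ ⟨w, hw⟩
      have h2 : u * w * u⁻¹ * w⁻¹ ∈
          (frattini ↥(Cfsg.pCore p X)).map (Cfsg.pCore p X).subtype := ⟨_, h1, rfl⟩
      have h3 := (hmk1 _).2 h2
      rw [map_mul, map_mul, map_mul, map_inv, map_inv] at h3
      generalize (QuotientGroup.mk'
        ((frattini ↥(Cfsg.pCore p X)).map (Cfsg.pCore p X).subtype)) u = u' at h3 ⊢
      generalize (QuotientGroup.mk'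
        ((frattini ↥(Cfsg.pCore p X)).map (Cfsg.pCore p X).subtype)) w = w' at h3 ⊢
      calc u' * w' = (u' * w' * u'⁻¹ * w'⁻¹) * (w' * u') := by group
        _ = w' * u' := by rw [h3, one_mul])
    (by
      rintro _ ⟨u, hu, rfl⟩
      have h1 := Cfsg.Agent.Lib.Helper87.pow_p_mem_frattini hVp ⟨u, hu⟩
      have h2 : u ^ p ∈ (frattini ↥(Cfsg.pCore p X)).map (Cfsg.pCore p X).subtype :=
        ⟨_, h1, rfl⟩
      rw [← map_pow]
      exact (hmk1 _).2 h2)
    (by
      intro y hy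
      obtain ⟨x, rfl⟩ := hπ y
      rw [Subgroup.mem_centralizer_iff] at hy
      refine ⟨x, ?_, rfl⟩
      apply mem_pCore_of_trivial_on_frattini h0 hl x
      intro r hr
      rw [← hmk1]
      have h1 := hy _ ⟨r, hr, rfl⟩
      rw [map_mul, map_mul, map_mul, map_inv, map_inv, ← h1]
      group)
    (by
      have h1 : (Cfsg.pCore p (X ⧸ (frattini ↥(Cfsg.pCore p X)).map
          (Cfsg.pCore p X).subtype)).comap (QuotientGroup.mk'
          ((frattini ↥(Cfsg.pCore p X)).map (Cfsg.pCore p X).subtype)) ≤ Cfsg.pCore p X := by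
        apply le_pCore' (Subgroup.Normal.comap inferInstance _)
        apply IsPGroup.comap_of_ker_isPGroup (pCore_isPGroup' p _)
        rw [QuotientGroup.ker_mk']
        exact hΦp
      intro y hy
      obtain ⟨x, rfl⟩ := hπ y
      exact ⟨x, h1 hy, rfl⟩)
    (QuotientGroup.mk' ((frattini ↥(Cfsg.pCore p X)).map (Cfsg.pCore p X).subtype) a)
    (by
      rintro ⟨v, hv, hva⟩
      apply haV
      have h1 : QuotientGroup.mk' ((frattini ↥(Cfsg.pCore p X)).map (Cfsg.pCore p X).subtype)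
          (v⁻¹ * a) = 1 := by
        rw [map_mul, map_inv, hva, inv_mul_cancel]
      have h2 := hΦV ((hmk1 _).1 h1)
      have e : a = v * (v⁻¹ * a) := by group
      rw [e]
      exact Subgroup.mul_mem _ hv h2)
    (by
      rw [← map_pow]
      exact ⟨_, hap, rfl⟩)
    (by
      rintro _ ⟨v, hv, rfl⟩
      have h1 := hq1 v hv
      rw [← map_pow, ← MonoidHom.map_zpowers]
      refine ⟨_, h1, ?_⟩
      rw [map_mul, map_mul, map_mul, map_inv, map_inv])
  rcases h with h | h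
  · exact h key.1
  · exact h (Cfsg.Agent.Lib.Helper34.involves_of_quotient _ key.2)

theorem main.{u} {G : Type u} [Group G] [Finite G] {p : ℕ} [Fact p.Prime]
    (hG : Cfsg.IsPSolvable p G) (P : Sylow p G) (A : Subgroup G) (hAP : A ≤ (P : Subgroup G))
    (hAn : (P : Subgroup G) ≤ Subgroup.normalizer (A : Set G)) (hA : IsCyclic A)
    (h : p ≠ 2 ∨ ¬ Cfsg.Involves (Equiv.Perm (Fin 4)) G) : A ≤ Cfsg.pPrimePCore p G := by
  have hπ : Function.Surjective (QuotientGroup.mk' (Cfsg.pPrimeCore p G)) :=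
    QuotientGroup.mk'_surjective _
  have h0 := pPrimeCore_quotient_eq_bot p G
  have hsol := Cfsg.Agent.Lib.Helper69.isPSolvable_of_surj p _ hπ hG
  have hAc : IsCyclic (A.map (QuotientGroup.mk' (Cfsg.pPrimeCore p G))) :=
    isCyclic_of_surjective ((QuotientGroup.mk' (Cfsg.pPrimeCore p G)).subgroupMap A)
      ((QuotientGroup.mk' (Cfsg.pPrimeCore p G)).subgroupMap_surjective A)
  have hAp : IsPGroup p (A.map (QuotientGroup.mk' (Cfsg.pPrimeCore p G))) :=
    (P.isPGroup'.to_le hAP).map _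
  have hVA : Cfsg.pCore p (G ⧸ Cfsg.pPrimeCore p G) ≤ Subgroup.normalizer
      ((A.map (QuotientGroup.mk' (Cfsg.pPrimeCore p G)) : Subgroup _) : Set _) := by
    have h1 : Cfsg.pCore p (G ⧸ Cfsg.pPrimeCore p G) ≤
        (P : Subgroup G).map (QuotientGroup.mk' (Cfsg.pPrimeCore p G)) := by
      have h2 := pCore_le_sylow' p (Sylow.mapSurjective hπ P)
      rwa [Sylow.coe_mapSurjective] at h2
    refine h1.trans ?_
    rintro _ ⟨x, hx, rfl⟩
    apply mem_normalizer_of_conj_mem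
    rintro _ ⟨y, hy, rfl⟩
    exact ⟨x * y * x⁻¹, (Subgroup.mem_normalizer_iff.1 (hAn hx) y).1 hy, by
      rw [map_mul, map_mul, map_inv]⟩
  have h' : p ≠ 2 ∨ ¬ Cfsg.Involves (Equiv.Perm (Fin 4)) (G ⧸ Cfsg.pPrimeCore p G) := by
    rcases h with h | h
    · exact Or.inl h
    · exact Or.inr (fun hi => h (Cfsg.Agent.Lib.Helper34.involves_of_quotient _ hi))
  have key := core_case hsol h0 _ hAc hAp hVA h'
  intro x hx
  unfold Cfsg.pPrimePCore
  rw [Subgroup.mem_comap]
  exact key ⟨x, hx, rfl⟩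

/-- Let G be a finite p-soluble group, P a Sylow p-subgroup of G and A a cyclic normal subgroup of P. If p is odd, or if no section of G is isomorphic to the symmetric group of degree 4, then A ≤ O_{p',p}(G). -/
theorem result {G : Type*} [Group G] [Finite G] {p : ℕ} [Fact p.Prime] (hG : Cfsg.IsPSolvable p G) (P : Sylow p G) (A : Subgroup G) (hAP : A ≤ (P : Subgroup G)) (hAn : (P : Subgroup G) ≤ Subgroup.normalizer (A : Set G)) (hA : IsCyclic A) (h : p ≠ 2 ∨ ¬ Cfsg.Involves (Equiv.Perm (Fin 4)) G) : A ≤ Cfsg.pPrimePCore p G := by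
  exact main hG P A hAP hAn hA h

end Cfsg.Agent.S3788
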