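import Cfsg.Statements.S3789
import Cfsg.Agent.Lib.Helper70.HH.S3789Defs
import Cfsg.Agent.Lib.Helper70.HH.S3789ThmM
import Cfsg.Agent.Lib.Helper70.HH.S3789Main
import Cfsg.Agent.Lib.Helper70.HH.S3789DimAbs
import Cfsg.Agent.Lib.Helper30.HH.S3789Crit
import Cfsg.Agent.Lib.Helper9.HH.S3789W
import Cfsg.Agent.Lib.Helper6.HH.S3789D
import Cfsg.Agent.Lib.Helper6.HH.S3789Fin
import Cfsg.Agent.Lib.Helper51.HH.S3789Ker
import Cfsg.Agent.Lib.Helper62.HH.S3789Indep
import Cfsg.Agent.Lib.Helper94.HH.S3789Dim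
import Cfsg.Agent.Lib.Helper78.HH.S3789Mod
import Cfsg.Agent.Lib.Helper50.HH.S3789Key

set_option autoImplicit false
open Cfsg

namespace Cfsg.Agent.S3789

open Cfsg.Agent.Lib.Helper70.HH89 in
theorem closed.{u} : Main.{u} :=
  main (Cfsg.Agent.Lib.Helper50.HH89.lemKey
    (Cfsg.Agent.Lib.Helper78.HH89.lemMod.{u, u, 0}
      (thmM.{u, u, 0} Cfsg.Agent.Lib.Helper30.HH89.lemCrit Cfsg.Agent.Lib.Helper9.HH89.lemW
        Cfsg.Agent.Lib.Helper6.HH89.lemD
        (Cfsg.Agent.Lib.Helper94.HH89.lemDim Cfsg.Agent.Lib.Helper51.HH.lemKer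
          Cfsg.Agent.Lib.Helper62.HH89.lemIndep lemDimAbs)
        Cfsg.Agent.Lib.Helper6.HH89.lemFin)))

/-- Let p be an odd prime and G a finite p-soluble group whose Sylow p-subgroups have derived length at most d. Then G has p-length at most d. -/
theorem result {G : Type*} [Group G] [Finite G] {p : ℕ} [Fact p.Prime] (hp : p ≠ 2) (hG : Cfsg.IsPSolvable p G) (d : ℕ) (hd : ∀ P : Sylow p G, derivedSeries ↥(P : Subgroup G) d = ⊥) : Cfsg.PLengthLE p d G := by
  obtain ⟨P⟩ : Nonempty (Sylow p G) := inferInstance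
  exact closed hp hG d P (hd P)

end Cfsg.Agent.S3789
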