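import Cfsg.Statements.S3796
import Cfsg.Agent.Lib.Helper97.WardInd

set_option autoImplicit false
open Cfsg

namespace Cfsg.Agent.S3796

/-- Ward's Theorem: let G be a finite solvable group and A an elementary abelian group of automorphisms of G of order p² (p a prime) with no non-identity common fixed point. Then G has Fitting height at most 2: G has Fitting height at most m when there is a chain of normal subgroups 1 = F₀ ≤ F₁ ≤ ⋯ ≤ F_m = G with each F_{i+1}/F_i nilpotent. -/
theorem result {G : Type*} [Group G] [Finite G] (hG : Group.IsSolvable G) {p : ℕ} (hp : p.Prime) (A : Subgroup (MulAut G)) (hA : Cfsg.IsElementaryAbelian p A) (hcard : Nat.card A = p ^ 2) (hfpf : ∀ g : G, (∀ a ∈ A, a g = g) → g = 1) : ∃ F : Fin (2 + 1) → Subgroup G, F 0 = ⊥ ∧ F (Fin.last 2) = ⊤ ∧ Monotone F ∧ (∀ i, (F i).Normal) ∧ ∀ i : Fin 2, ∃ k : ℕ, (F i.succ).lowerCentralSeries k ≤ F i.castSucc := by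
  have hfinA : Finite ↥A :=
    Nat.finite_of_card_ne_zero (by rw [hcard]; exact pow_ne_zero _ hp.ne_zero)
  have hfinX : Finite (G ⋊[A.subtype] ↥A) := Finite.of_equiv _ SemidirectProduct.equivProd.symm
  have hAcomm := hA.1
  have hpG : ¬ p ∣ Nat.card G := by
    have := Fact.mk hp
    have hAp : IsPGroup p ↥A := IsPGroup.of_card hcard
    have h1 := hAp.card_modEq_card_fixedPoints G
    have h2 : Nat.card (MulAction.fixedPoints ↥A G) = 1 := by
      rw [Nat.card_eq_one_iff_unique]
      refine ⟨⟨fun x y => ?_⟩, ⟨⟨1, fun m => map_one (m : MulAut G)⟩⟩⟩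
      have hx : (x : G) = 1 := hfpf x (fun a ha => x.2 ⟨a, ha⟩)
      have hy : (y : G) = 1 := hfpf y (fun a ha => y.2 ⟨a, ha⟩)
      exact Subtype.ext (hx.trans hy.symm)
    intro hdvd
    rw [h2] at h1
    have h3 : Nat.card G % p = 1 % p := h1
    rw [Nat.mod_eq_zero_of_dvd hdvd, Nat.mod_eq_of_lt hp.one_lt] at h3
    exact absurd h3 (by norm_num)
  have D : Cfsg.Agent.Lib.Helper97.Ward.WS p (SemidirectProduct.inr : ↥A →* G ⋊[A.subtype] ↥A)
      (SemidirectProduct.inl : G →* G ⋊[A.subtype] ↥A).range :=
    { hp := hp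
      hAc := fun x y => mul_comm' x y
      hAp := fun x => Subtype.ext (hA.2 x x.2)
      hAcard := hcard
      hGn := by
        rw [SemidirectProduct.range_inl_eq_ker_rightHom]
        exact MonoidHom.normal_ker _
      hsup := by
        rw [eq_top_iff]
        intro x _
        rw [← SemidirectProduct.inl_left_mul_inr_right x]
        exact Subgroup.mul_mem_sup ⟨_, rfl⟩ ⟨_, rfl⟩
      hsolv := Group.isSolvable_of_surjective
        (f := (SemidirectProduct.inl : G →* G ⋊[A.subtype] ↥A).rangeRestrict)
        (MonoidHom.rangeRestrict_surjective _)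
      hpG := by
        rw [Nat.card_congr (MonoidHom.ofInjective
          (SemidirectProduct.inl_injective (φ := A.subtype))).toEquiv.symm]
        exact hpG
      hfpf := by
        rintro _ ⟨g, rfl⟩ h
        have h1 : g = 1 := hfpf g (fun a ha => by
          have h2 := h ⟨a, ha⟩
          have h3 : (SemidirectProduct.inl (A.subtype ⟨a, ha⟩ g) : G ⋊[A.subtype] ↥A) =
              SemidirectProduct.inl g := by
            rw [SemidirectProduct.inl_aut, h2, mul_assoc, ← map_mul, mul_inv_cancel, map_one,
              mul_one]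
          exact SemidirectProduct.inl_injective h3)
        rw [h1, map_one] }
  obtain ⟨N, hNG, hNn, ⟨k₁, hk₁⟩, ⟨k₂, hk₂⟩⟩ :=
    Cfsg.Agent.Lib.Helper97.Ward.ward_main _ _ _ _ D le_rfl
  refine ⟨![⊥, N.comap SemidirectProduct.inl, ⊤], rfl, rfl, ?_, ?_, ?_⟩
  · rw [Fin.monotone_iff_le_succ]
    intro i
    fin_cases i
    · exact bot_le
    · exact le_top
  · intro i
    fin_cases i
    · exact Subgroup.normal_bot
    · exact hNn.comap _
    · exact Subgroup.normal_top
  · intro i
    fin_cases i
    · refine ⟨k₁, ?_⟩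
      change (N.comap SemidirectProduct.inl).lowerCentralSeries k₁ ≤ ⊥
      rw [le_bot_iff, ← Subgroup.map_eq_bot_iff_of_injective _
          (f := (SemidirectProduct.inl : G →* G ⋊[A.subtype] ↥A))
          (SemidirectProduct.inl_injective (φ := A.subtype)),
        Subgroup.map_lowerCentralSeries, Subgroup.map_comap_eq_self hNG, hk₁]
    · refine ⟨k₂, ?_⟩
      change (⊤ : Subgroup G).lowerCentralSeries k₂ ≤ N.comap SemidirectProduct.inl
      rw [← Subgroup.map_le_iff_le_comap, Subgroup.map_lowerCentralSeries,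
        ← MonoidHom.range_eq_map]
      exact hk₂

end Cfsg.Agent.S3796
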