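import Mathlib
import Cfsg.Statements.S3808

set_option autoImplicit false
open Cfsg

namespace Cfsg.Agent.S3808

theorem exists_central_of_normal {G : Type*} [Group G] [Finite G] {p : ℕ} [Fact p.Prime]
    (hG : IsPGroup p G) (N : Subgroup G) [N.Normal] (hN : N ≠ ⊥) :
    ∃ b ∈ N, b ∈ Subgroup.center G ∧ b ≠ 1 := by
  have hp : p ∣ Nat.card N := by
    rcases (hG.to_subgroup N).card_eq_or_dvd with h | h
    · exact absurd (Subgroup.card_eq_one.mp h) hN
    · exact h
  have h1 : (1 : N) ∈ MulAction.fixedPoints (ConjAct G) N := by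
    intro g
    apply Subtype.ext
    simp
  obtain ⟨b, hb, hb1⟩ :=
    (hG.of_equiv ConjAct.toConjAct).exists_fixed_point_of_prime_dvd_card_of_fixed_point N hp h1
  refine ⟨b, b.2, ?_, ?_⟩
  · rw [Subgroup.mem_center_iff]
    intro g
    have := hb (ConjAct.toConjAct g)
    have h2 := congrArg Subtype.val this
    simp only [ConjAct.Subgroup.val_conj_smul, ConjAct.smul_def, ConjAct.ofConjAct_toConjAct] at h2
    calc g * (b : G) = (g * b * g⁻¹) * g := by group
      _ = b * g := by rw [h2]
  · intro h
    exact hb1 (Subtype.ext h.symm)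

theorem le_center_of_normal_of_card {G : Type*} [Group G] [Finite G] {p : ℕ} [Fact p.Prime]
    (hG : IsPGroup p G) (N : Subgroup G) [N.Normal] (hN : Nat.card N = p) :
    N ≤ Subgroup.center G := by
  have hp : p.Prime := Fact.out
  have hNbot : N ≠ ⊥ := by
    intro h
    rw [h, Subgroup.card_bot] at hN
    exact hp.one_lt.ne hN
  obtain ⟨b, hbN, hbc, hb1⟩ := exists_central_of_normal hG N hNbot
  have hle : N ⊓ Subgroup.center G ≤ N := inf_le_left
  have hdvd : Nat.card (N ⊓ Subgroup.center G : Subgroup G) ∣ p := hN ▸ Subgroup.card_dvd_of_le hle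
  have hne1 : Nat.card (N ⊓ Subgroup.center G : Subgroup G) ≠ 1 := by
    intro h
    have h2 := Subgroup.card_eq_one.mp h
    have : b ∈ N ⊓ Subgroup.center G := ⟨hbN, hbc⟩
    rw [h2, Subgroup.mem_bot] at this
    exact hb1 this
  have hcard : Nat.card (N ⊓ Subgroup.center G : Subgroup G) = p :=
    ((Nat.dvd_prime hp).mp hdvd).resolve_left hne1
  have := Subgroup.eq_of_le_of_card_ge hle (by rw [hcard, hN])
  rw [← this]
  exact inf_le_right

/-- Let S be a finite p-group with an extraspecial subgroup Q of index p. Then either Z(S) = Z(Q), or S = Q·Z(S) and Z(S) has order p². -/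
theorem result {S : Type*} [Group S] [Finite S] (p : ℕ) [Fact p.Prime] (hS : IsPGroup p S) (Q : Subgroup S) (hQ : Cfsg.IsExtraspecial p ↥Q) (hQi : Q.index = p) :
    Subgroup.center S = (Subgroup.center ↥Q).map Q.subtype ∨
      (Q ⊔ Subgroup.center S = ⊤ ∧ Nat.card (Subgroup.center S) = p ^ 2) := by
  have hp : p.Prime := Fact.out
  -- Q is normal
  haveI hQn : Q.Normal := by
    apply Subgroup.normal_of_index_eq_minFac_card
    obtain ⟨n, hn⟩ := IsPGroup.iff_card.mp hS
    have hn0 : n ≠ 0 := by
      rintro rfl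
      have h1 : Q.index ∣ Nat.card S := Subgroup.index_dvd_card Q
      rw [hQi, hn, pow_zero] at h1
      exact hp.one_lt.ne' (Nat.dvd_one.mp h1)
    rw [hQi, hn, hp.pow_minFac hn0]
  have hZQn : ((Subgroup.center ↥Q).map Q.subtype).Normal := ConjAct.normal_of_characteristic_of_normal
  have hZQcard : Nat.card ((Subgroup.center ↥Q).map Q.subtype) = p := by
    rw [Subgroup.card_map_of_injective Q.subtype_injective]
    exact hQ.2
  have h3 : (Subgroup.center ↥Q).map Q.subtype ≤ Subgroup.center S :=
    le_center_of_normal_of_card hS _ hZQcard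
  have h4 : Subgroup.center S ⊓ Q ≤ (Subgroup.center ↥Q).map Q.subtype := by
    intro x hx
    rw [Subgroup.mem_inf] at hx
    refine ⟨⟨x, hx.2⟩, Subgroup.mem_center_iff.mpr ?_, rfl⟩
    intro g
    apply Subtype.ext
    exact (Subgroup.mem_center_iff.mp hx.1) (g : S)
  have hZQQ : (Subgroup.center ↥Q).map Q.subtype ≤ Q := by
    rintro _ ⟨x, -, rfl⟩
    exact x.2
  by_cases hle : Subgroup.center S ≤ Q
  · left
    apply le_antisymm
    · exact (le_inf le_rfl hle).trans h4
    · exact h3
  · right
    have hsup : Q ⊔ Subgroup.center S = ⊤ := by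
      have h5 := Subgroup.relIndex_mul_index (le_sup_left : Q ≤ Q ⊔ Subgroup.center S)
      rw [hQi] at h5
      have h6 : Q.relIndex (Q ⊔ Subgroup.center S) ≠ 1 := by
        intro h
        exact hle (le_sup_right.trans (Subgroup.relIndex_eq_one.mp h))
      have h7 : Q.relIndex (Q ⊔ Subgroup.center S) ∣ p := Dvd.intro _ h5
      have h8 : Q.relIndex (Q ⊔ Subgroup.center S) = p := ((Nat.dvd_prime hp).mp h7).resolve_left h6
      rw [h8] at h5
      have h9 : (Q ⊔ Subgroup.center S).index = 1 := by
        have : p * (Q ⊔ Subgroup.center S).index = p * 1 := by rw [h5, mul_one]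
        exact Nat.eq_of_mul_eq_mul_left hp.pos this
      exact Subgroup.index_eq_one.mp h9
    refine ⟨hsup, ?_⟩
    have e1 : Q ⊓ Subgroup.center S = (Subgroup.center ↥Q).map Q.subtype := by
      apply le_antisymm
      · rw [inf_comm]; exact h4
      · exact le_inf hZQQ h3
    have e2 : Q.relIndex (Subgroup.center S) = p := by
      rw [← Subgroup.relIndex_sup_left (K := Q) (H := Subgroup.center S), hsup, Subgroup.relIndex_top_right, hQi]
    have e3 := Subgroup.relIndex_mul_relIndex ⊥ (Q ⊓ Subgroup.center S) (Subgroup.center S) bot_le inf_le_right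
    rw [Subgroup.relIndex_bot_left, Subgroup.relIndex_bot_left, Subgroup.inf_relIndex_right, e2, e1, hZQcard] at e3
    rw [← e3]
    ring

end Cfsg.Agent.S3808
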