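import Mathlib
import Cfsg.Statements.S3809
import Cfsg.Agent.S0095
import Cfsg.Agent.Lib.Helper2.ESLSub

set_option autoImplicit false
open Cfsg

namespace Cfsg.Agent.S3809

open Cfsg.Agent.Lib.Helper2 Cfsg.Agent.Lib.Helper2.ESL
open scoped commutatorElement

theorem result {S : Type*} [Group S] [Finite S] (p : ℕ) [Fact p.Prime] (hS : IsPGroup p S) (Q : Subgroup S) (hQ : Cfsg.IsExtraspecial p ↥Q) (hQi : Q.index = p) :
    (∃ n : ℕ, 1 ≤ n ∧ Nat.card S = p ^ (2 + 2 * n)) ∧ derivedSeries S 3 = ⊥ ∧ ∀ x : S, x ^ (p ^ 3) = 1 := by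
  have hp : p.Prime := Fact.out
  obtain ⟨hZ, hc, hnab⟩ := Cfsg.Agent.Lib.Helper2.ES2.of_isExtraspecial hQ
  obtain ⟨-, hcomm', -⟩ := sub_facts Q hQ
  have hQn : Q.Normal := by
    apply Subgroup.normal_of_index_eq_minFac_card
    rw [hQi]
    obtain ⟨k, hk⟩ := hS.exists_card_eq
    have hk0 : k ≠ 0 := by
      rintro rfl
      have h1 : Q.index ∣ Nat.card S := Subgroup.index_dvd_card Q
      rw [hk, pow_zero, hQi, Nat.dvd_one] at h1
      exact hp.one_lt.ne' h1
    rw [hk, Nat.Prime.pow_minFac hp hk0]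
  refine ⟨?_, ?_, ?_⟩
  · obtain ⟨n, hn1, hn⟩ := Cfsg.Agent.S0095.result hQ
    refine ⟨n, hn1, ?_⟩
    rw [← Q.card_mul_index, hn, hQi]
    ring
  · have h1 : derivedSeries S 1 ≤ Q := by
      rw [derivedSeries_one]
      have hcard : Nat.card (S ⧸ Q) = p := hQi
      haveI : IsCyclic (S ⧸ Q) := isCyclic_of_prime_card hcard
      letI : CommGroup (S ⧸ Q) := IsCyclic.commGroup
      have h := Abelianization.commutator_subset_ker (QuotientGroup.mk' Q)
      rw [QuotientGroup.ker_mk'] at h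
      exact h
    have h2 : derivedSeries S 2 ≤ Q ⊓ Subgroup.centralizer (Q : Set S) := by
      rw [derivedSeries_succ]
      refine (Subgroup.commutator_mono h1 h1).trans ?_
      rw [Subgroup.commutator_le]
      intro a ha b hb
      exact hcomm' a ha b hb
    rw [derivedSeries_succ, eq_bot_iff]
    refine (Subgroup.commutator_mono h2 h2).trans ?_
    rw [Subgroup.commutator_le]
    intro a ha b hb
    rw [Subgroup.mem_bot, commutatorElement_eq_one_iff_commute]
    exact (Subgroup.mem_centralizer_iff.mp hb.2 a ha.1)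
  · intro x
    have hx : x ^ p ∈ Q := by
      have := Subgroup.pow_index_mem Q x
      rwa [hQi] at this
    have h1 := pow_mem_center hZ hc (⟨x ^ p, hx⟩ : Q)
    have h2 := pow_card_eq_one' (G := Subgroup.center ↥Q) (x := ⟨_, h1⟩)
    rw [hZ] at h2
    have h3 : ((x ^ p) ^ p) ^ p = 1 := by
      have := congrArg (fun z : Subgroup.center ↥Q => ((z : ↥Q) : S)) h2
      simpa using this
    rw [show p ^ 3 = p * p * p by ring, pow_mul, pow_mul]
    exact h3

end Cfsg.Agent.S3809
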