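import Mathlib
import Cfsg.Statements.S3810
import Cfsg.Agent.S0095
import Cfsg.Agent.S0016
import Cfsg.Agent.Lib.Helper2.ESLIdx

set_option autoImplicit false
open Cfsg

namespace Cfsg.Agent.S3810

open Cfsg.Agent.Lib.Helper2 Cfsg.Agent.Lib.Helper2.ESL
open scoped commutatorElement

/-- Let S be a finite p-group with an extraspecial subgroup of index p. Then S has an abelian subgroup of index p if and only if S has order p⁴. -/
theorem result {S : Type*} [Group S] [Finite S] (p : ℕ) [Fact p.Prime] (hS : IsPGroup p S) (Q : Subgroup S) (hQ : Cfsg.IsExtraspecial p ↥Q) (hQi : Q.index = p) :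
    (∃ A : Subgroup S, IsMulCommutative ↥A ∧ A.index = p) ↔ Nat.card S = p ^ 4 := by
  have hp : p.Prime := Fact.out
  obtain ⟨hZ, hc, hnab⟩ := Cfsg.Agent.Lib.Helper2.ES2.of_isExtraspecial hQ
  obtain ⟨hZ0, hcomm', hQnc⟩ := sub_facts Q hQ
  have hminFac : (Nat.card S).minFac = p := by
    obtain ⟨k, hk⟩ := hS.exists_card_eq
    have hk0 : k ≠ 0 := by
      rintro rfl
      have h1 : Q.index ∣ Nat.card S := Subgroup.index_dvd_card Q
      rw [hk, pow_zero, hQi, Nat.dvd_one] at h1
      exact hp.one_lt.ne' h1
    rw [hk, Nat.Prime.pow_minFac hp hk0]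
  have hQn : Q.Normal := by
    apply Subgroup.normal_of_index_eq_minFac_card
    rw [hQi, hminFac]
  obtain ⟨n, hn1, hn⟩ := Cfsg.Agent.S0095.result hQ
  have hcardS : Nat.card S = Nat.card Q * p := by rw [← hQi, Subgroup.card_mul_index]
  constructor
  · rintro ⟨A, hA, hAi⟩
    have hAn : A.Normal := by
      apply Subgroup.normal_of_index_eq_minFac_card
      rw [hAi, hminFac]
    have hrel : A.relIndex Q ∣ p := by
      rw [← hAi]; exact Subgroup.relIndex_dvd_index_of_normal A Q
    have hBi : (A.subgroupOf Q).index = p := by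
      rcases (Nat.dvd_prime hp).mp hrel with h | h
      · exfalso
        have hle : Q ≤ A := Subgroup.relIndex_eq_one.mp h
        apply hQnc
        intro x hx
        rw [Subgroup.mem_centralizer_iff]
        intro y hy
        exact setLike_mul_comm (hle hy) (hle hx)
      · exact h
    have hB : ∀ a ∈ A.subgroupOf Q, ∀ b ∈ A.subgroupOf Q, a * b = b * a := by
      intro a ha b hb
      apply Subtype.ext
      exact setLike_mul_comm (Subgroup.mem_subgroupOf.mp ha) (Subgroup.mem_subgroupOf.mp hb)
    have hle := card_le_of_abelian_index hZ hc (A.subgroupOf Q) hB hBi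
    rw [hn] at hle
    have hn' : 2 * n + 1 ≤ 3 := (Nat.pow_le_pow_iff_right hp.one_lt).mp hle
    have hn1' : n = 1 := by omega
    subst hn1'
    rw [hcardS, hn]
    ring
  · intro hS4
    have hQ3 : Nat.card Q = p ^ 3 := by
      have h : Nat.card Q * p = p ^ 3 * p := by rw [← hcardS, hS4]; ring
      exact Nat.eq_of_mul_eq_mul_right hp.pos h
    -- the centre of Q, inside S
    set Z0 : Subgroup S := Q ⊓ Subgroup.centralizer (Q : Set S) with hZ0def
    have hZ0n : Z0.Normal := Subgroup.normal_inf_normal _ _
    have hZ0ne : Z0 ≠ ⊥ := by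
      intro h
      rw [h, Subgroup.card_bot] at hZ0
      exact hp.one_lt.ne hZ0
    have hZ0c : Z0 ≤ Subgroup.center S := by
      obtain ⟨z, hz, hz1, hzc⟩ := Cfsg.Agent.S0016.exists_mem_center_of_normal hS Z0 hZ0ne
      have hgen : Subgroup.zpowers (⟨z, hz⟩ : Z0) = ⊤ := by
        apply zpowers_eq_top_of_prime_card hZ0
        intro h
        exact hz1 (congrArg Subtype.val h)
      intro w hw
      have hw' : (⟨w, hw⟩ : Z0) ∈ Subgroup.zpowers (⟨z, hz⟩ : Z0) := by rw [hgen]; trivial
      obtain ⟨k, hk⟩ := Subgroup.mem_zpowers_iff.mp hw'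
      have hk' : z ^ k = w := by
        have := congrArg Subtype.val hk
        simpa using this
      rw [← hk']
      exact Subgroup.zpow_mem _ hzc k
    -- a fixed point of S on Q / Z0
    have hRp : IsPGroup p (S ⧸ Z0) := hS.to_quotient Z0
    let D : Subgroup (S ⧸ Z0) := Q.map (QuotientGroup.mk' Z0)
    have hDn : D.Normal := Subgroup.Normal.map hQn _ (QuotientGroup.mk'_surjective Z0)
    have hDne : D ≠ ⊥ := by
      intro h
      apply hQnc
      intro x hx
      have h1 : QuotientGroup.mk' Z0 x ∈ D := Subgroup.mem_map_of_mem _ hx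
      rw [h, Subgroup.mem_bot] at h1
      have h2 : x ∈ Z0 := (QuotientGroup.eq_one_iff x).mp h1
      exact h2.2
    obtain ⟨d, hd, hd1, hdc⟩ := Cfsg.Agent.S0016.exists_mem_center_of_normal hRp D hDne
    obtain ⟨q, hqQ, rfl⟩ := Subgroup.mem_map.mp hd
    have hqZ : q ∉ Z0 := by
      intro h
      exact hd1 ((QuotientGroup.eq_one_iff q).mpr h)
    have hq : ∀ g : S, ⁅g, q⁆ ∈ Z0 := by
      intro g
      rw [← QuotientGroup.eq_one_iff]
      have h1 := Subgroup.mem_center_iff.mp hdc (QuotientGroup.mk' Z0 g)
      have h2 : ((⁅g, q⁆ : S) : S ⧸ Z0)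
          = ⁅QuotientGroup.mk' Z0 g, QuotientGroup.mk' Z0 q⁆ := by
        simp [commutatorElement_def]
      rw [h2, commutatorElement_eq_one_iff_commute]
      exact h1
    let f : S →* Z0 := commHomInto Z0 hZ0c q hq
    have hmemA : ∀ g : S, g ∈ f.ker ↔ Commute g q := mem_ker_commHomInto Z0 hZ0c q hq
    have hidx : f.ker.index = p := by
      have h1 : f.ker.index ∣ p := by
        rw [Subgroup.index_ker, ← hZ0]
        exact Subgroup.card_subgroup_dvd_card _
      rcases (Nat.dvd_prime hp).mp h1 with h | h
      · exfalso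
        have htop : f.ker = ⊤ := Subgroup.index_eq_one.mp h
        apply hqZ
        have hqc : q ∈ Subgroup.centralizer (Q : Set S) := by
          rw [Subgroup.mem_centralizer_iff]
          intro y _
          have hy : y ∈ f.ker := by rw [htop]; trivial
          exact ((hmemA y).mp hy).eq
        exact ⟨hqQ, hqc⟩
      · exact h
    refine ⟨f.ker, ?_, hidx⟩
    · -- commutativity
      have hA3 : Nat.card f.ker = p ^ 3 := by
        have h : Nat.card f.ker * p = p ^ 3 * p := by
          have h0 : Nat.card f.ker * f.ker.index = Nat.card S := Subgroup.card_mul_index _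
          rw [hidx, hS4] at h0
          rw [h0]; ring
        exact Nat.eq_of_mul_eq_mul_right hp.pos h
      have hZ0A : Z0 ≤ f.ker := by
        intro z hz
        rw [hmemA]
        exact (Subgroup.mem_center_iff.mp (hZ0c hz) q).symm
      have hqA : q ∈ f.ker := by rw [hmemA]
      -- the centre of A is bigger than Z0
      let C : Subgroup f.ker := Subgroup.center f.ker
      have hZC : Z0.subgroupOf f.ker ≤ C := by
        intro a ha
        rw [Subgroup.mem_center_iff]
        intro b
        apply Subtype.ext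
        exact Subgroup.mem_center_iff.mp (hZ0c (Subgroup.mem_subgroupOf.mp ha)) b
      have hqC : (⟨q, hqA⟩ : f.ker) ∈ C := by
        rw [Subgroup.mem_center_iff]
        intro b
        apply Subtype.ext
        exact ((hmemA b).mp b.2).eq
      have hcardZ : Nat.card (Z0.subgroupOf f.ker) = p := by
        rw [Nat.card_congr (Subgroup.subgroupOfEquivOfLe hZ0A).toEquiv, hZ0]
      have hClt : p < Nat.card C := by
        by_contra hle
        push Not at hle
        have heq : Z0.subgroupOf f.ker = C :=
          Subgroup.eq_of_le_of_card_ge hZC (by rw [hcardZ]; exact hle)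
        apply hqZ
        have : (⟨q, hqA⟩ : f.ker) ∈ Z0.subgroupOf f.ker := by rw [heq]; exact hqC
        exact Subgroup.mem_subgroupOf.mp this
      have hCdvd : Nat.card C ∣ p ^ 3 := by
        rw [← hA3]; exact Subgroup.card_subgroup_dvd_card C
      obtain ⟨k, hk3, hk⟩ := (Nat.dvd_prime_pow hp).mp hCdvd
      have hk2 : 2 ≤ k := by
        by_contra hlt
        push Not at hlt
        have : p ^ k ≤ p ^ 1 := Nat.pow_le_pow_right hp.pos (by omega)
        rw [pow_one, ← hk] at this
        omega
      have hCi : C.index ∣ p := by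
        have h1 : Nat.card C * C.index = p ^ 3 := by rw [Subgroup.card_mul_index, hA3]
        rw [hk] at h1
        have h2 : p ^ k * C.index = p ^ k * p ^ (3 - k) := by
          rw [h1, ← pow_add]; congr 1; omega
        have h3 : C.index = p ^ (3 - k) := Nat.eq_of_mul_eq_mul_left (pow_pos hp.pos k) h2
        rw [h3]
        have : 3 - k ≤ 1 := by omega
        calc p ^ (3 - k) ∣ p ^ 1 := pow_dvd_pow p this
          _ = p := pow_one p
      haveI : IsCyclic (f.ker ⧸ C) := isCyclic_of_card_dvd_prime (p := p) hCi
      refine IsMulCommutative.of_setLike_mul_comm ?_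
      intro a ha b hb
      have := commutative_of_cyclic_center_quotient (QuotientGroup.mk' C)
        (by rw [QuotientGroup.ker_mk']) (⟨a, ha⟩ : f.ker) ⟨b, hb⟩
      exact congrArg Subtype.val this

end Cfsg.Agent.S3810
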