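import Mathlib
import Cfsg.Statements.S3811

set_option autoImplicit false
open Cfsg
open scoped commutatorElement

namespace Cfsg.Agent.S3811

variable {P : Type*} [Group P]

theorem nm [Finite P] (E : Subgroup P) (y : P)
    (h : ∀ e ∈ E, y * e * y⁻¹ ∈ E) : y ∈ Subgroup.normalizer (E : Set P) := by
  have hinj : Function.Injective (fun e : E => (⟨y * e * y⁻¹, h e e.2⟩ : E)) := by
    intro a b hab
    have := congrArg Subtype.val hab
    simp only at this
    exact Subtype.ext (by simpa using this)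
  have hsurj := Finite.surjective_of_injective hinj
  rw [Subgroup.mem_normalizer_iff]
  intro x
  refine ⟨fun hx => h x hx, fun hx => ?_⟩
  obtain ⟨e, he⟩ := hsurj ⟨y * x * y⁻¹, hx⟩
  have := congrArg Subtype.val he
  simp only at this
  have hxe : (e : P) = x := by simpa using this
  rw [← hxe]; exact e.2

theorem u1 {p : ℕ} [Fact p.Prime] (A J B : Subgroup P) (hAJ : A ≤ J) (hJB : J ≤ B)
    (hrel : A.relIndex B = p) (hne : J ≠ A) : B ≤ J := by
  have h := Subgroup.relIndex_mul_relIndex A J B hAJ hJB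
  rw [hrel] at h
  have hp := (Fact.out : p.Prime)
  rcases (Nat.dvd_prime hp).1 (Dvd.intro _ h) with h1 | h1
  · exact absurd (le_antisymm (Subgroup.relIndex_eq_one.1 h1) hAJ) hne
  · rw [h1] at h
    have : J.relIndex B = 1 := Nat.eq_of_mul_eq_mul_left hp.pos (h.trans (mul_one p).symm)
    exact Subgroup.relIndex_eq_one.1 this

theorem ng [Finite P] {p : ℕ} [Fact p.Prime] (hP : IsPGroup p P) (A B : Subgroup P) (hlt : A < B) :
    ∃ b ∈ B, b ∈ Subgroup.normalizer (A : Set P) ∧ b ∉ A := by
  haveI : Group.IsNilpotent B := (hP.to_subgroup B).isNilpotent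
  have hnc := Group.normalizerCondition_of_isNilpotent (G := B)
  have hne : A.subgroupOf B < ⊤ :=
    lt_top_iff_ne_top.2 (fun h => (not_le_of_gt hlt) (Subgroup.subgroupOf_eq_top.1 h))
  have h2 := hnc _ hne
  obtain ⟨b, hb, hbn⟩ := SetLike.exists_of_lt h2
  refine ⟨b, b.2, ?_, fun h => hbn (Subgroup.mem_subgroupOf.2 h)⟩
  apply nm
  intro e he
  have := (Subgroup.mem_normalizer_iff.1 hb ⟨e, hlt.le he⟩).1 (Subgroup.mem_subgroupOf.2 he)
  exact Subgroup.mem_subgroupOf.1 this

theorem card_rel {A B : Subgroup P} (h : A ≤ B) : Nat.card A * A.relIndex B = Nat.card B := by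
  have h1 := Subgroup.card_mul_index (A.subgroupOf B)
  rw [Nat.card_congr (Subgroup.subgroupOfEquivOfLe h).toEquiv] at h1
  exact h1

theorem rel_pow [Finite P] {p : ℕ} [Fact p.Prime] (hP : IsPGroup p P) (A B : Subgroup P)
    (hne : ¬ B ≤ A) : ∃ k, A.relIndex B = p ^ (k + 1) := by
  have hp := (Fact.out : p.Prime)
  obtain ⟨n, hn⟩ := (hP.to_subgroup B).exists_card_eq
  have hdvd : A.relIndex B ∣ p ^ n := hn ▸ Subgroup.relIndex_dvd_card A B
  obtain ⟨m, -, hm⟩ := (Nat.dvd_prime_pow hp).1 hdvd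
  rcases Nat.eq_zero_or_pos m with h0 | h0
  · rw [h0, pow_zero] at hm
    exact absurd (Subgroup.relIndex_eq_one.1 hm) hne
  · exact ⟨m - 1, by rw [hm]; congr 1; omega⟩

theorem count_conj [Finite P] (E N₁ N₂ Z : Subgroup P)
    (hEN : E ≤ N₁) (hZE : Z ≤ E)
    (hnorm : ∀ g ∈ N₂, ∀ x ∈ N₁, g * x * g⁻¹ ∈ N₁)
    (hZnorm : ∀ g ∈ N₂, ∀ x, g * x * g⁻¹ ∈ Z → x ∈ Z)
    (hstab : ∀ g ∈ N₂, ∀ a ∈ E, a ∉ Z → g * a * g⁻¹ ∈ E → g ∈ N₁) :
    N₁.relIndex N₂ * (Nat.card E - Nat.card Z) + Nat.card Z ≤ Nat.card N₁ := by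
  classical
  let f : (↥N₂ ⧸ N₁.subgroupOf N₂) × ↥((E : Set P) \ (Z : Set P)) → ↥((N₁ : Set P) \ (Z : Set P)) :=
    fun x => ⟨(x.1.out : P) * x.2.1 * (x.1.out : P)⁻¹, hnorm _ x.1.out.2 _ (hEN x.2.2.1),
      fun h => x.2.2.2 (hZnorm _ x.1.out.2 _ h)⟩
  have hf : Function.Injective f := by
    rintro ⟨c, a⟩ ⟨c', a'⟩ h
    have h1 : (c.out : P) * a.1 * (c.out : P)⁻¹ = (c'.out : P) * a'.1 * (c'.out : P)⁻¹ :=
      congrArg Subtype.val h
    have h2 : ((c'.out : P)⁻¹ * (c.out : P)) * a.1 * ((c'.out : P)⁻¹ * (c.out : P))⁻¹ = a'.1 := by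
      have : a'.1 = (c'.out : P)⁻¹ * ((c.out : P) * a.1 * (c.out : P)⁻¹) * (c'.out : P) := by
        rw [h1]; group
      rw [this]; group
    have h3 : (c'.out : P)⁻¹ * (c.out : P) ∈ N₁ :=
      hstab _ (N₂.mul_mem (N₂.inv_mem c'.out.2) c.out.2) a.1 a.2.1 a.2.2 (by rw [h2]; exact a'.2.1)
    have h4 : c' = c := by
      rw [← QuotientGroup.out_eq' c', ← QuotientGroup.out_eq' c]
      rw [QuotientGroup.eq]
      exact Subgroup.mem_subgroupOf.2 h3
    subst h4
    have h5 : a.1 = a'.1 := mul_left_cancel (mul_right_cancel h1)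
    exact Prod.ext rfl (Subtype.ext h5)
  have hle := Nat.card_le_card_of_injective f hf
  rw [Nat.card_prod] at hle
  have hQ : Nat.card (↥N₂ ⧸ N₁.subgroupOf N₂) = N₁.relIndex N₂ := rfl
  rw [hQ, Nat.card_coe_set_eq, Nat.card_coe_set_eq] at hle
  have hE := Set.ncard_sdiff_add_ncard_of_subset (show (Z : Set P) ⊆ (E : Set P) from hZE)
  have hN := Set.ncard_sdiff_add_ncard_of_subset
    (show (Z : Set P) ⊆ (N₁ : Set P) from hZE.trans hEN)
  have e1 : Nat.card E = (E : Set P).ncard := Nat.card_coe_set_eq (E : Set P)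
  have e2 : Nat.card Z = (Z : Set P).ncard := Nat.card_coe_set_eq (Z : Set P)
  have e3 : Nat.card N₁ = (N₁ : Set P).ncard := Nat.card_coe_set_eq (N₁ : Set P)
  rw [e1, e2, e3]
  have : (E : Set P).ncard - (Z : Set P).ncard = ((E : Set P) \ (Z : Set P)).ncard := by omega
  rw [this]
  omega

theorem d3 [Finite P] {p : ℕ} [Fact p.Prime] (hP : IsPGroup p P) (E : Subgroup P)
    (hcomm : ∀ a ∈ E, ∀ b ∈ E, a * b = b * a) (hcent : Subgroup.centralizer (E : Set P) ≤ E)
    (hrel : E.relIndex (Subgroup.normalizer (E : Set P)) = p)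
    (hne : Subgroup.normalizer (E : Set P) ≠ ⊤) :
    (Subgroup.normalizer (E : Set P)).relIndex
      (Subgroup.normalizer ((Subgroup.normalizer (E : Set P) : Subgroup P) : Set P)) = p := by
  have hp := (Fact.out : p.Prime)
  set N₁ := Subgroup.normalizer (E : Set P) with hN₁
  set N₂ := Subgroup.normalizer (N₁ : Set P) with hN₂
  have hEN : E ≤ N₁ := Subgroup.le_normalizer
  have hN12 : N₁ ≤ N₂ := Subgroup.le_normalizer
  set Z := N₁ ⊓ Subgroup.centralizer (N₁ : Set P) with hZ
  have hZE : Z ≤ E := fun z hz =>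
    hcent (Subgroup.centralizer_le (show (E : Set P) ⊆ N₁ from hEN) (Subgroup.mem_inf.1 hz).2)
  have hnorm : ∀ g ∈ N₂, ∀ x ∈ N₁, g * x * g⁻¹ ∈ N₁ := fun g hg x hx =>
    (Subgroup.mem_normalizer_iff.1 hg x).1 hx
  have hZnorm : ∀ g ∈ N₂, ∀ x, g * x * g⁻¹ ∈ Z → x ∈ Z := by
    intro g hg x hx
    have hx1 := (Subgroup.mem_inf.1 hx).1
    have hx2 := (Subgroup.mem_inf.1 hx).2
    refine Subgroup.mem_inf.2 ⟨(Subgroup.mem_normalizer_iff.1 hg x).2 hx1, ?_⟩
    rw [Subgroup.mem_centralizer_iff]
    intro n hn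
    have h1 := Subgroup.mem_centralizer_iff.1 hx2 (g * n * g⁻¹) (hnorm g hg n hn)
    have h2 : g * (n * x) * g⁻¹ = g * (x * n) * g⁻¹ := by
      rw [show g * (n * x) * g⁻¹ = (g * n * g⁻¹) * (g * x * g⁻¹) by group, h1]; group
    exact mul_left_cancel (mul_right_cancel h2)
  have hstab : ∀ g ∈ N₂, ∀ a ∈ E, a ∉ Z → g * a * g⁻¹ ∈ E → g ∈ N₁ := by
    intro g hg a ha haZ hga
    by_contra hgN
    set E' := E.map (MulAut.conj g).toMonoidHom with hE'
    have hE'N : E' ≤ N₁ := by
      rintro x ⟨e, he, rfl⟩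
      exact hnorm g hg e (hEN he)
    have hJ : N₁ ≤ E ⊔ E' := by
      refine u1 (p := p) E (E ⊔ E') N₁ le_sup_left (sup_le hEN hE'N) hrel ?_
      intro hJE
      apply hgN
      apply nm
      intro e he
      have : g * e * g⁻¹ ∈ E ⊔ E' := (le_sup_right : E' ≤ E ⊔ E') ⟨e, he, rfl⟩
      rw [hJE] at this
      exact this
    apply haZ
    apply hZnorm g hg
    refine Subgroup.mem_inf.2 ⟨hEN hga, ?_⟩
    have hJc : E ⊔ E' ≤ Subgroup.centralizer ({g * a * g⁻¹} : Set P) := by
      refine sup_le ?_ ?_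
      · intro e he
        rw [Subgroup.mem_centralizer_iff]
        intro h hh
        rw [Set.mem_singleton_iff] at hh
        rw [hh]
        exact hcomm _ hga _ he
      · rintro x ⟨e, he, rfl⟩
        rw [Subgroup.mem_centralizer_iff]
        intro h hh
        rw [Set.mem_singleton_iff] at hh
        rw [hh]
        show g * a * g⁻¹ * (g * e * g⁻¹) = g * e * g⁻¹ * (g * a * g⁻¹)
        have := hcomm a ha e he
        calc g * a * g⁻¹ * (g * e * g⁻¹) = g * (a * e) * g⁻¹ := by group
          _ = g * (e * a) * g⁻¹ := by rw [this]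
          _ = g * e * g⁻¹ * (g * a * g⁻¹) := by group
    rw [Subgroup.mem_centralizer_iff]
    intro n hn
    have := Subgroup.mem_centralizer_iff.1 (hJc (hJ hn)) (g * a * g⁻¹) rfl
    exact this.symm
  have hcount := count_conj E N₁ N₂ Z hEN hZE hnorm hZnorm hstab
  have hcN := card_rel hEN
  rw [hrel] at hcN
  have hZne : ¬ E ≤ Z := by
    intro hEZ
    have : N₁ ≤ E := by
      intro n hn
      apply hcent
      rw [Subgroup.mem_centralizer_iff]
      intro e he
      exact (Subgroup.mem_centralizer_iff.1 (Subgroup.mem_inf.1 (hEZ he)).2 n hn).symm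
    have h1 : E.relIndex N₁ = 1 := Subgroup.relIndex_eq_one.2 this
    rw [hrel] at h1
    exact hp.one_lt.ne' h1
  obtain ⟨j, hj⟩ := rel_pow hP Z E hZne
  have hcZ := card_rel hZE
  have hN2 : ¬ N₂ ≤ N₁ := by
    intro h
    obtain ⟨b, -, hb1, hb2⟩ := ng hP N₁ ⊤ (lt_top_iff_ne_top.2 hne)
    exact hb2 (h hb1)
  obtain ⟨k, hk⟩ := rel_pow hP N₁ N₂ hN2
  rw [hk]
  rcases Nat.eq_zero_or_pos k with h0 | h0
  · rw [h0]; simp
  · exfalso
    have hz : 0 < Nat.card Z := Nat.card_pos
    have h1 : p ^ 2 ≤ p ^ (k + 1) := Nat.pow_le_pow_right hp.pos (by omega)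
    have h2 : p ≤ p ^ (j + 1) := by
      calc p = p ^ 1 := (pow_one p).symm
        _ ≤ p ^ (j + 1) := Nat.pow_le_pow_right hp.pos (by omega)
    rw [hk] at hcount
    rw [hj] at hcZ
    have h3 : Nat.card Z * p ≤ Nat.card E := by
      rw [← hcZ]; exact Nat.mul_le_mul_left _ h2
    obtain ⟨d, hd⟩ : ∃ d, Nat.card E = d + Nat.card Z := ⟨Nat.card E - Nat.card Z, by
      have : Nat.card Z ≤ Nat.card E := by
        calc Nat.card Z = Nat.card Z * 1 := (mul_one _).symm
          _ ≤ Nat.card Z * p := Nat.mul_le_mul_left _ hp.pos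
          _ ≤ _ := h3
      omega⟩
    obtain ⟨q, rfl⟩ : ∃ q, p = q + 1 := ⟨p - 1, by have := hp.pos; omega⟩
    have hq : 1 ≤ q := by have := hp.one_lt; omega
    rw [hd] at h3 hcN hcount
    rw [Nat.add_sub_cancel] at hcount
    have h4 : (q + 1) ^ 2 * d + Nat.card Z ≤ (d + Nat.card Z) * (q + 1) :=
      le_trans (Nat.add_le_add_right (Nat.mul_le_mul_right _ h1) _) (hcN ▸ hcount)
    have h5 : Nat.card Z * q ≤ d := by nlinarith
    have h6 : 0 < d := by nlinarith
    nlinarith


def Soft (p : ℕ) (E : Subgroup P) : Prop :=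
  (∀ a ∈ E, ∀ b ∈ E, a * b = b * a) ∧ Subgroup.centralizer (E : Set P) ≤ E ∧
  E.relIndex (Subgroup.normalizer (E : Set P)) = p ∧ p ^ 2 ≤ E.index

def Concl (p : ℕ) (E : Subgroup P) : Prop :=
  (∀ K L : Subgroup P, E ≤ K → E ≤ L → K ≤ L ∨ L ≤ K) ∧
  (∀ K : Subgroup P, E ≤ K → K ≠ ⊤ → K.relIndex (Subgroup.normalizer (K : Set P)) = p) ∧
  (∀ (i : ℕ) (K : Subgroup P), E ≤ K → K ≠ ⊤ → K.index * p ^ i = E.index →
    K.lowerCentralSeries (i + 1) = ⊥ ∧ K.lowerCentralSeries i ≠ ⊥)

theorem ker_le (W A : Subgroup P) [W.Normal] (hWA : W ≤ A) :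
    (QuotientGroup.mk' W).ker ≤ A := by
  rw [QuotientGroup.ker_mk']; exact hWA

theorem rel_map (W A B : Subgroup P) [W.Normal] (hWA : W ≤ A) :
    (A.map (QuotientGroup.mk' W)).relIndex (B.map (QuotientGroup.mk' W)) = A.relIndex B := by
  rw [← Subgroup.relIndex_comap, Subgroup.comap_map_eq_self (ker_le W A hWA)]

theorem normalizer_map (W A : Subgroup P) [W.Normal] (hWA : W ≤ A) :
    Subgroup.normalizer ((A.map (QuotientGroup.mk' W) : Subgroup (P ⧸ W)) : Set (P ⧸ W)) =
      (Subgroup.normalizer (A : Set P)).map (QuotientGroup.mk' W) := by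
  have hs : Function.Surjective (QuotientGroup.mk' W) := QuotientGroup.mk'_surjective W
  have h := Subgroup.comap_normalizer_eq_of_surjective (A.map (QuotientGroup.mk' W)) hs
  rw [Subgroup.comap_map_eq_self (ker_le W A hWA)] at h
  rw [← h, Subgroup.map_comap_eq_self_of_surjective hs]

theorem rel_normalizer_map (W A : Subgroup P) [W.Normal] (hWA : W ≤ A) :
    (A.map (QuotientGroup.mk' W)).relIndex
      (Subgroup.normalizer ((A.map (QuotientGroup.mk' W) : Subgroup (P ⧸ W)) : Set (P ⧸ W))) =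
      A.relIndex (Subgroup.normalizer (A : Set P)) := by
  rw [normalizer_map W A hWA, rel_map W A _ hWA]

theorem qt (p : ℕ) (W A : Subgroup P) [W.Normal] (hWA : W ≤ A)
    (h : Concl p (A.map (QuotientGroup.mk' W))) :
    (∀ K L : Subgroup P, A ≤ K → A ≤ L → K ≤ L ∨ L ≤ K) ∧
    (∀ K : Subgroup P, A ≤ K → K ≠ ⊤ → K.relIndex (Subgroup.normalizer (K : Set P)) = p) ∧
    (∀ (i : ℕ) (K : Subgroup P), A ≤ K → K ≠ ⊤ → K.index * p ^ i = A.index →
      K.lowerCentralSeries (i + 1) ≤ W) := by
  obtain ⟨h1, h2, h3⟩ := h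
  have hs : Function.Surjective (QuotientGroup.mk' W) := QuotientGroup.mk'_surjective W
  have htop : ∀ K : Subgroup P, A ≤ K → K ≠ ⊤ → K.map (QuotientGroup.mk' W) ≠ ⊤ := by
    intro K hK hne htop
    apply hne
    have := Subgroup.comap_map_eq_self (ker_le W K (hWA.trans hK))
    rw [htop, Subgroup.comap_top] at this
    exact this.symm
  refine ⟨?_, ?_, ?_⟩
  · intro K L hK hL
    rcases h1 _ _ (Subgroup.map_mono hK) (Subgroup.map_mono hL) with h | h
    · left
      have := Subgroup.comap_mono (f := QuotientGroup.mk' W) h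
      rwa [Subgroup.comap_map_eq_self (ker_le W K (hWA.trans hK)),
        Subgroup.comap_map_eq_self (ker_le W L (hWA.trans hL))] at this
    · right
      have := Subgroup.comap_mono (f := QuotientGroup.mk' W) h
      rwa [Subgroup.comap_map_eq_self (ker_le W K (hWA.trans hK)),
        Subgroup.comap_map_eq_self (ker_le W L (hWA.trans hL))] at this
  · intro K hK hne
    have := h2 _ (Subgroup.map_mono hK) (htop K hK hne)
    rwa [rel_normalizer_map W K (hWA.trans hK)] at this
  · intro i K hK hne hidx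
    have hi : (K.map (QuotientGroup.mk' W)).index * p ^ i = (A.map (QuotientGroup.mk' W)).index := by
      rw [Subgroup.index_map_eq K hs (ker_le W K (hWA.trans hK)),
        Subgroup.index_map_eq A hs (ker_le W A hWA)]
      exact hidx
    have := (h3 i _ (Subgroup.map_mono hK) (htop K hK hne) hi).1
    rw [← Subgroup.map_lowerCentralSeries, Subgroup.map_eq_bot_iff, QuotientGroup.ker_mk'] at this
    exact this

theorem soft_quot (p : ℕ) (W A : Subgroup P) [W.Normal] (hWA : W ≤ A)
    (hab : ∀ a ∈ A, ∀ b ∈ A, ⁅a, b⁆ ∈ W)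
    (hsc : ∀ y, (∀ a ∈ A, ⁅y, a⁆ ∈ W) → y ∈ A)
    (hrel : A.relIndex (Subgroup.normalizer (A : Set P)) = p) (hidx : p ^ 2 ≤ A.index) :
    Soft p (A.map (QuotientGroup.mk' W)) := by
  have hs : Function.Surjective (QuotientGroup.mk' W) := QuotientGroup.mk'_surjective W
  refine ⟨?_, ?_, ?_, ?_⟩
  · rintro _ ⟨a, ha, rfl⟩ _ ⟨b, hb, rfl⟩
    have h1 := hab a ha b hb
    have h2 : (QuotientGroup.mk' W) ⁅a, b⁆ = 1 := (QuotientGroup.eq_one_iff _).2 h1
    rw [map_commutatorElement, commutatorElement_eq_one_iff_commute] at h2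
    exact h2.eq
  · intro x hx
    obtain ⟨y, rfl⟩ := hs x
    refine ⟨y, hsc y ?_, rfl⟩
    intro a ha
    have h1 := Subgroup.mem_centralizer_iff.1 hx ((QuotientGroup.mk' W) a) ⟨a, ha, rfl⟩
    have h2 : (QuotientGroup.mk' W) ⁅y, a⁆ = 1 := by
      rw [map_commutatorElement, commutatorElement_eq_one_iff_commute]
      exact h1.symm
    exact (QuotientGroup.eq_one_iff _).1 h2
  · rw [rel_normalizer_map W A hWA]; exact hrel
  · rw [Subgroup.index_map_eq A hs (ker_le W A hWA)]; exact hidx

theorem conj_eq (y e : P) : y * e * y⁻¹ = ⁅y, e⁆ * e := by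
  rw [commutatorElement_def]; group

theorem ab [Finite P] {p : ℕ} [Fact p.Prime] (W E : Subgroup P) [W.Normal] (hWE : W ≤ E)
    (hcomm : ∀ a ∈ E, ∀ b ∈ E, a * b = b * a)
    (hrel : E.relIndex (Subgroup.normalizer (E : Set P)) = p)
    (x : P) (hxE : x ∉ E) (hx : ∀ e ∈ E, ⁅x, e⁆ ∈ W) :
    ∀ a ∈ Subgroup.normalizer (E : Set P), ∀ b ∈ Subgroup.normalizer (E : Set P), ⁅a, b⁆ ∈ W := by
  have hxN : x ∈ Subgroup.normalizer (E : Set P) := by
    apply nm
    intro e he
    rw [conj_eq]
    exact E.mul_mem (hWE (hx e he)) he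
  have hJ : Subgroup.normalizer (E : Set P) ≤ E ⊔ Subgroup.zpowers x := by
    refine u1 (p := p) E _ _ le_sup_left (sup_le Subgroup.le_normalizer ?_) hrel ?_
    · rw [Subgroup.zpowers_le]; exact hxN
    · intro h
      apply hxE
      rw [← h]
      exact (le_sup_right : Subgroup.zpowers x ≤ _) (Subgroup.mem_zpowers x)
  set S : Set (P ⧸ W) := (QuotientGroup.mk' W) '' (E : Set P) ∪ {(QuotientGroup.mk' W) x} with hS
  have hxe : ∀ e ∈ E, (QuotientGroup.mk' W) x * (QuotientGroup.mk' W) e =
      (QuotientGroup.mk' W) e * (QuotientGroup.mk' W) x := by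
    intro e he
    have h2 : (QuotientGroup.mk' W) ⁅x, e⁆ = 1 := (QuotientGroup.eq_one_iff _).2 (hx e he)
    rw [map_commutatorElement, commutatorElement_eq_one_iff_commute] at h2
    exact h2.eq
  have hpair : ∀ u ∈ S, ∀ v ∈ S, u * v = v * u := by
    rintro u (⟨e, he, rfl⟩ | hu) v (⟨e', he', rfl⟩ | hv)
    · rw [← map_mul, ← map_mul, hcomm e he e' he']
    · rw [Set.mem_singleton_iff] at hv
      rw [hv]; exact (hxe e he).symm
    · rw [Set.mem_singleton_iff] at hu
      rw [hu]; exact hxe e' he'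
    · rw [Set.mem_singleton_iff] at hu hv
      rw [hu, hv]
  have hc := Subgroup.isMulCommutative_closure hpair
  have hle : E ⊔ Subgroup.zpowers x ≤ (Subgroup.closure S).comap (QuotientGroup.mk' W) := by
    refine sup_le ?_ ?_
    · intro e he
      exact Subgroup.subset_closure (Or.inl ⟨e, he, rfl⟩)
    · rw [Subgroup.zpowers_le]
      exact Subgroup.subset_closure (Or.inr rfl)
  intro a ha b hb
  have h1 : (QuotientGroup.mk' W) a ∈ Subgroup.closure S := hle (hJ ha)
  have h2 : (QuotientGroup.mk' W) b ∈ Subgroup.closure S := hle (hJ hb)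
  have h3 := congrArg Subtype.val (hc.is_comm.comm ⟨_, h1⟩ ⟨_, h2⟩)
  have h4 : (QuotientGroup.mk' W) ⁅a, b⁆ = 1 := by
    rw [map_commutatorElement, commutatorElement_eq_one_iff_commute]
    exact h3
  exact (QuotientGroup.eq_one_iff _).1 h4


theorem cent_sup (E : Subgroup P) (hcomm : ∀ a ∈ E, ∀ b ∈ E, a * b = b * a) (g a : P)
    (ha : a ∈ E) (hga : g * a * g⁻¹ ∈ E) :
    E ⊔ E.map (MulAut.conj g).toMonoidHom ≤ Subgroup.centralizer ({g * a * g⁻¹} : Set P) := by
  refine sup_le ?_ ?_
  · intro e he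
    rw [Subgroup.mem_centralizer_iff]
    intro h hh
    rw [Set.mem_singleton_iff] at hh
    rw [hh]
    exact hcomm _ hga _ he
  · rintro x ⟨e, he, rfl⟩
    rw [Subgroup.mem_centralizer_iff]
    intro h hh
    rw [Set.mem_singleton_iff] at hh
    rw [hh]
    show g * a * g⁻¹ * (g * e * g⁻¹) = g * e * g⁻¹ * (g * a * g⁻¹)
    have := hcomm a ha e he
    calc g * a * g⁻¹ * (g * e * g⁻¹) = g * (a * e) * g⁻¹ := by group
      _ = g * (e * a) * g⁻¹ := by rw [this]
      _ = g * e * g⁻¹ * (g * a * g⁻¹) := by group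

theorem max_below [Finite P] {p : ℕ} [Fact p.Prime] (hP : IsPGroup p P) (E T : Subgroup P)
    (hchain : ∀ K L : Subgroup P, E ≤ K → E ≤ L → K ≤ L ∨ L ≤ K)
    (hnr : ∀ K : Subgroup P, E ≤ K → K ≠ ⊤ → K.relIndex (Subgroup.normalizer (K : Set P)) = p)
    (hET : E < T) :
    ∃ J : Subgroup P, E ≤ J ∧ J < T ∧ (∀ X, E ≤ X → X < T → X ≤ J) ∧
      Subgroup.normalizer (J : Set P) = T ∧ J.relIndex T = p := by
  obtain ⟨J, ⟨hEJ, hJT⟩, hmax⟩ := Set.exists_max_image {X : Subgroup P | E ≤ X ∧ X < T}
    (fun X => Nat.card X) (Set.toFinite _) ⟨E, le_rfl, hET⟩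
  have hall : ∀ X, E ≤ X → X < T → X ≤ J := by
    intro X hEX hXT
    rcases hchain X J hEX hEJ with h | h
    · exact h
    · exact (Subgroup.eq_of_le_of_card_ge h (hmax X ⟨hEX, hXT⟩)).symm.le
  have hTN : T ≤ Subgroup.normalizer (J : Set P) := by
    obtain ⟨b, hbT, hbN, hbJ⟩ := ng hP J T hJT
    by_contra hcon
    have hY : T ⊓ Subgroup.normalizer (J : Set P) < T := by
      refine lt_of_le_of_ne inf_le_left ?_
      intro h
      apply hcon
      rw [← h]
      exact inf_le_right
    have := hall _ (le_inf hET.le (hEJ.trans Subgroup.le_normalizer)) hY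
    exact hbJ (this (Subgroup.mem_inf.2 ⟨hbT, hbN⟩))
  have hJtop : J ≠ ⊤ := fun h => (not_le_of_gt hJT) (h ▸ le_top)
  have hrel := hnr J hEJ hJtop
  have hNT : Subgroup.normalizer (J : Set P) ≤ T :=
    u1 (p := p) J T _ hJT.le hTN hrel (fun h => (lt_irrefl _ (h ▸ hJT)))
  have hN := le_antisymm hNT hTN
  exact ⟨J, hEJ, hJT, hall, hN, hN ▸ hrel⟩

theorem d6 [Finite P] {p : ℕ} [Fact p.Prime] (hP : IsPGroup p P) (E M : Subgroup P) [hMn : M.Normal]
    (hchain : ∀ K L : Subgroup P, E ≤ K → E ≤ L → K ≤ L ∨ L ≤ K)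
    (hnr : ∀ K : Subgroup P, E ≤ K → K ≠ ⊤ → K.relIndex (Subgroup.normalizer (K : Set P)) = p)
    (hEM : E < M) (g : P) (hg : g ∉ M) :
    M ≤ E ⊔ E.map (MulAut.conj g).toMonoidHom := by
  obtain ⟨J, hEJ, hJM, hall, hN, -⟩ := max_below hP E M hchain hnr hEM
  by_contra hM
  have hJ₀M : E ⊔ E.map (MulAut.conj g).toMonoidHom ≤ M := by
    refine sup_le hEM.le ?_
    rintro x ⟨e, he, rfl⟩
    exact hMn.conj_mem e (hEM.le he) g
  have hJ₀ : E ⊔ E.map (MulAut.conj g).toMonoidHom ≤ J :=
    hall _ le_sup_left (lt_of_le_of_ne hJ₀M (fun h => hM h.ge))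
  have hEX : E ≤ J.comap (MulAut.conj g).toMonoidHom := by
    intro e he
    exact hJ₀ ((le_sup_right : E.map (MulAut.conj g).toMonoidHom ≤ _) ⟨e, he, rfl⟩)
  rcases hchain _ J hEX hEJ with h | h
  · have : g⁻¹ ∈ Subgroup.normalizer (J : Set P) := by
      apply nm
      intro x hx
      apply h
      show g * (g⁻¹ * x * g⁻¹⁻¹) * g⁻¹ ∈ J
      have : g * (g⁻¹ * x * g⁻¹⁻¹) * g⁻¹ = x := by group
      rw [this]; exact hx
    rw [hN] at this
    exact hg (by simpa using M.inv_mem this)
  · have : g ∈ Subgroup.normalizer (J : Set P) := by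
      apply nm
      intro x hx
      exact h hx
    rw [hN] at this
    exact hg this

theorem d7 [Finite P] {p : ℕ} [Fact p.Prime] (hP : IsPGroup p P) (E M W : Subgroup P)
    [hMn : M.Normal] [hWn : W.Normal]
    (hcomm : ∀ a ∈ E, ∀ b ∈ E, a * b = b * a) (hcent : Subgroup.centralizer (E : Set P) ≤ E)
    (hchain : ∀ K L : Subgroup P, E ≤ K → E ≤ L → K ≤ L ∨ L ≤ K)
    (hnr : ∀ K : Subgroup P, E ≤ K → K ≠ ⊤ → K.relIndex (Subgroup.normalizer (K : Set P)) = p)
    (hEM : E < M) (hM : M ≠ ⊤) (hW : W = M ⊓ Subgroup.centralizer (M : Set P)) :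
    ∃ x, x ∉ E ∧ ∀ e ∈ E, ⁅x, e⁆ ∈ W := by
  by_contra hcon
  have hst : ∀ x, (∀ e ∈ E, ⁅x, e⁆ ∈ W) → x ∈ E := by
    intro x hx
    by_contra hxE
    exact hcon ⟨x, hxE, hx⟩
  have hMW : ¬ M ≤ W := by
    intro h
    obtain ⟨m, hm, hmE⟩ := SetLike.exists_of_lt hEM
    apply hmE
    apply hcent
    have : m ∈ Subgroup.centralizer (M : Set P) := by
      have := h hm
      rw [hW] at this
      exact (Subgroup.mem_inf.1 this).2
    exact Subgroup.centralizer_le (show (E : Set P) ⊆ M from hEM.le) this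
  -- an element y of M outside W with [y, M] ≤ W
  obtain ⟨y, hyM, hyW, hy⟩ : ∃ y ∈ M, y ∉ W ∧ ∀ m ∈ M, ⁅y, m⁆ ∈ W := by
    have hne : M.map (QuotientGroup.mk' W) ≠ ⊥ := by
      intro h
      rw [Subgroup.map_eq_bot_iff, QuotientGroup.ker_mk'] at h
      exact hMW h
    haveI : Nontrivial (M.map (QuotientGroup.mk' W)) := (Subgroup.nontrivial_iff_ne_bot _).2 hne
    have hpq : IsPGroup p (M.map (QuotientGroup.mk' W)) := (hP.to_quotient W).to_subgroup _
    haveI := hpq.center_nontrivial
    obtain ⟨z, hz, hz1⟩ := (Subgroup.nontrivial_iff_exists_ne_one _).1 this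
    obtain ⟨y, hyM, hyz⟩ := z.2
    refine ⟨y, hyM, ?_, ?_⟩
    · intro hyW
      apply hz1
      apply Subtype.ext
      rw [← hyz]
      exact (QuotientGroup.eq_one_iff _).2 hyW
    · intro m hm
      have h1 := Subgroup.mem_center_iff.1 hz ⟨(QuotientGroup.mk' W) m, ⟨m, hm, rfl⟩⟩
      have h2 := congrArg Subtype.val h1
      simp only [Subgroup.coe_mul] at h2
      rw [← hyz] at h2
      have h3 : (QuotientGroup.mk' W) ⁅y, m⁆ = 1 := by
        rw [map_commutatorElement, commutatorElement_eq_one_iff_commute]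
        exact h2.symm
      exact (QuotientGroup.eq_one_iff _).1 h3
  have hyE : y ∈ E := hst y (fun e he => hy e (hEM.le he))
  obtain ⟨g, hg⟩ : ∃ g, g ∉ M := by
    by_contra h
    push Not at h
    exact hM (eq_top_iff.2 (fun x _ => h x))
  have hy'E : g⁻¹ * y * g ∈ E := by
    apply hst
    intro e he
    have h1 : ⁅g⁻¹ * y * g, e⁆ = g⁻¹ * ⁅y, g * e * g⁻¹⁆ * g⁻¹⁻¹ := by
      rw [commutatorElement_def, commutatorElement_def]; group
    rw [h1]
    exact hWn.conj_mem _ (hy _ (hMn.conj_mem e (hEM.le he) g)) g⁻¹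
  have h6 := d6 hP E M hchain hnr hEM g hg
  have hy2 : g * (g⁻¹ * y * g) * g⁻¹ = y := by group
  have h7 := cent_sup E hcomm g (g⁻¹ * y * g) hy'E (by rw [hy2]; exact hyE)
  rw [hy2] at h7
  apply hyW
  rw [hW]
  refine Subgroup.mem_inf.2 ⟨hyM, ?_⟩
  rw [Subgroup.mem_centralizer_iff]
  intro m hm
  exact (Subgroup.mem_centralizer_iff.1 (h7 (h6 hm)) y rfl).symm

theorem nt [Finite P] {p : ℕ} [Fact p.Prime] (E K : Subgroup P)
    (hcent : Subgroup.centralizer (E : Set P) ≤ E)
    (hnr : ∀ K : Subgroup P, E ≤ K → K ≠ ⊤ → K.relIndex (Subgroup.normalizer (K : Set P)) = p)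
    (hEK : E ≤ K) (hK : K ≠ ⊤) (m : ℕ) (hlcs : K.lowerCentralSeries (m + 1) = ⊥) :
    Nat.card K ≤ p ^ m * Nat.card E := by
  let t : ℕ → Subgroup P := fun j => Nat.rec (motive := fun _ => Subgroup P) E
    (fun _ X => K ⊓ Subgroup.normalizer (X : Set P)) j
  have ht0 : t 0 = E := rfl
  have hts : ∀ j, t (j + 1) = K ⊓ Subgroup.normalizer ((t j : Subgroup P) : Set P) :=
    fun j => rfl
  have h1 : ∀ j, E ≤ t j ∧ t j ≤ K := by
    intro j
    induction j with
    | zero => exact ⟨le_rfl, hEK⟩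
    | succ j ih =>
      rw [hts]
      exact ⟨le_inf hEK (ih.1.trans Subgroup.le_normalizer), inf_le_left⟩
  have h2 : ∀ j, Nat.card (t j) ≤ p ^ j * Nat.card E := by
    intro j
    induction j with
    | zero => rw [ht0]; simp
    | succ j ih =>
      have hne : t j ≠ ⊤ := fun h => hK (eq_top_iff.2 (h ▸ (h1 j).2))
      have hc := card_rel (Subgroup.le_normalizer (H := t j))
      rw [hnr (t j) (h1 j).1 hne] at hc
      have hle : Nat.card (t (j + 1)) ≤ Nat.card (Subgroup.normalizer (t j : Set P)) := by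
        rw [hts]; exact Subgroup.card_le_of_le inf_le_right
      calc Nat.card (t (j + 1)) ≤ Nat.card (t j) * p := hc ▸ hle
        _ ≤ p ^ j * Nat.card E * p := Nat.mul_le_mul_right _ ih
        _ = p ^ (j + 1) * Nat.card E := by ring
  have h3 : ∀ j, j ≤ m → K.lowerCentralSeries (m - j) ≤ t j := by
    intro j
    induction j with
    | zero =>
      intro _ y hy
      rw [ht0]
      apply hcent
      rw [Subgroup.mem_centralizer_iff]
      intro e he
      have h4 : ⁅y, e⁆ ∈ K.lowerCentralSeries (m + 1) := by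
        rw [Subgroup.lowerCentralSeries_succ]
        exact Subgroup.commutator_mem_commutator hy (hEK he)
      rw [hlcs, Subgroup.mem_bot, commutatorElement_eq_one_iff_commute] at h4
      exact h4.eq.symm
    | succ j ih =>
      intro hj y hy
      rw [hts]
      refine Subgroup.mem_inf.2 ⟨Subgroup.lowerCentralSeries_le_self K _ hy, ?_⟩
      apply nm
      intro e he
      rw [conj_eq]
      refine (t j).mul_mem (ih (by omega) ?_) he
      have h4 : ⁅y, e⁆ ∈ K.lowerCentralSeries (m - (j + 1) + 1) := by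
        rw [Subgroup.lowerCentralSeries_succ]
        exact Subgroup.commutator_mem_commutator hy ((h1 j).2 he)
      have : m - (j + 1) + 1 = m - j := by omega
      rw [this] at h4
      exact h4
  have h5 := h3 m le_rfl
  rw [Nat.sub_self, Subgroup.lowerCentralSeries_zero] at h5
  exact (Subgroup.card_le_of_le h5).trans (h2 m)


theorem main.{u} (p : ℕ) [Fact p.Prime] : ∀ n : ℕ, ∀ (P : Type u) [Group P] [Finite P],
    Nat.card P ≤ n → IsPGroup p P → ∀ E : Subgroup P, Soft p E → Concl p E := by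
  intro n
  induction n with
  | zero =>
    intro P _ _ hn
    have := Nat.card_pos (α := P)
    omega
  | succ n ih =>
    intro P _ _ hn hP E hE
    have hp := (Fact.out : p.Prime)
    obtain ⟨hcomm, hcent, hrel, hidx⟩ := hE
    have hquot : ∀ (W : Subgroup P) [W.Normal], W ≠ ⊥ → ∀ A : Subgroup P,
        Soft p (A.map (QuotientGroup.mk' W)) → Concl p (A.map (QuotientGroup.mk' W)) := by
      intro W _ hW A hA
      refine ih (P ⧸ W) ?_ (hP.to_quotient W) _ hA
      have h1 := Subgroup.card_mul_index W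
      have h2 : 1 < Nat.card W := (Subgroup.one_lt_card_iff_ne_bot W).2 hW
      have h3 : Nat.card (P ⧸ W) = W.index := rfl
      have h4 : 0 < W.index := Nat.pos_of_ne_zero Subgroup.index_ne_zero_of_finite
      rw [h3]
      nlinarith
    set N₁ := Subgroup.normalizer (E : Set P) with hN₁
    have hEN : E ≤ N₁ := Subgroup.le_normalizer
    have hidx2 : p * N₁.index = E.index := by
      have := Subgroup.relIndex_mul_index hEN
      rwa [hrel] at this
    have hN₁top : N₁ ≠ ⊤ := by
      intro h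
      rw [h, Subgroup.index_top, mul_one] at hidx2
      rw [← hidx2] at hidx
      have := hp.one_lt
      nlinarith
    have hd3 := d3 hP E hcomm hcent hrel hN₁top
    have hEneN : ¬ N₁ ≤ E := by
      intro h
      have h1 : E.relIndex N₁ = 1 := Subgroup.relIndex_eq_one.2 h
      rw [hrel] at h1
      exact hp.one_lt.ne' h1
    have hD2 : ∀ K : Subgroup P, E ≤ K → K ≠ E → N₁ ≤ K := by
      intro K hEK hne
      obtain ⟨b, hbK, hbN, hbE⟩ := ng hP E K (lt_of_le_of_ne hEK (Ne.symm hne))
      have : N₁ ≤ K ⊓ N₁ := by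
        refine u1 (p := p) E _ N₁ (le_inf hEK hEN) inf_le_right hrel ?_
        intro h
        apply hbE
        rw [← h]
        exact Subgroup.mem_inf.2 ⟨hbK, hbN⟩
      exact this.trans inf_le_left
    have hcenE : Subgroup.center P ≤ E := fun z hz => hcent (Subgroup.center_le_centralizer _ hz)
    have hcen_ne : Subgroup.center P ≠ ⊥ := by
      haveI : Nontrivial P := by
        by_contra h
        rw [not_nontrivial_iff_subsingleton] at h
        have : E = ⊤ := Subsingleton.elim _ _
        rw [this, Subgroup.index_top] at hidx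
        nlinarith [hp.one_lt]
      haveI := hP.center_nontrivial
      exact (Subgroup.nontrivial_iff_ne_bot _).1 this
    have hpk : ∃ k, N₁.index = p ^ k := hP.index N₁
    have hmaxcase : ¬ p ^ 2 ≤ N₁.index → N₁.index = p := by
      intro h
      obtain ⟨k, hk⟩ := hpk
      rw [hk] at h hidx2 ⊢
      have hk1 : k < 2 := by
        by_contra hk2
        exact h (Nat.pow_le_pow_right hp.pos (by omega))
      have hk0 : k ≠ 0 := by
        rintro rfl
        rw [pow_zero, mul_one] at hidx2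
        rw [← hidx2] at hidx
        have := hp.one_lt
        nlinarith
      have : k = 1 := by omega
      rw [this, pow_one]
    have hmax : N₁.index = p → ∀ K : Subgroup P, N₁ ≤ K → K = N₁ ∨ K = ⊤ := by
      intro hNp K hK
      by_cases h : K = N₁
      · exact Or.inl h
      · right
        exact eq_top_iff.2 (u1 (p := p) N₁ K ⊤ hK le_top
          (by rw [Subgroup.relIndex_top_right]; exact hNp) h)
    have h12 : (∀ K L : Subgroup P, E ≤ K → E ≤ L → K ≤ L ∨ L ≤ K) ∧
        (∀ K : Subgroup P, E ≤ K → K ≠ ⊤ →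
          K.relIndex (Subgroup.normalizer (K : Set P)) = p) := by
      have hred : (∀ K L : Subgroup P, N₁ ≤ K → N₁ ≤ L → K ≤ L ∨ L ≤ K) →
          (∀ K : Subgroup P, N₁ ≤ K → K ≠ ⊤ →
            K.relIndex (Subgroup.normalizer (K : Set P)) = p) →
          (∀ K L : Subgroup P, E ≤ K → E ≤ L → K ≤ L ∨ L ≤ K) ∧
          (∀ K : Subgroup P, E ≤ K → K ≠ ⊤ →
            K.relIndex (Subgroup.normalizer (K : Set P)) = p) := by
        intro q1 q2
        refine ⟨?_, ?_⟩
        · intro K L hK hL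
          by_cases hKE : K = E
          · left; rw [hKE]; exact hL
          by_cases hLE : L = E
          · right; rw [hLE]; exact hK
          exact q1 K L (hD2 K hK hKE) (hD2 L hL hLE)
        · intro K hK hne
          by_cases hKE : K = E
          · rw [hKE]; exact hrel
          exact q2 K (hD2 K hK hKE) hne
      by_cases hk : p ^ 2 ≤ N₁.index
      · by_cases hsc : ∀ x, (∀ e ∈ E, ⁅x, e⁆ ∈ Subgroup.center P) → x ∈ E
        · have hsoft := soft_quot p (Subgroup.center P) E hcenE
            (fun a ha b hb => by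
              have : ⁅a, b⁆ = 1 := commutatorElement_eq_one_iff_commute.2 (hcomm a ha b hb)
              rw [this]; exact Subgroup.one_mem _) hsc hrel hidx
          have hC := hquot (Subgroup.center P) hcen_ne E hsoft
          obtain ⟨q1, q2, -⟩ := qt p (Subgroup.center P) E hcenE hC
          exact ⟨q1, q2⟩
        · push Not at hsc
          obtain ⟨x, hx, hxE⟩ := hsc
          have hab := ab (Subgroup.center P) E hcenE hcomm hrel x hxE hx
          have hsoft := soft_quot p (Subgroup.center P) N₁ (hcenE.trans hEN) hab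
            (fun y hy => nm E y (fun e he => by
              rw [conj_eq]
              exact E.mul_mem (hcenE (hy e (hEN he))) he)) hd3 hk
          have hC := hquot (Subgroup.center P) hcen_ne N₁ hsoft
          obtain ⟨q1, q2, -⟩ := qt p (Subgroup.center P) N₁ (hcenE.trans hEN) hC
          exact hred q1 q2
      · have hNp := hmaxcase hk
        refine hred ?_ ?_
        · intro K L hK hL
          rcases hmax hNp K hK with h | h
          · left; rw [h]; exact hL
          · right; rw [h]; exact le_top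
        · intro K hK hne
          rcases hmax hNp K hK with h | h
          · rw [h]; exact hd3
          · exact absurd h hne
    obtain ⟨hchain, hnr⟩ := h12
    refine ⟨hchain, hnr, ?_⟩
    intro i K hEK hK hidxK
    have hKidx : 0 < K.index := Nat.pos_of_ne_zero Subgroup.index_ne_zero_of_finite
    constructor
    · rcases i with _ | i'
      · have hKE : K ≤ E := by
          have h1 := Subgroup.relIndex_mul_index hEK
          rw [← hidxK, pow_zero, mul_one] at h1
          have h2 : E.relIndex K = 1 :=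
            Nat.eq_of_mul_eq_mul_right hKidx (h1.trans (one_mul _).symm)
          exact Subgroup.relIndex_eq_one.1 h2
        rw [zero_add, Subgroup.lowerCentralSeries_succ, Subgroup.lowerCentralSeries_zero,
          eq_bot_iff, Subgroup.commutator_le]
        intro a ha b hb
        rw [Subgroup.mem_bot, commutatorElement_eq_one_iff_commute]
        exact hcomm a (hKE ha) b (hKE hb)
      · have hKneE : K ≠ E := by
          intro h
          rw [h] at hidxK
          have hEi : 0 < E.index := Nat.pos_of_ne_zero Subgroup.index_ne_zero_of_finite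
          have h2 : 2 ≤ p ^ (i' + 1) := by
            calc 2 ≤ p := hp.two_le
              _ = p ^ 1 := (pow_one p).symm
              _ ≤ p ^ (i' + 1) := Nat.pow_le_pow_right hp.pos (by omega)
          nlinarith
        have hN₁K := hD2 K hEK hKneE
        have hidxK' : K.index * p ^ i' = N₁.index := by
          have : p * (K.index * p ^ i') = p * N₁.index := by
            rw [hidx2, ← hidxK]; ring
          exact Nat.eq_of_mul_eq_mul_left hp.pos this
        obtain ⟨M, hEM, hMtop, hMall, hMnorm, -⟩ := max_below hP E ⊤ hchain hnr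
          (lt_top_iff_ne_top.2 (fun h => hN₁top (eq_top_iff.2 (h ▸ hEN))))
        haveI hMn : M.Normal := Subgroup.normalizer_eq_top_iff.1 hMnorm
        have hN₁M : N₁ ≤ M := hMall N₁ hEN (lt_top_iff_ne_top.2 hN₁top)
        have hKM : K ≤ M := hMall K hEK (lt_top_iff_ne_top.2 hK)
        have hEltM : E < M := lt_of_le_of_ne hEM (fun h => hEneN (h ▸ hN₁M))
        set W := M ⊓ Subgroup.centralizer (M : Set P) with hW
        haveI hWn : W.Normal := by rw [hW]; infer_instance
        have hWE : W ≤ E := fun w hw => hcent (Subgroup.centralizer_le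
          (show (E : Set P) ⊆ M from hEM) (Subgroup.mem_inf.1 hw).2)
        have hWne : W ≠ ⊥ := by
          intro h
          apply hcen_ne
          rw [eq_bot_iff, ← h]
          exact le_inf (hcenE.trans hEM) (Subgroup.center_le_centralizer _)
        obtain ⟨x, hxE, hx⟩ := d7 hP E M W hcomm hcent hchain hnr hEltM hMtop.ne hW
        have hab := ab W E hWE hcomm hrel x hxE hx
        have hKW : K.lowerCentralSeries (i' + 1) ≤ W := by
          by_cases hk : p ^ 2 ≤ N₁.index
          · have hsoft := soft_quot p W N₁ (hWE.trans hEN) hab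
              (fun y hy => nm E y (fun e he => by
                rw [conj_eq]
                exact E.mul_mem (hWE (hy e (hEN he))) he)) hd3 hk
            have hC := hquot W hWne N₁ hsoft
            exact (qt p W N₁ (hWE.trans hEN) hC).2.2 i' K hN₁K hK hidxK'
          · have hNp := hmaxcase hk
            rcases hmax hNp K hN₁K with h | h
            · rw [h, hNp] at hidxK'
              have hi0 : i' = 0 := by
                by_contra hi
                have h2 : 2 ≤ p ^ i' := by
                  calc 2 ≤ p := hp.two_le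
                    _ = p ^ 1 := (pow_one p).symm
                    _ ≤ p ^ i' := Nat.pow_le_pow_right hp.pos (by omega)
                nlinarith [hp.pos]
              rw [hi0, zero_add, Subgroup.lowerCentralSeries_succ,
                Subgroup.lowerCentralSeries_zero, h, Subgroup.commutator_le]
              exact hab
            · exact absurd h hK
        rw [Subgroup.lowerCentralSeries_succ, eq_bot_iff, Subgroup.commutator_le]
        intro a ha b hb
        rw [Subgroup.mem_bot, commutatorElement_eq_one_iff_commute]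
        have := Subgroup.mem_centralizer_iff.1 (Subgroup.mem_inf.1 (hKW ha)).2 b (hKM hb)
        exact this.symm
    · rcases i with _ | m
      · rw [Subgroup.lowerCentralSeries_zero]
        intro h
        apply hcen_ne
        rw [eq_bot_iff, ← h]
        exact hcenE.trans hEK
      · intro hbot
        have h1 := nt E K hcent hnr hEK hK m hbot
        have h2 := Subgroup.card_mul_index K
        have h3 := Subgroup.card_mul_index E
        rw [← hidxK] at h3
        have h4 : Nat.card K = Nat.card E * p ^ (m + 1) := by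
          apply Nat.eq_of_mul_eq_mul_right hKidx
          rw [h2, ← h3]; ring
        rw [h4, pow_succ] at h1
        have hE0 : 0 < Nat.card E := Nat.card_pos
        have hpm : 0 < p ^ m := Nat.pos_of_ne_zero (pow_ne_zero _ hp.ne_zero)
        have := hp.one_lt
        nlinarith [Nat.mul_pos hE0 hpm]


/-- Let P be a finite p-group and E an abelian subgroup of P that contains its centralizer, has index p in its normalizer, and has index at least p² in P. Then the subgroups of P containing E are totally ordered by inclusion, each proper one has index p in its normalizer (so they form the normalizer tower of E, with all steps of index p), and the i-th member of the tower above E has nilpotency class i + 1 whenever it is a proper subgroup of P. -/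
theorem result {P : Type*} [Group P] [Finite P] (p : ℕ) [Fact p.Prime] (hP : IsPGroup p P)
    (E : Subgroup P) (hEab : IsMulCommutative ↥E) (hC : Subgroup.centralizer (E : Set P) ≤ E)
    (hN : (E.subgroupOf (Subgroup.normalizer (E : Set P))).index = p) (hidx : p ^ 2 ≤ E.index) :
    (∀ K L : Subgroup P, E ≤ K → E ≤ L → K ≤ L ∨ L ≤ K) ∧
      (∀ K : Subgroup P, E ≤ K → K ≠ ⊤ → (K.subgroupOf (Subgroup.normalizer (K : Set P))).index = p) ∧
      ∀ (i : ℕ) (K : Subgroup P) [Group.IsNilpotent ↥K], E ≤ K → K ≠ ⊤ → K.index * p ^ i = E.index →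
        Group.nilpotencyClass ↥K = i + 1 := by
  have hsoft : Soft p E :=
    ⟨fun a ha b hb => congrArg Subtype.val (hEab.is_comm.comm ⟨a, ha⟩ ⟨b, hb⟩), hC, hN, hidx⟩
  obtain ⟨h1, h2, h3⟩ := main p (Nat.card P) P le_rfl hP E hsoft
  refine ⟨h1, h2, ?_⟩
  intro i K _ hEK hK hi
  obtain ⟨ha, hb⟩ := h3 i K hEK hK hi
  apply le_antisymm
  · rw [← Subgroup.lowerCentralSeries_eq_bot_iff_nilpotencyClass_le]
    have := Subgroup.top_subtype_lowerCentralSeries K (i + 1)
    rw [ha] at this
    exact (Subgroup.map_eq_bot_iff_of_injective _ K.subtype_injective).1 this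
  · by_contra hlt
    push Not at hlt
    exact hb (Subgroup.lowerCentralSeries_eq_bot_of_nilpotencyClass_le (by omega))

end Cfsg.Agent.S3811
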