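import Cfsg.Statements.S3816
import Mathlib
import Cfsg.Agent.Lib.Helper73.FlvMain

set_option autoImplicit false
open Cfsg

namespace Cfsg.Agent.S3816

open Cfsg.Agent.Lib.Helper73.Flv
open scoped commutatorElement

section Hol

variable {H : Type*} [Group H]

/-- Conjugation by an automorphism inside the holomorph. -/
theorem hol_conj (a : MulAut H) (n : H) :
    (SemidirectProduct.inr a : H ⋊[MonoidHom.id (MulAut H)] MulAut H) * SemidirectProduct.inl n
      * (SemidirectProduct.inr a)⁻¹ = SemidirectProduct.inl (a n) := by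
  rw [← map_inv]
  exact (SemidirectProduct.inl_aut (φ := MonoidHom.id (MulAut H)) a n).symm

theorem hol_gen (a : MulAut H) (h : H) :
    (SemidirectProduct.inl h : H ⋊[MonoidHom.id (MulAut H)] MulAut H)⁻¹ * SemidirectProduct.inr a
      * SemidirectProduct.inl h * (SemidirectProduct.inr a)⁻¹
      = SemidirectProduct.inl (h⁻¹ * a h) := by
  rw [map_mul, map_inv, ← hol_conj]
  group

theorem hol_mem_zpowers [Finite H] (x : MulAut H)
    {g : H ⋊[MonoidHom.id (MulAut H)] MulAut H}
    (hg : g ∈ Subgroup.zpowers (SemidirectProduct.inr x : H ⋊[MonoidHom.id (MulAut H)] MulAut H)) :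
    ∃ i : ℕ, g = SemidirectProduct.inr (x ^ i) := by
  haveI : Finite (H ⋊[MonoidHom.id (MulAut H)] MulAut H) :=
    Finite.of_equiv _ SemidirectProduct.equivProd.symm
  have hfin : IsOfFinOrder (SemidirectProduct.inr x : H ⋊[MonoidHom.id (MulAut H)] MulAut H) :=
    isOfFinOrder_of_finite _
  obtain ⟨i, hi⟩ := hfin.mem_powers_iff_mem_zpowers.mpr hg
  exact ⟨i, by rw [map_pow]; exact hi.symm⟩

theorem fix_pow (x : MulAut H) {c : H} (hc : x c = c) (i : ℕ) : (x ^ i) c = c := by
  induction i with
  | zero => simp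
  | succ i ih => rw [pow_succ, MulAut.mul_apply, hc, ih]

end Hol

/-- Let p be an odd prime, H a finite solvable group of order prime to p, and x an automorphism of H of order p (so P = ⟨x⟩ has prime order p > 2 and acts coprimely on H). For h ∈ H let [h, P] be the subgroup generated by the commutators h⁻¹·xⁱ(h), and let [H, P] be the subgroup generated by all of these. Then the fixed points of x in [H, P] are generated by the fixed points of x in the subgroups [h, P], h ∈ H. -/
theorem result {H : Type*} [Group H] [Finite H]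
    [Group.IsSolvable H] {p : ℕ} [Fact p.Prime] (hp : p ≠ 2) (hcop : (Nat.card H).Coprime p)
    (x : MulAut H) (hx : orderOf x = p) :
    Subgroup.closure {c : H | ∃ h : H, ∃ i : ℕ, c = h⁻¹ * (x ^ i) h} ⊓ (x : H →* H).eqLocus (MonoidHom.id H) =
      ⨆ h : H, Subgroup.closure {c : H | ∃ i : ℕ, c = h⁻¹ * (x ^ i) h} ⊓ (x : H →* H).eqLocus (MonoidHom.id H) := by
  apply le_antisymm
  · have hpP : p.Prime := Fact.out
    haveI : Finite (H ⋊[MonoidHom.id (MulAut H)] MulAut H) :=
      Finite.of_equiv _ SemidirectProduct.equivProd.symm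
    have hinj : Function.Injective
        (SemidirectProduct.inl : H →* H ⋊[MonoidHom.id (MulAut H)] MulAut H) :=
      SemidirectProduct.inl_injective
    obtain ⟨L, hL⟩ : ∃ L : Subgroup (H ⋊[MonoidHom.id (MulAut H)] MulAut H),
        L = (SemidirectProduct.inl : H →* H ⋊[MonoidHom.id (MulAut H)] MulAut H).range :=
      ⟨_, rfl⟩
    obtain ⟨P, hP⟩ : ∃ P : Subgroup (H ⋊[MonoidHom.id (MulAut H)] MulAut H),
        P = Subgroup.zpowers
          (SemidirectProduct.inr x : H ⋊[MonoidHom.id (MulAut H)] MulAut H) := ⟨_, rfl⟩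
    have hPmem : ∀ g ∈ P, ∃ i : ℕ, g = SemidirectProduct.inr (x ^ i) := by
      intro g hg
      rw [hP] at hg
      exact hol_mem_zpowers x hg
    have hmemP : ∀ i : ℕ, (SemidirectProduct.inr (x ^ i) :
        H ⋊[MonoidHom.id (MulAut H)] MulAut H) ∈ P := by
      intro i
      rw [hP, map_pow]
      exact Subgroup.pow_mem _ (Subgroup.mem_zpowers _) i
    have hLmem : ∀ h : H, (SemidirectProduct.inl h :
        H ⋊[MonoidHom.id (MulAut H)] MulAut H) ∈ L := by
      intro h
      rw [hL]; exact ⟨h, rfl⟩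
    have hPL : P ≤ Subgroup.normalizer (L : Set (H ⋊[MonoidHom.id (MulAut H)] MulAut H)) := by
      rw [Subgroup.le_normalizer_iff]
      intro g hg l hl
      obtain ⟨i, rfl⟩ := hPmem g hg
      rw [hL] at hl
      obtain ⟨n, rfl⟩ := hl
      rw [hol_conj]
      exact hLmem _
    have hPcard : Nat.card P ∣ p := by
      rw [hP, Nat.card_zpowers,
        orderOf_injective (SemidirectProduct.inr : MulAut H →*
          H ⋊[MonoidHom.id (MulAut H)] MulAut H) SemidirectProduct.inr_injective x, hx]
    have hLcard : Nat.card L = Nat.card H := by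
      rw [hL]
      exact Nat.card_congr (MonoidHom.ofInjective hinj).toEquiv.symm
    have hLsolv : Group.IsSolvable L := by
      rw [hL]
      exact Group.isSolvable_of_surjective
        (SemidirectProduct.inl : H →* H ⋊[MonoidHom.id (MulAut H)] MulAut H).rangeRestrict_surjective
    have main := flavell hpP hp P L hPcard hPL (by rw [hLcard]; exact hcop) hLsolv
    intro c hc
    have hcA := (Subgroup.mem_inf.mp hc).1
    have hcF : x c = c := (Subgroup.mem_inf.mp hc).2
    -- the image of `c` is a fixed point in `[L, P]`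
    have h1 : (SemidirectProduct.inl c : H ⋊[MonoidHom.id (MulAut H)] MulAut H) ∈ ⁅L, P⁆ := by
      have hle : Subgroup.closure {c : H | ∃ h : H, ∃ i : ℕ, c = h⁻¹ * (x ^ i) h} ≤
          (⁅L, P⁆).comap
            (SemidirectProduct.inl : H →* H ⋊[MonoidHom.id (MulAut H)] MulAut H) := by
        rw [Subgroup.closure_le]
        rintro _ ⟨h, i, rfl⟩
        change (SemidirectProduct.inl (h⁻¹ * (x ^ i) h) :
          H ⋊[MonoidHom.id (MulAut H)] MulAut H) ∈ ⁅L, P⁆
        rw [← hol_gen]
        exact cmh_le_commutator (hLmem h) (cmh_gen_mem P _ (hmemP i))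
      exact hle hcA
    have h2 : (SemidirectProduct.inl c : H ⋊[MonoidHom.id (MulAut H)] MulAut H) ∈
        Subgroup.centralizer (P : Set (H ⋊[MonoidHom.id (MulAut H)] MulAut H)) := by
      rw [Subgroup.mem_centralizer_iff]
      intro g hg
      obtain ⟨i, rfl⟩ := hPmem g hg
      have h3 := hol_conj (x ^ i) c
      rw [fix_pow x hcF i] at h3
      exact mul_inv_eq_iff_eq_mul.mp h3
    have h3 := main (Subgroup.mem_inf.mpr ⟨h1, h2⟩)
    -- the generating fixed points come from `H`
    have hKK : KK P L ≤ (⨆ h : H, Subgroup.closure {c : H | ∃ i : ℕ, c = h⁻¹ * (x ^ i) h} ⊓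
        (x : H →* H).eqLocus (MonoidHom.id H)).map
          (SemidirectProduct.inl : H →* H ⋊[MonoidHom.id (MulAut H)] MulAut H) := by
      apply KK_le
      intro h' hh' y hy
      rw [hL] at hh'
      obtain ⟨h, rfl⟩ := hh'
      have hy1 := (Subgroup.mem_inf.mp hy).1
      have hy2 := (Subgroup.mem_inf.mp hy).2
      have hle : cmh P (SemidirectProduct.inl h : H ⋊[MonoidHom.id (MulAut H)] MulAut H) ≤
          (Subgroup.closure {c : H | ∃ i : ℕ, c = h⁻¹ * (x ^ i) h}).map
            (SemidirectProduct.inl : H →* H ⋊[MonoidHom.id (MulAut H)] MulAut H) := by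
        apply cmh_le
        intro a ha
        obtain ⟨i, rfl⟩ := hPmem a ha
        rw [hol_gen]
        exact Subgroup.mem_map_of_mem _ (Subgroup.subset_closure ⟨i, rfl⟩)
      obtain ⟨b, hb, rfl⟩ := hle hy1
      have hbF : x b = b := by
        have h4 : (SemidirectProduct.inr (x ^ 1) : H ⋊[MonoidHom.id (MulAut H)] MulAut H) ∈ P :=
          hmemP 1
        rw [pow_one] at h4
        have h5 := Subgroup.mem_centralizer_iff.mp hy2 _ h4
        have h6 := hol_conj x b
        rw [h5, mul_inv_cancel_right] at h6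
        exact (hinj h6).symm
      exact Subgroup.mem_map_of_mem _
        ((le_iSup (fun h : H => Subgroup.closure {c : H | ∃ i : ℕ, c = h⁻¹ * (x ^ i) h} ⊓
          (x : H →* H).eqLocus (MonoidHom.id H)) h) (Subgroup.mem_inf.mpr ⟨hb, hbF⟩))
    obtain ⟨c', hc', hcc'⟩ := hKK h3
    rw [← hinj hcc']
    exact hc'
  · apply iSup_le
    intro h
    exact inf_le_inf_right _ (Subgroup.closure_mono (fun c ⟨i, hi⟩ => ⟨h, i, hi⟩))

end Cfsg.Agent.S3816
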