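-- Statement S3824: a finite group with an abelian subgroup of 2-power index is solvable.
import Mathlib
import Cfsg.Statements.S3824
import Cfsg.Agent.Lib.Helper64.Dihedral

set_option autoImplicit false
open Cfsg
open Cfsg.Agent.Lib.Helper64

namespace Cfsg.Agent.S3824

universe u

/-- subgroups of coprime index factorize the group -/
theorem exists_mul_of_coprime_index {G : Type*} [Group G] [Finite G] (H K : Subgroup G)
    (hcop : Nat.Coprime H.index K.index) (g : G) : ∃ k ∈ K, ∃ h ∈ H, g = k * h := by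
  let x₀ : G ⧸ H := QuotientGroup.mk 1
  have hstab : MulAction.stabilizer K x₀ = H.subgroupOf K := by
    ext k
    rw [MulAction.mem_stabilizer_iff, Subgroup.mem_subgroupOf]
    have e : k • x₀ = (QuotientGroup.mk ((k : G) * 1) : G ⧸ H) := rfl
    rw [e, QuotientGroup.eq]
    simp
  have horb : (MulAction.orbit K x₀).ncard = H.relIndex K := by
    rw [← MulAction.index_stabilizer, hstab]; rfl
  have h1 : H.relIndex K * K.index = (H ⊓ K).index := by
    rw [← Subgroup.inf_relIndex_right]; exact Subgroup.relIndex_mul_index inf_le_right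
  have h2 : K.relIndex H * H.index = (H ⊓ K).index := by
    rw [← Subgroup.inf_relIndex_left]; exact Subgroup.relIndex_mul_index inf_le_left
  have h3 : H.index ∣ H.relIndex K := by
    have h3' : H.index ∣ H.relIndex K * K.index := by rw [h1, ← h2]; exact dvd_mul_left _ _
    exact hcop.dvd_of_dvd_mul_right h3'
  have h4 : (MulAction.orbit K x₀).ncard ≤ H.index := by
    rw [Subgroup.index_eq_card, ← Set.ncard_univ]
    exact Set.ncard_le_ncard (Set.subset_univ _) (Set.toFinite _)
  have h5 : 0 < (MulAction.orbit K x₀).ncard :=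
    (Set.ncard_pos (Set.toFinite _)).2 (MulAction.nonempty_orbit x₀)
  have h6 : H.index ≤ (MulAction.orbit K x₀).ncard := by
    rw [horb]
    exact Nat.le_of_dvd (horb ▸ h5) h3
  have h7 : MulAction.orbit K x₀ = Set.univ := by
    apply Set.eq_of_subset_of_ncard_le (Set.subset_univ _) _ (Set.toFinite _)
    rw [Set.ncard_univ, ← Subgroup.index_eq_card]
    exact h6
  have hmem : (QuotientGroup.mk g : G ⧸ H) ∈ MulAction.orbit K x₀ := h7 ▸ Set.mem_univ _
  obtain ⟨k, hk⟩ := hmem
  have hk' : (QuotientGroup.mk ((k : G) * 1) : G ⧸ H) = QuotientGroup.mk g := hk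
  rw [QuotientGroup.eq] at hk'
  exact ⟨k, k.2, (k : G)⁻¹ * g, by simpa using hk', by group⟩

/-- an element inverting `h` normalizes the cyclic group generated by `h` -/
theorem inverts_mem_normalizer {G : Type*} [Group G] {g h : G} (hg : g * h * g⁻¹ = h⁻¹) :
    g ∈ Subgroup.normalizer (Subgroup.zpowers h : Set G) := by
  have hg' : g⁻¹ * h * g = h⁻¹ := by
    have e : h = g⁻¹ * h⁻¹ * g := by rw [← hg]; group
    calc g⁻¹ * h * g = (g⁻¹ * h⁻¹ * g)⁻¹ := by group
      _ = h⁻¹ := by rw [← e]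
  rw [Subgroup.mem_normalizer_iff]
  intro y
  constructor
  · rintro ⟨n, rfl⟩
    refine ⟨-n, ?_⟩
    show h ^ (-n) = g * h ^ n * g⁻¹
    rw [← conj_zpow, hg, inv_zpow, zpow_neg]
  · rintro ⟨n, hn⟩
    refine ⟨-n, ?_⟩
    have hn' : h ^ n = g * y * g⁻¹ := hn
    show h ^ (-n) = y
    have e : y = g⁻¹ * (g * y * g⁻¹) * g := by group
    rw [e, ← hn']
    have e2 : g⁻¹ * h ^ n * g = (g⁻¹ * h * g) ^ n := by
      have := conj_zpow (a := g⁻¹) (b := h) (i := n)
      simpa using this.symm
    rw [e2, hg', inv_zpow, zpow_neg]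

/-- elements of odd prime order have centralizers of `2`-power index -/
theorem centralizer_index_of_odd_prime_order {G : Type*} [Group G] [Finite G] (A : Subgroup G)
    (hA : IsMulCommutative A) (k : ℕ) (hidx : A.index = 2 ^ k) (x : G) (p : ℕ) (hp : p.Prime)
    (hp2 : p ≠ 2) (hx : orderOf x = p) :
    ∃ j : ℕ, (Subgroup.centralizer ({x} : Set G)).index = 2 ^ j := by
  have hfact : Fact p.Prime := ⟨hp⟩
  have hP : IsPGroup p (Subgroup.zpowers x) :=
    IsPGroup.of_card (n := 1) (by rw [Nat.card_zpowers, hx, pow_one])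
  have hnd : ¬ p ∣ Nat.card (G ⧸ A) := by
    rw [← Subgroup.index_eq_card, hidx]
    intro h
    exact hp2 ((Nat.prime_dvd_prime_iff_eq hp Nat.prime_two).1 (hp.dvd_of_dvd_pow h))
  obtain ⟨q, hq⟩ := hP.nonempty_fixed_point_of_prime_not_dvd_card (G ⧸ A) hnd
  obtain ⟨c, rfl⟩ := QuotientGroup.mk_surjective q
  have hfix := hq ⟨x, Subgroup.mem_zpowers x⟩
  have h1 : (QuotientGroup.mk (x * c) : G ⧸ A) = QuotientGroup.mk c := hfix
  rw [QuotientGroup.eq] at h1
  have ha : c⁻¹ * x * c ∈ A := by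
    have := A.inv_mem h1
    simpa [mul_assoc] using this
  have hle : A.map ((MulAut.conj c : G ≃* G) : G →* G) ≤ Subgroup.centralizer ({x} : Set G) := by
    rintro _ ⟨a', ha', rfl⟩
    rw [Subgroup.mem_centralizer_iff]
    intro y hy
    rw [Set.mem_singleton_iff] at hy
    subst hy
    have hcomm : (c⁻¹ * y * c) * a' = a' * (c⁻¹ * y * c) := setLike_mul_comm ha ha'
    simp only [MonoidHom.coe_coe, MulAut.conj_apply]
    calc y * (c * a' * c⁻¹) = c * ((c⁻¹ * y * c) * a') * c⁻¹ := by group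
      _ = c * (a' * (c⁻¹ * y * c)) * c⁻¹ := by rw [hcomm]
      _ = c * a' * c⁻¹ * y := by group
  have hdvd : (Subgroup.centralizer ({x} : Set G)).index ∣ 2 ^ k := by
    rw [← hidx, ← Subgroup.index_map_equiv A (MulAut.conj c)]
    exact Subgroup.index_dvd_of_le hle
  obtain ⟨j, -, hj⟩ := (Nat.dvd_prime_pow Nat.prime_two).1 hdvd
  exact ⟨j, hj⟩

/-- an involution whose centralizer has odd index -/
theorem exists_central_involution {G : Type*} [Group G] [Finite G] (h2 : 2 ∣ Nat.card G) :
    ∃ z : G, z * z = 1 ∧ z ≠ 1 ∧ ¬ 2 ∣ (Subgroup.centralizer ({z} : Set G)).index := by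
  have hfact : Fact (Nat.Prime 2) := ⟨Nat.prime_two⟩
  obtain ⟨S⟩ : Nonempty (Sylow 2 G) := inferInstance
  have hSne : (S : Subgroup G) ≠ ⊥ := S.ne_bot_of_dvd_card h2
  have hnt : Nontrivial (S : Subgroup G) := (Subgroup.nontrivial_iff_ne_bot _).2 hSne
  have hS2 : IsPGroup 2 (S : Subgroup G) := S.isPGroup'
  have hcnt : Nontrivial (Subgroup.center (S : Subgroup G)) := hS2.center_nontrivial
  have hZ2 : IsPGroup 2 (Subgroup.center (S : Subgroup G)) := hS2.to_subgroup _
  obtain ⟨n, hn⟩ := (IsPGroup.iff_card).1 hZ2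
  have hn0 : n ≠ 0 := by
    rintro rfl
    have h1 : Nat.card (Subgroup.center (S : Subgroup G)) = 1 := by simpa using hn
    have h2 := Finite.one_lt_card (α := Subgroup.center (S : Subgroup G))
    omega
  have hdvd : 2 ∣ Nat.card (Subgroup.center (S : Subgroup G)) := by
    rw [hn]; exact dvd_pow_self 2 hn0
  obtain ⟨z₀, hz₀⟩ :=
    exists_prime_orderOf_dvd_card' (G := Subgroup.center (S : Subgroup G)) 2 hdvd
  have hz2 : orderOf ((z₀ : (S : Subgroup G)) : G) = 2 := by
    have e : orderOf ((z₀ : (S : Subgroup G)) : G) = orderOf z₀ := by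
      rw [Subgroup.orderOf_coe, Subgroup.orderOf_coe]
    exact e.trans hz₀
  have hzz : ((z₀ : (S : Subgroup G)) : G) * ((z₀ : (S : Subgroup G)) : G) = 1 := by
    have := pow_orderOf_eq_one ((z₀ : (S : Subgroup G)) : G)
    rwa [hz2, pow_two] at this
  refine ⟨((z₀ : (S : Subgroup G)) : G), hzz, ?_, ?_⟩
  · intro e
    rw [e, orderOf_one] at hz2
    exact absurd hz2 (by norm_num)
  · have hle : (S : Subgroup G) ≤ Subgroup.centralizer ({((z₀ : (S : Subgroup G)) : G)} : Set G) := by
      intro s hs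
      rw [Subgroup.mem_centralizer_iff]
      intro y hy
      rw [Set.mem_singleton_iff] at hy
      subst hy
      have hc := (Subgroup.mem_center_iff.1 z₀.2) ⟨s, hs⟩
      have hc' := congrArg (Subtype.val) hc
      simpa using hc'.symm
    intro hd
    exact S.not_dvd_index (hd.trans (Subgroup.index_dvd_of_le hle))

/-- the case of a group without proper nontrivial normal subgroups -/
theorem simple_case {G : Type u} [Group G] [Finite G]
    (hS : ∀ N : Subgroup G, N.Normal → N = ⊥ ∨ N = ⊤)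
    (A : Subgroup G) (hA : IsMulCommutative A) (k : ℕ) (hidx : A.index = 2 ^ k) :
    Group.IsSolvable G := by
  by_cases hc : ∀ a b : G, a * b = b * a
  · exact Group.isSolvable_of_comm hc
  by_cases h2 : 2 ∣ Nat.card G
  swap
  · exfalso
    have hk : k = 0 := by
      by_contra hk
      apply h2
      have hdvd : A.index ∣ Nat.card G := A.index_dvd_card
      rw [hidx] at hdvd
      exact (dvd_pow_self 2 hk).trans hdvd
    subst hk
    rw [pow_zero, Subgroup.index_eq_one] at hidx
    apply hc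
    intro a b
    exact setLike_mul_comm (hidx ▸ Subgroup.mem_top a) (hidx ▸ Subgroup.mem_top b)
  obtain ⟨z, hzz, hz1, hzodd⟩ := exists_central_involution h2
  -- the conjugates of z generate G
  have hgen : ∀ M : Subgroup G, (∀ g : G, g * z * g⁻¹ ∈ M) → M = ⊤ := by
    intro M hM
    let K : Set G := {y | ∃ g : G, y = g * z * g⁻¹}
    have hK : ∀ g : G, ∀ y ∈ K, g * y * g⁻¹ ∈ K := by
      rintro g _ ⟨a, rfl⟩; exact ⟨g * a, by group⟩
    have hn := closure_normal_of_conj_invariant K hK
    have hz : z ∈ Subgroup.closure K := Subgroup.subset_closure ⟨1, by simp⟩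
    rcases hS _ hn with h | h
    · rw [h, Subgroup.mem_bot] at hz; exact absurd hz hz1
    · rw [eq_top_iff, ← h, Subgroup.closure_le]
      rintro _ ⟨g, rfl⟩; exact hM g
  have hclaim : ∀ g : G, ∃ j : ℕ, (z * (g * z * g⁻¹)) ^ 2 ^ j = 1 := by
    intro g
    have hs : (g * z * g⁻¹) * (g * z * g⁻¹) = 1 := by
      calc (g * z * g⁻¹) * (g * z * g⁻¹) = g * (z * z) * g⁻¹ := by group
        _ = 1 := by rw [hzz]; group
    obtain ⟨a, hodd, hinv, -⟩ := invol_pair_odd_part hzz hs
    refine ⟨a, ?_⟩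
    by_contra hne
    generalize (z * (g * z * g⁻¹)) ^ 2 ^ a = h at hodd hinv hne
    have hm1 : orderOf h ≠ 1 := fun e => hne (orderOf_eq_one_iff.1 e)
    have hp := Nat.minFac_prime hm1
    have hpm : (orderOf h).minFac ∣ orderOf h := Nat.minFac_dvd _
    have hp2 : (orderOf h).minFac ≠ 2 := by
      intro e
      rw [e] at hpm
      exact (Nat.not_even_iff_odd.2 hodd) (even_iff_two_dvd.2 hpm)
    have hm0 : orderOf h ≠ 0 := (orderOf_pos h).ne'
    have hdp : orderOf h / (orderOf h).minFac ≠ 0 :=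
      (Nat.div_pos (Nat.le_of_dvd (Nat.pos_of_ne_zero hm0) hpm) hp.pos).ne'
    have hord : orderOf (h ^ (orderOf h / (orderOf h).minFac)) = (orderOf h).minFac := by
      rw [orderOf_pow_of_dvd hdp (Nat.div_dvd_of_dvd hpm), Nat.div_div_self hpm hm0]
    have hinv' : z * h ^ (orderOf h / (orderOf h).minFac) * z⁻¹
        = (h ^ (orderOf h / (orderOf h).minFac))⁻¹ := by
      rw [← conj_pow, hinv, inv_pow]
    generalize h ^ (orderOf h / (orderOf h).minFac) = h' at hord hinv'
    generalize (orderOf h).minFac = p at hp hp2 hord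
    have hh'1 : h' ≠ 1 := by
      intro e
      rw [e, orderOf_one] at hord
      exact hp.one_lt.ne hord
    obtain ⟨j, hj⟩ := centralizer_index_of_odd_prime_order A hA k hidx h' p hp hp2 hord
    have hcop : Nat.Coprime (Subgroup.centralizer ({z} : Set G)).index
        (Subgroup.centralizer ({h'} : Set G)).index := by
      rw [hj]
      exact Nat.Coprime.pow_right j
        (Nat.Coprime.symm ((Nat.Prime.coprime_iff_not_dvd Nat.prime_two).2 hzodd))
    have hallinv : ∀ c : G, (c * z * c⁻¹) * h' * (c * z * c⁻¹)⁻¹ = h'⁻¹ := by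
      intro c
      obtain ⟨k₁, hk₁, h₁, hh₁, rfl⟩ := exists_mul_of_coprime_index _ _ hcop c
      rw [Subgroup.mem_centralizer_iff] at hk₁ hh₁
      have e1 : h' * k₁ = k₁ * h' := hk₁ h' rfl
      have e2 : z * h₁ = h₁ * z := hh₁ z rfl
      have e3 : k₁ * h₁ * z * (k₁ * h₁)⁻¹ = k₁ * z * k₁⁻¹ := by
        calc k₁ * h₁ * z * (k₁ * h₁)⁻¹ = k₁ * (h₁ * z) * h₁⁻¹ * k₁⁻¹ := by group
          _ = k₁ * (z * h₁) * h₁⁻¹ * k₁⁻¹ := by rw [e2]
          _ = k₁ * z * k₁⁻¹ := by group
      rw [e3]
      have e4 : k₁⁻¹ * h' * k₁ = h' := by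
        calc k₁⁻¹ * h' * k₁ = k₁⁻¹ * (h' * k₁) := by group
          _ = k₁⁻¹ * (k₁ * h') := by rw [e1]
          _ = h' := by group
      calc k₁ * z * k₁⁻¹ * h' * (k₁ * z * k₁⁻¹)⁻¹
          = k₁ * (z * (k₁⁻¹ * h' * k₁) * z⁻¹) * k₁⁻¹ := by group
        _ = k₁ * h'⁻¹ * k₁⁻¹ := by rw [e4, hinv']
        _ = (k₁ * h' * k₁⁻¹)⁻¹ := by group
        _ = h'⁻¹ := by
          have e5 : k₁ * h' * k₁⁻¹ = h' := by rw [← e1]; group
          rw [e5]
    have hN : Subgroup.normalizer (Subgroup.zpowers h' : Set G) = ⊤ :=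
      hgen _ (fun c => inverts_mem_normalizer (hallinv c))
    have hnorm : (Subgroup.zpowers h').Normal := Subgroup.normalizer_eq_top_iff.1 hN
    rcases hS _ hnorm with e | e
    · exact hh'1 (Subgroup.zpowers_eq_bot.1 e)
    · apply hc
      intro a b
      have ha : a ∈ Subgroup.zpowers h' := e ▸ Subgroup.mem_top a
      have hb : b ∈ Subgroup.zpowers h' := e ▸ Subgroup.mem_top b
      obtain ⟨i, rfl⟩ := Subgroup.mem_zpowers_iff.1 ha
      obtain ⟨l, rfl⟩ := Subgroup.mem_zpowers_iff.1 hb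
      rw [← zpow_add, ← zpow_add, add_comm]
  obtain ⟨N, hNn, hN2, hzN⟩ := baerSuzuki_involution z hzz hclaim
  rcases hS N hNn with e | e
  · rw [e, Subgroup.mem_bot] at hzN; exact absurd hzN hz1
  · have hG2 : IsPGroup 2 G := by
      intro g
      obtain ⟨j, hj⟩ := (isPGroup_iff_mem.1 hN2) g (e ▸ Subgroup.mem_top g)
      exact ⟨j, hj⟩
    have hfact : Fact (Nat.Prime 2) := ⟨Nat.prime_two⟩
    have hnil := hG2.isNilpotent
    infer_instance

theorem aux : ∀ (n : ℕ) (G : Type u) [Group G] [Finite G], Nat.card G = n →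
    ∀ A : Subgroup G, IsMulCommutative A → (∃ k : ℕ, A.index = 2 ^ k) → Group.IsSolvable G := by
  intro n
  induction n using Nat.strong_induction_on with
  | _ n ih =>
  intro G _ _ hn A hA hidx
  obtain ⟨k, hk⟩ := hidx
  by_cases hex : ∃ N : Subgroup G, N.Normal ∧ N ≠ ⊥ ∧ N ≠ ⊤
  · obtain ⟨N, hNn, hNbot, hNtop⟩ := hex
    have hcardN : Nat.card N < n := by
      rw [← hn]
      exact lt_of_le_of_ne (Subgroup.card_le_card_group N)
        (fun h => hNtop ((Subgroup.card_eq_iff_eq_top N).1 h))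
    have hcardQ : Nat.card (G ⧸ N) < n := by
      rw [← hn, Subgroup.card_eq_card_quotient_mul_card_subgroup N]
      have h1 : 1 < Nat.card N := (Subgroup.one_lt_card_iff_ne_bot N).2 hNbot
      have h2 : 0 < Nat.card (G ⧸ N) := Nat.card_pos
      nlinarith
    -- the subgroup N
    have hrel : A.relIndex N ∣ A.index := by
      have e1 := Subgroup.relIndex_mul_relIndex (A ⊓ N) A (A ⊔ N) inf_le_left le_sup_left
      have e2 := Subgroup.relIndex_mul_relIndex (A ⊓ N) N (A ⊔ N) inf_le_right le_sup_right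
      have e3 : N.relIndex (A ⊔ N) = (A ⊓ N).relIndex A := by
        rw [Subgroup.relIndex_sup_right, Subgroup.inf_relIndex_left]
      have e4 : (A ⊓ N).relIndex N = A.relIndex N := Subgroup.inf_relIndex_right A N
      have e5 : (A ⊓ N).relIndex A ≠ 0 := by
        show ((A ⊓ N).subgroupOf A).index ≠ 0
        exact Subgroup.index_ne_zero_of_finite
      have e6 : A.relIndex (A ⊔ N) = A.relIndex N := by
        rw [← e4]
        have : (A ⊓ N).relIndex A * A.relIndex (A ⊔ N) = (A ⊓ N).relIndex A * (A ⊓ N).relIndex N := by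
          rw [e1, ← e2, e3, mul_comm]
        exact Nat.eq_of_mul_eq_mul_left (Nat.pos_of_ne_zero e5) this
      rw [← e6]
      exact Subgroup.relIndex_dvd_index_of_le le_sup_left
    have hsolN : Group.IsSolvable N := by
      apply ih (Nat.card N) hcardN N rfl (A.subgroupOf N) inferInstance
      have : (A.subgroupOf N).index ∣ 2 ^ k := by
        rw [← hk]; exact hrel
      obtain ⟨j, -, hj⟩ := (Nat.dvd_prime_pow Nat.prime_two).1 this
      exact ⟨j, hj⟩
    have hsolQ : Group.IsSolvable (G ⧸ N) := by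
      apply ih (Nat.card (G ⧸ N)) hcardQ (G ⧸ N) rfl (A.map (QuotientGroup.mk' N)) inferInstance
      have : (A.map (QuotientGroup.mk' N)).index ∣ 2 ^ k := by
        rw [← hk]
        exact Subgroup.index_map_dvd A (QuotientGroup.mk'_surjective N)
      obtain ⟨j, -, hj⟩ := (Nat.dvd_prime_pow Nat.prime_two).1 this
      exact ⟨j, hj⟩
    exact Group.isSolvable_of_ker_le_range N.subtype (QuotientGroup.mk' N)
      (by rw [QuotientGroup.ker_mk', Subgroup.range_subtype])
  · push Not at hex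
    apply simple_case _ A hA k hk
    intro N hN
    by_cases h : N = ⊥
    · exact Or.inl h
    · exact Or.inr (hex N hN h)

/-- Every finite group having an abelian subgroup whose index is a power of 2 is solvable. -/
theorem result {G : Type*} [Group G] [Finite G]
    (A : Subgroup G) (hA : IsMulCommutative A) (hidx : ∃ k : ℕ, A.index = 2 ^ k) : Group.IsSolvable G := by
  exact aux (Nat.card G) G rfl A hA hidx

end Cfsg.Agent.S3824
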