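import Mathlib
import Cfsg.Statements.S3836

set_option autoImplicit false
open Cfsg

namespace Cfsg.Agent.S3836

theorem pCore_normal' (p : ℕ) (X : Type*) [Group X] : (Cfsg.pCore p X).Normal :=
  Subgroup.sSup_normal _ (fun _ h => h.1)

theorem pCore_isPGroup' (p : ℕ) [Fact p.Prime] (X : Type*) [Group X] :
    IsPGroup p (Cfsg.pCore p X) :=
  Sylow.sSup_of_normal _ (fun _ h => h.2) (fun _ h => h.1)

theorem le_pCore' {p : ℕ} {X : Type*} [Group X] (N : Subgroup X) (hN : N.Normal)
    (hp : IsPGroup p N) : N ≤ Cfsg.pCore p X :=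
  le_sSup ⟨hN, hp⟩

/-- the map from `N_H(P)` to `N_G(P)` -/
def normMap {G : Type*} [Group G] (H : Subgroup G) (P : Subgroup H) :
    ↥(Subgroup.normalizer (P : Set H)) →*
      ↥(Subgroup.normalizer ((P.map H.subtype : Subgroup G) : Set G)) where
  toFun x := ⟨((x : H) : G), by
    have hx := x.2
    rw [Subgroup.mem_normalizer_iff] at hx ⊢
    intro y
    constructor
    · rintro ⟨z, hz, rfl⟩
      exact ⟨(x : H) * z * (x : H)⁻¹, (hx z).mp hz, by simp⟩
    · rintro ⟨z, hz, hzy⟩
      have hyH : y ∈ H := by
        have h1 : y = ((x : H) : G)⁻¹ * (z : G) * ((x : H) : G) := by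
          have : (z : G) = ((x : H) : G) * y * ((x : H) : G)⁻¹ := hzy
          rw [this]; group
        rw [h1]
        exact H.mul_mem (H.mul_mem (H.inv_mem (x : H).2) z.2) (x : H).2
      refine ⟨⟨y, hyH⟩, ?_, rfl⟩
      apply (hx ⟨y, hyH⟩).mpr
      have : (x : H) * ⟨y, hyH⟩ * (x : H)⁻¹ = z := by
        apply Subtype.ext
        simpa using hzy.symm
      rw [this]
      exact hz⟩
  map_one' := rfl
  map_mul' _ _ := rfl

theorem normMap_coe {G : Type*} [Group G] (H : Subgroup G) (P : Subgroup H)
    (x : ↥(Subgroup.normalizer (P : Set H))) : ((normMap H P x : G)) = ((x : H) : G) := rfl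

theorem cent_le {G : Type*} [Group G] (H : Subgroup G) (P : Subgroup H) :
    (Subgroup.centralizer (P : Set H)).subgroupOf (Subgroup.normalizer (P : Set H)) ≤
      ((Subgroup.centralizer ((P.map H.subtype : Subgroup G) : Set G)).subgroupOf
        (Subgroup.normalizer ((P.map H.subtype : Subgroup G) : Set G))).comap (normMap H P) := by
  intro x hx
  rw [Subgroup.mem_comap, Subgroup.mem_subgroupOf, Subgroup.mem_centralizer_iff]
  rw [Subgroup.mem_subgroupOf, Subgroup.mem_centralizer_iff] at hx
  rintro y ⟨z, hz, rfl⟩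
  have := hx z hz
  rw [normMap_coe]
  have h2 := congrArg (H.subtype) this
  simpa using h2

theorem cent_ge {G : Type*} [Group G] (H : Subgroup G) (P : Subgroup H)
    (x : ↥(Subgroup.normalizer (P : Set H)))
    (hx : normMap H P x ∈ (Subgroup.centralizer ((P.map H.subtype : Subgroup G) : Set G)).subgroupOf
        (Subgroup.normalizer ((P.map H.subtype : Subgroup G) : Set G))) :
    x ∈ (Subgroup.centralizer (P : Set H)).subgroupOf (Subgroup.normalizer (P : Set H)) := by
  rw [Subgroup.mem_subgroupOf, Subgroup.mem_centralizer_iff] at hx ⊢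
  intro z hz
  have := hx (z : G) ⟨z, hz, rfl⟩
  rw [normMap_coe] at this
  apply Subtype.ext
  simpa using this

/-- Let G be a finite group that is p-stable in the normalizer form: for every p-subgroup Q and every x ∈ N_G(Q) with [Q, x, x] = 1, the image of x in N_G(Q)/C_G(Q) lies in O_p(N_G(Q)/C_G(Q)). Then every subgroup of G is p-stable in the same sense. -/
theorem result {G : Type*} [Group G] [Finite G] {p : ℕ} [Fact p.Prime] (hst : Cfsg.IsNormalizerPStable p G) (H : Subgroup G) : Cfsg.IsNormalizerPStable p ↥H := by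
  intro P hP g hg hcomm
  have hP' : IsPGroup p (P.map H.subtype) := hP.map _
  have hcomm' : ⁅⁅P.map H.subtype, Subgroup.zpowers (g : G)⁆, Subgroup.zpowers (g : G)⁆ = ⊥ := by
    have hz : Subgroup.zpowers (g : G) = (Subgroup.zpowers g).map H.subtype := by
      rw [MonoidHom.map_zpowers]; rfl
    rw [hz, ← Subgroup.map_commutator, ← Subgroup.map_commutator, hcomm, Subgroup.map_bot]
  have key := hst (P.map H.subtype) hP' (g : G) (normMap H P ⟨g, hg⟩).2 hcomm'
  set ψ := QuotientGroup.map _ _ (normMap H P) (cent_le H P) with hψ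
  have hinj : Function.Injective ψ := by
    rw [injective_iff_map_eq_one]
    intro a ha
    induction a using QuotientGroup.induction_on with
    | H x =>
      rw [hψ, QuotientGroup.map_mk, QuotientGroup.eq_one_iff] at ha
      rw [QuotientGroup.eq_one_iff]
      exact cent_ge H P x ha
  have hnorm := pCore_normal' p (↥(Subgroup.normalizer ((P.map H.subtype : Subgroup G) : Set G)) ⧸
          (Subgroup.centralizer ((P.map H.subtype : Subgroup G) : Set G)).subgroupOf
            (Subgroup.normalizer ((P.map H.subtype : Subgroup G) : Set G)))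
  have hpg := pCore_isPGroup' p (↥(Subgroup.normalizer ((P.map H.subtype : Subgroup G) : Set G)) ⧸
          (Subgroup.centralizer ((P.map H.subtype : Subgroup G) : Set G)).subgroupOf
            (Subgroup.normalizer ((P.map H.subtype : Subgroup G) : Set G)))
  have hle := le_pCore' (p := p) ((Cfsg.pCore p _).comap ψ) (hnorm.comap ψ)
    (hpg.comap_of_injective ψ hinj)
  apply hle
  rw [Subgroup.mem_comap, hψ, QuotientGroup.map_mk]
  exact key

end Cfsg.Agent.S3836
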