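import Cfsg.Statements.S3857
import Cfsg.Agent.Lib.Helper66.GK

set_option autoImplicit false
open Cfsg

namespace Cfsg.Agent.S3857

/-- A finite solvable group whose prime graph (prime divisors of the order, two distinct primes joined when there is an element of order their product) is disconnected is a Frobenius group or a 2-Frobenius group (it has normal subgroups H < K with K a Frobenius group with kernel H and G/H a Frobenius group with kernel K/H). -/
theorem result {G : Type*} [Group G] [Finite G] (hsol : Group.IsSolvable G)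
    (hdisc : (∃ A : Set ℕ, (∃ a ∈ A, a.Prime ∧ a ∣ Nat.card G) ∧ (∃ b ∉ A, b.Prime ∧ b ∣ Nat.card G) ∧
      ∀ a ∈ A, ∀ b ∉ A, a.Prime → b.Prime → a ∣ Nat.card G → b ∣ Nat.card G → ¬ ∃ g : G, orderOf g = a * b)) :
    (∃ C : Subgroup G, Cfsg.IsFrobeniusComplement C) ∨
    (∃ (H K : Subgroup G) (_ : H.Normal), K.Normal ∧ H < K ∧
      (∃ C : Subgroup ↥K, Cfsg.IsFrobeniusComplement C ∧ Cfsg.frobeniusKernel C = (H.subgroupOf K : Set ↥K)) ∧
      (∃ C : Subgroup (G ⧸ H), Cfsg.IsFrobeniusComplement C ∧ Cfsg.frobeniusKernel C = (K.map (QuotientGroup.mk' H) : Set (G ⧸ H)))) := by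
  obtain ⟨A, ⟨a, haA, hap, had⟩, ⟨b, hbA, hbp, hbd⟩, hno⟩ := hdisc
  have := hsol
  have hnm : Cfsg.Agent.Lib.Helper66.NoMixed A G := by
    apply Cfsg.Agent.Lib.Helper66.noMixed_of_no_order A
    rintro a' ha' b' hb' hap' hbp' ⟨g, hg⟩
    have h1 : a' ∣ Nat.card G := (hg ▸ dvd_mul_right a' b').trans (orderOf_dvd_natCard g)
    have h2 : b' ∣ Nat.card G := (hg ▸ dvd_mul_left b' a').trans (orderOf_dvd_natCard g)
    exact hno a' ha' b' hb' hap' hbp' h1 h2 ⟨g, hg⟩
  -- some `p`-core is nontrivial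
  have hex : ∃ p : ℕ, p.Prime ∧ Cfsg.pCore p G ≠ ⊥ := by
    by_contra hcon
    push Not at hcon
    have hF : Cfsg.fittingSubgroup G = ⊥ := by
      rw [Cfsg.Agent.S0009.result, iSup_eq_bot]
      intro p; exact hcon p p.2
    have h := Cfsg.Agent.S0044.result (G := G)
    rw [hF] at h
    have hone : ∀ x : G, x = 1 := by
      intro x
      have hx : x ∈ Subgroup.centralizer ((⊥ : Subgroup G) : Set G) := by
        rw [Subgroup.mem_centralizer_iff]
        intro y hy
        have h1 : y = 1 := hy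
        rw [h1, one_mul, mul_one]
      exact h hx
    have hcard : Nat.card G = 1 := by
      rw [Nat.card_eq_one_iff_unique]
      exact ⟨⟨fun x y => by rw [hone x, hone y]⟩, ⟨1⟩⟩
    rw [hcard] at had
    exact hap.one_lt.ne' (Nat.dvd_one.mp had)
  obtain ⟨p, hp, hpc⟩ := hex
  by_cases hpA : p ∈ A
  · exact Cfsg.Agent.Lib.Helper66.gk_main A hnm ⟨b, hbA, hbp, hbd⟩ ⟨p, hpA, hp, hpc⟩
  · exact Cfsg.Agent.Lib.Helper66.gk_main Aᶜ hnm.compl ⟨a, fun h => h haA, hap, had⟩
      ⟨p, hpA, hp, hpc⟩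

end Cfsg.Agent.S3857
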