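import Mathlib
import Cfsg.Statements.S3869
import Cfsg.Agent.Lib.Helper63.IrredCyclic2

set_option autoImplicit false
open Cfsg

namespace Cfsg.Agent.S3869

open Cfsg.Agent.Lib.Helper63

/-- a group whose order divides `p` is `p`-closed -/
theorem isPClosed_of_card_dvd {K : Type*} [Group K] [Finite K] {p : ℕ} [Fact p.Prime]
    (h : Nat.card K ∣ p) : IsPClosed p K := by
  have hp : p.Prime := Fact.out
  have hK : IsPGroup p K := by
    rcases (Nat.dvd_prime hp).1 h with h1 | h1
    · exact IsPGroup.of_card (n := 0) (by rw [h1, pow_zero])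
    · exact IsPGroup.of_card (n := 1) (by rw [h1, pow_one])
  intro P
  have h2 : (P : Subgroup K) = ⊤ := (P.is_maximal' (hK.to_subgroup ⊤) le_top).symm
  rw [h2]; infer_instance

theorem isPClosed_of_not_dvd {K : Type*} [Group K] [Finite K] {p : ℕ} [Fact p.Prime]
    (h : ¬ p ∣ Nat.card K) : IsPClosed p K := by
  intro P
  have h2 : (P : Subgroup K) = ⊥ := by
    by_contra hne
    obtain ⟨n, hn⟩ := (IsPGroup.iff_card).1 P.isPGroup'
    have hn0 : n ≠ 0 := by
      rintro rfl
      rw [pow_zero] at hn
      exact hne (Subgroup.eq_bot_of_card_eq _ hn)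
    exact h ((dvd_pow_self p hn0).trans (hn ▸ Subgroup.card_subgroup_dvd_card _))
  rw [h2]; infer_instance

theorem eq_one_of_mem_pgroup_of_mem_coprime {G : Type*} [Group G] [Finite G] {p : ℕ}
    {R Q : Subgroup G} (hR : IsPGroup p R) (hQ : (Nat.card Q).Coprime p) {x : G} (hxR : x ∈ R)
    (hxQ : x ∈ Q) : x = 1 := by
  obtain ⟨j, hj⟩ := hR ⟨x, hxR⟩
  have hj' : x ^ p ^ j = 1 := congrArg Subtype.val hj
  have h1 : orderOf x ∣ p ^ j := orderOf_dvd_of_pow_eq_one hj'
  have h2 : orderOf x ∣ Nat.card Q := Subgroup.orderOf_dvd_natCard Q hxQ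
  have h3 : orderOf x = 1 :=
    Nat.Coprime.eq_one_of_dvd (Nat.Coprime.coprime_dvd_left h2 (Nat.Coprime.pow_right j hQ)) h1
  exact orderOf_eq_one_iff.1 h3

/-- Let p and q be distinct primes and G a finite non-abelian group with a normal elementary abelian q-subgroup A that is a minimal normal subgroup of G and has index p. Then A has order q^e with e the multiplicative order of q modulo p, and G is minimal non-p-closed: its Sylow p-subgroups are not normal, while in every proper subgroup and in every proper quotient of G the Sylow p-subgroups are normal. -/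
theorem result {G : Type*} [Group G] [Finite G] {p q : ℕ} [Fact p.Prime] (hq : q.Prime) (hpq : q ≠ p)
    (hna : ¬ IsMulCommutative G) (A : Subgroup G) [A.Normal] (hA : Cfsg.IsElementaryAbelian q A) (hidx : A.index = p)
    (hmin : ∀ B : Subgroup G, B.Normal → B ≤ A → B = ⊥ ∨ B = A) :
    Nat.card ↥A = q ^ orderOf (q : ZMod p) ∧ ¬ Cfsg.IsPClosed p G ∧ (∀ H : Subgroup G, H ≠ ⊤ → Cfsg.IsPClosed p ↥H) ∧
      ∀ (N : Subgroup G) [N.Normal], N ≠ ⊥ → Cfsg.IsPClosed p (G ⧸ N) := by
  classical
  have hp : p.Prime := Fact.out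
  haveI := Fact.mk hq
  have hAq : IsPGroup q A := fun a =>
    ⟨1, by rw [pow_one]; exact Subtype.ext (by simpa using hA.2 a a.2)⟩
  obtain ⟨d, hd⟩ := (IsPGroup.iff_card).1 hAq
  have hcardG : Nat.card G = Nat.card A * p := by
    rw [← hidx]; exact (Subgroup.card_mul_index A).symm
  have hcop : (Nat.card A).Coprime p := by
    rw [hd]; exact Nat.Coprime.pow_left d ((Nat.coprime_primes hq hp).2 hpq)
  have hAcomm : ∀ a ∈ A, ∀ b ∈ A, a * b = b * a := by
    intro a ha b hb
    have := hA.1.is_comm.comm (⟨a, ha⟩ : A) ⟨b, hb⟩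
    exact congrArg Subtype.val this
  have notin : ∀ y : G, orderOf y = p → y ∉ A := by
    intro y hy hyA
    have h1 : orderOf y ∣ Nat.card A := Subgroup.orderOf_dvd_natCard A hyA
    rw [hy] at h1
    exact (Nat.Prime.coprime_iff_not_dvd hp).1 (Nat.coprime_comm.1 hcop) h1
  have gen : ∀ y : G, orderOf y = p → A ⊔ Subgroup.zpowers y = ⊤ := by
    intro y hy
    have h1 : (A ⊔ Subgroup.zpowers y).index ∣ A.index := Subgroup.index_dvd_of_le le_sup_left
    rw [hidx] at h1
    rcases (Nat.dvd_prime hp).1 h1 with h | h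
    · exact Subgroup.index_eq_one.1 h
    · exfalso
      have h2 : Nat.card (A ⊔ Subgroup.zpowers y : Subgroup G) = Nat.card A := by
        have e1 := Subgroup.card_mul_index (A ⊔ Subgroup.zpowers y)
        have e2 := Subgroup.card_mul_index A
        rw [h] at e1; rw [hidx] at e2
        exact Nat.eq_of_mul_eq_mul_right hp.pos (e1.trans e2.symm)
      have h3 : A = A ⊔ Subgroup.zpowers y := Subgroup.eq_of_le_of_card_ge le_sup_left h2.le
      apply notin y hy
      rw [h3]
      exact (le_sup_right : Subgroup.zpowers y ≤ _) (Subgroup.mem_zpowers y)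
  have ncent : ∀ y : G, orderOf y = p → ¬ ∀ a ∈ A, y * a * y⁻¹ = a := by
    intro y hy hc
    apply hna
    have hyc : ∀ a ∈ A, y * a = a * y := by
      intro a ha
      have h1 := hc a ha
      calc y * a = y * a * y⁻¹ * y := by group
        _ = a * y := by rw [h1]
    have hA_le : A ≤ Subgroup.center G := by
      intro a ha
      rw [Subgroup.mem_center_iff]
      have h1 : (A ⊔ Subgroup.zpowers y) ≤ Subgroup.centralizer ({a} : Set G) := by
        apply sup_le
        · intro b hb
          rw [Subgroup.mem_centralizer_iff]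
          intro c hc'
          rw [Set.mem_singleton_iff] at hc'
          subst hc'
          exact hAcomm c ha b hb
        · rw [Subgroup.zpowers_le, Subgroup.mem_centralizer_iff]
          intro c hc'
          rw [Set.mem_singleton_iff] at hc'
          subst hc'
          exact (hyc c ha).symm
      intro g
      have hg : g ∈ Subgroup.centralizer ({a} : Set G) := h1 (by rw [gen y hy]; trivial)
      exact (Subgroup.mem_centralizer_iff.1 hg a rfl).symm
    have hy_mem : y ∈ Subgroup.center G := by
      rw [Subgroup.mem_center_iff]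
      have h1 : (A ⊔ Subgroup.zpowers y) ≤ Subgroup.centralizer ({y} : Set G) := by
        apply sup_le
        · intro b hb
          rw [Subgroup.mem_centralizer_iff]
          intro c hc'
          rw [Set.mem_singleton_iff] at hc'
          subst hc'
          exact hyc b hb
        · rw [Subgroup.zpowers_le, Subgroup.mem_centralizer_iff]
          intro c hc'
          rw [Set.mem_singleton_iff] at hc'
          subst hc'
          rfl
      intro g
      have hg : g ∈ Subgroup.centralizer ({y} : Set G) := h1 (by rw [gen y hy]; trivial)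
      exact (Subgroup.mem_centralizer_iff.1 hg y rfl).symm
    have hcen : ∀ g : G, g ∈ Subgroup.center G := by
      intro g
      have hg : g ∈ A ⊔ Subgroup.zpowers y := by rw [gen y hy]; trivial
      exact (sup_le hA_le (Subgroup.zpowers_le.2 hy_mem)) hg
    exact ⟨⟨fun a b => (Subgroup.mem_center_iff.1 (hcen b) a)⟩⟩
  have normB : ∀ y : G, orderOf y = p → ∀ B : Subgroup G, B ≤ A →
      (∀ b ∈ B, y * b * y⁻¹ ∈ B) → B.Normal := by
    intro y hy B hBA hB
    have hpow : ∀ k : ℕ, ∀ b ∈ B, y ^ k * b * (y ^ k)⁻¹ ∈ B := by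
      intro k
      induction k with
      | zero => intro b hb; simpa using hb
      | succ k ih =>
        intro b hb
        have h1 := hB _ (ih b hb)
        have e : y ^ (k + 1) * b * (y ^ (k + 1))⁻¹ = y * (y ^ k * b * (y ^ k)⁻¹) * y⁻¹ := by
          rw [pow_succ']; group
        rw [e]; exact h1
    constructor
    intro b hb g
    have hg : g ∈ A ⊔ Subgroup.zpowers y := by rw [gen y hy]; trivial
    obtain ⟨a, ha, z, hz, rfl⟩ := Subgroup.mem_sup_of_normal_left.1 hg
    have hz' : z ∈ Submonoid.powers y := (mem_powers_iff_mem_zpowers).2 hz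
    obtain ⟨k, rfl⟩ := hz'
    have h1 : y ^ k * b * (y ^ k)⁻¹ ∈ B := hpow k b hb
    have h2 := hAcomm a ha _ (hBA h1)
    have e : a * y ^ k * b * (a * y ^ k)⁻¹ = y ^ k * b * (y ^ k)⁻¹ := by
      calc a * y ^ k * b * (a * y ^ k)⁻¹ = a * (y ^ k * b * (y ^ k)⁻¹) * a⁻¹ := by group
        _ = (y ^ k * b * (y ^ k)⁻¹) * a * a⁻¹ := by rw [h2]
        _ = _ := by group
    rw [e]; exact h1
  obtain ⟨x, hx⟩ := exists_prime_orderOf_dvd_card' p (by rw [hcardG]; exact dvd_mul_left p _)
  have hA1 : A ≠ ⊥ := by
    intro hbot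
    have h := gen x hx
    rw [hbot, bot_sup_eq] at h
    apply hna
    refine ⟨⟨fun a b => ?_⟩⟩
    have ha : a ∈ Subgroup.zpowers x := by rw [h]; trivial
    have hb : b ∈ Subgroup.zpowers x := by rw [h]; trivial
    obtain ⟨i, rfl⟩ := ha
    obtain ⟨j, rfl⟩ := hb
    exact (Commute.zpow_zpow_self x i j).eq
  have hcardA : Nat.card A = q ^ orderOf (q : ZMod p) := by
    letI instC : CommGroup ↥A :=
      { (inferInstance : Group ↥A) with mul_comm := fun a b => hA.1.is_comm.comm a b }
    haveI : Nontrivial ↥A := (Subgroup.nontrivial_iff_ne_bot A).2 hA1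
    refine @card_eq_pow_orderOf ↥A instC _ _ p q _ _ hpq
      (fun a => Subtype.ext (by simpa using hA.2 a a.2)) (MulAut.conjNormal x) ?_ ?_ ?_
    · rw [← map_pow, ← hx, pow_orderOf_eq_one, map_one]
    · intro h1
      apply ncent x hx
      intro a ha
      have := congrArg (fun f : MulAut ↥A => (f ⟨a, ha⟩ : G)) h1
      simpa [MulAut.conjNormal_apply] using this
    · intro B' hB'
      have hBn : (B'.map A.subtype).Normal := by
        apply normB x hx _ (Subgroup.map_subtype_le B')
        rintro _ ⟨b, hb, rfl⟩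
        exact ⟨MulAut.conjNormal x b, hB' b hb, by simp [MulAut.conjNormal_apply]⟩
      rcases hmin _ hBn (Subgroup.map_subtype_le B') with h | h
      · left; exact (Subgroup.map_eq_bot_iff_of_injective _ A.subtype_injective).1 h
      · right
        rw [eq_top_iff]
        intro a _
        have h2 : (a : G) ∈ B'.map A.subtype := by rw [h]; exact a.2
        obtain ⟨b, hb, hba⟩ := h2
        have h3 : b = a := Subtype.ext hba
        rw [← h3]; exact hb
  have key : ∀ y : G, orderOf y = p → ∀ M : Subgroup G, M.Normal → IsPGroup p M → y ∈ M →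
      False := by
    intro y hy M hMn hMp hyM
    apply ncent y hy
    intro a ha
    have h1 : y * a * y⁻¹ * a⁻¹ ∈ A :=
      A.mul_mem ((inferInstance : A.Normal).conj_mem a ha y) (A.inv_mem ha)
    have h2 : y * a * y⁻¹ * a⁻¹ ∈ M := by
      have e : y * a * y⁻¹ * a⁻¹ = y * (a * y⁻¹ * a⁻¹) := by group
      rw [e]; exact M.mul_mem hyM (hMn.conj_mem _ (M.inv_mem hyM) a)
    have h3 := eq_one_of_mem_pgroup_of_mem_coprime hMp hcop h2 h1
    calc y * a * y⁻¹ = (y * a * y⁻¹ * a⁻¹) * a := by group
      _ = a := by rw [h3, one_mul]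
  have hnc : ¬ IsPClosed p G := by
    intro hcl
    obtain ⟨P, hP⟩ := (IsPGroup.of_card (n := 1) (by rw [Nat.card_zpowers, hx, pow_one]) :
      IsPGroup p (Subgroup.zpowers x)).exists_le_sylow
    exact key x hx P (hcl P) P.isPGroup' (hP (Subgroup.mem_zpowers x))
  have hsub : ∀ H : Subgroup G, H ≠ ⊤ → IsPClosed p ↥H := by
    intro H hH
    by_cases hpH : p ∣ Nat.card H
    · obtain ⟨y', hy'⟩ := exists_prime_orderOf_dvd_card' p hpH
      have hy : orderOf (y' : G) = p := by rw [Subgroup.orderOf_coe]; exact hy'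
      have hBn : (H ⊓ A).Normal := normB y' hy _ inf_le_right (fun b hb =>
        ⟨H.mul_mem (H.mul_mem y'.2 hb.1) (H.inv_mem y'.2),
          (inferInstance : A.Normal).conj_mem b hb.2 y'⟩)
      rcases hmin _ hBn inf_le_right with h | h
      · apply isPClosed_of_card_dvd
        have h1 : A.relIndex H ∣ A.index := Subgroup.relIndex_dvd_index_of_normal A H
        rw [hidx, ← Subgroup.inf_relIndex_right, inf_comm, h, Subgroup.relIndex_bot_left] at h1
        exact h1
      · exfalso
        apply hH
        rw [eq_top_iff, ← gen y' hy]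
        exact sup_le (h ▸ inf_le_left) (Subgroup.zpowers_le.2 y'.2)
    · exact isPClosed_of_not_dvd hpH
  have hquo : ∀ (N : Subgroup G) [N.Normal], N ≠ ⊥ → IsPClosed p (G ⧸ N) := by
    intro N _ hN
    have hBn : (N ⊓ A).Normal := inferInstance
    rcases hmin _ hBn inf_le_right with h | h
    · exfalso
      have h1 : A.relIndex N ∣ A.index := Subgroup.relIndex_dvd_index_of_normal A N
      rw [hidx, ← Subgroup.inf_relIndex_right, inf_comm, h, Subgroup.relIndex_bot_left] at h1
      rcases (Nat.dvd_prime hp).1 h1 with h2 | h2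
      · exact hN (Subgroup.eq_bot_of_card_eq N h2)
      · obtain ⟨y', hy'⟩ := exists_prime_orderOf_dvd_card' p (h2 ▸ dvd_rfl : p ∣ Nat.card N)
        have hy : orderOf (y' : G) = p := by rw [Subgroup.orderOf_coe]; exact hy'
        exact key y' hy N inferInstance (IsPGroup.of_card (n := 1) (by rw [h2, pow_one])) y'.2
    · apply isPClosed_of_card_dvd
      have h1 : N.index ∣ A.index := Subgroup.index_dvd_of_le (h ▸ inf_le_left)
      rw [hidx] at h1
      exact h1
  exact ⟨hcardA, hnc, hsub, hquo⟩

end Cfsg.Agent.S3869
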