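import Mathlib
import Cfsg.Statements.S3868
import Cfsg.Agent.S3869
import Cfsg.Agent.Lib.Helper48.Generation

set_option autoImplicit false
open Cfsg

namespace Cfsg.Agent.S3868

/-- a Sylow subgroup inside a `p`-closed normal subgroup is normal -/
theorem normal_of_le_normal_pclosed {G : Type*} [Group G] [Finite G] {p : ℕ} [Fact p.Prime]
    (M : Subgroup G) [M.Normal] (P : Sylow p G) (hPM : (P : Subgroup G) ≤ M)
    (hM : IsPClosed p M) : (P : Subgroup G).Normal := by
  have h1 : ((P.subtype hPM : Sylow p M) : Subgroup M).Normal := hM _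
  haveI : ((P.subtype hPM : Sylow p M) : Subgroup M).Characteristic :=
    Sylow.characteristic_of_normal _ h1
  have h2 := ConjAct.normal_of_characteristic_of_normal (H := M)
    (K := ((P.subtype hPM : Sylow p M) : Subgroup M))
  have h3 : Subgroup.map M.subtype ((P.subtype hPM : Sylow p M) : Subgroup M) = P := by
    rw [Sylow.coe_subtype, Subgroup.subgroupOf_map_subtype]
    exact inf_eq_left.2 hPM
  rw [h3] at h2; exact h2

/-- in a `p`-closed group `H`, a `p`-subgroup centralizes every `p'`-subgroup it normalizes -/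
theorem centralizes_of_pclosed {G : Type*} [Group G] [Finite G] {p : ℕ} [Fact p.Prime]
    (H Q X : Subgroup G) (hH : IsPClosed p H) (hQH : Q ≤ H) (hXH : X ≤ H) (hX : IsPGroup p X)
    (hXQ : X ≤ Subgroup.normalizer (Q : Set G)) (hQ : ¬ p ∣ Nat.card Q) :
    ∀ n ∈ Q, ∀ s ∈ X, s * n = n * s := by
  have hp : p.Prime := Fact.out
  have hX' : IsPGroup p (X.subgroupOf H) := hX.comap_subtype
  obtain ⟨S, hS⟩ := hX'.exists_le_sylow
  have hSn : (S : Subgroup H).Normal := hH S
  intro n hn s hs
  have hs' : (⟨s, hXH hs⟩ : H) ∈ (S : Subgroup H) :=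
    hS (by rw [Subgroup.mem_subgroupOf]; exact hs)
  have hc : (⟨n, hQH hn⟩ : H) * ⟨s, hXH hs⟩ * (⟨n, hQH hn⟩ : H)⁻¹ * (⟨s, hXH hs⟩ : H)⁻¹
      ∈ (S : Subgroup H) :=
    mul_mem (hSn.conj_mem _ hs' _) (inv_mem hs')
  have hc1 : n * s * n⁻¹ * s⁻¹ ∈ (S : Subgroup H).map H.subtype := ⟨_, hc, rfl⟩
  have hc2 : n * s * n⁻¹ * s⁻¹ ∈ Q := by
    have h1 : s * n⁻¹ * s⁻¹ ∈ Q := (Subgroup.mem_normalizer_iff.1 (hXQ hs) n⁻¹).1 (inv_mem hn)
    have e : n * s * n⁻¹ * s⁻¹ = n * (s * n⁻¹ * s⁻¹) := by group
    rw [e]; exact mul_mem hn h1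
  have hcop : (Nat.card Q).Coprime p :=
    Nat.coprime_comm.1 ((Nat.Prime.coprime_iff_not_dvd hp).2 hQ)
  have h1 := Cfsg.Agent.S3869.eq_one_of_mem_pgroup_of_mem_coprime
    (S.isPGroup'.map H.subtype) hcop hc1 hc2
  calc s * n = (n * s * n⁻¹ * s⁻¹)⁻¹ * (n * s) := by group
    _ = n * s := by rw [h1, inv_one, one_mul]

theorem isPGroup_of_sylow_map_eq {G : Type*} [Group G] {q : ℕ} (N : Subgroup G) (R : Sylow q N)
    (h : (R : Subgroup N).map N.subtype = N) : IsPGroup q N := by
  have h4 : (R : Subgroup N) = ⊤ := by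
    rw [eq_top_iff]; intro a _
    have h5 : (a : G) ∈ (R : Subgroup N).map N.subtype := by rw [h]; exact a.2
    obtain ⟨b, hb, hba⟩ := h5
    have : b = a := Subtype.ext hba
    rw [← this]; exact hb
  intro a
  obtain ⟨k, hk⟩ := R.isPGroup' ⟨a, by rw [h4]; trivial⟩
  refine ⟨k, ?_⟩
  have := congrArg Subtype.val hk
  simpa using this

/-- Structure of the non-simple minimal non-p-closed groups. Call a finite group p-closed when its Sylow p-subgroups are normal, and minimal non-p-closed when it is not p-closed but every proper subgroup and every proper quotient is. If such a group G is not simple, then there is a prime q ≠ p such that G has order p · q^e, where e is the multiplicative order of q modulo p, and G has a normal subgroup A of order q^e that is elementary abelian and is a minimal normal subgroup of G (so G is the semidirect product of A by a group of order p acting irreducibly). -/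
theorem result {G : Type*} [Group G] [Finite G] {p : ℕ} [Fact p.Prime]
    (hnc : ¬ Cfsg.IsPClosed p G) (hsub : ∀ H : Subgroup G, H ≠ ⊤ → Cfsg.IsPClosed p ↥H)
    (hquo : ∀ (N : Subgroup G) [N.Normal], N ≠ ⊥ → Cfsg.IsPClosed p (G ⧸ N)) (hns : ¬ IsSimpleGroup G) :
    ∃ q : ℕ, q.Prime ∧ q ≠ p ∧ Nat.card G = p * q ^ orderOf (q : ZMod p) ∧
      ∃ A : Subgroup G, A.Normal ∧ Nat.card ↥A = q ^ orderOf (q : ZMod p) ∧ Cfsg.IsElementaryAbelian q A ∧
        ∀ B : Subgroup G, B.Normal → B ≤ A → B = ⊥ ∨ B = A := by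
    classical
  have hp : p.Prime := Fact.out
  unfold IsPClosed at hnc
  push Not at hnc
  obtain ⟨P, hPn⟩ := hnc
  have hnt : Nontrivial G := by
    by_contra h
    rw [not_nontrivial_iff_subsingleton] at h
    exact hPn ⟨fun n hn g => by rwa [Subsingleton.elim (g * n * g⁻¹) n]⟩
  obtain ⟨N₀, hN₀n, hN₀0, hN₀1⟩ : ∃ N : Subgroup G, N.Normal ∧ N ≠ ⊥ ∧ N ≠ ⊤ := by
    by_contra h
    push Not at h
    apply hns
    have hh : ∀ H : Subgroup G, H.Normal → H = ⊥ ∨ H = ⊤ := by
      intro H hH
      by_cases h0 : H = ⊥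
      · exact Or.inl h0
      · exact Or.inr (h H hH h0)
    exact { toNontrivial := hnt, eq_bot_or_eq_top_of_normal := hh }
  have hex : ∃ n, ∃ N : Subgroup G, N.Normal ∧ N ≠ ⊥ ∧ N ≠ ⊤ ∧ Nat.card N = n :=
    ⟨_, N₀, hN₀n, hN₀0, hN₀1, rfl⟩
  obtain ⟨N, hNn, hN0, hN1, hNc⟩ := Nat.find_spec hex
  have hNmin : ∀ B : Subgroup G, B.Normal → B ≤ N → B = ⊥ ∨ B = N := by
    intro B hB hBN
    by_cases h0 : B = ⊥
    · exact Or.inl h0
    · right
      have h1 : B ≠ ⊤ := by
        rintro rfl
        exact hN1 (top_le_iff.1 hBN)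
      have h2 : Nat.card N ≤ Nat.card B := by
        rw [hNc]
        exact Nat.find_min' hex ⟨B, hB, h0, h1, rfl⟩
      exact Subgroup.eq_of_le_of_card_ge hBN h2
  haveI := hNn
  have key1 : ∀ M : Subgroup G, M.Normal → M ≠ ⊥ → (P : Subgroup G) ⊔ M = ⊤ := by
    intro M hM hM0
    by_contra hne
    haveI := hM
    have h1 : ((P.mapSurjective (QuotientGroup.mk'_surjective M) : Sylow p (G ⧸ M)) :
        Subgroup (G ⧸ M)).Normal := hquo M hM0 _
    have h2 : ((P : Subgroup G) ⊔ M).Normal := by
      have h3 := h1.comap (QuotientGroup.mk' M)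
      rw [Sylow.coe_mapSurjective, Subgroup.comap_map_eq, QuotientGroup.ker_mk'] at h3
      exact h3
    haveI := h2
    exact hPn (normal_of_le_normal_pclosed _ P le_sup_left (hsub _ hne))
  have hPN : (P : Subgroup G) ⊔ N = ⊤ := key1 N hNn hN0
  have hPtop : (P : Subgroup G) ≠ ⊤ := by
    intro h
    apply hPn; rw [h]; infer_instance
  have hNp : ¬ p ∣ Nat.card N := by
    obtain ⟨R⟩ : Nonempty (Sylow p N) := inferInstance
    have h1 : (R : Subgroup N).Normal := hsub N hN1 R
    haveI : (R : Subgroup N).Characteristic := Sylow.characteristic_of_normal _ h1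
    have h2 : ((R : Subgroup N).map N.subtype).Normal :=
      ConjAct.normal_of_characteristic_of_normal
    rcases hNmin _ h2 (Subgroup.map_subtype_le _) with h | h
    · have h3 : (R : Subgroup N) = ⊥ :=
        (Subgroup.map_eq_bot_iff_of_injective _ N.subtype_injective).1 h
      have h4 := R.not_dvd_index
      rw [h3, Subgroup.index_bot] at h4
      exact h4
    · exfalso
      have h3 : IsPGroup p N := isPGroup_of_sylow_map_eq N R h
      have h5 : IsPGroup p ((P : Subgroup G) ⊔ N : Subgroup G) :=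
        P.isPGroup'.to_sup_of_normal_right h3
      have h6 := P.is_maximal' h5 le_sup_left
      exact hPtop (by rw [← h6]; exact hPN)
  have hP0 : (P : Subgroup G) ≠ ⊥ := by
    intro h
    rw [h, bot_sup_eq] at hPN
    exact hN1 hPN
  obtain ⟨x', hx'⟩ : ∃ x : (P : Subgroup G), orderOf x = p := by
    apply exists_prime_orderOf_dvd_card' p
    obtain ⟨n, hn⟩ := (IsPGroup.iff_card).1 P.isPGroup'
    have hn0 : n ≠ 0 := by
      rintro rfl
      rw [pow_zero] at hn
      exact hP0 (Subgroup.eq_bot_of_card_eq _ hn)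
    rw [hn]; exact dvd_pow_self p hn0
  set x : G := (x' : G) with hxdef
  have hx : orderOf x = p := by rw [hxdef, Subgroup.orderOf_coe]; exact hx'
  have hxP : x ∈ (P : Subgroup G) := x'.2
  set X : Subgroup G := Subgroup.zpowers x with hXdef
  have hXP : X ≤ (P : Subgroup G) := Subgroup.zpowers_le.2 hxP
  have hXp : IsPGroup p X := P.isPGroup'.to_le hXP
  have hx1 : x ≠ 1 := by
    intro h
    rw [h, orderOf_one] at hx
    exact hp.one_lt.ne hx
  have hXN : ¬ ∀ n ∈ N, ∀ s ∈ X, s * n = n * s := by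
    intro hc
    let K : Subgroup G := (P : Subgroup G) ⊓ Subgroup.centralizer (N : Set G)
    have hxK : x ∈ K := by
      refine Subgroup.mem_inf.2 ⟨hxP, ?_⟩
      rw [Subgroup.mem_centralizer_iff]
      intro n hn
      exact (hc n hn x (Subgroup.mem_zpowers x)).symm
    have hCn : (Subgroup.centralizer (N : Set G)).Normal := inferInstance
    have hKn : K.Normal := by
      constructor
      intro k hk g
      have hk := Subgroup.mem_inf.1 hk
      have hg : g ∈ (P : Subgroup G) ⊔ N := by rw [hPN]; trivial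
      obtain ⟨a, ha, n, hn, rfl⟩ := Subgroup.mem_sup_of_normal_right.1 hg
      have h2 : n * k = k * n := Subgroup.mem_centralizer_iff.1 hk.2 n hn
      have e : a * n * k * (a * n)⁻¹ = a * k * a⁻¹ := by
        calc a * n * k * (a * n)⁻¹ = a * (n * k) * n⁻¹ * a⁻¹ := by group
          _ = a * k * a⁻¹ := by rw [h2]; group
      rw [e]
      exact Subgroup.mem_inf.2 ⟨mul_mem (mul_mem ha hk.1) (inv_mem ha), hCn.conj_mem k hk.2 a⟩
    have hK0 : K ≠ ⊥ := fun h => hx1 (by rw [h] at hxK; exact Subgroup.mem_bot.1 hxK)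
    have h1 := key1 K hKn hK0
    rw [sup_eq_left.2 inf_le_left] at h1
    exact hPtop h1
  have hXnorm : X ≤ Subgroup.normalizer (N : Set G) := by
    rw [Subgroup.normalizer_eq_top]; exact le_top
  have hNX : X ⊔ N = ⊤ := by
    by_contra hne
    apply hXN
    exact centralizes_of_pclosed (X ⊔ N) N X (hsub _ hne) le_sup_right le_sup_left hXp
      hXnorm hNp
  have hidx : N.index = p := by
    have h1 : N.relIndex (X ⊔ N) = N.relIndex X := Subgroup.relIndex_sup_right X N
    rw [hNX, Subgroup.relIndex_top_right] at h1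
    have h2 : N.relIndex X ∣ Nat.card X := Subgroup.index_dvd_card _
    have h3 : Nat.card X = p := by rw [hXdef, Nat.card_zpowers, hx]
    rw [← h1, h3] at h2
    rcases (Nat.dvd_prime hp).1 h2 with h | h
    · exact absurd (Subgroup.index_eq_one.1 h) hN1
    · exact h
  have hexq : ∃ q : ℕ, ∃ _ : Fact q.Prime, ∃ Q' : Sylow q N,
      X ≤ Subgroup.normalizer (((Q' : Subgroup N).map N.subtype : Subgroup G) : Set G) ∧
      ¬ ∀ n ∈ (Q' : Subgroup N).map N.subtype, ∀ s ∈ X, s * n = n * s := by
    by_contra hno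
    push Not at hno
    apply hXN
    let C : Subgroup G := N ⊓ Subgroup.centralizer (X : Set G)
    have hCN : C ≤ N := inf_le_left
    have hdvd : Nat.card N ∣ Nat.card C := by
      rw [← Nat.factorization_prime_le_iff_dvd Nat.card_pos.ne' Nat.card_pos.ne']
      intro q hq
      haveI := Fact.mk hq
      obtain ⟨Q', hQ'⟩ := Cfsg.Agent.Lib.Helper48.exists_invariant_sylow N X hXp hNp hXnorm q
      have h1 := hno q ⟨hq⟩ Q' hQ'
      have h2 : (Q' : Subgroup N).map N.subtype ≤ C := by
        intro n hn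
        refine Subgroup.mem_inf.2 ⟨Subgroup.map_subtype_le _ hn, ?_⟩
        rw [Subgroup.mem_centralizer_iff]
        intro s hs
        exact h1 n hn s hs
      have h3 : Nat.card ((Q' : Subgroup N).map N.subtype) = q ^ (Nat.card N).factorization q := by
        rw [Subgroup.card_map_of_injective N.subtype_injective]
        exact Q'.card_eq_multiplicity
      have h4 : q ^ (Nat.card N).factorization q ∣ Nat.card C := by
        rw [← h3]; exact Subgroup.card_dvd_of_le h2
      exact (hq.pow_dvd_iff_le_factorization Nat.card_pos.ne').1 h4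
    have hCeq : C = N := Subgroup.eq_of_le_of_card_ge hCN (Nat.le_of_dvd Nat.card_pos hdvd)
    intro n hn s hs
    have : n ∈ C := by rw [hCeq]; exact hn
    exact Subgroup.mem_centralizer_iff.1 (Subgroup.mem_inf.1 this).2 s hs
  obtain ⟨q, hqF, Q', hQ'norm, hQ'nc⟩ := hexq
  have hq : q.Prime := hqF.out
  set Q : Subgroup G := (Q' : Subgroup N).map N.subtype with hQdef
  have hQN : Q ≤ N := Subgroup.map_subtype_le _
  have hQp' : ¬ p ∣ Nat.card Q := fun h => hNp (h.trans (Subgroup.card_dvd_of_le hQN))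
  have hQX : Q ⊔ X = ⊤ := by
    by_contra hne
    exact hQ'nc (centralizes_of_pclosed (Q ⊔ X) Q X (hsub _ hne) le_sup_left le_sup_right hXp
      hQ'norm hQp')
  have hQn : Q.Normal := by
    rw [← Subgroup.normalizer_eq_top_iff, eq_top_iff, ← hQX]
    exact sup_le Subgroup.le_normalizer hQ'norm
  have hQ0 : Q ≠ ⊥ := by
    intro h
    apply hQ'nc
    intro n hn s hs
    rw [h, Subgroup.mem_bot] at hn
    rw [hn, mul_one, one_mul]
  have hQeq : Q = N := (hNmin Q hQn hQN).resolve_left hQ0
  have hNq : IsPGroup q N := isPGroup_of_sylow_map_eq N Q' hQeq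
  obtain ⟨d, hd⟩ := (IsPGroup.iff_card).1 hNq
  have hd0 : d ≠ 0 := by
    rintro rfl
    rw [pow_zero] at hd
    exact hN0 (Subgroup.eq_bot_of_card_eq _ hd)
  have hqp : q ≠ p := by
    intro h
    exact hNp (by rw [hd, ← h]; exact dvd_pow_self q hd0)
  haveI : Nontrivial N := (Subgroup.nontrivial_iff_ne_bot N).2 hN0
  have hNab : ∀ a ∈ N, ∀ b ∈ N, a * b = b * a := by
    have h1 : ((Subgroup.center N).map N.subtype).Normal :=
      ConjAct.normal_of_characteristic_of_normal
    have h2 : (Subgroup.center N).map N.subtype ≠ ⊥ := by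
      intro h
      have h3 : Subgroup.center N = ⊥ :=
        (Subgroup.map_eq_bot_iff_of_injective _ N.subtype_injective).1 h
      haveI := hNq.center_nontrivial
      exact (Subgroup.nontrivial_iff_ne_bot _).1 inferInstance h3
    have h3 := (hNmin _ h1 (Subgroup.map_subtype_le _)).resolve_left h2
    intro a ha b hb
    have h5 : a ∈ (Subgroup.center N).map N.subtype := by rw [h3]; exact ha
    obtain ⟨a', ha', rfl⟩ := h5
    have := Subgroup.mem_center_iff.1 ha' ⟨b, hb⟩
    exact (congrArg Subtype.val this).symm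
  have hNexp : ∀ a ∈ N, a ^ q = 1 := by
    let B : Subgroup G :=
      { carrier := {a | a ∈ N ∧ a ^ q = 1}
        mul_mem' := by
          rintro a b ⟨ha, ha'⟩ ⟨hb, hb'⟩
          refine ⟨mul_mem ha hb, ?_⟩
          have hc : Commute a b := hNab a ha b hb
          rw [hc.mul_pow, ha', hb', one_mul]
        one_mem' := ⟨one_mem _, one_pow _⟩
        inv_mem' := by
          rintro a ⟨ha, ha'⟩
          exact ⟨inv_mem ha, by rw [inv_pow, ha', inv_one]⟩ }
    have hBn : B.Normal := by
      constructor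
      rintro a ⟨ha, ha'⟩ g
      exact ⟨hNn.conj_mem a ha g, by rw [conj_pow, ha', mul_one, mul_inv_cancel]⟩
    have hBN : B ≤ N := fun a ha => ha.1
    have hB0 : B ≠ ⊥ := by
      obtain ⟨y, hy⟩ := exists_prime_orderOf_dvd_card' (G := N) q
        (by rw [hd]; exact dvd_pow_self q hd0)
      intro h
      have h1 : (y : G) ∈ B :=
        ⟨y.2, by rw [← Subgroup.coe_pow, ← hy, pow_orderOf_eq_one]; rfl⟩
      rw [h, Subgroup.mem_bot] at h1
      have h2 : y = 1 := Subtype.ext h1
      rw [h2, orderOf_one] at hy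
      exact hq.one_lt.ne hy
    have h3 := (hNmin B hBn hBN).resolve_left hB0
    intro a ha
    have : a ∈ B := by rw [h3]; exact ha
    exact this.2
  have hna : ¬ IsMulCommutative G := by
    intro hc
    apply hPn
    constructor
    intro n hn g
    have : g * n = n * g := hc.is_comm.comm g n
    rw [this, mul_assoc, mul_inv_cancel, mul_one]; exact hn
  have hEA : IsElementaryAbelian q N :=
    ⟨⟨⟨fun a b => Subtype.ext (hNab a a.2 b b.2)⟩⟩, hNexp⟩
  have hres := Cfsg.Agent.S3869.result hq hqp hna N hEA hidx hNmin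
  refine ⟨q, hq, hqp, ?_, N, hNn, hres.1, hEA, hNmin⟩
  rw [← Subgroup.card_mul_index N, hidx, hres.1, mul_comm]

end Cfsg.Agent.S3868
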