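import Mathlib
import Cfsg.Statements.S3870
import Cfsg.Agent.Lib.Helper64.BaerSuzuki

set_option autoImplicit false
open Cfsg

namespace Cfsg.Agent.S3870

/-- the normalizers in two Sylows of a nontrivial non-normal `p`-subgroup lie in one Sylow -/
theorem common_sylow {G : Type*} [Group G] [Finite G] {p : ℕ} [Fact p.Prime]
    (hsub : ∀ H : Subgroup G, H ≠ ⊤ → Cfsg.IsPClosed p ↥H)
    (D : Subgroup G) (hD : Subgroup.normalizer (D : Set G) ≠ ⊤)
    (A : Subgroup G) (hA : IsPGroup p A) (hAN : A ≤ Subgroup.normalizer (D : Set G))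
    (B : Subgroup G) (hB : IsPGroup p B) (hBN : B ≤ Subgroup.normalizer (D : Set G)) :
    ∃ P₁ : Sylow p G, A ≤ P₁ ∧ B ≤ P₁ := by
  set N := Subgroup.normalizer (D : Set G) with hN
  have hcl := hsub N hD
  have hA' : IsPGroup p (A.subgroupOf N) :=
    hA.comap_of_injective N.subtype N.subtype_injective
  have hB' : IsPGroup p (B.subgroupOf N) :=
    hB.comap_of_injective N.subtype N.subtype_injective
  obtain ⟨SA, hSA⟩ := hA'.exists_le_sylow
  obtain ⟨SB, hSB⟩ := hB'.exists_le_sylow
  have huniq := Sylow.unique_of_normal SA (hcl SA)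
  have hSS : SB = SA := Subsingleton.elim _ _
  rw [hSS] at hSB
  have hS : IsPGroup p ((SA : Subgroup N).map N.subtype) := SA.isPGroup'.map _
  obtain ⟨P₁, hP₁⟩ := hS.exists_le_sylow
  refine ⟨P₁, ?_, ?_⟩
  · intro a ha
    apply hP₁
    exact ⟨⟨a, hAN ha⟩, hSA (show (⟨a, hAN ha⟩ : N) ∈ A.subgroupOf N from ha), rfl⟩
  · intro b hb
    apply hP₁
    exact ⟨⟨b, hBN hb⟩, hSB (show (⟨b, hBN hb⟩ : N) ∈ B.subgroupOf N from hb), rfl⟩

/-- the trivial intersection property -/
theorem ti {G : Type*} [Group G] [Finite G] [IsSimpleGroup G] {p : ℕ} [Fact p.Prime]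
    (hsub : ∀ H : Subgroup G, H ≠ ⊤ → Cfsg.IsPClosed p ↥H) :
    ∀ k : ℕ, ∀ P Q : Sylow p G, P ≠ Q → (P : Subgroup G) ⊓ (Q : Subgroup G) ≠ ⊥ →
      Nat.card G - Nat.card ↥((P : Subgroup G) ⊓ (Q : Subgroup G)) = k → False := by
  intro k
  induction k using Nat.strong_induction_on with
  | _ k ih =>
    intro P Q hPQ hne hk
    set D := (P : Subgroup G) ⊓ (Q : Subgroup G) with hDdef
    have hDP : D < (P : Subgroup G) := by
      refine lt_of_le_of_ne inf_le_left ?_
      intro h
      apply hPQ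
      have hle : (P : Subgroup G) ≤ Q := by
        rw [← h]; exact inf_le_right
      exact Sylow.ext (P.3 Q.2 hle).symm ▸ rfl
    have hDQ : D < (Q : Subgroup G) := by
      refine lt_of_le_of_ne inf_le_right ?_
      intro h
      apply hPQ
      have hle : (Q : Subgroup G) ≤ P := by
        rw [← h]; exact inf_le_left
      exact (Sylow.ext (Q.3 P.2 hle).symm ▸ rfl : Q = P).symm
    have hDN : Subgroup.normalizer (D : Set G) ≠ ⊤ := by
      intro htop
      have hnorm : D.Normal := Subgroup.normalizer_eq_top_iff.mp htop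
      rcases hnorm.eq_bot_or_eq_top with h | h
      · exact hne h
      · rw [h] at hDP
        exact not_top_lt hDP
    have h1 := Cfsg.Agent.Lib.Helper64.lt_inf_normalizer P.2 hDP
    have h2 := Cfsg.Agent.Lib.Helper64.lt_inf_normalizer Q.2 hDQ
    obtain ⟨P₁, hA, hB⟩ := common_sylow hsub D hDN
      ((P : Subgroup G) ⊓ Subgroup.normalizer (D : Set G)) (P.2.to_le inf_le_left) inf_le_right
      ((Q : Subgroup G) ⊓ Subgroup.normalizer (D : Set G)) (Q.2.to_le inf_le_left) inf_le_right
    have key : ∀ P' : Sylow p G, D < (P' : Subgroup G) ⊓ Subgroup.normalizer (D : Set G) →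
        (P' : Subgroup G) ⊓ Subgroup.normalizer (D : Set G) ≤ P₁ → P' = P₁ := by
      intro P' hlt hle
      by_contra hP'
      have hlt' : D < (P' : Subgroup G) ⊓ (P₁ : Subgroup G) :=
        lt_of_lt_of_le hlt (le_inf inf_le_left hle)
      have hcard : Nat.card D < Nat.card ↥((P' : Subgroup G) ⊓ (P₁ : Subgroup G)) :=
        (Set.toFinite _).card_lt_card (SetLike.coe_ssubset_coe.mpr hlt')
      have hle2 : Nat.card ↥((P' : Subgroup G) ⊓ (P₁ : Subgroup G)) ≤ Nat.card G :=
        Subgroup.card_le_card_group _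
      refine ih (Nat.card G - Nat.card ↥((P' : Subgroup G) ⊓ (P₁ : Subgroup G))) ?_ P' P₁ hP' ?_ rfl
      · rw [← hk]
        omega
      · intro hbot
        rw [hbot] at hlt'
        exact not_lt_bot hlt'
    exact hPQ ((key P h1 hA).trans (key Q h2 hB).symm)

/-- Let G be a finite simple group whose Sylow p-subgroups are not normal but such that every proper subgroup of G has a normal Sylow p-subgroup. Then any two distinct Sylow p-subgroups of G intersect trivially, and for every Sylow p-subgroup P the normalizer of every non-identity subgroup of P lies in the normalizer of P. -/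
theorem result {G : Type*} [Group G] [Finite G] [IsSimpleGroup G] {p : ℕ} [Fact p.Prime]
    (hnc : ¬ Cfsg.IsPClosed p G) (hsub : ∀ H : Subgroup G, H ≠ ⊤ → Cfsg.IsPClosed p ↥H) :
    (∀ P Q : Sylow p G, P ≠ Q → (P : Subgroup G) ⊓ (Q : Subgroup G) = ⊥) ∧
      ∀ (P : Sylow p G) (R : Subgroup G), R ≤ P → R ≠ ⊥ →
        Subgroup.normalizer (R : Set G) ≤ Subgroup.normalizer ((P : Subgroup G) : Set G) := by
  have hti : ∀ P Q : Sylow p G, P ≠ Q → (P : Subgroup G) ⊓ (Q : Subgroup G) = ⊥ := by
    intro P Q hPQ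
    by_contra hne
    exact ti hsub _ P Q hPQ hne rfl
  refine ⟨hti, ?_⟩
  intro P R hRP hR g hg
  refine Sylow.smul_eq_iff_mem_normalizer.mp ?_
  by_contra hgP
  have hbot := hti P (g • P) (fun h => hgP h.symm)
  apply hR
  rw [eq_bot_iff, ← hbot]
  refine le_inf hRP ?_
  intro r hr
  rw [Sylow.coe_subgroup_smul, Subgroup.mem_pointwise_smul_iff_inv_smul_mem]
  have hg' : g⁻¹ ∈ Subgroup.normalizer (R : Set G) := inv_mem hg
  rw [Subgroup.mem_normalizer_iff] at hg'
  have := (hg' r).mp hr
  apply hRP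
  simpa using this

end Cfsg.Agent.S3870
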