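import Mathlib
import Cfsg.Statements.S4225
import Cfsg.Agent.S4210

set_option autoImplicit false
open Cfsg

namespace Cfsg.Agent.S4225

/-- In a regular `p`-group, for every `k` the elements whose `p^k`-th power is `1` form a characteristic subgroup. -/
theorem result {G : Type*} [Group G] [Finite G] {p : ℕ} [Fact p.Prime] (hG : Cfsg.IsRegularPGroup p G) (k : ℕ) : ∃ H : Subgroup G, H.Characteristic ∧ (H : Set G) = {x : G | x ^ p ^ k = 1} := by
  refine ⟨{ carrier := {x : G | x ^ p ^ k = 1}
            mul_mem' := ?_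
            one_mem' := one_pow _
            inv_mem' := ?_ }, ?_, rfl⟩
  · intro x y hx hy
    rw [Set.mem_ofPred_eq] at hx hy ⊢
    have h1 : x ^ p ^ k = y⁻¹ ^ p ^ k := by rw [inv_pow, hx, hy, inv_one]
    have h2 := (Cfsg.Agent.S4210.result hG x y⁻¹ k).mp h1
    simpa using h2
  · intro x hx
    rw [Set.mem_ofPred_eq] at hx ⊢
    rw [inv_pow, hx, inv_one]
  · rw [Subgroup.characteristic_iff_comap_le]
    intro ϕ x hx
    change (ϕ x) ^ p ^ k = 1 at hx
    change x ^ p ^ k = 1
    rw [← map_pow] at hx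
    exact (map_eq_one_iff ϕ ϕ.injective).mp hx

end Cfsg.Agent.S4225
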