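import Mathlib
import Cfsg.Statements.S3872
import Cfsg.Agent.S4209
import Cfsg.Agent.S4225
import Cfsg.Agent.S3778
import Cfsg.Agent.Lib.Helper2.FrattiniP

set_option autoImplicit false
open Cfsg

namespace Cfsg.Agent.S3872

open scoped commutatorElement

theorem mem_of_pow_mem' {A : Type*} [Group A] {p : ℕ} (hp : p.Prime) (T : Subgroup A) (s : A)
    (k : ℤ) (hk : ¬ (p : ℤ) ∣ k) (h1 : s ^ p ∈ T) (h2 : s ^ k ∈ T) : s ∈ T := by
  have hcop : IsCoprime (p : ℤ) k :=
    ((Nat.prime_iff_prime_int.1 hp).coprime_iff_not_dvd).2 hk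
  obtain ⟨u, v, huv⟩ := hcop
  have h : s = (s ^ (p : ℤ)) ^ u * (s ^ k) ^ v := by
    rw [← zpow_mul, ← zpow_mul, ← zpow_add, mul_comm (p : ℤ) u, mul_comm k v, huv, zpow_one]
  rw [h]
  exact mul_mem (zpow_mem (by rw [zpow_natCast]; exact h1) u) (zpow_mem h2 v)

theorem cyclic_of_unique {A : Type*} [Group A] [Finite A] {p : ℕ} [Fact p.Prime]
    (hcomm : ∀ a b : A, a * b = b * a)
    (hA : IsPGroup p A) (w : A) (hw : w ≠ 1) (h : ∀ N : Subgroup A, N ≠ ⊥ → w ∈ N) :
    IsCyclic A := by
  have hp : p.Prime := Fact.out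
  obtain ⟨a, ha⟩ := Finite.exists_max (fun a : A => orderOf a)
  obtain ⟨e, he⟩ : ∃ e, orderOf a = p ^ e := by
    obtain ⟨k, hk⟩ := hA a
    obtain ⟨e, -, he⟩ := (Nat.dvd_prime_pow hp).1 (orderOf_dvd_of_pow_eq_one hk)
    exact ⟨e, he⟩
  have hall : ∀ b : A, b ^ p ^ e = 1 := by
    intro b
    obtain ⟨k, hk⟩ := hA b
    obtain ⟨e', -, he'⟩ := (Nat.dvd_prime_pow hp).1 (orderOf_dvd_of_pow_eq_one hk)
    have h1 : orderOf b ≤ orderOf a := ha b
    rw [he, he'] at h1
    have h2 : e' ≤ e := (Nat.pow_le_pow_iff_right hp.one_lt).1 h1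
    apply orderOf_dvd_iff_pow_eq_one.1
    rw [he']; exact pow_dvd_pow p h2
  have he1 : e ≠ 0 := by
    rintro rfl
    apply hw
    have h1 := hall w
    rwa [pow_zero, pow_one] at h1
  have ha1 : a ≠ 1 := by
    rintro rfl
    rw [orderOf_one] at he
    have h1 : 1 < p ^ e := Nat.one_lt_pow he1 hp.one_lt
    omega
  have hwa : w ∈ Subgroup.zpowers a := h _ (by rw [Ne, Subgroup.zpowers_eq_bot]; exact ha1)
  have hu : a ^ p ^ (e - 1) ≠ 1 := by
    apply pow_ne_one_of_lt_orderOf (pow_ne_zero _ hp.ne_zero)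
    rw [he]
    exact Nat.pow_lt_pow_right hp.one_lt (by omega)
  have key : ∀ j, ∀ b : A, b ^ p ^ j = 1 → b ∈ Subgroup.zpowers a := by
    intro j
    induction j with
    | zero => intro b hb; rw [pow_zero, pow_one] at hb; rw [hb]; exact one_mem _
    | succ j ih =>
      intro b hb
      have h1 : (b ^ p) ^ p ^ j = 1 := by rw [← pow_mul, ← pow_succ']; exact hb
      obtain ⟨k, hk⟩ := Subgroup.mem_zpowers_iff.1 (ih _ h1)
      by_cases hpk : (p : ℤ) ∣ k
      · obtain ⟨k', rfl⟩ := hpk
        have hc : (b * (a ^ k')⁻¹) ^ p = 1 := by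
          rw [(show Commute b (a ^ k')⁻¹ from hcomm _ _).mul_pow, inv_pow, ← hk,
            ← zpow_natCast (a ^ k') p, ← zpow_mul, mul_comm k' (p : ℤ), mul_inv_cancel]
        by_cases hc1 : b * (a ^ k')⁻¹ = 1
        · have h2 : b = a ^ k' := by rwa [mul_inv_eq_one] at hc1
          rw [h2]; exact zpow_mem (Subgroup.mem_zpowers a) _
        · have hwc : w ∈ Subgroup.zpowers (b * (a ^ k')⁻¹) :=
            h _ (by rw [Ne, Subgroup.zpowers_eq_bot]; exact hc1)
          obtain ⟨j', hj'⟩ := Subgroup.mem_zpowers_iff.1 hwc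
          have hpj : ¬ (p : ℤ) ∣ j' := by
            rintro ⟨j'', rfl⟩
            apply hw
            rw [← hj', zpow_mul, zpow_natCast, hc, one_zpow]
          have hcm := mem_of_pow_mem' hp (Subgroup.zpowers a) _ j' hpj
            (by rw [hc]; exact one_mem _) (by rw [hj']; exact hwa)
          have h2 : b = (b * (a ^ k')⁻¹) * a ^ k' := by rw [inv_mul_cancel_right]
          rw [h2]
          exact mul_mem hcm (zpow_mem (Subgroup.mem_zpowers a) _)
      · exfalso
        apply hu
        have h2 : (a ^ p ^ (e - 1)) ^ k = 1 := by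
          rw [← zpow_natCast a (p ^ (e - 1)), ← zpow_mul, mul_comm, zpow_mul, zpow_natCast, hk,
            ← pow_mul, ← pow_succ', show e - 1 + 1 = e by omega]
          exact hall b
        have h4 : (a ^ p ^ (e - 1)) ^ p = 1 := by
          rw [← pow_mul, ← pow_succ, show e - 1 + 1 = e by omega, ← he]
          exact pow_orderOf_eq_one a
        have h5 := mem_of_pow_mem' hp ⊥ _ k hpk (by rw [h4]; exact one_mem _)
          (by rw [h2]; exact one_mem _)
        exact Subgroup.mem_bot.1 h5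
  exact isCyclic_iff_exists_zpowers_eq_top.2 ⟨a, eq_top_iff.2 fun b _ => key e b (hall b)⟩

/-- Say that a finite group is p-exponent closed when its elements of order dividing p form a subgroup. Let G be a finite p-group that is not p-exponent closed, but all of whose proper subgroups and proper quotients are. Then G is generated by two elements, has nilpotency class at least p, has exponent p², has cyclic center, and has order at least p^(p+1). -/
theorem result {G : Type*} [Group G] [Finite G] {p : ℕ} [Fact p.Prime] (hG : IsPGroup p G)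
    (hnc : ¬ (∃ H : Subgroup G, (H : Set G) = {g : G | g ^ p = 1})) (hsub : ∀ K : Subgroup G, K ≠ ⊤ → (∃ H : Subgroup ↥K, (H : Set ↥K) = {g : ↥K | g ^ p = 1}))
    (hquo : ∀ (N : Subgroup G) [N.Normal], N ≠ ⊥ → (∃ H : Subgroup (G ⧸ N), (H : Set (G ⧸ N)) = {g : (G ⧸ N) | g ^ p = 1})) :
    (∃ x y : G, Subgroup.closure ({x, y} : Set G) = ⊤) ∧ (⊤ : Subgroup G).lowerCentralSeries (p - 1) ≠ ⊥ ∧
      Monoid.exponent G = p ^ 2 ∧ IsCyclic ↥(Subgroup.center G) ∧ p ^ (p + 1) ≤ Nat.card G := by
  classical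
  have hp : p.Prime := Fact.out
  obtain ⟨x, y, hx, hy, hxy⟩ : ∃ x y : G, x ^ p = 1 ∧ y ^ p = 1 ∧ (x * y) ^ p ≠ 1 := by
    by_contra hcon
    push Not at hcon
    have hmul : ∀ {a b : G}, a ∈ {g : G | g ^ p = 1} → b ∈ {g : G | g ^ p = 1} →
        a * b ∈ {g : G | g ^ p = 1} := fun {a b} ha hb => hcon a b ha hb
    have hinv : ∀ {a : G}, a ∈ {g : G | g ^ p = 1} → a⁻¹ ∈ {g : G | g ^ p = 1} := by
      intro a ha
      show a⁻¹ ^ p = 1
      rw [inv_pow, show a ^ p = 1 from ha, inv_one]
    exact hnc ⟨{ carrier := {g : G | g ^ p = 1}, mul_mem' := hmul, one_mem' := one_pow p,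
                 inv_mem' := hinv }, rfl⟩
  have hcomm_contra : ¬ (x * y = y * x) := by
    intro h
    apply hxy
    rw [(show Commute x y from h).mul_pow, hx, hy, one_mul]
  have hnotcyc : ∀ z : G, Subgroup.zpowers z ⊔ frattini G ≠ ⊤ := by
    intro z h
    have h1 := frattini_nongenerating h
    have hxz : x ∈ Subgroup.zpowers z := by rw [h1]; exact Subgroup.mem_top _
    have hyz : y ∈ Subgroup.zpowers z := by rw [h1]; exact Subgroup.mem_top _
    obtain ⟨i, rfl⟩ := Subgroup.mem_zpowers_iff.1 hxz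
    obtain ⟨j, rfl⟩ := Subgroup.mem_zpowers_iff.1 hyz
    exact hcomm_contra (by rw [← zpow_add, ← zpow_add, add_comm])
  have hgen : Subgroup.closure ({x, y} : Set G) = ⊤ := by
    by_contra hne
    obtain ⟨H, hH⟩ := hsub _ hne
    have hxK : x ∈ Subgroup.closure ({x, y} : Set G) := Subgroup.subset_closure (by simp)
    have hyK : y ∈ Subgroup.closure ({x, y} : Set G) := Subgroup.subset_closure (by simp)
    have h1 : (⟨x, hxK⟩ : ↥(Subgroup.closure ({x, y} : Set G))) ∈ (H : Set _) := by
      rw [hH]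
      show (⟨x, hxK⟩ : ↥(Subgroup.closure ({x, y} : Set G))) ^ p = 1
      apply Subtype.ext
      simpa using hx
    have h2 : (⟨y, hyK⟩ : ↥(Subgroup.closure ({x, y} : Set G))) ∈ (H : Set _) := by
      rw [hH]
      show (⟨y, hyK⟩ : ↥(Subgroup.closure ({x, y} : Set G))) ^ p = 1
      apply Subtype.ext
      simpa using hy
    have h3 : (⟨x, hxK⟩ * ⟨y, hyK⟩ : ↥(Subgroup.closure ({x, y} : Set G))) ∈ (H : Set _) :=
      mul_mem h1 h2
    rw [hH] at h3
    have h4 : (⟨x, hxK⟩ * ⟨y, hyK⟩ : ↥(Subgroup.closure ({x, y} : Set G))) ^ p = 1 := h3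
    apply hxy
    have h5 := congrArg Subtype.val h4
    simpa using h5
  have hGF : commutator G ≤ frattini G := Cfsg.Agent.Lib.Helper2.commutator_le_frattini hG
  have hclass : (⊤ : Subgroup G).lowerCentralSeries (p - 1) ≠ ⊥ := by
    intro hcl
    have hreg := Cfsg.Agent.S4209.result hG hcl
    obtain ⟨H, -, hH⟩ := Cfsg.Agent.S4225.result hreg 1
    exact hnc ⟨H, by rw [hH, pow_one]⟩
  set M₁ : Subgroup G := Subgroup.zpowers x ⊔ commutator G with hM₁
  have hM₁top : M₁ ≠ ⊤ := by
    intro h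
    apply hnotcyc x
    exact eq_top_iff.2 (by rw [← h]; exact sup_le_sup_left hGF _)
  have hxM : x ∈ M₁ := Subgroup.mem_sup_left (Subgroup.mem_zpowers x)
  have hM₁conj : ∀ g ∈ M₁, ∀ h : G, h * g * h⁻¹ ∈ M₁ := by
    intro g hg h
    have h1 : h * g * h⁻¹ = ⁅h, g⁆ * g := by rw [commutatorElement_def]; group
    rw [h1]
    exact mul_mem (Subgroup.mem_sup_right
      (Subgroup.commutator_mem_commutator (Subgroup.mem_top h) (Subgroup.mem_top g))) hg
  obtain ⟨H₁, hH₁⟩ := hsub M₁ hM₁top
  have hΩ : ∀ g : G, g ∈ H₁.map M₁.subtype ↔ g ∈ M₁ ∧ g ^ p = 1 := by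
    intro g
    constructor
    · rintro ⟨⟨g', hg'⟩, hmem, rfl⟩
      refine ⟨hg', ?_⟩
      have h1 : (⟨g', hg'⟩ : ↥M₁) ∈ (H₁ : Set ↥M₁) := hmem
      rw [hH₁] at h1
      have h2 : (⟨g', hg'⟩ : ↥M₁) ^ p = 1 := h1
      have h3 := congrArg Subtype.val h2
      simpa using h3
    · rintro ⟨hg, hgp⟩
      refine ⟨⟨g, hg⟩, ?_, rfl⟩
      have h1 : (⟨g, hg⟩ : ↥M₁) ∈ (H₁ : Set ↥M₁) := by
        rw [hH₁]
        show (⟨g, hg⟩ : ↥M₁) ^ p = 1
        apply Subtype.ext
        simpa using hgp
      exact h1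
  set Ω : Subgroup G := H₁.map M₁.subtype with hΩdef
  have hΩn : Ω.Normal := ⟨fun g hg h => by
    rw [hΩ] at hg ⊢
    exact ⟨hM₁conj g hg.1 h, by rw [conj_pow, hg.2, mul_one, mul_inv_cancel]⟩⟩
  haveI := hΩn
  have hxΩ : x ∈ Ω := (hΩ x).2 ⟨hxM, hx⟩
  have hcomΩ : commutator G ≤ Ω := by
    have hq : ∀ a b : G ⧸ Ω, a * b = b * a := by
      have hxy' : (QuotientGroup.mk' Ω x) * (QuotientGroup.mk' Ω y) =
          (QuotientGroup.mk' Ω y) * (QuotientGroup.mk' Ω x) := by
        rw [← map_mul, ← map_mul, ← mul_inv_eq_one, ← map_inv, ← map_mul,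
          QuotientGroup.mk'_apply, QuotientGroup.eq_one_iff]
        have h1 : x * y * (y * x)⁻¹ = x * (y * x⁻¹ * y⁻¹) := by group
        rw [h1]
        exact mul_mem hxΩ (hΩn.conj_mem _ (inv_mem hxΩ) y)
      have hcl : Subgroup.closure
          ({QuotientGroup.mk' Ω x, QuotientGroup.mk' Ω y} : Set (G ⧸ Ω)) = ⊤ := by
        rw [← Set.image_pair, ← MonoidHom.map_closure, hgen]
        exact Subgroup.map_top_of_surjective _ (QuotientGroup.mk'_surjective Ω)
      have hpair : ∀ u ∈ ({QuotientGroup.mk' Ω x, QuotientGroup.mk' Ω y} : Set (G ⧸ Ω)),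
          ∀ v ∈ ({QuotientGroup.mk' Ω x, QuotientGroup.mk' Ω y} : Set (G ⧸ Ω)),
          u * v = v * u := by
        intro u hu v hv
        rcases hu with rfl | rfl <;> rcases hv with rfl | rfl
        · rfl
        · exact hxy'
        · exact hxy'.symm
        · rfl
      intro a b
      have ha : a ∈ Subgroup.closure
          ({QuotientGroup.mk' Ω x, QuotientGroup.mk' Ω y} : Set (G ⧸ Ω)) := by
        rw [hcl]; exact Subgroup.mem_top _
      have hb : b ∈ Subgroup.closure
          ({QuotientGroup.mk' Ω x, QuotientGroup.mk' Ω y} : Set (G ⧸ Ω)) := by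
        rw [hcl]; exact Subgroup.mem_top _
      have h1 := (Subgroup.isMulCommutative_closure hpair).is_comm.comm ⟨a, ha⟩ ⟨b, hb⟩
      exact congrArg Subtype.val h1
    rw [commutator_def, Subgroup.commutator_le]
    intro g₁ _ g₂ _
    rw [← QuotientGroup.eq_one_iff (N := Ω), commutatorElement_def]
    have h1 := hq (QuotientGroup.mk g₁) (QuotientGroup.mk g₂)
    simp only [QuotientGroup.mk_mul, QuotientGroup.mk_inv]
    rw [h1]; simp
  have hcomp : ∀ g ∈ commutator G, g ^ p = 1 := fun g hg => ((hΩ g).1 (hcomΩ hg)).2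
  have hpow_mem : ∀ g : G, g ^ p ∈ commutator G := by
    intro g
    have h1 : Subgroup.closure ({x, y} : Set G) ≤
        ((powMonoidHom p : Abelianization G →* Abelianization G).comp Abelianization.of).ker := by
      rw [Subgroup.closure_le]
      intro z hz
      rw [SetLike.mem_coe, MonoidHom.mem_ker]
      show (Abelianization.of z) ^ p = 1
      rw [← map_pow]
      rcases hz with rfl | rfl
      · rw [hx, map_one]
      · rw [hy, map_one]
    have h2 : g ∈ ((powMonoidHom p : Abelianization G →* Abelianization G).comp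
        Abelianization.of).ker := h1 (by rw [hgen]; exact Subgroup.mem_top _)
    rw [MonoidHom.mem_ker] at h2
    have h3 : Abelianization.of (g ^ p) = 1 := by rw [map_pow]; exact h2
    rw [← Abelianization.ker_of]; exact h3
  have hexp2 : ∀ g : G, g ^ p ^ 2 = 1 := by
    intro g; rw [sq, pow_mul]; exact hcomp _ (hpow_mem g)
  have hexp : Monoid.exponent G = p ^ 2 := by
    have h1 : Monoid.exponent G ∣ p ^ 2 := Monoid.exponent_dvd_of_forall_pow_eq_one hexp2
    obtain ⟨k, hk, hk'⟩ := (Nat.dvd_prime_pow hp).1 h1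
    rcases Nat.lt_or_ge k 2 with h | h
    · exfalso
      have h2 : Monoid.exponent G ∣ p := by
        rw [hk']
        exact (pow_dvd_pow p (by omega : k ≤ 1)).trans (by rw [pow_one])
      apply hxy
      obtain ⟨m, hm⟩ := h2
      rw [hm, pow_mul, Monoid.pow_exponent_eq_one, one_pow]
    · rw [hk', show k = 2 by omega]
  have hwN : ∀ N : Subgroup G, N.Normal → N ≠ ⊥ → (x * y) ^ p ∈ N := by
    intro N hN hN1
    haveI := hN
    obtain ⟨H, hH⟩ := hquo N hN1
    have h1 : (QuotientGroup.mk x : G ⧸ N) ∈ (H : Set (G ⧸ N)) := by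
      rw [hH]; show (QuotientGroup.mk x : G ⧸ N) ^ p = 1
      rw [← QuotientGroup.mk_pow, hx]; rfl
    have h2 : (QuotientGroup.mk y : G ⧸ N) ∈ (H : Set (G ⧸ N)) := by
      rw [hH]; show (QuotientGroup.mk y : G ⧸ N) ^ p = 1
      rw [← QuotientGroup.mk_pow, hy]; rfl
    have h3 : (QuotientGroup.mk x * QuotientGroup.mk y : G ⧸ N) ∈ (H : Set (G ⧸ N)) :=
      mul_mem h1 h2
    rw [hH] at h3
    have h4 : (QuotientGroup.mk x * QuotientGroup.mk y : G ⧸ N) ^ p = 1 := h3
    rw [← QuotientGroup.mk_mul, ← QuotientGroup.mk_pow, QuotientGroup.eq_one_iff] at h4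
    exact h4
  have hcyc : IsCyclic ↥(Subgroup.center G) := by
    have hcne : Subgroup.center G ≠ ⊥ := by
      haveI : Nontrivial G := ⟨⟨x * y, 1, fun h => hxy (by rw [h, one_pow])⟩⟩
      haveI := IsPGroup.center_nontrivial hG
      exact (Subgroup.nontrivial_iff_ne_bot _).1 inferInstance
    have hwZ : (x * y) ^ p ∈ Subgroup.center G := hwN _ inferInstance hcne
    have hcc : ∀ a b : ↥(Subgroup.center G), a * b = b * a := by
      intro a b
      apply Subtype.ext
      exact Subgroup.mem_center_iff.1 b.2 a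
    apply cyclic_of_unique (p := p) hcc (hG.to_subgroup _) ⟨(x * y) ^ p, hwZ⟩
      (by intro h; exact hxy (congrArg Subtype.val h))
    intro N hN
    have h1 : (N.map (Subgroup.center G).subtype).Normal := by
      constructor
      rintro _ ⟨n, hn, rfl⟩ g
      have h2 : g * ((Subgroup.center G).subtype n) * g⁻¹ = (Subgroup.center G).subtype n := by
        have h3 := Subgroup.mem_center_iff.1 n.2 g
        show g * (n : G) * g⁻¹ = (n : G)
        rw [h3, mul_inv_cancel_right]
      rw [h2]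
      exact ⟨n, hn, rfl⟩
    have h2 : N.map (Subgroup.center G).subtype ≠ ⊥ := by
      intro h
      apply hN
      rwa [Subgroup.map_eq_bot_iff_of_injective _ (Subgroup.subtype_injective _)] at h
    obtain ⟨n, hn, hn'⟩ := hwN _ h1 h2
    have h3 : n = ⟨(x * y) ^ p, hwZ⟩ := Subtype.ext hn'
    rw [← h3]; exact hn
  have hcard : p ^ (p + 1) ≤ Nat.card G := by
    haveI : Group.IsNilpotent G := hG.isNilpotent
    obtain ⟨c, hc⟩ := Subgroup.nilpotent_iff_lowerCentralSeries.1
      (inferInstance : Group.IsNilpotent G)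
    have hstrict : ∀ i, i ≤ p - 1 → (⊤ : Subgroup G).lowerCentralSeries (i + 1) ≠
        (⊤ : Subgroup G).lowerCentralSeries i := by
      intro i hi heq
      have h1 : ∀ k, (⊤ : Subgroup G).lowerCentralSeries (i + k) =
          (⊤ : Subgroup G).lowerCentralSeries i := by
        intro k
        induction k with
        | zero => rfl
        | succ k ih =>
          rw [← add_assoc, Subgroup.lowerCentralSeries_succ, ih,
            ← Subgroup.lowerCentralSeries_succ]
          exact heq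
      have h3 : (⊤ : Subgroup G).lowerCentralSeries (i + c) ≤
          (⊤ : Subgroup G).lowerCentralSeries c :=
        (⊤ : Subgroup G).lowerCentralSeries_antitone (Nat.le_add_left c i)
      rw [h1 c, hc] at h3
      have h4 : (⊤ : Subgroup G).lowerCentralSeries (p - 1) ≤
          (⊤ : Subgroup G).lowerCentralSeries i :=
        (⊤ : Subgroup G).lowerCentralSeries_antitone hi
      exact hclass (le_bot_iff.1 (h4.trans h3))
    have hchain : ∀ d, d ≤ p - 2 →
        p ^ (d + 1) ≤ Nat.card ((⊤ : Subgroup G).lowerCentralSeries (p - 1 - d)) := by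
      intro d
      induction d with
      | zero =>
        intro _
        have h1 := Cfsg.Agent.S3778.card_mul_le hG ⊥
          ((⊤ : Subgroup G).lowerCentralSeries (p - 1)) bot_le (Ne.symm hclass)
        simpa using h1
      | succ d ih =>
        intro hd
        have h1 := ih (by omega)
        have h2 := Cfsg.Agent.S3778.card_mul_le hG
          ((⊤ : Subgroup G).lowerCentralSeries (p - 1 - (d + 1) + 1))
          ((⊤ : Subgroup G).lowerCentralSeries (p - 1 - (d + 1)))
          ((⊤ : Subgroup G).lowerCentralSeries_antitone (Nat.le_succ _)) (hstrict _ (by omega))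
        rw [show p - 1 - (d + 1) + 1 = p - 1 - d by omega] at h2
        calc p ^ (d + 1 + 1) = p ^ (d + 1) * p := pow_succ _ _
          _ ≤ Nat.card ((⊤ : Subgroup G).lowerCentralSeries (p - 1 - d)) * p :=
            Nat.mul_le_mul_right _ h1
          _ ≤ _ := h2
    have h1 := hchain (p - 2) le_rfl
    have hp2 := hp.two_le
    rw [show p - 1 - (p - 2) = 1 by omega, show p - 2 + 1 = p - 1 by omega,
      Subgroup.top_lowerCentralSeries_one] at h1
    have hxc : x ∉ commutator G := by
      intro hxc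
      apply hnotcyc y
      apply eq_top_iff.2
      rw [← hgen, Subgroup.closure_le]
      intro z hz
      rcases hz with rfl | rfl
      · exact Subgroup.mem_sup_right (hGF hxc)
      · exact Subgroup.mem_sup_left (Subgroup.mem_zpowers _)
    have h2 := Cfsg.Agent.S3778.card_mul_le hG (commutator G) M₁ le_sup_right
      (fun h => hxc (h ▸ hxM))
    have h3 := Cfsg.Agent.S3778.card_mul_le hG M₁ ⊤ le_top hM₁top
    rw [Subgroup.card_top] at h3
    calc p ^ (p + 1) = p ^ (p - 1) * p * p := by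
          rw [← pow_succ, ← pow_succ]; congr 1; omega
      _ ≤ Nat.card (commutator G) * p * p :=
          Nat.mul_le_mul_right _ (Nat.mul_le_mul_right _ h1)
      _ ≤ Nat.card M₁ * p := Nat.mul_le_mul_right _ h2
      _ ≤ _ := h3
  exact ⟨⟨x, y, hgen⟩, hclass, hexp, hcyc, hcard⟩

end Cfsg.Agent.S3872
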