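import Mathlib
import Cfsg.Statements.S3873
import Cfsg.Agent.Lib.Helper64.IrredCyclic
import Cfsg.Agent.Lib.Helper64.SylowMax

set_option autoImplicit false
open Cfsg

namespace Cfsg.Agent.S3873

section
variable {G : Type*} [Group G] [Finite G] {p : ℕ} [Fact p.Prime]

/-- the elements of order dividing `p` in `K` are closed under multiplication -/
def OmC (p : ℕ) (K : Subgroup G) : Prop :=
  ∀ g ∈ K, ∀ h ∈ K, g ^ p = 1 → h ^ p = 1 → (g * h) ^ p = 1

omit [Finite G] [Fact p.Prime] in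
theorem omC_of_sub
    (hsub : ∀ K : Subgroup G, K ≠ ⊤ → (∃ H : Subgroup ↥K, (H : Set ↥K) = {g : ↥K | g ^ p = 1}))
    (K : Subgroup G) (hK : K ≠ ⊤) : OmC p K := by
  obtain ⟨H, hH⟩ := hsub K hK
  intro g hg h hh hgp hhp
  have h1 : (⟨g, hg⟩ : ↥K) ∈ H := by
    have : (⟨g, hg⟩ : ↥K) ∈ (H : Set ↥K) := by
      rw [hH]
      exact Subtype.ext (by simpa using hgp)
    exact this
  have h2 : (⟨h, hh⟩ : ↥K) ∈ H := by
    have : (⟨h, hh⟩ : ↥K) ∈ (H : Set ↥K) := by
      rw [hH]
      exact Subtype.ext (by simpa using hhp)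
    exact this
  have h3 : (⟨g, hg⟩ * ⟨h, hh⟩ : ↥K) ∈ (H : Set ↥K) := H.mul_mem h1 h2
  rw [hH] at h3
  have h4 : ((⟨g, hg⟩ * ⟨h, hh⟩ : ↥K)) ^ p = 1 := h3
  have h5 := congrArg Subtype.val h4
  simpa using h5

omit [Finite G] [Fact p.Prime] in
theorem exists_bad_pair (hnc : ¬ (∃ H : Subgroup G, (H : Set G) = {g : G | g ^ p = 1})) :
    ∃ x y : G, x ^ p = 1 ∧ y ^ p = 1 ∧ (x * y) ^ p ≠ 1 := by
  by_contra hcon
  push Not at hcon
  apply hnc
  exact ⟨{ carrier := {g : G | g ^ p = 1}
           mul_mem' := fun {a b} ha hb => hcon a b ha hb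
           one_mem' := one_pow p
           inv_mem' := fun {a} ha => by
             show (a⁻¹) ^ p = 1
             rw [inv_pow, show a ^ p = 1 from ha, inv_one] }, rfl⟩

omit [Finite G] [Fact p.Prime] in
theorem closure_pair_eq_top
    (hsub : ∀ K : Subgroup G, K ≠ ⊤ → (∃ H : Subgroup ↥K, (H : Set ↥K) = {g : ↥K | g ^ p = 1}))
    {x y : G} (hx : x ^ p = 1) (hy : y ^ p = 1) (hxy : (x * y) ^ p ≠ 1) :
    Subgroup.closure ({x, y} : Set G) = ⊤ := by
  by_contra hK
  apply hxy
  exact omC_of_sub hsub _ hK x (Subgroup.subset_closure (by simp)) y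
    (Subgroup.subset_closure (by simp)) hx hy

omit [Finite G] [Fact p.Prime] in
theorem pow_mem_of_quo
    (hquo : ∀ (N : Subgroup G) [N.Normal], N ≠ ⊥ →
      (∃ H : Subgroup (G ⧸ N), (H : Set (G ⧸ N)) = {g : (G ⧸ N) | g ^ p = 1}))
    {x y : G} (hx : x ^ p = 1) (hy : y ^ p = 1) (hgen : Subgroup.closure ({x, y} : Set G) = ⊤)
    (N : Subgroup G) [N.Normal] (hN : N ≠ ⊥) (g : G) : g ^ p ∈ N := by
  obtain ⟨H, hH⟩ := hquo N hN
  have hxH : (QuotientGroup.mk x : G ⧸ N) ∈ H := by
    have : (QuotientGroup.mk x : G ⧸ N) ∈ (H : Set (G ⧸ N)) := by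
      rw [hH]
      show (QuotientGroup.mk x : G ⧸ N) ^ p = 1
      rw [← QuotientGroup.mk_pow, hx]
      rfl
    exact this
  have hyH : (QuotientGroup.mk y : G ⧸ N) ∈ H := by
    have : (QuotientGroup.mk y : G ⧸ N) ∈ (H : Set (G ⧸ N)) := by
      rw [hH]
      show (QuotientGroup.mk y : G ⧸ N) ^ p = 1
      rw [← QuotientGroup.mk_pow, hy]
      rfl
    exact this
  have htop : H = ⊤ := by
    rw [eq_top_iff]
    have h1 : (Subgroup.closure ({x, y} : Set G)).map (QuotientGroup.mk' N) ≤ H := by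
      rw [MonoidHom.map_closure, Subgroup.closure_le]
      rintro _ ⟨z, hz, rfl⟩
      rcases hz with hz | hz
      · rw [hz]; exact hxH
      · rw [Set.mem_singleton_iff] at hz
        rw [hz]; exact hyH
    rw [hgen] at h1
    intro z _
    obtain ⟨w, rfl⟩ := QuotientGroup.mk_surjective z
    exact h1 ⟨w, trivial, rfl⟩
  have h2 : (QuotientGroup.mk g : G ⧸ N) ∈ (H : Set (G ⧸ N)) := by
    rw [htop]; trivial
  rw [hH] at h2
  have h3 : (QuotientGroup.mk g : G ⧸ N) ^ p = 1 := h2
  rw [← QuotientGroup.mk_pow] at h3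
  exact (QuotientGroup.eq_one_iff _).mp h3


omit [Finite G] in
theorem card_eq_inf_mul (M A : Subgroup G) :
    Nat.card A = Nat.card ↥(M ⊓ A) * M.relIndex A := by
  have h1 := Subgroup.relIndex_mul_relIndex (⊥ : Subgroup G) (M ⊓ A) A bot_le inf_le_right
  rw [Subgroup.relIndex_bot_left, Subgroup.relIndex_bot_left, Subgroup.inf_relIndex_right] at h1
  exact h1.symm

omit [Finite G] in
theorem card_sup_eq_mul (M A : Subgroup G) [M.Normal] :
    Nat.card ↥(M ⊔ A) = Nat.card M * M.relIndex A := by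
  have h1 := Subgroup.relIndex_mul_relIndex (⊥ : Subgroup G) M (M ⊔ A) bot_le le_sup_left
  rw [Subgroup.relIndex_bot_left, Subgroup.relIndex_bot_left, Subgroup.relIndex_sup_left] at h1
  exact h1.symm

theorem index_dvd_card_of_sup_eq_top (N A : Subgroup G) [A.Normal] (h : N ⊔ A = ⊤) :
    N.index ∣ Nat.card A := by
  have h1 := card_sup_eq_mul A N
  have h2 := card_eq_inf_mul A N
  have h3 := Subgroup.card_mul_index N
  rw [sup_comm, h, Subgroup.card_top] at h1
  have hpos : 0 < A.relIndex N := by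
    rcases Nat.eq_zero_or_pos (A.relIndex N) with h0 | h0
    · rw [h0, mul_zero] at h1
      exact absurd h1 Nat.card_pos.ne'
    · exact h0
  refine ⟨Nat.card ↥(A ⊓ N), ?_⟩
  have h4 : A.relIndex N * Nat.card A = A.relIndex N * (N.index * Nat.card ↥(A ⊓ N)) := by
    calc A.relIndex N * Nat.card A = Nat.card G := by rw [h1, mul_comm]
      _ = Nat.card N * N.index := h3.symm
      _ = A.relIndex N * (N.index * Nat.card ↥(A ⊓ N)) := by rw [h2]; ring
  exact Nat.eq_of_mul_eq_mul_left hpos h4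

omit [Finite G] in
theorem le_normalizer_of_conj_mem {S C : Subgroup G}
    (h : ∀ g ∈ S, ∀ c ∈ C, g * c * g⁻¹ ∈ C) : S ≤ Subgroup.normalizer (C : Set G) := by
  intro g hg
  rw [Subgroup.mem_normalizer_iff]
  intro c
  refine ⟨h g hg c, fun hc => ?_⟩
  have := h g⁻¹ (S.inv_mem hg) _ hc
  simpa [mul_assoc] using this

theorem exists_minimal_normal (hns : ¬ IsSimpleGroup G) (hnt : Nontrivial G) :
    ∃ A : Subgroup G, A.Normal ∧ A ≠ ⊥ ∧ A ≠ ⊤ ∧
      ∀ B : Subgroup G, B.Normal → B ≤ A → B = ⊥ ∨ B = A := by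
  have h1 : ∃ N₀ : Subgroup G, N₀.Normal ∧ N₀ ≠ ⊥ ∧ N₀ ≠ ⊤ := by
    by_contra hcon
    push Not at hcon
    apply hns
    exact ⟨fun H hH => by
      by_cases h : H = ⊥
      · exact Or.inl h
      · exact Or.inr (hcon H hH h)⟩
  obtain ⟨N₀, hN₀, hN₀b, hN₀t⟩ := h1
  obtain ⟨A, ⟨hA1, hA2, hA3⟩, hAmin⟩ := wellFounded_lt.has_min
    {B : Subgroup G | B.Normal ∧ B ≠ ⊥ ∧ B ≤ N₀} ⟨N₀, hN₀, hN₀b, le_refl _⟩
  refine ⟨A, hA1, hA2, ?_, ?_⟩
  · intro h
    rw [h] at hA3
    exact hN₀t (top_le_iff.mp hA3)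
  · intro B hB hBA
    by_cases hb : B = ⊥
    · exact Or.inl hb
    · right
      by_contra hne
      exact hAmin B ⟨hB, hb, hBA.trans hA3⟩ (lt_of_le_of_ne hBA hne)

omit [Finite G] [Fact p.Prime] in
theorem trick {K A : Subgroup G} (hK : OmC p K) (hA7 : ∀ a ∈ A, a ^ p = 1 → a = 1) {u c : G}
    (hu : u ∈ K) (hup : u ^ p = 1) (hc : c ∈ K) (hA : u⁻¹ * c * u * c⁻¹ ∈ A) :
    c * u * c⁻¹ = u := by
  have h1 := hK u⁻¹ (K.inv_mem hu) (c * u * c⁻¹) (K.mul_mem (K.mul_mem hc hu) (K.inv_mem hc))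
    (by rw [inv_pow, hup, inv_one]) (by rw [conj_pow, hup]; group)
  have h2 : u⁻¹ * (c * u * c⁻¹) = u⁻¹ * c * u * c⁻¹ := by group
  rw [h2] at h1
  have h3 := hA7 _ hA h1
  calc c * u * c⁻¹ = u * (u⁻¹ * c * u * c⁻¹) := by group
    _ = u := by rw [h3, mul_one]

theorem core (hOm : ∀ K : Subgroup G, K ≠ ⊤ → OmC p K)
    (hbad : ∃ x y : G, x ^ p = 1 ∧ y ^ p = 1 ∧ (x * y) ^ p ≠ 1)
    (hpow : ∀ (N : Subgroup G) [N.Normal], N ≠ ⊥ → ∀ g : G, g ^ p ∈ N)
    (hns : ¬ IsSimpleGroup G) (hnp : ¬ IsPGroup p G) :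
    ∃ q : ℕ, q.Prime ∧ q ≠ p ∧ Nat.card G = p * q ^ orderOf (q : ZMod p) ∧
      ∃ A : Subgroup G, A.Normal ∧ Nat.card ↥A = q ^ orderOf (q : ZMod p) ∧
        Cfsg.IsElementaryAbelian q A ∧
        ∀ B : Subgroup G, B.Normal → B ≤ A → B = ⊥ ∨ B = A := by
  have hp : p.Prime := Fact.out
  have hnt : Nontrivial G := by
    by_contra h
    rw [not_nontrivial_iff_subsingleton] at h
    exact hnp (fun g => ⟨0, Subsingleton.elim _ _⟩)
  obtain ⟨A, hAn, hAb, hAt, hAmin⟩ := exists_minimal_normal hns hnt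
  have hA7 : ∀ a ∈ A, a ^ p = 1 → a = 1 := by
    let B : Subgroup G :=
      { carrier := {a | a ∈ A ∧ a ^ p = 1}
        mul_mem' := fun {a b} ha hb =>
          ⟨A.mul_mem ha.1 hb.1, hOm A hAt a ha.1 b hb.1 ha.2 hb.2⟩
        one_mem' := ⟨A.one_mem, one_pow p⟩
        inv_mem' := fun {a} ha => ⟨A.inv_mem ha.1, by rw [inv_pow, ha.2, inv_one]⟩ }
    have hBn : B.Normal :=
      ⟨fun a ha g => ⟨hAn.conj_mem a ha.1 g, by rw [conj_pow, ha.2]; group⟩⟩
    rcases hAmin B hBn (fun a ha => ha.1) with h | h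
    · intro a ha hap
      have h1 : a ∈ B := ⟨ha, hap⟩
      rw [h, Subgroup.mem_bot] at h1
      exact h1
    · exfalso
      apply hnp
      intro g
      refine ⟨2, ?_⟩
      have h1 : g ^ p ∈ A := hpow A hAb g
      have h2 : g ^ p ∈ B := by rw [h]; exact h1
      rw [pow_two, pow_mul]
      exact h2.2
  have hA7' : ∀ n : ℕ, ∀ a ∈ A, a ^ p ^ n = 1 → a = 1 := by
    intro n
    induction n with
    | zero => intro a _ h; simpa using h
    | succ n ih =>
      intro a ha h
      apply ih a ha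
      apply hA7 _ (A.pow_mem ha _)
      rw [← pow_mul, ← pow_succ]
      exact h
  have hP1 : ∀ P : Sylow p G, ∀ u ∈ P, u ^ p = 1 := by
    intro P u hu
    obtain ⟨n, hn⟩ := (P.2 ⟨u, hu⟩)
    have hn' : u ^ p ^ n = 1 := by simpa using congrArg Subtype.val hn
    apply hA7' n _ (hpow A hAb u)
    rw [← pow_mul, mul_comm, pow_mul, hn', one_pow]
  have hP2 : ∀ P : Sylow p G, ∀ a ∈ A, a ∈ P → a = 1 := by
    intro P a ha haP
    exact hA7 a ha (hP1 P a haP)
  have hP3 : ∀ P : Sylow p G, A ⊔ (P : Subgroup G) = ⊤ := by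
    intro P
    have hquo : IsPGroup p (G ⧸ A) := by
      intro z
      obtain ⟨g, rfl⟩ := QuotientGroup.mk_surjective z
      refine ⟨1, ?_⟩
      rw [pow_one, ← QuotientGroup.mk_pow]
      exact (QuotientGroup.eq_one_iff _).mpr (hpow A hAb g)
    have hsurj := QuotientGroup.mk'_surjective A
    have h1 : ((P.mapSurjective hsurj : Sylow p (G ⧸ A)) : Subgroup (G ⧸ A)) = ⊤ :=
      ((P.mapSurjective hsurj).3 (hquo.to_subgroup ⊤) le_top).symm
    rw [eq_top_iff]
    intro g _
    have h2 : (QuotientGroup.mk' A g) ∈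
        ((P.mapSurjective hsurj : Sylow p (G ⧸ A)) : Subgroup (G ⧸ A)) := by
      rw [h1]; trivial
    rw [Sylow.coe_mapSurjective] at h2
    obtain ⟨u, hu, hug⟩ := h2
    have h3 : u⁻¹ * g ∈ A := QuotientGroup.eq.mp hug
    have h4 : g = (u * (u⁻¹ * g) * u⁻¹) * u := by group
    rw [h4]
    exact Subgroup.mul_mem _ (Subgroup.mem_sup_left (hAn.conj_mem _ h3 u))
      (Subgroup.mem_sup_right hu)
  have hA10 : ∀ (P : Sylow p G) (C : Subgroup G), C ≤ A → C ≠ A →
      (P : Subgroup G) ≤ Subgroup.normalizer (C : Set G) →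
      ∀ c ∈ C, ∀ u ∈ P, c * u * c⁻¹ = u := by
    intro P C hCA hCne hPC c hc u hu
    have hK : C ⊔ (P : Subgroup G) ≠ ⊤ := by
      intro htop
      have hCn : C.Normal := by
        rw [← Subgroup.normalizer_eq_top_iff, eq_top_iff, ← htop]
        exact sup_le Subgroup.le_normalizer hPC
      rcases hAmin C hCn hCA with h | h
      · rw [h, bot_sup_eq] at htop
        apply hAb
        rw [eq_bot_iff]
        intro a ha
        rw [Subgroup.mem_bot]
        exact hP2 P a ha (by
          show a ∈ (P : Subgroup G)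
          rw [htop]; trivial)
      · exact hCne h
    apply trick (hOm _ hK) hA7 (Subgroup.mem_sup_right hu) (hP1 P u hu) (Subgroup.mem_sup_left hc)
    have h1 : u⁻¹ * c * u * c⁻¹ = (u⁻¹ * c * u⁻¹⁻¹) * c⁻¹ := by group
    rw [h1]
    exact A.mul_mem (hAn.conj_mem c (hCA hc) u⁻¹) (A.inv_mem (hCA hc))
  have hA11 : ∀ P : Sylow p G, ¬ (∀ a ∈ A, ∀ u ∈ P, a * u = u * a) := by
    intro P hcen
    obtain ⟨x, y, hx, hy, hxy⟩ := hbad
    have key : ∀ g : G, g ^ p = 1 → g ∈ P := by
      intro g hg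
      have hg' : g ∈ A ⊔ (P : Subgroup G) := by rw [hP3 P]; trivial
      obtain ⟨a, ha, u, hu, rfl⟩ := Subgroup.mem_sup_of_normal_left.mp hg'
      have hcomm : Commute a u := hcen a ha u hu
      rw [hcomm.mul_pow, hP1 P u hu, mul_one] at hg
      rw [hA7 a ha hg, one_mul]
      exact hu
    exact hxy (hP1 P _ (Subgroup.mul_mem _ (key x hx) (key y hy)))
  have hpA : ¬ p ∣ Nat.card A := by
    intro hdvd
    obtain ⟨a, ha⟩ := exists_prime_orderOf_dvd_card' (G := ↥A) p hdvd
    have h1 : (a : G) ^ p = 1 := by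
      have h0 := pow_orderOf_eq_one a
      rw [ha] at h0
      simpa using congrArg Subtype.val h0
    have h2 := hA7 a a.2 h1
    have h3 : a = 1 := Subtype.ext h2
    rw [h3, orderOf_one] at ha
    exact hp.one_lt.ne ha
  obtain ⟨P⟩ : Nonempty (Sylow p G) := inferInstance
  have hA12 : ∃ q : ℕ, q.Prime ∧ IsPGroup q ↥A := by
    by_contra hcon
    push Not at hcon
    apply hA11 P
    set C := A ⊓ Subgroup.centralizer ((P : Subgroup G) : Set G) with hC
    have hrel : C.relIndex A = 1 := by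
      by_contra hne
      obtain ⟨r, hr, hrdvd⟩ := Nat.exists_prime_and_dvd hne
      have hrf : Fact r.Prime := ⟨hr⟩
      obtain ⟨R₀⟩ : Nonempty (Sylow r ↥A) := inferInstance
      set R₁ := (R₀ : Subgroup ↥A).map A.subtype with hR₁
      have hfr : Subgroup.normalizer (R₁ : Set G) ⊔ A = ⊤ := Sylow.normalizer_sup_eq_top R₀
      have hidx : ¬ p ∣ (Subgroup.normalizer (R₁ : Set G)).index :=
        fun h => hpA (h.trans (index_dvd_card_of_sup_eq_top _ A hfr))
      obtain ⟨g, hg⟩ := Cfsg.Agent.Lib.Helper64.exists_le_map_conj_of_not_dvd_index P.2 hidx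
      rw [Subgroup.map_equiv_normalizer_eq] at hg
      set R := R₁.map (MulAut.conj g).toMonoidHom with hR
      have hRA : R ≤ A := by
        rintro _ ⟨z, hz, rfl⟩
        obtain ⟨z', _, rfl⟩ := hz
        exact hAn.conj_mem _ z'.2 g
      have hRr : IsPGroup r R := (R₀.2.map _).map _
      have hRne : R ≠ A := by
        intro h
        exact hcon r hr (h ▸ hRr)
      have hcenR := hA10 P R hRA hRne hg
      have hRC : R ≤ C := by
        intro c hc
        refine Subgroup.mem_inf.mpr ⟨hRA hc, ?_⟩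
        rw [Subgroup.mem_centralizer_iff]
        intro u hu
        have h1 := hcenR c hc u hu
        calc u * c = (c * u * c⁻¹) * c := by rw [h1]
          _ = c * u := by group
      have h1 : C.relIndex A ∣ R.relIndex A := Subgroup.relIndex_dvd_of_le_left A hRC
      have h2 : ¬ r ∣ R.relIndex A := by
        have hAmap : A.map (MulAut.conj g).toMonoidHom = A := by
          have h3 : g ∈ Subgroup.normalizer (A : Set G) := by
            rw [Subgroup.normalizer_eq_top_iff.mpr hAn]; trivial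
          exact Subgroup.mem_normalizer_iff_map_conj_eq.mp h3
        have h4 : R.relIndex A = R₁.relIndex A := by
          conv_lhs => rw [← hAmap]
          exact Subgroup.relIndex_map_map_of_injective R₁ A (MulAut.conj g).injective
        rw [h4]
        have h5 : R₁.relIndex A = (R₀ : Subgroup ↥A).index := by
          show (R₁.subgroupOf A).index = _
          have h6 : R₁.subgroupOf A = (R₀ : Subgroup ↥A) :=
            Subgroup.comap_map_eq_self_of_injective A.subtype_injective _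
          rw [h6]
        rw [h5]
        exact R₀.not_dvd_index
      exact h2 (hrdvd.trans h1)
    intro a ha u hu
    have h3 : A ≤ C := Subgroup.relIndex_eq_one.mp hrel
    have h4 := (Subgroup.mem_inf.mp (h3 ha)).2
    rw [Subgroup.mem_centralizer_iff] at h4
    exact (h4 u hu).symm
  obtain ⟨q, hq, hqA⟩ := hA12
  have hqf : Fact q.Prime := ⟨hq⟩
  have hqp : q ≠ p := by
    intro h
    apply hAb
    rw [eq_bot_iff]
    intro a ha
    rw [Subgroup.mem_bot]
    obtain ⟨n, hn⟩ := hqA ⟨a, ha⟩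
    rw [h] at hn
    exact hA7' n a ha (by simpa using congrArg Subtype.val hn)
  have hAnt : Nontrivial ↥A := (Subgroup.nontrivial_iff_ne_bot A).mpr hAb
  have hAc : ∀ a ∈ A, ∀ b ∈ A, a * b = b * a := by
    let Z : Subgroup G := A ⊓ Subgroup.centralizer (A : Set G)
    have hZn : Z.Normal := by
      refine ⟨fun z hz g => Subgroup.mem_inf.mpr ⟨hAn.conj_mem z hz.1 g, ?_⟩⟩
      rw [Subgroup.mem_centralizer_iff]
      intro b hb
      have h1 := (Subgroup.mem_centralizer_iff.mp hz.2) (g⁻¹ * b * g)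
        (by simpa using hAn.conj_mem b hb g⁻¹)
      calc b * (g * z * g⁻¹) = g * ((g⁻¹ * b * g) * z) * g⁻¹ := by group
        _ = g * (z * (g⁻¹ * b * g)) * g⁻¹ := by rw [h1]
        _ = g * z * g⁻¹ * b := by group
    have hZb : Z ≠ ⊥ := by
      have hcn := hqA.center_nontrivial
      obtain ⟨z, hz⟩ := exists_ne (1 : Subgroup.center ↥A)
      intro h
      have hzZ : ((z : ↥A) : G) ∈ Z := by
        refine Subgroup.mem_inf.mpr ⟨(z : ↥A).2, ?_⟩
        rw [Subgroup.mem_centralizer_iff]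
        intro b hb
        have h1 := Subgroup.mem_center_iff.mp z.2 ⟨b, hb⟩
        exact congrArg Subtype.val h1
      rw [h, Subgroup.mem_bot] at hzZ
      apply hz
      apply Subtype.ext
      apply Subtype.ext
      exact hzZ
    rcases hAmin Z hZn inf_le_left with h | h
    · exact absurd h hZb
    · intro a ha b hb
      have h1 : a ∈ Z := by rw [h]; exact ha
      exact ((Subgroup.mem_centralizer_iff.mp h1.2) b hb).symm
  have hAq : ∀ a ∈ A, a ^ q = 1 := by
    let B : Subgroup G :=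
      { carrier := {a | a ∈ A ∧ a ^ q = 1}
        mul_mem' := fun {a b} ha hb => ⟨A.mul_mem ha.1 hb.1, by
          rw [(show Commute a b from hAc a ha.1 b hb.1).mul_pow, ha.2, hb.2, one_mul]⟩
        one_mem' := ⟨A.one_mem, one_pow q⟩
        inv_mem' := fun {a} ha => ⟨A.inv_mem ha.1, by rw [inv_pow, ha.2, inv_one]⟩ }
    have hBn : B.Normal :=
      ⟨fun a ha g => ⟨hAn.conj_mem a ha.1 g, by rw [conj_pow, ha.2]; group⟩⟩
    have hBb : B ≠ ⊥ := by
      have hdvd : q ∣ Nat.card ↥A := by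
        obtain ⟨n, hn⟩ := IsPGroup.iff_card.mp hqA
        rcases Nat.eq_zero_or_pos n with h0 | h0
        · exfalso
          rw [h0, pow_zero] at hn
          have hsub : Subsingleton ↥A := (Nat.card_eq_one_iff_unique.mp hn).1
          exact not_subsingleton ↥A hsub
        · rw [hn]
          exact dvd_pow_self q h0.ne'
      obtain ⟨a, ha⟩ := exists_prime_orderOf_dvd_card' (G := ↥A) q hdvd
      intro h
      have haB : (a : G) ∈ B := ⟨a.2, by
        have h0 := pow_orderOf_eq_one a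
        rw [ha] at h0
        simpa using congrArg Subtype.val h0⟩
      rw [h, Subgroup.mem_bot] at haB
      have h1 : a = 1 := Subtype.ext haB
      rw [h1, orderOf_one] at ha
      exact hq.one_lt.ne ha
    rcases hAmin B hBn (fun a ha => ha.1) with h | h
    · exact absurd h hBb
    · intro a ha
      have h1 : a ∈ B := by rw [h]; exact ha
      exact h1.2
  have hCP : ∀ u ∈ P, (∀ a ∈ A, a * u = u * a) → u = 1 := by
    intro u hu hcen
    by_contra hu1
    let C : Subgroup G := (P : Subgroup G) ⊓ Subgroup.centralizer (A : Set G)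
    have hCn : C.Normal := by
      rw [← Subgroup.normalizer_eq_top_iff, eq_top_iff, ← hP3 P]
      refine sup_le ?_ ?_
      · apply le_normalizer_of_conj_mem
        intro a ha c hc
        have h1 := (Subgroup.mem_centralizer_iff.mp hc.2) a ha
        have h2 : a * c * a⁻¹ = c := by rw [h1]; group
        rw [h2]
        exact hc
      · apply le_normalizer_of_conj_mem
        intro v hv c hc
        refine Subgroup.mem_inf.mpr
          ⟨Subgroup.mul_mem _ (Subgroup.mul_mem _ hv hc.1) (Subgroup.inv_mem _ hv), ?_⟩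
        rw [Subgroup.mem_centralizer_iff]
        intro a ha
        have h1 := (Subgroup.mem_centralizer_iff.mp hc.2) (v⁻¹ * a * v)
          (by simpa using hAn.conj_mem a ha v⁻¹)
        calc a * (v * c * v⁻¹) = v * ((v⁻¹ * a * v) * c) * v⁻¹ := by group
          _ = v * (c * (v⁻¹ * a * v)) * v⁻¹ := by rw [h1]
          _ = v * c * v⁻¹ * a := by group
    have hCb : C ≠ ⊥ := by
      intro h
      have h1 : u ∈ C := Subgroup.mem_inf.mpr ⟨hu, by
        rw [Subgroup.mem_centralizer_iff]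
        intro a ha
        exact hcen a ha⟩
      rw [h, Subgroup.mem_bot] at h1
      exact hu1 h1
    apply hAb
    rw [eq_bot_iff]
    intro a ha
    rw [Subgroup.mem_bot]
    have h1 : a ^ p ∈ C := hpow C hCb a
    exact hA7 a ha (hP2 P _ (A.pow_mem ha p) h1.1)
  have hPb : ∃ u ∈ P, u ≠ 1 := by
    by_contra hcon
    push Not at hcon
    apply hAt
    rw [← hP3 P, eq_comm, sup_eq_left]
    intro u hu
    rw [hcon u hu]
    exact A.one_mem
  obtain ⟨u, hu, hu1⟩ := hPb
  have hPu : (P : Subgroup G) ≤ Subgroup.zpowers u := by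
    by_cases hK : A ⊔ Subgroup.zpowers u = ⊤
    · intro v hv
      have hv' : v ∈ A ⊔ Subgroup.zpowers u := by rw [hK]; trivial
      obtain ⟨a, ha, w, hw, rfl⟩ := Subgroup.mem_sup_of_normal_left.mp hv'
      have hwP : w ∈ (P : Subgroup G) := (Subgroup.zpowers_le.mpr hu) hw
      have haP : a ∈ (P : Subgroup G) := by
        have h1 : a = (a * w) * w⁻¹ := by group
        rw [h1]
        exact Subgroup.mul_mem _ hv (Subgroup.inv_mem _ hwP)
      rw [hP2 P a ha haP, one_mul]
      exact hw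
    · exfalso
      apply hu1
      apply hCP u hu
      intro a ha
      have h1 := trick (hOm _ hK) hA7 (Subgroup.mem_sup_right (Subgroup.mem_zpowers u))
        (hP1 P u hu) (Subgroup.mem_sup_left ha) (by
          have h0 : u⁻¹ * a * u * a⁻¹ = (u⁻¹ * a * u⁻¹⁻¹) * a⁻¹ := by group
          rw [h0]
          exact A.mul_mem (hAn.conj_mem a ha u⁻¹) (A.inv_mem ha))
      calc a * u = (a * u * a⁻¹) * a := by group
        _ = u * a := by rw [h1]
  have hPeq : (P : Subgroup G) = Subgroup.zpowers u :=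
    le_antisymm hPu (Subgroup.zpowers_le.mpr hu)
  have hPcard : Nat.card (P : Subgroup G) = p := by
    rw [hPeq, Nat.card_zpowers, orderOf_eq_prime (hP1 P u hu) hu1]
  have hidx : A.index = p := by
    have hcompl : Subgroup.IsComplement' (P : Subgroup G) A := by
      apply Subgroup.isComplement'_of_disjoint_and_mul_eq_univ
      · rw [disjoint_iff, eq_bot_iff]
        intro a ha
        rw [Subgroup.mem_bot]
        exact hP2 P a ha.2 ha.1
      · rw [← Subgroup.mul_normal (P : Subgroup G) A, sup_comm, hP3 P]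
        rfl
    rw [hcompl.index_eq_card, hPcard]
  have hna : ¬ ∀ a b : G, a * b = b * a := by
    intro hcomm
    obtain ⟨x, y, hx, hy, hxy⟩ := hbad
    apply hxy
    rw [(show Commute x y from hcomm x y).mul_pow, hx, hy, one_mul]
  have hcardA := Cfsg.Agent.Lib.Helper64.card_minimal_normal hq hqp hna A hAc hAq hidx hAmin
  refine ⟨q, hq, hqp, ?_, A, hAn, hcardA,
    ⟨isMulCommutative_iff.mpr (fun a b => Subtype.ext (hAc a a.2 b b.2)), hAq⟩, hAmin⟩
  rw [← Subgroup.card_mul_index A, hidx, hcardA, mul_comm]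

end

/-- Say that a finite group is p-exponent closed when its elements of order dividing p form a subgroup. Let G be a finite group that is not p-exponent closed, but all of whose proper subgroups and proper quotients are, and suppose G is neither simple nor a p-group. Then there is a prime q ≠ p such that G has order p · q^e, where e is the multiplicative order of q modulo p, and G has a normal elementary abelian subgroup of order q^e that is a minimal normal subgroup of G. -/
theorem result {G : Type*} [Group G] [Finite G] {p : ℕ} [Fact p.Prime]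
    (hnc : ¬ (∃ H : Subgroup G, (H : Set G) = {g : G | g ^ p = 1})) (hsub : ∀ K : Subgroup G, K ≠ ⊤ → (∃ H : Subgroup ↥K, (H : Set ↥K) = {g : ↥K | g ^ p = 1}))
    (hquo : ∀ (N : Subgroup G) [N.Normal], N ≠ ⊥ → (∃ H : Subgroup (G ⧸ N), (H : Set (G ⧸ N)) = {g : (G ⧸ N) | g ^ p = 1}))
    (hns : ¬ IsSimpleGroup G) (hnp : ¬ IsPGroup p G) :
    ∃ q : ℕ, q.Prime ∧ q ≠ p ∧ Nat.card G = p * q ^ orderOf (q : ZMod p) ∧
      ∃ A : Subgroup G, A.Normal ∧ Nat.card ↥A = q ^ orderOf (q : ZMod p) ∧ Cfsg.IsElementaryAbelian q A ∧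
        ∀ B : Subgroup G, B.Normal → B ≤ A → B = ⊥ ∨ B = A := by
  obtain ⟨x, y, hx, hy, hxy⟩ := exists_bad_pair hnc
  have hgen := closure_pair_eq_top hsub hx hy hxy
  exact core (omC_of_sub hsub) ⟨x, y, hx, hy, hxy⟩
    (fun N _ hN g => pow_mem_of_quo hquo hx hy hgen N hN g) hns hnp

end Cfsg.Agent.S3873

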