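-- Statement S3880: abelian subgroups of metacyclic p-groups (p odd).
import Mathlib
import Cfsg.Statements.S3880
import Cfsg.Agent.Lib.Helper68.Metacyclic

set_option autoImplicit false
open Cfsg

namespace Cfsg.Agent.S3880

open Cfsg.Agent.Lib.Helper68

theorem abelian_iff {G : Type*} [Group G] [Finite G] {p : ℕ} {a b : G} {m J d e : ℕ}
    (h : MC p a b m J d e) (hp : p.Prime) (hp2 : p ≠ 2) (L : Subgroup G) :
    IsMulCommutative ↥L ↔ Nat.card ↥L ≤ (commutator G).index := by
  obtain ⟨u, v, i, hu, hv, hu', hyL, hdecL, hcard, _⟩ := h.sub_coords hp L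
  rw [h.index_commutator hp, hcard, ← pow_add, Nat.pow_le_pow_iff_right hp.one_lt]
  have hcomm : IsMulCommutative ↥L ↔ Commute (b ^ p ^ v) (a ^ p ^ u) := by
    constructor
    · intro hL
      have h1 : a ^ p ^ u ∈ L := (hu' _).2 dvd_rfl
      have h2 : Commute (a ^ i * b ^ p ^ v) (a ^ p ^ u) := by
        have := hL.is_comm.comm (⟨_, hyL⟩ : L) ⟨_, h1⟩
        exact congrArg Subtype.val this
      have h3 : Commute ((a ^ i)⁻¹) (a ^ p ^ u) := ((Commute.refl a).pow_pow i (p ^ u)).inv_left
      have := h3.mul_left h2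
      simpa using this
    · intro hc
      have h2 : Commute (a ^ i * b ^ p ^ v) (a ^ p ^ u) :=
        ((Commute.refl a).pow_pow i (p ^ u)).mul_left hc
      refine ⟨⟨fun x y => Subtype.ext ?_⟩⟩
      obtain ⟨s1, t1, h1⟩ := hdecL x x.2
      obtain ⟨s2, t2, h2'⟩ := hdecL y y.2
      show (x : G) * y = y * x
      rw [h1, h2']
      have c1 : Commute ((a ^ i * b ^ p ^ v) ^ s1) ((a ^ i * b ^ p ^ v) ^ s2) :=
        (Commute.refl _).pow_pow _ _
      have c2 : Commute ((a ^ i * b ^ p ^ v) ^ s1) ((a ^ p ^ u) ^ t2) := h2.pow_pow _ _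
      have c3 : Commute ((a ^ p ^ u) ^ t1) ((a ^ i * b ^ p ^ v) ^ s2) := (h2.pow_pow _ _).symm
      have c4 : Commute ((a ^ p ^ u) ^ t1) ((a ^ p ^ u) ^ t2) := (Commute.refl _).pow_pow _ _
      exact (Commute.mul_left (Commute.mul_right c1 c2) (Commute.mul_right c3 c4)).eq
  rw [hcomm, h.commute_pow_iff hp hp2]
  omega

/-- Let p be an odd prime and G a finite metacyclic p-group (G has a cyclic normal subgroup with cyclic quotient). Then a subgroup L of G is abelian if and only if |L| ≤ |G : G'|, and L is a maximal abelian subgroup of G if and only if |L| = |G : G'|. -/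
theorem result {G : Type*} [Group G] [Finite G] {p : ℕ} [Fact p.Prime] (hp : p ≠ 2) (hG : IsPGroup p G) (hmc : Cfsg.IsMetacyclic G) (L : Subgroup G) :
    (IsMulCommutative ↥L ↔ Nat.card ↥L ≤ (commutator G).index) ∧
      (Maximal (fun K : Subgroup G => IsMulCommutative ↥K) L ↔ Nat.card ↥L = (commutator G).index) := by
  have hpp : p.Prime := Fact.out
  obtain ⟨a, b, m, J, d, e, h⟩ := exists_MC hG hmc
  have hab := abelian_iff h hpp hp
  refine ⟨hab L, ?_⟩
  constructor
  · intro hmax
    have h1 : Nat.card L ≤ (commutator G).index := (hab L).1 hmax.prop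
    by_contra hne
    have hlt : Nat.card L < (commutator G).index := lt_of_le_of_ne h1 hne
    obtain ⟨w, hw⟩ := (IsPGroup.iff_card).1 (hG.to_subgroup L)
    rw [h.index_commutator hpp, hw] at hlt
    have hw1 : w + 1 ≤ e + J := by
      have := (Nat.pow_lt_pow_iff_right hpp.one_lt).1 hlt
      omega
    have hdvd : p ^ (w + 1) ∣ Nat.card G := by
      rw [h.hcard, ← pow_add]
      apply pow_dvd_pow
      have := h.e_le hpp
      omega
    obtain ⟨K, hK, hLK⟩ := Sylow.exists_subgroup_card_pow_succ hdvd hw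
    have hKab : IsMulCommutative K :=
      (hab K).2 (by rw [hK, h.index_commutator hpp]; exact Nat.pow_le_pow_right hpp.pos hw1)
    have hKL : K ≤ L := hmax.le_of_ge hKab hLK
    have h5 := Subgroup.card_le_of_le hKL
    rw [hK, hw] at h5
    have := (Nat.pow_le_pow_iff_right hpp.one_lt).1 h5
    omega
  · intro hcard
    refine ⟨(hab L).2 hcard.le, ?_⟩
    intro K hK hLK
    have h1 : Nat.card K ≤ Nat.card L := hcard ▸ (hab K).1 hK
    exact (Subgroup.eq_of_le_of_card_ge hLK h1).ge

end Cfsg.Agent.S3880
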