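-- Statement S3881: number of elements with class size p^i in a metacyclic p-group (p odd).
import Mathlib
import Cfsg.Statements.S3881
import Cfsg.Agent.Lib.Helper68.Metacyclic3
import Cfsg.Agent.S3882

set_option autoImplicit false
open Cfsg

namespace Cfsg.Agent.S3881

open Cfsg.Agent.Lib.Helper68

/-- Let p be an odd prime and G a finite metacyclic p-group (G has a cyclic normal subgroup with cyclic quotient). Suppose G is non-abelian with |G'| = p^n. Then for 1 ≤ i ≤ n the number of elements of G whose conjugacy class has exactly p^i elements is |Z(G)| · (p^(2i) − p^(2i−2)). -/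
theorem result {G : Type*} [Group G] [Finite G] {p : ℕ} [Fact p.Prime] (hp : p ≠ 2) (hG : IsPGroup p G) (hmc : Cfsg.IsMetacyclic G) (n : ℕ) (hn : n ≠ 0) (hGn : Nat.card ↥(commutator G) = p ^ n) (i : ℕ) (hi : 1 ≤ i) (hin : i ≤ n) :
    Nat.card {g : G // (Subgroup.centralizer ({g} : Set G)).index = p ^ i} =
      Nat.card ↥(Subgroup.center G) * (p ^ (2 * i) - p ^ (2 * i - 2)) := by
  have hpp : p.Prime := Fact.out
  obtain ⟨a, b, m, J, d, e, h⟩ := exists_MC hG hmc
  have hne : n = m - e := by
    have := h.card_commutator hpp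
    rw [hGn] at this
    exact Nat.pow_right_injective hpp.two_le this
  have hmJ := h.m_le hpp hp
  have hem := h.e_le hpp
  have hS := fun (s : ℕ) (hs : s ≤ n) (g : G) => (Cfsg.Agent.S3882.result hp hG hmc n hGn s hs g).1
  have hZ : Subgroup.closure {x : G | ∃ y : G, y ^ p ^ n = x} = Subgroup.center G :=
    (Cfsg.Agent.S3882.result hp hG hmc n hGn 0 (Nat.zero_le n) 1).2
  have hcardH : ∀ s : ℕ, s ≤ n →
      Nat.card (Subgroup.closure {x : G | ∃ y : G, y ^ p ^ s = x}) = p ^ (m - s) * p ^ (J - s) :=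
    fun s hs => h.card_closure_pow hpp hp (hne ▸ hs)
  have hcardZ : Nat.card (Subgroup.center G) = p ^ (m - n) * p ^ (J - n) := by
    rw [← hZ, hcardH n le_rfl]
  have hset : {g : G | (Subgroup.centralizer ({g} : Set G)).index = p ^ i}
      = ((Subgroup.closure {x : G | ∃ y : G, y ^ p ^ (n - i) = x} : Subgroup G) : Set G)
        \ ((Subgroup.closure {x : G | ∃ y : G, y ^ p ^ (n - i + 1) = x} : Subgroup G) : Set G) := by
    ext g
    rw [Set.mem_sdiff, SetLike.mem_coe, SetLike.mem_coe, hS (n - i) (Nat.sub_le n i) g,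
      hS (n - i + 1) (by omega) g, Set.mem_ofPred_eq]
    have e1 : n - (n - i) = i := by omega
    have e2 : n - (n - i + 1) = i - 1 := by omega
    rw [e1, e2]
    obtain ⟨w, hw⟩ : ∃ w, (Subgroup.centralizer ({g} : Set G)).index = p ^ w := by
      have h1 : (Subgroup.centralizer ({g} : Set G)).index ∣ Nat.card G :=
        Subgroup.index_dvd_card _
      rw [h.hcard, ← pow_add] at h1
      obtain ⟨w, _, hw⟩ := (Nat.dvd_prime_pow hpp).1 h1
      exact ⟨w, hw⟩
    rw [hw, Nat.pow_le_pow_iff_right hpp.one_lt, Nat.pow_le_pow_iff_right hpp.one_lt]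
    constructor
    · intro hh
      have := Nat.pow_right_injective hpp.two_le hh
      omega
    · rintro ⟨h1, h2⟩
      congr 1
      omega
  have hsub : ((Subgroup.closure {x : G | ∃ y : G, y ^ p ^ (n - i + 1) = x} : Subgroup G) : Set G)
      ⊆ ((Subgroup.closure {x : G | ∃ y : G, y ^ p ^ (n - i) = x} : Subgroup G) : Set G) := by
    intro g hg
    rw [SetLike.mem_coe, hS (n - i + 1) (by omega) g] at hg
    rw [SetLike.mem_coe, hS (n - i) (Nat.sub_le n i) g]
    exact hg.trans (Nat.pow_le_pow_right hpp.pos (by omega))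
  have hc1 : Nat.card {g : G // (Subgroup.centralizer ({g} : Set G)).index = p ^ i}
      = {g : G | (Subgroup.centralizer ({g} : Set G)).index = p ^ i}.ncard :=
    Nat.card_coe_set_eq _
  rw [hc1, hset, Set.ncard_sdiff hsub, ← Nat.card_coe_set_eq, ← Nat.card_coe_set_eq]
  have hc2 : Nat.card ↥((Subgroup.closure {x : G | ∃ y : G, y ^ p ^ (n - i) = x} : Subgroup G) : Set G)
      = p ^ (m - (n - i)) * p ^ (J - (n - i)) := hcardH (n - i) (Nat.sub_le n i)
  have hc3 : Nat.card
      ↥((Subgroup.closure {x : G | ∃ y : G, y ^ p ^ (n - i + 1) = x} : Subgroup G) : Set G)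
      = p ^ (m - (n - i + 1)) * p ^ (J - (n - i + 1)) := hcardH (n - i + 1) (by omega)
  rw [hc2, hc3, hcardZ, Nat.mul_sub]
  simp only [← pow_add]
  congr 2
  · omega
  · omega

end Cfsg.Agent.S3881
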