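-- Statement S3883: elements outside the Frattini subgroup of a metacyclic p-group (p odd).
import Mathlib
import Cfsg.Statements.S3883
import Cfsg.Agent.Lib.Helper68.Metacyclic3
import Cfsg.Agent.Lib.Helper87.PGroupFrattini
import Cfsg.Agent.S3880
import Cfsg.Agent.S3882

set_option autoImplicit false
open Cfsg

namespace Cfsg.Agent.S3883

open Cfsg.Agent.Lib.Helper68

open scoped commutatorElement

theorem frattini_eq {G : Type*} [Group G] [Finite G] {p : ℕ} [Fact p.Prime] {a b : G}
    {m J d e : ℕ} (h : MC p a b m J d e) (hG : IsPGroup p G) :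
    frattini G = Subgroup.closure {x : G | ∃ y : G, y ^ p ^ 1 = x} := by
  apply le_antisymm
  · have hsub : Group.conjugatesOfSet {x : G | ∃ y : G, y ^ p ^ 1 = x}
        ⊆ {x : G | ∃ y : G, y ^ p ^ 1 = x} := by
      intro x hx
      obtain ⟨z, ⟨y, rfl⟩, hz⟩ := Group.mem_conjugatesOfSet_iff.1 hx
      obtain ⟨c, rfl⟩ := isConj_iff.1 hz
      exact ⟨c * y * c⁻¹, by rw [conj_pow]⟩
    have heq : Subgroup.closure {x : G | ∃ y : G, y ^ p ^ 1 = x}
        = Subgroup.normalClosure {x : G | ∃ y : G, y ^ p ^ 1 = x} :=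
      le_antisymm Subgroup.closure_le_normalClosure (Subgroup.closure_mono hsub)
    have hnorm : (Subgroup.closure {x : G | ∃ y : G, y ^ p ^ 1 = x}).Normal := by
      rw [heq]
      exact Subgroup.normalClosure_normal
    have hcomm_le : commutator G ≤ Subgroup.closure {x : G | ∃ y : G, y ^ p ^ 1 = x} := by
      rw [commutator_eq_zpowers h.hnorm h.hdec h.hconj, Subgroup.zpowers_le]
      obtain ⟨c, hc⟩ := h.hpd
      apply Subgroup.subset_closure
      exact ⟨a ^ c, by rw [pow_one, ← pow_mul, mul_comm, ← hc]⟩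
    have hc : IsMulCommutative (G ⧸ Subgroup.closure {x : G | ∃ y : G, y ^ p ^ 1 = x}) :=
      Subgroup.Normal.quotient_commutative_iff_commutator_le.2 hcomm_le
    let inst : CommGroup (G ⧸ Subgroup.closure {x : G | ∃ y : G, y ^ p ^ 1 = x}) :=
      { (QuotientGroup.Quotient.group _) with mul_comm := hc.is_comm.comm }
    have := @Cfsg.Agent.Lib.Helper87.frattini_le_ker_of_exponent G
      (G ⧸ Subgroup.closure {x : G | ∃ y : G, y ^ p ^ 1 = x}) _ _ inst p _
      (QuotientGroup.mk' (Subgroup.closure {x : G | ∃ y : G, y ^ p ^ 1 = x})) (by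
        intro u
        rw [← map_pow]
        exact (QuotientGroup.eq_one_iff _).2 (Subgroup.subset_closure ⟨u, by rw [pow_one]⟩))
    rwa [QuotientGroup.ker_mk'] at this
  · rw [Subgroup.closure_le]
    rintro x ⟨y, rfl⟩
    rw [pow_one]
    exact Cfsg.Agent.Lib.Helper87.pow_p_mem_frattini hG y

/-- Let p be an odd prime and G a finite metacyclic p-group (G has a cyclic normal subgroup with cyclic quotient). Suppose G is non-abelian. Then an element g of G lies outside the Frattini subgroup if and only if its centralizer C_G(g) is abelian. -/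
theorem result {G : Type*} [Group G] [Finite G] {p : ℕ} [Fact p.Prime] (hp : p ≠ 2) (hG : IsPGroup p G) (hmc : Cfsg.IsMetacyclic G) (hna : ¬ IsMulCommutative G) (g : G) :
    g ∉ frattini G ↔ IsMulCommutative ↥(Subgroup.centralizer ({g} : Set G)) := by
  have hpp : p.Prime := Fact.out
  obtain ⟨a, b, m, J, d, e, h⟩ := exists_MC hG hmc
  have hem := h.e_le hpp
  have hcc := h.card_commutator hpp
  have hn1 : 1 ≤ m - e := by
    by_contra hcon
    have h0 : m - e = 0 := by omega
    rw [h0, pow_zero] at hcc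
    have hbot : commutator G = ⊥ := Subgroup.eq_bot_of_card_eq _ hcc
    apply hna
    refine ⟨⟨fun x y => ?_⟩⟩
    have : ⁅x, y⁆ ∈ commutator G :=
      Subgroup.commutator_mem_commutator (Subgroup.mem_top x) (Subgroup.mem_top y)
    rw [hbot, Subgroup.mem_bot] at this
    exact (commutatorElement_eq_one_iff_commute.1 this).eq
  have hS := (Cfsg.Agent.S3882.result hp hG hmc (m - e) hcc 1 hn1 g).1
  have hab := (Cfsg.Agent.S3880.result hp hG hmc (Subgroup.centralizer ({g} : Set G))).1
  rw [frattini_eq h hG, hS, hab, h.index_commutator hpp]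
  obtain ⟨w, hw⟩ : ∃ w, (Subgroup.centralizer ({g} : Set G)).index = p ^ w := by
    have h1 : (Subgroup.centralizer ({g} : Set G)).index ∣ Nat.card G :=
      Subgroup.index_dvd_card _
    rw [h.hcard, ← pow_add] at h1
    obtain ⟨w, _, hw⟩ := (Nat.dvd_prime_pow hpp).1 h1
    exact ⟨w, hw⟩
  obtain ⟨c, hc⟩ := (IsPGroup.iff_card).1 (hG.to_subgroup (Subgroup.centralizer ({g} : Set G)))
  have hci := Subgroup.card_mul_index (Subgroup.centralizer ({g} : Set G))
  rw [hw, hc, h.hcard, ← pow_add, ← pow_add] at hci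
  have hcw : c + w = m + J := Nat.pow_right_injective hpp.two_le hci
  rw [hw, hc, Nat.pow_le_pow_iff_right hpp.one_lt, Nat.pow_le_pow_iff_right hpp.one_lt]
  omega

end Cfsg.Agent.S3883
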