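-- Statement S3884: a metacyclic p-group (p odd) is a product of two cyclic subgroups with
-- trivial intersection.
import Mathlib
import Cfsg.Statements.S3884
import Cfsg.Agent.Lib.Helper68.Metacyclic3

set_option autoImplicit false
open Cfsg

namespace Cfsg.Agent.S3884

open Cfsg.Agent.Lib.Helper68

theorem geom_pow_dvd {p : ℕ} (hp : p.Prime) (hp2 : p ≠ 2) {d : ℕ} (hd : p ∣ d) (j M k t : ℕ) :
    p ^ M ∣ k * ∑ q ∈ Finset.range t, ((1 + d) ^ j) ^ q ↔ p ^ M ∣ k * t := by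
  have hδ : p ∣ (1 + d) ^ j - 1 := by
    have := (key_dvd hp hp2 hd 1 1 j).2 (by rw [pow_one, one_mul]; exact Dvd.dvd.mul_right hd j)
    rwa [pow_one, one_mul] at this
  have hρ : 1 + ((1 + d) ^ j - 1) = (1 + d) ^ j := by
    have : 0 < (1 + d) ^ j := pow_pos (by omega) _
    omega
  have key := geom_dvd hp hp2 hδ M k t
  rwa [hρ] at key

theorem geom_pow_eq {p : ℕ} (hp : p.Prime) (hp2 : p ≠ 2) {d : ℕ} (hd : p ∣ d) (j s : ℕ) :
    ∃ w, ¬ p ∣ w ∧ ∑ q ∈ Finset.range (p ^ s), ((1 + d) ^ j) ^ q = p ^ s * w := by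
  have key := fun M => geom_pow_dvd hp hp2 hd j M 1 (p ^ s)
  simp only [one_mul] at key
  obtain ⟨w, hw⟩ := (key s).2 dvd_rfl
  refine ⟨w, ?_, hw⟩
  intro hh
  have h5 : p ^ (s + 1) ∣ ∑ q ∈ Finset.range (p ^ s), ((1 + d) ^ j) ^ q := by
    rw [hw, pow_succ]
    exact Nat.mul_dvd_mul_left _ hh
  have h6 := (key _).1 h5
  have := (Nat.pow_dvd_pow_iff_le_right hp.one_lt).1 h6
  omega

theorem exists_inv_mod {p : ℕ} (hp : p.Prime) {w : ℕ} (hw : ¬ p ∣ w) (m : ℕ) :
    ∃ w', w * w' ≡ 1 [MOD p ^ m] := by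
  by_cases hm0 : m = 0
  · exact ⟨0, by rw [hm0, pow_zero]; exact Nat.modEq_one⟩
  · have hcop : Nat.Coprime w (p ^ m) :=
      Nat.Coprime.pow_right m ((Nat.Prime.coprime_iff_not_dvd hp).2 hw).symm
    obtain ⟨w', -, hw'⟩ := Nat.exists_mul_mod_eq_one_of_coprime hcop
      (Nat.one_lt_pow hm0 hp.one_lt)
    refine ⟨w', ?_⟩
    unfold Nat.ModEq
    rw [hw', Nat.mod_eq_of_lt (Nat.one_lt_pow hm0 hp.one_lt)]

theorem case1 {G : Type*} [Group G] [Finite G] {p : ℕ} {a b : G} {m J d e : ℕ}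
    (h : MC p a b m J d e) (x c : ℕ) (hbc : b ^ p ^ J = a ^ c)
    (hx : p ^ m ∣ x * (∑ q ∈ Finset.range (p ^ J), ((1 + d) ^ 1) ^ q) + c) :
    ∃ A B : Subgroup G, IsCyclic ↥A ∧ IsCyclic ↥B ∧ A ⊓ B = ⊥ ∧
      Nat.card ↥A * Nat.card ↥B = Nat.card G := by
  have hb1 : ∀ t : ℕ, (a ^ x * b ^ 1) ^ t ∈ Subgroup.zpowers a ↔ p ^ J ∣ t := by
    intro t
    rw [pow_formula h.hconj, one_mul, ← h.hJ]
    constructor
    · intro hh
      have := (Subgroup.zpowers a).mul_mem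
        ((Subgroup.zpowers a).inv_mem (Subgroup.npow_mem_zpowers a
          (x * ∑ q ∈ Finset.range t, ((1 + d) ^ 1) ^ q))) hh
      simpa using this
    · intro hh
      exact (Subgroup.zpowers a).mul_mem (Subgroup.npow_mem_zpowers a _) hh
  have hpow : (a ^ x * b ^ 1) ^ p ^ J = 1 := by
    rw [pow_formula h.hconj, one_mul, hbc, ← pow_add]
    obtain ⟨k, hk⟩ := hx
    rw [hk, pow_mul, ← h.ha, pow_orderOf_eq_one, one_pow]
  have hord : orderOf (a ^ x * b ^ 1) = p ^ J := by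
    apply Nat.dvd_antisymm (orderOf_dvd_of_pow_eq_one hpow)
    rw [← hb1, pow_orderOf_eq_one]
    exact one_mem _
  refine ⟨Subgroup.zpowers a, Subgroup.zpowers (a ^ x * b ^ 1), inferInstance, inferInstance,
    ?_, ?_⟩
  · rw [eq_bot_iff]
    intro z hz
    obtain ⟨hzA, hzB⟩ := Subgroup.mem_inf.1 hz
    obtain ⟨k, rfl⟩ := Subgroup.mem_zpowers_iff.1 hzB
    obtain ⟨t, ht⟩ := exists_nat_pow (a ^ x * b ^ 1) k
    rw [ht] at hzA ⊢
    obtain ⟨t', rfl⟩ := (hb1 t).1 hzA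
    rw [Subgroup.mem_bot, pow_mul, hpow, one_pow]
  · rw [Nat.card_zpowers, Nat.card_zpowers, h.ha, hord, h.hcard]

/-- Let p be an odd prime and G a finite metacyclic p-group (G has a cyclic normal subgroup with cyclic quotient). Then G is the product of two cyclic subgroups with trivial intersection: there are cyclic subgroups A and B with A ∩ B = 1 and |A| · |B| = |G|. -/
theorem result {G : Type*} [Group G] [Finite G] {p : ℕ} [Fact p.Prime] (hp : p ≠ 2) (hG : IsPGroup p G) (hmc : Cfsg.IsMetacyclic G) : ∃ A B : Subgroup G, IsCyclic ↥A ∧ IsCyclic ↥B ∧ A ⊓ B = ⊥ ∧ Nat.card ↥A * Nat.card ↥B = Nat.card G := by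
  have hpp : p.Prime := Fact.out
  obtain ⟨a, b, m, J, d, e, h⟩ := exists_MC hG hmc
  have hbN : b ^ p ^ J ∈ Subgroup.zpowers a := (h.hJ _).2 dvd_rfl
  obtain ⟨z, hz⟩ := Subgroup.mem_zpowers_iff.1 hbN
  obtain ⟨c, hc⟩ := exists_nat_pow a z
  have hbc : b ^ p ^ J = a ^ c := by rw [← hc, hz]
  have hpm1 : 1 + (p ^ m - 1) = p ^ m := by
    have : 0 < p ^ m := pow_pos hpp.pos m
    omega
  by_cases hc0 : p ^ m ∣ c
  · exact case1 h 0 c hbc (by simpa using hc0)
  have hcne : c ≠ 0 := fun h0 => hc0 (h0 ▸ dvd_zero _)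
  obtain ⟨κ, c', hc', hceq⟩ := Nat.exists_eq_pow_mul_and_not_dvd hcne p hpp.ne_one
  have hκm : κ < m := by
    by_contra hcon
    push Not at hcon
    exact hc0 (hceq ▸ Dvd.dvd.mul_right (pow_dvd_pow p hcon) c')
  by_cases hJκ : J ≤ κ
  · obtain ⟨w, hw, hT⟩ := geom_pow_eq hpp hp h.hpd 1 J
    obtain ⟨w'', hw''⟩ := exists_inv_mod hpp hw m
    refine case1 h (p ^ (κ - J) * c' * w'' * (p ^ m - 1)) c hbc ?_
    rw [hT, hceq]
    have h1 : w * w'' * (p ^ m - 1) + 1 ≡ 0 [MOD p ^ m] := by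
      have h2 := Nat.ModEq.add_right 1 (Nat.ModEq.mul_right (p ^ m - 1) hw'')
      rw [one_mul, add_comm (p ^ m - 1) 1, hpm1] at h2
      exact h2.trans (Nat.modEq_zero_iff_dvd.2 dvd_rfl)
    have h3 : p ^ m ∣ w * w'' * (p ^ m - 1) + 1 := Nat.modEq_zero_iff_dvd.1 h1
    have e1 : p ^ κ = p ^ (κ - J) * p ^ J := by
      rw [← pow_add]
      congr 1
      omega
    have e2 : p ^ (κ - J) * c' * w'' * (p ^ m - 1) * (p ^ J * w) + p ^ κ * c'
        = p ^ κ * c' * (w * w'' * (p ^ m - 1) + 1) := by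
      rw [e1]
      generalize p ^ m - 1 = P1
      ring
    rw [e2]
    exact Dvd.dvd.mul_left h3 _
  · push Not at hJκ
    obtain ⟨w, hw, hT⟩ := geom_pow_eq hpp hp h.hpd (p ^ (J - κ) * (p ^ m - 1)) κ
    obtain ⟨w'', hw''⟩ := exists_inv_mod hpp hw m
    have hpx : ¬ p ∣ c' * w'' := by
      intro hh
      rcases (Nat.Prime.dvd_mul hpp).1 hh with h1 | h1
      · exact hc' h1
      · have h2 : w * w'' ≡ 1 [MOD p] := Nat.ModEq.of_dvd (dvd_pow_self p (by omega)) hw''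
        have h3 : w * w'' ≡ 0 [MOD p] := Nat.modEq_zero_iff_dvd.2 (Dvd.dvd.mul_left h1 w)
        have h4 : p ∣ 1 := Nat.modEq_zero_iff_dvd.1 (h2.symm.trans h3)
        exact hpp.one_lt.ne' (Nat.dvd_one.1 h4)
    have hby : b ^ (p ^ (J - κ) * (p ^ m - 1) * p ^ κ) = a ^ (c * (p ^ m - 1)) := by
      have e1 : p ^ (J - κ) * (p ^ m - 1) * p ^ κ = p ^ J * (p ^ m - 1) := by
        have : p ^ J = p ^ (J - κ) * p ^ κ := by
          rw [← pow_add]
          congr 1
          omega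
        rw [this]
        generalize p ^ m - 1 = P1
        ring
      rw [e1, pow_mul, hbc, ← pow_mul]
    have hpow : (a ^ (c' * w'') * b ^ (p ^ (J - κ) * (p ^ m - 1))) ^ p ^ κ = 1 := by
      rw [pow_formula h.hconj, hT, hby, ← pow_add]
      have h1 : w * w'' + (p ^ m - 1) ≡ 0 [MOD p ^ m] := by
        have h2 := Nat.ModEq.add_right (p ^ m - 1) hw''
        rw [hpm1] at h2
        exact h2.trans (Nat.modEq_zero_iff_dvd.2 dvd_rfl)
      have h3 : p ^ m ∣ w * w'' + (p ^ m - 1) := Nat.modEq_zero_iff_dvd.1 h1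
      have e2 : c' * w'' * (p ^ κ * w) + c * (p ^ m - 1)
          = p ^ κ * c' * (w * w'' + (p ^ m - 1)) := by
        rw [hceq]
        generalize p ^ m - 1 = P1
        ring
      obtain ⟨k, hk⟩ := Dvd.dvd.mul_left h3 (p ^ κ * c')
      rw [e2, hk, pow_mul, ← h.ha, pow_orderOf_eq_one, one_pow]
    have haB : ∀ k : ℕ, a ^ k ∈ Subgroup.zpowers b → p ^ κ ∣ k := by
      intro k hk
      obtain ⟨l0, hl0⟩ := Subgroup.mem_zpowers_iff.1 hk
      obtain ⟨l, hl⟩ := exists_nat_pow b l0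
      have h1 : b ^ l ∈ Subgroup.zpowers a := by
        rw [← hl, hl0]
        exact Subgroup.npow_mem_zpowers a k
      obtain ⟨l', rfl⟩ := (h.hJ l).1 h1
      have h2 : a ^ k = a ^ (c * l') := by rw [← hl0, hl, pow_mul, hbc, ← pow_mul]
      rw [pow_eq_pow_iff_modEq, h.ha] at h2
      have h3 : k ≡ c * l' [MOD p ^ κ] := Nat.ModEq.of_dvd (pow_dvd_pow p hκm.le) h2
      have h4 : c * l' ≡ 0 [MOD p ^ κ] :=
        Nat.modEq_zero_iff_dvd.2 (by rw [hceq, mul_assoc]; exact Dvd.intro _ rfl)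
      exact Nat.modEq_zero_iff_dvd.1 (h3.trans h4)
    have ha1 : ∀ t : ℕ, (a ^ (c' * w'') * b ^ (p ^ (J - κ) * (p ^ m - 1))) ^ t
        ∈ Subgroup.zpowers b → p ^ κ ∣ t := by
      intro t ht
      rw [pow_formula h.hconj] at ht
      have h1 : a ^ (c' * w'' * ∑ q ∈ Finset.range t, ((1 + d) ^ (p ^ (J - κ) * (p ^ m - 1))) ^ q)
          ∈ Subgroup.zpowers b := by
        have := (Subgroup.zpowers b).mul_mem ht
          ((Subgroup.zpowers b).inv_mem (Subgroup.npow_mem_zpowers b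
            (p ^ (J - κ) * (p ^ m - 1) * t)))
        simpa using this
      have h2 := haB _ h1
      have h3 : p ^ κ ∣ ∑ q ∈ Finset.range t, ((1 + d) ^ (p ^ (J - κ) * (p ^ m - 1))) ^ q :=
        (Nat.Coprime.pow_left κ ((Nat.Prime.coprime_iff_not_dvd hpp).2 hpx)).dvd_of_dvd_mul_left h2
      have h4 := (geom_pow_dvd hpp hp h.hpd (p ^ (J - κ) * (p ^ m - 1)) κ 1 t).1
        (by rwa [one_mul])
      rwa [one_mul] at h4
    have horda : orderOf (a ^ (c' * w'') * b ^ (p ^ (J - κ) * (p ^ m - 1))) = p ^ κ := by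
      apply Nat.dvd_antisymm (orderOf_dvd_of_pow_eq_one hpow)
      apply ha1
      rw [pow_orderOf_eq_one]
      exact one_mem _
    have hordb : orderOf b = p ^ (J + (m - κ)) := by
      apply Nat.dvd_antisymm
      · apply orderOf_dvd_of_pow_eq_one
        rw [pow_add, pow_mul, hbc, ← pow_mul, hceq]
        have e1 : p ^ κ * c' * p ^ (m - κ) = p ^ m * c' := by
          have : p ^ m = p ^ κ * p ^ (m - κ) := by
            rw [← pow_add]
            congr 1
            omega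
          rw [this]
          ring
        rw [e1, pow_mul, ← h.ha, pow_orderOf_eq_one, one_pow]
      · have h1 : b ^ orderOf b ∈ Subgroup.zpowers a := by
          rw [pow_orderOf_eq_one]
          exact one_mem _
        obtain ⟨t', ht'⟩ := (h.hJ _).1 h1
        have h2 : a ^ (c * t') = 1 := by
          rw [pow_mul, ← hbc, ← pow_mul, ← ht', pow_orderOf_eq_one]
        have h3 : p ^ m ∣ c * t' := by
          rw [← h.ha]
          exact orderOf_dvd_of_pow_eq_one h2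
        have h4 : p ^ (m - κ) ∣ t' := by
          rw [hceq] at h3
          have e1 : p ^ m = p ^ κ * p ^ (m - κ) := by
            rw [← pow_add]
            congr 1
            omega
          rw [e1, mul_assoc] at h3
          have h5 := (Nat.mul_dvd_mul_iff_left (pow_pos hpp.pos κ)).1 h3
          exact (Nat.Coprime.pow_left _
            ((Nat.Prime.coprime_iff_not_dvd hpp).2 hc')).dvd_of_dvd_mul_left h5
        rw [ht', pow_add]
        exact Nat.mul_dvd_mul_left _ h4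
    refine ⟨Subgroup.zpowers (a ^ (c' * w'') * b ^ (p ^ (J - κ) * (p ^ m - 1))),
      Subgroup.zpowers b, inferInstance, inferInstance, ?_, ?_⟩
    · rw [eq_bot_iff]
      intro z hz
      obtain ⟨hzA, hzB⟩ := Subgroup.mem_inf.1 hz
      obtain ⟨k, rfl⟩ := Subgroup.mem_zpowers_iff.1 hzA
      obtain ⟨t, ht⟩ := exists_nat_pow (a ^ (c' * w'') * b ^ (p ^ (J - κ) * (p ^ m - 1))) k
      rw [ht] at hzB ⊢
      obtain ⟨t', rfl⟩ := ha1 t hzB
      rw [Subgroup.mem_bot, pow_mul, hpow, one_pow]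
    · rw [Nat.card_zpowers, Nat.card_zpowers, horda, hordb, h.hcard, ← pow_add, ← pow_add]
      congr 1
      omega

end Cfsg.Agent.S3884
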