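-- Statement S3885: abelian subgroups containing the center of a metacyclic p-group (p odd).
import Mathlib
import Cfsg.Statements.S3885
import Cfsg.Agent.Lib.Helper68.Metacyclic4

set_option autoImplicit false
open Cfsg

namespace Cfsg.Agent.S3885

open Cfsg.Agent.Lib.Helper68

/-- Let p be an odd prime and G a finite metacyclic p-group (G has a cyclic normal subgroup with cyclic quotient). Then every abelian subgroup K of G containing the center of G is the center of its own centralizer: K = Z(C_G(K)). -/
theorem result {G : Type*} [Group G] [Finite G] {p : ℕ} [Fact p.Prime] (hp : p ≠ 2) (hG : IsPGroup p G) (hmc : Cfsg.IsMetacyclic G) (K : Subgroup G) (hK : IsMulCommutative ↥K) (hZ : Subgroup.center G ≤ K) :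
    K = Subgroup.centralizer (K : Set G) ⊓ Subgroup.centralizer (Subgroup.centralizer (K : Set G) : Set G) := by
  have hpp : p.Prime := Fact.out
  obtain ⟨a, b, m, J, d, e, h⟩ := exists_MC hG hmc
  have hKC : K ≤ Subgroup.centralizer (K : Set G) := by
    intro x hx
    rw [Subgroup.mem_centralizer_iff]
    intro y hy
    exact congrArg Subtype.val (hK.is_comm.comm (⟨y, hy⟩ : K) ⟨x, hx⟩)
  have hZC : Subgroup.center G ≤ Subgroup.centralizer (K : Set G) := hZ.trans hKC
  have hCC : Subgroup.centralizer (Subgroup.centralizer (K : Set G) : Set G)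
      ≤ Subgroup.centralizer (K : Set G) :=
    Subgroup.centralizer_le (SetLike.coe_subset_coe.2 hKC)
  rw [inf_eq_right.2 hCC]
  have hKCC : K ≤ Subgroup.centralizer (Subgroup.centralizer (K : Set G) : Set G) := by
    intro x hx
    rw [Subgroup.mem_centralizer_iff]
    intro y hy
    rw [SetLike.mem_coe, Subgroup.mem_centralizer_iff] at hy
    exact (hy x hx).symm
  have h1 := h.card_centralizer hpp hp K hZ
  have h2 := h.card_centralizer hpp hp (Subgroup.centralizer (K : Set G)) hZC
  have h3 : Nat.card K
      = Nat.card (Subgroup.centralizer (Subgroup.centralizer (K : Set G) : Set G)) := by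
    have : Nat.card (Subgroup.centralizer (K : Set G)) * Nat.card K
        = Nat.card (Subgroup.centralizer (K : Set G))
          * Nat.card (Subgroup.centralizer (Subgroup.centralizer (K : Set G) : Set G)) := by
      rw [h2, ← h1, mul_comm]
    exact Nat.eq_of_mul_eq_mul_left Nat.card_pos this
  exact Subgroup.eq_of_le_of_card_ge hKCC h3.ge

end Cfsg.Agent.S3885
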