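-- Statement S3886: centrally large subgroups of metacyclic p-groups (p odd).
import Mathlib
import Cfsg.Statements.S3886
import Cfsg.Agent.Lib.Helper68.Metacyclic2
import Cfsg.Agent.S3879
import Cfsg.Agent.S3880

set_option autoImplicit false
open Cfsg

namespace Cfsg.Agent.S3886

open Cfsg.Agent.Lib.Helper68

/-- Let p be an odd prime and G a finite metacyclic p-group (G has a cyclic normal subgroup with cyclic quotient). Then the largest value of |R| · |Z(R)| over subgroups R of G is |G : G'|², and the subgroups attaining it (the centrally large subgroups) are exactly the non-abelian subgroups together with the maximal abelian subgroups of G. -/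
theorem result {G : Type*} [Group G] [Finite G] {p : ℕ} [Fact p.Prime] (hp : p ≠ 2) (hG : IsPGroup p G) (hmc : Cfsg.IsMetacyclic G) : Cfsg.maxCentralProduct G = (commutator G).index ^ 2 ∧
    ∀ R : Subgroup G, Cfsg.IsCentrallyLarge R ↔ (¬ IsMulCommutative ↥R ∨ Maximal (fun K : Subgroup G => IsMulCommutative ↥K) R) := by
  have hpp : p.Prime := Fact.out
  obtain ⟨a, b, m, J, d, e, h⟩ := exists_MC hG hmc
  have hidx := h.index_commutator hpp
  have hem := h.e_le hpp
  have hmJ := h.m_le hpp hp
  have hS := fun R : Subgroup G => Cfsg.Agent.S3880.result hp hG hmc R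
  have hna : ∀ R : Subgroup G, ¬ IsMulCommutative ↥R →
      Nat.card ↥R * Nat.card ↥(Subgroup.center ↥R) = (commutator G).index ^ 2 := by
    intro R hR
    obtain ⟨u, v, hu, hv, hcard, hmcR, hab, hcc⟩ := h.sub_data hpp hp R
    have hnle : ¬ (m ≤ u + v + e) := fun hh => hR (hab.2 hh)
    have h1 := Cfsg.Agent.S3879.result hp (hG.to_subgroup R) hmcR
    rw [hcc hnle] at h1
    have h2 := Subgroup.card_mul_index (Subgroup.center ↥R)
    rw [h1, hcard] at h2
    rw [hidx, hcard]
    have h3 : (p ^ (m - u) * p ^ (J - v) * Nat.card (Subgroup.center ↥R))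
        * (p ^ (m - u - e - v)) ^ 2 = (p ^ (e + J)) ^ 2 * (p ^ (m - u - e - v)) ^ 2 := by
      rw [mul_assoc, h2]
      simp only [← pow_add, ← pow_mul]
      congr 1
      omega
    exact Nat.eq_of_mul_eq_mul_right (pow_pos (pow_pos hpp.pos _) 2) h3
  have hab' : ∀ R : Subgroup G, IsMulCommutative ↥R →
      Nat.card ↥R * Nat.card ↥(Subgroup.center ↥R) = Nat.card ↥R ^ 2 := by
    intro R hR
    have : Subgroup.center ↥R = ⊤ := by
      rw [eq_top_iff]
      intro z _
      rw [Subgroup.mem_center_iff]
      intro g
      exact hR.is_comm.comm g z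
    rw [this, Subgroup.card_top, pow_two]
  have hmax : Cfsg.maxCentralProduct G = (commutator G).index ^ 2 := by
    unfold Cfsg.maxCentralProduct
    apply IsGreatest.csSup_eq
    constructor
    · obtain ⟨K, hK⟩ := Sylow.exists_subgroup_card_pow_prime p (G := G) (n := e + J)
        (by rw [h.hcard, ← pow_add]; exact pow_dvd_pow p (by omega))
      refine ⟨K, ?_⟩
      have hKab : IsMulCommutative K := (hS K).1.2 (by rw [hK, hidx])
      rw [hab' K hKab, hK, hidx]
    · rintro k ⟨R, rfl⟩
      by_cases hR : IsMulCommutative ↥R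
      · rw [hab' R hR]
        exact Nat.pow_le_pow_left ((hS R).1.1 hR) 2
      · rw [hna R hR]
  refine ⟨hmax, fun R => ?_⟩
  unfold Cfsg.IsCentrallyLarge
  rw [hmax]
  constructor
  · intro hR
    by_cases hRab : IsMulCommutative ↥R
    · right
      rw [hab' R hRab] at hR
      have : Nat.card R = (commutator G).index :=
        Nat.pow_left_injective (by norm_num : (2 : ℕ) ≠ 0) hR
      exact (hS R).2.2 this
    · left
      exact hRab
  · rintro (hR | hR)
    · exact hna R hR
    · have hRab : IsMulCommutative ↥R := hR.prop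
      rw [hab' R hRab, (hS R).2.1 hR]

end Cfsg.Agent.S3886
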