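-- Statement S3887: Chermak-Delgado measure in metacyclic p-groups (p odd).
import Mathlib
import Cfsg.Statements.S3887
import Cfsg.Agent.Lib.Helper68.Metacyclic4

set_option autoImplicit false
open Cfsg

namespace Cfsg.Agent.S3887

open Cfsg.Agent.Lib.Helper68

/-- Let p be an odd prime and G a finite metacyclic p-group (G has a cyclic normal subgroup with cyclic quotient). Then a subgroup R of G maximizes |R| · |C_G(R)| over all subgroups of G if and only if R contains the center of G. -/
theorem result {G : Type*} [Group G] [Finite G] {p : ℕ} [Fact p.Prime] (hp : p ≠ 2) (hG : IsPGroup p G) (hmc : Cfsg.IsMetacyclic G) (R : Subgroup G) : Cfsg.IsCentralizerLarge R ↔ Subgroup.center G ≤ R := by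
  have hpp : p.Prime := Fact.out
  obtain ⟨a, b, m, J, d, e, h⟩ := exists_MC hG hmc
  have hle : ∀ R : Subgroup G,
      Nat.card R * Nat.card (Subgroup.centralizer (R : Set G))
        ≤ Nat.card G * Nat.card (Subgroup.center G) ∧
      (Nat.card R * Nat.card (Subgroup.centralizer (R : Set G))
        = Nat.card G * Nat.card (Subgroup.center G) ↔ Subgroup.center G ≤ R) := by
    intro R
    have hcent : Subgroup.centralizer ((R ⊔ Subgroup.center G : Subgroup G) : Set G)
        = Subgroup.centralizer (R : Set G) := by
      apply le_antisymm
      · exact Subgroup.centralizer_le (SetLike.coe_subset_coe.2 le_sup_left)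
      · intro x hx
        rw [Subgroup.mem_centralizer_iff] at hx ⊢
        have h1 : R ⊔ Subgroup.center G ≤ Subgroup.centralizer ({x} : Set G) := by
          apply sup_le
          · intro r hr
            rw [Subgroup.mem_centralizer_iff]
            intro y hy
            rw [Set.mem_singleton_iff] at hy
            rw [hy]
            exact (hx r hr).symm
          · intro c hc
            rw [Subgroup.mem_centralizer_iff]
            intro y hy
            rw [Set.mem_singleton_iff] at hy
            rw [hy]
            exact Subgroup.mem_center_iff.1 hc x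
        intro z hz
        have h2 := h1 hz
        rw [Subgroup.mem_centralizer_iff] at h2
        exact (h2 x rfl).symm
    have h3 := h.card_centralizer hpp hp (R ⊔ Subgroup.center G) le_sup_right
    rw [hcent] at h3
    have h4 : Nat.card R ≤ Nat.card (R ⊔ Subgroup.center G : Subgroup G) :=
      Subgroup.card_le_of_le le_sup_left
    refine ⟨h3 ▸ Nat.mul_le_mul_right _ h4, ?_⟩
    rw [← h3]
    constructor
    · intro heq
      have h5 : Nat.card R = Nat.card (R ⊔ Subgroup.center G : Subgroup G) :=
        Nat.eq_of_mul_eq_mul_right Nat.card_pos heq
      have h6 : R = R ⊔ Subgroup.center G := Subgroup.eq_of_le_of_card_ge le_sup_left h5.ge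
      rw [h6]
      exact le_sup_right
    · intro hZ
      rw [sup_eq_left.2 hZ]
  have hmax : Cfsg.maxCentralizerProduct G = Nat.card G * Nat.card (Subgroup.center G) := by
    unfold Cfsg.maxCentralizerProduct
    apply IsGreatest.csSup_eq
    constructor
    · exact ⟨Subgroup.center G, (hle (Subgroup.center G)).2.2 le_rfl⟩
    · rintro k ⟨R, rfl⟩
      exact (hle R).1
  unfold Cfsg.IsCentralizerLarge
  rw [hmax]
  exact (hle R).2

end Cfsg.Agent.S3887
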