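import Cfsg.Statements.S3889

set_option autoImplicit false
open Cfsg

namespace Cfsg.Agent.S3889

/-- A finite abelian group that is the union of a family of proper subgroups any two of which intersect trivially is elementary abelian: its exponent is a prime. -/
theorem result {G : Type*} [CommGroup G] [Finite G] (𝓑 : Set (Subgroup G)) (hprop : ∀ B ∈ 𝓑, B ≠ ⊤)
    (hcov : ∀ g : G, ∃ B ∈ 𝓑, g ∈ B) (hdisj : ∀ B ∈ 𝓑, ∀ C ∈ 𝓑, B ≠ C → B ⊓ C = ⊥) :
    (Monoid.exponent G).Prime := by
  -- step A: elements of different components have the same order (one divisibility)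
  have key : ∀ A ∈ 𝓑, ∀ B ∈ 𝓑, A ≠ B → ∀ a ∈ A, ∀ b ∈ B, a ≠ 1 → b ^ orderOf a = 1 := by
    intro A hA B hB hAB a ha b hb ha1
    by_contra hne
    obtain ⟨C, hC, habC⟩ := hcov (a * b)
    have h1 : (a * b) ^ orderOf a = b ^ orderOf a := by
      rw [mul_pow, pow_orderOf_eq_one, one_mul]
    have h2 : b ^ orderOf a ∈ C := by
      rw [← h1]; exact C.pow_mem habC _
    have h3 : b ^ orderOf a ∈ B := B.pow_mem hb _
    have hCB : C = B := by
      by_contra hCB
      have := hdisj C hC B hB hCB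
      have h4 : b ^ orderOf a ∈ C ⊓ B := ⟨h2, h3⟩
      rw [this] at h4
      exact hne (Subgroup.mem_bot.mp h4)
    have haB : a ∈ B := by
      have : a * b ∈ B := hCB ▸ habC
      have := B.mul_mem this (B.inv_mem hb)
      simpa using this
    have h5 : a ∈ A ⊓ B := ⟨ha, haB⟩
    rw [hdisj A hA B hB hAB] at h5
    exact ha1 (Subgroup.mem_bot.mp h5)
  have key2 : ∀ A ∈ 𝓑, ∀ B ∈ 𝓑, A ≠ B → ∀ a ∈ A, ∀ b ∈ B, a ≠ 1 → b ≠ 1 → orderOf a = orderOf b := by
    intro A hA B hB hAB a ha b hb ha1 hb1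
    apply Nat.dvd_antisymm
    · exact orderOf_dvd_of_pow_eq_one (key B hB A hA (Ne.symm hAB) b hb a ha hb1)
    · exact orderOf_dvd_of_pow_eq_one (key A hA B hB hAB a ha b hb ha1)
  have key3 : ∀ a b : G, a ≠ 1 → b ≠ 1 → orderOf a = orderOf b := by
    intro a b ha1 hb1
    obtain ⟨A, hA, ha⟩ := hcov a
    obtain ⟨B, hB, hb⟩ := hcov b
    by_cases hAB : A = B
    · subst hAB
      have hAtop := hprop A hA
      obtain ⟨c, hc⟩ : ∃ c : G, c ∉ A := by
        by_contra hcon
        push Not at hcon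
        exact hAtop (Subgroup.eq_top_iff' A |>.mpr hcon)
      obtain ⟨C, hC, hcC⟩ := hcov c
      have hCA : A ≠ C := by
        rintro rfl
        exact hc hcC
      have hc1 : c ≠ 1 := by
        rintro rfl
        exact hc A.one_mem
      rw [key2 A hA C hC hCA a ha c hcC ha1 hc1, key2 A hA C hC hCA b hb c hcC hb1 hc1]
    · exact key2 A hA B hB hAB a ha b hb ha1 hb1
  -- G is nontrivial
  obtain ⟨g, hg1⟩ : ∃ g : G, g ≠ 1 := by
    obtain ⟨B, hB, -⟩ := hcov 1
    have hBtop := hprop B hB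
    by_contra hcon
    push Not at hcon
    apply hBtop
    rw [Subgroup.eq_top_iff']
    intro x
    rw [hcon x]
    exact B.one_mem
  have hexp : Monoid.exponent G = orderOf g := by
    apply Nat.dvd_antisymm
    · apply Monoid.exponent_dvd_of_forall_pow_eq_one
      intro x
      by_cases hx : x = 1
      · rw [hx, one_pow]
      · rw [key3 g x hg1 hx]
        exact pow_orderOf_eq_one x
    · exact Monoid.order_dvd_exponent g
  rw [hexp]
  have hpos : 0 < orderOf g := orderOf_pos g
  have hne1 : orderOf g ≠ 1 := by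
    rw [Ne, orderOf_eq_one_iff]
    exact hg1
  obtain ⟨q, hq, hqdvd⟩ := Nat.exists_prime_and_dvd hne1
  have hord : orderOf (g ^ (orderOf g / q)) = q := by
    rw [orderOf_pow' g (by
      intro h0
      have := Nat.div_pos (Nat.le_of_dvd hpos hqdvd) hq.pos
      omega)]
    rw [Nat.gcd_eq_right (Nat.div_dvd_of_dvd hqdvd)]
    exact Nat.div_div_self hqdvd hpos.ne'
  have hne : g ^ (orderOf g / q) ≠ 1 := by
    intro h
    rw [h, orderOf_one] at hord
    exact hq.one_lt.ne hord
  have := key3 g _ hg1 hne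
  rw [hord] at this
  rw [this]
  exact hq

end Cfsg.Agent.S3889
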