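import Cfsg.Statements.S3890
import Cfsg.Agent.Lib.Helper65.Cover2

set_option autoImplicit false
open Cfsg

namespace Cfsg.Agent.S3890

open Cfsg.Agent.Lib.Helper65

/-- A cover of a group is a finite set of proper subgroups whose union is the whole group; it is minimal when no cover has fewer members, and nilpotent when all its members are nilpotent. Let G be a finite group with trivial center admitting a nilpotent minimal cover 𝓐, and let P be an abelian Sylow p-subgroup of G that is not normal. Then either P is elementary abelian of order greater than p, or P is a Sylow p-subgroup of some member A of 𝓐, the normalizer N of P is a maximal subgroup of G, N meets each of its conjugates by elements outside N in a subgroup of order prime to p, and the centralizer of P equals A. -/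
theorem result {G : Type*} [Group G] [Finite G] (hZ : Subgroup.center G = ⊥) (𝓐 : Finset (Subgroup G))
    (h𝓐 : ((∀ A ∈ 𝓐, A ≠ ⊤) ∧ (∀ g : G, ∃ A ∈ 𝓐, g ∈ A)) ∧ (∀ 𝓑 : Finset (Subgroup G), (∀ A ∈ 𝓑, A ≠ ⊤) ∧ (∀ g : G, ∃ A ∈ 𝓑, g ∈ A) → 𝓐.card ≤ 𝓑.card) ∧ (∀ A ∈ 𝓐, Group.IsNilpotent ↥A)) {p : ℕ} [Fact p.Prime] (P : Sylow p G) (hab : IsMulCommutative ↥(P : Subgroup G))
    (hnn : ¬ (P : Subgroup G).Normal) :
    (Cfsg.IsElementaryAbelian p (P : Subgroup G) ∧ p < Nat.card ↥(P : Subgroup G)) ∨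
    (∃ A ∈ 𝓐, (P : Subgroup G) ≤ A ∧ ¬ p ∣ ((P : Subgroup G).subgroupOf A).index ∧
      IsCoatom (Subgroup.normalizer ((P : Subgroup G) : Set G)) ∧
      (∀ g : G, g ∉ Subgroup.normalizer ((P : Subgroup G) : Set G) →
        ¬ p ∣ Nat.card ↥(Subgroup.normalizer ((P : Subgroup G) : Set G) ⊓
          (Subgroup.normalizer ((P : Subgroup G) : Set G)).map (MulAut.conj g).toMonoidHom)) ∧
      Subgroup.centralizer ((P : Subgroup G) : Set G) = A) := by
  by_cases hel : Cfsg.IsElementaryAbelian p (P : Subgroup G) ∧ p < Nat.card ↥(P : Subgroup G)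
  · exact Or.inl hel
  right
  obtain ⟨hcov, hmin, hnil⟩ := h𝓐
  have hab' : ∀ u ∈ (P : Subgroup G), ∀ v ∈ (P : Subgroup G), u * v = v * u :=
    fun u hu v hv => setLike_mul_comm hu hv
  have hne : ¬ ((∀ a ∈ (P : Subgroup G), a ^ p = 1) ∧ p < Nat.card (P : Subgroup G)) := by
    rintro ⟨h1, h2⟩
    exact hel ⟨⟨hab, h1⟩, h2⟩
  obtain ⟨A, hA, hPA, hCA, hmax, hTI⟩ := cover_core hZ 𝓐 hcov hmin hnil P hab' hnn hne
  have hNtop : Subgroup.normalizer ((P : Subgroup G) : Set G) ≠ ⊤ := by
    intro h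
    exact hnn (Subgroup.normalizer_eq_top_iff.mp h)
  refine ⟨A, hA, hPA, ?_, ⟨hNtop, ?_⟩, hTI, hCA⟩
  · intro hdvd
    have h1 : ((P : Subgroup G).subgroupOf A).index ∣ (P : Subgroup G).index :=
      Subgroup.relIndex_dvd_index_of_le hPA
    exact P.not_dvd_index (hdvd.trans h1)
  · intro M hlt
    by_contra hM
    have hAM : A ≤ M := by
      rw [← hCA]
      exact (Subgroup.centralizer_le_normalizer _).trans hlt.le
    exact (not_le_of_gt hlt) (hmax M hM hAM)

end Cfsg.Agent.S3890
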