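import Cfsg.Statements.S3891
import Cfsg.Agent.Lib.Helper65.Cover2

set_option autoImplicit false
open Cfsg

namespace Cfsg.Agent.S3891

open Cfsg.Agent.Lib.Helper65

/-- A cover of a group is a finite set of proper subgroups whose union is the whole group; it is minimal when no cover has fewer members, and nilpotent when all its members are nilpotent. Let G be a finite group with trivial center admitting a nilpotent minimal cover, and let P be a non-normal Sylow p-subgroup of G that is cyclic, or abelian but not elementary abelian. Then the centralizer of P is nilpotent and the normalizer of P is the unique maximal subgroup of G containing the centralizer of P. -/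
theorem result {G : Type*} [Group G] [Finite G] (hZ : Subgroup.center G = ⊥) (𝓐 : Finset (Subgroup G))
    (h𝓐 : ((∀ A ∈ 𝓐, A ≠ ⊤) ∧ (∀ g : G, ∃ A ∈ 𝓐, g ∈ A)) ∧ (∀ 𝓑 : Finset (Subgroup G), (∀ A ∈ 𝓑, A ≠ ⊤) ∧ (∀ g : G, ∃ A ∈ 𝓑, g ∈ A) → 𝓐.card ≤ 𝓑.card) ∧ (∀ A ∈ 𝓐, Group.IsNilpotent ↥A)) {p : ℕ} [Fact p.Prime] (P : Sylow p G)
    (hP : IsCyclic ↥(P : Subgroup G) ∨ (IsMulCommutative ↥(P : Subgroup G) ∧ ¬ Cfsg.IsElementaryAbelian p (P : Subgroup G)))
    (hnn : ¬ (P : Subgroup G).Normal) :
    Group.IsNilpotent ↥(Subgroup.centralizer ((P : Subgroup G) : Set G)) ∧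
      IsCoatom (Subgroup.normalizer ((P : Subgroup G) : Set G)) ∧
      ∀ M : Subgroup G, IsCoatom M → Subgroup.centralizer ((P : Subgroup G) : Set G) ≤ M →
        M = Subgroup.normalizer ((P : Subgroup G) : Set G) := by
  have hp : p.Prime := Fact.out
  obtain ⟨hcov, hmin, hnil⟩ := h𝓐
  -- commutativity and the non-elementary condition
  have hboth : (∀ u ∈ (P : Subgroup G), ∀ v ∈ (P : Subgroup G), u * v = v * u) ∧
      ¬ ((∀ a ∈ (P : Subgroup G), a ^ p = 1) ∧ p < Nat.card (P : Subgroup G)) := by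
    rcases hP with hcyc | ⟨hcomm, hnel⟩
    · obtain ⟨g, hg⟩ := hcyc.exists_zpow_surjective
      constructor
      · intro u hu v hv
        obtain ⟨i, hi⟩ := hg ⟨u, hu⟩
        obtain ⟨l, hl⟩ := hg ⟨v, hv⟩
        have : (⟨u, hu⟩ : (P : Subgroup G)) * ⟨v, hv⟩ = ⟨v, hv⟩ * ⟨u, hu⟩ := by
          rw [← hi, ← hl]
          simp only
          rw [← zpow_add, ← zpow_add, add_comm]
        exact congrArg Subtype.val this
      · rintro ⟨h1, h2⟩
        have hgp : g ^ p = 1 := by
          apply Subtype.ext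
          have := h1 (g : G) g.2
          simpa using this
        have hord : orderOf g = Nat.card (P : Subgroup G) :=
          orderOf_eq_card_of_forall_mem_zpowers (fun x => by
            obtain ⟨i, hi⟩ := hg x
            exact ⟨i, hi⟩)
        have hdvd : orderOf g ∣ p := orderOf_dvd_of_pow_eq_one hgp
        have := Nat.le_of_dvd hp.pos hdvd
        omega
    · constructor
      · intro u hu v hv
        exact setLike_mul_comm hu hv
      · rintro ⟨h1, -⟩
        exact hnel ⟨hcomm, h1⟩
  obtain ⟨hab', hne⟩ := hboth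
  obtain ⟨A, hA, hPA, hCA, hmax, -⟩ := cover_core hZ 𝓐 hcov hmin hnil P hab' hnn hne
  have hNtop : Subgroup.normalizer ((P : Subgroup G) : Set G) ≠ ⊤ := by
    intro h
    exact hnn (Subgroup.normalizer_eq_top_iff.mp h)
  refine ⟨?_, ⟨hNtop, ?_⟩, ?_⟩
  · rw [hCA]; exact hnil A hA
  · intro M hlt
    by_contra hM
    have hAM : A ≤ M := by
      rw [← hCA]
      exact (Subgroup.centralizer_le_normalizer _).trans hlt.le
    exact (not_le_of_gt hlt) (hmax M hM hAM)
  · intro M hM hCM
    have hle : M ≤ Subgroup.normalizer ((P : Subgroup G) : Set G) :=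
      hmax M hM.1 (hCA ▸ hCM)
    by_contra hne'
    exact hNtop (hM.2 _ (lt_of_le_of_ne hle hne'))

end Cfsg.Agent.S3891
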