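import Cfsg.Statements.S3892
import Cfsg.Agent.Lib.Helper65.Cover

set_option autoImplicit false
open Cfsg

namespace Cfsg.Agent.S3892

open Equiv Cfsg.Agent.Lib.Helper65
open scoped Pointwise

/-- Data for the generic case `6 ≤ n`: two non-commuting even `p`-cycles with the same support
(a proper subset of the points), where `p ^ 2` does not divide `n !`. -/
theorem generic_data (n : ℕ) (hn : 6 ≤ n) : ∃ (p : ℕ) (x y g : Perm (Fin n)) (S : Set (Fin n)),
    p.Prime ∧ ¬ p ^ 2 ∣ n.factorial ∧ orderOf x = p ∧ orderOf y = p ∧ Perm.sign x = 1 ∧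
    Perm.sign y = 1 ∧ Perm.sign g = 1 ∧ x * y ≠ y * x ∧
    (∀ h : Perm (Fin n), h * x = x * h → h ∈ MulAction.stabilizer (Perm (Fin n)) S) ∧
    (∀ h : Perm (Fin n), h * y = y * h → h ∈ MulAction.stabilizer (Perm (Fin n)) S) ∧
    g ∉ MulAction.stabilizer (Perm (Fin n)) S := by
  obtain ⟨p, hp, hlt, hle⟩ := Nat.exists_prime_lt_and_le_two_mul (n / 2) (by omega)
  have h2p : n < 2 * p := by omega
  have hpn : p < n := by
    have h1 : p ≤ n := by omega
    rcases Nat.lt_or_ge p n with h | h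
    · exact h
    · exfalso
      have h2 : 2 ∣ p := ⟨n / 2, by omega⟩
      have h3 := (Nat.prime_dvd_prime_iff_eq Nat.prime_two hp).mp h2
      omega
  have hp5 : 5 ≤ p := by
    have h4 : 4 ≤ p := by omega
    rcases Nat.lt_or_ge p 5 with h | h
    · exfalso
      have : p = 4 := by omega
      rw [this] at hp
      exact absurd hp (by decide)
    · exact h
  have hsq : ¬ p ^ 2 ∣ n.factorial := by
    have hlog : Nat.log p n < 2 := by
      apply Nat.log_lt_of_lt_pow (by omega)
      nlinarith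
    rw [Nat.Prime.pow_dvd_factorial_iff hp hlog]
    have hdiv : n / p = 1 := Nat.div_eq_of_lt_le (by omega) (by omega)
    simp [hdiv]
  have : NeZero n := ⟨by omega⟩
  set i0 : Fin n := ⟨p - 1, by omega⟩ with hi0
  have hi00 : i0 ≠ 0 := by
    intro h
    have := congrArg Fin.val h
    simp only [hi0, Fin.val_zero] at this
    omega
  set x : Perm (Fin n) := Fin.cycleRange i0 with hx
  have hxord : orderOf x = p := by
    rw [← Equiv.Perm.lcm_cycleType, hx, Fin.cycleType_cycleRange hi00, Multiset.lcm_singleton,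
      normalize_eq]
    simp only [hi0]
    omega
  have hxsign : Perm.sign x = 1 := by
    rw [hx, Fin.sign_cycleRange]
    simp only [hi0]
    apply Even.neg_one_pow
    have hodd : Odd p := hp.odd_of_ne_two (by omega)
    obtain ⟨k, hk⟩ := hodd
    exact ⟨k, by omega⟩
  -- values of x
  have hx_lt : ∀ j : Fin n, j.val < p - 1 → (x j).val = j.val + 1 := by
    intro j hj
    rw [hx]
    exact Fin.coe_cycleRange_of_lt (by rw [Fin.lt_def]; exact hj)
  have hx_eq : ∀ j : Fin n, j.val = p - 1 → (x j).val = 0 := by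
    intro j hj
    have : j = i0 := Fin.ext hj
    rw [hx, this, Fin.cycleRange_self]
    rfl
  have hx_gt : ∀ j : Fin n, p - 1 < j.val → x j = j := by
    intro j hj
    rw [hx]
    exact Fin.cycleRange_of_gt (by rw [Fin.lt_def]; exact hj)
  set S : Set (Fin n) := {j : Fin n | j.val < p} with hS
  have hsupp : ∀ j : Fin n, x j ≠ j ↔ j ∈ S := by
    intro j
    constructor
    · intro h
      by_contra hj
      apply h
      apply hx_gt
      have : ¬ j.val < p := hj
      omega
    · intro hj h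
      have hj' : j.val < p := hj
      rcases Nat.lt_or_ge j.val (p - 1) with h1 | h1
      · have := hx_lt j h1
        rw [h] at this
        omega
      · have := hx_eq j (by omega)
        rw [h] at this
        omega
  set f0 : Fin n := ⟨0, by omega⟩ with hf0
  set f1 : Fin n := ⟨1, by omega⟩ with hf1
  set f2 : Fin n := ⟨2, by omega⟩ with hf2
  set f3 : Fin n := ⟨3, by omega⟩ with hf3
  set q : Fin n := ⟨p, hpn⟩ with hq
  have h01 : f0 ≠ f1 := by intro h; have := congrArg Fin.val h; simp [hf0, hf1] at this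
  have h02 : f0 ≠ f2 := by intro h; have := congrArg Fin.val h; simp [hf0, hf2] at this
  have h12 : f1 ≠ f2 := by intro h; have := congrArg Fin.val h; simp [hf1, hf2] at this
  have h03 : f0 ≠ f3 := by intro h; have := congrArg Fin.val h; simp [hf0, hf3] at this
  have h0q : f0 ≠ q := by intro h; have := congrArg Fin.val h; simp [hf0, hq] at this; omega
  have h1q : f1 ≠ q := by intro h; have := congrArg Fin.val h; simp [hf1, hq] at this; omega
  have h2q : f2 ≠ q := by intro h; have := congrArg Fin.val h; simp [hf2, hq] at this; omega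
  have hx0 : x f0 = f1 := Fin.ext (by rw [hx_lt f0 (by simp [hf0]; omega)])
  have hx1 : x f1 = f2 := Fin.ext (by rw [hx_lt f1 (by simp [hf1]; omega)])
  have hx2 : x f2 = f3 := Fin.ext (by rw [hx_lt f2 (by simp [hf2]; omega)])
  set τ : Perm (Fin n) := swap f0 f1 with hτ
  have hττ : ∀ b, τ (τ b) = b := fun b => swap_apply_self f0 f1 b
  set y : Perm (Fin n) := τ * x * τ with hy
  have hτS : ∀ b : Fin n, τ b ∈ S ↔ b ∈ S := by
    intro b
    by_cases hb0 : b = f0
    · rw [hb0, hτ, swap_apply_left]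
      simp only [hS, hf0, hf1, Set.mem_ofPred_eq]
      omega
    · by_cases hb1 : b = f1
      · rw [hb1, hτ, swap_apply_right]
        simp only [hS, hf0, hf1, Set.mem_ofPred_eq]
        omega
      · rw [hτ, swap_apply_of_ne_of_ne hb0 hb1]
  have hsuppy : ∀ j : Fin n, y j ≠ j ↔ j ∈ S := by
    intro j
    rw [← hτS j, ← hsupp (τ j)]
    simp only [hy, Perm.mul_apply]
    constructor
    · intro h h'
      apply h
      rw [h', hττ]
    · intro h h'
      apply h
      have := congrArg τ h'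
      rw [hττ] at this
      exact this
  have hyord : orderOf y = p := by
    rw [← hxord]
    have := MulEquiv.orderOf_eq (MulAut.conj τ) x
    rw [MulAut.conj_apply] at this
    rw [hy, ← this]
    congr 2
  have hysign : Perm.sign y = 1 := by
    rw [hy, Perm.sign_mul, Perm.sign_mul, hxsign, mul_one, hτ, Perm.sign_swap h01]
    simp
  set g : Perm (Fin n) := swap f0 q * swap f1 f2 with hg
  have hgsign : Perm.sign g = 1 := by
    rw [hg, Perm.sign_mul, Perm.sign_swap h0q, Perm.sign_swap h12]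
    simp
  refine ⟨p, x, y, g, S, hp, hsq, hxord, hyord, hxsign, hysign, hgsign, ?_, ?_, ?_, ?_⟩
  · -- x and y do not commute
    intro hcomm
    have h1 : (x * y) f0 = f3 := by
      simp only [hy, Perm.mul_apply]
      rw [hτ, swap_apply_left, hx1, swap_apply_of_ne_of_ne (Ne.symm h02) (Ne.symm h12), hx2]
    have h2 : (y * x) f0 = f0 := by
      simp only [hy, Perm.mul_apply]
      rw [hx0, hτ, swap_apply_right, hx0, swap_apply_right]
    rw [hcomm, h2] at h1
    exact h03 h1
  · intro h hh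
    rw [MulAction.mem_stabilizer_set]
    intro b
    rw [Perm.smul_def, ← hsupp (h b), ← hsupp b]
    have : x (h b) = h (x b) := by
      have := congrArg (fun σ : Perm (Fin n) => σ b) hh
      simp only [Perm.mul_apply] at this
      exact this.symm
    rw [this]
    exact (h.injective.ne_iff)
  · intro h hh
    rw [MulAction.mem_stabilizer_set]
    intro b
    rw [Perm.smul_def, ← hsuppy (h b), ← hsuppy b]
    have : y (h b) = h (y b) := by
      have := congrArg (fun σ : Perm (Fin n) => σ b) hh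
      simp only [Perm.mul_apply] at this
      exact this.symm
    rw [this]
    exact (h.injective.ne_iff)
  · intro hmem
    rw [MulAction.mem_stabilizer_set] at hmem
    have := hmem q
    rw [Perm.smul_def] at this
    have hgq : g q = f0 := by
      simp only [hg, Perm.mul_apply]
      rw [swap_apply_of_ne_of_ne (Ne.symm h1q) (Ne.symm h2q), swap_apply_right]
    rw [hgq] at this
    have h0S : f0 ∈ S := by
      simp only [hS, hf0, Set.mem_ofPred_eq]; omega
    have hqS : q ∉ S := by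
      simp only [hS, hq, Set.mem_ofPred_eq]; omega
    exact hqS (this.mp h0S)

theorem card_perm_fin (n : ℕ) : Nat.card (Perm (Fin n)) = n.factorial := by
  rw [Nat.card_eq_fintype_card, Fintype.card_perm, Fintype.card_fin]

theorem not_sq_dvd_card_alt (n p : ℕ) (h : ¬ p ^ 2 ∣ n.factorial) :
    ¬ p ^ 2 ∣ Nat.card ↥(alternatingGroup (Fin n)) := by
  intro hdvd
  apply h
  rw [← card_perm_fin]
  exact hdvd.trans (Subgroup.card_subgroup_dvd_card _)

set_option maxRecDepth 100000 in
theorem s4_x : ∀ g : Perm (Fin 4),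
    g * (swap 0 1 * swap 1 2) = (swap 0 1 * swap 1 2) * g → Perm.sign g = 1 := by
  decide

set_option maxRecDepth 100000 in
theorem s4_y : ∀ g : Perm (Fin 4),
    g * (swap 0 1 * swap 1 3) = (swap 0 1 * swap 1 3) * g → Perm.sign g = 1 := by
  decide

set_option maxRecDepth 1000000 in
theorem s5_x : ∀ g : Perm (Fin 5), g * (finRotate 5) = (finRotate 5) * g → Perm.sign g = 1 := by
  decide

set_option maxRecDepth 1000000 in
theorem s5_y : ∀ g : Perm (Fin 5),
    g * (swap 0 1 * finRotate 5 * swap 0 1) = (swap 0 1 * finRotate 5 * swap 0 1) * g →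
    Perm.sign g = 1 := by
  decide

set_option maxRecDepth 1000000 in
theorem a5_x : ∀ g : Perm (Fin 5), Perm.sign g = 1 →
    g * (swap 0 1 * swap 1 2) = (swap 0 1 * swap 1 2) * g → g 4 = 4 := by
  decide

set_option maxRecDepth 1000000 in
theorem a5_y : ∀ g : Perm (Fin 5), Perm.sign g = 1 →
    g * (swap 0 1 * swap 1 3) = (swap 0 1 * swap 1 3) * g → g 4 = 4 := by
  decide

theorem case_s4 : ¬ ∃ 𝓐 : Finset (Subgroup (Equiv.Perm (Fin 4))), ((∀ A ∈ 𝓐, A ≠ ⊤) ∧ (∀ g : (Equiv.Perm (Fin 4)), ∃ A ∈ 𝓐, g ∈ A)) ∧ (∀ 𝓑 : Finset (Subgroup (Equiv.Perm (Fin 4))), (∀ A ∈ 𝓑, A ≠ ⊤) ∧ (∀ g : (Equiv.Perm (Fin 4)), ∃ A ∈ 𝓑, g ∈ A) → 𝓐.card ≤ 𝓑.card) ∧ (∀ A ∈ 𝓐, Group.IsNilpotent ↥A) := by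
  have : Fact (Nat.Prime 3) := ⟨by decide⟩
  have hsq : ¬ 3 ^ 2 ∣ Nat.card (Perm (Fin 4)) := by
    rw [card_perm_fin]; decide
  refine no_nilpotent_minCover_of_pair 3 (pSubgroup_comm_of_not_sq_dvd 3 hsq)
    (swap 0 1 * swap 1 2) (swap 0 1 * swap 1 3) 1 1 ?_ ?_ ?_ (alternatingGroup (Fin 4)) ?_ ?_ ?_
  · rw [pow_one]; exact orderOf_eq_prime (by decide) (by decide)
  · rw [pow_one]; exact orderOf_eq_prime (by decide) (by decide)
  · decide
  · intro h
    have : (swap 0 1 : Perm (Fin 4)) ∈ alternatingGroup (Fin 4) := by rw [h]; exact Subgroup.mem_top _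
    rw [Equiv.Perm.mem_alternatingGroup] at this
    revert this
    decide
  · intro g hg
    exact Equiv.Perm.mem_alternatingGroup.mpr (s4_x g hg)
  · intro g hg
    exact Equiv.Perm.mem_alternatingGroup.mpr (s4_y g hg)

theorem case_s5 : ¬ ∃ 𝓐 : Finset (Subgroup (Equiv.Perm (Fin 5))), ((∀ A ∈ 𝓐, A ≠ ⊤) ∧ (∀ g : (Equiv.Perm (Fin 5)), ∃ A ∈ 𝓐, g ∈ A)) ∧ (∀ 𝓑 : Finset (Subgroup (Equiv.Perm (Fin 5))), (∀ A ∈ 𝓑, A ≠ ⊤) ∧ (∀ g : (Equiv.Perm (Fin 5)), ∃ A ∈ 𝓑, g ∈ A) → 𝓐.card ≤ 𝓑.card) ∧ (∀ A ∈ 𝓐, Group.IsNilpotent ↥A) := by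
  have : Fact (Nat.Prime 5) := ⟨by decide⟩
  have hsq : ¬ 5 ^ 2 ∣ Nat.card (Perm (Fin 5)) := by
    rw [card_perm_fin]; decide
  refine no_nilpotent_minCover_of_pair 5 (pSubgroup_comm_of_not_sq_dvd 5 hsq)
    (finRotate 5) (swap 0 1 * finRotate 5 * swap 0 1) 1 1 ?_ ?_ ?_ (alternatingGroup (Fin 5)) ?_ ?_ ?_
  · rw [pow_one]; exact orderOf_eq_prime (by decide) (by decide)
  · rw [pow_one]; exact orderOf_eq_prime (by decide) (by decide)
  · decide
  · intro h
    have : (swap 0 1 : Perm (Fin 5)) ∈ alternatingGroup (Fin 5) := by rw [h]; exact Subgroup.mem_top _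
    rw [Equiv.Perm.mem_alternatingGroup] at this
    revert this
    decide
  · intro g hg
    exact Equiv.Perm.mem_alternatingGroup.mpr (s5_x g hg)
  · intro g hg
    exact Equiv.Perm.mem_alternatingGroup.mpr (s5_y g hg)

theorem case_a5 : ¬ ∃ 𝓐 : Finset (Subgroup ↥(alternatingGroup (Fin 5))), ((∀ A ∈ 𝓐, A ≠ ⊤) ∧ (∀ g : ↥(alternatingGroup (Fin 5)), ∃ A ∈ 𝓐, g ∈ A)) ∧ (∀ 𝓑 : Finset (Subgroup ↥(alternatingGroup (Fin 5))), (∀ A ∈ 𝓑, A ≠ ⊤) ∧ (∀ g : ↥(alternatingGroup (Fin 5)), ∃ A ∈ 𝓑, g ∈ A) → 𝓐.card ≤ 𝓑.card) ∧ (∀ A ∈ 𝓐, Group.IsNilpotent ↥A) := by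
  have : Fact (Nat.Prime 3) := ⟨by decide⟩
  have hsq : ¬ 3 ^ 2 ∣ Nat.card ↥(alternatingGroup (Fin 5)) :=
    not_sq_dvd_card_alt 5 3 (by decide)
  have hxm : (swap 0 1 * swap 1 2 : Perm (Fin 5)) ∈ alternatingGroup (Fin 5) :=
    Equiv.Perm.mem_alternatingGroup.mpr (by decide)
  have hym : (swap 0 1 * swap 1 3 : Perm (Fin 5)) ∈ alternatingGroup (Fin 5) :=
    Equiv.Perm.mem_alternatingGroup.mpr (by decide)
  have hgm : (swap 2 3 * swap 3 4 : Perm (Fin 5)) ∈ alternatingGroup (Fin 5) :=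
    Equiv.Perm.mem_alternatingGroup.mpr (by decide)
  refine no_nilpotent_minCover_of_pair 3 (pSubgroup_comm_of_not_sq_dvd 3 hsq)
    ⟨_, hxm⟩ ⟨_, hym⟩ 1 1 ?_ ?_ ?_
    ((MulAction.stabilizer (Perm (Fin 5)) (4 : Fin 5)).subgroupOf (alternatingGroup (Fin 5)))
    ?_ ?_ ?_
  · rw [pow_one, Subgroup.orderOf_mk]; exact orderOf_eq_prime (by decide) (by decide)
  · rw [pow_one, Subgroup.orderOf_mk]; exact orderOf_eq_prime (by decide) (by decide)
  · intro h
    have := congrArg Subtype.val h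
    revert this
    simp only [Subgroup.coe_mul]
    decide
  · intro h
    have : (⟨_, hgm⟩ : ↥(alternatingGroup (Fin 5))) ∈
        (MulAction.stabilizer (Perm (Fin 5)) (4 : Fin 5)).subgroupOf (alternatingGroup (Fin 5)) := by
      rw [h]; exact Subgroup.mem_top _
    rw [Subgroup.mem_subgroupOf, MulAction.mem_stabilizer_iff, Perm.smul_def] at this
    have h' : (swap 2 3 * swap 3 4 : Perm (Fin 5)) 4 = 4 := this
    revert h'
    decide
  · intro g hg
    rw [Subgroup.mem_subgroupOf, MulAction.mem_stabilizer_iff, Perm.smul_def]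
    apply a5_x g.1 (Equiv.Perm.mem_alternatingGroup.mp g.2)
    have := congrArg Subtype.val hg
    simpa using this
  · intro g hg
    rw [Subgroup.mem_subgroupOf, MulAction.mem_stabilizer_iff, Perm.smul_def]
    apply a5_y g.1 (Equiv.Perm.mem_alternatingGroup.mp g.2)
    have := congrArg Subtype.val hg
    simpa using this

/-- A cover of a group is a finite set of proper subgroups whose union is the whole group; it is minimal when no cover has fewer members, and nilpotent when all its members are nilpotent. The alternating groups of degree at least 5 and the symmetric groups of degree at least 4 have no nilpotent minimal cover. -/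
theorem result (n : ℕ) :
    (5 ≤ n → ¬ ∃ 𝓐 : Finset (Subgroup ↥(alternatingGroup (Fin n))), ((∀ A ∈ 𝓐, A ≠ ⊤) ∧ (∀ g : ↥(alternatingGroup (Fin n)), ∃ A ∈ 𝓐, g ∈ A)) ∧ (∀ 𝓑 : Finset (Subgroup ↥(alternatingGroup (Fin n))), (∀ A ∈ 𝓑, A ≠ ⊤) ∧ (∀ g : ↥(alternatingGroup (Fin n)), ∃ A ∈ 𝓑, g ∈ A) → 𝓐.card ≤ 𝓑.card) ∧ (∀ A ∈ 𝓐, Group.IsNilpotent ↥A)) ∧
    (4 ≤ n → ¬ ∃ 𝓐 : Finset (Subgroup (Equiv.Perm (Fin n))), ((∀ A ∈ 𝓐, A ≠ ⊤) ∧ (∀ g : (Equiv.Perm (Fin n)), ∃ A ∈ 𝓐, g ∈ A)) ∧ (∀ 𝓑 : Finset (Subgroup (Equiv.Perm (Fin n))), (∀ A ∈ 𝓑, A ≠ ⊤) ∧ (∀ g : (Equiv.Perm (Fin n)), ∃ A ∈ 𝓑, g ∈ A) → 𝓐.card ≤ 𝓑.card) ∧ (∀ A ∈ 𝓐, Group.IsNilpotent ↥A)) := by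
  rcases Nat.lt_or_ge n 6 with hlt | hge
  · -- small cases
    constructor
    · intro h5
      have : n = 5 := by omega
      subst this
      exact case_a5
    · intro h4
      rcases Nat.lt_or_ge n 5 with h | h
      · have : n = 4 := by omega
        subst this
        exact case_s4
      · have : n = 5 := by omega
        subst this
        exact case_s5
  · obtain ⟨p, x, y, g, S, hp, hsq, hxord, hyord, hxsign, hysign, hgsign, hxy, hxS, hyS, hgS⟩ :=
      generic_data n hge
    have : Fact p.Prime := ⟨hp⟩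
    constructor
    · intro _
      have hxm : x ∈ alternatingGroup (Fin n) := Equiv.Perm.mem_alternatingGroup.mpr hxsign
      have hym : y ∈ alternatingGroup (Fin n) := Equiv.Perm.mem_alternatingGroup.mpr hysign
      have hgm : g ∈ alternatingGroup (Fin n) := Equiv.Perm.mem_alternatingGroup.mpr hgsign
      refine no_nilpotent_minCover_of_pair p
        (pSubgroup_comm_of_not_sq_dvd p (not_sq_dvd_card_alt n p hsq))
        ⟨x, hxm⟩ ⟨y, hym⟩ 1 1 ?_ ?_ ?_
        ((MulAction.stabilizer (Perm (Fin n)) S).subgroupOf (alternatingGroup (Fin n))) ?_ ?_ ?_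
      · rw [pow_one, Subgroup.orderOf_mk]; exact hxord
      · rw [pow_one, Subgroup.orderOf_mk]; exact hyord
      · intro h
        exact hxy (congrArg Subtype.val h)
      · intro h
        have : (⟨g, hgm⟩ : ↥(alternatingGroup (Fin n))) ∈
            (MulAction.stabilizer (Perm (Fin n)) S).subgroupOf (alternatingGroup (Fin n)) := by
          rw [h]; exact Subgroup.mem_top _
        rw [Subgroup.mem_subgroupOf] at this
        exact hgS this
      · intro a ha
        rw [Subgroup.mem_subgroupOf]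
        exact hxS a.1 (congrArg Subtype.val ha)
      · intro a ha
        rw [Subgroup.mem_subgroupOf]
        exact hyS a.1 (congrArg Subtype.val ha)
    · intro _
      refine no_nilpotent_minCover_of_pair p
        (pSubgroup_comm_of_not_sq_dvd p (by rw [card_perm_fin]; exact hsq))
        x y 1 1 ?_ ?_ hxy (MulAction.stabilizer (Perm (Fin n)) S) ?_ hxS hyS
      · rw [pow_one]; exact hxord
      · rw [pow_one]; exact hyord
      · intro h
        apply hgS
        rw [h]; exact Subgroup.mem_top _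

end Cfsg.Agent.S3892
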