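import Cfsg.Statements.S3894
import Cfsg.Agent.Lib.Helper79.NilCover.Glue
import Cfsg.Agent.Lib.Helper11.NilCover.CoverI
import Cfsg.Agent.Lib.Helper11.NilCover.CoverII
import Cfsg.Agent.Lib.Helper11.NilCover.Engel
import Cfsg.Agent.Lib.Helper67.NilCover.U
import Cfsg.Agent.Lib.Helper67.NilCover.UDual
import Cfsg.Agent.Lib.Helper61.NilCover.Center
import Cfsg.Agent.Lib.Helper61.NilCover.Centralizer
import Cfsg.Agent.Lib.Helper61.NilCover.Rigid
import Cfsg.Agent.Lib.Helper61.NilCover.CommDiag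
import Cfsg.Agent.Lib.Helper80.NilCover.NormOne
import Cfsg.Agent.Lib.Helper80.NilCover.Borel
import Cfsg.Agent.Lib.Helper80.NilCover.Special
import Cfsg.Agent.Lib.Helper3.NilCover.Proper

set_option autoImplicit false
open Cfsg

namespace Cfsg.Agent.S3894

/-- A cover of a group is a finite set of proper subgroups whose union is the whole group; it is minimal when no cover has fewer members, and nilpotent when all its members are nilpotent. Let F be a finite field with q elements and n ≥ 3, or n = 2 and q ≥ 4. Then no subgroup of PGL_n(F) = GL_n(F)/Z(GL_n(F)) containing the image of SL_n(F) has a nilpotent minimal cover. -/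
theorem result {F : Type*} [Field F] [Fintype F] (n : ℕ) (hn : 3 ≤ n ∨ (n = 2 ∧ 4 ≤ Fintype.card F))
    (G : Subgroup (GL (Fin n) F ⧸ Subgroup.center (GL (Fin n) F)))
    (hG : ((Matrix.SpecialLinearGroup.toGL : Matrix.SpecialLinearGroup (Fin n) F →* GL (Fin n) F).range).map
      (QuotientGroup.mk' (Subgroup.center (GL (Fin n) F))) ≤ G) :
    ¬ ∃ 𝓐 : Finset (Subgroup ↥G), ((∀ A ∈ 𝓐, A ≠ ⊤) ∧ (∀ g : ↥G, ∃ A ∈ 𝓐, g ∈ A)) ∧ (∀ 𝓑 : Finset (Subgroup ↥G), (∀ A ∈ 𝓑, A ≠ ⊤) ∧ (∀ g : ↥G, ∃ A ∈ 𝓑, g ∈ A) → 𝓐.card ≤ 𝓑.card) ∧ (∀ A ∈ 𝓐, Group.IsNilpotent ↥A) := by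
  rcases hn with hn | ⟨rfl, hq⟩
  · exact Cfsg.Agent.Lib.Helper79.NilCover.main_ge3
      Cfsg.Agent.Lib.Helper11.NilCover.pkgCoverI Cfsg.Agent.Lib.Helper11.NilCover.pkgEngel
      Cfsg.Agent.Lib.Helper67.NilCover.pkgU Cfsg.Agent.Lib.Helper67.NilCover.pkgUDual hn G hG
  · exact Cfsg.Agent.Lib.Helper79.NilCover.main_two
      Cfsg.Agent.Lib.Helper11.NilCover.pkgCoverII Cfsg.Agent.Lib.Helper61.NilCover.pkgCenter
      Cfsg.Agent.Lib.Helper61.NilCover.pkgCentralizer Cfsg.Agent.Lib.Helper61.NilCover.pkgRigid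
      Cfsg.Agent.Lib.Helper61.NilCover.pkgCommDiag Cfsg.Agent.Lib.Helper80.NilCover.pkgNormOne
      Cfsg.Agent.Lib.Helper3.NilCover.pkgProper Cfsg.Agent.Lib.Helper80.NilCover.pkgBorel
      Cfsg.Agent.Lib.Helper80.NilCover.pkgSpecial hq G hG

end Cfsg.Agent.S3894
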