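import Cfsg.Statements.S3903
import Cfsg.Agent.S4262
import Cfsg.Agent.Lib.Helper71.ClassSize

set_option autoImplicit false
open Cfsg

namespace Cfsg.Agent.S3903

open Cfsg.Agent.Lib.Helper71
open scoped Pointwise

universe u

variable {G : Type u} [Group G]

local notation "𝔐(" x ")" => Subgroup.centralizer ({x} : Set G)

theorem eq_one_of_isPrimePow_mul {p k m : ℕ} (hp : p.Prime) (hk : 0 < k) (hm : ¬ p ∣ m)
    (h : IsPrimePow (p ^ k * m)) : m = 1 := by
  rw [isPrimePow_nat_iff] at h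
  obtain ⟨q, j, hq, hj, hqj⟩ := h
  have hpq : p ∣ q ^ j := by rw [hqj]; exact Dvd.dvd.mul_right (dvd_pow_self p hk.ne') m
  have hpq' : p = q := (Nat.prime_dvd_prime_iff_eq hp hq).mp (hp.dvd_of_dvd_pow hpq)
  subst hpq'
  have hm' : m ∣ p ^ j := by rw [hqj]; exact Dvd.intro_left _ rfl
  obtain ⟨i, hi, rfl⟩ := (Nat.dvd_prime_pow hp).mp hm'
  rcases Nat.eq_zero_or_pos i with rfl | hi0
  · simp
  · exact absurd (dvd_pow_self p hi0.ne') hm

/-- an element commuting with a `p`-element outside `N` is a `p`-element -/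
theorem pow_order_of_commute [Finite G] (N : Subgroup G)
    (h : ∀ x : G, x ∉ N → IsPrimePow (orderOf x))
    {p k : ℕ} (hp : p.Prime) (hk : 0 < k) {x y : G} (hx : x ∉ N) (hox : orderOf x = p ^ k)
    (hxy : Commute x y) : ∃ a, orderOf y = p ^ a := by
  have hy0 : orderOf y ≠ 0 := (orderOf_pos y).ne'
  obtain ⟨a, m, hm, hym⟩ := Nat.exists_eq_pow_mul_and_not_dvd hy0 p hp.ne_one
  obtain ⟨u, hu⟩ : ∃ u, u = y ^ (p ^ a) := ⟨_, rfl⟩
  have hou : orderOf u = m := by
    rw [hu, orderOf_pow_of_dvd (pow_pos hp.pos a).ne' ⟨m, hym⟩, hym,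
      Nat.mul_div_cancel_left _ (pow_pos hp.pos a)]
  have hxu : Commute x u := by rw [hu]; exact hxy.pow_right _
  have hcop : Nat.Coprime (orderOf x) (orderOf u) := by
    rw [hox, hou]; exact Nat.Coprime.pow_left _ ((Nat.Prime.coprime_iff_not_dvd hp).mpr hm)
  have hoxu : orderOf (x * u) = p ^ k * m := by
    rw [hxu.orderOf_mul_eq_mul_orderOf_of_coprime hcop, hox, hou]
  have hxuN : x * u ∉ N := by
    intro hmem
    apply hx
    apply mem_of_pow_mem_of_coprime' N (a := m) (b := p ^ k)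
    · rw [← hou, ← hox]; exact hcop.symm
    · have h1 : (x * u) ^ m = x ^ m := by
        rw [hxu.mul_pow, ← hou, pow_orderOf_eq_one, mul_one]
      rw [← h1]; exact N.pow_mem hmem _
    · rw [← hox, pow_orderOf_eq_one]; exact N.one_mem
  have h2 := h _ hxuN
  rw [hoxu] at h2
  have h3 := eq_one_of_isPrimePow_mul hp hk hm h2
  exact ⟨a, by rw [hym, h3, mul_one]⟩

theorem mem_conj_smul_iff (H : Subgroup G) (c k : G) :
    k ∈ MulAut.conj c • H ↔ c⁻¹ * k * c ∈ H := by
  rw [Subgroup.mem_pointwise_smul_iff_inv_smul_mem, MulAut.smul_def, ← map_inv,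
    MulAut.conj_apply, inv_inv]

theorem cent_conj (x g : G) :
    MulAut.conj g • 𝔐(x) = 𝔐(g * x * g⁻¹) := by
  ext k
  rw [mem_conj_smul_iff, Cfsg.Agent.S4262.mem_cent, Cfsg.Agent.S4262.mem_cent]
  constructor
  · intro h1
    calc g * x * g⁻¹ * k = g * (x * (g⁻¹ * k * g)) * g⁻¹ := by group
      _ = g * ((g⁻¹ * k * g) * x) * g⁻¹ := by rw [h1]
      _ = k * (g * x * g⁻¹) := by group
  · intro h1
    calc x * (g⁻¹ * k * g) = g⁻¹ * (g * x * g⁻¹ * k) * g := by group
      _ = g⁻¹ * (k * (g * x * g⁻¹)) * g := by rw [h1]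
      _ = g⁻¹ * k * g * x := by group

theorem card_filter_mem [Fintype G] (H : Subgroup G) [DecidablePred (fun y => y ∈ H)] :
    (Finset.univ.filter (fun y => y ∈ H)).card = Nat.card H := by
  rw [Nat.card_eq_fintype_card, Fintype.card_subtype]

theorem card_diff_mul [Fintype G] (N Q : Subgroup G) [N.Normal]
    [DecidablePred (fun y => y ∈ N)] [DecidablePred (fun y => y ∈ Q)]
    (hNQ : N ⊔ Q = ⊤) :
    ((Finset.univ.filter (fun y => y ∉ N)).filter (fun y => y ∈ Q)).card * Q.index =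
      (Finset.univ.filter (fun y : G => y ∉ N)).card := by
  classical
  have hfin : Finite G := Finite.of_fintype G
  have h1 : Nat.card Q = Nat.card (N ⊓ Q : Subgroup G) * N.index := by
    have e1 : N.relIndex Q = N.index := by
      rw [← Subgroup.relIndex_sup_left (K := N) (H := Q), hNQ, Subgroup.relIndex_top_right]
    have e2 := Subgroup.relIndex_mul_relIndex ⊥ (N ⊓ Q) Q bot_le inf_le_right
    rw [Subgroup.relIndex_bot_left, Subgroup.relIndex_bot_left, Subgroup.inf_relIndex_right,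
      e1] at e2
    exact e2.symm
  have h2 : Nat.card N * N.index = Nat.card G := N.card_mul_index
  have h3 : Nat.card Q * Q.index = Nat.card G := Q.card_mul_index
  have h4 : (Finset.univ.filter (fun y : G => y ∉ N)).card + Nat.card N = Nat.card G := by
    rw [← card_filter_mem N, Nat.card_eq_fintype_card, ← Finset.card_univ, add_comm]
    exact Finset.card_filter_add_card_filter_not (s := Finset.univ) (fun y => y ∈ N)
  have h5 : ((Finset.univ.filter (fun y => y ∉ N)).filter (fun y => y ∈ Q)).card +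
      Nat.card (N ⊓ Q : Subgroup G) = Nat.card Q := by
    rw [← card_filter_mem (N ⊓ Q), ← card_filter_mem Q]
    have h := Finset.card_filter_add_card_filter_not
      (s := Finset.univ.filter (fun y => y ∈ Q)) (fun y => y ∈ N)
    rw [Finset.filter_filter, Finset.filter_filter] at h
    have hA : (Finset.univ.filter (fun y => y ∈ Q ∧ ¬ y ∈ N)) =
        (Finset.univ.filter (fun y => y ∉ N)).filter (fun y => y ∈ Q) := by
      ext y; simp [and_comm]
    have hB : (Finset.univ.filter (fun y => y ∈ Q ∧ y ∈ N)) =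
        Finset.univ.filter (fun y => y ∈ N ⊓ Q) := by
      ext y; simp [and_comm]
    rw [hA, hB] at h
    rw [← h, add_comm]
  have hNpos : 0 < N.index := Nat.pos_of_ne_zero Subgroup.index_ne_zero_of_finite
  have e1 : Nat.card (N ⊓ Q : Subgroup G) * Q.index * N.index = Nat.card N * N.index := by
    rw [h2, ← h3, h1]; ring
  have e2 : Nat.card (N ⊓ Q : Subgroup G) * Q.index = Nat.card N :=
    Nat.eq_of_mul_eq_mul_right hNpos e1
  have e3 : (((Finset.univ.filter (fun y => y ∉ N)).filter (fun y => y ∈ Q)).card +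
      Nat.card (N ⊓ Q : Subgroup G)) * Q.index =
      (Finset.univ.filter (fun y : G => y ∉ N)).card + Nat.card N := by rw [h5, h3, h4]
  rw [add_mul, e2] at e3
  exact Nat.add_right_cancel e3

/-- the second half: all centralizers outside `N` are Sylow `p`-subgroups and conversely -/
theorem solvable_of_sylow_cent [Finite G] (N : Subgroup G) [N.Normal] (p : ℕ) [hp : Fact p.Prime]
    (hcentSyl : ∀ y, y ∉ N → ∃ Q : Sylow p G, 𝔐(y) = (Q : Subgroup G))
    (hSylCent : ∀ Q : Sylow p G, ∃ y, y ∉ N ∧ 𝔐(y) = (Q : Subgroup G))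
    (hco : ∀ y, y ∉ N → IsCoatom 𝔐(y))
    (hsup : ∀ z, z ∉ N → N ⊔ 𝔐(z) = ⊤)
    (P₀ : Sylow p G) : Group.IsSolvable G := by
  classical
  obtain ⟨x₀, hx₀, hP₀⟩ := hSylCent P₀
  have hQco : ∀ Q : Sylow p G, IsCoatom (Q : Subgroup G) := by
    intro Q
    obtain ⟨y, hy, hQ⟩ := hSylCent Q
    rw [← hQ]; exact hco y hy
  have hQsup : ∀ Q : Sylow p G, N ⊔ (Q : Subgroup G) = ⊤ := by
    intro Q
    obtain ⟨y, hy, hQ⟩ := hSylCent Q
    rw [← hQ]; exact hsup y hy
  by_cases hnorm : (P₀ : Subgroup G).Normal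
  · have h1 : Group.IsSolvable (P₀ : Subgroup G) := by
      have := P₀.isPGroup'.isNilpotent
      infer_instance
    have h2 : Group.IsSolvable (G ⧸ (P₀ : Subgroup G)) :=
      Group.isSolvable_of_comm
        (Cfsg.Agent.S4262.quot_comm_of_normal_coatom (P₀ : Subgroup G) (hQco P₀))
    refine Group.isSolvable_of_ker_le_range (P₀ : Subgroup G).subtype
      (QuotientGroup.mk' (P₀ : Subgroup G)) ?_
    rw [QuotientGroup.ker_mk', Subgroup.range_subtype]
  have hnormalizer : Subgroup.normalizer (P₀ : Set G) = (P₀ : Subgroup G) := by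
    rcases (hQco P₀).le_iff.mp
      (Subgroup.le_normalizer : (P₀ : Subgroup G) ≤ Subgroup.normalizer (P₀ : Set G)) with h1 | h1
    · exact absurd (Subgroup.normalizer_eq_top_iff.mp h1) hnorm
    · exact h1
  have hnp : Nat.card (Sylow p G) = (P₀ : Subgroup G).index := by
    rw [P₀.card_eq_index_normalizer, hnormalizer]
  have hidx : ∀ Q : Sylow p G, (Q : Subgroup G).index = (P₀ : Subgroup G).index := by
    intro Q
    have h1 := (Q : Subgroup G).card_mul_index
    have h2 := (P₀ : Subgroup G).card_mul_index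
    have e1 : Nat.card (Q : Subgroup G) = Nat.card (P₀ : Subgroup G) := by
      rw [Q.card_eq_multiplicity, P₀.card_eq_multiplicity]
    rw [← h2, e1] at h1
    exact Nat.eq_of_mul_eq_mul_left Nat.card_pos h1
  have : Fintype G := Fintype.ofFinite G
  have : Fintype (Sylow p G) := Fintype.ofFinite _
  obtain ⟨S, hS⟩ : ∃ S : Finset G, S = Finset.univ.filter (fun y => y ∉ N) := ⟨_, rfl⟩
  have hSmem : ∀ y, y ∈ S ↔ y ∉ N := by intro y; rw [hS]; simp
  have hc1 : ∀ Q : Sylow p G,
      (S.filter (fun y => y ∈ (Q : Subgroup G))).card * (P₀ : Subgroup G).index = S.card := by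
    intro Q
    rw [hS, ← hidx Q]
    exact card_diff_mul N (Q : Subgroup G) (hQsup Q)
  have hPpos : 0 < (P₀ : Subgroup G).index := Nat.pos_of_ne_zero Subgroup.index_ne_zero_of_finite
  have hc3 : ∑ Q : Sylow p G, (S.filter (fun y => y ∈ (Q : Subgroup G))).card = S.card := by
    apply Nat.eq_of_mul_eq_mul_right hPpos
    rw [Finset.sum_mul, Finset.sum_congr rfl (fun Q _ => hc1 Q), Finset.sum_const,
      Finset.card_univ, smul_eq_mul, ← Nat.card_eq_fintype_card, hnp, mul_comm]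
  have hc4 : ∑ Q : Sylow p G, (S.filter (fun y => y ∈ (Q : Subgroup G))).card =
      ∑ y ∈ S, (Finset.univ.filter (fun Q : Sylow p G => y ∈ (Q : Subgroup G))).card := by
    simp_rw [Finset.card_filter]
    exact Finset.sum_comm
  have hself : ∀ y : G, y ∈ 𝔐(y) := fun y => Cfsg.Agent.S4262.mem_cent.mpr rfl
  have hc5 : ∀ y ∈ S,
      1 ≤ (Finset.univ.filter (fun Q : Sylow p G => y ∈ (Q : Subgroup G))).card := by
    intro y hy
    obtain ⟨Q, hQ⟩ := hcentSyl y ((hSmem y).mp hy)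
    apply Finset.card_pos.mpr
    refine ⟨Q, ?_⟩
    rw [Finset.mem_filter]
    refine ⟨Finset.mem_univ _, ?_⟩
    rw [← hQ]; exact hself y
  have hc6 : ∀ y ∈ S,
      1 = (Finset.univ.filter (fun Q : Sylow p G => y ∈ (Q : Subgroup G))).card := by
    apply (Finset.sum_eq_sum_iff_of_le hc5).mp
    rw [← hc4, hc3, Finset.sum_const, smul_eq_mul, mul_one]
  have huniq : ∀ y, y ∉ N → ∀ Q : Sylow p G, y ∈ (Q : Subgroup G) →
      𝔐(y) = (Q : Subgroup G) := by
    intro y hy Q hyQ
    obtain ⟨Q', hQ'⟩ := hcentSyl y hy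
    have h1 := (hc6 y ((hSmem y).mpr hy)).symm
    have h2 := Finset.card_le_one.mp h1.le
    have h3 : Q' = Q := h2 Q'
      (by rw [Finset.mem_filter]; exact ⟨Finset.mem_univ _, by rw [← hQ']; exact hself y⟩) Q
      (by rw [Finset.mem_filter]; exact ⟨Finset.mem_univ _, hyQ⟩)
    rw [hQ', h3]
  -- the Sylow subgroup is abelian
  have hab : ∀ a ∈ (P₀ : Subgroup G), ∀ b ∈ (P₀ : Subgroup G), a * b = b * a := by
    have key : ∀ a ∈ (P₀ : Subgroup G), a ∉ N → ∀ b ∈ (P₀ : Subgroup G), a * b = b * a := by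
      intro a ha haN b hb
      have h1 := huniq a haN P₀ ha
      rw [← h1] at hb
      exact Cfsg.Agent.S4262.mem_cent.mp hb
    intro a ha b hb
    by_cases haN : a ∈ N
    · have hx₀P : x₀ ∈ (P₀ : Subgroup G) := by rw [← hP₀]; exact hself x₀
      have h1 : a * x₀ ∉ N := fun hmem => hx₀ (by simpa using N.mul_mem (N.inv_mem haN) hmem)
      have h2 := key (a * x₀) (Subgroup.mul_mem _ ha hx₀P) h1 b hb
      have h3 := key x₀ hx₀P hx₀ b hb
      calc a * b = a * (b * x₀) * x₀⁻¹ := by group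
        _ = a * (x₀ * b) * x₀⁻¹ := by rw [h3]
        _ = (a * x₀ * b) * x₀⁻¹ := by group
        _ = b * (a * x₀) * x₀⁻¹ := by rw [h2]
        _ = b * a := by group
    · exact key a ha haN b hb
  have hPC : Subgroup.normalizer (P₀ : Set G) ≤
      Subgroup.centralizer (P₀ : Set G) := by
    rw [hnormalizer]
    intro a ha b hb
    exact hab b hb a ha
  have hcompl := MonoidHom.ker_transferSylow_isComplement' P₀ hPC
  obtain ⟨K, hK⟩ : ∃ K : Subgroup G, K = (MonoidHom.transferSylow P₀ hPC).ker := ⟨_, rfl⟩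
  rw [← hK] at hcompl
  have hKn : K.Normal := by rw [hK]; infer_instance
  have hKcard : Nat.card K = (P₀ : Subgroup G).index := hcompl.index_eq_card.symm
  have hKidx : K.index = Nat.card (P₀ : Subgroup G) := hcompl.symm.index_eq_card
  have hKp : ¬ p ∣ Nat.card K := by rw [hKcard]; exact P₀.not_dvd_index
  have hKne : Nat.card K ≠ 1 := by
    intro hK1
    rw [hKcard, Subgroup.index_eq_one] at hK1
    exact (hQco P₀).1 hK1
  obtain ⟨r, hr, hrK⟩ := Nat.exists_prime_and_dvd hKne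
  have : Fact r.Prime := ⟨hr⟩
  have hrp : r ≠ p := fun hrp => hKp (hrp ▸ hrK)
  obtain ⟨R⟩ : Nonempty (Sylow r K) := inferInstance
  obtain ⟨Rg, hRg⟩ : ∃ Rg : Subgroup G, Rg = (R : Subgroup K).map K.subtype := ⟨_, rfl⟩
  have hRgne : Rg ≠ ⊥ := by
    rw [hRg]
    intro hbot
    rw [Subgroup.map_eq_bot_iff_of_injective _ K.subtype_injective] at hbot
    exact R.ne_bot_of_dvd_card hrK hbot
  have hRgr : IsPGroup r Rg := by rw [hRg]; exact R.isPGroup'.map K.subtype
  have hRnotp : ∀ Q : Sylow p G, ¬ Rg ≤ (Q : Subgroup G) := by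
    intro Q hle
    have h1 : IsPGroup p Rg := Q.isPGroup'.to_le hle
    have h2 := IsPGroup.disjoint_of_ne r p hrp Rg Rg hRgr h1
    exact hRgne (disjoint_self.mp h2)
  obtain ⟨L, hL⟩ : ∃ L : Subgroup G, L = Subgroup.normalizer (Rg : Set G) := ⟨_, rfl⟩
  have hLK : L ⊔ K = ⊤ := by rw [hL, hRg]; exact Sylow.normalizer_sup_eq_top R
  have hdvd : Nat.card (P₀ : Subgroup G) ∣ Nat.card L := by
    rw [← hKidx, ← Subgroup.relIndex_top_right, ← hLK, Subgroup.relIndex_sup_right]
    exact Subgroup.relIndex_dvd_card K L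
  rw [P₀.card_eq_multiplicity] at hdvd
  obtain ⟨H, hH⟩ := Sylow.exists_subgroup_card_pow_prime p hdvd
  have hH' : Nat.card (H.map L.subtype) = p ^ (Nat.card G).factorization p := by
    rw [Subgroup.card_subtype, hH]
  obtain ⟨Q, hQ⟩ : ∃ Q : Sylow p G, (Q : Subgroup G) = H.map L.subtype :=
    ⟨Sylow.ofCard (H.map L.subtype) hH', Sylow.coe_ofCard _ _⟩
  have hQL : (Q : Subgroup G) ≤ L := by rw [hQ]; exact Subgroup.map_subtype_le H
  have hRL : Rg ≤ L := by rw [hL]; exact Subgroup.le_normalizer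
  have hLtop : L = ⊤ := by
    rcases (hQco Q).le_iff.mp hQL with h1 | h1
    · exact h1
    · exact absurd (h1 ▸ hRL) (hRnotp Q)
  have hRn : Rg.Normal := by
    rw [hL] at hLtop
    exact Subgroup.normalizer_eq_top_iff.mp hLtop
  have hRQ : Rg ⊔ (P₀ : Subgroup G) = ⊤ := by
    apply (hQco P₀).2
    apply lt_of_le_of_ne le_sup_right
    intro heq
    exact hRnotp P₀ (le_sup_left.trans heq.ge)
  have hquot : IsPGroup p (G ⧸ Rg) := by
    intro g
    obtain ⟨g, rfl⟩ := QuotientGroup.mk_surjective g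
    have hg : g ∈ ((Rg ⊔ (P₀ : Subgroup G) : Subgroup G) : Set G) := by rw [hRQ]; trivial
    rw [Subgroup.normal_mul] at hg
    obtain ⟨n, hn, c, hc, rfl⟩ := Set.mem_mul.mp hg
    obtain ⟨a, ha⟩ := P₀.isPGroup' ⟨c, hc⟩
    refine ⟨a, ?_⟩
    rw [QuotientGroup.mk_mul, (QuotientGroup.eq_one_iff n).mpr hn, one_mul,
      ← QuotientGroup.mk_pow]
    have h1 : c ^ p ^ a = 1 := congrArg Subtype.val ha
    rw [h1]; rfl
  have h1 : Group.IsSolvable Rg := by
    have := hRgr.isNilpotent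
    infer_instance
  have h2 : Group.IsSolvable (G ⧸ Rg) := by
    have := hquot.isNilpotent
    infer_instance
  refine Group.isSolvable_of_ker_le_range Rg.subtype (QuotientGroup.mk' Rg) ?_
  rw [QuotientGroup.ker_mk', Subgroup.range_subtype]

theorem result {G : Type*} [Group G] [Finite G] (N : Subgroup G) [N.Normal] (hN : N ≠ ⊤)
    (h : ∀ x : G, x ∉ N → IsPrimePow (orderOf x) ∧ IsCoatom (Subgroup.centralizer ({x} : Set G))) : Group.IsSolvable ↥N := by
  classical
  obtain ⟨x₀, hx₀⟩ : ∃ x : G, x ∉ N := by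
    by_contra hcon
    push Not at hcon
    exact hN (eq_top_iff.mpr fun x _ => hcon x)
  obtain ⟨p, k, hp, hk, hpk⟩ := (isPrimePow_nat_iff _).mp (h x₀ hx₀).1
  have : Fact p.Prime := ⟨hp⟩
  have hGN : Group.IsSolvable G → Group.IsSolvable N := fun hG =>
    Group.isSolvable_of_isSolvable_injective N.subtype_injective
  -- case: some centralizer contains N
  by_cases hNall : ∃ z, z ∉ N ∧ N ≤ Subgroup.centralizer ({z} : Set G)
  · obtain ⟨z, hz, hNz⟩ := hNall
    obtain ⟨q, j, hq, hj, hqj⟩ := (isPrimePow_nat_iff _).mp (h z hz).1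
    have : Fact q.Prime := ⟨hq⟩
    have hNq : IsPGroup q N := by
      intro n
      obtain ⟨a, ha⟩ := pow_order_of_commute N (fun x hx => (h x hx).1) hq hj hz hqj.symm
        (show Commute z (n : G) from Cfsg.Agent.S4262.mem_cent.mp (hNz n.2))
      refine ⟨a, Subtype.ext ?_⟩
      rw [Subgroup.coe_pow, ← ha, pow_orderOf_eq_one]; rfl
    have := hNq.isNilpotent
    infer_instance
  have hsup : ∀ z, z ∉ N → N ⊔ Subgroup.centralizer ({z} : Set G) = ⊤ := fun z hz => by
    apply (h z hz).2.2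
    apply lt_of_le_of_ne le_sup_right
    intro heq
    exact hNall ⟨z, hz, le_sup_left.trans heq.ge⟩
  have hdecomp : ∀ z, z ∉ N → ∀ g : G,
      ∃ n ∈ N, ∃ c ∈ Subgroup.centralizer ({z} : Set G), g = n * c := fun z hz g => by
    have hg : g ∈ ((N ⊔ Subgroup.centralizer ({z} : Set G) : Subgroup G) : Set G) := by
      rw [hsup z hz]; trivial
    rw [Subgroup.normal_mul] at hg
    obtain ⟨n, hn, c, hc, rfl⟩ := Set.mem_mul.mp hg
    exact ⟨n, hn, c, hc, rfl⟩
  -- every element outside N is a p-element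
  have hpel : ∀ y, y ∉ N → ∃ a, 0 < a ∧ orderOf y = p ^ a := by
    intro y hy
    obtain ⟨q, j, hq, hj, hqj⟩ := (isPrimePow_nat_iff _).mp (h y hy).1
    by_cases hqp : q = p
    · subst hqp
      exact ⟨j, hj, hqj.symm⟩
    · exfalso
      obtain ⟨n, hn, c, hc, rfl⟩ := hdecomp x₀ hx₀ y
      have hcN : c ∉ N := fun hcN => hy (N.mul_mem hn hcN)
      obtain ⟨a, ha⟩ := pow_order_of_commute N (fun x hx => (h x hx).1) hp hk hx₀ hpk.symm
        (show Commute x₀ c from Cfsg.Agent.S4262.mem_cent.mp hc)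
      apply hcN
      apply mem_of_pow_mem_of_coprime' N (a := q ^ j) (b := p ^ a)
      · exact Nat.Coprime.pow _ _ ((Nat.coprime_primes hq hp).mpr hqp)
      · rw [← QuotientGroup.eq_one_iff, QuotientGroup.mk_pow]
        have h1 : ((c : G) : G ⧸ N) = ((n * c : G) : G ⧸ N) := by
          rw [QuotientGroup.mk_mul, (QuotientGroup.eq_one_iff n).mpr hn, one_mul]
        rw [h1, ← QuotientGroup.mk_pow, hqj, pow_orderOf_eq_one]; rfl
      · rw [← ha, pow_orderOf_eq_one]; exact N.one_mem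
  have hcentp : ∀ y, y ∉ N → IsPGroup p (Subgroup.centralizer ({y} : Set G)) := by
    intro y hy c
    obtain ⟨b, hb, hyb⟩ := hpel y hy
    obtain ⟨a, ha⟩ := pow_order_of_commute N (fun x hx => (h x hx).1) hp hb hy hyb
        (show Commute y (c : G) from Cfsg.Agent.S4262.mem_cent.mp c.2)
    refine ⟨a, Subtype.ext ?_⟩
    rw [Subgroup.coe_pow, ← ha, pow_orderOf_eq_one]; rfl
  by_cases hGp : IsPGroup p G
  · have := hGp.isNilpotent
    exact hGN inferInstance
  have hSne : ∀ Q : Sylow p G, (Q : Subgroup G) ≠ ⊤ := by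
    intro Q hQ
    apply hGp
    intro g
    obtain ⟨a, ha⟩ := Q.isPGroup' ⟨g, by rw [hQ]; trivial⟩
    exact ⟨a, congrArg Subtype.val ha⟩
  have hcentSyl : ∀ y, y ∉ N →
      ∃ Q : Sylow p G, Subgroup.centralizer ({y} : Set G) = (Q : Subgroup G) := by
    intro y hy
    obtain ⟨Q, hQ⟩ := (hcentp y hy).exists_le_sylow
    refine ⟨Q, ?_⟩
    rcases (h y hy).2.le_iff.mp hQ with h1 | h1
    · exact absurd h1 (hSne Q)
    · exact h1.symm
  obtain ⟨P₀, hP₀⟩ := hcentSyl x₀ hx₀
  have hSylCent : ∀ Q : Sylow p G,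
      ∃ y, y ∉ N ∧ Subgroup.centralizer ({y} : Set G) = (Q : Subgroup G) := by
    intro Q
    obtain ⟨g, hg⟩ := MulAction.exists_smul_eq G P₀ Q
    refine ⟨g * x₀ * g⁻¹, ?_, ?_⟩
    · intro hmem
      apply hx₀
      have := (inferInstance : N.Normal).conj_mem _ hmem g⁻¹
      simpa [mul_assoc] using this
    · rw [← hg, Sylow.smul_def, Sylow.pointwise_smul_def, ← hP₀, cent_conj]
  exact hGN (solvable_of_sylow_cent N p hcentSyl hSylCent (fun y hy => (h y hy).2) hsup P₀)

end Cfsg.Agent.S3903
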