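import Cfsg.Statements.S3904
import Cfsg.Agent.S4262

set_option autoImplicit false
open Cfsg

namespace Cfsg.Agent.S3904

open Cfsg.Agent.Lib.Helper71

universe u

variable {G : Type u} [Group G]

/-- a normal coatom of a finite group has prime index -/
theorem index_prime_of_normal_coatom [Finite G] (M : Subgroup G) [M.Normal] (hM : IsCoatom M) :
    M.index.Prime := by
  have h1 : M.index ≠ 1 := fun h => hM.1 (Subgroup.index_eq_one.mp h)
  obtain ⟨r, hr, hrd⟩ := Nat.exists_prime_and_dvd h1
  have : Fact r.Prime := ⟨hr⟩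
  have hcard : Nat.card (G ⧸ M) = M.index := rfl
  obtain ⟨g, hg⟩ := exists_prime_orderOf_dvd_card' r (by rw [hcard]; exact hrd)
  have hsurj := QuotientGroup.mk'_surjective M
  have hL : Subgroup.zpowers g ≠ ⊥ := by
    rw [Ne, Subgroup.zpowers_eq_bot]
    intro h
    rw [h, orderOf_one] at hg
    exact hr.one_lt.ne hg
  have hle : M ≤ Subgroup.comap (QuotientGroup.mk' M) (Subgroup.zpowers g) := by
    intro m hm
    rw [Subgroup.mem_comap]
    have : (QuotientGroup.mk' M) m = 1 := (QuotientGroup.eq_one_iff m).mpr hm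
    rw [this]; exact Subgroup.one_mem _
  have htop : Subgroup.comap (QuotientGroup.mk' M) (Subgroup.zpowers g) = ⊤ := by
    rcases hM.le_iff.mp hle with h | h
    · exact h
    · exfalso
      apply hL
      apply Subgroup.comap_injective hsurj
      rw [h, MonoidHom.comap_bot, QuotientGroup.ker_mk']
  have hz : Subgroup.zpowers g = ⊤ := by
    apply Subgroup.comap_injective hsurj
    rw [htop, Subgroup.comap_top]
  have : Nat.card (G ⧸ M) = r := by
    rw [← hg, ← Nat.card_zpowers, hz, Subgroup.card_top]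
  rw [← hcard, this]; exact hr

/-- commutators lie in every normal coatom -/
theorem comm_mem_of_normal_coatom (M : Subgroup G) [M.Normal] (hM : IsCoatom M) (a b : G) :
    a⁻¹ * b⁻¹ * a * b ∈ M := by
  have h := S4262.quot_comm_of_normal_coatom M hM (a : G ⧸ M) (b : G ⧸ M)
  rw [← QuotientGroup.mk_mul, ← QuotientGroup.mk_mul] at h
  have h2 := QuotientGroup.eq.mp h.symm
  have e : a⁻¹ * b⁻¹ * a * b = (b * a)⁻¹ * (a * b) := by group
  rw [e]; exact h2

theorem exists_not_mem_two (H K : Subgroup G) (hH : H ≠ ⊤) (hK : K ≠ ⊤) :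
    ∃ w : G, w ∉ H ∧ w ∉ K := by
  obtain ⟨a, ha⟩ : ∃ a : G, a ∉ K := by
    by_contra hne
    push Not at hne
    exact hK (eq_top_iff.mpr (fun g _ => hne g))
  obtain ⟨b, hb⟩ : ∃ b : G, b ∉ H := by
    by_contra hne
    push Not at hne
    exact hH (eq_top_iff.mpr (fun g _ => hne g))
  by_cases haH : a ∈ H
  · by_cases hbK : b ∈ K
    · refine ⟨a * b, ?_, ?_⟩
      · intro h
        exact hb ((Subgroup.mul_mem_cancel_left H haH).mp h)
      · intro h
        exact ha ((Subgroup.mul_mem_cancel_right K hbK).mp h)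
    · exact ⟨b, hb, hbK⟩
  · exact ⟨a, haH, ha⟩

theorem inv_conj_pow (g x : G) (n : ℕ) : (g⁻¹ * x * g) ^ n = g⁻¹ * x ^ n * g := by
  have := conj_pow (a := g⁻¹) (b := x) (i := n)
  rwa [inv_inv] at this

/-- class-two power argument -/
theorem pow_mem_center_of_not_commute
    (hcomm : ∀ a b : G, a⁻¹ * b⁻¹ * a * b ∈ Subgroup.center G)
    (h : ∀ x : G, x ∉ Subgroup.center G → IsCoatom (Subgroup.centralizer ({x} : Set G)))
    (r : ℕ) {u v : G} (hur : u ^ r ∈ Subgroup.center G) (huv : u * v ≠ v * u) :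
    v ^ r ∈ Subgroup.center G := by
  by_contra hvr
  have hv : v ∉ Subgroup.center G := fun hv => hvr (Subgroup.pow_mem _ hv r)
  have hle : Subgroup.centralizer ({v} : Set G) ≤ Subgroup.centralizer ({v ^ r} : Set G) :=
    S4262.cent_pow_le v r
  have heq : Subgroup.centralizer ({v ^ r} : Set G) = Subgroup.centralizer ({v} : Set G) := by
    rcases (h v hv).le_iff.mp hle with h1 | h1
    · exact absurd h1 (h _ hvr).1
    · exact h1
  apply huv
  have hu : u ∈ Subgroup.centralizer ({v} : Set G) := by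
    rw [← heq, S4262.mem_cent]
    -- `u` commutes with `v ^ r`
    obtain ⟨c, hc⟩ : ∃ c, c = u⁻¹ * v⁻¹ * u * v := ⟨_, rfl⟩
    have hcZ : c ∈ Subgroup.center G := by rw [hc]; exact hcomm u v
    have hcc : ∀ g : G, Commute g c := fun g => Subgroup.mem_center_iff.mp hcZ g
    have h1 : v⁻¹ * u * v = u * c := by rw [hc]; group
    have h2 : (v⁻¹ * u * v) ^ r = u ^ r := by
      rw [inv_conj_pow]
      have := Subgroup.mem_center_iff.mp hur v
      calc v⁻¹ * u ^ r * v = v⁻¹ * (u ^ r * v) := by group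
        _ = v⁻¹ * (v * u ^ r) := by rw [this]
        _ = u ^ r := by group
    have h3 : c ^ r = 1 := by
      rw [h1, (hcc u).mul_pow] at h2
      exact mul_left_cancel (h2.trans (mul_one _).symm)
    have h4 : u⁻¹ * v * u = v * c⁻¹ := by rw [hc]; group
    have h5 : (u⁻¹ * v * u) ^ r = v ^ r := by
      rw [h4, ((hcc v).inv_right).mul_pow, inv_pow, h3, inv_one, mul_one]
    rw [inv_conj_pow] at h5
    calc v ^ r * u = u * (u⁻¹ * v ^ r * u) := by group
      _ = u * v ^ r := by rw [h5]
  exact (S4262.mem_cent.mp hu).symm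

/-- if all non-central centralizers are normal, `G/Z(G)` is elementary abelian -/
theorem elemAb_of_all_normal [Finite G] (hna : ¬ IsMulCommutative G)
    (h : ∀ x : G, x ∉ Subgroup.center G → IsCoatom (Subgroup.centralizer ({x} : Set G)))
    (hn : ∀ x : G, x ∉ Subgroup.center G → (Subgroup.centralizer ({x} : Set G)).Normal) :
    ∃ p : ℕ, p.Prime ∧ Cfsg.IsElementaryAbelian p (⊤ : Subgroup (G ⧸ Subgroup.center G)) := by
  have hcomm : ∀ a b : G, a⁻¹ * b⁻¹ * a * b ∈ Subgroup.center G := by
    intro a b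
    rw [Subgroup.mem_center_iff]
    intro g
    by_cases hg : g ∈ Subgroup.center G
    · exact (Subgroup.mem_center_iff.mp hg _).symm
    · have := hn g hg
      have hc := comm_mem_of_normal_coatom _ (h g hg) a b
      rw [Subgroup.mem_centralizer_singleton_iff] at hc
      exact hc.symm
  have hZtop : Subgroup.center G ≠ ⊤ := by
    intro htop
    apply hna
    refine ⟨⟨fun a b => ?_⟩⟩
    have : b ∈ Subgroup.center G := by rw [htop]; trivial
    exact Subgroup.mem_center_iff.mp this a
  have h1 : (Subgroup.center G).index ≠ 1 := fun h => hZtop (Subgroup.index_eq_one.mp h)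
  obtain ⟨r, hr, hrd⟩ := Nat.exists_prime_and_dvd h1
  have : Fact r.Prime := ⟨hr⟩
  have hcard : Nat.card (G ⧸ Subgroup.center G) = (Subgroup.center G).index := rfl
  obtain ⟨ubar, hubar⟩ := exists_prime_orderOf_dvd_card' r (by rw [hcard]; exact hrd)
  obtain ⟨u, rfl⟩ := QuotientGroup.mk_surjective ubar
  have huZ : u ∉ Subgroup.center G := by
    intro hu
    rw [(QuotientGroup.eq_one_iff u).mpr hu, orderOf_one] at hubar
    exact hr.one_lt.ne hubar
  have hur : u ^ r ∈ Subgroup.center G := by
    rw [← QuotientGroup.eq_one_iff, QuotientGroup.mk_pow, ← hubar, pow_orderOf_eq_one]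
  have hall : ∀ v : G, v ^ r ∈ Subgroup.center G := by
    intro v
    by_cases huv : u * v = v * u
    · by_cases hv : v ∈ Subgroup.center G
      · exact Subgroup.pow_mem _ hv r
      · obtain ⟨w, hwu, hwv⟩ := exists_not_mem_two _ _ (h u huZ).1 (h v hv).1
        rw [S4262.mem_cent] at hwu hwv
        have hwr : w ^ r ∈ Subgroup.center G :=
          pow_mem_center_of_not_commute hcomm h r hur hwu
        exact pow_mem_center_of_not_commute hcomm h r hwr (fun e => hwv e.symm)
    · exact pow_mem_center_of_not_commute hcomm h r hur huv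
  refine ⟨r, hr, ⟨⟨fun a b => Subtype.ext ?_⟩⟩, ?_⟩
  · show (a : G ⧸ Subgroup.center G) * b = b * a
    obtain ⟨a', ha'⟩ := QuotientGroup.mk_surjective (a : G ⧸ Subgroup.center G)
    obtain ⟨b', hb'⟩ := QuotientGroup.mk_surjective (b : G ⧸ Subgroup.center G)
    rw [← ha', ← hb', ← QuotientGroup.mk_mul, ← QuotientGroup.mk_mul]
    apply QuotientGroup.eq.mpr
    have e : (a' * b')⁻¹ * (b' * a') = b'⁻¹ * a'⁻¹ * b' * a' := by group
    rw [e]
    exact hcomm b' a'
  · intro a _
    obtain ⟨a', rfl⟩ := QuotientGroup.mk_surjective a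
    rw [← QuotientGroup.mk_pow, QuotientGroup.eq_one_iff]
    exact hall a'

/-- if some non-central centralizer is not normal, then `G/Z(G)` has trivial centre -/
theorem center_quot_eq_bot
    (h : ∀ x : G, x ∉ Subgroup.center G → IsCoatom (Subgroup.centralizer ({x} : Set G)))
    {x : G} (hx : x ∉ Subgroup.center G)
    (hxn : ¬ (Subgroup.centralizer ({x} : Set G)).Normal) :
    Subgroup.center (G ⧸ Subgroup.center G) = ⊥ := by
  rw [eq_bot_iff]
  intro wbar hwbar
  obtain ⟨w, rfl⟩ := QuotientGroup.mk_surjective wbar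
  rw [Subgroup.mem_bot]
  by_contra hw1
  have hw : w ∉ Subgroup.center G := fun hw => hw1 ((QuotientGroup.eq_one_iff w).mpr hw)
  have hwc : ∀ g : G, w⁻¹ * g⁻¹ * w * g ∈ Subgroup.center G := by
    intro g
    have h1 := Subgroup.mem_center_iff.mp hwbar (g : G ⧸ Subgroup.center G)
    rw [← QuotientGroup.mk_mul, ← QuotientGroup.mk_mul] at h1
    have h2 := QuotientGroup.eq.mp h1
    have e : w⁻¹ * g⁻¹ * w * g = (g * w)⁻¹ * (w * g) := by group
    rw [e]; exact h2
  -- `w` lies in every non-normal centralizer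
  have hkey : ∀ y : G, y ∉ Subgroup.center G →
      ¬ (Subgroup.centralizer ({y} : Set G)).Normal → w ∈ Subgroup.centralizer ({y} : Set G) := by
    intro y hy hyn
    have hco := h y hy
    have hNM : Subgroup.normalizer ((Subgroup.centralizer ({y} : Set G) : Subgroup G) : Set G) =
        Subgroup.centralizer ({y} : Set G) := by
      rcases hco.le_iff.mp (Subgroup.le_normalizer (H := Subgroup.centralizer ({y} : Set G)))
        with h1 | h1
      · exact absurd (Subgroup.normalizer_eq_top_iff.mp h1) hyn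
      · exact h1
    rw [← hNM, Subgroup.mem_normalizer_iff]
    intro m
    have hcm : w⁻¹ * m⁻¹ * w * m ∈ Subgroup.centralizer ({y} : Set G) :=
      Subgroup.center_le_centralizer _ (hwc m)
    have e : w * m * w⁻¹ = m * (w⁻¹ * m⁻¹ * w * m) := by
      have hc := Subgroup.mem_center_iff.mp (hwc m) w
      calc w * m * w⁻¹ = m * (m⁻¹ * w * m * w⁻¹) := by group
        _ = m * (w * (w⁻¹ * m⁻¹ * w * m) * w⁻¹) := by group
        _ = m * ((w⁻¹ * m⁻¹ * w * m) * w * w⁻¹) := by rw [hc]
        _ = m * (w⁻¹ * m⁻¹ * w * m) := by group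
    rw [e]
    exact (Subgroup.mul_mem_cancel_right _ hcm).symm
  have hxw : x * w = w * x := S4262.mem_cent.mp (hkey x hx hxn)
  obtain ⟨y, hy⟩ : ∃ y : G, y ∉ Subgroup.centralizer ({w} : Set G) := by
    by_contra hne
    push Not at hne
    exact (h w hw).1 (eq_top_iff.mpr (fun g _ => hne g))
  have hyZ : y ∉ Subgroup.center G := fun hy' => hy (Subgroup.center_le_centralizer _ hy')
  have hyn : (Subgroup.centralizer ({y} : Set G)).Normal := by
    by_contra hyn
    apply hy
    rw [S4262.mem_cent]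
    exact (S4262.mem_cent.mp (hkey y hyZ hyn)).symm
  have hxy : x * y ∉ Subgroup.centralizer ({w} : Set G) := by
    intro hxy
    apply hy
    have hxw' : x ∈ Subgroup.centralizer ({w} : Set G) := by
      rw [S4262.mem_cent]; exact hxw.symm
    exact (Subgroup.mul_mem_cancel_left _ hxw').mp hxy
  have hxyZ : x * y ∉ Subgroup.center G := fun h' => hxy (Subgroup.center_le_centralizer _ h')
  have hxyn : (Subgroup.centralizer ({x * y} : Set G)).Normal := by
    by_contra hxyn
    apply hxy
    rw [S4262.mem_cent]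
    exact (S4262.mem_cent.mp (hkey (x * y) hxyZ hxyn)).symm
  -- all commutators centralize `x`
  have hcx : ∀ a b : G, a⁻¹ * b⁻¹ * a * b ∈ Subgroup.centralizer ({x} : Set G) := by
    intro a b
    have h1 := comm_mem_of_normal_coatom _ (h y hyZ) a b
    have h2 := comm_mem_of_normal_coatom _ (h (x * y) hxyZ) a b
    rw [S4262.mem_cent] at h1 h2 ⊢
    obtain ⟨c, hc⟩ : ∃ c, c = a⁻¹ * b⁻¹ * a * b := ⟨_, rfl⟩
    rw [← hc] at h1 h2 ⊢
    have e : x * c * y = c * x * y := by
      calc x * c * y = x * (c * y) := by group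
        _ = x * (y * c) := by rw [h1]
        _ = x * y * c := by group
        _ = c * (x * y) := h2
        _ = c * x * y := by group
    exact mul_right_cancel e
  apply hxn
  refine ⟨fun m hm g => ?_⟩
  have e : g * m * g⁻¹ = m * (m⁻¹ * g⁻¹⁻¹ * m * g⁻¹) := by group
  rw [e]
  exact Subgroup.mul_mem _ hm (hcx m g⁻¹)

/-- trivial centre, all centralizers maximal: a normal subgroup which is the centralizer of each
of its non-identity elements -/
theorem exists_normal_cent [Finite G] (hZ : Subgroup.center G = ⊥) (hnt : Nontrivial G)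
    (hC : ∀ x : G, x ≠ 1 → IsCoatom (Subgroup.centralizer ({x} : Set G))) :
    ∃ N : Subgroup G, N.Normal ∧ N ≠ ⊥ ∧
      ∀ k ∈ N, k ≠ 1 → Subgroup.centralizer ({k} : Set G) = N := by
  by_cases hex : ∃ x : G, x ≠ 1 ∧ ∀ a ∈ Subgroup.centralizer ({x} : Set G),
      ∀ b ∈ Subgroup.centralizer ({x} : Set G), a * b = b * a
  swap
  · exfalso
    push Not at hex
    apply S4262.false_of_nonabelian hZ hnt hC
    intro x hx hab
    obtain ⟨a, ha, b, hb, hne⟩ := hex x hx
    exact hne (hab a ha b hb)
  obtain ⟨x, hx, hab⟩ := hex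
  obtain ⟨M, hM⟩ : ∃ M, M = Subgroup.centralizer ({x} : Set G) := ⟨_, rfl⟩
  rw [← hM] at hab
  have hMco : IsCoatom M := by rw [hM]; exact hC x hx
  have hxM : x ∈ M := by rw [hM, S4262.mem_cent]
  have hcentM : ∀ y ∈ M, y ≠ 1 → Subgroup.centralizer ({y} : Set G) = M := by
    intro y hy hy1
    symm
    rw [hM]
    apply S4262.cent_eq_of_le hC hx hy1
    rw [← hM]
    intro g hg
    rw [S4262.mem_cent]
    exact hab y hy g hg
  have hMbot : M ≠ ⊥ := by
    intro h
    rw [h, Subgroup.mem_bot] at hxM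
    exact hx hxM
  by_cases hnorm : M.Normal
  · exact ⟨M, hnorm, hMbot, hcentM⟩
  · have hNM : Subgroup.normalizer (M : Set G) = M := by
      rcases hMco.le_iff.mp (Subgroup.le_normalizer (H := M)) with h1 | h1
      · exact absurd (Subgroup.normalizer_eq_top_iff.mp h1) hnorm
      · exact h1
    have hFrob : Cfsg.IsFrobeniusComplement M := by
      rw [isFrobeniusComplement_iff]
      refine ⟨hMbot, hMco.1, ?_⟩
      intro g hg k hk hk2
      by_contra hk1
      apply hg
      have hk3 : g⁻¹ * k * g ≠ 1 := by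
        intro h
        apply hk1
        have e : k = g * (g⁻¹ * k * g) * g⁻¹ := by group
        rw [e, h]; group
      -- `M = C(k)` and `M = C(g⁻¹ k g)`, so `g` normalizes `M`
      have hginv : g⁻¹ ∈ Subgroup.normalizer (M : Set G) := by
        rw [Subgroup.mem_normalizer_iff]
        intro m
        rw [inv_inv]
        constructor
        · intro hm
          rw [← hcentM _ hk2 hk3, S4262.mem_cent]
          have hmk : m * k = k * m := hab m hm k hk
          calc g⁻¹ * k * g * (g⁻¹ * m * g) = g⁻¹ * (k * m) * g := by group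
            _ = g⁻¹ * (m * k) * g := by rw [hmk]
            _ = g⁻¹ * m * g * (g⁻¹ * k * g) := by group
        · intro hm
          rw [← hcentM k hk hk1, S4262.mem_cent]
          have hmk : (g⁻¹ * m * g) * (g⁻¹ * k * g) = (g⁻¹ * k * g) * (g⁻¹ * m * g) :=
            hab _ hm _ hk2
          calc k * m = g * ((g⁻¹ * k * g) * (g⁻¹ * m * g)) * g⁻¹ := by group
            _ = g * ((g⁻¹ * m * g) * (g⁻¹ * k * g)) * g⁻¹ := by rw [hmk]
            _ = m * k := by group
      rw [hNM] at hginv
      simpa using M.inv_mem hginv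
    obtain ⟨N, hNK, hNn, hNc0⟩ := Cfsg.Agent.Lib.Lead.frobenius_kernel_subgroup M hFrob
    have hNc : Subgroup.IsComplement' N M := hNc0
    have hNK' : Cfsg.frobeniusKernel M = (N : Set G) := hNK.symm
    have hNtop : N ≠ ⊤ := by
      intro h
      have h1 := hNc.isCompl.inf_eq_bot
      rw [h, top_inf_eq] at h1
      exact hMbot h1
    have hNbot : N ≠ ⊥ := by
      intro h
      have h1 := hNc.sup_eq_top
      rw [h, bot_sup_eq] at h1
      exact hMco.1 h1
    refine ⟨N, hNn, hNbot, ?_⟩
    intro k hk hk1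
    have hle : Subgroup.centralizer ({k} : Set G) ≤ N := by
      intro g hg
      by_contra hgN
      obtain ⟨hg1, c, hc⟩ := exists_conj_mem_of_not_mem_kernel hNK' hgN
      have hc1 : c⁻¹ * g * c ≠ 1 := by
        intro h
        apply hg1
        have e : g = c * (c⁻¹ * g * c) * c⁻¹ := by group
        rw [e, h]; group
      rw [S4262.mem_cent] at hg
      have hkM : c⁻¹ * k * c ∈ M := by
        apply mem_of_commute_of_isFrobeniusComplement hFrob hc hc1
        calc c⁻¹ * k * c * (c⁻¹ * g * c) = c⁻¹ * (k * g) * c := by group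
          _ = c⁻¹ * (g * k) * c := by rw [hg]
          _ = c⁻¹ * g * c * (c⁻¹ * k * c) := by group
      exact hk1 (eq_one_of_mem_kernel_of_conj_mem hNK' hk hkM)
    rcases (hC k hk1).le_iff.mp hle with h | h
    · exact absurd h hNtop
    · exact h.symm

/-- the structure of a centreless group all of whose non-identity centralizers are maximal -/
theorem structure_of_trivial_center {K : Type u} [Group K] [Finite K]
    (hZ : Subgroup.center K = ⊥) (hnt : Nontrivial K)
    (hC : ∀ x : K, x ≠ 1 → IsCoatom (Subgroup.centralizer ({x} : Set K))) :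
    ¬ IsMulCommutative K ∧ (∀ H : Subgroup K, H ≠ ⊤ → IsMulCommutative ↥H) ∧
      ∃ p q a : ℕ, p.Prime ∧ q.Prime ∧ p ≠ q ∧ Nat.card K = p ^ a * q ∧
        ∀ P : Subgroup K, Nat.card ↥P = p ^ a → P.Normal := by
  obtain ⟨N, hNn, hNbot, hcentN⟩ := exists_normal_cent hZ hnt hC
  have hNab : ∀ a ∈ N, ∀ b ∈ N, a * b = b * a := by
    intro a ha b hb
    by_cases ha1 : a = 1
    · rw [ha1, one_mul, mul_one]
    · have : b ∈ Subgroup.centralizer ({a} : Set K) := by rw [hcentN a ha ha1]; exact hb
      exact S4262.mem_cent.mp this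
  obtain ⟨k₀, hk₀N, hk₀1⟩ : ∃ k ∈ N, k ≠ 1 := by
    by_contra hne
    push Not at hne
    exact hNbot ((Subgroup.eq_bot_iff_forall N).mpr hne)
  have hNco : IsCoatom N := by
    rw [← hcentN k₀ hk₀N hk₀1]; exact hC _ hk₀1
  have hq := index_prime_of_normal_coatom N hNco
  obtain ⟨q, hqdef⟩ : ∃ q, q = N.index := ⟨_, rfl⟩
  rw [← hqdef] at hq
  have hNq : Nat.card N * q = Nat.card K := by rw [hqdef]; exact Subgroup.card_mul_index N
  obtain ⟨g₀, hg₀⟩ : ∃ g : K, g ∉ N := by
    by_contra hne
    push Not at hne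
    exact hNco.1 (eq_top_iff.mpr (fun g _ => hne g))
  have hdisj : ∀ g : K, g ∉ N → Subgroup.centralizer ({g} : Set K) ⊓ N = ⊥ := by
    intro g hg
    rw [eq_bot_iff]
    intro k hk
    rw [Subgroup.mem_inf] at hk
    rw [Subgroup.mem_bot]
    by_contra hk1
    apply hg
    rw [← hcentN k hk.2 hk1, S4262.mem_cent]
    exact (S4262.mem_cent.mp hk.1).symm
  -- complements
  have hcompl : ∀ L : Subgroup K, L.Normal → L ≤ N → L ≠ ⊥ → ∀ g : K, g ∉ N →
      Nat.card L * Nat.card (Subgroup.centralizer ({g} : Set K)) = Nat.card K := by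
    intro L hLn hLN hLbot g hg
    have hg1 : g ≠ 1 := fun h => hg (h ▸ N.one_mem)
    have hLQ : L ⊓ Subgroup.centralizer ({g} : Set K) = ⊥ := by
      rw [eq_bot_iff, ← hdisj g hg]
      exact le_inf inf_le_right (inf_le_left.trans hLN)
    have hsup : L ⊔ Subgroup.centralizer ({g} : Set K) = ⊤ := by
      rcases (hC g hg1).le_iff.mp
        (le_sup_right : _ ≤ L ⊔ Subgroup.centralizer ({g} : Set K)) with h | h
      · exact h
      · exfalso
        have hle : L ≤ Subgroup.centralizer ({g} : Set K) := by rw [← h]; exact le_sup_left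
        have : L ≤ ⊥ := by rw [← hLQ]; exact le_inf le_rfl hle
        exact hLbot (eq_bot_iff.mpr this)
    have hc : Subgroup.IsComplement' L (Subgroup.centralizer ({g} : Set K)) := by
      apply Subgroup.isComplement'_of_disjoint_and_mul_eq_univ (disjoint_iff.mpr hLQ)
      rw [← Subgroup.normal_mul, hsup, Subgroup.coe_top]
    exact hc.card_mul_card
  have hcardQ : ∀ g : K, g ∉ N → Nat.card (Subgroup.centralizer ({g} : Set K)) = q := by
    intro g hg
    have h1 := hcompl N hNn le_rfl hNbot g hg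
    have hpos : 0 < Nat.card N := Nat.card_pos
    exact Nat.eq_of_mul_eq_mul_left hpos (h1.trans hNq.symm)
  have hminN : ∀ L : Subgroup K, L.Normal → L ≤ N → L ≠ ⊥ → L = N := by
    intro L hLn hLN hLbot
    have h1 := hcompl L hLn hLN hLbot g₀ hg₀
    rw [hcardQ g₀ hg₀] at h1
    apply Subgroup.eq_of_le_of_card_ge hLN
    have hqpos : 0 < q := hq.pos
    exact le_of_eq (Nat.eq_of_mul_eq_mul_right hqpos (hNq.trans h1.symm))
  have hzp : ∀ g : K, g ∉ N → Subgroup.centralizer ({g} : Set K) = Subgroup.zpowers g := by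
    intro g hg
    have hg1 : g ≠ 1 := fun h => hg (h ▸ N.one_mem)
    have hgC : g ∈ Subgroup.centralizer ({g} : Set K) := by rw [S4262.mem_cent]
    symm
    apply Subgroup.eq_of_le_of_card_ge
    · rw [Subgroup.zpowers_le]; exact hgC
    · rw [hcardQ g hg, Nat.card_zpowers]
      have hd : orderOf g ∣ q := by
        rw [← hcardQ g hg]
        exact Subgroup.orderOf_dvd_natCard _ hgC
      rcases (Nat.dvd_prime hq).mp hd with h | h
      · exact absurd (orderOf_eq_one_iff.mp h) hg1
      · exact h.ge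
  have hmin : ∀ H : Subgroup K, H ≠ ⊤ → IsMulCommutative ↥H := by
    intro H hH
    refine ⟨⟨fun a b => Subtype.ext ?_⟩⟩
    show (a : K) * b = b * a
    by_cases hHN : H ≤ N
    · exact hNab a (hHN a.2) b (hHN b.2)
    · obtain ⟨h, hhH, hhN⟩ := SetLike.not_le_iff_exists.mp hHN
      have hh1 : h ≠ 1 := fun e => hhN (e ▸ N.one_mem)
      have hle : Subgroup.centralizer ({h} : Set K) ≤ H := by
        rw [hzp h hhN, Subgroup.zpowers_le]; exact hhH
      have heq : H = Subgroup.centralizer ({h} : Set K) := by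
        rcases (hC h hh1).le_iff.mp hle with h' | h'
        · exact absurd h' hH
        · exact h'
      have ha : (a : K) ∈ Subgroup.zpowers h := by rw [← hzp h hhN, ← heq]; exact a.2
      have hb : (b : K) ∈ Subgroup.zpowers h := by rw [← hzp h hhN, ← heq]; exact b.2
      obtain ⟨i, hi⟩ := Subgroup.mem_zpowers_iff.mp ha
      obtain ⟨j, hj⟩ := Subgroup.mem_zpowers_iff.mp hb
      rw [← hi, ← hj, ← zpow_add, ← zpow_add, add_comm]
  have hnc : ¬ IsMulCommutative K := by
    intro hc
    obtain ⟨x, hx⟩ := exists_ne (1 : K)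
    have : x ∈ Subgroup.center K := Subgroup.mem_center_iff.mpr (fun g => hc.is_comm.comm g x)
    rw [hZ, Subgroup.mem_bot] at this
    exact hx this
  -- the prime `p`
  have hN1 : Nat.card N ≠ 1 := by
    have := (Subgroup.one_lt_card_iff_ne_bot N).mpr hNbot
    omega
  obtain ⟨p, hp, hpd⟩ := Nat.exists_prime_and_dvd hN1
  have : Fact p.Prime := ⟨hp⟩
  obtain ⟨n₀, hn₀⟩ := exists_prime_orderOf_dvd_card' p hpd
  let L : Subgroup K :=
    { carrier := {n | n ∈ N ∧ n ^ p = 1}
      mul_mem' := by
        rintro a b ⟨ha, hap⟩ ⟨hb, hbp⟩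
        refine ⟨N.mul_mem ha hb, ?_⟩
        rw [(show Commute a b from hNab a ha b hb).mul_pow, hap, hbp, one_mul]
      one_mem' := ⟨N.one_mem, one_pow p⟩
      inv_mem' := by
        rintro a ⟨ha, hap⟩
        exact ⟨N.inv_mem ha, by rw [inv_pow, hap, inv_one]⟩ }
  have hLmem : ∀ n : K, n ∈ L ↔ n ∈ N ∧ n ^ p = 1 := fun n => Iff.rfl
  have hLn : L.Normal := by
    refine ⟨fun n hn g => ?_⟩
    rw [hLmem] at hn ⊢
    refine ⟨hNn.conj_mem n hn.1 g, ?_⟩
    rw [conj_pow, hn.2, mul_one, mul_inv_cancel]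
  have hLN : L ≤ N := fun n hn => ((hLmem n).mp hn).1
  have hLbot : L ≠ ⊥ := by
    intro h
    have hmem : (n₀ : K) ∈ L := by
      rw [hLmem]
      refine ⟨n₀.2, ?_⟩
      rw [← Subgroup.coe_pow, ← hn₀, pow_orderOf_eq_one]; rfl
    rw [h, Subgroup.mem_bot] at hmem
    have : n₀ = 1 := Subtype.ext hmem
    rw [this, orderOf_one] at hn₀
    exact hp.one_lt.ne hn₀
  have hLeq := hminN L hLn hLN hLbot
  have hNp : ∀ n ∈ N, n ^ p = 1 := by
    intro n hn
    rw [← hLeq] at hn
    exact ((hLmem n).mp hn).2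
  have hPG : IsPGroup p N := by
    intro n
    refine ⟨1, ?_⟩
    rw [pow_one]
    apply Subtype.ext
    rw [Subgroup.coe_pow]
    exact hNp n n.2
  obtain ⟨a, ha⟩ := IsPGroup.iff_card.mp hPG
  have hcardK : Nat.card K = p ^ a * q := by rw [← hNq, ha]
  have hpq : p ≠ q := by
    intro hpq
    have hKp : IsPGroup p K := IsPGroup.of_card (n := a + 1) (by rw [hcardK, ← hpq, pow_succ])
    have h2 := hKp.center_nontrivial
    rw [hZ] at h2
    exact not_nontrivial _ h2
  refine ⟨hnc, hmin, p, q, a, hp, hq, hpq, hcardK, ?_⟩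
  intro P hP
  have hPN : P ≤ N := by
    intro x hx
    have hd : orderOf x ∣ p ^ a := by
      rw [← hP]; exact Subgroup.orderOf_dvd_natCard _ hx
    have hcop : q.Coprime (orderOf x) := by
      apply Nat.Coprime.coprime_dvd_right hd
      exact Nat.Coprime.pow_right _ ((Nat.coprime_primes hq hp).mpr (Ne.symm hpq))
    obtain ⟨m, hm⟩ := exists_pow_eq_self_of_coprime hcop
    rw [← hm]
    apply Subgroup.pow_mem
    rw [hqdef]
    exact Subgroup.pow_index_mem N x
  have hPeq : P = N := Subgroup.eq_of_le_of_card_ge hPN (by rw [hP, ha])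
  rw [hPeq]
  exact hNn

/-- Let G be a non-abelian finite group in which the centralizer of every non-central element is a maximal subgroup. Then G/Z(G) is either an elementary abelian p-group for some prime p, or a minimal non-abelian group (non-abelian with all proper subgroups abelian) of order p^a · q for distinct primes p, q with a normal Sylow p-subgroup. -/
theorem result {G : Type*} [Group G] [Finite G] (hna : ¬ IsMulCommutative G)
    (h : ∀ x : G, x ∉ Subgroup.center G → IsCoatom (Subgroup.centralizer ({x} : Set G))) :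
    (∃ p : ℕ, p.Prime ∧ Cfsg.IsElementaryAbelian p (⊤ : Subgroup (G ⧸ Subgroup.center G))) ∨
    (¬ IsMulCommutative (G ⧸ Subgroup.center G) ∧ (∀ H : Subgroup (G ⧸ Subgroup.center G), H ≠ ⊤ → IsMulCommutative ↥H) ∧
      ∃ p q a : ℕ, p.Prime ∧ q.Prime ∧ p ≠ q ∧ Nat.card (G ⧸ Subgroup.center G) = p ^ a * q ∧
        ∀ P : Subgroup (G ⧸ Subgroup.center G), Nat.card ↥P = p ^ a → P.Normal) := by
  by_cases hall : ∀ x : G, x ∉ Subgroup.center G → (Subgroup.centralizer ({x} : Set G)).Normal
  · left
    exact elemAb_of_all_normal hna h hall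
  · right
    push Not at hall
    obtain ⟨x, hx, hxn⟩ := hall
    have hZ := center_quot_eq_bot h hx hxn
    have hnt : Nontrivial (G ⧸ Subgroup.center G) :=
      ⟨⟨(x : G ⧸ Subgroup.center G), 1, fun e => hx ((QuotientGroup.eq_one_iff x).mp e)⟩⟩
    have hC : ∀ y : G ⧸ Subgroup.center G, y ≠ 1 →
        IsCoatom (Subgroup.centralizer ({y} : Set (G ⧸ Subgroup.center G))) := by
      intro y hy
      apply S4262.quot_center_hyp h y
      rw [hZ, Subgroup.mem_bot]
      exact hy
    exact structure_of_trivial_center hZ hnt hC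

end Cfsg.Agent.S3904
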