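import Cfsg.Statements.S3905
import Cfsg.Agent.S3904
import Cfsg.Agent.Lib.Helper71.MaxCent

set_option autoImplicit false
open Cfsg

namespace Cfsg.Agent.S3905

open Cfsg.Agent.Lib.Helper71

universe u

variable {G : Type u} [Group G]

local notation:max "𝔐(" g ")" => Subgroup.centralizer ({g} : Set _)

/-- a normal subgroup not inside a maximal centralizer supplements it -/
theorem exists_mul_cent (V : Subgroup G) [V.Normal] {x : G} (hco : IsCoatom 𝔐(x)) {v : G}
    (hv : v ∈ V) (hvx : v * x ≠ x * v) : ∀ g : G, ∃ u ∈ V, ∃ c ∈ 𝔐(x), g = u * c := by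
  have hsup : V ⊔ 𝔐(x) = ⊤ := by
    apply hco.2
    apply lt_of_le_of_ne le_sup_right
    intro e
    apply hvx
    have : v ∈ 𝔐(x) := by rw [e]; exact Subgroup.mem_sup_left hv
    exact (S4262.mem_cent.mp this).symm
  intro g
  have hg : g ∈ ((V ⊔ 𝔐(x) : Subgroup G) : Set G) := by rw [hsup]; trivial
  rw [Subgroup.normal_mul] at hg
  obtain ⟨u, hu, c, hc, rfl⟩ := Set.mem_mul.mp hg
  exact ⟨u, hu, c, hc, rfl⟩

theorem cent_eq_of_le {N : Subgroup G} (hC : ∀ x ∈ N, x ≠ 1 → IsCoatom 𝔐(x)) {x y : G}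
    (hxN : x ∈ N) (hyN : y ∈ N) (hx : x ≠ 1) (hy : y ≠ 1) (hle : 𝔐(x) ≤ 𝔐(y)) :
    𝔐(x) = 𝔐(y) := by
  rcases (hC x hxN hx).le_iff.mp hle with h | h
  · exact absurd h (hC y hyN hy).1
  · exact h.symm

theorem pow_orderOf_eq_one_of_commute {N : Subgroup G}
    (hC : ∀ x ∈ N, x ≠ 1 → IsCoatom 𝔐(x))
    {x y : G} (hxN : x ∈ N) (hyN : y ∈ N) (hx : x ≠ 1) (hy : y ≠ 1) (hxy : x * y = y * x)
    (hne : 𝔐(x) ≠ 𝔐(y)) : y ^ orderOf x = 1 := by
  by_contra hw
  have hpow : (x * y) ^ orderOf x = y ^ orderOf x := by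
    rw [(show Commute x y from hxy).mul_pow, pow_orderOf_eq_one, one_mul]
  have hxy1 : x * y ≠ 1 := by
    intro h
    rw [h, one_pow] at hpow
    exact hw hpow.symm
  have h1 : 𝔐(y) = 𝔐(y ^ orderOf x) :=
    cent_eq_of_le hC hyN (N.pow_mem hyN _) hy hw (S4262.cent_pow_le y _)
  have h2 : 𝔐(x * y) = 𝔐(y) := by
    rw [h1, ← hpow]
    exact cent_eq_of_le hC (N.mul_mem hxN hyN) (N.pow_mem (N.mul_mem hxN hyN) _) hxy1
      (by rw [hpow]; exact hw) (S4262.cent_pow_le (x * y) _)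
  apply hne
  symm
  apply cent_eq_of_le hC hyN hxN hy hx
  intro g hg
  have hg2 : g ∈ 𝔐(x * y) := by rw [h2]; exact hg
  rw [S4262.mem_cent] at hg hg2 ⊢
  have e : x * g * y = g * x * y := by
    calc x * g * y = x * (g * y) := by group
      _ = x * (y * g) := by rw [hg]
      _ = x * y * g := by group
      _ = g * (x * y) := hg2
      _ = g * x * y := by group
  exact mul_right_cancel e

/-- commuting elements of `N` with different centralizers have the same prime order -/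
theorem lemA [Finite G] {N : Subgroup G}
    (hC : ∀ x ∈ N, x ≠ 1 → IsCoatom 𝔐(x))
    {x y : G} (hxN : x ∈ N) (hyN : y ∈ N) (hx : x ≠ 1) (hy : y ≠ 1) (hxy : x * y = y * x)
    (hne : 𝔐(x) ≠ 𝔐(y)) : orderOf x = orderOf y ∧ (orderOf x).Prime := by
  have h1 : orderOf x = orderOf y := by
    apply Nat.dvd_antisymm
    · exact orderOf_dvd_of_pow_eq_one
        (pow_orderOf_eq_one_of_commute hC hyN hxN hy hx hxy.symm hne.symm)
    · exact orderOf_dvd_of_pow_eq_one (pow_orderOf_eq_one_of_commute hC hxN hyN hx hy hxy hne)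
  refine ⟨h1, ?_⟩
  have hm1 : orderOf x ≠ 1 := by rwa [Ne, orderOf_eq_one_iff]
  have hm0 : 0 < orderOf x := orderOf_pos x
  obtain ⟨r, hr, hrm⟩ := Nat.exists_prime_and_dvd hm1
  obtain ⟨s, hs⟩ := hrm
  have hs0 : 0 < s := by
    rcases Nat.eq_zero_or_pos s with h | h
    · rw [h, mul_zero] at hs; omega
    · exact h
  by_cases hs1 : s = 1
  · rw [hs, hs1, mul_one]; exact hr
  exfalso
  have hslt : s < orderOf x := by
    rw [hs]
    have := hr.two_le
    nlinarith
  have hxs : x ^ s ≠ 1 := pow_ne_one_of_lt_orderOf hs0.ne' hslt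
  have hord : orderOf (x ^ s) = r := by
    rw [orderOf_pow' x hs0.ne']
    have hg : (orderOf x).gcd s = s := Nat.gcd_eq_right ⟨r, by rw [hs, mul_comm]⟩
    rw [hg]
    nth_rewrite 1 [hs]
    exact Nat.mul_div_cancel _ hs0
  have hcs : 𝔐(x) = 𝔐(x ^ s) :=
    cent_eq_of_le hC hxN (N.pow_mem hxN s) hx hxs (S4262.cent_pow_le x s)
  have hxsy : x ^ s * y = y * x ^ s := ((Commute.pow_left (show Commute x y from hxy) s)).eq
  have h2 : orderOf (x ^ s) = orderOf y := by
    apply Nat.dvd_antisymm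
    · exact orderOf_dvd_of_pow_eq_one
        (pow_orderOf_eq_one_of_commute hC hyN (N.pow_mem hxN s) hy hxs hxsy.symm
          (by rw [← hcs]; exact hne.symm))
    · exact orderOf_dvd_of_pow_eq_one
        (pow_orderOf_eq_one_of_commute hC (N.pow_mem hxN s) hyN hxs hy hxsy
          (by rw [← hcs]; exact hne))
  rw [hord, ← h1, hs] at h2
  have : s = 1 := by
    have hr0 := hr.pos
    nlinarith
  exact hs1 this

/-- a non-abelian minimal normal subgroup cannot have all its non-identity centralizers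
maximal -/
theorem false_of_minimal_nonabelian [Finite G] (N : Subgroup G) [N.Normal]
    (hmin : ∀ V : Subgroup G, V.Normal → V ≤ N → V = ⊥ ∨ V = N)
    (hna : ∃ a ∈ N, ∃ b ∈ N, a * b ≠ b * a)
    (hC : ∀ x ∈ N, x ≠ 1 → IsCoatom 𝔐(x)) : False := by
  obtain ⟨a₀, ha₀, b₀, hb₀, hab₀⟩ := hna
  have hZ : ∀ z ∈ N, (∀ n ∈ N, n * z = z * n) → z = 1 := by
    intro z hz hzc
    have hnorm : (N ⊓ Subgroup.centralizer (N : Set G)).Normal := inferInstance
    rcases hmin _ hnorm inf_le_left with h | h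
    · have : z ∈ N ⊓ Subgroup.centralizer (N : Set G) := by
        rw [Subgroup.mem_inf]
        refine ⟨hz, ?_⟩
        rw [Subgroup.mem_centralizer_iff]
        intro n hn
        exact hzc n hn
      rw [h, Subgroup.mem_bot] at this
      exact this
    · exfalso
      have : a₀ ∈ N ⊓ Subgroup.centralizer (N : Set G) := by rw [h]; exact ha₀
      have h2 := Subgroup.mem_centralizer_iff.mp (Subgroup.mem_inf.mp this).2 b₀ hb₀
      exact hab₀ h2.symm
  have hnc : ∀ x ∈ N, x ≠ 1 → ∃ v ∈ N, v * x ≠ x * v := by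
    intro x hx hx1
    by_contra hcon
    push Not at hcon
    exact hx1 (hZ x hx hcon)
  have hnn : ∀ x ∈ N, x ≠ 1 → ¬ (𝔐(x)).Normal := by
    intro x hx hx1 hn
    have := hn
    have hnorm : (N ⊓ Subgroup.centralizer ((𝔐(x) : Subgroup G) : Set G)).Normal := inferInstance
    have hxA : x ∈ N ⊓ Subgroup.centralizer ((𝔐(x) : Subgroup G) : Set G) := by
      rw [Subgroup.mem_inf]
      refine ⟨hx, ?_⟩
      rw [Subgroup.mem_centralizer_iff]
      intro c hc
      exact (S4262.mem_cent.mp hc).symm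
    rcases hmin _ hnorm inf_le_left with h | h
    · rw [h, Subgroup.mem_bot] at hxA
      exact hx1 hxA
    · obtain ⟨v, hv, hvx⟩ := hnc x hx hx1
      have : v ∈ N ⊓ Subgroup.centralizer ((𝔐(x) : Subgroup G) : Set G) := by rw [h]; exact hv
      have h2 := Subgroup.mem_centralizer_iff.mp (Subgroup.mem_inf.mp this).2 x
        (S4262.mem_cent.mpr rfl)
      exact hvx h2.symm
  have hself : ∀ x ∈ N, x ≠ 1 →
      Subgroup.normalizer ((𝔐(x) : Subgroup G) : Set G) = 𝔐(x) := by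
    intro x hx hx1
    rcases (hC x hx hx1).le_iff.mp (Subgroup.le_normalizer (H := 𝔐(x))) with h1 | h1
    · exact absurd (Subgroup.normalizer_eq_top_iff.mp h1) (hnn x hx hx1)
    · exact h1
  have hnt : Nontrivial N := by
    refine ⟨⟨⟨a₀, ha₀⟩, 1, fun e => hab₀ ?_⟩⟩
    have e2 : a₀ = 1 := congrArg Subtype.val e
    rw [e2, one_mul, mul_one]
  refine MaxCent.false (X := N) (f := fun x : N => 𝔐((x : G))) ?_
  refine ⟨?_, ?_, ?_, ?_, ?_, ?_, ?_⟩
  · -- pow
    intro x k hk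
    have hk' : (x : G) ^ k ≠ 1 := fun e => hk (Subtype.ext (by rw [Subgroup.coe_pow, e]; rfl))
    have hx1 : (x : G) ≠ 1 := fun e => hk' (by rw [e, one_pow])
    show 𝔐(((x ^ k : N) : G)) = 𝔐((x : G))
    rw [Subgroup.coe_pow]
    exact (cent_eq_of_le hC x.2 (N.pow_mem x.2 k) hx1 hk' (S4262.cent_pow_le _ k)).symm
  · -- lemA
    intro x y hx hy hxy hne
    have hx1 : (x : G) ≠ 1 := fun e => hx (Subtype.ext e)
    have hy1 : (y : G) ≠ 1 := fun e => hy (Subtype.ext e)
    have hxy' : (x : G) * y = y * x := congrArg Subtype.val hxy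
    have := lemA hC x.2 y.2 hx1 hy1 hxy' hne
    rwa [Subgroup.orderOf_coe, Subgroup.orderOf_coe] at this
  · -- comm
    intro x y hx hy hf w hw
    have hw' : (w : G) ∈ 𝔐((x : G)) := by
      rw [S4262.mem_cent]; exact (congrArg Subtype.val hw).symm
    rw [show 𝔐((x : G)) = 𝔐((y : G)) from hf] at hw'
    apply Subtype.ext
    exact (S4262.mem_cent.mp hw').symm
  · -- selfnorm
    intro x hx n hn
    have hx1 : (x : G) ≠ 1 := fun e => hx (Subtype.ext e)
    have hDnorm : Subgroup.normalizer ((N ⊓ 𝔐((x : G)) : Subgroup G) : Set G) = 𝔐((x : G)) := by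
      have hle : 𝔐((x : G)) ≤ Subgroup.normalizer ((N ⊓ 𝔐((x : G)) : Subgroup G) : Set G) := by
        intro c hc
        rw [Subgroup.mem_normalizer_iff]
        intro d
        rw [Subgroup.mem_inf, Subgroup.mem_inf]
        constructor
        · rintro ⟨hdN, hdC⟩
          exact ⟨Subgroup.Normal.conj_mem inferInstance d hdN c,
            Subgroup.mul_mem _ (Subgroup.mul_mem _ hc hdC) (Subgroup.inv_mem _ hc)⟩
        · rintro ⟨hdN, hdC⟩
          refine ⟨?_, ?_⟩
          · have := Subgroup.Normal.conj_mem (inferInstance : N.Normal) _ hdN c⁻¹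
            have e : c⁻¹ * (c * d * c⁻¹) * c⁻¹⁻¹ = d := by group
            rwa [e] at this
          · have := Subgroup.mul_mem _ (Subgroup.mul_mem _ (Subgroup.inv_mem _ hc) hdC) hc
            have e : c⁻¹ * (c * d * c⁻¹) * c = d := by group
            rwa [e] at this
      rcases (hC x x.2 hx1).le_iff.mp hle with h1 | h1
      · exfalso
        have hDn : (N ⊓ 𝔐((x : G))).Normal := Subgroup.normalizer_eq_top_iff.mp h1
        rcases hmin _ hDn inf_le_left with h2 | h2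
        · have : (x : G) ∈ N ⊓ 𝔐((x : G)) := Subgroup.mem_inf.mpr ⟨x.2, S4262.mem_cent.mpr rfl⟩
          rw [h2, Subgroup.mem_bot] at this
          exact hx1 this
        · obtain ⟨v, hv, hvx⟩ := hnc x x.2 hx1
          have : v ∈ N ⊓ 𝔐((x : G)) := by rw [h2]; exact hv
          exact hvx (S4262.mem_cent.mp (Subgroup.mem_inf.mp this).2).symm
      · exact h1
    have hnG : (n : G) ∈ Subgroup.normalizer ((N ⊓ 𝔐((x : G)) : Subgroup G) : Set G) := by
      rw [Subgroup.mem_normalizer_iff]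
      intro d
      rw [Subgroup.mem_normalizer_iff] at hn
      rw [Subgroup.mem_inf, Subgroup.mem_inf]
      constructor
      · rintro ⟨hdN, hdC⟩
        have h3 := (hn ⟨d, hdN⟩).mp (by
          rw [Subgroup.mem_centralizer_singleton_iff]
          apply Subtype.ext
          exact (Subgroup.mem_centralizer_singleton_iff.mp hdC))
        refine ⟨(n * ⟨d, hdN⟩ * n⁻¹ : N).2, ?_⟩
        rw [Subgroup.mem_centralizer_singleton_iff] at h3 ⊢
        exact congrArg Subtype.val h3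
      · rintro ⟨hdN, hdC⟩
        have hdN' : d ∈ N := by
          have := Subgroup.Normal.conj_mem (inferInstance : N.Normal) _ hdN (n : G)⁻¹
          have e : (n : G)⁻¹ * ((n : G) * d * (n : G)⁻¹) * (n : G)⁻¹⁻¹ = d := by group
          rwa [e] at this
        have h3 := (hn ⟨d, hdN'⟩).mpr (by
          rw [Subgroup.mem_centralizer_singleton_iff]
          apply Subtype.ext
          exact (Subgroup.mem_centralizer_singleton_iff.mp hdC))
        refine ⟨hdN', ?_⟩
        rw [Subgroup.mem_centralizer_singleton_iff] at h3 ⊢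
        exact congrArg Subtype.val h3
    rw [hDnorm] at hnG
    rw [Subgroup.mem_centralizer_singleton_iff] at hnG ⊢
    exact Subtype.ext hnG
  · -- conj
    intro x hx n hf
    have hx1 : (x : G) ≠ 1 := fun e => hx (Subtype.ext e)
    have hf' : 𝔐((n : G)⁻¹ * x * n) = 𝔐((x : G)) := hf
    have hnG : (n : G) ∈ Subgroup.normalizer ((𝔐((x : G)) : Subgroup G) : Set G) := by
      rw [Subgroup.mem_normalizer_iff]
      intro c
      constructor
      · intro hc
        rw [← hf', S4262.mem_cent] at hc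
        rw [S4262.mem_cent]
        calc (x : G) * (n * c * (n : G)⁻¹) = n * ((n : G)⁻¹ * x * n * c) * (n : G)⁻¹ := by group
          _ = n * (c * ((n : G)⁻¹ * x * n)) * (n : G)⁻¹ := by rw [hc]
          _ = n * c * (n : G)⁻¹ * x := by group
      · intro hc
        rw [S4262.mem_cent] at hc
        rw [← hf', S4262.mem_cent]
        calc (n : G)⁻¹ * x * n * c = (n : G)⁻¹ * (x * (n * c * (n : G)⁻¹)) * n := by group
          _ = (n : G)⁻¹ * ((n * c * (n : G)⁻¹) * x) * n := by rw [hc]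
          _ = c * ((n : G)⁻¹ * x * n) := by group
    rw [hself x x.2 hx1, S4262.mem_cent] at hnG
    apply Subtype.ext
    exact hnG.symm
  · -- perfect
    have hcn : (⁅N, N⁆ : Subgroup G).Normal := inferInstance
    have hle : ⁅N, N⁆ ≤ N := Subgroup.commutator_le_right N N
    rcases hmin _ hcn hle with h | h
    · exfalso
      rw [Subgroup.commutator_eq_bot_iff_le_centralizer] at h
      have := Subgroup.mem_centralizer_iff.mp (h ha₀) b₀ hb₀
      exact hab₀ this.symm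
    · apply Subgroup.map_injective N.subtype_injective
      rw [Subgroup.map_subtype_commutator, h, ← MonoidHom.range_eq_map, Subgroup.range_subtype]
  · -- center
    rw [eq_bot_iff]
    intro z hz
    rw [Subgroup.mem_bot]
    apply Subtype.ext
    apply hZ z z.2
    intro n hn
    have := Subgroup.mem_center_iff.mp hz ⟨n, hn⟩
    exact congrArg Subtype.val this

/-- the structure when `N` contains an abelian minimal normal subgroup `V` of `G` -/
theorem structure_of_abelian_minimal [Finite G] (N : Subgroup G) [N.Normal]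
    (hZ : ∀ z ∈ N, (∀ n ∈ N, n * z = z * n) → z = 1)
    (hC : ∀ x ∈ N, x ≠ 1 → IsCoatom 𝔐(x))
    (V : Subgroup G) [V.Normal] (hVN : V ≤ N) (hV1 : V ≠ ⊥)
    (hmin : ∀ W : Subgroup G, W.Normal → W ≤ V → W = ⊥ ∨ W = V)
    (hVab : ∀ a ∈ V, ∀ b ∈ V, a * b = b * a) :
    ∃ (x : G) (p : ℕ), p.Prime ∧ x ∈ N ∧ (orderOf x).Prime ∧ (∀ v ∈ V, v ^ p = 1) ∧
      (∀ n ∈ N, ∃ v ∈ V, ∃ h ∈ Subgroup.zpowers x, n = v * h) ∧
      (∀ h ∈ Subgroup.zpowers x, h ≠ 1 → ∀ v ∈ V, v * h = h * v → v = 1) := by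
  -- the prime `p`
  have hV1' : Nat.card V ≠ 1 := by
    have := (Subgroup.one_lt_card_iff_ne_bot V).mpr hV1
    omega
  obtain ⟨p, hp, hpd⟩ := Nat.exists_prime_and_dvd hV1'
  have : Fact p.Prime := ⟨hp⟩
  obtain ⟨n₀, hn₀⟩ := exists_prime_orderOf_dvd_card' p hpd
  let L : Subgroup G :=
    { carrier := {n | n ∈ V ∧ n ^ p = 1}
      mul_mem' := by
        rintro a b ⟨ha, hap⟩ ⟨hb, hbp⟩
        refine ⟨V.mul_mem ha hb, ?_⟩
        rw [(show Commute a b from hVab a ha b hb).mul_pow, hap, hbp, one_mul]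
      one_mem' := ⟨V.one_mem, one_pow p⟩
      inv_mem' := by
        rintro a ⟨ha, hap⟩
        exact ⟨V.inv_mem ha, by rw [inv_pow, hap, inv_one]⟩ }
  have hLmem : ∀ n : G, n ∈ L ↔ n ∈ V ∧ n ^ p = 1 := fun n => Iff.rfl
  have hLn : L.Normal := by
    refine ⟨fun n hn g => ?_⟩
    rw [hLmem] at hn ⊢
    refine ⟨Subgroup.Normal.conj_mem inferInstance n hn.1 g, ?_⟩
    rw [conj_pow, hn.2, mul_one, mul_inv_cancel]
  have hLV : L ≤ V := fun n hn => ((hLmem n).mp hn).1
  have hLbot : L ≠ ⊥ := by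
    intro h
    have hmem : (n₀ : G) ∈ L := by
      rw [hLmem]
      refine ⟨n₀.2, ?_⟩
      rw [← Subgroup.coe_pow, ← hn₀, pow_orderOf_eq_one]; rfl
    rw [h, Subgroup.mem_bot] at hmem
    have : n₀ = 1 := Subtype.ext hmem
    rw [this, orderOf_one] at hn₀
    exact hp.one_lt.ne hn₀
  have hVp : ∀ v ∈ V, v ^ p = 1 := by
    intro v hv
    rcases hmin L hLn hLV with h | h
    · exact absurd h hLbot
    · rw [← h] at hv
      exact ((hLmem v).mp hv).2
  obtain ⟨v₀, hv₀, hv₀1⟩ : ∃ v ∈ V, v ≠ 1 := by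
    by_contra hne
    push Not at hne
    exact hV1 ((Subgroup.eq_bot_iff_forall V).mpr hne)
  have hordp : ∀ c : G, c ≠ 1 → c ^ p = 1 → orderOf c = p := by
    intro c hc1 hcp
    rcases (Nat.dvd_prime hp).mp (orderOf_dvd_of_pow_eq_one hcp) with h | h
    · exact absurd (orderOf_eq_one_iff.mp h) hc1
    · exact h
  -- elements not centralizing `V` act fixed-point-freely and supplement `V`
  have hfpf : ∀ x ∈ N, (∃ v ∈ V, v * x ≠ x * v) →
      (∀ v ∈ V, v * x = x * v → v = 1) ∧ (∀ g : G, ∃ u ∈ V, ∃ c ∈ 𝔐(x), g = u * c) := by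
    rintro x hx ⟨v, hv, hvx⟩
    have hx1 : x ≠ 1 := by
      rintro rfl
      exact hvx (by rw [mul_one, one_mul])
    have hmul := exists_mul_cent V (hC x hx hx1) hv hvx
    refine ⟨?_, hmul⟩
    have hWn : (V ⊓ 𝔐(x)).Normal := by
      refine ⟨fun w hw g => ?_⟩
      rw [Subgroup.mem_inf] at hw ⊢
      obtain ⟨u, hu, c, hc, rfl⟩ := hmul g
      have h1 : c * w * c⁻¹ ∈ V := Subgroup.Normal.conj_mem inferInstance w hw.1 c
      have h2 : c * w * c⁻¹ ∈ 𝔐(x) :=
        Subgroup.mul_mem _ (Subgroup.mul_mem _ hc hw.2) (Subgroup.inv_mem _ hc)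
      have e : u * c * w * (u * c)⁻¹ = c * w * c⁻¹ := by
        have h3 := hVab u hu (c * w * c⁻¹) h1
        calc u * c * w * (u * c)⁻¹ = u * (c * w * c⁻¹) * u⁻¹ := by group
          _ = (c * w * c⁻¹) * u * u⁻¹ := by rw [h3]
          _ = c * w * c⁻¹ := by group
      rw [e]
      exact ⟨h1, h2⟩
    rcases hmin _ hWn inf_le_left with h | h
    · intro w hw hwx
      have : w ∈ V ⊓ 𝔐(x) := Subgroup.mem_inf.mpr ⟨hw, S4262.mem_cent.mpr hwx.symm⟩
      rw [h, Subgroup.mem_bot] at this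
      exact this
    · exfalso
      have : v ∈ V ⊓ 𝔐(x) := by rw [h]; exact hv
      exact hvx (S4262.mem_cent.mp (Subgroup.mem_inf.mp this).2).symm
  -- centralizers of elements of `V` inside `N` centralize `V`
  have hcV : ∀ v ∈ V, v ≠ 1 → ∀ y ∈ N, y * v = v * y → ∀ u ∈ V, u * y = y * u := by
    intro v hv hv1 y hy hyv
    by_contra hcon
    push Not at hcon
    obtain ⟨u, hu, huy⟩ := hcon
    exact hv1 ((hfpf y hy ⟨u, hu, huy⟩).1 v hv hyv.symm)
  -- an element outside `C_N(V)` commuting with no non-identity element of `C_N(V)`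
  have hx₂ : ∃ x ∈ N, (∃ v ∈ V, v * x ≠ x * v) ∧
      ∀ c ∈ N, (∀ v ∈ V, v * c = c * v) → c * x = x * c → c = 1 := by
    obtain ⟨x₁, hx₁, hx₁v⟩ : ∃ x ∈ N, x * v₀ ≠ v₀ * x := by
      by_contra hcon
      push Not at hcon
      exact hv₀1 (hZ v₀ (hVN hv₀) hcon)
    by_cases hI : ∀ c ∈ N, c ≠ 1 → (∀ v ∈ V, v * c = c * v) → 𝔐(c) = 𝔐(v₀)
    · refine ⟨x₁, hx₁, ⟨v₀, hv₀, fun e => hx₁v e.symm⟩, ?_⟩
      intro c hc hcV' hcx
      by_contra hc1
      have h1 := hI c hc hc1 hcV'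
      have h2 : x₁ ∈ 𝔐(c) := S4262.mem_cent.mpr hcx
      rw [h1, S4262.mem_cent] at h2
      exact hx₁v h2.symm
    · push Not at hI
      obtain ⟨c₀, hc₀, hc₀1, hc₀V, hc₀ne⟩ := hI
      have hv₀c₀ : v₀ * c₀ = c₀ * v₀ := hc₀V v₀ hv₀
      have hv₀p : orderOf v₀ = p := hordp v₀ hv₀1 (hVp v₀ hv₀)
      have hc₀p : orderOf c₀ = p := by
        rw [← (lemA hC (hVN hv₀) hc₀ hv₀1 hc₀1 hv₀c₀ (Ne.symm hc₀ne)).1, hv₀p]
      have hCp : ∀ c ∈ N, (∀ v ∈ V, v * c = c * v) → c ^ p = 1 := by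
        intro c hc hcV'
        by_cases hc1 : c = 1
        · rw [hc1, one_pow]
        by_cases hcv : 𝔐(c) = 𝔐(v₀)
        · have hcc₀ : c * c₀ = c₀ * c := by
            have : c₀ ∈ 𝔐(c) := by rw [hcv, S4262.mem_cent]; exact hv₀c₀
            exact S4262.mem_cent.mp this
          have h1 := (lemA hC hc hc₀ hc1 hc₀1 hcc₀ (by rw [hcv]; exact Ne.symm hc₀ne)).1
          rw [← hc₀p, ← h1]
          exact pow_orderOf_eq_one c
        · have h1 := (lemA hC hc (hVN hv₀) hc1 hv₀1 (hcV' v₀ hv₀).symm hcv).1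
          rw [← hv₀p, ← h1]
          exact pow_orderOf_eq_one c
      obtain ⟨x, hx, hxV, hxp⟩ : ∃ x ∈ N, (∃ v ∈ V, v * x ≠ x * v) ∧ orderOf x ≠ p := by
        by_contra hcon
        push Not at hcon
        have hall : ∀ n ∈ N, n ^ p = 1 := by
          intro n hn
          by_cases hnV : ∀ v ∈ V, v * n = n * v
          · exact hCp n hn hnV
          · push Not at hnV
            rw [← hcon n hn hnV]
            exact pow_orderOf_eq_one n
        have hPG : IsPGroup p N := by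
          intro n
          refine ⟨1, ?_⟩
          rw [pow_one]
          apply Subtype.ext
          rw [Subgroup.coe_pow]
          exact hall n n.2
        have hnt : Nontrivial N := ⟨⟨⟨v₀, hVN hv₀⟩, 1, fun e => hv₀1 (congrArg Subtype.val e)⟩⟩
        have hcn := hPG.center_nontrivial
        obtain ⟨z, hz⟩ := exists_ne (1 : Subgroup.center N)
        apply hz
        apply Subtype.ext
        apply Subtype.ext
        apply hZ _ (z : N).2
        intro n hn
        have := Subgroup.mem_center_iff.mp z.2 ⟨n, hn⟩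
        exact congrArg Subtype.val this
      refine ⟨x, hx, hxV, ?_⟩
      intro c hc hcV' hcx
      by_contra hc1
      obtain ⟨v, hv, hvx⟩ := hxV
      have hx1 : x ≠ 1 := by
        rintro rfl
        exact hvx (by rw [mul_one, one_mul])
      have hne : 𝔐(x) ≠ 𝔐(c) := by
        intro e
        have : v ∈ 𝔐(c) := S4262.mem_cent.mpr (hcV' v hv).symm
        rw [← e, S4262.mem_cent] at this
        exact hvx this.symm
      have h1 := (lemA hC hx hc hx1 hc1 hcx.symm hne).1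
      exact hxp (by rw [h1]; exact hordp c hc1 (hCp c hc hcV'))
  obtain ⟨x₂, hx₂N, hx₂V, hx₂c⟩ := hx₂
  -- `C_N(V) = V`
  have hCV : ∀ c ∈ N, (∀ v ∈ V, v * c = c * v) → c ∈ V := by
    intro c hc hcV'
    obtain ⟨u, hu, c', hc', rfl⟩ := (hfpf x₂ hx₂N hx₂V).2 c
    have hc'N : c' ∈ N := by
      have := N.mul_mem (N.inv_mem (hVN hu)) hc
      rwa [inv_mul_cancel_left] at this
    have hc'V : ∀ v ∈ V, v * c' = c' * v := by
      intro v hv
      have h1 := hcV' v hv
      have h2 := hVab v hv u hu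
      have e : u * (v * c') = u * (c' * v) := by
        calc u * (v * c') = v * u * c' := by rw [← mul_assoc, h2]
          _ = v * (u * c') := by group
          _ = u * c' * v := h1
          _ = u * (c' * v) := by group
      exact mul_left_cancel e
    have := hx₂c c' hc'N hc'V (S4262.mem_cent.mp hc').symm
    rw [this, mul_one]
    exact hu
  have hout : ∀ y ∈ N, y ∉ V →
      (∀ v ∈ V, v * y = y * v → v = 1) ∧ (∀ g : G, ∃ u ∈ V, ∃ c ∈ 𝔐(y), g = u * c) := by
    intro y hy hyV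
    apply hfpf y hy
    by_contra hcon
    push Not at hcon
    exact hyV (hCV y hy hcon)
  have hx₂nV : x₂ ∉ V := by
    intro h
    obtain ⟨v, hv, hvx⟩ := hx₂V
    exact hvx (hVab v hv x₂ h)
  -- an element of prime order outside `V`
  have hx₂1 : x₂ ≠ 1 := fun e => hx₂nV (e ▸ V.one_mem)
  have hox : orderOf x₂ ≠ 1 := by rwa [Ne, orderOf_eq_one_iff]
  obtain ⟨q, hq, hqd⟩ := Nat.exists_prime_and_dvd hox
  obtain ⟨x, hxdef⟩ : ∃ x, x = x₂ ^ (orderOf x₂ / q) := ⟨_, rfl⟩
  have hxo : orderOf x = q := by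
    rw [hxdef]; exact orderOf_pow_orderOf_div (orderOf_pos x₂).ne' hqd
  have hx1 : x ≠ 1 := by
    intro e
    rw [e, orderOf_one] at hxo
    exact hq.one_lt.ne hxo
  have hxN : x ∈ N := by rw [hxdef]; exact N.pow_mem hx₂N _
  have hxV : x ∉ V := by
    intro h
    apply hx1
    apply (hout x₂ hx₂N hx₂nV).1 x h
    rw [hxdef]
    exact (Commute.pow_self x₂ _).eq
  obtain ⟨hxfpf, hxmul⟩ := hout x hxN hxV
  -- `W = V ⟨x⟩` is normal in `G`
  obtain ⟨W, hWdef⟩ : ∃ W, W = V ⊔ Subgroup.zpowers x := ⟨_, rfl⟩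
  have hVW : V ≤ W := by rw [hWdef]; exact le_sup_left
  have hxW : x ∈ W := by rw [hWdef]; exact Subgroup.mem_sup_right (Subgroup.mem_zpowers x)
  have hWN : W ≤ N := by
    rw [hWdef]
    exact sup_le hVN ((Subgroup.zpowers_le).mpr hxN)
  have hWmap : ∀ g : G, W.map (MulAut.conj g).toMonoidHom ≤ W := by
    intro g
    rw [hWdef, Subgroup.map_sup, sup_le_iff]
    constructor
    · rintro _ ⟨v, hv, rfl⟩
      rw [← hWdef]
      apply hVW
      exact Subgroup.Normal.conj_mem inferInstance v hv g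
    · rw [MonoidHom.map_zpowers, Subgroup.zpowers_le, ← hWdef]
      obtain ⟨u, hu, c, hc, rfl⟩ := hxmul g
      have hcx : c * x * c⁻¹ = x := by
        rw [S4262.mem_cent] at hc
        rw [← hc, mul_inv_cancel_right]
      have e : (MulAut.conj (u * c)).toMonoidHom x = (u * (x * u⁻¹ * x⁻¹)) * x := by
        show (u * c) * x * (u * c)⁻¹ = (u * (x * u⁻¹ * x⁻¹)) * x
        calc (u * c) * x * (u * c)⁻¹ = u * (c * x * c⁻¹) * u⁻¹ := by group
          _ = u * x * u⁻¹ := by rw [hcx]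
          _ = (u * (x * u⁻¹ * x⁻¹)) * x := by group
      rw [e]
      exact W.mul_mem (hVW (V.mul_mem hu
        (Subgroup.Normal.conj_mem inferInstance _ (V.inv_mem hu) x))) hxW
  have hWn : W.Normal := by
    refine ⟨fun w hw g => ?_⟩
    exact hWmap g ⟨w, hw, rfl⟩
  -- `N = W`
  have hxv₀ : x * v₀ ≠ v₀ * x := fun e => hv₀1 (hxfpf v₀ hv₀ e.symm)
  have hNW : ∀ n ∈ N, n ∈ W := by
    intro n hn
    obtain ⟨w, hw, c, hc, rfl⟩ := exists_mul_cent W (hC v₀ (hVN hv₀) hv₀1) hxW hxv₀ n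
    have hcN : c ∈ N := by
      have := N.mul_mem (N.inv_mem (hWN hw)) hn
      rwa [inv_mul_cancel_left] at this
    have hcV : c ∈ V := by
      apply hCV c hcN
      exact hcV v₀ hv₀ hv₀1 c hcN (S4262.mem_cent.mp hc).symm
    exact W.mul_mem hw (hVW hcV)
  refine ⟨x, p, hp, hxN, by rw [hxo]; exact hq, hVp, ?_, ?_⟩
  · intro n hn
    have h1 : n ∈ ((V ⊔ Subgroup.zpowers x : Subgroup G) : Set G) := by
      rw [← hWdef]; exact hNW n hn
    rw [Subgroup.normal_mul] at h1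
    obtain ⟨v, hv, h, hh, rfl⟩ := Set.mem_mul.mp h1
    exact ⟨v, hv, h, hh, rfl⟩
  · intro h hh hh1
    have hhN : h ∈ N := (Subgroup.zpowers_le.mpr hxN) hh
    have hhx : h * x = x * h := by
      obtain ⟨k, rfl⟩ := Subgroup.mem_zpowers_iff.mp hh
      exact (Commute.zpow_self x k).eq
    have hhV : h ∉ V := fun hV => hh1 (hxfpf h hV hhx)
    exact (hout h hhN hhV).1

/-- centreless `N` with maximal centralizers: `N = K ⋊ Q` -/
theorem structure_centerless [Finite G] (N : Subgroup G) [N.Normal] (hN1 : N ≠ ⊥)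
    (hZ : ∀ z ∈ N, (∀ n ∈ N, n * z = z * n) → z = 1)
    (hC : ∀ x ∈ N, x ≠ 1 → IsCoatom 𝔐(x)) :
    ∃ (K Q : Subgroup G) (p : ℕ), p.Prime ∧ K ≤ N ∧ Q ≤ N ∧ K.Normal ∧ K ≠ ⊥ ∧
      (Nat.card Q).Prime ∧
      (∀ n ∈ N, ∃ k ∈ K, ∃ h ∈ Q, n = k * h) ∧
      (∀ h ∈ Q, h ≠ 1 → ∀ k ∈ K, k * h = h * k → k = 1) ∧
      (∀ a ∈ K, ∀ b ∈ K, a * b = b * a) ∧ (∀ k ∈ K, k ^ p = 1) := by
  have hne : Nonempty {V : Subgroup G // V.Normal ∧ V ≤ N ∧ V ≠ ⊥} :=
    ⟨⟨N, inferInstance, le_rfl, hN1⟩⟩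
  obtain ⟨⟨V, hVn, hVN, hV1⟩, hVmin⟩ := Finite.exists_min
    (fun V : {V : Subgroup G // V.Normal ∧ V ≤ N ∧ V ≠ ⊥} => Nat.card (V : Subgroup G))
  have hmin : ∀ W : Subgroup G, W.Normal → W ≤ V → W = ⊥ ∨ W = V := by
    intro W hWn hWV
    by_cases hW1 : W = ⊥
    · left; exact hW1
    · right
      have := hVmin ⟨W, hWn, hWV.trans hVN, hW1⟩
      exact Subgroup.eq_of_le_of_card_ge hWV this
  have := hVn
  by_cases hVab : ∀ a ∈ V, ∀ b ∈ V, a * b = b * a
  · obtain ⟨x, p, hp, hxN, hxo, hVp, hmul, hfpf⟩ :=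
      structure_of_abelian_minimal N hZ hC V hVN hV1 hmin hVab
    exact ⟨V, Subgroup.zpowers x, p, hp, hVN, Subgroup.zpowers_le.mpr hxN, hVn, hV1,
      by rw [Nat.card_zpowers]; exact hxo, hmul, hfpf, hVab, hVp⟩
  · exfalso
    push Not at hVab
    obtain ⟨a, ha, b, hb, hab⟩ := hVab
    exact false_of_minimal_nonabelian V hmin ⟨a, ha, b, hb, hab⟩
      (fun x hx hx1 => hC x (hVN hx) hx1)

/-- class-two power argument in a group where non-central powers keep the centralizer -/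
theorem pow_mem_center_of_not_commute' {X : Type*} [Group X]
    (hcomm : ∀ a b : X, a⁻¹ * b⁻¹ * a * b ∈ Subgroup.center X)
    (hpw : ∀ (v : X) (r : ℕ), v ^ r ∉ Subgroup.center X →
      ∀ u : X, u * v ^ r = v ^ r * u → u * v = v * u)
    (r : ℕ) {u v : X} (hur : u ^ r ∈ Subgroup.center X) (huv : u * v ≠ v * u) :
    v ^ r ∈ Subgroup.center X := by
  by_contra hvr
  apply huv
  apply hpw v r hvr u
  obtain ⟨c, hc⟩ : ∃ c, c = u⁻¹ * v⁻¹ * u * v := ⟨_, rfl⟩
  have hcZ : c ∈ Subgroup.center X := by rw [hc]; exact hcomm u v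
  have hcc : ∀ g : X, Commute g c := fun g => Subgroup.mem_center_iff.mp hcZ g
  have h1 : v⁻¹ * u * v = u * c := by rw [hc]; group
  have h2 : (v⁻¹ * u * v) ^ r = u ^ r := by
    rw [S3904.inv_conj_pow]
    have := Subgroup.mem_center_iff.mp hur v
    calc v⁻¹ * u ^ r * v = v⁻¹ * (u ^ r * v) := by group
      _ = v⁻¹ * (v * u ^ r) := by rw [this]
      _ = u ^ r := by group
  have h3 : c ^ r = 1 := by
    rw [h1, (hcc u).mul_pow] at h2
    exact mul_left_cancel (h2.trans (mul_one _).symm)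
  have h4 : u⁻¹ * v * u = v * c⁻¹ := by rw [hc]; group
  have h5 : (u⁻¹ * v * u) ^ r = v ^ r := by
    rw [h4, ((hcc v).inv_right).mul_pow, inv_pow, h3, inv_one, mul_one]
  rw [S3904.inv_conj_pow] at h5
  calc u * v ^ r = u * (u⁻¹ * v ^ r * u) := by rw [h5]
    _ = v ^ r * u := by group

/-- class two with the power property: the central quotient is elementary abelian -/
theorem elemAb_of_class_two {X : Type*} [Group X] [Finite X]
    (hcomm : ∀ a b : X, a⁻¹ * b⁻¹ * a * b ∈ Subgroup.center X)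
    (hpw : ∀ (v : X) (r : ℕ), v ^ r ∉ Subgroup.center X →
      ∀ u : X, u * v ^ r = v ^ r * u → u * v = v * u) :
    ∃ p : ℕ, p.Prime ∧ Cfsg.IsElementaryAbelian p (⊤ : Subgroup (X ⧸ Subgroup.center X)) := by
  by_cases hZtop : Subgroup.center X = ⊤
  · have hss : Subsingleton (X ⧸ Subgroup.center X) := by
      rw [hZtop]; exact QuotientGroup.subsingleton_quotient_top
    refine ⟨2, Nat.prime_two, ⟨⟨fun a b => Subtype.ext (Subsingleton.elim _ _)⟩⟩, ?_⟩
    intro a _
    exact Subsingleton.elim _ _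
  have h1 : (Subgroup.center X).index ≠ 1 := fun h => hZtop (Subgroup.index_eq_one.mp h)
  obtain ⟨r, hr, hrd⟩ := Nat.exists_prime_and_dvd h1
  have : Fact r.Prime := ⟨hr⟩
  have hcard : Nat.card (X ⧸ Subgroup.center X) = (Subgroup.center X).index := rfl
  obtain ⟨ubar, hubar⟩ := exists_prime_orderOf_dvd_card' r (by rw [hcard]; exact hrd)
  obtain ⟨u, rfl⟩ := QuotientGroup.mk_surjective ubar
  have huZ : u ∉ Subgroup.center X := by
    intro hu
    rw [(QuotientGroup.eq_one_iff u).mpr hu, orderOf_one] at hubar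
    exact hr.one_lt.ne hubar
  have hur : u ^ r ∈ Subgroup.center X := by
    rw [← QuotientGroup.eq_one_iff, QuotientGroup.mk_pow, ← hubar, pow_orderOf_eq_one]
  have hctop : ∀ v : X, v ∉ Subgroup.center X → 𝔐(v) ≠ ⊤ := by
    intro v hv htop
    apply hv
    rw [Subgroup.mem_center_iff]
    intro g
    have : g ∈ 𝔐(v) := by rw [htop]; trivial
    exact (S4262.mem_cent.mp this).symm
  have hall : ∀ v : X, v ^ r ∈ Subgroup.center X := by
    intro v
    by_cases huv : u * v = v * u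
    · by_cases hv : v ∈ Subgroup.center X
      · exact Subgroup.pow_mem _ hv r
      · obtain ⟨w, hwu, hwv⟩ := S3904.exists_not_mem_two _ _ (hctop u huZ) (hctop v hv)
        rw [S4262.mem_cent] at hwu hwv
        have hwr : w ^ r ∈ Subgroup.center X :=
          pow_mem_center_of_not_commute' hcomm hpw r hur hwu
        exact pow_mem_center_of_not_commute' hcomm hpw r hwr (fun e => hwv e.symm)
    · exact pow_mem_center_of_not_commute' hcomm hpw r hur huv
  refine ⟨r, hr, ⟨⟨fun a b => Subtype.ext ?_⟩⟩, ?_⟩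
  · show (a : X ⧸ Subgroup.center X) * b = b * a
    obtain ⟨a', ha'⟩ := QuotientGroup.mk_surjective (a : X ⧸ Subgroup.center X)
    obtain ⟨b', hb'⟩ := QuotientGroup.mk_surjective (b : X ⧸ Subgroup.center X)
    rw [← ha', ← hb', ← QuotientGroup.mk_mul, ← QuotientGroup.mk_mul]
    apply QuotientGroup.eq.mpr
    have e : (a' * b')⁻¹ * (b' * a') = b'⁻¹ * a'⁻¹ * b' * a' := by group
    rw [e]
    exact hcomm b' a'
  · intro a _
    obtain ⟨a', rfl⟩ := QuotientGroup.mk_surjective a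
    rw [← QuotientGroup.mk_pow, QuotientGroup.eq_one_iff]
    exact hall a'

/-- if all the centralizers in question are normal, `N/Z(N)` is elementary abelian -/
theorem elemAb_of_all_normal' (N : Subgroup G) [Finite G] [N.Normal]
    (h : ∀ x : G, x ∈ N → x ∉ Subgroup.centralizer (N : Set G) → IsCoatom 𝔐(x))
    (hn : ∀ x : G, x ∈ N → x ∉ Subgroup.centralizer (N : Set G) → (𝔐(x)).Normal) :
    ∃ p : ℕ, p.Prime ∧ Cfsg.IsElementaryAbelian p (⊤ : Subgroup (↥N ⧸ Subgroup.center ↥N)) := by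
  have hcen : ∀ z : N, z ∈ Subgroup.center N ↔ (z : G) ∈ Subgroup.centralizer (N : Set G) := by
    intro z
    rw [Subgroup.mem_center_iff, Subgroup.mem_centralizer_iff]
    constructor
    · intro hz n hn'
      exact congrArg Subtype.val (hz ⟨n, hn'⟩)
    · intro hz g
      exact Subtype.ext (hz g g.2)
  apply elemAb_of_class_two
  · intro a b
    rw [Subgroup.mem_center_iff]
    intro g
    by_cases hg : g ∈ Subgroup.center N
    · exact (Subgroup.mem_center_iff.mp hg _).symm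
    · have hg' : (g : G) ∉ Subgroup.centralizer (N : Set G) := fun e => hg ((hcen g).mpr e)
      have := hn g g.2 hg'
      have hc := S3904.comm_mem_of_normal_coatom _ (h g g.2 hg') (a : G) (b : G)
      rw [Subgroup.mem_centralizer_singleton_iff] at hc
      apply Subtype.ext
      exact hc.symm
  · intro v r hvr u huv
    have hvr' : ((v ^ r : N) : G) ∉ Subgroup.centralizer (N : Set G) :=
      fun e => hvr ((hcen _).mpr e)
    have hv' : (v : G) ∉ Subgroup.centralizer (N : Set G) := by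
      intro e
      apply hvr
      exact Subgroup.pow_mem _ ((hcen v).mpr e) r
    have hle : 𝔐((v : G)) ≤ 𝔐(((v ^ r : N) : G)) := by
      rw [Subgroup.coe_pow]; exact S4262.cent_pow_le _ r
    have heq : 𝔐(((v ^ r : N) : G)) = 𝔐((v : G)) := by
      rcases (h v v.2 hv').le_iff.mp hle with h1 | h1
      · exact absurd h1 (h _ (v ^ r).2 hvr').1
      · exact h1
    have hu : (u : G) ∈ 𝔐((v : G)) := by
      rw [← heq, S4262.mem_cent]
      exact (congrArg Subtype.val huv).symm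
    apply Subtype.ext
    exact (S4262.mem_cent.mp hu).symm

/-- if some centralizer is not normal then the second centre of `N` is its centre -/
theorem second_center_eq (N : Subgroup G) [N.Normal]
    (h : ∀ x : G, x ∈ N → x ∉ Subgroup.centralizer (N : Set G) → IsCoatom 𝔐(x))
    {x₀ : G} (hx₀N : x₀ ∈ N) (hx₀ : x₀ ∉ Subgroup.centralizer (N : Set G))
    (hx₀n : ¬ (𝔐(x₀)).Normal)
    {w : G} (hwN : w ∈ N)
    (hw2 : ∀ n ∈ N, w⁻¹ * n⁻¹ * w * n ∈ N ⊓ Subgroup.centralizer (N : Set G)) :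
    w ∈ Subgroup.centralizer (N : Set G) := by
  by_contra hw
  obtain ⟨Z, hZdef⟩ : ∃ Z, Z = N ⊓ Subgroup.centralizer (N : Set G) := ⟨_, rfl⟩
  have hZn : Z.Normal := by rw [hZdef]; infer_instance
  rw [← hZdef] at hw2
  obtain ⟨v, hv, hvw⟩ : ∃ v ∈ N, v * w ≠ w * v := by
    by_contra hcon
    push Not at hcon
    exact hw (Subgroup.mem_centralizer_iff.mpr hcon)
  have hmul := exists_mul_cent N (h w hwN hw) hv hvw
  have hwc : ∀ g : G, w⁻¹ * g⁻¹ * w * g ∈ Z := by
    intro g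
    obtain ⟨n, hn, m, hm, rfl⟩ := hmul g
    rw [S4262.mem_cent] at hm
    have e : w⁻¹ * (n * m)⁻¹ * w * (n * m) = m⁻¹ * (w⁻¹ * n⁻¹ * w * n) * m⁻¹⁻¹ := by
      have h1 : w⁻¹ * m⁻¹ = m⁻¹ * w⁻¹ := by rw [← mul_inv_rev, ← mul_inv_rev, hm]
      calc w⁻¹ * (n * m)⁻¹ * w * (n * m) = (w⁻¹ * m⁻¹) * n⁻¹ * w * n * m := by group
        _ = (m⁻¹ * w⁻¹) * n⁻¹ * w * n * m := by rw [h1]
        _ = m⁻¹ * (w⁻¹ * n⁻¹ * w * n) * m⁻¹⁻¹ := by group
    rw [e]
    exact hZn.conj_mem _ (hw2 n hn) m⁻¹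
  have hZle : ∀ y ∈ N, Z ≤ 𝔐(y) := by
    intro y hy z hz
    rw [hZdef, Subgroup.mem_inf] at hz
    rw [S4262.mem_cent]
    exact Subgroup.mem_centralizer_iff.mp hz.2 y hy
  have hkey : ∀ y ∈ N, y ∉ Subgroup.centralizer (N : Set G) → ¬ (𝔐(y)).Normal →
      w ∈ 𝔐(y) := by
    intro y hy hyZ hyn
    have hco := h y hy hyZ
    have hNM : Subgroup.normalizer ((𝔐(y) : Subgroup G) : Set G) = 𝔐(y) := by
      rcases hco.le_iff.mp (Subgroup.le_normalizer (H := 𝔐(y))) with h1 | h1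
      · exact absurd (Subgroup.normalizer_eq_top_iff.mp h1) hyn
      · exact h1
    rw [← hNM, Subgroup.mem_normalizer_iff]
    intro m
    have hcm : m⁻¹ * w * m * w⁻¹ ∈ 𝔐(y) := by
      apply hZle y hy
      have := hZn.conj_mem _ (hwc m) w
      have e : w * (w⁻¹ * m⁻¹ * w * m) * w⁻¹ = m⁻¹ * w * m * w⁻¹ := by group
      rwa [e] at this
    have e : w * m * w⁻¹ = m * (m⁻¹ * w * m * w⁻¹) := by group
    rw [e]
    exact (Subgroup.mul_mem_cancel_right _ hcm).symm
  have hxw : x₀ * w = w * x₀ := S4262.mem_cent.mp (hkey x₀ hx₀N hx₀ hx₀n)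
  have hvZ : v ∉ Subgroup.centralizer (N : Set G) := by
    intro hv'
    exact hvw (Subgroup.mem_centralizer_iff.mp hv' w hwN).symm
  have hvn : (𝔐(v)).Normal := by
    by_contra hvn
    exact hvw (S4262.mem_cent.mp (hkey v hv hvZ hvn))
  have hxv : x₀ * v * w ≠ w * (x₀ * v) := by
    intro e
    apply hvw
    have : x₀ * (v * w) = x₀ * (w * v) := by
      calc x₀ * (v * w) = x₀ * v * w := by group
        _ = w * (x₀ * v) := e
        _ = (w * x₀) * v := by group
        _ = (x₀ * w) * v := by rw [hxw]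
        _ = x₀ * (w * v) := by group
    exact mul_left_cancel this
  have hxvN : x₀ * v ∈ N := N.mul_mem hx₀N hv
  have hxvZ : x₀ * v ∉ Subgroup.centralizer (N : Set G) := by
    intro h'
    exact hxv (Subgroup.mem_centralizer_iff.mp h' w hwN).symm
  have hxvn : (𝔐(x₀ * v)).Normal := by
    by_contra hn'
    exact hxv (S4262.mem_cent.mp (hkey (x₀ * v) hxvN hxvZ hn'))
  have hcx : ∀ a b : G, a⁻¹ * b⁻¹ * a * b ∈ 𝔐(x₀) := by
    intro a b
    have h1 := S3904.comm_mem_of_normal_coatom _ (h v hv hvZ) a b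
    have h2 := S3904.comm_mem_of_normal_coatom _ (h (x₀ * v) hxvN hxvZ) a b
    rw [S4262.mem_cent] at h1 h2 ⊢
    obtain ⟨c, hc⟩ : ∃ c, c = a⁻¹ * b⁻¹ * a * b := ⟨_, rfl⟩
    rw [← hc] at h1 h2 ⊢
    have e : x₀ * c * v = c * x₀ * v := by
      calc x₀ * c * v = x₀ * (c * v) := by group
        _ = x₀ * (v * c) := by rw [h1]
        _ = x₀ * v * c := by group
        _ = c * (x₀ * v) := h2
        _ = c * x₀ * v := by group
    exact mul_right_cancel e
  apply hx₀n
  refine ⟨fun m hm g => ?_⟩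
  have e : g * m * g⁻¹ = m * (m⁻¹ * g⁻¹⁻¹ * m * g⁻¹) := by group
  rw [e]
  exact Subgroup.mul_mem _ hm (hcx m g⁻¹)

/-- the Frobenius case: some centralizer in question is not normal -/
theorem frobenius_of_not_normal [Finite G] (N : Subgroup G) [N.Normal]
    (h : ∀ x : G, x ∈ N → x ∉ Subgroup.centralizer (N : Set G) → IsCoatom 𝔐(x))
    {x₀ : G} (hx₀N : x₀ ∈ N) (hx₀ : x₀ ∉ Subgroup.centralizer (N : Set G))
    (hx₀n : ¬ (𝔐(x₀)).Normal) :
    ∃ (Q K : Subgroup (↥N ⧸ Subgroup.center ↥N)) (p : ℕ), p.Prime ∧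
      Cfsg.IsFrobeniusComplement Q ∧ (Nat.card ↥Q).Prime ∧ K.Normal ∧
      (K : Set (↥N ⧸ Subgroup.center ↥N)) = Cfsg.frobeniusKernel Q ∧
      Cfsg.IsElementaryAbelian p K := by
  obtain ⟨Z, hZdef⟩ : ∃ Z, Z = N ⊓ Subgroup.centralizer (N : Set G) := ⟨_, rfl⟩
  have hZn : Z.Normal := by rw [hZdef]; infer_instance
  have hZN : Z ≤ N := by rw [hZdef]; exact inf_le_left
  have hmemZ : ∀ g : G, g ∈ Z ↔ g ∈ N ∧ g ∈ Subgroup.centralizer (N : Set G) := by
    intro g; rw [hZdef, Subgroup.mem_inf]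
  obtain ⟨π, hπdef⟩ : ∃ π, π = QuotientGroup.mk' Z := ⟨_, rfl⟩
  have hπs : Function.Surjective π := by rw [hπdef]; exact QuotientGroup.mk'_surjective Z
  have hπ1 : ∀ g : G, π g = 1 ↔ g ∈ Z := by
    intro g; rw [hπdef]; exact QuotientGroup.eq_one_iff g
  obtain ⟨Nb, hNbdef⟩ : ∃ Nb, Nb = N.map π := ⟨_, rfl⟩
  have hNbn : Nb.Normal := by rw [hNbdef]; exact Subgroup.Normal.map inferInstance π hπs
  have hmemNb : ∀ g : G, π g ∈ Nb ↔ g ∈ N := by
    intro g
    rw [hNbdef]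
    constructor
    · rintro ⟨n, hn, hng⟩
      have h1 : π (n⁻¹ * g) = 1 := by rw [map_mul, map_inv, hng, inv_mul_cancel]
      rw [hπ1] at h1
      have e : g = n * (n⁻¹ * g) := by group
      rw [e]; exact N.mul_mem hn (hZN h1)
    · intro hg; exact ⟨g, hg, rfl⟩
  have hNb1 : Nb ≠ ⊥ := by
    intro e
    have : π x₀ ∈ Nb := (hmemNb x₀).mpr hx₀N
    rw [e, Subgroup.mem_bot, hπ1, hmemZ] at this
    exact hx₀ this.2
  have hZb : ∀ z ∈ Nb, (∀ n ∈ Nb, n * z = z * n) → z = 1 := by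
    intro zb hzb hzc
    obtain ⟨w, rfl⟩ := hπs zb
    have hwN : w ∈ N := (hmemNb w).mp hzb
    rw [hπ1, hmemZ]
    refine ⟨hwN, ?_⟩
    apply second_center_eq N h hx₀N hx₀ hx₀n hwN
    intro n hn
    rw [← hZdef, ← hπ1]
    have h1 := hzc (π n) ((hmemNb n).mpr hn)
    rw [map_mul, map_mul, map_mul, map_inv, map_inv, mul_assoc, ← h1]
    group
  have hCb : ∀ xb ∈ Nb, xb ≠ 1 → IsCoatom (Subgroup.centralizer ({xb} : Set (G ⧸ Z))) := by
    intro xb hxb hxb1
    obtain ⟨x, rfl⟩ := hπs xb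
    have hxN : x ∈ N := (hmemNb x).mp hxb
    have hxZ : x ∉ Subgroup.centralizer (N : Set G) := by
      intro e
      apply hxb1
      rw [hπ1, hmemZ]; exact ⟨hxN, e⟩
    have hco := h x hxN hxZ
    obtain ⟨C, hCdef⟩ : ∃ C, C = Subgroup.centralizer ({π x} : Set (G ⧸ Z)) := ⟨_, rfl⟩
    rw [← hCdef]
    have hCtop : C ≠ ⊤ := by
      intro htop
      apply hxb1
      apply hZb (π x) hxb
      intro n _
      have : n ∈ C := by rw [htop]; trivial
      rw [hCdef, Subgroup.mem_centralizer_singleton_iff] at this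
      exact this
    have hle : 𝔐(x) ≤ Subgroup.comap π C := by
      intro k hk
      rw [Subgroup.mem_centralizer_singleton_iff] at hk
      rw [Subgroup.mem_comap, hCdef, Subgroup.mem_centralizer_singleton_iff]
      rw [← map_mul, ← map_mul, hk]
    have hcomap : Subgroup.comap π C = 𝔐(x) := by
      rcases hco.le_iff.mp hle with h1 | h1
      · exfalso
        apply hCtop
        apply Subgroup.comap_injective hπs
        rw [h1, Subgroup.comap_top]
      · exact h1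
    refine ⟨hCtop, ?_⟩
    intro L hL
    apply Subgroup.comap_injective hπs
    rw [Subgroup.comap_top]
    apply hco.2
    rw [← hcomap]
    apply lt_of_le_of_ne (Subgroup.comap_mono hL.le)
    intro heq
    exact hL.ne (Subgroup.comap_injective hπs heq)
  have := hNbn
  obtain ⟨Kb, Qb, p, hp, hKN, hQN, hKn, hK1, hQp, hmul, hfpf, hKab, hKp⟩ :=
    structure_centerless Nb hNb1 hZb hCb
  -- the embedding of `N / Z(N)`
  have hker : Subgroup.center N ≤ (π.comp N.subtype).ker := by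
    intro z hz
    rw [MonoidHom.mem_ker, MonoidHom.comp_apply, hπ1, hmemZ]
    refine ⟨z.2, ?_⟩
    rw [Subgroup.mem_centralizer_iff]
    intro n hn
    exact congrArg Subtype.val (Subgroup.mem_center_iff.mp hz ⟨n, hn⟩)
  obtain ⟨φ, hφdef⟩ : ∃ φ : N ⧸ Subgroup.center N →* G ⧸ Z,
      φ = QuotientGroup.lift (Subgroup.center N) (π.comp N.subtype) hker := ⟨_, rfl⟩
  have hφ : ∀ n : N, φ (n : N ⧸ Subgroup.center N) = π (n : G) := by
    intro n; rw [hφdef]; rfl
  have hφinj : Function.Injective φ := by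
    rw [injective_iff_map_eq_one]
    intro a ha
    obtain ⟨n, rfl⟩ := QuotientGroup.mk_surjective a
    rw [hφ, hπ1, hmemZ] at ha
    rw [QuotientGroup.eq_one_iff, Subgroup.mem_center_iff]
    intro g
    apply Subtype.ext
    exact Subgroup.mem_centralizer_iff.mp ha.2 g g.2
  have hφrange : ∀ yb ∈ Nb, ∃ a, φ a = yb := by
    intro yb hyb
    obtain ⟨y, rfl⟩ := hπs yb
    exact ⟨((⟨y, (hmemNb y).mp hyb⟩ : N) : N ⧸ Subgroup.center N), hφ _⟩
  have hφN : ∀ a, φ a ∈ Nb := by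
    intro a
    obtain ⟨n, rfl⟩ := QuotientGroup.mk_surjective a
    rw [hφ]; exact (hmemNb _).mpr n.2
  obtain ⟨K₀, hK₀def⟩ : ∃ K₀, K₀ = Kb.comap φ := ⟨_, rfl⟩
  obtain ⟨Q₀, hQ₀def⟩ : ∃ Q₀, Q₀ = Qb.comap φ := ⟨_, rfl⟩
  have hmemK₀ : ∀ a, a ∈ K₀ ↔ φ a ∈ Kb := by intro a; rw [hK₀def, Subgroup.mem_comap]
  have hmemQ₀ : ∀ a, a ∈ Q₀ ↔ φ a ∈ Qb := by intro a; rw [hQ₀def, Subgroup.mem_comap]
  have hK₀n : K₀.Normal := by rw [hK₀def]; exact hKn.comap φ
  have hK₀1 : K₀ ≠ ⊥ := by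
    intro e
    apply hK1
    rw [Subgroup.eq_bot_iff_forall]
    intro k hk
    obtain ⟨a, rfl⟩ := hφrange k (hKN hk)
    have : a ∈ K₀ := (hmemK₀ a).mpr hk
    rw [e, Subgroup.mem_bot] at this
    rw [this, map_one]
  have hQ₀card : Nat.card Q₀ = Nat.card Qb := by
    have h1 : Subgroup.map φ (Subgroup.comap φ Qb) = Qb := by
      apply Subgroup.map_comap_eq_self
      intro q hq
      obtain ⟨a, rfl⟩ := hφrange q (hQN hq)
      exact ⟨a, rfl⟩
    rw [hQ₀def, ← Subgroup.card_map_of_injective hφinj, h1]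
  have hQ₀1 : Q₀ ≠ ⊥ := by
    intro e
    rw [e, Subgroup.card_bot] at hQ₀card
    rw [← hQ₀card] at hQp
    exact Nat.not_prime_one hQp
  have hmul₀ : ∀ g : N ⧸ Subgroup.center N, ∃ k ∈ K₀, ∃ h ∈ Q₀, g = k * h := by
    intro g
    obtain ⟨kb, hkb, hb, hhb, e⟩ := hmul (φ g) (hφN g)
    obtain ⟨k, rfl⟩ := hφrange kb (hKN hkb)
    obtain ⟨h', rfl⟩ := hφrange hb (hQN hhb)
    refine ⟨k, (hmemK₀ k).mpr hkb, h', (hmemQ₀ h').mpr hhb, ?_⟩
    apply hφinj
    rw [e, map_mul]
  have hfpf₀ : ∀ h ∈ Q₀, h ≠ 1 → ∀ k ∈ K₀, k * h = h * k → k = 1 := by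
    intro h' hh hh1 k hk hkh
    apply hφinj
    rw [map_one]
    apply hfpf (φ h') ((hmemQ₀ h').mp hh) (fun e => hh1 (hφinj (by rw [e, map_one])))
      (φ k) ((hmemK₀ k).mp hk)
    rw [← map_mul, ← map_mul, hkh]
  have := hK₀n
  obtain ⟨hF, hkerF⟩ := frobenius_plain K₀ Q₀ hK₀1 hQ₀1 hmul₀ hfpf₀
  refine ⟨Q₀, K₀, p, hp, hF, by rw [hQ₀card]; exact hQp, hK₀n, hkerF.symm, ?_, ?_⟩
  · refine ⟨⟨fun a b => Subtype.ext ?_⟩⟩
    apply hφinj
    show φ ((a : N ⧸ Subgroup.center N) * b) = φ ((b : N ⧸ Subgroup.center N) * a)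
    rw [map_mul, map_mul]
    exact hKab _ ((hmemK₀ a).mp a.2) _ ((hmemK₀ b).mp b.2)
  · intro a ha
    apply hφinj
    rw [map_pow, map_one]
    exact hKp _ ((hmemK₀ a).mp ha)

/-- Let N be a normal subgroup of the finite group G such that for every element x of N outside the center of N the centralizer C_G(x) is a maximal subgroup of G. Then N/Z(N) is either an elementary abelian p-group for some prime p, or a Frobenius group whose kernel is an elementary abelian normal subgroup and whose complement has prime order. -/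
theorem result {G : Type*} [Group G] [Finite G] (N : Subgroup G) [N.Normal]
    (h : ∀ x : G, x ∈ N → x ∉ Subgroup.centralizer (N : Set G) → IsCoatom (Subgroup.centralizer ({x} : Set G))) :
    (∃ p : ℕ, p.Prime ∧ Cfsg.IsElementaryAbelian p (⊤ : Subgroup (↥N ⧸ Subgroup.center ↥N))) ∨
    (∃ (Q K : Subgroup (↥N ⧸ Subgroup.center ↥N)) (p : ℕ), p.Prime ∧ Cfsg.IsFrobeniusComplement Q ∧ (Nat.card ↥Q).Prime ∧
      K.Normal ∧ (K : Set (↥N ⧸ Subgroup.center ↥N)) = Cfsg.frobeniusKernel Q ∧ Cfsg.IsElementaryAbelian p K) := by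
  by_cases hall : ∀ x : G, x ∈ N → x ∉ Subgroup.centralizer (N : Set G) →
      (Subgroup.centralizer ({x} : Set G)).Normal
  · left
    exact elemAb_of_all_normal' N h hall
  · right
    push Not at hall
    obtain ⟨x₀, hx₀N, hx₀, hx₀n⟩ := hall
    exact frobenius_of_not_normal N h hx₀N hx₀ hx₀n

end Cfsg.Agent.S3905
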