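import Cfsg.Statements.S3908
import Mathlib
import Cfsg.Agent.Lib.Helper1.Tools
import Cfsg.Agent.Lib.Helper73.PGroupBasic
import Cfsg.Agent.Lib.Helper73.CyclicIndexTwo
import Cfsg.Agent.S0016

set_option autoImplicit false
open Cfsg

namespace Cfsg.Agent.S3908

/-- Elements of a subgroup of order `p` have `p`-th power one. -/
theorem pow_eq_one_of_mem_of_card {Q : Type*} [Group Q] {p : ℕ} {K : Subgroup Q}
    (hK : Nat.card K = p) {x : Q} (hx : x ∈ K) : x ^ p = 1 := by
  have h := pow_card_eq_one' (G := K) (x := ⟨x, hx⟩)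
  rw [hK] at h
  have := congrArg Subtype.val h
  simpa using this

open Cfsg.Agent.Lib.Helper73 in
/-- A finite `p`-group with an element of order `p ^ 2` and two different subgroups of order `p`
has an abelian subgroup of order `p ^ 2` and exponent `p`. -/
theorem exists_elementary_sq {Q : Type*} [Group Q] [Finite Q] {p : ℕ} [Fact p.Prime]
    (hQ : IsPGroup p Q) [Nontrivial Q] (H K : Subgroup Q) (hH : Nat.card H = p)
    (hK : Nat.card K = p) (hne : H ≠ K) :
    ∃ E : Subgroup Q, IsMulCommutative E ∧ Nat.card E = p ^ 2 ∧ ∀ e ∈ E, e ^ p = 1 := by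
  have hp : p.Prime := Fact.out
  have hZnt : Nontrivial (Subgroup.center Q) := hQ.center_nontrivial
  have hZdvd : p ∣ Nat.card (Subgroup.center Q) := by
    rcases (hQ.to_subgroup (Subgroup.center Q)).card_eq_or_dvd with h | h
    · exfalso
      have : Subsingleton (Subgroup.center Q) := (Nat.card_eq_one_iff_unique.mp h).1
      exact not_subsingleton _ this
    · exact h
  obtain ⟨z', hz'⟩ := exists_prime_orderOf_dvd_card' p hZdvd
  obtain ⟨z, hzc, hzo⟩ : ∃ z : Q, z ∈ Subgroup.center Q ∧ orderOf z = p :=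
    ⟨z', z'.2, by rw [Subgroup.orderOf_coe]; exact hz'⟩
  have hzcomm : ∀ s : Q, s * z = z * s := Subgroup.mem_center_iff.mp hzc
  have hZs_card : Nat.card (Subgroup.zpowers z) = p := by rw [Nat.card_zpowers, hzo]
  have hZs_normal : (Subgroup.zpowers z).Normal := zpowers_normal_of_central hzcomm
  obtain ⟨T, hT, hTZ⟩ : ∃ T : Subgroup Q, Nat.card T = p ∧ T ≠ Subgroup.zpowers z := by
    by_cases h : H = Subgroup.zpowers z
    · exact ⟨K, hK, fun h' => hne (h.trans h'.symm)⟩
    · exact ⟨H, hH, h⟩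
  have hinf : Subgroup.zpowers z ⊓ T = ⊥ := by
    have hd : Nat.card ↥(Subgroup.zpowers z ⊓ T) ∣ p := by
      rw [← hT]; exact Subgroup.card_dvd_of_le inf_le_right
    rcases (Nat.dvd_prime hp).mp hd with h1 | h1
    · exact Subgroup.card_eq_one.mp h1
    · exfalso
      have e1 : Subgroup.zpowers z ⊓ T = T :=
        Subgroup.eq_of_le_of_card_ge inf_le_right (by rw [h1, hT])
      have e2 : Subgroup.zpowers z ⊓ T = Subgroup.zpowers z :=
        Subgroup.eq_of_le_of_card_ge inf_le_left (by rw [h1, hZs_card])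
      exact hTZ (e1.symm.trans e2)
  have hEcard : Nat.card ↥(Subgroup.zpowers z ⊔ T) = p ^ 2 := by
    have := Cfsg.Agent.Lib.Helper1.card_sup_mul_card_inf (Subgroup.zpowers z) T
    rw [hinf, Subgroup.card_bot, mul_one, hZs_card, hT] at this
    rw [this, pow_two]
  have hTcyc : IsCyclic T := isCyclic_of_prime_card hT
  have hdecomp : ∀ e ∈ Subgroup.zpowers z ⊔ T, ∃ n ∈ Subgroup.zpowers z, ∃ t ∈ T, n * t = e := by
    intro e he
    have : e ∈ ((Subgroup.zpowers z ⊔ T : Subgroup Q) : Set Q) := he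
    rw [Subgroup.normal_mul] at this
    exact Set.mem_mul.mp this
  have hcen : ∀ n ∈ Subgroup.zpowers z, ∀ s : Q, s * n = n * s := by
    intro n hn s
    obtain ⟨i, rfl⟩ := Subgroup.mem_zpowers_iff.mp hn
    exact ((Commute.zpow_right (hzcomm s) i)).eq
  refine ⟨Subgroup.zpowers z ⊔ T, ⟨⟨?_⟩⟩, hEcard, ?_⟩
  · rintro ⟨a, ha⟩ ⟨b, hb⟩
    apply Subtype.ext
    change a * b = b * a
    obtain ⟨n, hn, t, ht, rfl⟩ := hdecomp a ha
    obtain ⟨n', hn', t', ht', rfl⟩ := hdecomp b hb
    have h1 : t * t' = t' * t := by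
      have := mul_comm' (⟨t, ht⟩ : T) ⟨t', ht'⟩
      exact congrArg Subtype.val this
    have h2 := hcen n hn
    have h3 := hcen n' hn'
    calc n * t * (n' * t') = n * (t * n') * t' := by group
      _ = n * (n' * t) * t' := by rw [h3 t]
      _ = (n * n') * (t * t') := by group
      _ = (n' * n) * (t' * t) := by rw [h3 n, h1]
      _ = n' * (n * t') * t := by group
      _ = n' * (t' * n) * t := by rw [h2 t']
      _ = n' * t' * (n * t) := by group
  · intro e he
    obtain ⟨n, hn, t, ht, rfl⟩ := hdecomp e he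
    have h2 : Commute n t := (hcen n hn t).symm
    rw [h2.mul_pow, pow_eq_one_of_mem_of_card hZs_card hn, pow_eq_one_of_mem_of_card hT ht, one_mul]

/-- Shape of the Sylow subgroups when abelian subgroups of equal order are conjugate. -/
theorem sylow_shape {G : Type*} [Group G] [Finite G]
    (hB : ∀ A B : Subgroup G, IsMulCommutative ↥A → IsMulCommutative ↥B → Nat.card ↥A = Nat.card ↥B →
      ∃ g : G, B = A.map (MulAut.conj g).toMonoidHom)
    (p : ℕ) [Fact p.Prime] (P : Sylow p G) :
    (∀ x ∈ (P : Subgroup G), x ^ p = 1) ∨ IsCyclic ↥(P : Subgroup G) ∨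
      (p = 2 ∧ ∃ n : ℕ, Nonempty (↥(P : Subgroup G) ≃* QuaternionGroup (2 ^ n))) := by
  have hp : p.Prime := Fact.out
  by_cases hexp : ∀ x ∈ (P : Subgroup G), x ^ p = 1
  · exact Or.inl hexp
  · right
    push Not at hexp
    obtain ⟨x, hxP, hxp⟩ := hexp
    have hPG : IsPGroup p ↥(P : Subgroup G) := P.isPGroup'
    apply Cfsg.Agent.S0016.result p hPG
    intro H K hH hK
    by_contra hne
    have hx1 : (⟨x, hxP⟩ : ↥(P : Subgroup G)) ^ p ≠ 1 := by
      intro h
      apply hxp
      have := congrArg Subtype.val h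
      simpa using this
    have hnt : Nontrivial ↥(P : Subgroup G) := by
      refine ⟨⟨⟨x, hxP⟩, 1, ?_⟩⟩
      intro h
      apply hx1
      rw [h, one_pow]
    obtain ⟨E, hEc, hEcard, hEexp⟩ := exists_elementary_sq hPG H K hH hK hne
    -- an element of order p^2
    obtain ⟨e, he⟩ := IsPGroup.iff_orderOf.mp hPG (⟨x, hxP⟩ : ↥(P : Subgroup G))
    have he2 : 2 ≤ e := by
      by_contra hlt
      apply hx1
      apply orderOf_dvd_iff_pow_eq_one.mp
      rw [he]
      calc p ^ e ∣ p ^ 1 := pow_dvd_pow p (by omega)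
        _ = p := pow_one p
    obtain ⟨y, hy⟩ : ∃ y : ↥(P : Subgroup G), orderOf y = p ^ 2 := by
      refine ⟨(⟨x, hxP⟩ : ↥(P : Subgroup G)) ^ (p ^ (e - 2)), ?_⟩
      rw [orderOf_pow_of_dvd (pow_ne_zero _ hp.ne_zero) (by rw [he]; exact pow_dvd_pow p (by omega)), he,
        Nat.pow_div (by omega) hp.pos]
      congr 1
      omega
    have hXcard : Nat.card (Subgroup.zpowers y) = p ^ 2 := by rw [Nat.card_zpowers, hy]
    have hcardeq : Nat.card ↥(E.map (P : Subgroup G).subtype)
        = Nat.card ↥((Subgroup.zpowers y).map (P : Subgroup G).subtype) := by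
      rw [Subgroup.card_map_of_injective (Subgroup.subtype_injective _),
        Subgroup.card_map_of_injective (Subgroup.subtype_injective _), hEcard, hXcard]
    obtain ⟨g, hg⟩ := hB (E.map (P : Subgroup G).subtype)
      ((Subgroup.zpowers y).map (P : Subgroup G).subtype) inferInstance inferInstance hcardeq
    have hyX : (y : G) ∈ (Subgroup.zpowers y).map (P : Subgroup G).subtype :=
      Subgroup.mem_map_of_mem _ (Subgroup.mem_zpowers y)
    rw [hg] at hyX
    obtain ⟨e', he', hge⟩ := Subgroup.mem_map.mp hyX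
    obtain ⟨e₀, he₀, rfl⟩ := Subgroup.mem_map.mp he'
    have hyp : (y : G) ^ p = 1 := by
      rw [← hge]
      have h1 : ((e₀ : ↥(P : Subgroup G)) : G) ^ p = 1 := by
        have := congrArg Subtype.val (hEexp e₀ he₀)
        simpa using this
      change (g * ((P : Subgroup G).subtype e₀) * g⁻¹) ^ p = 1
      rw [conj_pow, Subgroup.coe_subtype, h1]
      group
    have hyp' : y ^ p = 1 := by
      apply Subtype.ext
      rw [Subgroup.coe_pow, hyp]
      rfl
    have hdvd : orderOf y ∣ p := orderOf_dvd_iff_pow_eq_one.mpr hyp'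
    rw [hy] at hdvd
    have hle := Nat.le_of_dvd hp.pos hdvd
    have hlt : p < p ^ 2 := by
      calc p = p ^ 1 := (pow_one p).symm
        _ < p ^ 2 := Nat.pow_lt_pow_right hp.one_lt (by norm_num)
    omega

open Cfsg.Agent.Lib.Helper73 in
/-- If abelian subgroups of equal order are conjugate, Sylow 2-subgroups are cyclic, elementary abelian or generalized quaternion, and odd Sylow subgroups are cyclic or of exponent p. -/
theorem result {G : Type*} [Group G] [Finite G] (hB : ∀ A B : Subgroup G, IsMulCommutative ↥A → IsMulCommutative ↥B → Nat.card ↥A = Nat.card ↥B → ∃ g : G, B = A.map (MulAut.conj g).toMonoidHom) :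
    (∀ P : Sylow 2 G, IsCyclic ↥(P : Subgroup G) ∨ Cfsg.IsElementaryAbelian 2 (P : Subgroup G) ∨ ∃ k : ℕ, Nonempty (↥(P : Subgroup G) ≃* QuaternionGroup (2 ^ k))) ∧
    ∀ (p : ℕ) [Fact p.Prime], p ≠ 2 → ∀ P : Sylow p G, IsCyclic ↥(P : Subgroup G) ∨ ∀ x ∈ (P : Subgroup G), x ^ p = 1 := by
  constructor
  · intro P
    have : Fact (Nat.Prime 2) := ⟨Nat.prime_two⟩
    rcases sylow_shape hB 2 P with h | h | ⟨_, h⟩
    · right; left
      refine ⟨⟨⟨?_⟩⟩, h⟩
      have hsq : ∀ a : ↥(P : Subgroup G), a ^ 2 = 1 := by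
        intro a
        apply Subtype.ext
        rw [Subgroup.coe_pow, h a a.2]
        rfl
      exact comm_of_sq_eq_one hsq
    · exact Or.inl h
    · exact Or.inr (Or.inr h)
  · intro p _ hp2 P
    rcases sylow_shape hB p P with h | h | ⟨h, _⟩
    · exact Or.inr h
    · exact Or.inl h
    · exact absurd h hp2

end Cfsg.Agent.S3908
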