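import Cfsg.Statements.S3919
import Mathlib
import Cfsg.Agent.Lib.Helper73.MaxClass
import Cfsg.Agent.Lib.Helper73.MaxClass2
import Cfsg.Agent.S0016
import Cfsg.Agent.S0112
import Cfsg.Agent.S3908

set_option autoImplicit false
open Cfsg

namespace Cfsg.Agent.S3919

open Cfsg.Agent.Lib.Helper73 in
/-- A non-abelian 2-group has all non-cyclic subgroups self-centralizing iff it has maximal class (dihedral, semidihedral or generalized quaternion). -/
theorem result {G : Type*} [Group G] [Finite G] (hna : ¬ IsMulCommutative G) (n : ℕ) (hG : Nat.card G = 2 ^ n) :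
    (∀ H : Subgroup G, ¬ IsCyclic ↥H → Subgroup.centralizer (H : Set G) ≤ H) ↔ (⊤ : Subgroup G).lowerCentralSeries (n - 2) ≠ ⊥ := by
  have : Fact (Nat.Prime 2) := ⟨Nat.prime_two⟩
  have h2 : IsPGroup 2 G := IsPGroup.of_card hG
  have hnil : Group.IsNilpotent G := h2.isNilpotent
  have hn3 : 3 ≤ n := three_le_of_not_comm hG hna
  have hnt : Nontrivial G := by
    rw [← Finite.one_lt_card_iff_nontrivial, hG]
    exact Nat.one_lt_pow (by omega) (by norm_num)
  have hiff : (⊤ : Subgroup G).lowerCentralSeries (n - 2) ≠ ⊥ ↔ Group.nilpotencyClass G = n - 1 := by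
    rw [Ne, Subgroup.lowerCentralSeries_eq_bot_iff_nilpotencyClass_le]
    have := nilpotencyClass_le_pred (p := 2) (by omega : 2 ≤ n) hG
    omega
  rw [hiff]
  constructor
  · intro hsc
    by_cases huniq : ∀ H K : Subgroup G, Nat.card H = 2 → Nat.card K = 2 → H = K
    · rcases Cfsg.Agent.S0016.result 2 h2 huniq with hcyc | ⟨_, k, ⟨φ⟩⟩
      · exact absurd (inferInstance : IsMulCommutative G) hna
      · have hk := quaternion_nilpotencyClass k
        have : NeZero (2 ^ k) := ⟨by positivity⟩
        have hcardQ : Nat.card (QuaternionGroup (2 ^ k)) = 2 ^ (k + 2) := by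
          rw [Nat.card_eq_fintype_card, QuaternionGroup.card]; ring
        have hnk : n = k + 2 := by
          have := Nat.card_congr φ.toEquiv
          rw [hG, hcardQ] at this
          exact Nat.pow_right_injective (le_refl 2) this
        have hQnil : Group.IsNilpotent (QuaternionGroup (2 ^ k)) :=
          (IsPGroup.of_card hcardQ).isNilpotent
        have h1 := Group.nilpotencyClass_le_of_surjective φ.toMonoidHom φ.surjective
        have h2' := Group.nilpotencyClass_le_of_surjective φ.symm.toMonoidHom φ.symm.surjective
        omega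
    · push Not at huniq
      obtain ⟨H, K, hH, hK, hne⟩ := huniq
      obtain ⟨E, hEc, hEcard, hEexp⟩ := Cfsg.Agent.S3908.exists_elementary_sq h2 H K hH hK hne
      have hEnc : ¬ IsCyclic E := by
        intro hc
        obtain ⟨g, hg⟩ := hc.exists_generator
        have h1 : orderOf g = Nat.card E := orderOf_eq_card_of_forall_mem_zpowers hg
        have h3 : g ^ 2 = 1 := by
          apply Subtype.ext
          rw [Subgroup.coe_pow, hEexp g g.2]
          rfl
        have h4 : orderOf g ∣ 2 := orderOf_dvd_iff_pow_eq_one.mpr h3
        rw [h1, hEcard] at h4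
        have := Nat.le_of_dvd (by norm_num) h4
        omega
      have hCE := hsc E hEnc
      have hEC : E ≤ Subgroup.centralizer (E : Set G) :=
        Subgroup.le_centralizer_iff_isMulCommutative.mpr hEc
      exact Cfsg.Agent.S0112.result (p := 2) n hG E hEcard (le_antisymm hCE hEC)
  · intro hc H hH
    have hidx : (commutator G).index = 4 := by
      have := commutator_index_of_maximal_class (p := 2) n hn3 hG hc
      simpa using this
    have hne : commutator G ≠ ⊥ := by
      intro h
      rw [← Subgroup.top_lowerCentralSeries_one,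
        Subgroup.lowerCentralSeries_eq_bot_iff_nilpotencyClass_le] at h
      omega
    exact centralizer_le_of_commutator_index_four G h2 hidx hne H hH

end Cfsg.Agent.S3919
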