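import Cfsg.Statements.S3946
import Cfsg.Agent.Lib.Helper34.Kegel
import Cfsg.Agent.Lib.Helper34.EvenEndgame

set_option autoImplicit false
open Cfsg

namespace Cfsg.Agent.S3946

/-- Call an automorphism α of order n of a group G splitting when x · α(x) · α²(x) ⋯ α^(n−1)(x) = 1 for every x ∈ G. A finite group admitting a splitting automorphism of prime order is nilpotent (this contains the case of a fixed-point-free automorphism of prime order). -/
theorem result {G : Type*} [Group G] [Finite G] (α : MulAut G) (hp : (orderOf α).Prime)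
    (hsplit : ∀ x : G, (((List.range (orderOf α)).map (fun i : ℕ => (α ^ i) x)).prod = 1)) : Group.IsNilpotent G := by
  have hLinj : Function.Injective (MulAction.toPermHom G G) := by
    intro g g' h
    have h1 := congrArg (fun σ : Equiv.Perm G => σ 1) h
    simpa using h1
  have hLa : ∀ g x : G, (MulAction.toPermHom G G g) x = g * x := fun g x => rfl
  have haa : ∀ x : G, (MulAut.toPerm G α) x = α x := fun x => rfl
  have key : ∀ (n : ℕ) (g x : G), ((MulAction.toPermHom G G g * MulAut.toPerm G α) ^ n) x
      = ((List.range n).map (fun i : ℕ => (α ^ i) g)).prod * (α ^ n) x := by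
    intro n
    induction n with
    | zero => intro g x; simp
    | succ n ih =>
      intro g x
      rw [pow_succ, Equiv.Perm.mul_apply, Equiv.Perm.mul_apply, ih, haa, hLa, map_mul,
        List.range_succ, List.map_append, List.prod_append, pow_succ, MulAut.mul_apply]
      simp [mul_assoc]
  have hk : Cfsg.Agent.Lib.Helper34.KegelPair (orderOf α) (MulAction.toPermHom G G).range
      (MulAut.toPerm G α) := by
    refine ⟨?_, ?_⟩
    · apply Cfsg.Agent.Lib.Helper34.mem_normalizer_of_forall_conj_mem
      rintro _ ⟨g, rfl⟩
      refine ⟨α g, ?_⟩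
      ext x
      have h1 : α ((MulAut.toPerm G α)⁻¹ x) = x :=
        Equiv.apply_symm_apply (MulAut.toPerm G α) x
      rw [hLa, Equiv.Perm.mul_apply, Equiv.Perm.mul_apply, haa, hLa, map_mul, h1]
    · rintro _ ⟨g, rfl⟩
      ext x
      rw [key, hsplit, pow_orderOf_eq_one, one_mul, Equiv.Perm.one_apply, MulAut.one_apply]
  have hnil := Cfsg.Agent.Lib.Helper34.kegel_nilpotent (orderOf α) hp _ _ hk
  exact (Group.isNilpotent_congr (MonoidHom.ofInjective hLinj)).mpr hnil

end Cfsg.Agent.S3946
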