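import Mathlib
import Cfsg.Statements.S3992
import Cfsg.Agent.S3633
import Cfsg.Agent.Lib.Helper61.MinNormal
import Cfsg.Agent.Lib.Helper3.BurnsidePQ

set_option autoImplicit false
open Cfsg

namespace Cfsg.Agent.S3992

theorem not_isPrimePow_mul {r s : ℕ} (hr : r.Prime) (hs : s.Prime) (hrs : r ≠ s) :
    ¬ IsPrimePow (r * s) := by
  rw [isPrimePow_nat_iff]
  rintro ⟨p, k, hp, -, hk⟩
  have h1 : r ∣ p ^ k := hk ▸ Dvd.intro _ rfl
  have h2 : s ∣ p ^ k := hk ▸ Dvd.intro_left _ rfl
  have h3 := (Nat.prime_dvd_prime_iff_eq hr hp).mp (hr.dvd_of_dvd_pow h1)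
  have h4 := (Nat.prime_dvd_prime_iff_eq hs hp).mp (hs.dvd_of_dvd_pow h2)
  exact hrs (h3.trans h4.symm)

/-- a finite group of prime power order is solvable -/
theorem isSolvable_of_card_eq_pow {G : Type*} [Group G] [Finite G] (r k : ℕ) (hr : r.Prime)
    (h : Nat.card G = r ^ k) : Group.IsSolvable G := by
  have : Fact r.Prime := ⟨hr⟩
  have hp : IsPGroup r G := IsPGroup.of_card h
  have := hp.isNilpotent
  exact IsNilpotent.to_isSolvable

/-- a finite group all of whose prime divisors equal `r` is solvable -/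
theorem isSolvable_of_unique_prime {G : Type*} [Group G] [Finite G] (r : ℕ) (hr : r.Prime)
    (h : ∀ t : ℕ, t.Prime → t ∣ Nat.card G → t = r) : Group.IsSolvable G :=
  isSolvable_of_card_eq_pow r _ hr
    (Nat.eq_prime_pow_of_unique_prime_dvd Nat.card_pos.ne' (fun {d} hd hdvd => h d hd hdvd))

/-- a non-solvable finite group has a prime divisor different from two given primes -/
theorem exists_third_prime {G : Type*} [Group G] [Finite G] (hns : ¬ Group.IsSolvable G)
    (r s : ℕ) (hr : r.Prime) (hs : s.Prime) :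
    ∃ t : ℕ, t.Prime ∧ t ∣ Nat.card G ∧ t ≠ r ∧ t ≠ s := by
  by_contra hcon
  push Not at hcon
  apply hns
  have hg : Nat.card G ≠ 0 := Nat.card_pos.ne'
  have h1 := Nat.ordProj_mul_ordCompl_eq_self (Nat.card G) r
  have h2 : ¬ r ∣ Nat.card G / r ^ (Nat.card G).factorization r := Nat.not_dvd_ordCompl hr hg
  have hc0 : Nat.card G / r ^ (Nat.card G).factorization r ≠ 0 := by
    intro h0
    rw [h0, mul_zero] at h1
    exact hg h1.symm
  have h3 := Nat.eq_prime_pow_of_unique_prime_dvd (p := s) hc0 (by
    intro d hd hdvd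
    have hdG : d ∣ Nat.card G := dvd_trans hdvd (Nat.div_dvd_of_dvd (Nat.ordProj_dvd _ _))
    by_contra hds
    have := hcon d hd hdG
    have hdr : d = r := by
      by_contra hdr
      exact hds (this hdr)
    rw [hdr] at hdvd
    exact h2 hdvd)
  rw [h3] at h1
  exact Cfsg.Agent.Lib.Helper3.burnside_paqb (Nat.card G) G r s _ _ hr hs rfl h1.symm

/-- in a group whose non-identity elements have prime power order, commuting elements of distinct
prime orders do not exist -/
theorem eppo_no_commuting {G : Type*} [Group G]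
    (hpp : ∀ g : G, g ≠ 1 → IsPrimePow (orderOf g)) (a b : G) (r s : ℕ) (hr : r.Prime)
    (hs : s.Prime) (hrs : r ≠ s) (ha : orderOf a = r) (hb : orderOf b = s) (hab : Commute a b) :
    False := by
  have h1 : orderOf (a * b) = r * s := by
    rw [hab.orderOf_mul_eq_mul_orderOf_of_coprime (by
      rw [ha, hb]; exact (Nat.coprime_primes hr hs).mpr hrs), ha, hb]
  have h2 : a * b ≠ 1 := by
    intro h
    rw [h, orderOf_one] at h1
    have := hr.one_lt
    have := hs.one_lt
    nlinarith
  have := hpp _ h2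
  rw [h1] at this
  exact not_isPrimePow_mul hr hs hrs this

theorem eppo_of_orderOf {G : Type*} [Group G]
    (hpp : ∀ g : G, g ≠ 1 → IsPrimePow (orderOf g)) (x : G) (r s : ℕ) (hr : r.Prime)
    (hs : s.Prime) (hrs : r ≠ s) (hx : orderOf x = r * s) : False := by
  have h2 : x ≠ 1 := by
    intro h
    rw [h, orderOf_one] at hx
    have := hr.one_lt
    have := hs.one_lt
    nlinarith
  have := hpp _ h2
  rw [hx] at this
  exact not_isPrimePow_mul hr hs hrs this

/-- Let G be a finite non-solvable group in which every element has prime-power order, and let R be its largest solvable normal subgroup. Then R is a p-group for some prime p; G/R has a non-abelian simple normal subgroup contained in every nontrivial normal subgroup of G/R (its unique minimal normal subgroup); and the order of every solvable subgroup of G has at most two prime divisors. -/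
theorem result {G : Type*} [Group G] [Finite G] (hns : ¬ Group.IsSolvable G) (hpp : ∀ g : G, g ≠ 1 → IsPrimePow (orderOf g))
    (R : Subgroup G) [R.Normal] (hRs : Group.IsSolvable ↥R) (hRmax : ∀ N : Subgroup G, N.Normal → Group.IsSolvable ↥N → N ≤ R) :
    (∃ p : ℕ, p.Prime ∧ IsPGroup p ↥R) ∧
      (∃ M : Subgroup (G ⧸ R), M.Normal ∧ IsSimpleGroup ↥M ∧ ¬ IsMulCommutative ↥M ∧
        ∀ N : Subgroup (G ⧸ R), N.Normal → N ≠ ⊥ → M ≤ N) ∧
      ∀ H : Subgroup G, Group.IsSolvable ↥H → (Nat.card ↥H).primeFactors.card ≤ 2 := by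
  classical
  refine ⟨?_, ?_, ?_⟩
  · -- the radical is a `p`-group
    by_cases hR1 : Nat.card R = 1
    · refine ⟨2, Nat.prime_two, ?_⟩
      apply IsPGroup.of_card (n := 0)
      rw [hR1, pow_zero]
    obtain ⟨r, hr, hrR⟩ := Nat.exists_prime_and_dvd hR1
    by_cases hall : ∀ t : ℕ, t.Prime → t ∣ Nat.card R → t = r
    · refine ⟨r, hr, ?_⟩
      exact IsPGroup.of_card
        (Nat.eq_prime_pow_of_unique_prime_dvd Nat.card_pos.ne' (fun {d} hd hdvd => hall d hd hdvd))
    · exfalso
      push Not at hall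
      obtain ⟨s, hs, hsR, hsr⟩ := hall
      obtain ⟨t, ht, htG, htr, hts⟩ := exists_third_prime hns r s hr hs
      rcases Cfsg.Agent.S3633.solv_three (Nat.card R) R hRs le_rfl r s t hr hs ht (Ne.symm hsr)
        (Ne.symm htr) (Ne.symm hts) hrR hsR htG with ⟨x, hx⟩ | ⟨x, hx⟩ | ⟨x, hx⟩
      · exact eppo_of_orderOf hpp x r s hr hs (Ne.symm hsr) hx
      · exact eppo_of_orderOf hpp x r t hr ht (Ne.symm htr) hx
      · exact eppo_of_orderOf hpp x s t hs ht (Ne.symm hts) hx
  · -- the quotient
    have hppQ : ∀ x : G ⧸ R, x ≠ 1 → IsPrimePow (orderOf x) := by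
      intro x hx
      obtain ⟨g, rfl⟩ := QuotientGroup.mk_surjective x
      have hg : g ≠ 1 := by
        rintro rfl
        exact hx rfl
      have h1 : orderOf (QuotientGroup.mk g : G ⧸ R) ∣ orderOf g := by
        apply orderOf_dvd_of_pow_eq_one
        rw [← QuotientGroup.mk_pow, pow_orderOf_eq_one]
        rfl
      obtain ⟨p, k, hp, hk, hpk⟩ := (isPrimePow_nat_iff _).mp (hpp g hg)
      rw [← hpk] at h1
      obtain ⟨i, -, hi⟩ := (Nat.dvd_prime_pow hp).mp h1
      rw [isPrimePow_nat_iff]
      refine ⟨p, i, hp, ?_, hi.symm⟩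
      rcases Nat.eq_zero_or_pos i with h0 | h0
      · rw [h0, pow_zero, orderOf_eq_one_iff] at hi
        exact absurd hi hx
      · exact h0
    have hrad : ∀ N : Subgroup (G ⧸ R), N.Normal → Group.IsSolvable ↥N → N = ⊥ := by
      intro N hN hNs
      have hle : R ≤ N.comap (QuotientGroup.mk' R) := by
        intro x hx
        rw [Subgroup.mem_comap]
        have : (QuotientGroup.mk' R) x = 1 := (QuotientGroup.eq_one_iff x).mpr hx
        rw [this]
        exact N.one_mem
      have hsol : Group.IsSolvable ↥(N.comap (QuotientGroup.mk' R)) := by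
        apply Group.isSolvable_of_ker_le_range (Subgroup.inclusion hle)
          ((QuotientGroup.mk' R).subgroupComap N)
        intro x hx
        have h1 : (QuotientGroup.mk' R) (x : G) = 1 := by
          have := congrArg Subtype.val (MonoidHom.mem_ker.mp hx)
          exact this
        have h2 : (x : G) ∈ R := (QuotientGroup.eq_one_iff _).mp h1
        exact ⟨⟨x, h2⟩, Subtype.ext rfl⟩
      have h3 := hRmax _ (Subgroup.Normal.comap hN _) hsol
      rw [eq_bot_iff]
      intro y hy
      obtain ⟨g, rfl⟩ := QuotientGroup.mk_surjective y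
      rw [Subgroup.mem_bot]
      exact (QuotientGroup.eq_one_iff g).mpr (h3 hy)
    have htop : (⊤ : Subgroup (G ⧸ R)) ≠ ⊥ := by
      intro h
      apply hns
      have hRtop : R = ⊤ := by
        rw [eq_top_iff]
        intro g _
        have : (QuotientGroup.mk g : G ⧸ R) ∈ (⊤ : Subgroup (G ⧸ R)) := Subgroup.mem_top _
        rw [h, Subgroup.mem_bot] at this
        exact (QuotientGroup.eq_one_iff g).mp this
      have h1 : Group.IsSolvable (⊤ : Subgroup G) := hRtop ▸ hRs
      exact Group.isSolvable_of_isSolvable_injective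
        (f := (Subgroup.topEquiv.symm : G ≃* (⊤ : Subgroup G)).toMonoidHom)
        (Subgroup.topEquiv.symm.injective)
    -- a minimal normal subgroup
    let 𝒩 : Set (Subgroup (G ⧸ R)) := {N | N.Normal ∧ N ≠ ⊥}
    obtain ⟨M, ⟨hMn, hM1⟩, hMmin⟩ := Set.exists_min_image 𝒩 (fun S => Nat.card S)
      (Set.toFinite 𝒩) ⟨⊤, inferInstance, htop⟩
    have hmin : ∀ M' : Subgroup (G ⧸ R), M'.Normal → M' ≤ M → M' = ⊥ ∨ M' = M := by
      intro M' hM'n hle
      by_cases h : M' = ⊥
      · exact Or.inl h
      · exact Or.inr (Subgroup.eq_of_le_of_card_ge hle (hMmin M' ⟨hM'n, h⟩))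
    have hMns : ¬ Group.IsSolvable ↥M := fun h => hM1 (hrad M hMn h)
    obtain ⟨T₀, m, hsimple, hm, ⟨e⟩⟩ := Cfsg.Agent.Lib.Helper61.minNormal_aux M hM1 hmin
    -- two primes dividing the order of `T₀`
    have hT1 : Nat.card T₀ ≠ 1 := by
      intro h
      have := (Nat.card_eq_one_iff_unique.mp h).1
      have hnt := hsimple.toNontrivial
      exact not_subsingleton T₀ this
    obtain ⟨r, hr, hrT⟩ := Nat.exists_prime_and_dvd hT1
    have htwo : ∃ s : ℕ, s.Prime ∧ s ∣ Nat.card T₀ ∧ s ≠ r := by
      by_contra hcon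
      push Not at hcon
      apply hMns
      have h1 : Nat.card T₀ = r ^ _ :=
        Nat.eq_prime_pow_of_unique_prime_dvd Nat.card_pos.ne' (fun {d} hd hdvd => hcon d hd hdvd)
      have h2 : Nat.card M = r ^ ((Nat.card T₀).primeFactorsList.length * m) := by
        rw [Nat.card_congr e.toEquiv, Nat.card_fun, Nat.card_fin, pow_mul, ← h1]
      exact isSolvable_of_card_eq_pow r _ hr h2
    obtain ⟨s, hs, hsT, hsr⟩ := htwo
    have hm1 : m = 1 := by
      by_contra hne
      have hm2 : 2 ≤ m := by omega
      have : Fact r.Prime := ⟨hr⟩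
      have : Fact s.Prime := ⟨hs⟩
      obtain ⟨a, ha⟩ := exists_prime_orderOf_dvd_card' r hrT
      obtain ⟨b, hb⟩ := exists_prime_orderOf_dvd_card' s hsT
      let i0 : Fin m := ⟨0, by omega⟩
      let i1 : Fin m := ⟨1, by omega⟩
      have hi : i0 ≠ i1 := by
        intro h
        have := congrArg Fin.val h
        simp [i0, i1] at this
      let u : Fin m → T₀ := Pi.mulSingle i0 a
      let v : Fin m → T₀ := Pi.mulSingle i1 b
      have hu : orderOf u = r := by
        rw [← ha]
        exact orderOf_injective (MonoidHom.mulSingle (fun _ : Fin m => T₀) i0)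
          (Pi.mulSingle_injective (M := fun _ : Fin m => ↥T₀) i0) a
      have hv : orderOf v = s := by
        rw [← hb]
        exact orderOf_injective (MonoidHom.mulSingle (fun _ : Fin m => T₀) i1)
          (Pi.mulSingle_injective (M := fun _ : Fin m => ↥T₀) i1) b
      have huv : Commute u v := Pi.mulSingle_commute (f := fun _ : Fin m => ↥T₀) hi a b
      have hu' : orderOf ((e.symm u : M) : G ⧸ R) = r := by
        rw [Subgroup.orderOf_coe, MulEquiv.orderOf_eq, hu]
      have hv' : orderOf ((e.symm v : M) : G ⧸ R) = s := by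
        rw [Subgroup.orderOf_coe, MulEquiv.orderOf_eq, hv]
      have huv' : Commute ((e.symm u : M) : G ⧸ R) ((e.symm v : M) : G ⧸ R) := by
        have h1 : e.symm u * e.symm v = e.symm v * e.symm u := by
          rw [← map_mul, ← map_mul, huv.eq]
        exact congrArg Subtype.val h1
      exact eppo_no_commuting hppQ _ _ r s hr hs (Ne.symm hsr) hu' hv' huv'
    subst hm1
    have hMsimple : IsSimpleGroup ↥M := (e.trans (MulEquiv.funUnique (Fin 1) T₀)).isSimpleGroup
    refine ⟨M, hMn, hMsimple, ?_, ?_⟩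
    · intro hcomm
      apply hMns
      exact Group.isSolvable_of_comm (fun a b => mul_comm' a b)
    · intro N hNn hN1
      by_contra hle
      have hinf : M ⊓ N = ⊥ := by
        rcases hmin (M ⊓ N) (Subgroup.normal_inf_normal M N) inf_le_left with h | h
        · exact h
        · exact absurd (h ▸ inf_le_right) hle
      have hcomm := Subgroup.commute_of_normal_of_disjoint M N hMn hNn (disjoint_iff.mpr hinf)
      have hNc : Nat.card N ≠ 1 := by
        have := (Subgroup.one_lt_card_iff_ne_bot N).mpr hN1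
        omega
      obtain ⟨s', hs', hs'N⟩ := Nat.exists_prime_and_dvd hNc
      have : Fact s'.Prime := ⟨hs'⟩
      obtain ⟨b, hb⟩ := exists_prime_orderOf_dvd_card' s' hs'N
      have hex : ∃ r' : ℕ, r'.Prime ∧ r' ∣ Nat.card M ∧ r' ≠ s' := by
        by_contra hcon
        push Not at hcon
        exact hMns (isSolvable_of_unique_prime s' hs' hcon)
      obtain ⟨r', hr', hr'M, hr's'⟩ := hex
      have : Fact r'.Prime := ⟨hr'⟩
      obtain ⟨a, ha⟩ := exists_prime_orderOf_dvd_card' r' hr'M
      exact eppo_no_commuting hppQ (a : G ⧸ R) (b : G ⧸ R) r' s' hr' hs' hr's'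
        (by rw [Subgroup.orderOf_coe, ha]) (by rw [Subgroup.orderOf_coe, hb])
        (hcomm a b a.2 b.2)
  · -- solvable subgroups
    intro H hH
    by_contra hcon
    push Not at hcon
    obtain ⟨r, hr, s, hs, t, ht, hrs, hrt, hst⟩ := Finset.two_lt_card.mp hcon
    have hr' := Nat.prime_of_mem_primeFactors hr
    have hs' := Nat.prime_of_mem_primeFactors hs
    have ht' := Nat.prime_of_mem_primeFactors ht
    have hppH : ∀ x : H, x ≠ 1 → IsPrimePow (orderOf x) := by
      intro x hx
      rw [← Subgroup.orderOf_coe]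
      apply hpp
      intro h
      exact hx (Subtype.ext h)
    have htopc : Nat.card (⊤ : Subgroup H) = Nat.card H := Subgroup.card_top
    have hsolv : Group.IsSolvable (⊤ : Subgroup H) := inferInstance
    rcases Cfsg.Agent.S3633.solv_three (G := H) (Nat.card H) ⊤ hsolv (le_of_eq htopc) r s t hr' hs'
      ht' hrs hrt hst (by rw [htopc]; exact Nat.dvd_of_mem_primeFactors hr)
      (by rw [htopc]; exact Nat.dvd_of_mem_primeFactors hs)
      (Nat.dvd_of_mem_primeFactors ht) with ⟨x, hx⟩ | ⟨x, hx⟩ | ⟨x, hx⟩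
    · exact eppo_of_orderOf hppH x r s hr' hs' hrs hx
    · exact eppo_of_orderOf hppH x r t hr' ht' hrt hx
    · exact eppo_of_orderOf hppH x s t hs' ht' hst hx

end Cfsg.Agent.S3992
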