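import Cfsg.Statements.S3999
import Cfsg.Agent.Lib.Helper50.FOT.Defs
import Cfsg.Agent.Lib.Helper45.FOT.Bij
import Cfsg.Agent.Lib.Helper49.FOT.FF
import Cfsg.Agent.Lib.Helper55.FOT.Ord
import Cfsg.Agent.Lib.Helper93.FOT.HallN
import Cfsg.Agent.Lib.Helper15.FOT.GFrob
import Cfsg.Agent.Lib.Helper75.FOT.Cnt
import Cfsg.Agent.Lib.Helper8.FOT.Solv
import Cfsg.Agent.Lib.Helper23.FOT.Cnt5
import Cfsg.Agent.Lib.Helper78.FOT.Syl6
import Cfsg.Agent.Lib.Helper23.FOT.SL25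

set_option autoImplicit false
open Cfsg

namespace Cfsg.Agent.S3999

/-- Let F be a finite Frobenius group (it has a Frobenius complement) and G a finite group with the same order type as F (for every m the same number of elements of order m). Then G is a Frobenius group; moreover G is solvable if and only if F is. -/
theorem result {F G : Type*} [Group F] [Finite F] [Group G] [Finite G] (hF : (∃ C : Subgroup F, Cfsg.IsFrobeniusComplement C)) (hT : (∀ m : ℕ, Nat.card {g : F // orderOf g = m} = Nat.card {h : G // orderOf h = m})) :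
    (∃ C : Subgroup G, Cfsg.IsFrobeniusComplement C) ∧ (Group.IsSolvable G ↔ Group.IsSolvable F) :=
  Cfsg.Agent.Lib.Helper50.FOT.s3999_of
    Cfsg.Agent.Lib.Helper45.FOT.pkgBij
    Cfsg.Agent.Lib.Helper49.FOT.pkgFF Cfsg.Agent.Lib.Helper49.FOT.pkgFF
    Cfsg.Agent.Lib.Helper55.FOT.pkgOrd
    Cfsg.Agent.Lib.Helper93.FOT.pkgHallN
    Cfsg.Agent.Lib.Helper15.FOT.pkgGFrob
    Cfsg.Agent.Lib.Helper75.FOT.pkgCnt Cfsg.Agent.Lib.Helper75.FOT.pkgCnt
    Cfsg.Agent.Lib.Helper8.FOT.pkgSolv Cfsg.Agent.Lib.Helper8.FOT.pkgSolv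
    Cfsg.Agent.Lib.Helper23.FOT.pkgSL25 Cfsg.Agent.Lib.Helper23.FOT.pkgSL25
    (Cfsg.Agent.Lib.Helper50.FOT.pkgHall6_of Cfsg.Agent.Lib.Helper78.FOT.pkgSyl6 Cfsg.Agent.Lib.Helper23.FOT.pkgCnt5)
    (Cfsg.Agent.Lib.Helper50.FOT.pkgHall6_of Cfsg.Agent.Lib.Helper78.FOT.pkgSyl6 Cfsg.Agent.Lib.Helper23.FOT.pkgCnt5)
    hF hT

end Cfsg.Agent.S3999
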