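import Mathlib
import Cfsg.Statements.S4002
import Cfsg.Agent.S3633

set_option autoImplicit false
open Cfsg

namespace Cfsg.Agent.S4002

/-- three primes up to `n` with all pairwise products above `n` -/
theorem exists_three_primes (n : ℕ) (hn : 7 ≤ n) :
    ∃ p q r : ℕ, p.Prime ∧ q.Prime ∧ r.Prime ∧ p < q ∧ q < r ∧ r ≤ n ∧ n < p * q := by
  by_cases h1 : n ≤ 14
  · exact ⟨3, 5, 7, by norm_num, by norm_num, by norm_num, by norm_num, by norm_num, hn, by omega⟩
  by_cases h2 : n ≤ 34
  · exact ⟨5, 7, 11, by norm_num, by norm_num, by norm_num, by norm_num, by norm_num, by omega,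
      by omega⟩
  have hm : 4 ≤ n / 8 := by omega
  obtain ⟨p, hp, hp1, hp2⟩ := Nat.exists_prime_lt_and_le_two_mul (n / 8) (by omega)
  obtain ⟨q, hq, hq1, hq2⟩ := Nat.exists_prime_lt_and_le_two_mul (2 * (n / 8)) (by omega)
  obtain ⟨r, hr, hr1, hr2⟩ := Nat.exists_prime_lt_and_le_two_mul (4 * (n / 8)) (by omega)
  refine ⟨p, q, r, hp, hq, hr, by omega, by omega, by omega, ?_⟩
  have h3 : n < 8 * (n / 8) + 8 := by omega
  nlinarith

/-- If the set of element orders of a finite group G is {1, 2, …, n} with n ≥ 7, then G is not solvable. -/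
theorem result {G : Type*} [Group G] [Finite G] (n : ℕ) (hn : 7 ≤ n) (h : Set.range (orderOf : G → ℕ) = {k : ℕ | 1 ≤ k ∧ k ≤ n}) : ¬ Group.IsSolvable G := by
  obtain ⟨p, q, r, hp, hq, hr, hpq, hqr, hrn, hn2⟩ := exists_three_primes n hn
  have hmem : ∀ k : ℕ, 1 ≤ k → k ≤ n → ∃ g : G, orderOf g = k := by
    intro k hk1 hk2
    have : k ∈ Set.range (orderOf : G → ℕ) := by
      rw [h]; exact ⟨hk1, hk2⟩
    exact this
  have hnot : ∀ k : ℕ, n < k → ¬ ∃ g : G, orderOf g = k := by
    rintro k hk ⟨g, hg⟩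
    have : k ∈ Set.range (orderOf : G → ℕ) := ⟨g, hg⟩
    rw [h] at this
    exact absurd this.2 (by omega)
  have hdvd : ∀ k : ℕ, 1 ≤ k → k ≤ n → k ∣ Nat.card G := by
    intro k hk1 hk2
    obtain ⟨g, hg⟩ := hmem k hk1 hk2
    rw [← hg]
    exact orderOf_dvd_natCard g
  have hcard : ({p, q, r} : Finset ℕ).card = 3 := by
    rw [Finset.card_insert_of_notMem, Finset.card_insert_of_notMem, Finset.card_singleton]
    · simp; omega
    · simp; omega
  have hpq' : n < p * r := by nlinarith
  have hqr' : n < q * r := by nlinarith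
  have key := Cfsg.Agent.S3633.result (G := G) ({p, q, r} : Finset ℕ) (by rw [hcard])
    ⟨by
      intro s hs
      simp only [Finset.mem_insert, Finset.mem_singleton] at hs
      rcases hs with rfl | rfl | rfl
      · exact ⟨hp, hdvd _ hp.one_lt.le (by omega)⟩
      · exact ⟨hq, hdvd _ hq.one_lt.le (by omega)⟩
      · exact ⟨hr, hdvd _ hr.one_lt.le (by omega)⟩,
     by
      intro s hs t ht hst
      apply hnot
      simp only [Finset.mem_insert, Finset.mem_singleton] at hs ht
      rcases hs with rfl | rfl | rfl <;> rcases ht with rfl | rfl | rfl <;>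
        first
        | exact absurd rfl hst
        | assumption
        | (rw [mul_comm]; assumption)⟩
    (⊥ : Subgroup G) inferInstance
  exact key.2

end Cfsg.Agent.S4002
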