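import Cfsg.Statements.S4014
import Cfsg.Agent.S2254
import Cfsg.Agent.Lib.Helper95.WreathDL
import Mathlib

set_option autoImplicit false
open Cfsg

namespace Cfsg.Agent.S4014

open Cfsg.Agent.Lib.Helper95.WreathDL
open Cfsg.Agent.S2255 (restrP restrP_injective)
open Cfsg.Agent.S2254 (orbit_invariant)

theorem card_mulZMod (p : ℕ) [NeZero p] : Nat.card (Multiplicative (ZMod p)) = p := by
  rw [Nat.card_eq_fintype_card, Fintype.card_multiplicative, ZMod.card]

/-- every `p`-subgroup of the symmetric group on `m` letters has derived length at most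
`log_p m` -/
theorem upper (p : ℕ) [Fact p.Prime] : ∀ m : ℕ, ∀ (α : Type) [Fintype α] [DecidableEq α],
    Nat.card α = m → ∀ P : Subgroup (Equiv.Perm α), IsPGroup p P → DL P (Nat.log p m) := by
  have hp : p.Prime := Fact.out
  have : NeZero p := ⟨hp.ne_zero⟩
  intro m
  induction m using Nat.strong_induction_on with
  | _ m ih =>
    intro α _ _ hα P hP
    classical
    rcases isEmpty_or_nonempty α with hempty | hne
    · unfold DL
      exact Subsingleton.elim _ _
    · obtain ⟨ω⟩ := hne
      by_cases htr : MulAction.orbit P ω = Set.univ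
      · obtain ⟨k, hk⟩ := hP.card_orbit ω
        have hcard : Nat.card α = p ^ k := by
          rw [← hk, htr]; exact (Nat.card_congr (Equiv.Set.univ α)).symm
        obtain ⟨P', hP'⟩ := hP.exists_le_sylow
        have e := Sylow.mulEquivIteratedWreathProduct p k α hcard (Multiplicative (ZMod p))
          (card_mulZMod p) P'
        have hlog : Nat.log p m = k := by
          rw [← hα, hcard]; exact Nat.log_pow hp.one_lt k
        rw [hlog]
        exact DL_of_injective (e.toMonoidHom.comp (Subgroup.inclusion hP'))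
          (e.injective.comp (Subgroup.inclusion_injective hP')) (DL_iterated _ k)
      · set s := MulAction.orbit P ω with hs
        have hinv : ∀ σ ∈ P, ∀ x, σ x ∈ s ↔ x ∈ s := orbit_invariant P ω
        have hinv' : ∀ σ ∈ P, ∀ x, ¬ σ x ∈ s ↔ ¬ x ∈ s :=
          fun σ hσ x => not_congr (hinv σ hσ x)
        set ρ₁ := restrP P (· ∈ s) hinv with hρ₁
        set ρ₂ := restrP P (fun x => ¬ x ∈ s) hinv' with hρ₂
        have hadd : Nat.card {x // x ∈ s} + Nat.card {x // ¬ x ∈ s} = m := by
          rw [← hα, Nat.card_eq_fintype_card, Nat.card_eq_fintype_card,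
            Nat.card_eq_fintype_card, Fintype.card_subtype_compl]
          have := Fintype.card_subtype_le (· ∈ s)
          omega
        have hs0 : 0 < Nat.card {x // x ∈ s} := by
          have : Nonempty {x // x ∈ s} := ⟨⟨ω, MulAction.mem_orbit_self ω⟩⟩
          exact Nat.card_pos
        have hsc0 : 0 < Nat.card {x // ¬ x ∈ s} := by
          obtain ⟨y, hy⟩ := (Set.ne_univ_iff_exists_notMem s).mp htr
          have : Nonempty {x // ¬ x ∈ s} := ⟨⟨y, hy⟩⟩
          exact Nat.card_pos
        have hp1 : IsPGroup p ρ₁.range :=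
          hP.of_surjective ρ₁.rangeRestrict (MonoidHom.rangeRestrict_surjective _)
        have hp2 : IsPGroup p ρ₂.range :=
          hP.of_surjective ρ₂.rangeRestrict (MonoidHom.rangeRestrict_surjective _)
        have h1 := ih _ (by omega) {x // x ∈ s} rfl ρ₁.range hp1
        have h2 := ih _ (by omega) {x // ¬ x ∈ s} rfl ρ₂.range hp2
        have hinj := restrP_injective P (· ∈ s) hinv hinv'
        refine DL_of_two ρ₁.rangeRestrict ρ₂.rangeRestrict ?_
          (DL_mono (Nat.log_mono_right (by omega)) h1)
          (DL_mono (Nat.log_mono_right (by omega)) h2)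
        intro x hx1 hx2
        apply hinj
        show (ρ₁.rangeRestrict x, ρ₂.rangeRestrict x) = (ρ₁.rangeRestrict 1, ρ₂.rangeRestrict 1)
        rw [hx1, hx2, map_one, map_one]

/-- Let p be a prime, n ≥ 1, and P a Sylow p-subgroup of the symmetric group on n letters. Then the derived length of P is exactly k = ⌊log_p n⌋ (the largest k with p^k ≤ n): the k-th derived subgroup of P is trivial and, when k ≥ 1, the (k−1)-st is not. -/
theorem result (p : ℕ) [Fact p.Prime] (n : ℕ) (hn : 1 ≤ n) (P : Sylow p (Equiv.Perm (Fin n))) : derivedSeries ↥(P : Subgroup (Equiv.Perm (Fin n))) (Nat.log p n) = ⊥ ∧ (1 ≤ Nat.log p n → derivedSeries ↥(P : Subgroup (Equiv.Perm (Fin n))) (Nat.log p n - 1) ≠ ⊥) := by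
  have hp : p.Prime := Fact.out
  have : NeZero p := ⟨hp.ne_zero⟩
  refine ⟨upper p n (Fin n) (Nat.card_fin n) P P.isPGroup', ?_⟩
  intro hk
  have hpk : p ^ Nat.log p n ≤ n := Nat.pow_log_le_self p (by omega)
  generalize Nat.log p n = k at hk hpk ⊢
  obtain ⟨k', rfl⟩ : ∃ k', k = k' + 1 := ⟨k - 1, by omega⟩
  rw [Nat.add_sub_cancel]
  have hG : Nat.card (Multiplicative (ZMod p)) = p := card_mulZMod p
  have : Nontrivial (Multiplicative (ZMod p)) := by
    rw [← Finite.one_lt_card_iff_nontrivial, hG]; exact hp.one_lt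
  have hφ := iteratedWreathToPermHomInj (Multiplicative (ZMod p)) (k' + 1)
  have hcardle : Fintype.card (Fin (k' + 1) → Multiplicative (ZMod p)) ≤ Fintype.card (Fin n) := by
    rw [← Nat.card_eq_fintype_card, ← Nat.card_eq_fintype_card, Nat.card_fun, Nat.card_fin, hG,
      Nat.card_fin]
    exact hpk
  obtain ⟨ι⟩ : Nonempty ((Fin (k' + 1) → Multiplicative (ZMod p)) ↪ Fin n) :=
    Function.Embedding.nonempty_of_card_le hcardle
  classical
  let ψ : IteratedWreathProduct (Multiplicative (ZMod p)) (k' + 1) →* Equiv.Perm (Fin n) :=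
    (Equiv.Perm.viaEmbeddingHom ι).comp (iteratedWreathToPermHom (Multiplicative (ZMod p)) (k' + 1))
  have hψ : Function.Injective ψ := (Equiv.Perm.viaEmbeddingHom_injective ι).comp hφ
  have hW : IsPGroup p (IteratedWreathProduct (Multiplicative (ZMod p)) (k' + 1)) :=
    IsPGroup.of_card (by rw [IteratedWreathProduct.card, hG])
  have hR : IsPGroup p ψ.range :=
    hW.of_surjective ψ.rangeRestrict (MonoidHom.rangeRestrict_surjective _)
  obtain ⟨P', hP'⟩ := hR.exists_le_sylow
  let f : IteratedWreathProduct (Multiplicative (ZMod p)) (k' + 1) →* P :=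
    (P'.equiv P).toMonoidHom.comp ((Subgroup.inclusion hP').comp ψ.rangeRestrict)
  have hf : Function.Injective f :=
    (P'.equiv P).injective.comp ((Subgroup.inclusion_injective hP').comp
      (MonoidHom.rangeRestrict_injective_iff.mpr hψ))
  intro hbot
  exact not_DL_iterated (Multiplicative (ZMod p)) k' (DL_of_injective f hf hbot)

end Cfsg.Agent.S4014
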