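import Mathlib
import Cfsg.Statements.S4016
import Cfsg.Agent.Lib.Helper67.CycH

set_option autoImplicit false
open Cfsg

namespace Cfsg.Agent.S4016

open Cfsg.Agent.Lib.Helper67.Cyc

universe u

theorem main (p : ℕ) [Fact p.Prime] : ∀ n : ℕ, ∀ (G : Type u) [Group G] [Finite G],
    Nat.card G = n → ∀ P : Sylow p G, IsCyclic (P : Subgroup G) → PAb p G →
      Cfsg.HasNormalPComplement p G ∨ (P : Subgroup G).Normal := by
  intro n
  induction n using Nat.strong_induction_on with
  | _ n IH =>
    intro G _ _ hn P hcyc hab
    by_contra hcon
    rw [not_or] at hcon
    obtain ⟨hnc, hnn⟩ := hcon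
    have hallcyc : ∀ P' : Sylow p G, IsCyclic (P' : Subgroup G) := by
      intro P'
      obtain ⟨g, hg⟩ := MulAction.exists_smul_eq G P P'
      rw [← hg]
      exact isCyclic_of_surjective (Sylow.equivSMul P g) (Sylow.equivSMul P g).surjective
    have hallnn : ∀ P' : Sylow p G, ¬ (P' : Subgroup G).Normal := by
      intro P' hP'
      obtain ⟨g, hg⟩ := MulAction.exists_smul_eq G P' P
      have h1 : g • P' = P' := Sylow.smul_eq_of_normal
      rw [h1] at hg
      rw [hg] at hP'
      exact hnn hP'
    have hce : CE p G :=
      { cyc := hallcyc
        ab := hab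
        nn := hallnn
        nc := hnc
        ih := by
          intro X P' hX hP'X
          have hlt : Nat.card X < n := by
            rw [← hn]
            have h1 : Nat.card X ≤ Nat.card G := Subgroup.card_le_card_group X
            have h2 : Nat.card X ≠ Nat.card G := fun h => hX (Subgroup.eq_top_of_card_eq X h)
            omega
          have hres := IH (Nat.card X) hlt X rfl (P'.subtype hP'X)
            (isCyclic_sylow_subgroup hallcyc X _) (hab.subgroup X)
          rcases hres with h1 | h1
          · right
            exact h1
          · left
            intro g hg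
            apply mem_normalizer_of_forall_conj_mem
            intro z hz
            have hz' : (⟨z, hP'X hz⟩ : X) ∈ ((P'.subtype hP'X : Sylow p X) : Subgroup X) := by
              rw [Sylow.coe_subtype, Subgroup.mem_subgroupOf]
              exact hz
            have h2 := h1.conj_mem _ hz' ⟨g, hg⟩
            rw [Sylow.coe_subtype, Subgroup.mem_subgroupOf] at h2
            exact h2 }
    exact hce.false

/-- Let G be a finite group and p a prime such that a Sylow p-subgroup P of G is cyclic and every subgroup of G of order prime to p is abelian. Then G has a normal p-complement or P is normal in G. -/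
theorem result {G : Type*} [Group G] [Finite G] {p : ℕ}
    [Fact p.Prime] (P : Sylow p G) (hcyc : IsCyclic P)
    (hab : ∀ H : Subgroup G, ¬ p ∣ Nat.card H → IsMulCommutative H) :
    Cfsg.HasNormalPComplement p G ∨ (P : Subgroup G).Normal :=
  main p (Nat.card G) G rfl P hcyc hab

end Cfsg.Agent.S4016
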