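import Mathlib
import Cfsg.Statements.S4018
import Cfsg.Agent.Lib.Helper67.InvGraph

set_option autoImplicit false
open Cfsg

namespace Cfsg.Agent.S4018

open Cfsg.Agent.Lib.Helper67 Cfsg.Agent.Lib.Helper67.Cyc

/-- Let G be a finite group with an abelian Sylow 3-subgroup P such that the normalizer of P has order 4·#P, the centralizer C of P has order 2·#P, C meets each of its conjugates by elements outside its normalizer trivially, and every proper subgroup of G of even order has order dividing 4·#P. Then G is not simple. -/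
theorem result {G : Type*} [Group G] [Finite G]
    (P : Sylow 3 G) (hab : IsMulCommutative P)
    (hN : Nat.card (Subgroup.normalizer ((P : Subgroup G) : Set G)) = 4 * Nat.card P)
    (hC : Nat.card (Subgroup.centralizer (P : Set G)) = 2 * Nat.card P)
    (hTI : Cfsg.IsTISubset (Subgroup.centralizer (P : Set G) : Set G))
    (heven : ∀ H : Subgroup G, H ≠ ⊤ → 2 ∣ Nat.card H → Nat.card H ∣ 4 * Nat.card P) :
    ¬ IsSimpleGroup G := by
  classical
  intro hsimp
  have hcardP : Nat.card P = Nat.card (P : Subgroup G) := rfl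
  rw [hcardP] at hN hC heven
  set C := Subgroup.centralizer (P : Set G) with hCdef
  set N := Subgroup.normalizer ((P : Subgroup G) : Set G) with hNdef
  -- `P ≤ C`
  have hPC : (P : Subgroup G) ≤ C := by
    intro z hz
    rw [hCdef, Subgroup.mem_centralizer_iff]
    intro h hh
    have := hab.is_comm.comm (⟨h, hh⟩ : P) ⟨z, hz⟩
    exact congrArg (fun t : ↥P => (t : G)) this
  have hPpow : ∀ z ∈ (P : Subgroup G), ∃ k : ℕ, z ^ 3 ^ k = 1 :=
    fun z hz => exists_pow_of_mem_sylow P hz
  -- the involution `v` of `C`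
  have h2C : 2 ∣ Nat.card C := by rw [hC]; exact dvd_mul_right 2 _
  obtain ⟨v', hv'⟩ := exists_prime_orderOf_dvd_card' (G := C) 2 h2C
  obtain ⟨v, hvC⟩ := v'
  have hv2 : orderOf v = 2 := by
    rw [← hv']
    exact (Subgroup.orderOf_mk _ _).symm
  have hvP : ∀ z ∈ (P : Subgroup G), v * z = z * v := by
    intro z hz
    exact ((Subgroup.mem_centralizer_iff.mp hvC) z hz).symm
  have hnotP : ∀ u : G, orderOf u = 2 → u ∉ (P : Subgroup G) := by
    intro u hu huP
    obtain ⟨k, hk⟩ := hPpow u huP
    have h1 : orderOf u ∣ 3 ^ k := orderOf_dvd_of_pow_eq_one hk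
    rw [hu] at h1
    have := Nat.Prime.dvd_of_dvd_pow Nat.prime_two h1
    omega
  have hidxC : ∀ a b : G, a ∈ C → b ∈ C → a ∉ (P : Subgroup G) → b ∉ (P : Subgroup G) →
      a * b ∈ (P : Subgroup G) := fun a b ha hb =>
    mul_mem_of_card_le_two_mul (P : Subgroup G) C hPC (by rw [hC]) ha hb
  have hsq_eq_one : ∀ a ∈ (P : Subgroup G), a * a = 1 → a = 1 := by
    intro a ha h2
    obtain ⟨k, hk⟩ := hPpow a ha
    have h1 : orderOf a ∣ 3 ^ k := orderOf_dvd_of_pow_eq_one hk
    have h2' : orderOf a ∣ 2 := orderOf_dvd_of_pow_eq_one (by rw [pow_two]; exact h2)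
    have h3' : orderOf a ∣ Nat.gcd 2 (3 ^ k) := Nat.dvd_gcd h2' h1
    have h4 : Nat.gcd 2 (3 ^ k) = 1 := Nat.Coprime.pow_right k (by decide)
    rw [h4] at h3'
    exact orderOf_eq_one_iff.mp (Nat.dvd_one.mp h3')
  have hvv := mul_self_of_orderOf_two hv2
  -- `v` is the only involution of `C`
  have huniq : ∀ u ∈ C, orderOf u = 2 → u = v := by
    intro u huC hu
    have ha : v * u ∈ (P : Subgroup G) := hidxC v u hvC huC (hnotP v hv2) (hnotP u hu)
    have hcomm := hvP (v * u) ha
    have hu2' := mul_self_of_orderOf_two hu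
    have huv : u * v = v * u := by
      have : v * (v * u) = v * (u * v) := by rw [hcomm]; group
      exact (mul_left_cancel this).symm
    have h1 : (v * u) * (v * u) = 1 := by
      calc (v * u) * (v * u) = v * (u * v) * u := by group
        _ = v * (v * u) * u := by rw [huv]
        _ = (v * v) * (u * u) := by group
        _ = 1 := by rw [hvv, hu2', one_mul]
    have h2 := hsq_eq_one _ ha h1
    have : u = v⁻¹ := eq_inv_of_mul_eq_one_right h2
    rw [this, inv_eq_self_of_orderOf_two hv2]
  -- the `3`-elements of `C` lie in `P`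
  have hthree : ∀ c ∈ C, (∃ k : ℕ, c ^ 3 ^ k = 1) → c ∈ (P : Subgroup G) := by
    rintro c hcC ⟨k, hk⟩
    by_contra hcP
    have ha : v * c ∈ (P : Subgroup G) := hidxC v c hvC hcC (hnotP v hv2) hcP
    have hcomm := hvP (v * c) ha
    have hvc : Commute v c := by
      have : v * (v * c) = v * (c * v) := by rw [hcomm]; group
      exact mul_left_cancel this
    have h1 : (v * c) ^ 3 ^ k = v ^ 3 ^ k * c ^ 3 ^ k := hvc.mul_pow _
    rw [hk, mul_one] at h1
    have h2 : v ^ 3 ^ k = v := by
      have hodd : Odd (3 ^ k) := Odd.pow (by decide)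
      obtain ⟨j, hj⟩ := hodd
      rw [hj, pow_succ, pow_mul, pow_two, hvv, one_pow, one_mul]
    rw [h2] at h1
    apply hnotP v hv2
    rw [← h1]
    exact Subgroup.pow_mem _ ha _
  -- the normalizer of `C`
  set NC := Subgroup.normalizer ((C : Subgroup G) : Set G) with hNCdef
  have hNCN : NC ≤ N := by
    intro g hg
    apply mem_normalizer_of_forall_conj_mem
    intro z hz
    apply hthree
    · exact conj_mem_of_mem_normalizer C hg (hPC hz)
    · obtain ⟨k, hk⟩ := hPpow z hz
      exact ⟨k, by rw [conj_pow, hk, mul_one, mul_inv_cancel]⟩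
  have hCNC : C ≤ NC := Subgroup.le_normalizer
  have hcardNC : Nat.card NC ≤ 2 * Nat.card C := by
    have := Subgroup.card_le_of_le hNCN
    rw [hN] at this
    rw [hC]
    omega
  have hidxNC : ∀ a b : G, a ∈ NC → b ∈ NC → a ∉ C → b ∉ C → a * b ∈ C := fun a b ha hb =>
    mul_mem_of_card_le_two_mul C NC hCNC hcardNC ha hb
  have hNCv : ∀ g ∈ NC, g * v = v * g := by
    intro g hg
    have h1 : g * v * g⁻¹ ∈ C := conj_mem_of_mem_normalizer C hg hvC
    have h2 : g * v * g⁻¹ = v := huniq _ h1 (by rw [orderOf_conj_eq]; exact hv2)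
    calc g * v = g * v * g⁻¹ * g := by group
      _ = v * g := by rw [h2]
  have hTI' : ∀ g x : G, x ∈ C → x ≠ 1 → g * x * g⁻¹ ∈ C → g ∈ NC := by
    intro g x hx hx1 hgx
    by_contra hg
    exact hx1 (hTI g hg x hx hgx)
  -- two non-commuting involutions inverting a nontrivial element of `P`
  have hK : ∀ y ∈ (P : Subgroup G), y ≠ 1 → ∀ s t : G, orderOf s = 2 → orderOf t = 2 →
      s * y * s⁻¹ = y⁻¹ → t * y * t⁻¹ = y⁻¹ → s * t ≠ t * s →
      v ≠ s ∧ v ≠ t ∧ s * v = v * s ∧ t * v = v * t ∧
        ∀ u : G, orderOf u = 2 → u * s = s * u → u * t = t * u → u * y = y * u → u = v := by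
    intro y hy hy1 s t hs ht hsy hty hst
    have hyC : y ∈ C := hPC hy
    have hyiC : y⁻¹ ∈ C := C.inv_mem hyC
    have hsNC : s ∈ NC := hTI' s y hyC hy1 (by rw [hsy]; exact hyiC)
    have htNC : t ∈ NC := hTI' t y hyC hy1 (by rw [hty]; exact hyiC)
    have hyy : y ≠ y⁻¹ := by
      intro h
      apply hy1
      apply hsq_eq_one y hy
      nth_rewrite 2 [h]
      exact mul_inv_cancel y
    have hnotC : ∀ g : G, g * y * g⁻¹ = y⁻¹ → g ∉ C := by
      intro g hg hgC
      apply hyy
      have := (Subgroup.mem_centralizer_iff.mp hgC) y hy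
      rw [← hg, ← this, mul_inv_cancel_right]
    have hsC := hnotC s hsy
    have htC := hnotC t hty
    refine ⟨fun h => hsC (h ▸ hvC), fun h => htC (h ▸ hvC), hNCv s hsNC, hNCv t htNC, ?_⟩
    intro u hu hus hut huy
    have huNC : u ∈ NC := hTI' u y hyC hy1 (by
      have : u * y * u⁻¹ = y := by rw [huy, mul_inv_cancel_right]
      rw [this]; exact hyC)
    by_cases huC : u ∈ C
    · exact huniq u huC hu
    · exfalso
      have h1 : u * s ∈ C := hidxNC u s huNC hsNC huC hsC
      have hu2 := mul_self_of_orderOf_two hu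
      have hs2 := mul_self_of_orderOf_two hs
      have h2 : (u * s) * (u * s) = 1 := by
        calc (u * s) * (u * s) = u * (s * u) * s := by group
          _ = u * (u * s) * s := by rw [hus]
          _ = (u * u) * (s * s) := by group
          _ = 1 := by rw [hu2, hs2, one_mul]
      by_cases h3 : u * s = 1
      · have hus' : u = s := by
          have := eq_inv_of_mul_eq_one_left h3
          rw [this, inv_eq_self_of_orderOf_two hs]
        apply hst
        rw [← hus']
        exact hut
      · have h4 : orderOf (u * s) = 2 := orderOf_eq_prime (by rw [pow_two]; exact h2) h3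
        have h5 : u * s = v := huniq _ h1 h4
        have h6 : u = v * s := by
          have : u = v * s⁻¹ := eq_mul_inv_of_mul_eq h5
          rw [this, inv_eq_self_of_orderOf_two hs]
        apply hst
        have h7 : v * s * t = t * (v * s) := by rw [← h6]; exact hut
        have h8 : t * v = v * t := hNCv t htNC
        have h9 : v * (s * t) = v * (t * s) := by
          calc v * (s * t) = v * s * t := by group
            _ = t * (v * s) := h7
            _ = (t * v) * s := by group
            _ = v * t * s := by rw [h8]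
            _ = v * (t * s) := by group
        exact mul_left_cancel h9
  -- `2`-subgroups have order at most `4`
  have h4G : 4 ∣ Nat.card G := by
    have h1 : Nat.card N ∣ Nat.card G := Subgroup.card_subgroup_dvd_card N
    rw [hN] at h1
    exact (dvd_mul_right 4 _).trans h1
  obtain ⟨c, hc⟩ := P.isPGroup'.exists_card_eq
  have hL2 : ∀ H : Subgroup G, IsPGroup 2 H → Nat.card H ≤ 4 := by
    intro H hH
    obtain ⟨k, hk⟩ := hH.exists_card_eq
    by_cases hk0 : k = 0
    · rw [hk, hk0]; norm_num
    have h2H : 2 ∣ Nat.card H := by rw [hk]; exact dvd_pow_self 2 hk0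
    by_cases hHtop : H = ⊤
    · have hG : Nat.card G = 2 ^ k := by rw [← hk, hHtop, Subgroup.card_top]
      have hP1 : Nat.card (P : Subgroup G) = 1 := by
        have h1 : Nat.card (P : Subgroup G) ∣ Nat.card G := Subgroup.card_subgroup_dvd_card _
        rw [hc, hG] at h1
        have hc0 : c = 0 := by
          by_contra hc0
          have h3 : 3 ∣ 2 ^ k := (dvd_pow_self 3 hc0).trans h1
          have := Nat.Prime.dvd_of_dvd_pow Nat.prime_three h3
          omega
        rw [hc, hc0, pow_zero]
      have hNtop : N = ⊤ := by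
        rw [eq_top_iff]
        intro g _
        apply mem_normalizer_of_forall_conj_mem
        intro z hz
        have hPbot : (P : Subgroup G) = ⊥ := Subgroup.eq_bot_of_card_eq _ hP1
        rw [hPbot] at hz ⊢
        rw [Subgroup.mem_bot] at hz ⊢
        rw [hz]; group
      have hG4 : Nat.card G = 4 := by
        rw [← Subgroup.card_top (G := G), ← hNtop, hN, hP1]
      rw [hHtop, Subgroup.card_top, hG4]
    · have h1 := heven H hHtop h2H
      rw [hk, hc] at h1
      have h2 : 2 ^ k ∣ 4 := by
        apply Nat.Coprime.dvd_of_dvd_mul_right _ h1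
        exact Nat.Coprime.pow _ _ (by decide)
      rw [hk]
      exact Nat.le_of_dvd (by norm_num) h2
  have h4 : ∀ Q : Sylow 2 G, Nat.card (Q : Subgroup G) = 4 := by
    intro Q
    have h1 := hL2 Q Q.isPGroup'
    have h2 : Nat.card (Q : Subgroup G) = 2 ^ (Nat.card G).factorization 2 :=
      Q.card_eq_multiplicity
    have h3 : 2 ≤ (Nat.card G).factorization 2 := by
      apply (Nat.Prime.pow_dvd_iff_le_factorization Nat.prime_two Nat.card_pos.ne').mp
      exact h4G
    have h5 : 2 ^ 2 ≤ 2 ^ (Nat.card G).factorization 2 := Nat.pow_le_pow_right (by norm_num) h3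
    omega
  -- non-commuting involutions
  have hnc : ∀ s t : G, orderOf s = 2 → orderOf t = 2 → s * t ≠ t * s →
      ∃ v' : G, orderOf v' = 2 ∧ v' ≠ s ∧ v' ≠ t ∧ s * v' = v' * s ∧ t * v' = v' * t ∧
        ∀ u : G, orderOf u = 2 → u * s = s * u → u * t = t * u → u = v' := by
    intro s t hs ht hst
    have hs2 := mul_self_of_orderOf_two hs
    have ht2 := mul_self_of_orderOf_two ht
    have hsi := inv_eq_self_of_orderOf_two hs
    have hti := inv_eq_self_of_orderOf_two ht
    set w := s * t with hw
    have hwi : w⁻¹ = t * s := by rw [hw, mul_inv_rev, hsi, hti]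
    have hsw : s * w * s⁻¹ = w⁻¹ := by rw [hwi, hsi, hw, ← mul_assoc, hs2, one_mul]
    have htw : t * w * t⁻¹ = w⁻¹ := by
      rw [hwi, hti, hw, mul_assoc, mul_assoc, ht2, mul_one]
    have hw1 : w ≠ 1 := by
      intro h1
      apply hst
      have h2 : s = t⁻¹ := eq_inv_of_mul_eq_one_left h1
      rw [hti] at h2
      rw [hw, h2]
    by_cases h3m : 3 ∣ orderOf w
    · set y := w ^ (orderOf w / 3) with hy
      have hoy : orderOf y = 3 := orderOf_pow_orderOf_div (orderOf_pos w).ne' h3m
      have hy1 : y ≠ 1 := by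
        intro h1
        rw [h1, orderOf_one] at hoy
        omega
      have hsy : s * y * s⁻¹ = y⁻¹ := by rw [hy, ← conj_pow, hsw, inv_pow]
      have hty : t * y * t⁻¹ = y⁻¹ := by rw [hy, ← conj_pow, htw, inv_pow]
      obtain ⟨g, -, hg⟩ := exists_conj_mem_sylow_of_le P ⊤ le_top y (Subgroup.mem_top y) 1
        (by rw [pow_one, ← hoy]; exact pow_orderOf_eq_one y)
      have hgy1 : g * y * g⁻¹ ≠ 1 := fun h => hy1 (conj_eq_one_iff.mp h)
      have hinv : ∀ a : G, a * y * a⁻¹ = y⁻¹ →
          g * a * g⁻¹ * (g * y * g⁻¹) * (g * a * g⁻¹)⁻¹ = (g * y * g⁻¹)⁻¹ := by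
        intro a ha
        calc g * a * g⁻¹ * (g * y * g⁻¹) * (g * a * g⁻¹)⁻¹ = g * (a * y * a⁻¹) * g⁻¹ := by group
          _ = (g * y * g⁻¹)⁻¹ := by rw [ha]; group
      have hcj : ∀ a b : G, g * a * g⁻¹ * (g * b * g⁻¹) = g * (a * b) * g⁻¹ := by
        intro a b; group
      have hnc' : g * s * g⁻¹ * (g * t * g⁻¹) ≠ g * t * g⁻¹ * (g * s * g⁻¹) := by
        intro h
        apply hst
        rw [hcj, hcj] at h
        exact mul_left_cancel (mul_right_cancel h)
      obtain ⟨k1, k2, k3, k4, k5⟩ := hK (g * y * g⁻¹) hg hgy1 (g * s * g⁻¹) (g * t * g⁻¹)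
        (by rw [orderOf_conj_eq]; exact hs) (by rw [orderOf_conj_eq]; exact ht)
        (hinv s hsy) (hinv t hty) hnc'
      have hback : ∀ a : G, g * a * g⁻¹ * v = v * (g * a * g⁻¹) →
          a * (g⁻¹ * v * g) = g⁻¹ * v * g * a := by
        intro a ha
        calc a * (g⁻¹ * v * g) = g⁻¹ * (g * a * g⁻¹ * v) * g := by group
          _ = g⁻¹ * (v * (g * a * g⁻¹)) * g := by rw [ha]
          _ = g⁻¹ * v * g * a := by group
      refine ⟨g⁻¹ * v * g, ?_, ?_, ?_, hback s k3, hback t k4, ?_⟩
      · have : g⁻¹ * v * g = g⁻¹ * v * g⁻¹⁻¹ := by rw [inv_inv]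
        rw [this, orderOf_conj_eq]
        exact hv2
      · intro h
        apply k1
        rw [← h]; group
      · intro h
        apply k2
        rw [← h]; group
      · intro u hu hus hut
        have huw : u * w = w * u := by
          rw [hw, ← mul_assoc, hus, mul_assoc, hut, mul_assoc]
        have huy : u * y = y * u := by
          have : Commute u w := huw
          exact this.pow_right _
        have hcomm' : ∀ a : G, u * a = a * u →
            g * u * g⁻¹ * (g * a * g⁻¹) = g * a * g⁻¹ * (g * u * g⁻¹) := by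
          intro a ha
          rw [hcj, hcj, ha]
        have h1 := k5 (g * u * g⁻¹) (by rw [orderOf_conj_eq]; exact hu) (hcomm' s hus)
          (hcomm' t hut) (hcomm' y huy)
        calc u = g⁻¹ * (g * u * g⁻¹) * g := by group
          _ = g⁻¹ * v * g := by rw [h1]
    · exfalso
      set D := Subgroup.closure ({s, t} : Set G) with hD
      have hsD : s ∈ D := Subgroup.subset_closure (by simp)
      have htD : t ∈ D := Subgroup.subset_closure (by simp)
      have hwD : w ∈ D := D.mul_mem hsD htD
      have hnormZ : ∀ a : G, a * w * a⁻¹ = w⁻¹ →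
          a ∈ Subgroup.normalizer ((Subgroup.zpowers w : Subgroup G) : Set G) := by
        intro a ha
        apply mem_normalizer_of_forall_conj_mem
        intro z hz
        obtain ⟨k, rfl⟩ := Subgroup.mem_zpowers_iff.mp hz
        rw [← conj_zpow, ha]
        exact Subgroup.zpow_mem _ (Subgroup.inv_mem _ (Subgroup.mem_zpowers w)) k
      have hsZ := hnormZ s hsw
      have htZ := hnormZ t htw
      have hsnotZ : s ∉ Subgroup.zpowers w := by
        intro hsZ'
        apply hst
        obtain ⟨i, hi⟩ := Subgroup.mem_zpowers_iff.mp hsZ'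
        have h1 : s * w = w * s := by
          rw [← hi, ← zpow_add_one, ← zpow_one_add]
          congr 1
          exact add_comm i 1
        have h2 : s * (s * t) = s * (t * s) := by
          rw [← mul_assoc s t s]
          exact h1
        exact mul_left_cancel h2
      have hDtop : D ≠ ⊤ := by
        intro hDt
        have hle : D ≤ Subgroup.normalizer ((Subgroup.zpowers w : Subgroup G) : Set G) := by
          rw [hD, Subgroup.closure_le]
          intro x hx
          simp only [Set.mem_insert_iff, Set.mem_singleton_iff] at hx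
          rcases hx with rfl | rfl
          · exact hsZ
          · exact htZ
        have hnorm : (Subgroup.zpowers w).Normal := by
          rw [← Subgroup.normalizer_eq_top_iff, eq_top_iff, ← hDt]
          exact hle
        rcases hsimp.eq_bot_or_eq_top_of_normal _ hnorm with h1 | h1
        · apply hw1
          have : w ∈ (⊥ : Subgroup G) := h1 ▸ Subgroup.mem_zpowers w
          exact Subgroup.mem_bot.mp this
        · apply hsnotZ
          rw [h1]
          exact Subgroup.mem_top s
      have h2D : 2 ∣ Nat.card D := by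
        have := Subgroup.orderOf_dvd_natCard D hsD
        rwa [hs] at this
      have hdiv := heven D hDtop h2D
      have hm : orderOf w ∣ 4 * 3 ^ c := by
        have := (Subgroup.orderOf_dvd_natCard D hwD).trans hdiv
        rwa [hc] at this
      have hm4 : orderOf w ∣ 2 ^ 2 := by
        apply Nat.Coprime.dvd_of_dvd_mul_right _ hm
        apply Nat.Coprime.pow_right
        exact ((Nat.Prime.coprime_iff_not_dvd Nat.prime_three).mpr h3m).symm
      obtain ⟨j, hj, hj'⟩ := (Nat.dvd_prime_pow Nat.prime_two).mp hm4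
      interval_cases j
      · exact hw1 (orderOf_eq_one_iff.mp (by simpa using hj'))
      · have hww := mul_self_of_orderOf_two (by simpa using hj' : orderOf w = 2)
        have h1 : w = w⁻¹ := eq_inv_of_mul_eq_one_left hww
        rw [hwi] at h1
        exact hst h1
      · have h4w : orderOf w = 4 := by simpa using hj'
        have hZ2 : IsPGroup 2 (Subgroup.zpowers w) :=
          IsPGroup.of_card (n := 2) (by rw [Nat.card_zpowers, h4w]; norm_num)
        obtain ⟨Q, hQ⟩ := hZ2.exists_le_sylow
        have hQeq : Subgroup.zpowers w = (Q : Subgroup G) := by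
          apply Subgroup.eq_of_le_of_card_ge hQ
          rw [Nat.card_zpowers, h4w, h4 Q]
        have hsQ : s ∈ (Q : Subgroup G) := by
          apply mem_sylow_of_normalizer Q s _ 1 (by rw [pow_one, pow_two]; exact hs2)
          rw [← hQeq]
          exact hsZ
        exact hsnotZ (hQeq ▸ hsQ)
  -- the friendship theorem gives a central involution
  obtain ⟨s1, hs1, hs1c⟩ := exists_involution_commuting h4 hnc v hv2
  have hJn : (Subgroup.normalClosure {g : G | orderOf g = 2}).Normal :=
    Subgroup.normalClosure_normal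
  have hJtop : Subgroup.normalClosure {g : G | orderOf g = 2} = ⊤ := by
    rcases hsimp.eq_bot_or_eq_top_of_normal _ hJn with h1 | h1
    · exfalso
      have : v ∈ Subgroup.normalClosure {g : G | orderOf g = 2} :=
        Subgroup.subset_normalClosure hv2
      rw [h1, Subgroup.mem_bot] at this
      exact ne_one_of_orderOf_two hv2 this
    · exact h1
  have hcen : ∀ g : G, g * s1 = s1 * g := by
    intro g
    apply hs1c
    rw [hJtop]
    exact Subgroup.mem_top g
  have hZn : (Subgroup.zpowers s1).Normal := by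
    refine ⟨fun z hz g => ?_⟩
    obtain ⟨k, rfl⟩ := Subgroup.mem_zpowers_iff.mp hz
    have : g * s1 ^ k * g⁻¹ = s1 ^ k := by
      rw [← conj_zpow]
      congr 1
      rw [hcen g, mul_inv_cancel_right]
    rw [this]
    exact Subgroup.zpow_mem _ (Subgroup.mem_zpowers s1) k
  rcases hsimp.eq_bot_or_eq_top_of_normal _ hZn with h1 | h1
  · have : s1 ∈ (⊥ : Subgroup G) := h1 ▸ Subgroup.mem_zpowers s1
    exact ne_one_of_orderOf_two hs1 (Subgroup.mem_bot.mp this)
  · have hG2 : Nat.card G = 2 := by
      rw [← Subgroup.card_top (G := G), ← h1, Nat.card_zpowers, hs1]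
    omega

end Cfsg.Agent.S4018
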