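import Cfsg.Statements.S4023
import Mathlib
import Cfsg.Agent.Lib.Helper73.ExpP
import Cfsg.Agent.Lib.Helper73.PGroupBasic
import Cfsg.Agent.S0016
import Cfsg.Agent.S3908

set_option autoImplicit false
open Cfsg

namespace Cfsg.Agent.S4023

open Cfsg.Agent.Lib.Helper73

/-- The property "subgroups of equal order are isomorphic" is invariant under isomorphism. -/
theorem iso_of_card_eq_of_equiv {Q R : Type*} [Group Q] [Group R] (e : Q ≃* R)
    (hI : ∀ H K : Subgroup Q, Nat.card H = Nat.card K → Nonempty (H ≃* K)) :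
    ∀ H K : Subgroup R, Nat.card H = Nat.card K → Nonempty (H ≃* K) := by
  intro H K hHK
  have e1 : H ≃* H.map (e.symm : R →* Q) := e.symm.subgroupMap H
  have e2 : K ≃* K.map (e.symm : R →* Q) := e.symm.subgroupMap K
  obtain ⟨f⟩ := hI (H.map (e.symm : R →* Q)) (K.map (e.symm : R →* Q))
    ((Nat.card_congr e1.toEquiv).symm.trans (hHK.trans (Nat.card_congr e2.toEquiv)))
  exact ⟨(e1.trans f).trans e2.symm⟩

/-- Natural powers of a rotation in a quaternion group are rotations. -/
theorem a_pow_eq {m : ℕ} (i : ZMod (2 * m)) (k : ℕ) :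
    ∃ j : ZMod (2 * m), (QuaternionGroup.a i : QuaternionGroup m) ^ k = QuaternionGroup.a j := by
  induction k with
  | zero => exact ⟨0, by rw [pow_zero]; rfl⟩
  | succ k ih =>
    obtain ⟨j, hj⟩ := ih
    exact ⟨j + i, by rw [pow_succ, hj, QuaternionGroup.a_mul_a]⟩

/-- A generalized quaternion group of order at least `16` has two non-isomorphic subgroups of the
same order. -/
theorem quaternion_not_iso (n : ℕ) (hn : 2 ≤ n) :
    ¬ ∀ H K : Subgroup (QuaternionGroup (2 ^ n)), Nat.card H = Nat.card K → Nonempty (H ≃* K) := by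
  intro hI
  haveI : NeZero (2 ^ n) := ⟨pow_ne_zero n (by norm_num)⟩
  haveI : Fact (Nat.Prime 2) := ⟨Nat.prime_two⟩
  have hcard : Nat.card (QuaternionGroup (2 ^ n)) = 2 ^ (n + 2) := by
    rw [Nat.card_eq_fintype_card, QuaternionGroup.card]
    ring
  have hC : Nat.card (Subgroup.zpowers (QuaternionGroup.a 1 : QuaternionGroup (2 ^ n)))
      = 2 ^ (n + 1) := by
    rw [Nat.card_zpowers, QuaternionGroup.orderOf_a_one]
    ring
  have hX : Nat.card (Subgroup.zpowers (QuaternionGroup.xa 0 : QuaternionGroup (2 ^ n)))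
      = 2 ^ 2 := by
    rw [Nat.card_zpowers, QuaternionGroup.orderOf_xa]
    norm_num
  obtain ⟨B, hB, hXB⟩ := Sylow.exists_subgroup_card_pow_prime_le 2 (m := n + 1)
    (by rw [hcard]; exact pow_dvd_pow 2 (by omega)) _ hX (by omega)
  obtain ⟨f⟩ := hI _ B (by rw [hC, hB])
  obtain ⟨g, hgdef⟩ : ∃ g : ↥B, g = f ⟨QuaternionGroup.a 1, Subgroup.mem_zpowers _⟩ := ⟨_, rfl⟩
  have hgo : orderOf (g : QuaternionGroup (2 ^ n)) = 2 ^ (n + 1) := by
    rw [Subgroup.orderOf_coe, hgdef, MulEquiv.orderOf_eq, Subgroup.orderOf_mk,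
      QuaternionGroup.orderOf_a_one]
    ring
  rcases hg : (g : QuaternionGroup (2 ^ n)) with i | i
  · -- `g` is a rotation: then `B` consists of rotations
    have hBeq : Subgroup.zpowers (g : QuaternionGroup (2 ^ n)) = B := by
      apply Subgroup.eq_of_le_of_card_ge
      · rw [Subgroup.zpowers_le]; exact g.2
      · rw [Nat.card_zpowers, hgo, hB]
    have hx : (QuaternionGroup.xa 0 : QuaternionGroup (2 ^ n)) ∈
        Subgroup.zpowers (g : QuaternionGroup (2 ^ n)) := by
      rw [hBeq]; exact hXB (Subgroup.mem_zpowers _)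
    rw [← mem_powers_iff_mem_zpowers] at hx
    obtain ⟨k, hk⟩ := (Submonoid.mem_powers_iff _ _).mp hx
    rw [hg] at hk
    obtain ⟨j, hj⟩ := a_pow_eq i k
    rw [hj] at hk
    cases hk
  · rw [hg, QuaternionGroup.orderOf_xa] at hgo
    have h8 : 2 ^ 3 ≤ 2 ^ (n + 1) := Nat.pow_le_pow_right (by norm_num) (by omega)
    omega

/-- Shape of a `p`-group in which subgroups of the same order are isomorphic. -/
theorem shape {Q : Type*} [Group Q] [Finite Q] {p : ℕ} [Fact p.Prime] (hQ : IsPGroup p Q)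
    (hI : ∀ H K : Subgroup Q, Nat.card H = Nat.card K → Nonempty (H ≃* K)) :
    IsCyclic Q ∨ ((∀ a b : Q, a * b = b * a) ∧ ∀ x : Q, x ^ p = 1) ∨
      (p = 2 ∧ Nonempty (Q ≃* QuaternionGroup 2)) ∨
      (p ≠ 2 ∧ (¬ ∀ a b : Q, a * b = b * a) ∧ Nat.card Q = p ^ 3 ∧ ∀ x : Q, x ^ p = 1) := by
  have hp : p.Prime := Fact.out
  by_cases hexp : ∀ x : Q, x ^ p = 1
  · by_cases hab : ∀ a b : Q, a * b = b * a
    · exact Or.inr (Or.inl ⟨hab, hexp⟩)
    · right; right; right
      have hp2 : p ≠ 2 := by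
        rintro rfl
        exact hab (comm_of_sq_eq_one hexp)
      obtain ⟨k, hk⟩ := IsPGroup.iff_card.mp hQ
      have hk3 : 3 ≤ k := by
        by_contra h
        exact hab (comm_of_card_pow_le_two (by omega) hk)
      refine ⟨hp2, hab, ?_, hexp⟩
      by_contra hne
      have hk4 : 4 ≤ k := by
        by_contra h
        have : k = 3 := by omega
        rw [this] at hk
        exact hne hk
      obtain ⟨A, hA, hAc⟩ := exists_comm_card_cube hQ hexp hk4 hk
      obtain ⟨M, hM, x, hx, y, hy, hxy⟩ := exists_noncomm_card_cube hQ hexp hab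
      obtain ⟨f⟩ := hI M A (by rw [hM, hA])
      have h1 := hAc (f ⟨x, hx⟩) (f ⟨x, hx⟩).2 (f ⟨y, hy⟩) (f ⟨y, hy⟩).2
      have h2 : f ⟨x, hx⟩ * f ⟨y, hy⟩ = f ⟨y, hy⟩ * f ⟨x, hx⟩ := Subtype.ext h1
      rw [← map_mul, ← map_mul] at h2
      have h3 := f.injective h2
      exact hxy (congrArg Subtype.val h3)
  · push Not at hexp
    obtain ⟨x, hx⟩ := hexp
    have hnt : Nontrivial Q := by
      refine ⟨⟨x, 1, ?_⟩⟩
      rintro rfl
      exact hx (one_pow p)
    have huniq : ∀ H K : Subgroup Q, Nat.card H = p → Nat.card K = p → H = K := by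
      intro H K hH hK
      by_contra hne
      obtain ⟨E, hEc, hEcard, hEexp⟩ := Cfsg.Agent.S3908.exists_elementary_sq hQ H K hH hK hne
      obtain ⟨e, he⟩ := IsPGroup.iff_orderOf.mp hQ x
      have he2 : 2 ≤ e := by
        by_contra hlt
        apply hx
        apply orderOf_dvd_iff_pow_eq_one.mp
        rw [he]
        calc p ^ e ∣ p ^ 1 := pow_dvd_pow p (by omega)
          _ = p := pow_one p
      obtain ⟨y, hy⟩ : ∃ y : Q, orderOf y = p ^ 2 := by
        refine ⟨x ^ (p ^ (e - 2)), ?_⟩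
        rw [orderOf_pow_of_dvd (pow_ne_zero _ hp.ne_zero)
          (by rw [he]; exact pow_dvd_pow p (by omega)), he, Nat.pow_div (by omega) hp.pos]
        congr 1
        omega
      obtain ⟨f⟩ := hI (Subgroup.zpowers y) E (by rw [Nat.card_zpowers, hy, hEcard])
      have h1 := hEexp (f ⟨y, Subgroup.mem_zpowers y⟩) (f ⟨y, Subgroup.mem_zpowers y⟩).2
      have h2 : f ⟨y, Subgroup.mem_zpowers y⟩ ^ p = 1 := Subtype.ext h1
      rw [← map_pow] at h2
      have h3 : (⟨y, Subgroup.mem_zpowers y⟩ : Subgroup.zpowers y) ^ p = 1 := by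
        apply f.injective
        rw [h2, map_one]
      have h4 : y ^ p = 1 := congrArg Subtype.val h3
      have hdvd : orderOf y ∣ p := orderOf_dvd_iff_pow_eq_one.mpr h4
      rw [hy] at hdvd
      have hle := Nat.le_of_dvd hp.pos hdvd
      have hlt : p < p ^ 2 := by
        calc p = p ^ 1 := (pow_one p).symm
          _ < p ^ 2 := Nat.pow_lt_pow_right hp.one_lt (by norm_num)
      omega
    rcases Cfsg.Agent.S0016.result p hQ huniq with h | ⟨hp2, n, ⟨e⟩⟩
    · exact Or.inl h
    · rcases n with _ | n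
      · left
        rw [pow_zero] at e
        exact (MulEquiv.isCyclic e).mpr QuaternionGroup.quaternionGroup_one_isCyclic
      · rcases n with _ | n
        · right; right; left
          rw [zero_add, pow_one] at e
          exact ⟨hp2, ⟨e⟩⟩
        · exfalso
          exact quaternion_not_iso (n + 1 + 1) (by omega) (iso_of_card_eq_of_equiv e hI)

/-- If `p`-subgroups of equal order are conjugate, a Sylow `p`-subgroup is cyclic, elementary
abelian, `Q₈`, or non-abelian of order `p ^ 3` and exponent `p`. -/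
theorem result {G : Type*} [Group G] [Finite G]
    {p : ℕ} [Fact p.Prime] (hC : ∀ H K : Subgroup G, IsPGroup p H → IsPGroup p K → Nat.card H = Nat.card K →
      ∃ g : G, K = H.map (MulAut.conj g).toMonoidHom) (P : Sylow p G) :
    IsCyclic P ∨ Cfsg.IsElementaryAbelian p (P : Subgroup G) ∨
      (p = 2 ∧ Nonempty ((P : Subgroup G) ≃* QuaternionGroup 2)) ∨
      (p ≠ 2 ∧ ¬ IsMulCommutative P ∧ Nat.card P = p ^ 3 ∧ Monoid.exponent P = p) := by
  have hp : p.Prime := Fact.out
  have hI : ∀ H K : Subgroup ↥(P : Subgroup G), Nat.card H = Nat.card K → Nonempty (H ≃* K) := by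
    intro H K hHK
    have e1 : H ≃* H.map (P : Subgroup G).subtype :=
      H.equivMapOfInjective _ (Subgroup.subtype_injective _)
    have e2 : K ≃* K.map (P : Subgroup G).subtype :=
      K.equivMapOfInjective _ (Subgroup.subtype_injective _)
    have hH' : IsPGroup p (H.map (P : Subgroup G).subtype) :=
      P.isPGroup'.to_le (Subgroup.map_subtype_le H)
    have hK' : IsPGroup p (K.map (P : Subgroup G).subtype) :=
      P.isPGroup'.to_le (Subgroup.map_subtype_le K)
    obtain ⟨g, hg⟩ := hC _ _ hH' hK'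
      ((Nat.card_congr e1.toEquiv).symm.trans (hHK.trans (Nat.card_congr e2.toEquiv)))
    have e3 : H.map (P : Subgroup G).subtype ≃*
        (H.map (P : Subgroup G).subtype).map (MulAut.conj g).toMonoidHom :=
      (MulAut.conj g).subgroupMap _
    exact ⟨((e1.trans e3).trans (MulEquiv.subgroupCongr hg.symm)).trans e2.symm⟩
  rcases shape P.isPGroup' hI with h | ⟨hab, hexp⟩ | ⟨hp2, h⟩ | ⟨hp2, hna, hcard, hexp⟩
  · exact Or.inl h
  · right; left
    refine ⟨⟨⟨hab⟩⟩, ?_⟩
    intro a ha
    exact congrArg Subtype.val (hexp ⟨a, ha⟩)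
  · exact Or.inr (Or.inr (Or.inl ⟨hp2, h⟩))
  · right; right; right
    refine ⟨hp2, ?_, hcard, ?_⟩
    · intro hc
      exact hna (fun a b => mul_comm' a b)
    · have hd : Monoid.exponent ↥(P : Subgroup G) ∣ p :=
        Monoid.exponent_dvd_of_forall_pow_eq_one hexp
      rcases (Nat.dvd_prime hp).mp hd with h1 | h1
      · exfalso
        have hs : Subsingleton ↥(P : Subgroup G) := Monoid.exp_eq_one_iff.mp h1
        apply hna
        intro a b
        rw [Subsingleton.elim a b]
      · exact h1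

end Cfsg.Agent.S4023
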