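import Mathlib
import Cfsg.Statements.S4024
import Cfsg.Agent.S4023
import Cfsg.Agent.Lib.Helper49.PPrimeP
import Cfsg.Agent.Lib.Helper69.PSolvable
import Cfsg.Agent.Lib.Helper63.HallHigman

set_option autoImplicit false
open Cfsg

namespace Cfsg.Agent.S4024

/-- In a finite `p`-soluble group of order divisible by `p`, `O_{p',p}` contains an element of
order `p`. -/
theorem exists_order_p_mem_pPrimePCore {X : Type*} [Group X] [Finite X] {p : ℕ} [Fact p.Prime]
    (hs : Cfsg.IsPSolvable p X) (hdiv : p ∣ Nat.card X) :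
    ∃ x ∈ Cfsg.pPrimePCore p X, orderOf x = p := by
  have hp : p.Prime := Fact.out
  have hKn : (Cfsg.pPrimeCore p X).Normal := Cfsg.Agent.Lib.Helper22.pPrimeCore_normal' p X
  have hQs : Cfsg.IsPSolvable p (X ⧸ Cfsg.pPrimeCore p X) :=
    Cfsg.Agent.Lib.Helper69.isPSolvable_of_surj p (QuotientGroup.mk' _)
      (QuotientGroup.mk'_surjective _) hs
  have hQnt : Nontrivial (X ⧸ Cfsg.pPrimeCore p X) := by
    by_contra hcon
    rw [not_nontrivial_iff_subsingleton] at hcon
    have htop : Cfsg.pPrimeCore p X = ⊤ := by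
      rw [eq_top_iff]
      intro x _
      have h1 : (QuotientGroup.mk' (Cfsg.pPrimeCore p X)) x = 1 := Subsingleton.elim _ _
      exact (QuotientGroup.eq_one_iff x).mp h1
    have hc := Cfsg.Agent.Lib.Helper63.card_pPrimeCore_coprime' p X
    rw [htop, Subgroup.card_top] at hc
    exact hp.one_lt.ne' (Nat.Coprime.eq_one_of_dvd hc.symm hdiv)
  have hQ0 := Cfsg.Agent.Lib.Helper63.pPrimeCore_quotient_eq_bot p X
  obtain ⟨N, hNn, hNne, hN⟩ := Cfsg.Agent.Lib.Helper69.exists_normal_of_isPSolv p hQs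
  have hNp : IsPGroup p N := by
    rcases hN with h | h
    · exact h
    · exfalso
      have h1 := Cfsg.Agent.Lib.Helper63.le_pPrimeCore' hNn h
      rw [hQ0] at h1
      exact hNne (le_bot_iff.mp h1)
  have hNle : N ≤ Cfsg.pCore p (X ⧸ Cfsg.pPrimeCore p X) :=
    Cfsg.Agent.Lib.Helper63.le_pCore' hNn hNp
  obtain ⟨ybar, hyN, hy1⟩ : ∃ y ∈ N, y ≠ 1 := by
    by_contra hcon
    push Not at hcon
    exact hNne ((Subgroup.eq_bot_iff_forall N).mpr hcon)
  obtain ⟨y, rfl⟩ := QuotientGroup.mk'_surjective _ ybar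
  have hyR : y ∈ Cfsg.pPrimePCore p X := by
    unfold Cfsg.pPrimePCore
    exact Subgroup.mem_comap.mpr (hNle hyN)
  obtain ⟨k, hk⟩ := hNp ⟨_, hyN⟩
  have hk' : (QuotientGroup.mk' (Cfsg.pPrimeCore p X) y) ^ p ^ k = 1 := by
    have h1 := congrArg Subtype.val hk
    simpa using h1
  have hord : orderOf (QuotientGroup.mk' (Cfsg.pPrimeCore p X) y) ∣ p ^ k :=
    orderOf_dvd_of_pow_eq_one hk'
  obtain ⟨j, hj, hoj⟩ := (Nat.dvd_prime_pow hp).mp hord
  have hj0 : j ≠ 0 := by
    intro h
    rw [h, pow_zero, orderOf_eq_one_iff] at hoj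
    exact hy1 hoj
  have hpdvd : p ∣ orderOf y := by
    have h1 : orderOf (QuotientGroup.mk' (Cfsg.pPrimeCore p X) y) ∣ orderOf y :=
      orderOf_map_dvd _ y
    rw [hoj] at h1
    exact dvd_trans (dvd_pow_self p hj0) h1
  exact ⟨y ^ (orderOf y / p), Subgroup.pow_mem _ hyR _,
    orderOf_pow_orderOf_div (orderOf_pos y).ne' hpdvd⟩

/-- Let p be an odd prime and G a finite group in which any two p-subgroups of the same order are conjugate, with Sylow p-subgroup P. If H is a normal p-solvable subgroup of G whose order is divisible by p, then P is abelian, and either P ≤ H or P is cyclic. -/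
theorem result {G : Type*} [Group G] [Finite G]
    {p : ℕ} [Fact p.Prime] (hp : p ≠ 2) (hC : ∀ H K : Subgroup G, IsPGroup p H → IsPGroup p K → Nat.card H = Nat.card K →
      ∃ g : G, K = H.map (MulAut.conj g).toMonoidHom) (P : Sylow p G)
    (H : Subgroup G) [H.Normal] (hsolv : Cfsg.IsPSolvable p H) (hdiv : p ∣ Nat.card H) :
    IsMulCommutative P ∧ ((P : Subgroup G) ≤ H ∨ IsCyclic P) := by
  classical
  have hp' : p.Prime := Fact.out
  obtain ⟨x0, hx0⟩ := exists_prime_orderOf_dvd_card' p hdiv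
  -- conjugacy of subgroups of order p
  have hconj : ∀ a x : G, orderOf a = p → orderOf x = p →
      ∃ g : G, ∃ y ∈ Subgroup.zpowers x, a = g * y * g⁻¹ := by
    intro a x hoa hx
    have h1 : IsPGroup p (Subgroup.zpowers a) :=
      IsPGroup.of_card (n := 1) (by rw [Nat.card_zpowers, hoa, pow_one])
    have h2 : IsPGroup p (Subgroup.zpowers x) :=
      IsPGroup.of_card (n := 1) (by rw [Nat.card_zpowers, hx, pow_one])
    obtain ⟨g, hg⟩ := hC (Subgroup.zpowers x) (Subgroup.zpowers a) h2 h1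
      (by rw [Nat.card_zpowers, Nat.card_zpowers, hoa, hx])
    have h3 : a ∈ (Subgroup.zpowers x).map (MulAut.conj g).toMonoidHom := by
      rw [← hg]
      exact Subgroup.mem_zpowers a
    obtain ⟨y, hy, hya⟩ := Subgroup.mem_map.mp h3
    refine ⟨g, y, hy, ?_⟩
    rw [← hya]
    simp [MulAut.conj_apply]
  have stepA : ∀ (L : Subgroup G), L.Normal → (∃ x ∈ L, orderOf x = p) →
      ∀ a ∈ (P : Subgroup G), a ^ p = 1 → a ∈ L := by
    intro L hL ⟨x, hxL, hx⟩ a haP hap
    by_cases ha1 : a = 1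
    · rw [ha1]
      exact one_mem _
    have hoa : orderOf a = p := orderOf_eq_prime hap ha1
    obtain ⟨g, y, hy, rfl⟩ := hconj a x hoa hx
    exact hL.conj_mem y (Subgroup.zpowers_le.mpr hxL hy) g
  have hx0' : ∃ x ∈ H, orderOf x = p :=
    ⟨(x0 : G), x0.2, by rw [Subgroup.orderOf_coe]; exact hx0⟩
  rcases Cfsg.Agent.S4023.result hC P with hcyc | hel | ⟨h2, -⟩ | ⟨-, hna, hc3, hexp⟩
  · exact ⟨IsCyclic.isMulCommutative, Or.inr hcyc⟩
  · exact ⟨hel.1, Or.inl (fun a ha => stepA H inferInstance hx0' a ha (hel.2 a ha))⟩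
  · exact absurd h2 hp
  · exfalso
    have hPexp : ∀ a ∈ (P : Subgroup G), a ^ p = 1 := by
      intro a ha
      have h1 := Monoid.pow_exponent_eq_one (⟨a, ha⟩ : ↥(P : Subgroup G))
      rw [hexp] at h1
      have h2 := congrArg Subtype.val h1
      simpa using h2
    have hPH : (P : Subgroup G) ≤ H := fun a ha => stepA H inferInstance hx0' a ha (hPexp a ha)
    obtain ⟨x1, hx1R, hx1⟩ := exists_order_p_mem_pPrimePCore hsolv hdiv
    have hKc : (Cfsg.pPrimeCore p ↥H).Characteristic :=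
      Cfsg.Agent.Lib.Helper63.pPrimeCore_characteristic' p ↥H
    have hRc : (Cfsg.pPrimePCore p ↥H).Characteristic := by
      unfold Cfsg.pPrimePCore
      exact Subgroup.Characteristic.comap_quotient_mk
        (Cfsg.Agent.Lib.Helper63.pCore_characteristic' p _)
    have hRn : ((Cfsg.pPrimePCore p ↥H).map H.subtype).Normal :=
      ConjAct.normal_of_characteristic_of_normal
    have hKnH : (Cfsg.pPrimeCore p ↥H).Normal := Cfsg.Agent.Lib.Helper22.pPrimeCore_normal' p ↥H
    have hPR : (P : Subgroup G) ≤ (Cfsg.pPrimePCore p ↥H).map H.subtype := fun a ha =>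
      stepA _ hRn ⟨(x1 : G), Subgroup.mem_map_of_mem _ hx1R,
        by rw [Subgroup.orderOf_coe]; exact hx1⟩ a ha (hPexp a ha)
    let PH : Sylow p ↥H := P.subtype hPH
    have hPHcoe : (PH : Subgroup ↥H) = (P : Subgroup G).subgroupOf H := Sylow.coe_subtype P hPH
    have hPHmem : ∀ a : ↥H, a ∈ (PH : Subgroup ↥H) ↔ (a : G) ∈ (P : Subgroup G) := by
      intro a
      rw [hPHcoe, Subgroup.mem_subgroupOf]
    have hPHR : (PH : Subgroup ↥H) ≤ Cfsg.pPrimePCore p ↥H := by
      intro a ha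
      obtain ⟨b, hb, hba⟩ := Subgroup.mem_map.mp (hPR ((hPHmem a).mp ha))
      have h1 : b = a := Subtype.ext hba
      rw [← h1]
      exact hb
    have hfr := Cfsg.Agent.Lib.Helper49.normalizer_inf_pPrimePCore_sup PH
    rw [inf_eq_left.mpr hPHR] at hfr
    have hfr2 := Sylow.normalizer_sup_eq_top PH
    have hPHmap : (PH : Subgroup ↥H).map H.subtype = (P : Subgroup G) := by
      rw [hPHcoe, Subgroup.subgroupOf_map_subtype]
      exact inf_eq_left.mpr hPH
    rw [hPHmap] at hfr2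
    -- normalizer of PH in H maps into the normalizer of P
    have hnorm : ∀ n : ↥H, n ∈ Subgroup.normalizer ((PH : Subgroup ↥H) : Set ↥H) →
        (n : G) ∈ Subgroup.normalizer ((P : Subgroup G) : Set G) := by
      intro n hn
      rw [Subgroup.mem_normalizer_iff] at hn ⊢
      intro x
      constructor
      · intro hx
        have h1 := (hn ⟨x, hPH hx⟩).mp ((hPHmem _).mpr hx)
        exact (hPHmem _).mp h1
      · intro hx
        have hxH : x ∈ H := by
          have h1 : (n : G) * x * (n : G)⁻¹ ∈ H := hPH hx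
          have h2 := H.mul_mem (H.mul_mem (H.inv_mem n.2) h1) n.2
          have e : (n : G)⁻¹ * ((n : G) * x * (n : G)⁻¹) * (n : G) = x := by group
          rwa [e] at h2
        have h1 : n * ⟨x, hxH⟩ * n⁻¹ ∈ (PH : Subgroup ↥H) := (hPHmem _).mpr hx
        exact (hPHmem _).mp ((hn ⟨x, hxH⟩).mpr h1)
    have hfac : ∀ g : G, ∃ m ∈ Subgroup.normalizer ((P : Subgroup G) : Set G),
        ∃ k : ↥H, k ∈ Cfsg.pPrimeCore p ↥H ∧ g = m * (k : G) := by
      intro g
      have hg : g ∈ Subgroup.normalizer ((P : Subgroup G) : Set G) ⊔ H := by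
        rw [hfr2]
        trivial
      obtain ⟨n, hn, h, hh, rfl⟩ := Subgroup.mem_sup_of_normal_right.mp hg
      have hh' : (⟨h, hh⟩ : ↥H) ∈ Subgroup.normalizer ((PH : Subgroup ↥H) : Set ↥H) ⊔
          Cfsg.pPrimeCore p ↥H := by
        rw [hfr]
        trivial
      obtain ⟨n', hn', k, hk, hnk⟩ := Subgroup.mem_sup_of_normal_right.mp hh'
      refine ⟨n * (n' : G), Subgroup.mul_mem _ hn (hnorm n' hn'), k, hk, ?_⟩
      have h1 : (n' : G) * (k : G) = h := congrArg Subtype.val hnk
      rw [mul_assoc, h1]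
    -- a central element of order p
    have hPnt : Nontrivial ↥(P : Subgroup G) := by
      rw [← Finite.one_lt_card_iff_nontrivial, hc3]
      exact Nat.one_lt_pow (by norm_num) hp'.one_lt
    have hcn : Nontrivial (Subgroup.center ↥(P : Subgroup G)) := P.isPGroup'.center_nontrivial
    have hpc : IsPGroup p (Subgroup.center ↥(P : Subgroup G)) := P.isPGroup'.to_subgroup _
    have hdvdc : p ∣ Nat.card (Subgroup.center ↥(P : Subgroup G)) := by
      rcases hpc.card_eq_or_dvd with h | h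
      · have := Finite.one_lt_card (α := Subgroup.center ↥(P : Subgroup G))
        omega
      · exact h
    obtain ⟨z, hz⟩ := exists_prime_orderOf_dvd_card' p hdvdc
    have hzo : orderOf (((z : ↥(P : Subgroup G)) : G)) = p := by
      rw [Subgroup.orderOf_coe, Subgroup.orderOf_coe]
      exact hz
    have hzc : ∀ b ∈ (P : Subgroup G), b * ((z : ↥(P : Subgroup G)) : G) = ((z : ↥(P : Subgroup G)) : G) * b := by
      intro b hb
      have h1 := Subgroup.mem_center_iff.mp z.2 ⟨b, hb⟩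
      exact congrArg Subtype.val h1
    have hzP : ((z : ↥(P : Subgroup G)) : G) ∈ (P : Subgroup G) := (z : ↥(P : Subgroup G)).2
    -- every element of P is central in P
    have hcent : ∀ a ∈ (P : Subgroup G), ∀ b ∈ (P : Subgroup G), a * b = b * a := by
      intro a ha b hb
      by_cases ha1 : a = 1
      · rw [ha1, one_mul, mul_one]
      have hoa : orderOf a = p := orderOf_eq_prime (hPexp a ha) ha1
      obtain ⟨g, y, hy, hay⟩ := hconj a _ hoa hzo
      have hyP : y ∈ (P : Subgroup G) := Subgroup.zpowers_le.mpr hzP hy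
      have hyc : ∀ b ∈ (P : Subgroup G), b * y = y * b := by
        intro b hb
        have h1 : Subgroup.zpowers ((z : ↥(P : Subgroup G)) : G) ≤ Subgroup.centralizer {b} := by
          rw [Subgroup.zpowers_le, Subgroup.mem_centralizer_singleton_iff]
          exact (hzc b hb).symm
        exact (Subgroup.mem_centralizer_singleton_iff.mp (h1 hy)).symm
      obtain ⟨m, hm, k, hk, hgk⟩ := hfac g
      have hm' := Subgroup.inv_mem _ hm
      rw [Subgroup.mem_normalizer_iff] at hm hm'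
      -- k y k⁻¹ ∈ P
      have h1 : (k : G) * y * (k : G)⁻¹ ∈ (P : Subgroup G) := by
        have h2 := (hm' a).mp ha
        have e : m⁻¹ * a * m⁻¹⁻¹ = (k : G) * y * (k : G)⁻¹ := by
          rw [hay, hgk]
          group
        rwa [e] at h2
      -- the commutator lies in P and in the p'-core
      have h3 : (k : G) * y * (k : G)⁻¹ * y⁻¹ ∈ (P : Subgroup G) :=
        Subgroup.mul_mem _ h1 (Subgroup.inv_mem _ hyP)
      have h4 : k * (⟨y, hPH hyP⟩ * k⁻¹ * (⟨y, hPH hyP⟩ : ↥H)⁻¹) ∈ Cfsg.pPrimeCore p ↥H :=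
        Subgroup.mul_mem _ hk (hKnH.conj_mem _ (Subgroup.inv_mem _ hk) _)
      have h5 : ((k * (⟨y, hPH hyP⟩ * k⁻¹ * (⟨y, hPH hyP⟩ : ↥H)⁻¹) : ↥H) : G)
          = (k : G) * y * (k : G)⁻¹ * y⁻¹ := by
        simp [mul_assoc]
      have h6 : (k : G) * y * (k : G)⁻¹ * y⁻¹ = 1 := by
        have hcop : (orderOf (k * (⟨y, hPH hyP⟩ * k⁻¹ * (⟨y, hPH hyP⟩ : ↥H)⁻¹))).Coprime p := by
          have hc := Cfsg.Agent.Lib.Helper63.card_pPrimeCore_coprime' p ↥H
          have hd : orderOf (⟨_, h4⟩ : ↥(Cfsg.pPrimeCore p ↥H)) ∣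
              Nat.card ↥(Cfsg.pPrimeCore p ↥H) := orderOf_dvd_natCard _
          rw [Subgroup.orderOf_mk] at hd
          exact Nat.Coprime.coprime_dvd_left hd hc
        rw [← Subgroup.orderOf_coe, h5] at hcop
        obtain ⟨j, hj⟩ := P.isPGroup' ⟨_, h3⟩
        have hj' : ((k : G) * y * (k : G)⁻¹ * y⁻¹) ^ p ^ j = 1 := by
          have := congrArg Subtype.val hj
          simpa using this
        have hd2 : orderOf ((k : G) * y * (k : G)⁻¹ * y⁻¹) ∣ p ^ j := orderOf_dvd_of_pow_eq_one hj'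
        have h7 : orderOf ((k : G) * y * (k : G)⁻¹ * y⁻¹) = 1 :=
          Nat.Coprime.eq_one_of_dvd (Nat.Coprime.pow_right j hcop) hd2
        exact orderOf_eq_one_iff.mp h7
      have h8 : (k : G) * y * (k : G)⁻¹ = y := by
        have := mul_inv_eq_one.mp h6
        exact this
      have h9 : a = m * y * m⁻¹ := by
        rw [hay, hgk]
        have e : m * (k : G) * y * (m * (k : G))⁻¹ = m * ((k : G) * y * (k : G)⁻¹) * m⁻¹ := by
          group
        rw [e, h8]
      have hb' : m⁻¹ * b * m⁻¹⁻¹ ∈ (P : Subgroup G) := (hm' b).mp hb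
      have h10 := hyc _ hb'
      rw [h9]
      calc m * y * m⁻¹ * b = m * (y * (m⁻¹ * b * m⁻¹⁻¹)) * m⁻¹ := by group
        _ = m * ((m⁻¹ * b * m⁻¹⁻¹) * y) * m⁻¹ := by rw [h10]
        _ = b * (m * y * m⁻¹) := by group
    exact hna ⟨⟨fun u v => Subtype.ext (hcent u u.2 v v.2)⟩⟩

end Cfsg.Agent.S4024
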