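import Mathlib
import Cfsg.Statements.S4029
import Cfsg.Agent.S0160
import Cfsg.Agent.S4058
import Cfsg.Agent.Lib.Helper74.CharSums
import Cfsg.Agent.Lib.Helper67.Basic

set_option autoImplicit false
open Cfsg

namespace Cfsg.Agent.S4029

/-- Let P be a finite 2-group in which N_P(⟨y⟩) = C_P(y) for every y ∈ P. If s is the number of conjugacy classes of involutions of P, then #(P/Φ(P)) ≤ s + 1; in particular the subgroup generated by the involutions of P has order at least #(P/Φ(P)). -/
theorem result {P : Type*} [Group P] [Finite P] (hP : IsPGroup 2 P)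
    (hirr : ∀ y : P, Subgroup.normalizer ((Subgroup.zpowers y : Subgroup P) : Set P) ≤ Subgroup.centralizer {y}) :
    Nat.card (P ⧸ frattini P) ≤ Nat.card {c : ConjClasses P // ∃ y : P, ConjClasses.mk y = c ∧ orderOf y = 2} + 1 ∧
    Nat.card (P ⧸ frattini P) ≤ Nat.card (Subgroup.closure {y : P | orderOf y = 2}) := by
  classical
  have : Fact (Nat.Prime 2) := ⟨Nat.prime_two⟩
  have := Fintype.ofFinite P
  have hfinΛ : Finite ((P ⧸ frattini P) →* ℂˣ) := Cfsg.Agent.Lib.Helper79.finite_monoidHom_units
  have hΛcard : Nat.card ((P ⧸ frattini P) →* ℂˣ) = Nat.card (P ⧸ frattini P) := by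
    rw [Cfsg.Agent.Lib.Helper79.card_monoidHom_units]
    have hcomm : IsMulCommutative (P ⧸ frattini P) :=
      Subgroup.Normal.quotient_commutative_iff_commutator_le.mpr
        (Cfsg.Agent.Lib.Helper2.commutator_le_frattini hP)
    have hc : commutator (P ⧸ frattini P) = ⊥ := by
      rw [commutator_def, eq_bot_iff, Subgroup.commutator_le]
      intro a _ b _
      rw [Subgroup.mem_bot, commutatorElement_eq_one_iff_mul_comm]
      exact hcomm.is_comm.comm a b
    rw [hc, Subgroup.index_bot]
  -- a real element is its own inverse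
  have hreal : ∀ g : P, IsConj g g⁻¹ → g = g⁻¹ := by
    intro g hg
    obtain ⟨c, hc⟩ := isConj_iff.1 hg
    have h1 : c ∈ Subgroup.normalizer ((Subgroup.zpowers g : Subgroup P) : Set P) := by
      rw [Cfsg.Agent.Lib.Helper67.mem_normalizer_zpowers_iff, hc]
      exact Subgroup.inv_mem _ (Subgroup.mem_zpowers g)
    have h2 := hirr g h1
    rw [Subgroup.mem_centralizer_iff] at h2
    have h3 : g * c = c * g := h2 g (Set.mem_singleton g)
    rw [← hc, ← h3]
    group
  have hreal' : ∀ g : P, IsConj g g⁻¹ → orderOf g ≠ 2 → g = 1 := by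
    intro g hg h2
    have h1 := hreal g hg
    have h3 : g ^ 2 = 1 := by
      rw [pow_two]
      nth_rewrite 2 [h1]
      exact mul_inv_cancel g
    have h4 : orderOf g ∣ 2 := orderOf_dvd_of_pow_eq_one h3
    rcases (Nat.dvd_prime Nat.prime_two).mp h4 with h | h
    · exact orderOf_eq_one_iff.mp h
    · exact absurd h h2
  -- inject linear characters into real irreducible characters
  have h1 : Nat.card ((P ⧸ frattini P) →* ℂˣ) ≤
      Nat.card {χ : Cfsg.IrrCharacter P // ∀ g : P, ((χ : P → ℂ) g).im = 0} := by
    apply Nat.card_le_card_of_injective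
      (fun l => (⟨⟨Cfsg.Agent.S4058.tw l (fun _ => (1 : ℂ)),
        Cfsg.Agent.S4058.tw_irr l Cfsg.Agent.Lib.Helper74.isIrrCharacter_one⟩, fun g => by
          show (Cfsg.Agent.S4058.tw l (fun _ => (1 : ℂ)) g).im = 0
          rw [Cfsg.Agent.S4058.tw_apply, mul_one]
          have h := Cfsg.Agent.S4058.sq_one hP l g
          rcases mul_self_eq_one_iff.mp h with h | h
          · rw [h]; simp
          · rw [h]; simp⟩ :
        {χ : Cfsg.IrrCharacter P // ∀ g : P, ((χ : P → ℂ) g).im = 0}))
    intro l l' hll
    have h2 : Cfsg.Agent.S4058.tw l (fun _ => (1 : ℂ)) = Cfsg.Agent.S4058.tw l' (fun _ => (1 : ℂ)) :=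
      congrArg (fun x : {χ : Cfsg.IrrCharacter P // ∀ g : P, ((χ : P → ℂ) g).im = 0} =>
        ((x : Cfsg.IrrCharacter P) : P → ℂ)) hll
    apply MonoidHom.ext
    intro q
    obtain ⟨g, rfl⟩ := QuotientGroup.mk_surjective q
    have h3 := congrFun h2 g
    rw [Cfsg.Agent.S4058.tw_apply, Cfsg.Agent.S4058.tw_apply, mul_one, mul_one] at h3
    exact Units.ext h3
  have h2 := Cfsg.Agent.S0160.result (G := P)
  -- inject real classes into involution classes plus one
  have h3 : Nat.card {C : ConjClasses P // ∀ g : P, ConjClasses.mk g = C → IsConj g g⁻¹} ≤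
      Nat.card (Option {c : ConjClasses P // ∃ y : P, ConjClasses.mk y = c ∧ orderOf y = 2}) := by
    apply Nat.card_le_card_of_injective
      (fun C => if h : ∃ y : P, ConjClasses.mk y = C.1 ∧ orderOf y = 2 then some ⟨C.1, h⟩ else none)
    intro C C' hCC
    by_cases hC : ∃ y : P, ConjClasses.mk y = C.1 ∧ orderOf y = 2
    · by_cases hC' : ∃ y : P, ConjClasses.mk y = C'.1 ∧ orderOf y = 2
      · simp only [dif_pos hC, dif_pos hC'] at hCC
        have h6 := Option.some.inj hCC
        exact Subtype.ext (congrArg (fun x : {c : ConjClasses P // ∃ y : P, ConjClasses.mk y = c ∧ orderOf y = 2} => (x : ConjClasses P)) h6)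
      · simp only [dif_pos hC, dif_neg hC'] at hCC
        exact absurd hCC (by simp)
    · by_cases hC' : ∃ y : P, ConjClasses.mk y = C'.1 ∧ orderOf y = 2
      · simp only [dif_neg hC, dif_pos hC'] at hCC
        exact absurd hCC (by simp)
      · obtain ⟨g, hg⟩ := ConjClasses.mk_surjective C.1
        obtain ⟨g', hg'⟩ := ConjClasses.mk_surjective C'.1
        have e1 : g = 1 := hreal' g (C.2 g hg) (fun h => hC ⟨g, hg, h⟩)
        have e2 : g' = 1 := hreal' g' (C'.2 g' hg') (fun h => hC' ⟨g', hg', h⟩)
        apply Subtype.ext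
        rw [← hg, ← hg', e1, e2]
  have h4 : Nat.card (Option {c : ConjClasses P // ∃ y : P, ConjClasses.mk y = c ∧ orderOf y = 2}) =
      Nat.card {c : ConjClasses P // ∃ y : P, ConjClasses.mk y = c ∧ orderOf y = 2} + 1 :=
    Finite.card_option
  have h5 : Nat.card (Option {c : ConjClasses P // ∃ y : P, ConjClasses.mk y = c ∧ orderOf y = 2}) ≤
      Nat.card (Subgroup.closure {y : P | orderOf y = 2}) := by
    apply Nat.card_le_card_of_injective
      (fun o : Option {c : ConjClasses P // ∃ y : P, ConjClasses.mk y = c ∧ orderOf y = 2} =>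
        match o with
        | none => (1 : Subgroup.closure {y : P | orderOf y = 2})
        | some c => ⟨Classical.choose c.2, Subgroup.subset_closure (Classical.choose_spec c.2).2⟩)
    intro o o' hoo
    match o, o' with
    | none, none => rfl
    | none, some c =>
      exfalso
      have h6 : (1 : P) = Classical.choose c.2 := congrArg Subtype.val hoo
      have h7 := (Classical.choose_spec c.2).2
      rw [← h6, orderOf_one] at h7
      omega
    | some c, none =>
      exfalso
      have h6 : Classical.choose c.2 = (1 : P) := congrArg Subtype.val hoo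
      have h7 := (Classical.choose_spec c.2).2
      rw [h6, orderOf_one] at h7
      omega
    | some c, some c' =>
      have h6 : Classical.choose c.2 = Classical.choose c'.2 := congrArg Subtype.val hoo
      have h7 := (Classical.choose_spec c.2).1
      have h8 := (Classical.choose_spec c'.2).1
      congr 1
      apply Subtype.ext
      rw [← h7, ← h8, h6]
  constructor
  · rw [← hΛcard, ← h4]
    exact h1.trans (h2 ▸ h3)
  · rw [← hΛcard]
    exact h1.trans ((h2 ▸ h3).trans h5)

end Cfsg.Agent.S4029
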