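import Cfsg.Statements.S4033
import Cfsg.Agent.Lib.Helper9.S4033.Defs
import Cfsg.Agent.Lib.Helper9.S4033.Final
import Cfsg.Agent.Lib.Helper9.S4033.E
import Cfsg.Agent.Lib.Helper1.S4033.TA
import Cfsg.Agent.Lib.Helper71.S4033.K
import Cfsg.Agent.Lib.Helper10.S4033.Act
import Cfsg.Agent.Lib.Helper10.S4033.Gr
import Cfsg.Agent.Lib.Helper34.S4033.PE
import Cfsg.Agent.Lib.Helper45.S4033.Prim
import Cfsg.Agent.Lib.Helper45.S4033.F2a
import Cfsg.Agent.Lib.Helper97.S4033.B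
import Cfsg.Agent.Lib.Helper54.S4033.F2
import Cfsg.Agent.Lib.Helper73.S4033.F1a
import Cfsg.Agent.Lib.Helper75.S4033.F1
import Cfsg.Agent.Lib.Helper75.S4033.Mem
import Cfsg.Agent.Lib.Helper91.S4033.Q
import Cfsg.Agent.Lib.Helper97.S4033.H2
import Cfsg.Agent.Lib.Helper97.S4033.Qa
import Cfsg.Agent.Lib.Helper97.S4033.X

set_option autoImplicit false
open Cfsg

namespace Cfsg.Agent.S4033

/-- Let G be a finite group and p a prime, and suppose the conjugacy classes of p-regular elements of G (elements of order prime to p) have exactly two distinct sizes. Then either G has an abelian p-complement (an abelian subgroup of order prime to p and p-power index), or there are a prime q ≠ p, a Sylow p-subgroup P, a Sylow q-subgroup Q and a central subgroup A such that PQ is a normal subgroup of order #P·#Q and G is the internal direct product PQ × A. -/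
theorem result {G : Type*} [Group G] [Finite G] {p : ℕ} (hp : p.Prime)
    (h2 : Set.ncard (Set.range fun x : {x : G // (orderOf x).Coprime p} => (ConjClasses.mk (x : G)).carrier.ncard) = 2) :
    (∃ H : Subgroup G, IsMulCommutative H ∧ ¬ p ∣ Nat.card H ∧ ∃ k : ℕ, H.index = p ^ k) ∨
    (∃ (q : ℕ) (_ : Fact q.Prime) (P : Sylow p G) (Q : Sylow q G) (A : Subgroup G), q ≠ p ∧
        A ≤ Subgroup.center G ∧ Nat.card ↥((P : Subgroup G) ⊔ (Q : Subgroup G)) = Nat.card P * Nat.card Q ∧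
        ((P : Subgroup G) ⊔ (Q : Subgroup G)).Normal ∧
        ((P : Subgroup G) ⊔ (Q : Subgroup G)) ⊓ A = ⊥ ∧ ((P : Subgroup G) ⊔ (Q : Subgroup G)) ⊔ A = ⊤) := by
  have hPrim := Cfsg.Agent.Lib.Helper45.S4033.pkgPrim
  have hMem := Cfsg.Agent.Lib.Helper75.S4033.pkgMem
  have hAct := Cfsg.Agent.Lib.Helper10.S4033.pkgAct hMem
  have hGr := Cfsg.Agent.Lib.Helper10.S4033.pkgGr hMem hAct
  have hPE := Cfsg.Agent.Lib.Helper34.S4033.pkgPE
  have hE := Cfsg.Agent.Lib.Helper9.S4033.pkgE hMem hAct hGr hPE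
  have hK := Cfsg.Agent.Lib.Helper71.S4033.pkgK
  have hF1a := Cfsg.Agent.Lib.Helper73.S4033.pkgF1a
  have hF1 := Cfsg.Agent.Lib.Helper75.S4033.pkgF1 hMem hAct hPrim hF1a
  have hF2a := Cfsg.Agent.Lib.Helper45.S4033.pkgF2a
  have hF2 := Cfsg.Agent.Lib.Helper54.S4033.pkgF2 hMem hAct hF2a
  have hQa := Cfsg.Agent.Lib.Helper97.S4033.pkgQa
  have hQ := Cfsg.Agent.Lib.Helper91.S4033.pkgQ hQa
  have hXP := Cfsg.Agent.Lib.Helper97.S4033.pkgXP hE hK hF1 hF2
  have hX := Cfsg.Agent.Lib.Helper97.S4033.pkgX hXP hQ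
  have hTA := Cfsg.Agent.Lib.Helper1.S4033.pkgTA hPrim
  have hH2 := Cfsg.Agent.Lib.Helper97.S4033.pkgH2
  have hB := Cfsg.Agent.Lib.Helper97.S4033.pkgB
  exact Cfsg.Agent.Lib.Helper9.S4033.final_of_pkgs hH2 hTA hX hB hp h2

end Cfsg.Agent.S4033
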