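import Mathlib
import Cfsg.Statements.S4039
import Cfsg.Agent.Lib.Helper91.NilpMax
import Cfsg.Agent.Lib.Helper84.Gruen
import Cfsg.Agent.Lib.Helper47.PIrr

set_option autoImplicit false
open Cfsg
open scoped commutatorElement

namespace Cfsg.Agent.S4039

open Cfsg.Agent.Lib

universe u

section

variable {G : Type u} [Group G] [Finite G]

/-- `M` has class at most two, elementwise inside `G`. -/
def C2 (M : Subgroup G) : Prop := ∀ u ∈ M, ∀ v ∈ M, ∀ w ∈ M, ⁅⁅u, v⁆, w⁆ = 1

omit [Finite G] in
theorem c2_of_class {M : Subgroup G} (hnil : Group.IsNilpotent M)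
    (hcl : Group.nilpotencyClass ↥M ≤ 2) : C2 M := by
  have h := (Subgroup.lowerCentralSeries_eq_bot_iff_nilpotencyClass_le (G := ↥M)).mpr hcl
  intro u hu v hv w hw
  have h1 : ⁅⁅(⟨u, hu⟩ : M), (⟨v, hv⟩ : M)⁆, (⟨w, hw⟩ : M)⁆ ∈ (⊤ : Subgroup M).lowerCentralSeries 2 :=
    Subgroup.commutator_mem_commutator (Subgroup.commutator_mem_commutator (Subgroup.mem_top _)
      (Subgroup.mem_top _)) (Subgroup.mem_top _)
  rw [h, Subgroup.mem_bot] at h1
  have h2 := congrArg Subtype.val h1
  simpa [commutatorElement_def] using h2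

omit [Finite G] in
theorem le_normalizer_of_c2 {M P D : Subgroup G} (hC2 : C2 M) (hPM : P ≤ M)
    (hMN : M ≤ Subgroup.normalizer (P : Set G)) (hDP : D ≤ P)
    (hZD : P ⊓ Subgroup.centralizer (P : Set G) ≤ D) : M ≤ Subgroup.normalizer (D : Set G) := by
  have key : ∀ m ∈ M, ∀ d ∈ D, m * d * m⁻¹ ∈ D := by
    intro m hm d hd
    have hdP := hDP hd
    have h1 : m * d * m⁻¹ ∈ P := (Subgroup.mem_normalizer_iff.mp (hMN hm) d).mp hdP
    have h2 : ⁅m, d⁆ ∈ P ⊓ Subgroup.centralizer (P : Set G) := by
      refine Subgroup.mem_inf.mpr ⟨?_, ?_⟩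
      · rw [commutatorElement_def]; exact mul_mem h1 (inv_mem hdP)
      · rw [Subgroup.mem_centralizer_iff]
        intro w hw
        have h3 := hC2 m hm d (hPM hdP) w (hPM hw)
        rw [commutatorElement_eq_one_iff_mul_comm] at h3
        exact h3.symm
    have h3 : m * d * m⁻¹ = ⁅m, d⁆ * d := by rw [commutatorElement_def]; group
    rw [h3]
    exact mul_mem (hZD h2) hd
  intro m hm
  rw [Subgroup.mem_normalizer_iff]
  intro h
  constructor
  · exact key m hm h
  · intro hh
    have h1 := key m⁻¹ (inv_mem hm) _ hh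
    simpa [mul_assoc] using h1

omit [Finite G] in
theorem le_sylow_of_le_normalizer {p : ℕ} [Fact p.Prime] (P : Sylow p G) {R : Subgroup G}
    (hR : IsPGroup p R) (hRN : R ≤ Subgroup.normalizer ((P : Subgroup G) : Set G)) :
    R ≤ (P : Subgroup G) := by
  have h1 : IsPGroup p (R ⊔ (P : Subgroup G) : Subgroup G) :=
    IsPGroup.to_sup_of_normal_right' hR P.2 hRN
  have h2 := P.is_maximal' h1 le_sup_right
  rw [← h2]; exact le_sup_left

theorem exists_normalPComplement_of_c2 {M : Subgroup G} (hmax : IsCoatom M)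
    (hnil : Group.IsNilpotent M) (hcore : ∀ K : Subgroup G, K.Normal → K ≤ M → K = ⊥)
    (hC2 : C2 M) {p : ℕ} [Fact p.Prime] (hp : p ∣ Nat.card M) :
    ∃ K : Subgroup G, Helper54.IsNormalPComplement p K ∧
      ∃ P : Sylow p G, (P : Subgroup G) ≤ M := by
  obtain ⟨P, hPle, hPbot, hMN⟩ := Helper91.sylow_of_coatom hmax hnil hcore hp
  have hZbot := Helper91.inf_centralizer_ne_bot (P : Subgroup G) P.2 hPbot
  have hNZ := Helper91.normalizer_eq_of_coatom hmax hcore (inf_le_left.trans hPle) hZbot
    (hMN.trans (Helper91.normalizer_le_normalizer_inf_centralizer _))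
  have hn : ∀ Q : Sylow p G,
      (P : Subgroup G) ⊓ Subgroup.centralizer (P : Set G) ≤ (Q : Subgroup G) →
      (Q : Subgroup G) ⊓ Subgroup.centralizer (Q : Set G) =
        (P : Subgroup G) ⊓ Subgroup.centralizer (P : Set G) := by
    intro Q hZQ
    have hZ'M : (Q : Subgroup G) ⊓ Subgroup.centralizer (Q : Set G) ≤ M := by
      rw [← hNZ]
      refine le_trans ?_ (Subgroup.centralizer_le_normalizer _)
      exact inf_le_right.trans (Subgroup.centralizer_le hZQ)
    have hZ'P : (Q : Subgroup G) ⊓ Subgroup.centralizer (Q : Set G) ≤ (P : Subgroup G) :=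
      le_sylow_of_le_normalizer P (Q.2.to_le inf_le_left) (hZ'M.trans hMN)
    obtain ⟨g, rfl⟩ := MulAction.exists_smul_eq G P Q
    have hC2g : C2 (M.map (MulAut.conj g).toMonoidHom) := by
      rintro _ ⟨u, hu, rfl⟩ _ ⟨v, hv, rfl⟩ _ ⟨w, hw, rfl⟩
      have h1 := hC2 u hu v hv w hw
      rw [← map_commutatorElement, ← map_commutatorElement, h1, map_one]
    have hQeq : ((g • P : Sylow p G) : Subgroup G) = (P : Subgroup G).map (MulAut.conj g).toMonoidHom :=
      rfl
    have hQMg : ((g • P : Sylow p G) : Subgroup G) ≤ M.map (MulAut.conj g).toMonoidHom := by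
      rw [hQeq]; exact Subgroup.map_mono hPle
    have hMgN : M.map (MulAut.conj g).toMonoidHom ≤
        Subgroup.normalizer (((g • P : Sylow p G) : Subgroup G) : Set G) := by
      rw [hQeq]
      exact (Subgroup.map_mono hMN).trans (Subgroup.le_normalizer_map _)
    have hD := le_normalizer_of_c2 hC2 hPle hMN
      (inf_le_left : (P : Subgroup G) ⊓ ((g • P : Sylow p G) : Subgroup G) ≤ P)
      (le_inf inf_le_left hZQ)
    have hDbot : (P : Subgroup G) ⊓ ((g • P : Sylow p G) : Subgroup G) ≠ ⊥ := by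
      intro h
      apply hZbot
      rw [eq_bot_iff, ← h]
      exact le_inf inf_le_left hZQ
    have hND := Helper91.normalizer_eq_of_coatom hmax hcore (inf_le_left.trans hPle) hDbot hD
    have hDg := le_normalizer_of_c2 hC2g hQMg hMgN
      (inf_le_right : (P : Subgroup G) ⊓ ((g • P : Sylow p G) : Subgroup G) ≤ _)
      (le_inf hZ'P inf_le_left)
    rw [hND] at hDg
    have hQP : ((g • P : Sylow p G) : Subgroup G) ≤ (P : Subgroup G) :=
      le_sylow_of_le_normalizer P (g • P : Sylow p G).2 ((hQMg.trans hDg).trans hMN)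
    have hPQ : (P : Subgroup G) = ((g • P : Sylow p G) : Subgroup G) :=
      (g • P : Sylow p G).is_maximal' P.2 hQP
    have hQ' : (g • P : Sylow p G) = P := Sylow.ext hPQ.symm
    rw [hQ']
  have hG := Helper84.gruen_pnormal P hn M (le_of_eq hNZ)
  obtain ⟨KM, hKM⟩ := Helper54.hasNormalPComplement_iff.mp
    (Helper91.hasNormalPComplement_of_nilpotent p hnil)
  have hRM : Cfsg.pResidual p ↥M ≤ KM := by
    unfold Cfsg.pResidual
    rw [Subgroup.closure_le]
    intro x hx
    exact hKM.mem_of_coprime hx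
  have hbot : (P : Subgroup G) ⊓ (Cfsg.pResidual p ↥M).map M.subtype = ⊥ := by
    rw [eq_bot_iff]
    rintro x ⟨hxP, y, hy, rfl⟩
    rw [Subgroup.mem_bot]
    have h1 : (orderOf y).Coprime p := hKM.coprime_of_mem (hRM hy)
    obtain ⟨k, hk⟩ := (IsPGroup.iff_orderOf.mp P.2) ⟨M.subtype y, hxP⟩
    rw [Subgroup.orderOf_mk] at hk
    have h2 : orderOf (M.subtype y) = orderOf y := Subgroup.orderOf_coe y
    rw [h2] at hk
    rw [hk] at h1
    have h3 : p ^ k = 1 := by
      rcases Nat.eq_zero_or_pos k with h0 | h0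
      · rw [h0, pow_zero]
      · exfalso
        have h4 : p ∣ p ^ k := dvd_pow_self p h0.ne'
        have h5 := Nat.Coprime.eq_one_of_dvd h1.symm h4
        exact (Fact.out : p.Prime).one_lt.ne' h5
    rw [h3] at hk
    have h6 : y = 1 := orderOf_eq_one_iff.mp hk
    rw [h6, map_one]
  rw [hbot] at hG
  have hRn := Helper47.pResidual_normal p G
  have hsup := Helper47.pResidual_sup_sylow P
  have hcompl : (Cfsg.pResidual p G).IsComplement' (P : Subgroup G) := by
    apply Subgroup.isComplement'_of_disjoint_and_mul_eq_univ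
    · rw [disjoint_iff, inf_comm]; exact hG
    · rw [← Subgroup.normal_mul, hsup]; rfl
  exact ⟨_, Helper54.isNormalPComplement_of_isComplement' hRn hcompl, P, hPle⟩

/-- Core-free case (proof adapted from `Helper91.solvable_of_coatom_corefree`). -/
theorem solvable_of_coatom_corefree_c2 (M : Subgroup G) (hmax : IsCoatom M)
    (hnil : Group.IsNilpotent M) (hC2 : C2 M)
    (hcore : ∀ K : Subgroup G, K.Normal → K ≤ M → K = ⊥) : Group.IsSolvable G := by
  classical
  by_cases hMbot : M = ⊥
  · apply Group.isSolvable_of_comm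
    intro a b
    by_cases ha : a = 1
    · subst ha; simp
    · have h1 : M < Subgroup.zpowers a := by
        rw [hMbot, bot_lt_iff_ne_bot]
        intro h
        exact ha (Subgroup.zpowers_eq_bot.mp h)
      have h2 := hmax.2 _ h1
      have hb : b ∈ Subgroup.zpowers a := by rw [h2]; exact Subgroup.mem_top b
      obtain ⟨k, rfl⟩ := Subgroup.mem_zpowers_iff.mp hb
      exact (Commute.zpow_right (Commute.refl a) k).eq
  have hex : ∀ p, p.Prime → p ∣ Nat.card M → ∃ K : Subgroup G,
      Helper54.IsNormalPComplement p K ∧ ∃ P : Sylow p G, (P : Subgroup G) ≤ M := by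
    intro p hp hpd
    have : Fact p.Prime := ⟨hp⟩
    exact exists_normalPComplement_of_c2 hmax hnil hcore hC2 hpd
  have hKn : (sInf {L : Subgroup G | ∃ p, p.Prime ∧ p ∣ Nat.card M ∧
      Helper54.IsNormalPComplement p L}).Normal := by
    refine ⟨fun n hn g => ?_⟩
    rw [Subgroup.mem_sInf] at hn ⊢
    intro L hL
    obtain ⟨p, hp, hpd, hLc⟩ := hL
    exact hLc.1.conj_mem n (hn L ⟨p, hp, hpd, hLc⟩) g
  have hK1 : ∀ g ∈ sInf {L : Subgroup G | ∃ p, p.Prime ∧ p ∣ Nat.card M ∧
      Helper54.IsNormalPComplement p L}, ∀ p, p.Prime → p ∣ Nat.card M →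
      (orderOf g).Coprime p := by
    intro g hg p hp hpd
    have : Fact p.Prime := ⟨hp⟩
    obtain ⟨L, hL, -⟩ := hex p hp hpd
    exact hL.coprime_of_mem ((Subgroup.mem_sInf.mp hg) L ⟨p, hp, hpd, hL⟩)
  have hK2 : ∀ g : G, (∀ p, p.Prime → p ∣ Nat.card M → (orderOf g).Coprime p) →
      g ∈ sInf {L : Subgroup G | ∃ p, p.Prime ∧ p ∣ Nat.card M ∧
        Helper54.IsNormalPComplement p L} := by
    intro g hg
    rw [Subgroup.mem_sInf]
    rintro L ⟨p, hp, hpd, hLc⟩
    have : Fact p.Prime := ⟨hp⟩
    exact hLc.mem_of_coprime (hg p hp hpd)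
  generalize sInf {L : Subgroup G | ∃ p, p.Prime ∧ p ∣ Nat.card M ∧
      Helper54.IsNormalPComplement p L} = K at hKn hK1 hK2
  have hKM : K ⊓ M = ⊥ := by
    rw [eq_bot_iff]
    intro x hx
    rw [Subgroup.mem_bot]
    by_contra hx1
    have hxK := (Subgroup.mem_inf.mp hx).1
    have hxM := (Subgroup.mem_inf.mp hx).2
    have hord : orderOf x ≠ 1 := fun h => hx1 (orderOf_eq_one_iff.mp h)
    obtain ⟨p, hp, hpd⟩ := Nat.exists_prime_and_dvd hord
    have hpM : p ∣ Nat.card M := hpd.trans (Subgroup.orderOf_dvd_natCard M hxM)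
    have h1 := hK1 x hxK p hp hpM
    exact hp.one_lt.ne' (Nat.Coprime.eq_one_of_dvd h1.symm hpd)
  have hKMtop : K ⊔ M = ⊤ := by
    rcases eq_or_lt_of_le (le_sup_right : M ≤ K ⊔ M) with h | h
    · exfalso
      have hKle : K ≤ M := by rw [h]; exact le_sup_left
      have hKbot : K = ⊥ := by rw [← hKM]; exact (inf_eq_left.mpr hKle).symm
      have hM0 : Nat.card M ≠ 0 := Nat.card_pos.ne'
      have hG0 : Nat.card G ≠ 0 := Nat.card_pos.ne'
      have hcard : Nat.card M = Nat.card G := by
        apply Nat.eq_of_factorization_eq hM0 hG0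
        intro p
        by_cases hp : p.Prime
        · have : Fact p.Prime := ⟨hp⟩
          by_cases hpd : p ∣ Nat.card M
          · obtain ⟨L, hL, P, hPM⟩ := hex p hp hpd
            apply le_antisymm
            · exact (Nat.factorization_le_iff_dvd hM0 hG0).mpr (Subgroup.card_subgroup_dvd_card M) p
            · have h1 : Nat.card (P : Subgroup G) ∣ Nat.card M := Subgroup.card_dvd_of_le hPM
              rw [P.card_eq_multiplicity] at h1
              exact (Nat.Prime.pow_dvd_iff_le_factorization hp hM0).mp h1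
          · have hpG : ¬ p ∣ Nat.card G := by
              intro hpG
              obtain ⟨Q⟩ : Nonempty (Sylow p G) := inferInstance
              have hQbot := Q.ne_bot_of_dvd_card hpG
              apply hQbot
              rw [eq_bot_iff, ← hKbot]
              intro y hy
              apply hK2
              intro q hq hqd
              obtain ⟨k, hk⟩ := (IsPGroup.iff_orderOf.mp Q.2) ⟨y, hy⟩
              rw [Subgroup.orderOf_mk] at hk
              rw [hk]
              have hne : p ≠ q := fun h => hpd (h ▸ hqd)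
              exact Nat.Coprime.pow_left k ((Nat.coprime_primes hp hq).mpr hne)
            rw [Nat.factorization_eq_zero_of_not_dvd hpd, Nat.factorization_eq_zero_of_not_dvd hpG]
        · rw [Nat.factorization_eq_zero_of_not_prime _ hp,
            Nat.factorization_eq_zero_of_not_prime _ hp]
      exact hmax.1 (Subgroup.eq_top_of_card_eq M hcard)
    · exact hmax.2 _ h
  -- a central element of prime order of `M`
  have hMnt : Nontrivial M := (Subgroup.nontrivial_iff_ne_bot M).mpr hMbot
  have hcen : Subgroup.center M ≠ ⊥ := Group.IsNilpotent.center_ne_bot M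
  obtain ⟨z, hz1⟩ := (Subgroup.ne_bot_iff_exists_ne_one).mp hcen
  have hzord : orderOf (z : M) ≠ 1 := by
    intro h
    apply hz1
    exact Subtype.ext (orderOf_eq_one_iff.mp h)
  obtain ⟨p, hp, hpd⟩ := Nat.exists_prime_and_dvd hzord
  have hxord : orderOf ((z : M) ^ (orderOf (z : M) / p)) = p :=
    orderOf_pow_orderOf_div (orderOf_pos (z : M)).ne' hpd
  have hxcen : (z : M) ^ (orderOf (z : M) / p) ∈ Subgroup.center M :=
    Subgroup.pow_mem _ z.2 _
  generalize (z : M) ^ (orderOf (z : M) / p) = x at hxord hxcen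
  have hxG : orderOf (x : G) = p := by rw [Subgroup.orderOf_coe]; exact hxord
  have hφ : MonoidHom.FixedPointFree (MulAut.conjNormal (H := K) (x : G)).toMonoidHom := by
    intro k hk
    by_contra hk1
    have hkG : ((x : G) * k * (x : G)⁻¹ : G) = k := congrArg Subtype.val hk
    have hMC : M ≤ Subgroup.centralizer {(x : G)} := by
      intro m hm
      rw [Subgroup.mem_centralizer_singleton_iff]
      have h1 := Subgroup.mem_center_iff.mp hxcen ⟨m, hm⟩
      exact congrArg Subtype.val h1
    have hkC : (k : G) ∈ Subgroup.centralizer {(x : G)} := by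
      rw [Subgroup.mem_centralizer_singleton_iff]
      calc (k : G) * x = ((x : G) * k * (x : G)⁻¹) * x := by rw [hkG]
        _ = x * k := by group
    have hkM : (k : G) ∉ M := by
      intro hkM
      have h1 : (k : G) ∈ K ⊓ M := Subgroup.mem_inf.mpr ⟨k.2, hkM⟩
      rw [hKM, Subgroup.mem_bot] at h1
      exact hk1 (Subtype.ext h1)
    have hlt : M < Subgroup.centralizer {(x : G)} :=
      lt_of_le_of_ne hMC (fun h => hkM (h ▸ hkC))
    have htop := hmax.2 _ hlt
    have hzn : (Subgroup.zpowers (x : G)).Normal := by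
      refine ⟨fun n hn g => ?_⟩
      have hg : g ∈ Subgroup.centralizer {(x : G)} := htop ▸ Subgroup.mem_top g
      rw [Subgroup.mem_centralizer_singleton_iff] at hg
      obtain ⟨j, rfl⟩ := Subgroup.mem_zpowers_iff.mp hn
      have hcomm : Commute g ((x : G) ^ j) := Commute.zpow_right hg j
      have h1 : g * (x : G) ^ j * g⁻¹ = (x : G) ^ j := by rw [hcomm.eq]; group
      rw [h1]
      exact hn
    have h2 := hcore _ hzn ((Subgroup.zpowers_le).mpr x.2)
    rw [Subgroup.zpowers_eq_bot] at h2
    rw [h2, orderOf_one] at hxG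
    exact hp.one_lt.ne hxG
  have hφp : (⇑(MulAut.conjNormal (H := K) (x : G)).toMonoidHom)^[p] = _root_.id := by
    funext n
    have h1 : (MulAut.conjNormal (H := K) (x : G)) ^ p = 1 := by
      rw [← map_pow, ← hxG, pow_orderOf_eq_one, map_one]
    have h2 := Cfsg.Agent.S0033.mulEquiv_pow_apply (MulAut.conjNormal (H := K) (x : G)) p n
    rw [h1] at h2
    exact h2.symm
  have hKnil : Group.IsNilpotent K := Cfsg.Agent.S0033.fpf_nilpotent_of_iterate _ hφ hp hφp
  have hsurj : Function.Surjective ((QuotientGroup.mk' K).comp M.subtype) := by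
    intro q
    obtain ⟨g, rfl⟩ := QuotientGroup.mk_surjective q
    have hg : g ∈ K ⊔ M := hKMtop ▸ Subgroup.mem_top g
    rw [← SetLike.mem_coe, Subgroup.normal_mul K M] at hg
    obtain ⟨k, hk, m, hm, rfl⟩ := Set.mem_mul.mp hg
    refine ⟨⟨m, hm⟩, ?_⟩
    change ((m : G) : G ⧸ K) = ((k * m : G) : G ⧸ K)
    rw [QuotientGroup.eq]
    have h1 : m⁻¹ * (k * m) = m⁻¹ * k * m⁻¹⁻¹ := by group
    rw [h1]
    exact hKn.conj_mem k hk m⁻¹
  have hGK : Group.IsSolvable (G ⧸ K) := Group.isSolvable_of_surjective hsurj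
  exact Group.isSolvable_of_ker_le_range K.subtype (QuotientGroup.mk' K)
    (by rw [QuotientGroup.ker_mk', Subgroup.range_subtype])

theorem solvable_of_coatom_nilpotent_c2_aux (M N : Subgroup G) [hNn : N.Normal] (hNle : N ≤ M)
    (hNcore : ∀ L : Subgroup G, L.Normal → L ≤ M → L ≤ N) (hmax : IsCoatom M)
    (hnil : Group.IsNilpotent M) (hC2 : C2 M) : Group.IsSolvable G := by
  have hf : Function.Surjective (QuotientGroup.mk' N) := QuotientGroup.mk'_surjective _
  have hcomap : (M.map (QuotientGroup.mk' N)).comap (QuotientGroup.mk' N) = M := by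
    rw [Subgroup.comap_map_eq, QuotientGroup.ker_mk', sup_eq_left.mpr hNle]
  have hmax' : IsCoatom (M.map (QuotientGroup.mk' N)) := by
    constructor
    · intro h
      apply hmax.1
      rw [← hcomap, h, Subgroup.comap_top]
    · intro L hL
      have h1 : M ≤ L.comap (QuotientGroup.mk' N) := by
        rw [← hcomap]
        exact Subgroup.comap_mono hL.le
      rcases eq_or_lt_of_le h1 with h2 | h2
      · exfalso
        have h3 : L = M.map (QuotientGroup.mk' N) := by
          rw [h2, Subgroup.map_comap_eq_self_of_surjective hf]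
        exact hL.ne h3.symm
      · have h3 := hmax.2 _ h2
        rw [← Subgroup.map_comap_eq_self_of_surjective hf L, h3, ← MonoidHom.range_eq_map,
          MonoidHom.range_eq_top.mpr hf]
  have hnil' : Group.IsNilpotent (M.map (QuotientGroup.mk' N)) :=
    Group.nilpotent_of_surjective ((QuotientGroup.mk' N).subgroupMap M)
      ((QuotientGroup.mk' N).subgroupMap_surjective M)
  have hC2' : C2 (M.map (QuotientGroup.mk' N)) := by
    rintro _ ⟨u, hu, rfl⟩ _ ⟨v, hv, rfl⟩ _ ⟨w, hw, rfl⟩
    have h1 := hC2 u hu v hv w hw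
    rw [← map_commutatorElement, ← map_commutatorElement, h1, map_one]
  have hcore' : ∀ L : Subgroup (G ⧸ N), L.Normal →
      L ≤ M.map (QuotientGroup.mk' N) → L = ⊥ := by
    intro L hL hLM
    have h1 : L.comap (QuotientGroup.mk' N) ≤ M := by
      rw [← hcomap]
      exact Subgroup.comap_mono hLM
    have hn : (L.comap (QuotientGroup.mk' N)).Normal := hL.comap _
    have h2 : L.comap (QuotientGroup.mk' N) ≤ N := hNcore _ hn h1
    rw [← Subgroup.map_comap_eq_self_of_surjective hf L, eq_bot_iff]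
    calc (L.comap (QuotientGroup.mk' N)).map (QuotientGroup.mk' N)
        ≤ N.map (QuotientGroup.mk' N) := Subgroup.map_mono h2
      _ = ⊥ := QuotientGroup.map_mk'_self _
  have hsolvQ : Group.IsSolvable (G ⧸ N) :=
    solvable_of_coatom_corefree_c2 _ hmax' hnil' hC2' hcore'
  have hNnil : Group.IsNilpotent N := Helper91.isNilpotent_of_le hnil hNle
  exact Group.isSolvable_of_ker_le_range N.subtype (QuotientGroup.mk' N)
    (by rw [QuotientGroup.ker_mk', Subgroup.range_subtype])

end

theorem result {G : Type*} [Group G] [Finite G]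
    (M : Subgroup G) (hmax : IsCoatom M) (hnil : Group.IsNilpotent M) (hcl : Group.nilpotencyClass ↥M ≤ 2) :
    Group.IsSolvable G := by
  exact solvable_of_coatom_nilpotent_c2_aux M M.normalCore (Subgroup.normalCore_le M)
    (fun _ hL hLM => (Subgroup.normal_le_normalCore (hN := hL)).mpr hLM) hmax hnil
    (c2_of_class hnil hcl)

end Cfsg.Agent.S4039
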