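import Mathlib
import Cfsg.Statements.S4097
import Cfsg.Agent.S0042
import Cfsg.Agent.Lib.Helper18.Solv
import Cfsg.Agent.Lib.Helper34.EvenEndgame

set_option autoImplicit false
open Cfsg

namespace Cfsg.Agent.S4097

open Pointwise

universe u

/-- The preimage of a solvable subgroup of `G ⧸ Z(G)` is solvable. -/
theorem isSolvable_comap_center {G : Type u} [Group G]
    (N : Subgroup (G ⧸ Subgroup.center G)) [hN : Group.IsSolvable N] :
    Group.IsSolvable ↥(N.comap (QuotientGroup.mk' (Subgroup.center G))) := by
  let g : ↥(N.comap (QuotientGroup.mk' (Subgroup.center G))) →* ↥N :=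
    (QuotientGroup.mk' (Subgroup.center G)).subgroupComap N
  have : Group.IsSolvable g.ker := by
    apply Group.isSolvable_of_comm
    intro a b
    have ha : (a.1 : G) ∈ Subgroup.center G := by
      have h1 : g a.1 = 1 := a.2
      have h2 : (QuotientGroup.mk' (Subgroup.center G)) (a.1 : G) = 1 :=
        congrArg Subtype.val h1
      exact (QuotientGroup.eq_one_iff _).mp h2
    apply Subtype.ext
    apply Subtype.ext
    have := (Subgroup.mem_center_iff.mp ha) (b.1 : G)
    simpa using this.symm
  exact Group.isSolvable_of_ker_le_range g.ker.subtype g (by simp)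

theorem aux (n : ℕ) : ∀ (G : Type u) [Group G] [Finite G], Nat.card G = n →
    ∀ (A : Subgroup G), Group.IsSolvable A →
    (∀ S : Subgroup G, A ≤ S → Group.IsSolvable S → ∀ a ∈ A, ∀ s ∈ S, a * s = s * a) →
    A ≤ Subgroup.center G := by
  induction n using Nat.strong_induction_on with
  | _ n ih =>
  intro G _ _ hn A hA hc
  have hAab : ∀ a ∈ A, ∀ b ∈ A, a * b = b * a := hc A le_rfl hA
  -- (*) A centralizes every proper subgroup containing it
  have hstar : ∀ H : Subgroup G, H ≠ ⊤ → A ≤ H → ∀ a ∈ A, ∀ h ∈ H, a * h = h * a := by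
    intro H hH hAH
    have hlt : Nat.card H < n := by
      rw [← hn]
      exact lt_of_le_of_ne (Subgroup.card_le_card_group H)
        (fun h => hH (Subgroup.eq_top_of_card_eq H h))
    have hsol : Group.IsSolvable (A.subgroupOf H) := by
      have := hA
      exact Group.isSolvable_of_isSolvable_injective
        (f := (Subgroup.subgroupOfEquivOfLe hAH).toMonoidHom)
        (Subgroup.subgroupOfEquivOfLe hAH).injective
    have key := ih (Nat.card H) hlt H rfl (A.subgroupOf H) hsol (by
      intro S' hAS' hS' a ha s hs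
      have h1 : A ≤ S'.map H.subtype := by
        intro x hx
        exact ⟨⟨x, hAH hx⟩, hAS' (Subgroup.mem_subgroupOf.mpr hx), rfl⟩
      have h2 : Group.IsSolvable (S'.map H.subtype) := by
        have := hS'
        exact Group.isSolvable_of_isSolvable_injective
          (f := (S'.equivMapOfInjective H.subtype H.subtype_injective).symm.toMonoidHom)
          (S'.equivMapOfInjective H.subtype H.subtype_injective).symm.injective
      have h3 := hc (S'.map H.subtype) h1 h2 (a : G) (Subgroup.mem_subgroupOf.mp ha) (s : G)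
        ⟨s, hs, rfl⟩
      exact Subtype.ext h3)
    intro a ha h hh
    have h1 : (⟨a, hAH ha⟩ : H) ∈ Subgroup.center H := key (Subgroup.mem_subgroupOf.mpr ha)
    have h2 := (Subgroup.mem_center_iff.mp h1) ⟨h, hh⟩
    exact (congrArg Subtype.val h2).symm
  set M : Subgroup G := Subgroup.centralizer (A : Set G) with hMdef
  have hAM : A ≤ M := by
    intro a ha
    rw [hMdef, Subgroup.mem_centralizer_iff]
    intro b hb
    exact hAab b hb a ha
  have hHM : ∀ H : Subgroup G, H ≠ ⊤ → A ≤ H → H ≤ M := by
    intro H hH hAH h hh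
    rw [hMdef, Subgroup.mem_centralizer_iff]
    intro a ha
    exact hstar H hH hAH a ha h hh
  have hMcomm : ∀ m ∈ M, ∀ a ∈ A, a * m = m * a := by
    intro m hm a ha
    rw [hMdef, Subgroup.mem_centralizer_iff] at hm
    exact hm a ha
  by_cases hM : M = ⊤
  · intro a ha
    rw [Subgroup.mem_center_iff]
    intro g
    have hg : g ∈ M := by rw [hM]; trivial
    exact (hMcomm g hg a ha).symm
  by_cases hN : Subgroup.normalizer (M : Set G) = ⊤
  · -- M is normal
    have hMn : M.Normal := Subgroup.normalizer_eq_top_iff.mp hN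
    set C : Subgroup G := Subgroup.centralizer (M : Set G) with hCdef
    have hCn : C.Normal := Subgroup.normal_centralizer
    have hAC : A ≤ C := by
      intro a ha
      rw [hCdef, Subgroup.mem_centralizer_iff]
      intro m hm
      exact (hMcomm m hm a ha).symm
    have hCM : C ≤ M := Subgroup.centralizer_le hAM
    have hCsol : Group.IsSolvable C := by
      apply Group.isSolvable_of_comm
      intro x y
      have hx : (x : G) ∈ Subgroup.centralizer (M : Set G) := x.2
      rw [Subgroup.mem_centralizer_iff] at hx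
      exact Subtype.ext (hx y.1 (hCM y.2)).symm
    intro a ha
    rw [Subgroup.mem_center_iff]
    intro g
    have hsol : Group.IsSolvable ↥(C ⊔ Subgroup.zpowers g) := by
      apply Cfsg.Agent.Lib.Helper18.isSolvable_sup_of_le_normalizer C (Subgroup.zpowers g)
      · rw [Subgroup.normalizer_eq_top_iff.mpr hCn]
        exact le_top
      · intro x hx y hy
        obtain ⟨i, rfl⟩ := Subgroup.mem_zpowers_iff.mp hx
        obtain ⟨j, rfl⟩ := Subgroup.mem_zpowers_iff.mp hy
        exact zpow_mul_comm g i j
    exact (hc (C ⊔ Subgroup.zpowers g) (hAC.trans le_sup_left) hsol a ha g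
      (Subgroup.mem_sup_right (Subgroup.mem_zpowers g))).symm
  · -- M is self-normalizing
    have hNM : Subgroup.normalizer (M : Set G) ≤ M :=
      hHM _ hN (hAM.trans Subgroup.le_normalizer)
    have hgen : ∀ g : G, g ∉ M → A ⊔ (MulAut.conj g • A) = ⊤ := by
      intro g hg
      by_contra hne
      have h1 : A ⊔ (MulAut.conj g • A) ≤ M := hHM _ hne le_sup_left
      have h2 : MulAut.conj g • A ≤ M := le_sup_right.trans h1
      -- g⁻¹ M g is a proper subgroup containing A
      have h3 : A ≤ (MulAut.conj g)⁻¹ • M := by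
        intro a ha
        rw [Subgroup.mem_pointwise_smul_iff_inv_smul_mem, inv_inv]
        exact h2 (Subgroup.smul_mem_pointwise_smul a (MulAut.conj g) A ha)
      have h4 : (MulAut.conj g)⁻¹ • M ≠ ⊤ := by
        intro htop
        apply hM
        rw [eq_top_iff]
        intro x _
        have hx : (MulAut.conj g)⁻¹ • x ∈ (MulAut.conj g)⁻¹ • M := by
          rw [htop]; trivial
        exact (Subgroup.smul_mem_pointwise_smul_iff).mp hx
      have h5 : (MulAut.conj g)⁻¹ • M ≤ M := hHM _ h4 h3
      have h6 : g⁻¹ ∈ Subgroup.normalizer (M : Set G) := by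
        apply Cfsg.Agent.Lib.Helper34.mem_normalizer_of_forall_conj_mem
        intro x hx
        have hx' : (MulAut.conj g)⁻¹ • x ∈ (MulAut.conj g)⁻¹ • M :=
          Subgroup.smul_mem_pointwise_smul x _ M hx
        have := h5 hx'
        simpa [MulAut.smul_def, MulAut.conj_inv_apply] using this
      exact hg (inv_inv g ▸ M.inv_mem (hNM h6))
    have hcen : ∀ g : G, g ∉ M → ∀ x ∈ M ⊓ (MulAut.conj g • M), x ∈ Subgroup.center G := by
      intro g hg x hx
      obtain ⟨hx1, hx2⟩ := Subgroup.mem_inf.mp hx
      rw [Subgroup.mem_pointwise_smul_iff_inv_smul_mem] at hx2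
      have hx2' : g⁻¹ * x * g ∈ M := by
        simpa [MulAut.smul_def, MulAut.conj_inv_apply] using hx2
      have hA1 : A ≤ Subgroup.centralizer {x} := by
        intro a ha
        rw [Subgroup.mem_centralizer_iff]
        intro y hy
        rw [Set.mem_singleton_iff] at hy
        subst hy
        exact (hMcomm y hx1 a ha).symm
      have hA2 : MulAut.conj g • A ≤ Subgroup.centralizer {x} := by
        intro y hy
        rw [Subgroup.mem_pointwise_smul_iff_inv_smul_mem] at hy
        have hy' : g⁻¹ * y * g ∈ A := by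
          simpa [MulAut.smul_def, MulAut.conj_inv_apply] using hy
        rw [Subgroup.mem_centralizer_iff]
        intro z hz
        rw [Set.mem_singleton_iff] at hz
        subst hz
        have h1 := hMcomm _ hx2' _ hy'
        -- (g⁻¹ y g)(g⁻¹ z g) = (g⁻¹ z g)(g⁻¹ y g)
        have h2 : g * ((g⁻¹ * y * g) * (g⁻¹ * z * g)) * g⁻¹ = y * z := by group
        have h3 : g * ((g⁻¹ * z * g) * (g⁻¹ * y * g)) * g⁻¹ = z * y := by group
        rw [← h2, ← h3, h1]
      have htop : (⊤ : Subgroup G) ≤ Subgroup.centralizer {x} := by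
        rw [← hgen g hg]
        exact sup_le hA1 hA2
      rw [Subgroup.mem_center_iff]
      intro y
      have hy := htop (Subgroup.mem_top y)
      rw [Subgroup.mem_centralizer_iff] at hy
      exact (hy x rfl).symm
    -- pass to the quotient by the centre
    have hZM : Subgroup.center G ≤ M := Subgroup.center_le_centralizer _
    set π := QuotientGroup.mk' (Subgroup.center G) with hπ
    set Mb : Subgroup (G ⧸ Subgroup.center G) := M.map π with hMb
    have hmemM : ∀ g : G, π g ∈ Mb → g ∈ M := by
      intro g hg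
      obtain ⟨m, hm, hmg⟩ := hg
      have h1 : m⁻¹ * g ∈ Subgroup.center G := QuotientGroup.eq.mp hmg
      have h2 : g = m * (m⁻¹ * g) := by group
      rw [h2]
      exact M.mul_mem hm (hZM h1)
    by_cases hMbot : Mb = ⊥
    · intro a ha
      have h1 : π a ∈ Mb := ⟨a, hAM ha, rfl⟩
      rw [hMbot, Subgroup.mem_bot] at h1
      exact (QuotientGroup.eq_one_iff _).mp h1
    have hMtop : Mb ≠ ⊤ := by
      intro htop
      apply hM
      rw [eq_top_iff]
      intro g _
      apply hmemM
      rw [htop]; trivial
    have hfrob : ∀ gb : G ⧸ Subgroup.center G, gb ∉ Mb → Mb ⊓ (MulAut.conj gb • Mb) = ⊥ := by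
      intro gb hgb
      obtain ⟨g, rfl⟩ := QuotientGroup.mk'_surjective (Subgroup.center G) gb
      have hg : g ∉ M := fun h => hgb ⟨g, h, rfl⟩
      rw [eq_bot_iff]
      intro xb hxb
      obtain ⟨hxb1, hxb2⟩ := Subgroup.mem_inf.mp hxb
      obtain ⟨m1, hm1, rfl⟩ := hxb1
      rw [Subgroup.mem_pointwise_smul_iff_inv_smul_mem] at hxb2
      have h1 : π (g⁻¹ * m1 * g) ∈ Mb := by
        have : (MulAut.conj (π g))⁻¹ • π m1 = π (g⁻¹ * m1 * g) := by
          simp [MulAut.smul_def]
        rw [← this]
        exact hxb2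
      have h2 : g⁻¹ * m1 * g ∈ M := hmemM _ h1
      have h3 : m1 ∈ MulAut.conj g • M := by
        rw [Subgroup.mem_pointwise_smul_iff_inv_smul_mem]
        simpa [MulAut.smul_def, MulAut.conj_inv_apply] using h2
      have h4 := hcen g hg m1 (Subgroup.mem_inf.mpr ⟨hm1, h3⟩)
      rw [Subgroup.mem_bot]
      exact (QuotientGroup.eq_one_iff _).mpr h4
    have hF : Cfsg.IsFrobeniusComplement Mb := ⟨hMbot, hMtop, hfrob⟩
    obtain ⟨Nb, hNk, hNn, hcompl⟩ := Cfsg.Agent.S0035.result Mb hF
    have := hNn
    have hNnil : Group.IsNilpotent Nb := Cfsg.Agent.S0042.kernel_nilpotent Mb hF Nb hNk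
    set K : Subgroup G := Nb.comap π with hK
    have hKn : K.Normal := hNn.comap π
    have hKsol : Group.IsSolvable K := isSolvable_comap_center Nb
    have hsol : Group.IsSolvable ↥(K ⊔ A) := by
      apply Cfsg.Agent.Lib.Helper18.isSolvable_sup_of_le_normalizer K A
      · rw [Subgroup.normalizer_eq_top_iff.mpr hKn]
        exact le_top
      · exact hAab
    have hKc := hc (K ⊔ A) le_sup_right hsol
    intro a ha
    rw [Subgroup.mem_center_iff]
    intro g
    obtain ⟨⟨nb, mb⟩, hnm⟩ := hcompl.2 (π g)
    obtain ⟨m, hm, hmb⟩ := mb.2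
    have hnm' : (nb : G ⧸ Subgroup.center G) * π m = π g := by
      rw [hmb]; exact hnm
    have hk : g * m⁻¹ ∈ K := by
      rw [hK, Subgroup.mem_comap]
      have : π (g * m⁻¹) = (nb : G ⧸ Subgroup.center G) := by
        rw [map_mul, map_inv, ← hnm']
        group
      rw [this]
      exact nb.2
    have h1 := hKc a ha (g * m⁻¹) (Subgroup.mem_sup_left hk)
    have h2 := hMcomm m hm a ha
    have h3 : g = (g * m⁻¹) * m := by group
    calc g * a = (g * m⁻¹) * (m * a) := by group
      _ = (g * m⁻¹) * (a * m) := by rw [h2]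
      _ = ((g * m⁻¹) * a) * m := by group
      _ = (a * (g * m⁻¹)) * m := by rw [h1]
      _ = a * g := by group

/-- Let A be a solvable subgroup of a finite group G such that A lies in the centre of every solvable subgroup of G containing A. Then A lies in the centre of G. -/
theorem result {G : Type*} [Group G] [Finite G]
    (A : Subgroup G) (hA : Group.IsSolvable A)
    (hc : ∀ S : Subgroup G, A ≤ S → Group.IsSolvable S → ∀ a ∈ A, ∀ s ∈ S, a * s = s * a) : A ≤ Subgroup.center G :=
  aux (Nat.card G) G rfl A hA hc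

end Cfsg.Agent.S4097
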