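import Mathlib
import Cfsg.Statements.S4113

set_option autoImplicit false
open Cfsg

namespace Cfsg.Agent.S4113

/-- Let G be a finite group, M ≤ N non-trivial proper normal subgroups, and H a subgroup with HM = G and H ∩ M = 1. Then every element of G outside N acts fixed-point-freely on M (C_G(x) ≤ N for every x ∈ M, x ≠ 1) if and only if H ∩ gHg⁻¹ ≤ H ∩ N for every g outside H, with H proper and non-trivial and H ∩ N proper in H. -/
theorem result {G : Type*} [Group G] [Finite G] (N M : Subgroup G) [N.Normal] [M.Normal] (hMN : M ≤ N) (hM1 : M ≠ ⊥) (hN2 : N ≠ ⊤)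
    (H : Subgroup G) (hHM : H ⊔ M = ⊤) (hHM' : H ⊓ M = ⊥) :
    (∀ x ∈ M, x ≠ 1 → Subgroup.centralizer ({x} : Set G) ≤ N) ↔
      (H ≠ ⊥ ∧ H ≠ ⊤ ∧ H ⊓ N < H ∧ ∀ g : G, g ∉ H → H ⊓ H.map (MulAut.conj g).toMonoidHom ≤ N) := by
  have hdec : ∀ g : G, ∃ m ∈ M, ∃ h ∈ H, m * h = g := by
    intro g
    have hg : g ∈ M ⊔ H := by rw [sup_comm, hHM]; exact Subgroup.mem_top g
    exact Subgroup.mem_sup_of_normal_left.mp hg
  have hHMone : ∀ y : G, y ∈ H → y ∈ M → y = 1 := by
    intro y hyH hyM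
    have : y ∈ H ⊓ M := ⟨hyH, hyM⟩
    rw [hHM'] at this
    exact Subgroup.mem_bot.mp this
  constructor
  · intro hfp
    refine ⟨?_, ?_, ?_, ?_⟩
    · rintro rfl
      rw [bot_sup_eq] at hHM
      exact hN2 (top_le_iff.mp (hHM ▸ hMN))
    · rintro rfl
      rw [top_inf_eq] at hHM'
      exact hM1 hHM'
    · refine lt_of_le_of_ne inf_le_left ?_
      intro heq
      have hHN : H ≤ N := inf_eq_left.mp heq
      exact hN2 (top_le_iff.mp (hHM ▸ sup_le hHN hMN))
    · intro g hg y hy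
      obtain ⟨hyH, hyc⟩ := hy
      obtain ⟨h', hh', hy'⟩ := hyc
      obtain ⟨m, hm, h₀, hh₀, rfl⟩ := hdec g
      have hm1 : m ≠ 1 := by
        rintro rfl
        apply hg
        simpa using hh₀
      set h'' := h₀ * h' * h₀⁻¹ with hh''def
      have hh'' : h'' ∈ H := H.mul_mem (H.mul_mem hh₀ hh') (H.inv_mem hh₀)
      have hy2 : y = m * h'' * m⁻¹ := by
        rw [← hy']
        simp [hh''def, MulAut.conj_apply, mul_assoc]
      have h1 : y * h''⁻¹ ∈ H := H.mul_mem hyH (H.inv_mem hh'')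
      have h2 : y * h''⁻¹ ∈ M := by
        have : y * h''⁻¹ = m * (h'' * m⁻¹ * h''⁻¹) := by
          rw [hy2]; group
        rw [this]
        exact M.mul_mem hm (‹M.Normal›.conj_mem _ (M.inv_mem hm) _)
      have h3 : y = h'' := by
        have := hHMone _ h1 h2
        exact mul_inv_eq_one.mp this
      have h4 : h'' ∈ Subgroup.centralizer ({m} : Set G) := by
        rw [Subgroup.mem_centralizer_singleton_iff]
        have : h'' = m * h'' * m⁻¹ := by rw [← hy2, h3]
        calc h'' * m = (m * h'' * m⁻¹) * m := by rw [← this]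
          _ = m * h'' := by group
      rw [h3]
      exact hfp m hm hm1 h4
  · rintro ⟨hb, ht, hlt, hTI⟩
    -- Step A
    have stepA : ∀ h ∈ H, ∀ x' ∈ M, x' ≠ 1 → h * x' = x' * h → h ∈ N := by
      intro h hh x' hx' hx'1 hcomm
      have hx'H : x' ∉ H := fun hx'H => hx'1 (hHMone x' hx'H hx')
      apply hTI x' hx'H
      refine ⟨hh, ?_⟩
      refine ⟨h, hh, ?_⟩
      simp only [MulEquiv.coe_toMonoidHom, MulAut.conj_apply]
      rw [← hcomm]; group
    intro x hx hx1 g hg
    rw [Subgroup.mem_centralizer_singleton_iff] at hg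
    obtain ⟨m, hm, h, hh, rfl⟩ := hdec g
    by_contra hgN
    have hhN : h ∉ N := fun hhN => hgN (N.mul_mem (hMN hm) hhN)
    have hfix : ∀ x' ∈ M, h * x' = x' * h → x' = 1 := by
      intro x' hx' hc
      by_contra hx'1
      exact hhN (stepA h hh x' hx' hx'1 hc)
    -- the map n ↦ n * h * n⁻¹ * h⁻¹ on M
    let φ : M → M := fun n => ⟨(n : G) * h * (n : G)⁻¹ * h⁻¹, by
      have : (n : G) * h * (n : G)⁻¹ * h⁻¹ = (n : G) * (h * (n : G)⁻¹ * h⁻¹) := by group
      rw [this]
      exact M.mul_mem n.2 (‹M.Normal›.conj_mem _ (M.inv_mem n.2) _)⟩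
    have hinj : Function.Injective φ := by
      intro n₁ n₂ h12
      have h12' : (n₁ : G) * h * (n₁ : G)⁻¹ * h⁻¹ = (n₂ : G) * h * (n₂ : G)⁻¹ * h⁻¹ :=
        congrArg Subtype.val h12
      have h5 : h * ((n₂ : G)⁻¹ * n₁) = ((n₂ : G)⁻¹ * n₁) * h := by
        have h6 : (n₁ : G) * h * (n₁ : G)⁻¹ = (n₂ : G) * h * (n₂ : G)⁻¹ := by
          simpa using h12'
        calc h * ((n₂ : G)⁻¹ * n₁) = (n₂ : G)⁻¹ * ((n₂ : G) * h * (n₂ : G)⁻¹) * n₁ := by group
          _ = (n₂ : G)⁻¹ * ((n₁ : G) * h * (n₁ : G)⁻¹) * n₁ := by rw [h6]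
          _ = ((n₂ : G)⁻¹ * n₁) * h := by group
      have h7 := hfix _ (M.mul_mem (M.inv_mem n₂.2) n₁.2) h5
      apply Subtype.ext
      have : (n₁ : G) = n₂ := by
        have := inv_mul_eq_one.mp h7
        exact this.symm
      exact this
    have hsurj : Function.Surjective φ := Finite.injective_iff_surjective.mp hinj
    obtain ⟨n, hn⟩ := hsurj ⟨m, hm⟩
    have hn' : (n : G) * h * (n : G)⁻¹ * h⁻¹ = m := congrArg Subtype.val hn
    have hmh : m * h = (n : G) * h * (n : G)⁻¹ := by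
      rw [← hn']; group
    rw [hmh] at hg
    set x' := (n : G)⁻¹ * x * n with hx'def
    have hx'M : x' ∈ M := by
      have := ‹M.Normal›.conj_mem x hx (n : G)⁻¹
      simpa [hx'def] using this
    have hx'1 : x' ≠ 1 := by
      intro h8
      apply hx1
      have : x = (n : G) * x' * (n : G)⁻¹ := by rw [hx'def]; group
      rw [this, h8]; group
    have hc : h * x' = x' * h := by
      calc h * x' = (n : G)⁻¹ * ((n : G) * h * (n : G)⁻¹ * x) * n := by rw [hx'def]; group
        _ = (n : G)⁻¹ * (x * ((n : G) * h * (n : G)⁻¹)) * n := by rw [hg]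
        _ = x' * h := by rw [hx'def]; group
    exact hhN (stepA h hh x' hx'M hx'1 hc)

end Cfsg.Agent.S4113
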