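import Cfsg.Statements.S4130
import Mathlib
import Cfsg.Agent.Lib.Helper32.SqfDer
import Cfsg.Agent.Lib.Helper32.SqfSolv

set_option autoImplicit false
open Cfsg

namespace Cfsg.Agent.S4130

open scoped commutatorElement in
open Cfsg.Agent.Lib.Helper32.Sqf in
/-- Commutators of elements of the Fitting subgroup are central (squarefree class sizes). -/
theorem fit_comm_mem_center {G : Type*} [Group G] [Finite G] (hG : SF G) :
    ∀ x ∈ Cfsg.fittingSubgroup G, ∀ y ∈ Cfsg.fittingSubgroup G,
      ⁅x, y⁆ ∈ Subgroup.center G := by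
  have h1 : ∀ q : ℕ, q.Prime → ∀ a ∈ Cfsg.pCore q G, ∀ y ∈ Cfsg.fittingSubgroup G,
      ⁅a, y⁆ ∈ Subgroup.center G := by
    intro q hq a ha
    haveI : Fact q.Prime := ⟨hq⟩
    have hle : Cfsg.fittingSubgroup G ≤ actTriv ({a} : Set G) (Subgroup.center G) := by
      apply Cfsg.Agent.Lib.Helper1.fitting_le_of_pCore_le
      intro r hr b hb
      haveI : Fact r.Prime := ⟨hr⟩
      rw [mem_actTriv]
      intro a' ha'
      rw [Set.mem_singleton_iff] at ha'
      subst ha'
      by_cases hqr : q = r
      · subst hqr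
        obtain P : Sylow q G := default
        have hQP := Cfsg.Agent.Lib.Helper55.pCore_le_sylow (G := G) P
        exact sf_comm_mem_center hG P a' b (hQP ha) (hQP hb)
      · rw [commutatorElement_eq_one_iff_mul_comm.2 (pCore_commute_of_ne hqr a' b ha hb)]
        exact Subgroup.one_mem _
    intro y hy
    exact hle hy a rfl
  intro x hx y hy
  have hle : Cfsg.fittingSubgroup G ≤ actTriv ({x} : Set G) (Subgroup.center G) := by
    apply Cfsg.Agent.Lib.Helper1.fitting_le_of_pCore_le
    intro r hr b hb
    rw [mem_actTriv]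
    intro x' hx'
    rw [Set.mem_singleton_iff] at hx'
    subst hx'
    rw [← commutatorElement_inv]
    exact Subgroup.inv_mem _ (h1 r hr b hb x' hx)
  exact hle hy x rfl

/-- Let G be a finite group all of whose conjugacy class sizes are square-free. Then G is supersolvable, G/F(G) and the derived subgroup G′ are cyclic of square-free order (F(G) the Fitting subgroup, which is normal), F(G) has nilpotency class at most 2, and G is metabelian. -/
theorem result {G : Type*} [Group G] [Finite G]
    (h : ∀ x : G, Squarefree (Subgroup.centralizer ({x} : Set G)).index) :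
    Cfsg.IsSupersolvable G ∧ (Cfsg.fittingSubgroup G).Normal ∧
    (∀ _h : (Cfsg.fittingSubgroup G).Normal, IsCyclic (G ⧸ Cfsg.fittingSubgroup G) ∧ Squarefree (Cfsg.fittingSubgroup G).index) ∧
    IsCyclic (commutator G) ∧ Squarefree (Nat.card (commutator G)) ∧
    Subgroup.upperCentralSeries ↥(Cfsg.fittingSubgroup G) 2 = ⊤ ∧ commutator ↥(commutator G) = ⊥ := by
  have hG : Cfsg.Agent.Lib.Helper32.Sqf.SF G := h
  have hsolv := Cfsg.Agent.Lib.Helper32.Sqf.sf_solvable hG
  have hcyc := Cfsg.Agent.Lib.Helper32.Sqf.sf_commutator_cyclic hG hsolv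
  refine ⟨Cfsg.Agent.Lib.Helper32.Sqf.sf_supersolvable hG hsolv, inferInstance,
    fun _ => ⟨Cfsg.Agent.Lib.Helper32.Sqf.sf_quotient_fitting_cyclic hG hsolv,
      Cfsg.Agent.Lib.Helper32.Sqf.sf_index_fitting_squarefree hG hsolv⟩,
    hcyc, Cfsg.Agent.Lib.Helper32.Sqf.sf_card_commutator_squarefree hG hsolv, ?_, ?_⟩
  · rw [eq_top_iff]
    intro x _
    rw [show (2 : ℕ) = 1 + 1 from rfl, Subgroup.mem_upperCentralSeries_succ_iff]
    intro y
    rw [Subgroup.upperCentralSeries_one, Subgroup.mem_center_iff]
    intro z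
    have hc := fit_comm_mem_center hG x x.2 y y.2
    rw [Subgroup.mem_center_iff] at hc
    apply Subtype.ext
    have := hc (z : G)
    simpa [commutatorElement_def] using this
  · rw [commutator_eq_bot_iff_center_eq_top, eq_top_iff]
    intro a _
    rw [Subgroup.mem_center_iff]
    intro b
    letI := hcyc.commGroup
    exact mul_comm b a

end Cfsg.Agent.S4130
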