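import Cfsg.Statements.S4143
import Mathlib
import Cfsg.Agent.Lib.Helper73.Suzuki
import Cfsg.Agent.Lib.Helper73.Suzuki2
import Cfsg.Agent.S0112

set_option autoImplicit false
open Cfsg

namespace Cfsg.Agent.S4143

open Cfsg.Agent.Lib.Helper73 in
/-- A p-group with a nonabelian subgroup B of order p³ satisfying C(B) ≤ B has maximal class. -/
theorem result {X : Type*} [Group X] [Finite X] {p : ℕ} [Fact p.Prime] (n : ℕ) (hX : Nat.card X = p ^ n)
    (B : Subgroup X) (hB : Nat.card B = p ^ 3) (hBna : ¬ IsMulCommutative B) (hC : Subgroup.centralizer (B : Set X) ≤ B) :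
    Group.nilpotencyClass X = n - 1 := by
  have hp : p.Prime := Fact.out
  have hP : IsPGroup p X := IsPGroup.of_card hX
  have hnil : Group.IsNilpotent X := hP.isNilpotent
  have hn3 : 3 ≤ n := by
    have h1 : Nat.card B ∣ Nat.card X := Subgroup.card_subgroup_dvd_card _
    rw [hB, hX] at h1
    exact (Nat.pow_dvd_pow_iff_le_right hp.one_lt).mp h1
  have hnt : Nontrivial X := by
    rw [← Finite.one_lt_card_iff_nontrivial, hX]
    exact Nat.one_lt_pow (by omega) hp.one_lt
  obtain ⟨u, hu, v, hv, huv⟩ : ∃ u ∈ B, ∃ v ∈ B, u * v ≠ v * u := by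
    by_contra hcon
    push Not at hcon
    exact hBna ⟨⟨fun a b => Subtype.ext (hcon a a.2 b b.2)⟩⟩
  have hkey : ∀ D : Subgroup X, D ≤ B → u ∈ D → v ∈ D → D = B := fun D hDB huD hvD =>
    eq_of_le_of_noncomm_of_card_cube hB hDB huD hvD huv
  obtain ⟨C, hCdef⟩ : ∃ C : Subgroup X, C = Subgroup.centralizer (B : Set X) := ⟨_, rfl⟩
  rw [← hCdef] at hC
  have hZC : Subgroup.center X ≤ C := by rw [hCdef]; exact Subgroup.center_le_centralizer _
  have hZp := prime_le_card_center hP
  have hZle : Nat.card (Subgroup.center X) ≤ Nat.card C := Subgroup.card_le_of_le hZC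
  have hCne : C ≠ B := by
    intro h
    apply huv
    have hv' : v ∈ Subgroup.centralizer (B : Set X) := by rw [← hCdef, h]; exact hv
    exact Subgroup.mem_centralizer_iff.mp hv' u hu
  have hCcard : Nat.card C = p := by
    have hd : Nat.card C ∣ p ^ 3 := by rw [← hB]; exact Subgroup.card_dvd_of_le hC
    obtain ⟨k, hk3, hk⟩ := (Nat.dvd_prime_pow hp).mp hd
    have hk0 : k ≠ 0 := by
      rintro rfl
      rw [pow_zero] at hk
      have := hp.one_lt
      omega
    have hk3' : k ≠ 3 := by
      rintro rfl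
      exact hCne (Subgroup.eq_of_le_of_card_ge hC (by rw [hk, hB]))
    have hk2 : k ≠ 2 := by
      rintro rfl
      obtain ⟨w, hwB, hwC⟩ := SetLike.exists_of_lt (lt_of_le_of_ne hC hCne)
      have hCD : C ≤ B ⊓ Subgroup.centralizer ({w} : Set X) := by
        intro x hx
        rw [Subgroup.mem_inf, Subgroup.mem_centralizer_singleton_iff]
        refine ⟨hC hx, ?_⟩
        rw [hCdef] at hx
        exact (Subgroup.mem_centralizer_iff.mp hx w hwB).symm
      have hwD : w ∈ B ⊓ Subgroup.centralizer ({w} : Set X) := by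
        rw [Subgroup.mem_inf, Subgroup.mem_centralizer_singleton_iff]
        exact ⟨hwB, rfl⟩
      have hlt : Nat.card C < Nat.card ↥(B ⊓ Subgroup.centralizer ({w} : Set X)) := by
        by_contra hle
        push Not at hle
        have := Subgroup.eq_of_le_of_card_ge hCD hle
        exact hwC (this ▸ hwD)
      have hd2 : Nat.card ↥(B ⊓ Subgroup.centralizer ({w} : Set X)) ∣ p ^ 3 := by
        rw [← hB]; exact Subgroup.card_dvd_of_le inf_le_left
      obtain ⟨e, he3, he⟩ := (Nat.dvd_prime_pow hp).mp hd2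
      rw [hk, he] at hlt
      have he2 : 2 < e := (Nat.pow_lt_pow_iff_right hp.one_lt).mp hlt
      have he3' : e = 3 := by omega
      have hDB : B ⊓ Subgroup.centralizer ({w} : Set X) = B :=
        Subgroup.eq_of_le_of_card_ge inf_le_left (by rw [he, he3', hB])
      apply hwC
      rw [hCdef, Subgroup.mem_centralizer_iff]
      intro h hh
      have : h ∈ B ⊓ Subgroup.centralizer ({w} : Set X) := by rw [hDB]; exact hh
      rw [Subgroup.mem_inf, Subgroup.mem_centralizer_singleton_iff] at this
      exact this.2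
    have : k = 1 := by omega
    rw [hk, this, pow_one]
  have hZeq : Subgroup.center X = C :=
    Subgroup.eq_of_le_of_card_ge hZC (by rw [hCcard]; exact hZp)
  have hZcard : Nat.card (Subgroup.center X) = p := by rw [hZeq, hCcard]
  have hZB : Subgroup.center X ≤ B := hZeq ▸ hC
  -- the quotient
  obtain ⟨m, rfl⟩ : ∃ m, n = m + 1 := ⟨n - 1, by omega⟩
  have hQcard : Nat.card (X ⧸ Subgroup.center X) = p ^ m := by
    have h1 := Subgroup.card_eq_card_quotient_mul_card_subgroup (Subgroup.center X)
    rw [hX, hZcard, pow_succ] at h1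
    exact (Nat.eq_of_mul_eq_mul_right hp.pos h1).symm
  obtain ⟨π, hπdef⟩ : ∃ π : X →* X ⧸ Subgroup.center X, π = QuotientGroup.mk' (Subgroup.center X) :=
    ⟨_, rfl⟩
  have hπs : Function.Surjective π := by rw [hπdef]; exact QuotientGroup.mk'_surjective _
  have hπ : ∀ x : X, π x = 1 ↔ x ∈ Subgroup.center X := by
    intro x; rw [hπdef]; exact QuotientGroup.eq_one_iff x
  have hcomap : ∀ Bq : Subgroup (X ⧸ Subgroup.center X),
      Nat.card (Bq.comap π) = p * Nat.card Bq := by
    intro Bq
    rw [hπdef, card_comap_quotient_mk, hZcard]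
  have hBcomap : (B.map π).comap π = B := by
    rw [Subgroup.comap_map_eq, hπdef, QuotientGroup.ker_mk', sup_eq_left]
    exact hZB
  have hBqcard : Nat.card (B.map π) = p ^ 2 := by
    have h1 := hcomap (B.map π)
    rw [hBcomap, hB] at h1
    have h2 : p ^ 3 = p * p ^ 2 := by ring
    rw [h2] at h1
    exact (Nat.eq_of_mul_eq_mul_left hp.pos h1).symm
  have hBqM : B.map π ≤ Subgroup.centralizer ((B.map π : Subgroup (X ⧸ Subgroup.center X)) : Set (X ⧸ Subgroup.center X)) :=
    Subgroup.le_centralizer_iff_isMulCommutative.mpr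
      (IsPGroup.isMulCommutative_of_card_eq_prime_sq (p := p) hBqcard)
  obtain ⟨M, hMdef⟩ : ∃ M : Subgroup X, M = (Subgroup.centralizer
      ((B.map π : Subgroup (X ⧸ Subgroup.center X)) : Set (X ⧸ Subgroup.center X))).comap π := ⟨_, rfl⟩
  have hBM : B ≤ M := by
    rw [hMdef]
    calc B = (B.map π).comap π := hBcomap.symm
      _ ≤ _ := Subgroup.comap_mono hBqM
  have hMcomm : ∀ x ∈ M, ∀ b ∈ B, x * b * x⁻¹ * b⁻¹ ∈ Subgroup.center X := by
    intro x hx b hb
    rw [hMdef, Subgroup.mem_comap, Subgroup.mem_centralizer_iff] at hx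
    have h1 := hx (π b) (Subgroup.mem_map_of_mem π hb)
    rw [← hπ, map_mul, map_mul, map_mul, map_inv, map_inv, ← h1]
    group
  have h1 := card_le_inf_centralizer_mul_center u M (fun x hx => hMcomm x hx u hu)
  have h2 := card_le_inf_centralizer_mul_center v (M ⊓ Subgroup.centralizer ({u} : Set X))
    (fun x hx => hMcomm x hx.1 v hv)
  rw [hZcard] at h1 h2
  have h3 : M ⊓ Subgroup.centralizer ({u} : Set X) ⊓ Subgroup.centralizer ({v} : Set X) ≤ C := by
    intro x hx
    rw [Subgroup.mem_inf, Subgroup.mem_inf, Subgroup.mem_centralizer_singleton_iff,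
      Subgroup.mem_centralizer_singleton_iff] at hx
    obtain ⟨⟨_, hxu⟩, hxv⟩ := hx
    have hD : B ⊓ Subgroup.centralizer ({x} : Set X) = B := by
      apply hkey _ inf_le_left
      · rw [Subgroup.mem_inf, Subgroup.mem_centralizer_singleton_iff]
        exact ⟨hu, hxu.symm⟩
      · rw [Subgroup.mem_inf, Subgroup.mem_centralizer_singleton_iff]
        exact ⟨hv, hxv.symm⟩
    rw [hCdef, Subgroup.mem_centralizer_iff]
    intro h hh
    have : h ∈ B ⊓ Subgroup.centralizer ({x} : Set X) := by rw [hD]; exact hh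
    rw [Subgroup.mem_inf, Subgroup.mem_centralizer_singleton_iff] at this
    exact this.2
  have h4 := Subgroup.card_le_of_le h3
  rw [hCcard] at h4
  have hMB : B = M := by
    apply Subgroup.eq_of_le_of_card_ge hBM
    rw [hB]
    calc Nat.card M ≤ Nat.card ↥(M ⊓ Subgroup.centralizer ({u} : Set X)) * p := h1
      _ ≤ (Nat.card ↥(M ⊓ Subgroup.centralizer ({u} : Set X) ⊓ Subgroup.centralizer ({v} : Set X)) * p) * p :=
          Nat.mul_le_mul_right p h2
      _ ≤ (p * p) * p := Nat.mul_le_mul_right p (Nat.mul_le_mul_right p h4)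
      _ = p ^ 3 := by ring
  have hcent : Subgroup.centralizer ((B.map π : Subgroup (X ⧸ Subgroup.center X)) : Set (X ⧸ Subgroup.center X)) = B.map π := by
    have h5 : (Subgroup.centralizer ((B.map π : Subgroup (X ⧸ Subgroup.center X)) : Set (X ⧸ Subgroup.center X))).comap π = B := by
      rw [← hMdef]; exact hMB.symm
    calc Subgroup.centralizer ((B.map π : Subgroup (X ⧸ Subgroup.center X)) : Set (X ⧸ Subgroup.center X))
        = ((Subgroup.centralizer ((B.map π : Subgroup (X ⧸ Subgroup.center X)) : Set (X ⧸ Subgroup.center X))).comap π).map π :=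
          (Subgroup.map_comap_eq_self_of_surjective hπs _).symm
      _ = B.map π := by rw [h5]
  have hcls := Cfsg.Agent.S0112.result (p := p) m hQcard (B.map π) hBqcard hcent
  rw [Group.nilpotencyClass_eq_quotient_center_plus_one, hcls]
  omega

end Cfsg.Agent.S4143
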