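import Mathlib
import Cfsg.Statements.S4144
import Cfsg.Agent.Lib.Helper63.BB.Defs
import Cfsg.Agent.Lib.Helper63.BB.BL
import Cfsg.Agent.Lib.Helper63.BB.Final
import Cfsg.Agent.Lib.Helper63.BB.ClassK
import Cfsg.Agent.Lib.Helper63.BB.StepB
import Cfsg.Agent.Lib.Helper1.BB.Two
import Cfsg.Agent.Lib.Helper1.BB.UnifChain
import Cfsg.Agent.Lib.Helper1.BB.UnifEx
import Cfsg.Agent.Lib.Helper23.BB.PowStr
import Cfsg.Agent.Lib.Helper27.BB.KBasic
import Cfsg.Agent.Lib.Helper27.BB.KInj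
import Cfsg.Agent.Lib.Helper27.BB.UnifCent
import Cfsg.Agent.Lib.Helper48.BB.ExpP
import Cfsg.Agent.Lib.Helper48.BB.Top
import Cfsg.Agent.Lib.Helper48.BB.Engel
import Cfsg.Agent.Lib.Helper61.BB.A
import Cfsg.Agent.Lib.Helper77.BB.APow
import Cfsg.Agent.Lib.Helper80.BB.MultLin
import Cfsg.Agent.Lib.Helper80.BB.Scale
import Cfsg.Agent.Lib.Helper83.BB.EngelBase
import Cfsg.Agent.Lib.Helper84.BB.JumpCount
import Cfsg.Agent.Lib.Helper84.BB.Sub
import Cfsg.Agent.Lib.Helper84.BB.TopIdx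
import Cfsg.Agent.Lib.Helper87.BB.NCLcs
import Cfsg.Agent.Lib.Helper87.BB.QuotK
import Cfsg.Agent.Lib.Helper87.BB.RegCount

/-! S4144 via the team project "BB" (coordinated by helper63; packages by helpers
1, 23, 27, 48, 56, 61, 77, 80, 83, 84, 85, 87). -/

set_option autoImplicit false
open Cfsg

namespace Cfsg.Agent.S4144

/-- Let X be a finite p-group of order p^n, n ≥ 2, of nilpotency class n − 1 (maximal class), and H any subgroup of X. Then the index in H of the subgroup generated by the p-th powers of elements of H is at most p^p. -/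
theorem result {X : Type*} [Group X] [Finite X] {p : ℕ} [Fact p.Prime] (n : ℕ) (hn : 2 ≤ n) (hX : Nat.card X = p ^ n)
    (hmax : Group.nilpotencyClass X = n - 1) (H : Subgroup X) :
    (Subgroup.closure {y : X | ∃ h ∈ H, y = h ^ p}).relIndex H ≤ p ^ p := by
  have hKB := Cfsg.Agent.Lib.Helper27.BB.pkgKBasic
  have hKI := Cfsg.Agent.Lib.Helper27.BB.pkgKInj
  have hUC := Cfsg.Agent.Lib.Helper27.BB.pkgUnifCent_of hKB hKI
  have hPS := Cfsg.Agent.Lib.Helper23.BB.pkgPowStr_of hUC hKB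
  have hUEx := Cfsg.Agent.Lib.Helper1.BB.pkgUnifEx_of hKB
  have hUCH := Cfsg.Agent.Lib.Helper1.BB.pkgUnifChain_of hKB hKI
  have hTwo := Cfsg.Agent.Lib.Helper1.BB.pkgTwo
  have hCLK := Cfsg.Agent.Lib.Helper63.BB.pkgClassK_of hKB
  have hRC := Cfsg.Agent.Lib.Helper87.BB.pkgRegCount
  have hQK := Cfsg.Agent.Lib.Helper87.BB.pkgQuotK
  have hAP := Cfsg.Agent.Lib.Helper77.BB.pkgAPow_of hKB hCLK hRC
  have hA := Cfsg.Agent.Lib.Helper61.BB.pkgA_of hKB hAP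
  have hB := Cfsg.Agent.Lib.Helper63.BB.pkgStepB_of hKB
  have hBL := Cfsg.Agent.Lib.Helper63.BB.pkgBL_of hA hB hQK hUEx hPS
  have hJC := Cfsg.Agent.Lib.Helper84.BB.pkgJumpCount
  have hSub := Cfsg.Agent.Lib.Helper84.BB.pkgSub_of hJC
  have hTopIdx := Cfsg.Agent.Lib.Helper84.BB.pkgTopIdx
  have hTop := Cfsg.Agent.Lib.Helper48.BB.pkgTop_of hA hUEx hPS
  have hE := Cfsg.Agent.Lib.Helper48.BB.pkgEngel_of Cfsg.Agent.Lib.Helper80.BB.pkgMultLin
    Cfsg.Agent.Lib.Helper80.BB.pkgScale Cfsg.Agent.Lib.Helper83.BB.pkgEngelBase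
    Cfsg.Agent.Lib.Helper87.BB.pkgNCLcs
  have hExpP := Cfsg.Agent.Lib.Helper48.BB.pkgExpP_of hE hUEx hUCH
  exact Cfsg.Agent.Lib.Helper63.BB.s4144_of hTwo hExpP hTopIdx hTop hBL hUEx hPS hSub n hn hX hmax H

end Cfsg.Agent.S4144
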