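import Cfsg.Statements.S4150
import Cfsg.Agent.Lib.Helper69.APQ.Main
import Cfsg.Agent.Lib.Helper69.APQ.Glue
import Cfsg.Agent.Lib.Helper69.APQ.NTAsm
import Cfsg.Agent.Lib.Helper45.APQ.CT
import Cfsg.Agent.Lib.Helper55.APQ.NTBinom
import Cfsg.Agent.Lib.Helper6.APQ.NTIneq
import Cfsg.Agent.Lib.Helper97.APQ.Prim
import Cfsg.Agent.Lib.Helper97.APQ.T13K3
import Cfsg.Agent.Lib.Helper97.APQ.NSolv
import Cfsg.Agent.Lib.Helper62.APQ.CaseA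
import Cfsg.Agent.Lib.Helper62.APQ.CaseB
import Cfsg.Agent.Lib.Helper62.APQ.Case3
import Cfsg.Agent.Lib.Helper83.APQ.Restr
import Cfsg.Agent.Lib.Helper83.APQ.T3
import Cfsg.Agent.Lib.Helper75.APQ.T13K1
import Cfsg.Agent.Lib.Helper75.APQ.T13F
import Cfsg.Agent.Lib.Helper93.APQ.T13S
import Cfsg.Agent.Lib.Helper59.APQ.T13K2
import Cfsg.Agent.Lib.Helper71.APQ.M6A
import Cfsg.Agent.Lib.Helper54.APQ.M6B
import Cfsg.Agent.Lib.Helper24.APQ.M6C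

set_option autoImplicit false
open Cfsg

namespace Cfsg.Agent.S4150

/-- Let m ≥ 5. Then there are primes p < q with m/2 ≤ p and q ≤ m such that any two elements x, y of the alternating group of degree m with x of order p and y of order q generate a subgroup isomorphic to an alternating group of some degree d ≥ 5. -/
theorem result (m : ℕ) (hm : 5 ≤ m) :
    ∃ p q : ℕ, p.Prime ∧ q.Prime ∧ m ≤ 2 * p ∧ p < q ∧ q ≤ m ∧
      ∀ x y : alternatingGroup (Fin m), orderOf x = p → orderOf y = q →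
        ∃ d : ℕ, 5 ≤ d ∧ Nonempty (Subgroup.closure ({x, y} : Set (alternatingGroup (Fin m))) ≃* alternatingGroup (Fin d)) := by
  exact Cfsg.Agent.Lib.Helper69.APQ.s4150_of
    (Cfsg.Agent.Lib.Helper69.APQ.pkgNT_of Cfsg.Agent.Lib.Helper45.APQ.pkgNTSmall
      Cfsg.Agent.Lib.Helper6.APQ.pkgNTIneq Cfsg.Agent.Lib.Helper55.APQ.pkgNTBinom)
    Cfsg.Agent.Lib.Helper45.APQ.pkgCT
    Cfsg.Agent.Lib.Helper83.APQ.pkgRestr
    Cfsg.Agent.Lib.Helper45.APQ.pkgFin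
    (Cfsg.Agent.Lib.Helper62.APQ.pkgCaseA_of Cfsg.Agent.Lib.Helper97.APQ.pkgPrim)
    (Cfsg.Agent.Lib.Helper62.APQ.pkgCaseB_of Cfsg.Agent.Lib.Helper97.APQ.pkgPrim)
    (Cfsg.Agent.Lib.Helper62.APQ.pkgCase3_of Cfsg.Agent.Lib.Helper97.APQ.pkgPrim)
    (Cfsg.Agent.Lib.Helper69.APQ.pkgCaseT7_of Cfsg.Agent.Lib.Helper97.APQ.pkgPrim
      (Cfsg.Agent.Lib.Helper69.APQ.pkgTwin7_of Cfsg.Agent.Lib.Helper83.APQ.pkgT3
        Cfsg.Agent.Lib.Helper97.APQ.pkgNSolv))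
    (Cfsg.Agent.Lib.Helper69.APQ.pkgCaseT13_of Cfsg.Agent.Lib.Helper97.APQ.pkgPrim
      (Cfsg.Agent.Lib.Helper69.APQ.pkgTwin13_of Cfsg.Agent.Lib.Helper83.APQ.pkgT3
        Cfsg.Agent.Lib.Helper75.APQ.pkgT13K1 Cfsg.Agent.Lib.Helper59.APQ.pkgT13K2
        Cfsg.Agent.Lib.Helper97.APQ.pkgT13K3 Cfsg.Agent.Lib.Helper93.APQ.pkgT13S
        Cfsg.Agent.Lib.Helper75.APQ.pkgT13F))
    (Cfsg.Agent.Lib.Helper69.APQ.pkgM6_of Cfsg.Agent.Lib.Helper71.APQ.pkgM6A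
      Cfsg.Agent.Lib.Helper54.APQ.pkgM6B Cfsg.Agent.Lib.Helper24.APQ.pkgM6C
      Cfsg.Agent.Lib.Helper45.APQ.pkgFin)
    m hm

end Cfsg.Agent.S4150
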