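import Cfsg.Statements.S4155
import Mathlib
import Cfsg.Agent.Lib.Helper73.NilpotentCoprime
import Cfsg.Agent.Lib.Helper73.NilpotentCenter
import Cfsg.Agent.Lib.Helper71.Fitting
import Cfsg.Agent.Lib.Helper91.FpfCyclic
import Cfsg.Agent.S0016
import Cfsg.Agent.S3908

set_option autoImplicit false
open Cfsg

namespace Cfsg.Agent.S4155

open Cfsg.Agent.Lib.Helper73

/-- Fixed-point-free abelian groups of automorphisms of a nontrivial finite abelian group are
cyclic (version with a commutativity hypothesis instead of a `CommGroup` instance). -/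
theorem fpf_isCyclic_of_comm' {A V : Type*} [Group A] [Finite A] [Group V] [Finite V]
    [Nontrivial V] (hV : ∀ x y : V, x * y = y * x) (φ : A →* MulAut V)
    (hfpf : ∀ a : A, a ≠ 1 → ∀ v : V, φ a v = v → v = 1)
    (hcomm : ∀ a b : A, a * b = b * a) : IsCyclic A := by
  letI : CommGroup V := { ‹Group V› with mul_comm := hV }
  exact Cfsg.Agent.Lib.Helper91.fpf_isCyclic_of_comm φ hfpf hcomm

/-- In an equal order pair, an element outside `N` commutes with no nontrivial element of `N` of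
coprime order. -/
theorem eq_one_of_commute_of_coprime {G : Type*} [Group G] [Finite G] (N : Subgroup G)
    (heq : ∀ x : G, x ∉ N → ∀ n ∈ N, orderOf (x * n) = orderOf x)
    {x v : G} (hx : x ∉ N) (hv : v ∈ N) (hc : Commute x v)
    (hcop : (orderOf x).Coprime (orderOf v)) : v = 1 := by
  have h1 := hc.orderOf_mul_eq_mul_orderOf_of_coprime hcop
  rw [heq x hx v hv] at h1
  have hpos : 0 < orderOf x := orderOf_pos x
  have h2 : orderOf v = 1 := by
    have h3 : orderOf x * 1 = orderOf x * orderOf v := by rw [mul_one]; exact h1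
    exact (Nat.eq_of_mul_eq_mul_left hpos h3).symm
  exact orderOf_eq_one_iff.mp h2

/-- If `x ^ a ∈ N` and `x ^ b ∈ N` with `a`, `b` coprime then `x ∈ N`. -/
theorem mem_of_pow_mem_of_coprime {G : Type*} [Group G] (N : Subgroup G) [N.Normal] {x : G}
    {a b : ℕ} (hab : a.Coprime b) (ha : x ^ a ∈ N) (hb : x ^ b ∈ N) : x ∈ N := by
  rw [← QuotientGroup.eq_one_iff] at ha hb ⊢
  rw [QuotientGroup.mk_pow] at ha hb
  have h1 := orderOf_dvd_of_pow_eq_one ha
  have h2 := orderOf_dvd_of_pow_eq_one hb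
  have h3 := Nat.eq_one_of_dvd_coprimes hab h1 h2
  exact orderOf_eq_one_iff.mp h3

/-- In an equal order pair, an element `x ∉ N` with `x ^ q ^ k ∈ N` commutes with no nontrivial
element of `N` of order coprime to `q`. -/
theorem eq_one_of_commute_of_pow_mem {G : Type*} [Group G] [Finite G] (N : Subgroup G) [N.Normal]
    (heq : ∀ x : G, x ∉ N → ∀ n ∈ N, orderOf (x * n) = orderOf x)
    {q : ℕ} (hq : q.Prime) {x v : G} (hx : x ∉ N) {k : ℕ} (hxk : x ^ q ^ k ∈ N) (hv : v ∈ N)
    (hc : Commute x v) (hcop : q.Coprime (orderOf v)) : v = 1 := by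
  obtain ⟨s, m', hm', hm⟩ :=
    Nat.exists_eq_pow_mul_and_not_dvd (orderOf_pos x).ne' q hq.ne_one
  have hx' : x ^ m' ∉ N := by
    intro h
    apply hx
    apply mem_of_pow_mem_of_coprime N _ hxk h
    apply Nat.Coprime.pow_left
    exact (Nat.Prime.coprime_iff_not_dvd hq).mpr hm'
  have hord : orderOf (x ^ m') ∣ q ^ s := by
    apply orderOf_dvd_of_pow_eq_one
    rw [← pow_mul, mul_comm, ← hm, pow_orderOf_eq_one]
  apply eq_one_of_commute_of_coprime N heq hx' hv (hc.pow_left m')
  exact Nat.Coprime.coprime_dvd_left hord (Nat.Coprime.pow_left s hcop)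

/-- Two distinct primes divide a number greater than one that is not a prime power. -/
theorem exists_two_primes {n : ℕ} (hn : 1 < n) (hnpp : ¬ IsPrimePow n) :
    ∃ r₁ r₂ : ℕ, r₁.Prime ∧ r₂.Prime ∧ r₁ ≠ r₂ ∧ r₁ ∣ n ∧ r₂ ∣ n := by
  obtain ⟨r₁, hr₁, hd₁⟩ := Nat.exists_prime_and_dvd (show n ≠ 1 by omega)
  by_contra hcon
  push Not at hcon
  apply hnpp
  rw [isPrimePow_iff_unique_prime_dvd]
  refine ⟨r₁, ⟨hr₁, hd₁⟩, ?_⟩
  rintro r₂ ⟨hr₂, hd₂⟩
  by_contra hne
  exact hcon r₁ r₂ hr₁ hr₂ (fun h => hne h.symm) hd₁ hd₂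

/-- For a prime `q`, a prime `r ≠ q` divides a number greater than one that is not a prime
power. -/
theorem exists_prime_ne {n : ℕ} (hn : 1 < n) (hnpp : ¬ IsPrimePow n) (q : ℕ) :
    ∃ r : ℕ, r.Prime ∧ r ≠ q ∧ r ∣ n := by
  obtain ⟨r₁, r₂, hr₁, hr₂, hne, hd₁, hd₂⟩ := exists_two_primes hn hnpp
  by_cases h : r₁ = q
  · exact ⟨r₂, hr₂, fun h2 => hne (h.trans h2.symm), hd₂⟩
  · exact ⟨r₁, hr₁, h, hd₁⟩

/-- The elements of order dividing `r` in the centre of `N`, as a subgroup of `G`. -/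
def omegaCenter {G : Type*} [Group G] (N : Subgroup G) (r : ℕ) : Subgroup G where
  carrier := {v | v ∈ N ∧ (∀ n ∈ N, n * v = v * n) ∧ v ^ r = 1}
  one_mem' := ⟨N.one_mem, fun n _ => by rw [mul_one, one_mul], one_pow r⟩
  mul_mem' := by
    rintro a b ⟨ha, hac, har⟩ ⟨hb, hbc, hbr⟩
    refine ⟨N.mul_mem ha hb, ?_, ?_⟩
    · intro n hn
      rw [← mul_assoc, hac n hn, mul_assoc, hbc n hn, mul_assoc]
    · have hab : Commute a b := hbc a ha
      rw [hab.mul_pow, har, hbr, one_mul]
  inv_mem' := by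
    rintro a ⟨ha, hac, har⟩
    refine ⟨N.inv_mem ha, ?_, ?_⟩
    · intro n hn
      have h := hac n hn
      calc n * a⁻¹ = a⁻¹ * (a * n) * a⁻¹ := by group
        _ = a⁻¹ * (n * a) * a⁻¹ := by rw [h]
        _ = a⁻¹ * n := by group
    · rw [inv_pow, har, inv_one]

theorem mem_omegaCenter {G : Type*} [Group G] (N : Subgroup G) (r : ℕ) (v : G) :
    v ∈ omegaCenter N r ↔ v ∈ N ∧ (∀ n ∈ N, n * v = v * n) ∧ v ^ r = 1 := Iff.rfl

instance omegaCenter_normal {G : Type*} [Group G] (N : Subgroup G) [hN : N.Normal] (r : ℕ) :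
    (omegaCenter N r).Normal := by
  constructor
  rintro v ⟨hv, hvc, hvr⟩ g
  refine ⟨hN.conj_mem v hv g, ?_, ?_⟩
  · intro n hn
    have h1 : g⁻¹ * n * g ∈ N := by
      have := hN.conj_mem n hn g⁻¹
      simpa using this
    have h2 := hvc _ h1
    calc n * (g * v * g⁻¹) = g * (g⁻¹ * n * g * v) * g⁻¹ := by group
      _ = g * (v * (g⁻¹ * n * g)) * g⁻¹ := by rw [h2]
      _ = g * v * g⁻¹ * n := by group
  · rw [conj_pow, hvr, mul_one, mul_inv_cancel]

open Cfsg.Agent.Lib.Helper71 in
/-- Equal order pairs `(G, N)` with `N` nilpotent of non-prime-power order. -/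
theorem result {G : Type*} [Group G] [Finite G] (N : Subgroup G) [N.Normal] (hN1 : N ≠ ⊥) (hN2 : N ≠ ⊤)
    (heq : ∀ x : G, x ∉ N → ∀ n ∈ N, orderOf (x * n) = orderOf x)
    (hnil : Group.IsNilpotent N) (hnpp : ¬ IsPrimePow (Nat.card N)) :
    N = Cfsg.fittingSubgroup G ∧
    ∀ (q : ℕ) [Fact q.Prime] (Q : Sylow q (G ⧸ N)), IsCyclic (Q : Subgroup (G ⧸ N)) ∨ ∃ n : ℕ, Nonempty ((Q : Subgroup (G ⧸ N)) ≃* QuaternionGroup (2 ^ n)) := by
  have hNnt : Nontrivial ↥N := (Subgroup.nontrivial_iff_ne_bot N).mpr hN1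
  have hNcard : 1 < Nat.card ↥N := Finite.one_lt_card
  constructor
  · apply le_antisymm (le_fittingSubgroup N hnil)
    intro x hxF
    by_contra hxN
    have hFnil : Group.IsNilpotent ↥(Cfsg.fittingSubgroup G) := fittingSubgroup_isNilpotent
    have hNF : N ≤ Cfsg.fittingSubgroup G := le_fittingSubgroup N hnil
    obtain ⟨r₁, r₂, hr₁, hr₂, hne, hd₁, hd₂⟩ := exists_two_primes hNcard hnpp
    haveI : Fact r₁.Prime := ⟨hr₁⟩
    haveI : Fact r₂.Prime := ⟨hr₂⟩
    obtain ⟨v₁, hv₁⟩ := exists_prime_orderOf_dvd_card' r₁ hd₁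
    obtain ⟨v₂, hv₂⟩ := exists_prime_orderOf_dvd_card' r₂ hd₂
    -- a general contradiction: an element of `F(G)` outside `N` of order coprime to that of a
    -- nontrivial element of `N`
    have key : ∀ y : G, y ∈ Cfsg.fittingSubgroup G → y ∉ N → ∀ v : ↥N, v ≠ 1 →
        (orderOf y).Coprime (orderOf v) → False := by
      intro y hyF hyN v hv1 hcop
      have hc : (⟨y, hyF⟩ : ↥(Cfsg.fittingSubgroup G)) * ⟨(v : G), hNF v.2⟩ =
          ⟨(v : G), hNF v.2⟩ * ⟨y, hyF⟩ := by
        apply commute_of_coprime_orderOf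
        rw [Subgroup.orderOf_mk, Subgroup.orderOf_mk, Subgroup.orderOf_coe]
        exact hcop
      have hc' : Commute y (v : G) := congrArg Subtype.val hc
      have h1 := eq_one_of_commute_of_coprime N heq hyN v.2 hc'
        (by rw [Subgroup.orderOf_coe]; exact hcop)
      exact hv1 (Subtype.ext h1)
    obtain ⟨s, m', hm', hm⟩ :=
      Nat.exists_eq_pow_mul_and_not_dvd (orderOf_pos x).ne' r₁ hr₁.ne_one
    have hcop' : (r₁ ^ s).Coprime m' :=
      Nat.Coprime.pow_left s ((Nat.Prime.coprime_iff_not_dvd hr₁).mpr hm')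
    by_cases h1 : x ^ m' ∈ N
    · have h2 : x ^ r₁ ^ s ∉ N := fun h2 => hxN (mem_of_pow_mem_of_coprime N hcop' h2 h1)
      have hord : orderOf (x ^ r₁ ^ s) ∣ m' := by
        apply orderOf_dvd_of_pow_eq_one
        rw [← pow_mul, ← hm, pow_orderOf_eq_one]
      apply key _ ((Cfsg.fittingSubgroup G).pow_mem hxF _) h2 v₁
      · intro h; rw [h, orderOf_one] at hv₁; exact hr₁.ne_one hv₁.symm
      · rw [hv₁]
        exact Nat.Coprime.coprime_dvd_left hord
          ((Nat.Prime.coprime_iff_not_dvd hr₁).mpr hm').symm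
    · have hord : orderOf (x ^ m') ∣ r₁ ^ s := by
        apply orderOf_dvd_of_pow_eq_one
        rw [← pow_mul, mul_comm, ← hm, pow_orderOf_eq_one]
      apply key _ ((Cfsg.fittingSubgroup G).pow_mem hxF _) h1 v₂
      · intro h; rw [h, orderOf_one] at hv₂; exact hr₂.ne_one hv₂.symm
      · rw [hv₂]
        exact Nat.Coprime.coprime_dvd_left hord
          (Nat.Coprime.pow_left s ((Nat.coprime_primes hr₁ hr₂).mpr hne))
  · intro q _ Q
    have hq : q.Prime := Fact.out
    obtain ⟨r, hr, hrq, hrd⟩ := exists_prime_ne hNcard hnpp q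
    haveI : Fact r.Prime := ⟨hr⟩
    obtain ⟨z, hzc, hzo⟩ := exists_center_orderOf_eq_prime (N := ↥N) r hrd
    -- the abelian group on which `G ⧸ N` acts
    have hzV : (z : G) ∈ omegaCenter N r := by
      refine ⟨z.2, ?_, ?_⟩
      · intro n hn
        have h1 := Subgroup.mem_center_iff.mp hzc ⟨n, hn⟩
        exact congrArg Subtype.val h1
      · rw [← Subgroup.orderOf_coe] at hzo
        rw [← hzo, pow_orderOf_eq_one]
    have hVnt : Nontrivial ↥(omegaCenter N r) := by
      refine ⟨⟨⟨(z : G), hzV⟩, 1, ?_⟩⟩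
      intro h
      have h1 : (z : G) = 1 := congrArg Subtype.val h
      have h2 : z = 1 := Subtype.ext h1
      rw [h2, orderOf_one] at hzo
      exact hr.ne_one hzo.symm
    have hVcomm : ∀ a b : ↥(omegaCenter N r), a * b = b * a := by
      intro a b
      apply Subtype.ext
      exact b.2.2.1 a a.2.1
    -- the action
    have hker : N ≤ (MulAut.conjNormal (H := omegaCenter N r)).ker := by
      intro n hn
      rw [MonoidHom.mem_ker]
      ext v
      rw [MulAut.conjNormal_apply, MulAut.one_apply, v.2.2.1 n hn, mul_inv_cancel_right]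
    let φ : G ⧸ N →* MulAut ↥(omegaCenter N r) :=
      QuotientGroup.lift N (MulAut.conjNormal (H := omegaCenter N r)) hker
    have hφ : ∀ (g : G) (v : ↥(omegaCenter N r)), ((φ (g : G ⧸ N) v : ↥(omegaCenter N r)) : G)
        = g * v * g⁻¹ := by
      intro g v
      exact MulAut.conjNormal_apply g v
    have hfpf : ∀ a : ↥(Q : Subgroup (G ⧸ N)), a ≠ 1 → ∀ v : ↥(omegaCenter N r),
        φ (a : G ⧸ N) v = v → v = 1 := by
      intro a ha v hav
      obtain ⟨g, hg⟩ := QuotientGroup.mk_surjective (a : G ⧸ N)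
      have hgN : g ∉ N := by
        intro h
        apply ha
        apply Subtype.ext
        rw [← hg, Subgroup.coe_one]
        exact (QuotientGroup.eq_one_iff g).mpr h
      obtain ⟨k, hk⟩ := (IsPGroup.iff_orderOf.mp Q.isPGroup') a
      have hgk : g ^ q ^ k ∈ N := by
        rw [← QuotientGroup.eq_one_iff, QuotientGroup.mk_pow, hg, ← Subgroup.coe_pow, ← hk,
          pow_orderOf_eq_one, Subgroup.coe_one]
      rw [← hg] at hav
      have h1 := congrArg (Subtype.val : ↥(omegaCenter N r) → G) hav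
      rw [hφ] at h1
      have hc : Commute g (v : G) := by
        have h2 : g * (v : G) = (v : G) * g := by
          calc g * (v : G) = g * (v : G) * g⁻¹ * g := by group
            _ = (v : G) * g := by rw [h1]
        exact h2
      have hvo : orderOf (v : G) ∣ r := orderOf_dvd_of_pow_eq_one v.2.2.2
      have h3 := eq_one_of_commute_of_pow_mem N heq hq hgN hgk v.2.1 hc
        (Nat.Coprime.coprime_dvd_right hvo ((Nat.coprime_primes hq hr).mpr (Ne.symm hrq)))
      exact Subtype.ext h3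
    -- uniqueness of the subgroup of order `q`
    have huniq : ∀ H K : Subgroup ↥(Q : Subgroup (G ⧸ N)), Nat.card H = q → Nat.card K = q →
        H = K := by
      intro H K hH hK
      by_contra hne
      have hQnt : Nontrivial ↥(Q : Subgroup (G ⧸ N)) := by
        have hHnt : Nontrivial ↥H := by
          rw [← Finite.one_lt_card_iff_nontrivial, hH]
          exact hq.one_lt
        obtain ⟨a, b, hab⟩ := hHnt
        exact ⟨⟨(a : ↥(Q : Subgroup (G ⧸ N))), b, fun h => hab (Subtype.ext h)⟩⟩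
      obtain ⟨E, hEc, hEcard, hEexp⟩ :=
        Cfsg.Agent.S3908.exists_elementary_sq Q.isPGroup' H K hH hK hne
      have hEcyc : IsCyclic ↥E := by
        apply fpf_isCyclic_of_comm' hVcomm
          ((φ.comp (Subgroup.subtype (Q : Subgroup (G ⧸ N)))).comp E.subtype)
        · intro a ha v hav
          apply hfpf (a : ↥(Q : Subgroup (G ⧸ N))) _ v hav
          intro h
          exact ha (Subtype.ext h)
        · intro a b
          exact mul_comm' a b
      obtain ⟨g, hg⟩ := IsCyclic.exists_generator (α := ↥E)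
      have hgo := orderOf_eq_card_of_forall_mem_zpowers hg
      rw [hEcard] at hgo
      have hgq : g ^ q = 1 := by
        apply Subtype.ext
        rw [Subgroup.coe_pow, hEexp g g.2, Subgroup.coe_one]
      have h1 := orderOf_dvd_of_pow_eq_one hgq
      rw [hgo] at h1
      have h2 := Nat.le_of_dvd hq.pos h1
      have h3 : q < q ^ 2 := by
        calc q = q ^ 1 := (pow_one q).symm
          _ < q ^ 2 := Nat.pow_lt_pow_right hq.one_lt (by norm_num)
      omega
    rcases Cfsg.Agent.S0016.result q Q.isPGroup' huniq with h | ⟨_, h⟩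
    · exact Or.inl h
    · exact Or.inr h

end Cfsg.Agent.S4155
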