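import Cfsg.Statements.S4157
import Mathlib
import Cfsg.Agent.Lib.Helper68.KulTwo
import Cfsg.Agent.Lib.Helper69.Kulakoff
import Cfsg.Agent.Lib.Helper73.MaxClass
import Cfsg.Agent.Lib.Helper73.MaxClass2
import Cfsg.Agent.S3919

set_option autoImplicit false
open Cfsg

namespace Cfsg.Agent.S4157

open Cfsg.Agent.Lib.Helper68.Kul Cfsg.Agent.Lib.Helper69 Cfsg.Agent.Lib.Helper73 in
/-- Let G be a finite p-group of order p^m that is not cyclic and, when p = 2, not of maximal class (nilpotency class m − 1). Then for every 1 ≤ k < m the number of subgroups of G of order p^k is congruent to 1 + p modulo p². -/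
theorem result {G : Type*} [Group G] [Finite G] {p : ℕ} [Fact p.Prime] (m : ℕ)
    (hG : Nat.card G = p ^ m) (hnc : ¬ IsCyclic G) (h2 : p = 2 → Group.nilpotencyClass G ≠ m - 1)
    (k : ℕ) (hk1 : 1 ≤ k) (hk2 : k < m) :
    Nat.card {H : Subgroup G // Nat.card H = p ^ k} ≡ 1 + p [MOD p ^ 2] := by
  by_cases hp2 : p = 2
  · subst hp2
    have hP : IsPGroup 2 G := IsPGroup.of_card hG
    have hnil : Group.IsNilpotent G := hP.isNilpotent
    have h := kul2 m G hG hnc k hk1 hk2
    have hnT : ¬ ((commutator G).index = 4 ∧ k + 2 ≤ m) := by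
      rintro ⟨hT, hkm⟩
      apply h2 rfl
      have hne : commutator G ≠ ⊥ := by
        intro hbot
        have h1 := (commutator G).card_mul_index
        rw [hT, hbot, Subgroup.card_bot, hG] at h1
        have h5 : (2 : ℕ) ^ m = 2 ^ 2 := by rw [← h1]; norm_num
        have := Nat.pow_right_injective (le_refl 2) h5
        omega
      have hna : ¬ IsMulCommutative G := by
        intro hc
        exact hne (commutator_eq_bot_of_comm (fun x y => hc.is_comm.comm x y))
      have hlcs := (Cfsg.Agent.S3919.result hna m hG).mp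
        (fun H hH => centralizer_le_of_commutator_index_four G hP hT hne H hH)
      rw [Ne, Subgroup.lowerCentralSeries_eq_bot_iff_nilpotencyClass_le] at hlcs
      have := nilpotencyClass_le_pred (p := 2) (by omega : 2 ≤ m) hG
      omega
    rw [if_neg hnT] at h
    rw [← ZMod.natCast_eq_natCast_iff, h]
    norm_num
  · have h := kulakoff p hp2 m G hG hnc k hk1 hk2
    rw [← ZMod.natCast_eq_natCast_iff, h]
    push_cast
    rfl

end Cfsg.Agent.S4157
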