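-- Statement S4172: two-generated non-commutative Sylow subgroup with core-free Frattini
-- subgroup: F*(G) is the unique minimal normal subgroup (helper67).
import Mathlib
import Cfsg.Statements.S4172
import Cfsg.Agent.Lib.Helper67.TwoGenC
import Cfsg.Agent.Lib.Helper30.Bender

set_option autoImplicit false
open Cfsg

namespace Cfsg.Agent.S4172

open Cfsg.Agent.Lib.Helper67

/-- Let p be a prime and G a finite group with a non-commutative Sylow p-subgroup P whose Frattini subgroup has index p² in P (P is generated by two elements). Suppose G has no nontrivial normal subgroup of order prime to p and the Frattini subgroup of P contains no nontrivial normal subgroup of G. Then the generalized Fitting subgroup F*(G) is the unique minimal normal subgroup of G, the image of P in G/F*(G) is cyclic, and if F*(G) is not commutative then P permutes the components of G transitively by conjugation. -/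
theorem result {G : Type*} [Group G] [Finite G] (p : ℕ) [Fact p.Prime] (P : Sylow p G) (hna : ¬ IsMulCommutative (P : Subgroup G)) (hgen : (frattini ↥(P : Subgroup G)).index = p ^ 2) (hcore : Cfsg.pPrimeCore p G = ⊥) (hfrat : ((frattini ↥(P : Subgroup G)).map (P : Subgroup G).subtype).normalCore = ⊥) [hFn : (Cfsg.generalizedFittingSubgroup G).Normal] :
    (Cfsg.generalizedFittingSubgroup G ≠ ⊥ ∧ ∀ K : Subgroup G, K.Normal → K ≠ ⊥ → Cfsg.generalizedFittingSubgroup G ≤ K) ∧
      IsCyclic ↥((P : Subgroup G).map (QuotientGroup.mk' (Cfsg.generalizedFittingSubgroup G))) ∧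
      (¬ IsMulCommutative (Cfsg.generalizedFittingSubgroup G) → ∀ K L : Subgroup G, Cfsg.IsComponent K → Cfsg.IsComponent L → ∃ x ∈ (P : Subgroup G), L = K.map (MulAut.conj x).toMonoidHom) := by
  obtain ⟨N₀, hN₀n, hN₀, hmin⟩ := exists_least_normal P hna hgen hcore hfrat
  have hFit := Cfsg.Agent.Lib.Helper22.fittingSubgroup_eq_pCore_of_pPrimeCore_eq_bot hcore
  have hFstar : Cfsg.generalizedFittingSubgroup G = Cfsg.layer G ⊔ Cfsg.pCore p G := by
    unfold Cfsg.generalizedFittingSubgroup
    rw [hFit]
  have hFN : Cfsg.generalizedFittingSubgroup G ≤ N₀ := by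
    rw [hFstar]
    by_cases hF : Cfsg.pCore p G = ⊥
    · rw [hF, sup_bot_eq]
      exact layer_le_of_fitting_eq_bot N₀ hN₀n hN₀ hmin (hFit.trans hF)
    · obtain ⟨h1, h2, -⟩ := pCore_le_of_pCore_ne_bot P hgen hcore hfrat N₀ hN₀n hN₀ hmin hF
      rw [h1, bot_sup_eq]
      exact h2
  have hFne : Cfsg.generalizedFittingSubgroup G ≠ ⊥ := by
    intro h
    have hB := Cfsg.Agent.Lib.Helper30.centralizer_generalizedFittingSubgroup_le G
    rw [h] at hB
    apply hN₀
    rw [eq_bot_iff]
    intro n _
    apply hB
    rw [Subgroup.mem_centralizer_iff]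
    intro h' hh'
    rw [SetLike.mem_coe, Subgroup.mem_bot] at hh'
    rw [hh', one_mul, mul_one]
  refine ⟨⟨hFne, fun K hKn hK => le_trans hFN (hmin K hKn hK)⟩, ?_, ?_⟩
  · exact isCyclic_map_mk_of_not_le P hgen _
      (not_inf_le_frattini_of_normal P hcore hfrat _ hFne)
  · intro hnc K L hK hL
    have hF : Cfsg.pCore p G = ⊥ := by
      by_contra hF
      obtain ⟨h1, h2, h3⟩ := pCore_le_of_pCore_ne_bot P hgen hcore hfrat N₀ hN₀n hN₀ hmin hF
      have hle : Cfsg.generalizedFittingSubgroup G ≤ Cfsg.pCore p G := by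
        rw [hFstar, h1, bot_sup_eq]
      apply hnc
      refine ⟨⟨fun a b => ?_⟩⟩
      exact Subtype.ext (h3 a (h2 (hle a.2)) b (hle b.2))
    exact exists_conj_component P hna hgen hcore (hFit.trans hF) K L hK hL

end Cfsg.Agent.S4172
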