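import Mathlib
import Cfsg.Statements.S4194

set_option autoImplicit false
open Cfsg

namespace Cfsg.Agent.S4194

universe u

/-- Hypothesis: every 2-element is centralized by a Sylow 2-subgroup. -/
def TwoCentral (G : Type*) [Group G] : Prop :=
  ∀ x : G, (∃ k : ℕ, orderOf x = 2 ^ k) →
    ∃ Q : Sylow 2 G, (Q : Subgroup G) ≤ Subgroup.centralizer ({x} : Set G)

theorem exists_orderOf_eq_two_pow {G : Type*} [Group G] {x : G} {k : ℕ} (h : x ^ 2 ^ k = 1) :
    ∃ j : ℕ, orderOf x = 2 ^ j := by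
  have := orderOf_dvd_of_pow_eq_one h
  obtain ⟨j, -, hj⟩ := (Nat.dvd_prime_pow Nat.prime_two).1 this
  exact ⟨j, hj⟩

theorem exists_pow_of_mem_sylow {G : Type*} [Group G] (P : Sylow 2 G) {x : G} (hx : x ∈ P) :
    ∃ k : ℕ, x ^ 2 ^ k = 1 := by
  obtain ⟨k, hk⟩ := P.isPGroup' ⟨x, hx⟩
  exact ⟨k, by simpa using congrArg Subtype.val hk⟩

theorem inv_eq_self_of_sq {G : Type*} [Group G] {a : G} (ha : a ^ 2 = 1) : a⁻¹ = a := by
  rw [inv_eq_iff_mul_eq_one, ← pow_two, ha]

/-- A Sylow subgroup between a `2`-subgroup `H` and a subgroup `K` containing a Sylow subgroup. -/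
theorem exists_sylow_between {G : Type*} [Group G] [Finite G] {K H : Subgroup G} (Q₀ : Sylow 2 G)
    (hQ : (Q₀ : Subgroup G) ≤ K) (hH : IsPGroup 2 H) (hHK : H ≤ K) :
    ∃ T : Sylow 2 G, H ≤ (T : Subgroup G) ∧ (T : Subgroup G) ≤ K := by
  have : Fact (Nat.Prime 2) := ⟨Nat.prime_two⟩
  obtain ⟨T', hT'⟩ := (hH.comap_subtype (K := K)).exists_le_sylow
  obtain ⟨c, hc⟩ := MulAction.exists_smul_eq K (Q₀.subtype hQ) T'
  rw [Sylow.smul_subtype] at hc
  refine ⟨c • Q₀, ?_, Sylow.smul_le hQ c⟩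
  intro x hx
  have h1 : (⟨x, hHK hx⟩ : K) ∈ T' := hT' (Subgroup.mem_subgroupOf.2 hx)
  rw [← hc] at h1
  exact Subgroup.mem_subgroupOf.1
    (show (⟨x, hHK hx⟩ : K) ∈ ((c • Q₀ : Sylow 2 G) : Subgroup G).subgroupOf K from h1)

/-- `N = C` for cyclic `2`-subgroups, in the form needed. -/
theorem commute_of_inverts {G : Type*} [Group G] [Finite G] (hG : TwoCentral G) {y a : G}
    (hy : ∃ k : ℕ, orderOf y = 2 ^ k) {j : ℕ} (ha : a ^ 2 ^ j = 1) (hay : a * y * a⁻¹ = y⁻¹) :
    a * y = y * a := by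
  have : Fact (Nat.Prime 2) := ⟨Nat.prime_two⟩
  obtain ⟨Q, hQ⟩ := hG y hy
  obtain ⟨C, hC⟩ : ∃ C : Subgroup G, C = Subgroup.centralizer ({y} : Set G) := ⟨_, rfl⟩
  rw [← hC] at hQ
  have key : ∀ g : G, g * y * g⁻¹ = y⁻¹ → ∀ c ∈ C, g * c * g⁻¹ ∈ C := by
    intro g hg c hc
    rw [hC, Subgroup.mem_centralizer_iff] at hc ⊢
    intro h hh
    rw [Set.mem_singleton_iff] at hh
    subst hh
    have hc' : Commute h c := hc h rfl
    have h1 : Commute (g * h * g⁻¹) (g * c * g⁻¹) := by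
      unfold Commute SemiconjBy
      have e1 : g * h * g⁻¹ * (g * c * g⁻¹) = g * (h * c) * g⁻¹ := by group
      have e2 : g * c * g⁻¹ * (g * h * g⁻¹) = g * (c * h) * g⁻¹ := by group
      rw [e1, e2, hc'.eq]
    rw [hg] at h1
    exact (Commute.inv_left_iff.1 h1).eq
  have hay' : a⁻¹ * y * a⁻¹⁻¹ = y⁻¹ := by
    have e1 : a⁻¹ * y⁻¹ * a = y := by rw [← hay]; group
    have e2 : a⁻¹ * y * a⁻¹⁻¹ = (a⁻¹ * y⁻¹ * a)⁻¹ := by group
    rw [e2, e1]
  have haN : a ∈ Subgroup.normalizer (C : Set G) := by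
    rw [Subgroup.mem_normalizer_iff]
    intro c
    constructor
    · exact key a hay c
    · intro h
      have := key a⁻¹ hay' _ h
      have e : a⁻¹ * (a * c * a⁻¹) * a⁻¹⁻¹ = c := by group
      rwa [e] at this
  have hidx : ¬ 2 ∣ C.index := fun h => Q.not_dvd_index (h.trans (Subgroup.index_dvd_of_le hQ))
  have hodd : ¬ 2 ∣ Nat.card (Subgroup.normalizer (C : Set G) ⧸
      C.subgroupOf (Subgroup.normalizer (C : Set G))) := by
    intro h
    apply hidx
    have h1 : Nat.card (Subgroup.normalizer (C : Set G) ⧸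
      C.subgroupOf (Subgroup.normalizer (C : Set G))) = C.relIndex (Subgroup.normalizer (C : Set G)) := rfl
    rw [h1] at h
    exact h.trans (Subgroup.relIndex_dvd_index_of_le Subgroup.le_normalizer)
  have h1 : ((QuotientGroup.mk (⟨a, haN⟩ : Subgroup.normalizer (C : Set G)) :
      Subgroup.normalizer (C : Set G) ⧸ C.subgroupOf (Subgroup.normalizer (C : Set G)))) ^ 2 ^ j = 1 := by
    rw [← QuotientGroup.mk_pow]
    have : (⟨a, haN⟩ : Subgroup.normalizer (C : Set G)) ^ 2 ^ j = 1 := Subtype.ext (by simpa using ha)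
    rw [this]; rfl
  have h2 := orderOf_dvd_of_pow_eq_one h1
  have h3 := orderOf_dvd_natCard (QuotientGroup.mk (⟨a, haN⟩ : Subgroup.normalizer (C : Set G)) :
      Subgroup.normalizer (C : Set G) ⧸ C.subgroupOf (Subgroup.normalizer (C : Set G)))
  have h4 : orderOf (QuotientGroup.mk (⟨a, haN⟩ : Subgroup.normalizer (C : Set G)) :
      Subgroup.normalizer (C : Set G) ⧸ C.subgroupOf (Subgroup.normalizer (C : Set G))) = 1 := by
    obtain ⟨i, -, hi⟩ := (Nat.dvd_prime_pow Nat.prime_two).1 h2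
    rcases i with _ | i
    · simpa using hi
    · exfalso; apply hodd; rw [hi] at h3
      exact (dvd_pow_self 2 (Nat.succ_ne_zero i)).trans h3
  rw [orderOf_eq_one_iff, QuotientGroup.eq_one_iff, Subgroup.mem_subgroupOf] at h4
  have h5 : a ∈ Subgroup.centralizer ({y} : Set G) := by rw [← hC]; exact h4
  exact ((Subgroup.mem_centralizer_iff.1 h5) y rfl).symm

/-- Two involutions whose product is a `2`-element commute. -/
theorem commute_of_sq {G : Type*} [Group G] [Finite G] (hG : TwoCentral G) {a b : G}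
    (ha : a ^ 2 = 1) (hb : b ^ 2 = 1) {k : ℕ} (hab : (a * b) ^ 2 ^ k = 1) : a * b = b * a := by
  have hai := inv_eq_self_of_sq ha
  have hbi := inv_eq_self_of_sq hb
  have h1 : a * (a * b) * a⁻¹ = (a * b)⁻¹ := by
    rw [mul_inv_rev, hai, hbi, ← mul_assoc, ← pow_two, ha, one_mul]
  have h2 := commute_of_inverts hG (exists_orderOf_eq_two_pow hab) (j := 1) (by simpa using ha) h1
  rw [← mul_assoc, ← pow_two, ha, one_mul] at h2
  have h3 : a * b * a = a * (b * a) := mul_assoc _ _ _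
  rw [h3] at h2
  calc a * b = a * (a * (b * a)) := by rw [← h2]
    _ = b * a := by rw [← mul_assoc, ← pow_two, ha, one_mul]

theorem commute_in_sylow {G : Type*} [Group G] [Finite G] (hG : TwoCentral G) (P : Sylow 2 G)
    {a b : G} (ha : a ∈ P) (hb : b ∈ P) (ha2 : a ^ 2 = 1) (hb2 : b ^ 2 = 1) : a * b = b * a := by
  obtain ⟨k, hk⟩ := exists_pow_of_mem_sylow P (mul_mem ha hb)
  exact commute_of_sq hG ha2 hb2 hk

/-- The product of two involutions has order `m` or `2m` with `m` odd. -/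
theorem exists_odd_pow {G : Type*} [Group G] [Finite G] (hG : TwoCentral G) {a b : G}
    (ha : a ^ 2 = 1) (hb : b ^ 2 = 1) : ∃ m : ℕ, Odd m ∧ (a * b) ^ (2 * m) = 1 := by
  have hai := inv_eq_self_of_sq ha
  have hbi := inv_eq_self_of_sq hb
  obtain ⟨k, m, hm, hn⟩ := Nat.exists_eq_two_pow_mul_odd (orderOf_pos (a * b)).ne'
  refine ⟨m, hm, ?_⟩
  have hy : ((a * b) ^ m) ^ 2 ^ k = 1 := by
    rw [← pow_mul, mul_comm, ← hn, pow_orderOf_eq_one]
  have h1 : a * (a * b) * a⁻¹ = (a * b)⁻¹ := by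
    rw [mul_inv_rev, hai, hbi, ← mul_assoc, ← pow_two, ha, one_mul]
  have h2 : a * (a * b) ^ m * a⁻¹ = ((a * b) ^ m)⁻¹ := by
    rw [← conj_pow, h1, inv_pow]
  have h3 := commute_of_inverts hG (exists_orderOf_eq_two_pow hy) (j := 1) (by simpa using ha) h2
  have h4 : ((a * b) ^ m)⁻¹ = (a * b) ^ m := by
    rw [← h2, h3, mul_inv_cancel_right]
  rw [mul_comm, pow_mul, pow_two]
  nth_rewrite 1 [← h4]
  exact inv_mul_cancel _

/-- The set of elements of order at most two of `P` fixed by `u`. -/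
def Cfix {G : Type*} [Group G] (P : Sylow 2 G) (u : G) : Set G :=
  {x | x ∈ P ∧ x ^ 2 = 1 ∧ u * x = x * u}

theorem step {G : Type*} [Group G] [Finite G] (hG : TwoCentral G) (P : Sylow 2 G) {u a : G}
    (hu : u ∈ P) (ha : a ∈ P) (ha2 : a ^ 2 = 1) (hne : u * a ≠ a * u)
    (hu2 : (u * u) * a = a * (u * u)) :
    ∃ P₃ : Sylow 2 G, u ∈ P₃ ∧ a ∈ P₃ ∧ Cfix P u ⊂ Cfix P₃ u := by
  have : Fact (Nat.Prime 2) := ⟨Nat.prime_two⟩
  have hai := inv_eq_self_of_sq ha2
  -- the conjugate of `a` and the commutator `c`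
  have ha₁P : u * a * u⁻¹ ∈ P := mul_mem (mul_mem hu ha) (inv_mem hu)
  have ha₁2 : (u * a * u⁻¹) ^ 2 = 1 := by rw [conj_pow, ha2, mul_one, mul_inv_cancel]
  have hcomm1 : a * (u * a * u⁻¹) = (u * a * u⁻¹) * a := commute_in_sylow hG P ha ha₁P ha2 ha₁2
  obtain ⟨c, hc⟩ : ∃ c : G, c = a * (u * a * u⁻¹) := ⟨_, rfl⟩
  have hcP : c ∈ P := by rw [hc]; exact mul_mem ha ha₁P
  have hc2 : c ^ 2 = 1 := by
    rw [hc, (show Commute a (u * a * u⁻¹) from hcomm1).mul_pow, ha2, ha₁2, one_mul]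
  have hua : u * a = a * c * u := by
    rw [hc, ← mul_assoc, ← pow_two, ha2, one_mul, inv_mul_cancel_right]
  have hc1 : c ≠ 1 := by
    intro h
    apply hne
    rw [hua, h, mul_one]
  have huc : u * c = c * u := by
    have e1 : u * c * u⁻¹ = (u * a * u⁻¹) * ((u * u) * a * (u * u)⁻¹) := by rw [hc]; group
    have e2 : (u * u) * a * (u * u)⁻¹ = a := by rw [hu2, mul_inv_cancel_right]
    rw [e2, ← hcomm1, ← hc] at e1
    calc u * c = u * c * u⁻¹ * u := by group
      _ = c * u := by rw [e1]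
  have hcB : c ∈ Cfix P u := ⟨hcP, hc2, huc⟩
  have hca : c * a = a * c := commute_in_sylow hG P hcP ha hc2 ha2
  -- the Sylow subgroup `T` centralizing `u`
  obtain ⟨ku, hku⟩ := exists_pow_of_mem_sylow P hu
  obtain ⟨Q₀, hQ₀⟩ := hG u (exists_orderOf_eq_two_pow hku)
  obtain ⟨T, hHT, hTK⟩ := exists_sylow_between Q₀ hQ₀
    (H := (P : Subgroup G) ⊓ Subgroup.centralizer ({u} : Set G))
    (P.isPGroup'.to_le inf_le_left) inf_le_right
  have hBT : ∀ x ∈ Cfix P u, x ∈ T := by
    intro x hx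
    apply hHT
    refine Subgroup.mem_inf.2 ⟨hx.1, ?_⟩
    rw [Subgroup.mem_centralizer_iff]
    intro h hh
    rw [Set.mem_singleton_iff] at hh
    subst hh
    exact hx.2.2
  have hTu : ∀ x ∈ T, u * x = x * u := by
    intro x hx
    exact (Subgroup.mem_centralizer_iff.1 (hTK hx)) u rfl
  -- find `b`
  obtain ⟨b, hbT, hb2, hbB⟩ : ∃ b : G, b ∈ T ∧ b ^ 2 = 1 ∧ b ∉ Cfix P u := by
    by_contra hcon
    push Not at hcon
    obtain ⟨g, hg⟩ := MulAction.exists_smul_eq G P T
    have hgT : ∀ x ∈ P, g * x * g⁻¹ ∈ T := by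
      intro x hx
      rw [← hg]
      show g * x * g⁻¹ ∈ ((g • P : Sylow 2 G) : Subgroup G)
      rw [Sylow.smul_def, Sylow.pointwise_smul_def, Subgroup.mem_pointwise_smul_iff_inv_smul_mem]
      simpa [MulAut.smul_def, mul_assoc] using (show x ∈ (P : Subgroup G) from hx)
    have h1 : ({x | x ∈ P ∧ x ^ 2 = 1} : Set G).ncard ≤ ({x | x ∈ T ∧ x ^ 2 = 1} : Set G).ncard := by
      apply Set.ncard_le_ncard_of_injOn (fun x => g * x * g⁻¹)
      · intro x hx
        exact ⟨hgT x hx.1, by rw [conj_pow, hx.2, mul_one, mul_inv_cancel]⟩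
      · intro x _ y _ hxy
        simpa using hxy
    have h2 : ({x | x ∈ T ∧ x ^ 2 = 1} : Set G).ncard ≤ (Cfix P u).ncard := by
      apply Set.ncard_le_ncard _ (Set.toFinite _)
      intro x hx
      exact hcon x hx.1 hx.2
    have h3 : (Cfix P u).ncard < ({x | x ∈ P ∧ x ^ 2 = 1} : Set G).ncard := by
      apply Set.ncard_lt_ncard _ (Set.toFinite _)
      refine ⟨fun x hx => ⟨hx.1, hx.2.1⟩, fun h => ?_⟩
      exact hne (h ⟨ha, ha2⟩).2.2
    omega
  have hbi := inv_eq_self_of_sq hb2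
  have hub : u * b = b * u := hTu b hbT
  have hcb : c * b = b * c := commute_in_sylow hG T (hBT c hcB) hbT hc2 hb2
  obtain ⟨m, hm, hmab⟩ := exists_odd_pow hG ha2 hb2
  obtain ⟨w, hw⟩ : ∃ w : G, w = (a * b) ^ m := ⟨_, rfl⟩
  have hw2 : w ^ 2 = 1 := by rw [hw, ← pow_mul, mul_comm]; exact hmab
  have hcab : Commute c (a * b) := (show Commute c a from hca).mul_right (show Commute c b from hcb)
  have hcm : c ^ m = c := by
    obtain ⟨i, rfl⟩ := hm
    rw [pow_succ, pow_mul, hc2, one_pow, one_mul]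
  have huw : u * w = c * w * u := by
    have h1 : SemiconjBy u (a * b) (c * (a * b)) := by
      unfold SemiconjBy
      calc u * (a * b) = (u * a) * b := by group
        _ = a * c * u * b := by rw [hua]
        _ = a * c * (u * b) := by group
        _ = a * c * (b * u) := by rw [hub]
        _ = (c * a) * b * u := by rw [hca]; group
        _ = c * (a * b) * u := by group
    have h2 := h1.pow_right m
    rw [hcab.mul_pow, hcm, ← hw] at h2
    exact h2.eq
  have haw : a * w = w * a := by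
    have h1 : SemiconjBy a (a * b) ((a * b)⁻¹) := by
      unfold SemiconjBy
      rw [mul_inv_rev, hai, hbi, ← mul_assoc, ← pow_two, ha2, one_mul, mul_assoc, ← pow_two, ha2,
        mul_one]
    have h2 := h1.pow_right m
    rw [inv_pow, ← hw, inv_eq_self_of_sq hw2] at h2
    exact h2.eq
  have hbw : b * w = w * b := by
    have h1 : SemiconjBy b (a * b) ((a * b)⁻¹) := by
      unfold SemiconjBy
      rw [mul_inv_rev, hai, hbi, mul_assoc]
    have h2 := h1.pow_right m
    rw [inv_pow, ← hw, inv_eq_self_of_sq hw2] at h2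
    exact h2.eq
  have hBw : ∀ x ∈ Cfix P u, x * w = w * x := by
    intro x hx
    have h1 : Commute x a := commute_in_sylow hG P hx.1 ha hx.2.1 ha2
    have h2 : Commute x b := commute_in_sylow hG T (hBT x hx) hbT hx.2.1 hb2
    rw [hw]
    exact ((h1.mul_right h2).pow_right m).eq
  have hBa : ∀ x ∈ Cfix P u, x * a = a * x := fun x hx =>
    commute_in_sylow hG P hx.1 ha hx.2.1 ha2
  obtain ⟨a', ha'⟩ : ∃ a' : G, a' = a * w := ⟨_, rfl⟩
  have ha'2 : a' ^ 2 = 1 := by
    rw [ha', (show Commute a w from haw).mul_pow, ha2, hw2, one_mul]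
  have hua' : u * a' = a' * u := by
    calc u * a' = (u * a) * w := by rw [ha']; group
      _ = a * c * (u * w) := by rw [hua]; group
      _ = a * (c * c) * w * u := by rw [huw]; group
      _ = a' * u := by rw [← pow_two, hc2, mul_one, ha']
  have ha'a : a' * a = a * a' := by
    rw [ha', mul_assoc, ← haw]
  have ha'B : ∀ x ∈ Cfix P u, a' * x = x * a' := by
    intro x hx
    rw [ha', mul_assoc, ← hBw x hx, ← mul_assoc, ← hBa x hx, mul_assoc]
  -- the new Sylow subgroup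
  have hz : IsPGroup 2 (Subgroup.zpowers a') := by
    rintro ⟨g, hg⟩
    obtain ⟨i, rfl⟩ := Subgroup.mem_zpowers_iff.1 hg
    refine ⟨1, Subtype.ext ?_⟩
    show (a' ^ i) ^ 2 ^ 1 = 1
    rw [pow_one, ← zpow_natCast, ← zpow_mul, mul_comm, zpow_mul, zpow_natCast, ha'2, one_zpow]
  have hH₀ : IsPGroup 2 ((P : Subgroup G) ⊓ Subgroup.centralizer ({a'} : Set G) : Subgroup G) :=
    P.isPGroup'.to_le inf_le_left
  have hnorm : (P : Subgroup G) ⊓ Subgroup.centralizer ({a'} : Set G) ≤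
      Subgroup.normalizer ((Subgroup.zpowers a' : Subgroup G) : Set G) := by
    refine le_trans ?_ (Subgroup.centralizer_le_normalizer _)
    intro h hh
    rw [Subgroup.mem_centralizer_iff]
    intro x hx
    obtain ⟨i, rfl⟩ := Subgroup.mem_zpowers_iff.1 hx
    have : Commute a' h := (Subgroup.mem_centralizer_iff.1 hh.2) a' rfl
    exact (this.zpow_left i).eq
  obtain ⟨P₃, hP₃⟩ := (IsPGroup.to_sup_of_normal_right' hH₀ hz hnorm).exists_le_sylow
  have hmem : ∀ x : G, x ∈ P → a' * x = x * a' → x ∈ P₃ := by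
    intro x hx hxa
    apply hP₃
    apply Subgroup.mem_sup_left
    refine Subgroup.mem_inf.2 ⟨hx, ?_⟩
    rw [Subgroup.mem_centralizer_iff]
    intro h hh
    rw [Set.mem_singleton_iff] at hh
    subst hh
    exact hxa
  have ha'P₃ : a' ∈ P₃ := hP₃ (Subgroup.mem_sup_right (Subgroup.mem_zpowers a'))
  refine ⟨P₃, hmem u hu hua'.symm, hmem a ha ha'a, ?_, ?_⟩
  · intro x hx
    exact ⟨hmem x hx.1 (ha'B x hx), hx.2.1, hx.2.2⟩
  · intro hsub
    have h1 : a' ∈ Cfix P u := hsub ⟨ha'P₃, ha'2, hua'⟩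
    have h2 : a' * b = b * a' := commute_in_sylow hG T (hBT a' h1) hbT ha'2 hb2
    have h3 : (a' * b) ^ 2 = 1 := by
      rw [(show Commute a' b from h2).mul_pow, ha'2, hb2, one_mul]
    have h4 : a' * b = (a * b) ^ (m + 1) := by
      rw [ha', haw, mul_assoc, hw, ← pow_succ]
    have h5 : (a * b) ^ 2 = 1 := by
      rw [h4, ← pow_mul, add_mul, one_mul, pow_add, mul_comm m 2, hmab, one_mul] at h3
      exact h3
    have h6 : w = a * b := by
      obtain ⟨i, rfl⟩ := hm
      rw [hw, pow_succ, pow_mul, h5, one_pow, one_mul]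
    have h7 : a' = b := by
      rw [ha', h6, ← mul_assoc, ← pow_two, ha2, one_mul]
    exact hbB (h7 ▸ h1)

theorem omega_central_aux {G : Type*} [Group G] [Finite G] (hG : TwoCentral G) (n : ℕ) :
    ∀ (P : Sylow 2 G) (u a : G), u ∈ P → a ∈ P → a ^ 2 = 1 → u * a ≠ a * u →
      Nat.card G < (Cfix P u).ncard + n → False := by
  induction n with
  | zero =>
    intro P u a _ _ _ _ h
    have := Set.ncard_le_card (Cfix P u)
    omega
  | succ n ih =>
    intro P u a hu ha ha2 hne hcard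
    obtain ⟨k, hk⟩ := exists_pow_of_mem_sylow P hu
    have hex : ∃ j : ℕ, u ^ 2 ^ j * a = a * u ^ 2 ^ j := ⟨k, by rw [hk, one_mul, mul_one]⟩
    classical
    have hj0 : Nat.find hex ≠ 0 := by
      intro h0
      have := Nat.find_spec hex
      rw [h0] at this
      simp at this
      exact hne this
    obtain ⟨j', hj'⟩ := Nat.exists_eq_succ_of_ne_zero hj0
    have hmin : ¬ (u ^ 2 ^ j' * a = a * u ^ 2 ^ j') := Nat.find_min hex (by omega)
    have hspec := Nat.find_spec hex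
    rw [hj'] at hspec
    have hu'P : u ^ 2 ^ j' ∈ P := pow_mem hu _
    have hu'2 : (u ^ 2 ^ j' * u ^ 2 ^ j') * a = a * (u ^ 2 ^ j' * u ^ 2 ^ j') := by
      have : u ^ 2 ^ j' * u ^ 2 ^ j' = u ^ 2 ^ (j' + 1) := by rw [← pow_add, pow_succ, mul_two]
      rw [this]; exact hspec
    obtain ⟨P₃, hu₃, ha₃, hss⟩ := step hG P hu'P ha ha2 hmin hu'2
    have h1 : Cfix P u ⊆ Cfix P (u ^ 2 ^ j') := by
      intro x hx
      exact ⟨hx.1, hx.2.1, ((show Commute u x from hx.2.2).pow_left _).eq⟩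
    have h2 := Set.ncard_le_ncard h1 (Set.toFinite _)
    have h3 := Set.ncard_lt_ncard hss (Set.toFinite _)
    exact ih P₃ (u ^ 2 ^ j') a hu₃ ha₃ ha2 hmin (by omega)

/-- Key lemma: under the hypothesis, the elements of order at most two of a Sylow `2`-subgroup
are central in it. -/
theorem omega_central {G : Type*} [Group G] [Finite G] (hG : TwoCentral G) (P : Sylow 2 G)
    {u a : G} (hu : u ∈ P) (ha : a ∈ P) (ha2 : a ^ 2 = 1) : u * a = a * u := by
  by_contra hne
  exact omega_central_aux hG (Nat.card G + 1) P u a hu ha ha2 hne (by omega)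

theorem main (n : ℕ) : ∀ (G : Type u) [Group G] [Finite G], Nat.card G = n → TwoCentral G →
    ∀ (P : Sylow 2 G) (x y : G), x ∈ P → y ∈ P → x * y = y * x := by
  induction n using Nat.strong_induction_on with
  | _ n ih =>
  intro G _ _ hn hG P
  have : Fact (Nat.Prime 2) := ⟨Nat.prime_two⟩
  by_cases hcent : ∀ e ∈ P, e ^ 2 = 1 → ∀ g : G, g * e = e * g
  · -- central case
    by_cases hP1 : ∀ x ∈ P, x = 1
    · intro x y hx hy
      rw [hP1 x hx, hP1 y hy]
    push Not at hP1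
    obtain ⟨x₀, hx₀, hx₀1⟩ := hP1
    obtain ⟨e, heP, he2, he1⟩ : ∃ e : G, e ∈ P ∧ e ^ 2 = 1 ∧ e ≠ 1 := by
      obtain ⟨k, hk⟩ := exists_pow_of_mem_sylow P hx₀
      classical
      have hex : ∃ j : ℕ, x₀ ^ 2 ^ j = 1 := ⟨k, hk⟩
      have hj0 : Nat.find hex ≠ 0 := by
        intro h0
        have := Nat.find_spec hex
        rw [h0] at this
        simp at this
        exact hx₀1 this
      obtain ⟨j', hj'⟩ := Nat.exists_eq_succ_of_ne_zero hj0
      have hmin : ¬ (x₀ ^ 2 ^ j' = 1) := Nat.find_min hex (by omega)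
      have hspec := Nat.find_spec hex
      rw [hj'] at hspec
      refine ⟨x₀ ^ 2 ^ j', pow_mem hx₀ _, ?_, hmin⟩
      rw [← pow_mul, ← pow_succ]; exact hspec
    have hec : ∀ g : G, g * e = e * g := hcent e heP he2
    have hZn : (Subgroup.zpowers e).Normal := by
      refine ⟨fun z hz g => ?_⟩
      obtain ⟨i, rfl⟩ := Subgroup.mem_zpowers_iff.1 hz
      have : Commute g (e ^ i) := (show Commute g e from hec g).zpow_right i
      rw [this.eq, mul_inv_cancel_right]
      exact hz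
    have hZsq : ∀ z ∈ Subgroup.zpowers e, z ^ 2 = 1 := by
      intro z hz
      obtain ⟨i, rfl⟩ := Subgroup.mem_zpowers_iff.1 hz
      rw [← zpow_natCast, ← zpow_mul, mul_comm, zpow_mul, zpow_natCast, he2, one_zpow]
    have hZc : ∀ z ∈ Subgroup.zpowers e, ∀ g : G, g * z = z * g := by
      intro z hz g
      obtain ⟨i, rfl⟩ := Subgroup.mem_zpowers_iff.1 hz
      exact ((show Commute g e from hec g).zpow_right i).eq
    have hZP : Subgroup.zpowers e ≤ (P : Subgroup G) := by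
      rw [Subgroup.zpowers_le]; exact heP
    have hcardZ : Nat.card (Subgroup.zpowers e) = 2 := by
      rw [Nat.card_zpowers]
      exact orderOf_eq_prime he2 he1
    have hcard : Nat.card (G ⧸ Subgroup.zpowers e) < n := by
      have := Subgroup.card_eq_card_quotient_mul_card_subgroup (Subgroup.zpowers e)
      rw [hcardZ, hn] at this
      have hpos : 0 < Nat.card (G ⧸ Subgroup.zpowers e) := Nat.card_pos
      omega
    have hsurj : Function.Surjective (QuotientGroup.mk' (Subgroup.zpowers e)) :=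
      QuotientGroup.mk'_surjective _
    have hGq : TwoCentral (G ⧸ Subgroup.zpowers e) := by
      intro ybar ⟨k, hk⟩
      obtain ⟨y, rfl⟩ := QuotientGroup.mk_surjective ybar
      have h1 : (y ^ 2 ^ k) ∈ Subgroup.zpowers e := by
        rw [← QuotientGroup.eq_one_iff, QuotientGroup.mk_pow, ← hk, pow_orderOf_eq_one]
      have h2 : y ^ 2 ^ (k + 1) = 1 := by
        rw [pow_succ, pow_mul]; exact hZsq _ h1
      obtain ⟨R, hR⟩ := hG y (exists_orderOf_eq_two_pow h2)
      refine ⟨R.mapSurjective hsurj, ?_⟩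
      intro rbar hr
      rw [Sylow.coe_mapSurjective, Subgroup.mem_map] at hr
      obtain ⟨r, hr, rfl⟩ := hr
      rw [Subgroup.mem_centralizer_iff]
      intro h hh
      rw [Set.mem_singleton_iff] at hh
      subst hh
      have := (Subgroup.mem_centralizer_iff.1 (hR hr)) y rfl
      show (QuotientGroup.mk y : G ⧸ Subgroup.zpowers e) * QuotientGroup.mk r =
        QuotientGroup.mk r * QuotientGroup.mk y
      rw [← QuotientGroup.mk_mul, ← QuotientGroup.mk_mul, this]
    have hPq := ih _ hcard (G ⧸ Subgroup.zpowers e) rfl hGq (P.mapSurjective hsurj)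
    have hPqc : IsMulCommutative ((P.mapSurjective hsurj : Sylow 2 (G ⧸ Subgroup.zpowers e)) :
        Subgroup (G ⧸ Subgroup.zpowers e)) :=
      ⟨⟨fun a b => Subtype.ext (hPq a.1 b.1 a.2 b.2)⟩⟩
    intro u v hu hv
    obtain ⟨ku, hku⟩ := exists_pow_of_mem_sylow P hu
    obtain ⟨Q₀, hQ₀⟩ := hG u (exists_orderOf_eq_two_pow hku)
    obtain ⟨T, hHT, hTK⟩ := exists_sylow_between Q₀ hQ₀
      (H := (P : Subgroup G) ⊓ Subgroup.centralizer ({u} : Set G))
      (P.isPGroup'.to_le inf_le_left) inf_le_right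
    have huT : u ∈ T := hHT (Subgroup.mem_inf.2 ⟨hu, by
      rw [Subgroup.mem_centralizer_iff]; intro h hh; rw [Set.mem_singleton_iff] at hh; subst hh; rfl⟩)
    obtain ⟨g, hg⟩ := MulAction.exists_smul_eq G T P
    have hgP : ∀ x : G, x ∈ P ↔ g⁻¹ * x * g ∈ T := by
      intro x
      rw [← hg]
      show x ∈ ((g • T : Sylow 2 G) : Subgroup G) ↔ _
      rw [Sylow.smul_def, Sylow.pointwise_smul_def, Subgroup.mem_pointwise_smul_iff_inv_smul_mem]
      have e : (MulAut.conj g)⁻¹ • x = g⁻¹ * x * g := by simp [MulAut.smul_def]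
      rw [e]
      exact Iff.rfl
    have hzP : g * u * g⁻¹ ∈ P := by
      rw [hgP]
      have e : g⁻¹ * (g * u * g⁻¹) * g = u := by group
      rw [e]; exact huT
    have hzc : ∀ p ∈ P, (g * u * g⁻¹) * p = p * (g * u * g⁻¹) := by
      intro p hp
      have h1 := (Subgroup.mem_centralizer_iff.1 (hTK ((hgP p).1 hp))) u rfl
      calc g * u * g⁻¹ * p = g * (u * (g⁻¹ * p * g)) * g⁻¹ := by group
        _ = g * (g⁻¹ * p * g * u) * g⁻¹ := by rw [h1]
        _ = p * (g * u * g⁻¹) := by group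
    have hx : (QuotientGroup.mk u : G ⧸ Subgroup.zpowers e) ∈ P.mapSurjective hsurj :=
      Subgroup.mem_map_of_mem _ hu
    have hy : ((QuotientGroup.mk g : G ⧸ Subgroup.zpowers e)⁻¹)⁻¹ * QuotientGroup.mk u *
        (QuotientGroup.mk g : G ⧸ Subgroup.zpowers e)⁻¹ ∈ P.mapSurjective hsurj := by
      rw [inv_inv]
      exact Subgroup.mem_map_of_mem (QuotientGroup.mk' (Subgroup.zpowers e)) hzP
    obtain ⟨nbar, hnbar, hconj⟩ := Sylow.conj_eq_normalizer_conj_of_mem (P.mapSurjective hsurj)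
      (QuotientGroup.mk u) ((QuotientGroup.mk g : G ⧸ Subgroup.zpowers e)⁻¹) hx hy
    obtain ⟨nn, rfl⟩ := QuotientGroup.mk_surjective nbar
    rw [inv_inv] at hconj
    have hζ : (g * u * g⁻¹)⁻¹ * (nn⁻¹ * u * nn) ∈ Subgroup.zpowers e := by
      rw [← QuotientGroup.eq]
      exact hconj
    have hvP : ∀ v ∈ P, nn⁻¹ * v * nn ∈ P := by
      intro v hv
      have h1 : (QuotientGroup.mk v : G ⧸ Subgroup.zpowers e) ∈ P.mapSurjective hsurj :=
        Subgroup.mem_map_of_mem _ hv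
      have h2 := (Subgroup.mem_normalizer_iff''.1 hnbar _).1 h1
      obtain ⟨p, hp, hpe⟩ := Subgroup.mem_map.1 h2
      have h3 : p⁻¹ * (nn⁻¹ * v * nn) ∈ Subgroup.zpowers e := by
        rw [← QuotientGroup.eq]
        exact hpe
      have h4 : nn⁻¹ * v * nn = p * (p⁻¹ * (nn⁻¹ * v * nn)) := by group
      rw [h4]
      exact mul_mem hp (hZP h3)
    have hcomm : (nn⁻¹ * u * nn) * (nn⁻¹ * v * nn) = (nn⁻¹ * v * nn) * (nn⁻¹ * u * nn) := by
      have h1 : nn⁻¹ * u * nn = (g * u * g⁻¹) * ((g * u * g⁻¹)⁻¹ * (nn⁻¹ * u * nn)) := by group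
      rw [h1, mul_assoc, hZc _ hζ (nn⁻¹ * v * nn) |>.symm, ← mul_assoc, hzc _ (hvP v hv), mul_assoc]
    have e1 : nn⁻¹ * u * nn * (nn⁻¹ * v * nn) = nn⁻¹ * (u * v) * nn := by group
    have e2 : nn⁻¹ * v * nn * (nn⁻¹ * u * nn) = nn⁻¹ * (v * u) * nn := by group
    rw [e1, e2] at hcomm
    exact mul_left_cancel (mul_right_cancel hcomm)
  · -- non-central case
    push Not at hcent
    obtain ⟨e, heP, he2, g, hge⟩ := hcent
    obtain ⟨C, hC⟩ : ∃ C : Subgroup G,
      C = Subgroup.centralizer ({x | x ∈ P ∧ x ^ 2 = 1} : Set G) := ⟨_, rfl⟩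
    have hPC : (P : Subgroup G) ≤ C := by
      intro r hr
      rw [hC, Subgroup.mem_centralizer_iff]
      intro x hx
      exact (omega_central hG P hr hx.1 hx.2).symm
    have hCne : C ≠ ⊤ := by
      intro h
      have h1 : g ∈ C := h ▸ Subgroup.mem_top g
      rw [hC, Subgroup.mem_centralizer_iff] at h1
      exact hge (h1 e ⟨heP, he2⟩).symm
    have hcard : Nat.card C < n := by
      have h1 := Subgroup.card_le_card_group C
      have h2 : Nat.card C ≠ Nat.card G := fun h => hCne ((Subgroup.card_eq_iff_eq_top C).1 h)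
      omega
    have hGC : TwoCentral C := by
      intro y ⟨k, hk⟩
      have hk' : orderOf (y : G) = 2 ^ k := by rw [Subgroup.orderOf_coe]; exact hk
      obtain ⟨Q₀, hQ₀⟩ := hG (y : G) ⟨k, hk'⟩
      obtain ⟨R, hHR, hRK⟩ := exists_sylow_between Q₀ hQ₀
        (H := (P : Subgroup G) ⊓ Subgroup.centralizer ({(y : G)} : Set G))
        (P.isPGroup'.to_le inf_le_left) inf_le_right
      have hER : ∀ x : G, x ∈ P → x ^ 2 = 1 → x ∈ R := by
        intro x hx hx2
        apply hHR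
        refine Subgroup.mem_inf.2 ⟨hx, ?_⟩
        rw [Subgroup.mem_centralizer_iff]
        intro h hh
        rw [Set.mem_singleton_iff] at hh
        subst hh
        have hyC : (y : G) ∈ Subgroup.centralizer ({x | x ∈ P ∧ x ^ 2 = 1} : Set G) := by
          rw [← hC]; exact y.2
        exact ((Subgroup.mem_centralizer_iff.1 hyC) x ⟨hx, hx2⟩).symm
      have hRC : (R : Subgroup G) ≤ C := by
        intro r hr
        rw [hC, Subgroup.mem_centralizer_iff]
        intro x hx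
        exact (omega_central hG R hr (hER x hx.1 hx.2) hx.2).symm
      refine ⟨R.subtype hRC, ?_⟩
      intro r hr
      have hr' : (r : G) ∈ R := Subgroup.mem_subgroupOf.1 hr
      rw [Subgroup.mem_centralizer_iff]
      intro h hh
      rw [Set.mem_singleton_iff] at hh
      subst hh
      exact Subtype.ext ((Subgroup.mem_centralizer_iff.1 (hRK hr')) (h : G) rfl)
    intro x y hx hy
    have := ih _ hcard C rfl hGC (P.subtype hPC) ⟨x, hPC hx⟩ ⟨y, hPC hy⟩
      (Subgroup.mem_subgroupOf.2 hx) (Subgroup.mem_subgroupOf.2 hy)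
    exact congrArg Subtype.val this

/-- A finite group G has commutative Sylow 2-subgroups if and only if every 2-element of G (element of order a power of 2) is 2-central, that is, its centralizer contains a Sylow 2-subgroup of G. -/
theorem result {G : Type*} [Group G] [Finite G] (P : Sylow 2 G) :
    IsMulCommutative (P : Subgroup G) ↔ ∀ x : G, (∃ k : ℕ, orderOf x = 2 ^ k) → (∃ Q : Sylow 2 G, (Q : Subgroup G) ≤ Subgroup.centralizer ({x} : Set G)) := by
  have : Fact (Nat.Prime 2) := ⟨Nat.prime_two⟩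
  constructor
  · intro hcomm x ⟨k, hk⟩
    have hz : IsPGroup 2 (Subgroup.zpowers x) :=
      IsPGroup.of_card (n := k) (by rw [Nat.card_zpowers, hk])
    obtain ⟨Q, hQ⟩ := hz.exists_le_sylow
    refine ⟨Q, ?_⟩
    obtain ⟨g, hg⟩ := MulAction.exists_smul_eq G P Q
    have hgQ : ∀ y : G, y ∈ Q ↔ g⁻¹ * y * g ∈ P := by
      intro y
      rw [← hg]
      show y ∈ ((g • P : Sylow 2 G) : Subgroup G) ↔ _
      rw [Sylow.smul_def, Sylow.pointwise_smul_def, Subgroup.mem_pointwise_smul_iff_inv_smul_mem]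
      have e : (MulAut.conj g)⁻¹ • y = g⁻¹ * y * g := by simp [MulAut.smul_def]
      rw [e]
      exact Iff.rfl
    have hxQ : x ∈ Q := hQ (Subgroup.mem_zpowers x)
    intro q hq
    rw [Subgroup.mem_centralizer_iff]
    intro h hh
    rw [Set.mem_singleton_iff] at hh
    subst hh
    have h1 := congrArg Subtype.val
      (hcomm.is_comm.comm (⟨g⁻¹ * h * g, (hgQ h).1 hxQ⟩ : (P : Subgroup G))
        ⟨g⁻¹ * q * g, (hgQ q).1 hq⟩)
    have h2 : g⁻¹ * h * g * (g⁻¹ * q * g) = g⁻¹ * q * g * (g⁻¹ * h * g) := h1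
    have e1 : g⁻¹ * h * g * (g⁻¹ * q * g) = g⁻¹ * (h * q) * g := by group
    have e2 : g⁻¹ * q * g * (g⁻¹ * h * g) = g⁻¹ * (q * h) * g := by group
    rw [e1, e2] at h2
    exact mul_left_cancel (mul_right_cancel h2)
  · intro h
    exact ⟨⟨fun a b => Subtype.ext (main _ G rfl h P a.1 b.1 a.2 b.2)⟩⟩

end Cfsg.Agent.S4194
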