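import Mathlib
import Cfsg.Statements.S4245
import Cfsg.Agent.Lib.Helper72.Kazarin

set_option autoImplicit false
open Cfsg

namespace Cfsg.Agent.S4245

universe u

/-- internal, quotient-stable form of the hypothesis -/
def Hyp (G : Type u) [Group G] : Prop :=
  ∃ (A B : Subgroup G) (p s r : ℕ), p.Prime ∧ A.index ∣ p ^ s ∧ B ≤ A ∧
    (∀ a ∈ A, ∀ b ∈ B, a * b * a⁻¹ ∈ B) ∧ (∃ g : G, B = Subgroup.zpowers g) ∧
    B.relIndex A ∣ 2 ^ r ∧ (∃ t ∈ A, ∀ a ∈ A, ∃ k : ℤ, a * t ^ k ∈ B)

theorem relIndex_map_dvd {G H : Type*} [Group G] [Group H] (f : G →* H) (A B : Subgroup G)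
    (hBA : B ≤ A) : (B.map f).relIndex (A.map f) ∣ B.relIndex A := by
  have h1 : ((B.subgroupOf A).map (f.subgroupMap A)) = (B.map f).subgroupOf (A.map f) := by
    ext ⟨x, hx⟩
    simp only [Subgroup.mem_map, Subgroup.mem_subgroupOf]
    constructor
    · rintro ⟨a, ha, hax⟩
      refine ⟨a, ha, ?_⟩
      have := congrArg Subtype.val hax
      simpa using this
    · rintro ⟨b, hb, hbx⟩
      exact ⟨⟨b, hBA hb⟩, hb, Subtype.ext hbx⟩
  rw [Subgroup.relIndex, ← h1]
  exact Subgroup.index_map_dvd _ (f.subgroupMap_surjective A)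

theorem hyp_quot {G : Type u} [Group G] [Finite G] (M : Subgroup G) [M.Normal] (h : Hyp G) :
    Hyp (G ⧸ M) := by
  obtain ⟨A, B, p, s, r, hp, hA, hBA, hnorm, ⟨g, hg⟩, hrel, t, htA, ht⟩ := h
  have hπ : Function.Surjective (QuotientGroup.mk' M) := QuotientGroup.mk'_surjective M
  refine ⟨A.map (QuotientGroup.mk' M), B.map (QuotientGroup.mk' M), p, s, r, hp, ?_,
    Subgroup.map_mono hBA, ?_, ⟨(QuotientGroup.mk' M) g, ?_⟩, ?_, (QuotientGroup.mk' M) t,
    Subgroup.mem_map_of_mem _ htA, ?_⟩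
  · exact (Subgroup.index_map_dvd A hπ).trans hA
  · rintro _ ⟨a, ha, rfl⟩ _ ⟨b, hb, rfl⟩
    exact ⟨a * b * a⁻¹, hnorm a ha b hb, by simp⟩
  · rw [hg, MonoidHom.map_zpowers]
  · exact (relIndex_map_dvd _ A B hBA).trans hrel
  · rintro _ ⟨a, ha, rfl⟩
    obtain ⟨k, hk⟩ := ht a ha
    exact ⟨k, a * t ^ k, hk, by simp⟩

theorem solvable_of_card_dvd_prime_pow {G : Type u} [Group G] [Finite G] (q k : ℕ) (hq : q.Prime)
    (h : Nat.card G ∣ q ^ k) : Group.IsSolvable G := by
  obtain ⟨j, -, hj⟩ := (Nat.dvd_prime_pow hq).mp h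
  have := Fact.mk hq
  have : Group.IsNilpotent G := (IsPGroup.of_card hj).isNilpotent
  infer_instance

theorem step_kazarin (n : ℕ)
    (ih : ∀ m < n, ∀ (G : Type u) [Group G] [Finite G], Nat.card G = m → Hyp G →
      Group.IsSolvable G)
    (G : Type u) [Group G] [Finite G] (hn : Nat.card G = n) (h : Hyp G) (x : G) (hx : x ≠ 1)
    (q k : ℕ) (hq : q.Prime)
    (hcl : (Subgroup.centralizer ({x} : Set G)).index = q ^ k) : Group.IsSolvable G := by
  have hMs : Group.IsSolvable (Subgroup.normalClosure ({x} : Set G)) :=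
    Cfsg.Agent.Lib.Helper72.Kazarin.kazarin x hq k hcl
  have hMn : (Subgroup.normalClosure ({x} : Set G)).Normal := Subgroup.normalClosure_normal
  have hxM : x ∈ Subgroup.normalClosure ({x} : Set G) :=
    Subgroup.subset_normalClosure (Set.mem_singleton x)
  have hlt : Nat.card (G ⧸ Subgroup.normalClosure ({x} : Set G)) < n := by
    rw [← hn, ← Subgroup.index_eq_card]
    have h1 := (Subgroup.normalClosure ({x} : Set G)).index_mul_card
    have h2 : 1 < Nat.card (Subgroup.normalClosure ({x} : Set G)) := by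
      rw [Subgroup.one_lt_card_iff_ne_bot]
      intro hbot
      rw [hbot] at hxM
      exact hx (Subgroup.mem_bot.mp hxM)
    have h3 : 0 < (Subgroup.normalClosure ({x} : Set G)).index :=
      Nat.pos_of_ne_zero Subgroup.index_ne_zero_of_finite
    nlinarith
  have hQ : Group.IsSolvable (G ⧸ Subgroup.normalClosure ({x} : Set G)) :=
    ih _ hlt (G ⧸ Subgroup.normalClosure ({x} : Set G)) rfl (hyp_quot _ h)
  exact Group.isSolvable_of_ker_le_range (Subgroup.normalClosure ({x} : Set G)).subtype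
    (QuotientGroup.mk' (Subgroup.normalClosure ({x} : Set G))) (by simp)

theorem invol_unique {G : Type*} [Group G] (g : G) (m : ℕ) (hm : orderOf g = 2 * m) (w : G)
    (hw : w ∈ Subgroup.zpowers g) (hw2 : w ^ 2 = 1) (hw1 : w ≠ 1) : w = g ^ m := by
  obtain ⟨i, rfl⟩ := Subgroup.mem_zpowers_iff.mp hw
  have h1 : (orderOf g : ℤ) ∣ i * 2 := by
    rw [orderOf_dvd_iff_zpow_eq_one, zpow_mul]
    exact_mod_cast hw2
  rw [hm] at h1
  push_cast at h1
  have h2 : (m : ℤ) ∣ i := by
    have : (2 : ℤ) * m ∣ 2 * i := by rwa [mul_comm i 2] at h1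
    exact (mul_dvd_mul_iff_left (by norm_num : (2:ℤ) ≠ 0)).mp this
  obtain ⟨c, rfl⟩ := h2
  have hz2 : (g ^ m) ^ 2 = 1 := by rw [← pow_mul, mul_comm, ← hm, pow_orderOf_eq_one]
  rw [zpow_mul, zpow_natCast] at hw1 ⊢
  rcases Int.even_or_odd c with ⟨d, rfl⟩ | ⟨d, rfl⟩
  · exfalso; apply hw1
    rw [← two_mul, zpow_mul, zpow_ofNat, hz2, one_zpow]
  · rw [zpow_add, zpow_mul, zpow_ofNat, hz2, one_zpow, one_mul, zpow_one]

theorem cyclic_sylow {G : Type u} [Group G] [Finite G] (A B : Subgroup G) (p s : ℕ)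
    (hp : p.Prime) (hp2 : p ≠ 2)
    (hA : A.index ∣ p ^ s) (hnorm : ∀ a ∈ A, ∀ b ∈ B, a * b * a⁻¹ ∈ B)
    (hBodd : ¬ 2 ∣ Nat.card B)
    (t : G) (htA : t ∈ A) (ht : ∀ a ∈ A, ∃ k : ℤ, a * t ^ k ∈ B) :
    ∃ P : Sylow 2 G, IsCyclic (P : Subgroup G) := by
  have : Fact (Nat.Prime 2) := ⟨Nat.prime_two⟩
  have hB'n : (B.subgroupOf A).Normal := ⟨fun b hb a => by
    rw [Subgroup.mem_subgroupOf] at hb ⊢
    exact hnorm a a.2 b hb⟩
  have hcyc : IsCyclic (A ⧸ B.subgroupOf A) := by
    rw [isCyclic_iff_exists_zpowers_eq_top]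
    refine ⟨QuotientGroup.mk ⟨t, htA⟩, ?_⟩
    rw [eq_top_iff]
    rintro x -
    obtain ⟨a, rfl⟩ := QuotientGroup.mk_surjective x
    obtain ⟨k, hk⟩ := ht a a.2
    rw [Subgroup.mem_zpowers_iff]
    refine ⟨-k, ?_⟩
    have h1 : ((a * ⟨t, htA⟩ ^ k : A) : A ⧸ B.subgroupOf A) = 1 := by
      rw [QuotientGroup.eq_one_iff, Subgroup.mem_subgroupOf]
      simpa using hk
    rw [QuotientGroup.mk_mul, QuotientGroup.mk_zpow] at h1
    rw [zpow_neg, inv_eq_iff_eq_inv, eq_comm, inv_eq_iff_mul_eq_one]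
    exact h1
  have hScyc : IsCyclic ((default : Sylow 2 A) : Subgroup A) := by
    apply isCyclic_of_injective ((QuotientGroup.mk' (B.subgroupOf A)).comp
      ((default : Sylow 2 A) : Subgroup A).subtype)
    rw [injective_iff_map_eq_one]
    intro x hx
    have hxB : ((x : A) : G) ∈ B := by
      have : (x : A) ∈ B.subgroupOf A := by
        rw [← QuotientGroup.eq_one_iff]; simpa using hx
      exact this
    obtain ⟨k, hk⟩ := (default : Sylow 2 A).2 x
    have ho1 : orderOf x ∣ 2 ^ k := orderOf_dvd_of_pow_eq_one hk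
    have ho2 : orderOf x ∣ Nat.card B := by
      have : orderOf x = orderOf ((x : A) : G) := by
        rw [Subgroup.orderOf_coe, Subgroup.orderOf_coe]
      rw [this]
      exact Subgroup.orderOf_dvd_natCard B hxB
    have hcop : Nat.Coprime (2 ^ k) (Nat.card B) := by
      apply Nat.Coprime.pow_left
      rw [Nat.Prime.coprime_iff_not_dvd Nat.prime_two]
      exact hBodd
    exact orderOf_eq_one_iff.mp (Nat.eq_one_of_dvd_coprimes hcop ho1 ho2)
  have hAodd : ¬ 2 ∣ A.index := by
    intro h2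
    have := Nat.prime_two.dvd_of_dvd_pow (h2.trans hA)
    exact hp2 ((Nat.prime_dvd_prime_iff_eq Nat.prime_two hp).mp this).symm
  have hS'card : Nat.card (((default : Sylow 2 A) : Subgroup A).map A.subtype) =
      2 ^ (Nat.card G).factorization 2 := by
    rw [Subgroup.card_map_of_injective A.subtype_injective, Sylow.card_eq_multiplicity]
    congr 1
    have h1 : Nat.card G = Nat.card A * A.index := (A.card_mul_index).symm
    rw [h1, Nat.factorization_mul (Nat.card_pos.ne') (Subgroup.index_ne_zero_of_finite),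
      Finsupp.add_apply, Nat.factorization_eq_zero_of_not_dvd hAodd, add_zero]
  refine ⟨Sylow.ofCard _ hS'card, ?_⟩
  have : IsCyclic (((default : Sylow 2 A) : Subgroup A).map A.subtype) :=
    isCyclic_of_surjective (((default : Sylow 2 A) : Subgroup A).equivMapOfInjective A.subtype
      A.subtype_injective).toMonoidHom (MulEquiv.surjective _)
  exact this

theorem step_complement (n : ℕ)
    (ih : ∀ m < n, ∀ (G : Type u) [Group G] [Finite G], Nat.card G = m → Hyp G →
      Group.IsSolvable G)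
    (G : Type u) [Group G] [Finite G] (hn : Nat.card G = n)
    (A B : Subgroup G) (p s r : ℕ) (hp : p.Prime) (hp2 : p ≠ 2) (hA : A.index ∣ p ^ s)
    (hBA : B ≤ A)
    (hnorm : ∀ a ∈ A, ∀ b ∈ B, a * b * a⁻¹ ∈ B) (g : G) (hg : B = Subgroup.zpowers g)
    (hodd : ¬ 2 ∣ orderOf g)
    (hrel : B.relIndex A ∣ 2 ^ r) (t : G) (htA : t ∈ A) (ht : ∀ a ∈ A, ∃ k : ℤ, a * t ^ k ∈ B)
    (hGeven : 2 ∣ Nat.card G) : Group.IsSolvable G := by
  have hBodd : ¬ 2 ∣ Nat.card B := by rw [hg, Nat.card_zpowers]; exact hodd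
  obtain ⟨P, hPc⟩ : ∃ P : Sylow 2 G, IsCyclic (P : Subgroup G) :=
    cyclic_sylow A B p s hp hp2 hA hnorm hBodd t htA ht
  have hmin : (Nat.card G).minFac = 2 := (Nat.minFac_eq_two_iff _).mpr hGeven
  have : Fact (Nat.Prime 2) := ⟨Nat.prime_two⟩
  have hNC := IsCyclic.normalizer_le_centralizer hmin hPc
  have hcomp : (MonoidHom.transferSylow P hNC).ker.IsComplement' P := IsCyclic.isComplement' hmin hPc
  have hKodd : ¬ 2 ∣ Nat.card (MonoidHom.transferSylow P hNC).ker :=
    MonoidHom.not_dvd_card_ker_transferSylow P hNC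
  have hcard : Nat.card (MonoidHom.transferSylow P hNC).ker * Nat.card P = Nat.card G :=
    hcomp.card_mul_card
  have hgK : g ∈ (MonoidHom.transferSylow P hNC).ker := by
    rw [MonoidHom.mem_ker]
    obtain ⟨k, hk⟩ := P.2 ((MonoidHom.transferSylow P hNC) g)
    have ho1 : orderOf ((MonoidHom.transferSylow P hNC) g) ∣ 2 ^ k := orderOf_dvd_of_pow_eq_one hk
    have ho2 : orderOf ((MonoidHom.transferSylow P hNC) g) ∣ orderOf g := orderOf_map_dvd _ g
    have hcop : Nat.Coprime (2 ^ k) (orderOf g) := by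
      apply Nat.Coprime.pow_left
      rw [Nat.Prime.coprime_iff_not_dvd Nat.prime_two]
      exact hodd
    exact orderOf_eq_one_iff.mp (Nat.eq_one_of_dvd_coprimes hcop ho1 ho2)
  have hBK : B ≤ (MonoidHom.transferSylow P hNC).ker := by
    rw [hg, Subgroup.zpowers_le]; exact hgK
  have hPne : Nat.card P ≠ 1 := by
    intro h1
    rw [h1, mul_one] at hcard
    exact hKodd (hcard ▸ hGeven)
  have hlt : Nat.card (MonoidHom.transferSylow P hNC).ker < n := by
    have hPpos : 0 < Nat.card P := Nat.card_pos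
    have hKpos : 0 < Nat.card (MonoidHom.transferSylow P hNC).ker := Nat.card_pos
    rw [← hn, ← hcard]
    have : 2 ≤ Nat.card P := by omega
    nlinarith
  have hKs : Group.IsSolvable (MonoidHom.transferSylow P hNC).ker := by
    apply ih _ hlt (MonoidHom.transferSylow P hNC).ker rfl
    refine ⟨B.subgroupOf (MonoidHom.transferSylow P hNC).ker,
      B.subgroupOf (MonoidHom.transferSylow P hNC).ker, p, s, 0, hp, ?_, le_rfl, ?_,
      ⟨⟨g, hgK⟩, ?_⟩, ?_, 1, one_mem _, ?_⟩
    · show B.relIndex (MonoidHom.transferSylow P hNC).ker ∣ p ^ s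
      have h1 : B.relIndex (MonoidHom.transferSylow P hNC).ker ∣ 2 ^ r * p ^ s := by
        refine (Subgroup.relIndex_dvd_index_of_le hBK).trans ?_
        rw [← Subgroup.relIndex_mul_index hBA]
        exact mul_dvd_mul hrel hA
      have h2 : B.relIndex (MonoidHom.transferSylow P hNC).ker ∣
          Nat.card (MonoidHom.transferSylow P hNC).ker := Subgroup.relIndex_dvd_card B _
      have hcop : Nat.Coprime (B.relIndex (MonoidHom.transferSylow P hNC).ker) (2 ^ r) := by
        apply Nat.Coprime.pow_right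
        rw [Nat.coprime_comm, Nat.Prime.coprime_iff_not_dvd Nat.prime_two]
        exact fun h => hKodd (h.trans h2)
      exact hcop.dvd_of_dvd_mul_left h1
    · intro a ha b hb
      exact mul_mem (mul_mem ha hb) (inv_mem ha)
    · ext x
      rw [Subgroup.mem_subgroupOf, hg, Subgroup.mem_zpowers_iff, Subgroup.mem_zpowers_iff]
      constructor
      · rintro ⟨k, hk⟩; exact ⟨k, Subtype.ext (by simpa using hk)⟩
      · rintro ⟨k, hk⟩; exact ⟨k, by simpa using congrArg Subtype.val hk⟩
    · rw [Subgroup.relIndex_self]; simp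
    · intro a ha; exact ⟨0, by simpa using ha⟩
  have : Group.IsSolvable P := by
    have : Group.IsNilpotent P := P.2.isNilpotent
    infer_instance
  exact Group.isSolvable_of_ker_le_range (MonoidHom.transferSylow P hNC).ker.subtype
    (MonoidHom.transferSylow P hNC) (by simp)

theorem aux (n : ℕ) : ∀ (G : Type u) [Group G] [Finite G], Nat.card G = n → Hyp G →
    Group.IsSolvable G := by
  induction n using Nat.strong_induction_on with
  | _ n ih =>
    intro G _ _ hn h
    have h' := h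
    obtain ⟨A, B, p, s, r, hp, hA, hBA, hnorm, ⟨g, hg⟩, hrel, t, htA, ht⟩ := h
    by_cases heven : 2 ∣ orderOf g
    · obtain ⟨m, hm⟩ := heven
      have hgo : 0 < orderOf g := orderOf_pos g
      have hz1 : g ^ m ≠ 1 := pow_ne_one_of_lt_orderOf (by omega) (by omega)
      have hz2 : (g ^ m) ^ 2 = 1 := by rw [← pow_mul, mul_comm, ← hm, pow_orderOf_eq_one]
      have hzB : g ^ m ∈ B := by rw [hg]; exact Subgroup.pow_mem _ (Subgroup.mem_zpowers g) _
      have hle : A ≤ Subgroup.centralizer ({g ^ m} : Set G) := by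
        intro a ha
        rw [Subgroup.mem_centralizer_iff]
        intro h hh
        rw [Set.mem_singleton_iff] at hh
        subst hh
        have hw : a * g ^ m * a⁻¹ = g ^ m := by
          apply invol_unique g m hm
          · rw [← hg]; exact hnorm a ha _ hzB
          · rw [conj_pow, hz2, mul_one, mul_inv_cancel]
          · rw [Ne, conj_eq_one_iff]; exact hz1
        rw [mul_inv_eq_iff_eq_mul] at hw
        exact hw.symm
      obtain ⟨k, -, hk⟩ := (Nat.dvd_prime_pow hp).mp ((Subgroup.index_dvd_of_le hle).trans hA)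
      exact step_kazarin n ih G hn h' (g ^ m) hz1 p k hp hk
    · by_cases hpp : ∃ q k, q.Prime ∧ B.index ∣ q ^ k
      · obtain ⟨q, k, hq, hqk⟩ := hpp
        by_cases hg1 : g = 1
        · have hb : B = ⊥ := by rw [hg, hg1, Subgroup.zpowers_one_eq_bot]
          rw [hb, Subgroup.index_bot] at hqk
          exact solvable_of_card_dvd_prime_pow q k hq hqk
        · have hle : B ≤ Subgroup.centralizer ({g} : Set G) := by
            rw [hg]
            intro b hb
            obtain ⟨i, rfl⟩ := Subgroup.mem_zpowers_iff.mp hb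
            rw [Subgroup.mem_centralizer_iff]
            intro h hh
            rw [Set.mem_singleton_iff] at hh
            subst hh
            exact (Commute.zpow_right (Commute.refl _) i).eq
          obtain ⟨j, -, hj⟩ :=
            (Nat.dvd_prime_pow hq).mp ((Subgroup.index_dvd_of_le hle).trans hqk)
          exact step_kazarin n ih G hn h' g hg1 q j hq hj
      · have hp2 : p ≠ 2 := by
          rintro rfl
          apply hpp
          refine ⟨2, r + s, Nat.prime_two, ?_⟩
          rw [← Subgroup.relIndex_mul_index hBA, pow_add]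
          exact mul_dvd_mul hrel hA
        have hGeven : 2 ∣ Nat.card G := by
          by_contra hodd
          apply hpp
          refine ⟨p, s, hp, ?_⟩
          have h1 : B.relIndex A = 1 := by
            have hd : B.relIndex A ∣ Nat.card G :=
              (Subgroup.relIndex_dvd_card B A).trans (Subgroup.card_subgroup_dvd_card A)
            obtain ⟨j, -, hj⟩ := (Nat.dvd_prime_pow Nat.prime_two).mp hrel
            rcases Nat.eq_zero_or_pos j with rfl | hjpos
            · simpa using hj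
            · exfalso; apply hodd; rw [hj] at hd; exact (dvd_pow_self 2 hjpos.ne').trans hd
          rw [← Subgroup.relIndex_mul_index hBA, h1, one_mul]; exact hA
        exact step_complement n ih G hn A B p s r hp hp2 hA hBA hnorm g hg heven hrel t htA ht
          hGeven

/-- Let G be a finite group with a subgroup A of prime-power index. Suppose A has a normal cyclic subgroup B such that A/B is cyclic of order a power of 2. Then G is solvable. -/
theorem result {G : Type*} [Group G] [Finite G] (A : Subgroup G) (p s : ℕ) (hp : p.Prime) (hA : A.index = p ^ s)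
    (B : Subgroup A) [B.Normal] (hB : IsCyclic B) (hAB : IsCyclic (A ⧸ B)) (r : ℕ) (hr : Nat.card (A ⧸ B) = 2 ^ r) :
    Group.IsSolvable G := by
  apply aux _ G rfl
  obtain ⟨g0, hg0⟩ := IsCyclic.exists_generator (α := B)
  obtain ⟨γ, hγ⟩ := IsCyclic.exists_generator (α := A ⧸ B)
  obtain ⟨t0, rfl⟩ := QuotientGroup.mk_surjective γ
  refine ⟨A, B.map A.subtype, p, s, r, hp, hA ▸ dvd_rfl, Subgroup.map_subtype_le B, ?_,
    ⟨((g0 : A) : G), ?_⟩, ?_, (t0 : G), t0.2, ?_⟩
  · rintro a ha _ ⟨b, hb, rfl⟩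
    refine ⟨⟨a, ha⟩ * b * ⟨a, ha⟩⁻¹, ‹B.Normal›.conj_mem b hb ⟨a, ha⟩, by simp⟩
  · ext x
    rw [Subgroup.mem_map, Subgroup.mem_zpowers_iff]
    constructor
    · rintro ⟨b, hb, rfl⟩
      obtain ⟨k, hk⟩ := Subgroup.mem_zpowers_iff.mp (hg0 ⟨b, hb⟩)
      refine ⟨k, ?_⟩
      have := congrArg (fun y : B => ((y : A) : G)) hk
      simpa using this
    · rintro ⟨k, rfl⟩
      exact ⟨((g0 ^ k : B) : A), (g0 ^ k).2, by simp⟩
  · have h1 : (B.map A.subtype).subgroupOf A = B :=
      Subgroup.comap_map_eq_self_of_injective A.subtype_injective B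
    rw [Subgroup.relIndex, h1, Subgroup.index_eq_card, hr]
  · intro a ha
    obtain ⟨j, hj⟩ := Subgroup.mem_zpowers_iff.mp (hγ (QuotientGroup.mk ⟨a, ha⟩))
    have hmem : (⟨a, ha⟩ * t0 ^ (-j) : A) ∈ B := by
      rw [← QuotientGroup.eq_one_iff, QuotientGroup.mk_mul, QuotientGroup.mk_zpow, ← hj, zpow_neg,
        mul_inv_cancel]
    exact ⟨-j, ⟨a, ha⟩ * t0 ^ (-j), hmem, by simp⟩

end Cfsg.Agent.S4245
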