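import Cfsg.Statements.S4249
import Cfsg.Agent.Lib.Helper34.Hughes

set_option autoImplicit false
open Cfsg

namespace Cfsg.Agent.S4249

/-- Let G be a finite group and p a prime such that G is not a p-group, and suppose the Hughes subgroup H_p(G), generated by all elements g with g^p ≠ 1, is a proper subgroup. Then H_p(G) is nilpotent and has index p in G. -/
theorem result {G : Type*} [Group G] [Finite G] (p : ℕ) (hp : p.Prime) (hG : ¬ IsPGroup p G)
    (hH : Subgroup.closure {g : G | g ^ p ≠ 1} ≠ ⊤) :
    Group.IsNilpotent (Subgroup.closure {g : G | g ^ p ≠ 1}) ∧ (Subgroup.closure {g : G | g ^ p ≠ 1}).index = p := by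
  classical
  have hHn : (Subgroup.closure {g : G | g ^ p ≠ 1}).Normal := by
    constructor
    intro n hn g
    induction hn using Subgroup.closure_induction with
    | mem a ha =>
      apply Subgroup.subset_closure
      intro h
      apply ha
      rw [conj_pow] at h
      have h1 : a ^ p = g⁻¹ * (g * a ^ p * g⁻¹) * g := by group
      rw [h1, h]; group
    | one => simp
    | mul a b _ _ iha ihb =>
      have e : g * (a * b) * g⁻¹ = (g * a * g⁻¹) * (g * b * g⁻¹) := by group
      rw [e]; exact Subgroup.mul_mem _ iha ihb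
    | inv a _ iha =>
      have e : g * a⁻¹ * g⁻¹ = (g * a * g⁻¹)⁻¹ := by group
      rw [e]; exact Subgroup.inv_mem _ iha
  have hout : ∀ g : G, g ∉ Subgroup.closure {g : G | g ^ p ≠ 1} → g ^ p = 1 := by
    intro g hg
    by_contra h
    exact hg (Subgroup.subset_closure h)
  obtain ⟨x, hx⟩ : ∃ x : G, x ∉ Subgroup.closure {g : G | g ^ p ≠ 1} := by
    by_contra hcon
    push Not at hcon
    exact hH (eq_top_iff.mpr fun g _ => hcon g)
  have hk : Cfsg.Agent.Lib.Helper34.KegelPair p (Subgroup.closure {g : G | g ^ p ≠ 1}) x := by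
    refine ⟨?_, ?_⟩
    · rw [Subgroup.normalizer_eq_top_iff.mpr hHn]; trivial
    · intro h hh
      apply hout
      intro hmem
      apply hx
      have h2 := Subgroup.mul_mem _ (Subgroup.inv_mem _ hh) hmem
      rwa [inv_mul_cancel_left] at h2
  have hnil := Cfsg.Agent.Lib.Helper34.kegel_nilpotent p hp _ x hk
  have hnp : ¬ IsPGroup p ↥(Subgroup.closure {g : G | g ^ p ≠ 1}) := by
    intro hHp
    apply hG
    intro g
    by_cases hg : g ∈ Subgroup.closure {g : G | g ^ p ≠ 1}
    · obtain ⟨k, hk⟩ := hHp ⟨g, hg⟩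
      exact ⟨k, congrArg Subtype.val hk⟩
    · exact ⟨1, by rw [pow_one]; exact hout g hg⟩
  exact ⟨hnil, Cfsg.Agent.Lib.Helper34.hughes_index p hp _ hH hout hnil hnp⟩

end Cfsg.Agent.S4249
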