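import Cfsg.Statements.S4257
import Cfsg.Agent.Lib.Helper9.S4257.Assembly
import Cfsg.Agent.Lib.Helper15.S4257.B
import Cfsg.Agent.Lib.Helper15.S4257.C
import Cfsg.Agent.Lib.Helper15.S4257.E3
import Cfsg.Agent.Lib.Helper15.S4257.J
import Cfsg.Agent.Lib.Helper15.S4257.O
import Cfsg.Agent.Lib.Helper15.S4257.S5a
import Cfsg.Agent.Lib.Helper27.S4257.A
import Cfsg.Agent.Lib.Helper27.S4257.E4
import Cfsg.Agent.Lib.Helper27.S4257.E5
import Cfsg.Agent.Lib.Helper27.S4257.E6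
import Cfsg.Agent.Lib.Helper27.S4257.E7
import Cfsg.Agent.Lib.Helper59.S4257.D
import Cfsg.Agent.Lib.Helper59.S4257.S5b
import Cfsg.Agent.Lib.Helper59.S4257.S6
import Cfsg.Agent.Lib.Helper59.S4257.S7
import Cfsg.Agent.Lib.Helper57.S4257.E1
import Cfsg.Agent.Lib.Helper57.S4257.E2

set_option autoImplicit false
open Cfsg

namespace Cfsg.Agent.S4257

/-- Let G be a finite group. Call a prime a vertex if it divides some conjugacy class size of G, and two distinct vertices adjacent if their product divides some class size. If this graph is connected, then its diameter is at most 3: any two distinct vertices p and q are adjacent, or joined through one or two intermediate vertices. -/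
theorem result {G : Type*} [Group G] [Finite G]
    (hconn : ∀ S : Set ℕ, (∃ p ∈ S, (p.Prime ∧ ∃ g : G, p ∣ (Subgroup.centralizer ({g} : Set G)).index)) → (∃ q ∉ S, (q.Prime ∧ ∃ g : G, q ∣ (Subgroup.centralizer ({g} : Set G)).index)) →
      ∃ p q : ℕ, (p.Prime ∧ ∃ g : G, p ∣ (Subgroup.centralizer ({g} : Set G)).index) ∧ (q.Prime ∧ ∃ g : G, q ∣ (Subgroup.centralizer ({g} : Set G)).index) ∧ p ∈ S ∧ q ∉ S ∧ (∃ g : G, p * q ∣ (Subgroup.centralizer ({g} : Set G)).index))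
    (p q : ℕ) (hp : (p.Prime ∧ ∃ g : G, p ∣ (Subgroup.centralizer ({g} : Set G)).index)) (hq : (q.Prime ∧ ∃ g : G, q ∣ (Subgroup.centralizer ({g} : Set G)).index)) (hpq : p ≠ q) :
    (∃ g : G, p * q ∣ (Subgroup.centralizer ({g} : Set G)).index) ∨ (∃ r : ℕ, (r.Prime ∧ ∃ g : G, r ∣ (Subgroup.centralizer ({g} : Set G)).index) ∧ r ≠ p ∧ r ≠ q ∧ (∃ g : G, p * r ∣ (Subgroup.centralizer ({g} : Set G)).index) ∧ (∃ g : G, r * q ∣ (Subgroup.centralizer ({g} : Set G)).index)) ∨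
      (∃ r s : ℕ, (r.Prime ∧ ∃ g : G, r ∣ (Subgroup.centralizer ({g} : Set G)).index) ∧ (s.Prime ∧ ∃ g : G, s ∣ (Subgroup.centralizer ({g} : Set G)).index) ∧ r ≠ p ∧ s ≠ q ∧ r ≠ s ∧ r ≠ q ∧ s ≠ p ∧
        (∃ g : G, p * r ∣ (Subgroup.centralizer ({g} : Set G)).index) ∧ (∃ g : G, r * s ∣ (Subgroup.centralizer ({g} : Set G)).index) ∧ (∃ g : G, s * q ∣ (Subgroup.centralizer ({g} : Set G)).index)) := by
  exact Cfsg.Agent.Lib.Helper9.S4257.diameter_of_main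
    (fun σ τ p q hC g => Cfsg.Agent.Lib.Helper9.S4257.main_of_pkgs
      Cfsg.Agent.Lib.Helper15.S4257.pkgJ Cfsg.Agent.Lib.Helper15.S4257.pkgO
      Cfsg.Agent.Lib.Helper15.S4257.pkgU Cfsg.Agent.Lib.Helper27.S4257.pkgA
      Cfsg.Agent.Lib.Helper15.S4257.pkgB Cfsg.Agent.Lib.Helper59.S4257.pkgD
      Cfsg.Agent.Lib.Helper15.S4257.pkgC Cfsg.Agent.Lib.Helper15.S4257.pkgS5a
      Cfsg.Agent.Lib.Helper59.S4257.pkgS5b Cfsg.Agent.Lib.Helper59.S4257.pkgS6
      Cfsg.Agent.Lib.Helper59.S4257.pkgS7 Cfsg.Agent.Lib.Helper57.S4257.pkgE1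
      Cfsg.Agent.Lib.Helper57.S4257.pkgE2 Cfsg.Agent.Lib.Helper15.S4257.pkgE3
      Cfsg.Agent.Lib.Helper27.S4257.pkgE4 Cfsg.Agent.Lib.Helper27.S4257.pkgE5
      Cfsg.Agent.Lib.Helper27.S4257.pkgE6 Cfsg.Agent.Lib.Helper27.S4257.pkgE7 σ τ p q hC g)
    hconn p q hp hq hpq

end Cfsg.Agent.S4257
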