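import Cfsg.Statements.S4271
import Cfsg.Agent.Lib.Helper90.PronormalKMR
import Cfsg.Agent.S3820

set_option autoImplicit false
open Cfsg

namespace Cfsg.Agent.S4271

open Cfsg.Agent.Lib.Helper90

/-- Let p be a prime and G a finite group with a normal subgroup A such that every subgroup of A containing a Sylow p-subgroup of A is pronormal in A, and the Sylow p-subgroups of G/A are self-normalizing. Let T be a Sylow p-subgroup of A. Then every subgroup of G containing a Sylow p-subgroup of G is pronormal in G if and only if every subgroup of N_G(T)/T containing a Sylow p-subgroup of N_G(T)/T is pronormal in N_G(T)/T. (Pronormal: H and gHg⁻¹ are conjugate inside the subgroup they generate, for every g.) -/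
theorem result {G : Type*} [Group G] [Finite G] {p : ℕ} [Fact p.Prime]
    (A : Subgroup G) [A.Normal] (hA : (∀ K : Subgroup ↥A, (∃ P : Sylow p ↥A, (P : Subgroup ↥A) ≤ K) → Cfsg.IsPronormal K))
    (hQ : ∀ P : Sylow p (G ⧸ A), Subgroup.normalizer ((P : Subgroup (G ⧸ A)) : Set (G ⧸ A)) = P)
    (T : Subgroup G) (hT : ∃ P : Sylow p ↥A, (P : Subgroup ↥A).map A.subtype = T) [(T.subgroupOf (Subgroup.normalizer (T : Set G))).Normal] :
    (∀ K : Subgroup G, (∃ P : Sylow p G, (P : Subgroup G) ≤ K) → Cfsg.IsPronormal K) ↔ (∀ K : Subgroup (↥(Subgroup.normalizer (T : Set G)) ⧸ T.subgroupOf (Subgroup.normalizer (T : Set G))), (∃ P : Sylow p (↥(Subgroup.normalizer (T : Set G)) ⧸ T.subgroupOf (Subgroup.normalizer (T : Set G))), (P : Subgroup (↥(Subgroup.normalizer (T : Set G)) ⧸ T.subgroupOf (Subgroup.normalizer (T : Set G)))) ≤ K) → Cfsg.IsPronormal K) := by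
  constructor
  · intro hG
    exact sylOver_quot_of A T hT hG
  · rintro hN K ⟨P, hPK⟩
    obtain ⟨c, S, hSH, hTS⟩ := exists_conj_over A T hT K P hPK
    apply isPronormal_of_cj K c
    rw [Cfsg.Agent.S3820.result (S : Subgroup G) _ hSH (sylow_isPronormal S)]
    intro g hg
    -- `g = a * s` with `a ∈ A`, `s ∈ S`
    have hgA : ∃ a ∈ A, ∃ s ∈ (S : Subgroup G), g = a * s := by
      have h1 := hQ (Sylow.mapSurjective (QuotientGroup.mk'_surjective A) S)
      rw [Sylow.coe_mapSurjective] at h1
      have h2 : QuotientGroup.mk' A g ∈ Subgroup.normalizer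
          (((S : Subgroup G).map (QuotientGroup.mk' A) : Subgroup (G ⧸ A)) : Set (G ⧸ A)) := by
        rw [Subgroup.mem_normalizer_iff_map_conj_eq]
        have h3 := map_cj (QuotientGroup.mk' A) (S : Subgroup G) g
        rw [cj_of_mem_normalizer _ g hg] at h3
        exact h3.symm
      rw [h1] at h2
      obtain ⟨s, hs, hsg⟩ := h2
      refine ⟨g * s⁻¹, ?_, s, hs, by group⟩
      rw [← QuotientGroup.ker_mk' A, MonoidHom.mem_ker, map_mul, map_inv, hsg, mul_inv_cancel]
    obtain ⟨a, ha, s, hs, rfl⟩ := hgA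
    have e : (K.map (MulAut.conj c).toMonoidHom).map (MulAut.conj (a * s)).toMonoidHom
        = (K.map (MulAut.conj c).toMonoidHom).map (MulAut.conj a).toMonoidHom := by
      rw [cj_mul, cj_of_mem _ s (hSH hs)]
    rw [e]
    exact core_pron A T hT hA hN _ S hSH hTS a ha

end Cfsg.Agent.S4271
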