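import Cfsg.Statements.S4292
import Mathlib
import Cfsg.Agent.Lib.Helper71.FpfFrob
import Cfsg.Agent.Lib.Helper71.FpfProd
import Cfsg.Agent.Lib.Helper91.FpfCyclic

set_option autoImplicit false
open Cfsg

namespace Cfsg.Agent.S4292

open Cfsg.Agent.Lib.Helper71

/-- A nontrivial finite group mapping injectively into a Frobenius complement is a Frobenius
complement. -/
theorem frob_of_injective {A : Type*} [Group A] [Finite A] [Nontrivial A]
    {L : Type*} [Group L] [Finite L] (H : Subgroup L) (hH : Cfsg.IsFrobeniusComplement H)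
    (f : A →* H) (hf : Function.Injective f) :
    ∃ (L' : Type) (_ : Group L') (_ : Finite L') (C : Subgroup L'),
      Cfsg.IsFrobeniusComplement C ∧ Nonempty (A ≃* C) := by
  obtain ⟨Z, hZn, hZ1, hZc, hZcop, hZf⟩ := exists_abelian_normal_of_frobeniusComplement H hH
  have := hZn
  have : Nontrivial Z := (Subgroup.nontrivial_iff_ne_bot Z).mpr hZ1
  let φ : A →* MulAut Z := (MulAut.conjNormal (H := Z)).comp (H.subtype.comp f)
  apply exists_frobeniusComplement_of_fpf φ
  intro a ha v hv
  have h1 : ((f a : H) : L) * v * ((f a : H) : L)⁻¹ = v := by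
    have := congrArg Subtype.val hv
    simpa [φ, MulAut.conjNormal_apply] using this
  have hne : ((f a : H) : L) ≠ 1 := by
    intro h
    apply ha
    apply hf
    rw [map_one]
    exact Subtype.ext h
  exact Subtype.ext (hZf (f a) (f a).2 hne v v.2 h1)

theorem zpowers_comm {A : Type*} [Group A] (a : A) (x y : Subgroup.zpowers a) :
    x * y = y * x := by
  obtain ⟨i, hi⟩ := x.2
  obtain ⟨k, hk⟩ := y.2
  apply Subtype.ext
  simp only [Subgroup.coe_mul, ← hi, ← hk, ← zpow_add, add_comm]

/-- If a direct product is a Frobenius complement, the factors have coprime orders. -/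
theorem coprime_of_frob_prod {A B : Type*} [Group A] [Finite A] [Group B] [Finite B]
    {L : Type*} [Group L] [Finite L] (H : Subgroup L) (hH : Cfsg.IsFrobeniusComplement H)
    (e : (A × B) ≃* H) : (Nat.card A).Coprime (Nat.card B) := by
  rw [Nat.coprime_iff_gcd_eq_one]
  by_contra hne
  obtain ⟨q, hq, hqd⟩ := Nat.exists_prime_and_dvd hne
  have : Fact q.Prime := ⟨hq⟩
  obtain ⟨a, ha⟩ := exists_prime_orderOf_dvd_card' q (hqd.trans (Nat.gcd_dvd_left _ _))
  obtain ⟨b, hb⟩ := exists_prime_orderOf_dvd_card' q (hqd.trans (Nat.gcd_dvd_right _ _))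
  obtain ⟨Z, hZn, hZ1, hZc, hZcop, hZf⟩ := exists_abelian_normal_of_frobeniusComplement H hH
  have := hZn
  have : Nontrivial Z := (Subgroup.nontrivial_iff_ne_bot Z).mpr hZ1
  let _ : CommGroup Z :=
    { (inferInstance : Group Z) with mul_comm := fun x y => Subtype.ext (hZc x x.2 y y.2) }
  let j : ↥(Subgroup.zpowers a) × ↥(Subgroup.zpowers b) →* A × B :=
    MonoidHom.prodMap (Subgroup.zpowers a).subtype (Subgroup.zpowers b).subtype
  have hj : Function.Injective j := by
    rintro ⟨x1, x2⟩ ⟨y1, y2⟩ h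
    have h1 : (x1 : A) = y1 := congrArg Prod.fst h
    have h2 : (x2 : B) = y2 := congrArg Prod.snd h
    exact Prod.ext (Subtype.ext h1) (Subtype.ext h2)
  let φ : ↥(Subgroup.zpowers a) × ↥(Subgroup.zpowers b) →* MulAut Z :=
    (MulAut.conjNormal (H := Z)).comp (H.subtype.comp (e.toMonoidHom.comp j))
  have hfpf : ∀ x : ↥(Subgroup.zpowers a) × ↥(Subgroup.zpowers b), x ≠ 1 →
      ∀ v : Z, φ x v = v → v = 1 := by
    intro x hx v hv
    have h1 : ((e (j x) : H) : L) * v * ((e (j x) : H) : L)⁻¹ = v := by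
      have := congrArg Subtype.val hv
      simpa [φ, MulAut.conjNormal_apply] using this
    have hne : ((e (j x) : H) : L) ≠ 1 := by
      intro h
      apply hx
      apply hj
      apply e.injective
      rw [map_one, map_one]
      exact Subtype.ext h
    exact Subtype.ext (hZf (e (j x)) (e (j x)).2 hne v v.2 h1)
  have hcomm : ∀ x y : ↥(Subgroup.zpowers a) × ↥(Subgroup.zpowers b), x * y = y * x := by
    rintro ⟨x1, x2⟩ ⟨y1, y2⟩
    exact Prod.ext (zpowers_comm a x1 y1) (zpowers_comm b x2 y2)
  have hcyc : IsCyclic (↥(Subgroup.zpowers a) × ↥(Subgroup.zpowers b)) :=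
    Cfsg.Agent.Lib.Helper91.fpf_isCyclic_of_comm φ hfpf hcomm
  have hexp : Monoid.exponent (↥(Subgroup.zpowers a) × ↥(Subgroup.zpowers b)) =
      Nat.card (↥(Subgroup.zpowers a) × ↥(Subgroup.zpowers b)) := IsCyclic.exponent_eq_card
  have hcard : Nat.card (↥(Subgroup.zpowers a) × ↥(Subgroup.zpowers b)) = q * q := by
    rw [Nat.card_prod, Nat.card_zpowers, Nat.card_zpowers, ha, hb]
  have hdvd : Monoid.exponent (↥(Subgroup.zpowers a) × ↥(Subgroup.zpowers b)) ∣ q := by
    apply Monoid.exponent_dvd_of_forall_pow_eq_one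
    rintro ⟨x, y⟩
    have hx : x ^ q = 1 := by
      have := pow_card_eq_one' (G := ↥(Subgroup.zpowers a)) (x := x)
      rwa [Nat.card_zpowers, ha] at this
    have hy : y ^ q = 1 := by
      have := pow_card_eq_one' (G := ↥(Subgroup.zpowers b)) (x := y)
      rwa [Nat.card_zpowers, hb] at this
    exact Prod.ext hx hy
  rw [hexp, hcard] at hdvd
  have h1 := Nat.le_of_dvd hq.pos hdvd
  have h2 := hq.two_le
  nlinarith

/-- Let A and B be nontrivial finite groups. Then the direct product A × B occurs as a Frobenius complement if and only if A and B both occur as Frobenius complements and the orders of A and B are coprime. -/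
theorem result {A B : Type*} [Group A] [Finite A] [Nontrivial A] [Group B] [Finite B] [Nontrivial B] :
    (∃ (L : Type) (_ : Group L) (_ : Finite L) (H : Subgroup L), Cfsg.IsFrobeniusComplement H ∧ Nonempty ((A × B) ≃* H)) ↔
    ((∃ (L : Type) (_ : Group L) (_ : Finite L) (H : Subgroup L), Cfsg.IsFrobeniusComplement H ∧ Nonempty (A ≃* H)) ∧
     (∃ (L : Type) (_ : Group L) (_ : Finite L) (H : Subgroup L), Cfsg.IsFrobeniusComplement H ∧ Nonempty (B ≃* H)) ∧
     (Nat.card A).Coprime (Nat.card B)) := by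
  constructor
  · rintro ⟨L, _, _, H, hH, ⟨e⟩⟩
    refine ⟨?_, ?_, ?_⟩
    · exact frob_of_injective H hH (e.toMonoidHom.comp (MonoidHom.inl A B))
        (e.injective.comp (fun x y h => congrArg Prod.fst h))
    · exact frob_of_injective H hH (e.toMonoidHom.comp (MonoidHom.inr A B))
        (e.injective.comp (fun x y h => congrArg Prod.snd h))
    · exact coprime_of_frob_prod H hH e
  · rintro ⟨hA, hB, hcop⟩
    obtain ⟨FA, hFA0, hFA⟩ := frob_exists_int_witness hA
    obtain ⟨FB, hFB0, hFB⟩ := frob_exists_int_witness hB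
    obtain ⟨F, hF0, hF⟩ := exists_int_witness_prod hcop hFA0 hFA hFB0 hFB
    exact exists_frobeniusComplement_of_witness hF0 hF

end Cfsg.Agent.S4292
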