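-- Statement S4294 (Amitsur): a finite non-solvable subgroup of the multiplicative group of a
-- division ring is isomorphic to SL(2,5).  Project "AMI": the arithmetic core `pkgZD` is the
-- lead's (with helper2/20/27/46/51/80/84), the top part is split into packages proved by
-- helper11/48/59/65/76/93 (see the notes on topic AMI and the imported files).
import Cfsg.Statements.S4294
import Cfsg.Agent.Lib.Lead.Ami.Core
import Cfsg.Agent.Lib.Helper48.Ami.TopMain
import Cfsg.Agent.Lib.Helper48.Ami.MatFacts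
import Cfsg.Agent.Lib.Helper48.Ami.Top2
import Cfsg.Agent.Lib.Helper93.Ami.TopM
import Cfsg.Agent.Lib.Helper59.Ami.MCore
import Cfsg.Agent.Lib.Helper59.Ami.Oct
import Cfsg.Agent.Lib.Helper65.Ami.T2K2
import Cfsg.Agent.Lib.Helper76.Ami.T2K1
import Cfsg.Agent.Lib.Helper76.Ami.CharP

set_option autoImplicit false
open Cfsg

namespace Cfsg.Agent.S4294

/-- A finite non-solvable subgroup of the multiplicative group of a division ring is isomorphic to the binary icosahedral group SL(2,5). -/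
theorem result {D : Type*} [DivisionRing D] (H : Subgroup Dˣ) [Finite H] (hH : ¬ Group.IsSolvable H) :
    Nonempty (H ≃* Matrix.SpecialLinearGroup (Fin 2) (ZMod 5)) := by
  exact Cfsg.Agent.Lib.Helper48.AmiTop.s4294_of
    (Cfsg.Agent.Lib.Helper93.Ami.pkgTopM_of
      (Cfsg.Agent.Lib.Helper59.Ami.pkgMCore_of Cfsg.Agent.Lib.Lead.Ami.pkgZD)
      Cfsg.Agent.Lib.Helper48.AmiTop.pkgMBasic)
    (Cfsg.Agent.Lib.Helper48.AmiTop.pkgTop2_of Cfsg.Agent.Lib.Helper48.AmiTop.pkgMBasic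
      Cfsg.Agent.Lib.Helper48.AmiTop.pkgMF3
      (Cfsg.Agent.Lib.Helper76.Ami.pkgT2K1_of Cfsg.Agent.Lib.Helper48.AmiTop.pkgMBasic
        Cfsg.Agent.Lib.Helper48.AmiTop.pkgMF5 Cfsg.Agent.Lib.Helper48.AmiTop.pkgMF6)
      (Cfsg.Agent.Lib.Helper65.Ami.pkgT2K2_of Cfsg.Agent.Lib.Helper48.AmiTop.pkgMBasic
        Cfsg.Agent.Lib.Helper48.AmiTop.pkgMF8 Cfsg.Agent.Lib.Helper59.Ami.pkgOct))
    Cfsg.Agent.Lib.Helper76.Ami.pkgCharP H hH

end Cfsg.Agent.S4294
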