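import Cfsg.Statements.S4304

set_option autoImplicit false
open Cfsg

namespace Cfsg.Agent.S4304


open Subgroup

/-- Sylow card when p ∥ |G| -/
theorem sylow_card_eq_prime {G : Type*} [Group G] [Finite G] {p : ℕ} [Fact p.Prime] (P : Sylow p G)
    (h1 : p ∣ Nat.card G) (h2 : ¬ p ^ 2 ∣ Nat.card G) : Nat.card P = p := by
  have hp : p.Prime := Fact.out
  have hcard := P.card_eq_multiplicity
  have hpos : 0 < Nat.card G := Nat.card_pos
  have hk1 : 1 ≤ (Nat.card G).factorization p :=
    (hp.pow_dvd_iff_le_factorization hpos.ne').mp (by simpa using h1)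
  have hk2 : ¬ 2 ≤ (Nat.card G).factorization p := fun h =>
    h2 ((hp.pow_dvd_iff_le_factorization hpos.ne').mpr h)
  have : (Nat.card G).factorization p = 1 := by omega
  rw [hcard, this, pow_one]

theorem card_sylow_quotient {G : Type*} [Group G] [Finite G] {p : ℕ} [Fact p.Prime]
    (M : Subgroup G) [M.Normal] (hM : ∀ S : Sylow p G, M ≤ normalizer (S : Set G)) :
    Nat.card (Sylow p (G ⧸ M)) = Nat.card (Sylow p G) := by
  have hsurj : Function.Surjective (QuotientGroup.mk' M) := QuotientGroup.mk'_surjective M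
  symm
  apply Nat.card_congr
  refine Equiv.ofBijective (Sylow.mapSurjective hsurj) ⟨?_, Sylow.mapSurjective_surjective hsurj p⟩
  intro S S' h
  have h1 : (S : Subgroup G).map (QuotientGroup.mk' M) = (S' : Subgroup G).map (QuotientGroup.mk' M) := by
    have := congrArg (fun T : Sylow p (G ⧸ M) => (T : Subgroup (G ⧸ M))) h
    simpa using this
  have h2 : (S : Subgroup G) ⊔ M = (S' : Subgroup G) ⊔ M := by
    have := congrArg (Subgroup.comap (QuotientGroup.mk' M)) h1
    simpa [Subgroup.comap_map_eq, QuotientGroup.ker_mk'] using this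
  have h3 : (S' : Subgroup G) ≤ normalizer (S : Set G) := by
    calc (S' : Subgroup G) ≤ (S' : Subgroup G) ⊔ M := le_sup_left
      _ = (S : Subgroup G) ⊔ M := h2.symm
      _ ≤ normalizer (S : Set G) := sup_le Subgroup.le_normalizer (hM S)
  have h4 : (S' : Subgroup G) ≤ S := by
    have := S'.isPGroup'.inf_normalizer_sylow S
    rw [inf_of_le_left h3] at this
    rw [this]; exact inf_le_right
  exact Sylow.ext (S'.is_maximal' S.isPGroup' h4)

theorem card_sylow_of_normal {G : Type*} [Group G] [Finite G] {p : ℕ} [Fact p.Prime]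
    (M : Subgroup G) [M.Normal] (P : Sylow p G) (hPM : (P : Subgroup G) ≤ M) :
    Nat.card (Sylow p M) = Nat.card (Sylow p G) := by
  rw [Sylow.card_eq_index_normalizer (P.subtype hPM), Sylow.card_eq_index_normalizer P]
  have hF := Sylow.normalizer_sup_eq_top' P hPM
  set N := normalizer (P : Set G) with hN
  have hsub : normalizer ((P.subtype hPM : Sylow p M) : Set M) = N.subgroupOf M := by
    rw [hN]
    exact (Subgroup.subgroupOf_normalizer_eq hPM).symm
  rw [hsub]
  change N.relIndex M = N.index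
  have e1 : M.index = M.relIndex N := by
    rw [← relIndex_top_right, ← hF, relIndex_sup_right]
  have a1 : (N ⊓ M).relIndex N * N.index = (N ⊓ M).index := relIndex_mul_index inf_le_left
  have a2 : (N ⊓ M).relIndex M * M.index = (N ⊓ M).index := relIndex_mul_index inf_le_right
  rw [inf_relIndex_left] at a1
  rw [inf_relIndex_right] at a2
  rw [e1] at a2
  have hpos : 0 < M.relIndex N := by
    rw [← e1]; exact Nat.pos_of_ne_zero (Subgroup.index_ne_zero_of_finite)
  have : M.relIndex N * N.relIndex M = M.relIndex N * N.index := by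
    rw [mul_comm, a2, a1]
  exact Nat.eq_of_mul_eq_mul_left hpos this

/-- an element normalizing a subgroup of prime order `q` whose order is prime to `q - 1`
centralizes it -/
theorem centralizes_of_coprime {G : Type*} [Group G] [Finite G] (Q : Subgroup G) {q m : ℕ}
    (hq : q.Prime) (hQ : Nat.card Q = q) (g : G) (hg : g ∈ normalizer (Q : Set G)) (hgm : g ^ m = 1)
    (hcop : Nat.Coprime m (q - 1)) : g ∈ centralizer (Q : Set G) := by
  have : Fact q.Prime := ⟨hq⟩
  have hcyc : IsCyclic Q := isCyclic_of_prime_card hQ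
  have hcard : Nat.card (MulAut Q) = q - 1 := by
    rw [hcyc.card_mulAut, hQ, Nat.totient_prime hq]
  set ψ := Q.normalizerMonoidHom with hψ
  have h1 : ψ ⟨g, hg⟩ ^ m = 1 := by
    rw [← map_pow]
    have : (⟨g, hg⟩ : normalizer (Q : Set G)) ^ m = 1 := Subtype.ext (by simpa using hgm)
    rw [this, map_one]
  have h2 : ψ ⟨g, hg⟩ ^ (q - 1) = 1 := by
    rw [← hcard]; exact pow_card_eq_one'
  have h3 : ψ ⟨g, hg⟩ = 1 := by
    have hd1 := orderOf_dvd_of_pow_eq_one h1
    have hd2 := orderOf_dvd_of_pow_eq_one h2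
    have := Nat.eq_one_of_dvd_coprimes hcop hd1 hd2
    exact orderOf_eq_one_iff.mp this
  have h4 : (⟨g, hg⟩ : normalizer (Q : Set G)) ∈ ψ.ker := h3
  rw [hψ, normalizerMonoidHom_ker] at h4
  exact h4



open Subgroup MulAction
open scoped Pointwise

section SylowInter
variable {G : Type*} [Group G] [Finite G] {p : ℕ} [Fact p.Prime]

omit [Finite G] [Fact p.Prime] in
theorem mem_smul_sylow (g x : G) (T : Sylow p G) :
    x ∈ (g • T : Sylow p G) ↔ g⁻¹ * x * g ∈ T := by
  have h : (↑(g • T) : Subgroup G) = MulAut.conj g • (T : Subgroup G) := Sylow.coe_subgroup_smul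
  change x ∈ (↑(g • T) : Subgroup G) ↔ _
  rw [h, Subgroup.mem_pointwise_smul_iff_inv_smul_mem]
  simp [MulAut.smul_def]
  rfl

theorem sylow_card_eq (S T : Sylow p G) : Nat.card S = Nat.card T := by
  rw [S.card_eq_multiplicity, T.card_eq_multiplicity]

omit [Finite G] [Fact p.Prime] in
theorem sylow_eq_of_le {S T : Sylow p G} (h : (S : Subgroup G) ≤ T) : S = T :=
  (Sylow.ext (S.is_maximal' T.isPGroup' h)).symm

end SylowInter

section Seven
variable {G : Type*} [Group G] [Finite G] [Fact (Nat.Prime 7)]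

/-- the orbit of `Q` under `P` has 7 elements and `[P : P ∩ Q] = 7` -/
theorem relIndex_eq_seven (hn : Nat.card (Sylow 7 G) = 15) (P Q : Sylow 7 G) (hPQ : P ≠ Q) :
    (Q : Subgroup G).relIndex P = 7 ∧ (orbit (P : Subgroup G) Q).ncard = 7 := by
  have hstab : stabilizer (P : Subgroup G) Q = (Q : Subgroup G).subgroupOf P := by
    ext u
    rw [mem_stabilizer_iff, Subgroup.mem_subgroupOf, Subgroup.smul_def,
      Sylow.smul_eq_iff_mem_normalizer]
    constructor
    · intro h
      have h1 : (u : G) ∈ (P : Subgroup G) ⊓ normalizer (Q : Set G) := ⟨u.2, h⟩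
      rw [P.isPGroup'.inf_normalizer_sylow Q] at h1
      exact h1.2
    · intro h
      exact Subgroup.le_normalizer h
  have hidx := MulAction.index_stabilizer (P : Subgroup G) Q
  rw [hstab] at hidx
  change (Q : Subgroup G).relIndex P = _ at hidx
  obtain ⟨n, hn7⟩ := P.isPGroup'.card_orbit Q
  rw [Nat.card_coe_set_eq] at hn7
  have hle : (orbit (P : Subgroup G) Q).ncard ≤ 15 := by
    rw [← hn, ← Set.ncard_univ]
    exact Set.ncard_le_ncard (Set.subset_univ _)
  have hne1 : (Q : Subgroup G).relIndex P ≠ 1 := by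
    intro h
    rw [Subgroup.relIndex_eq_one] at h
    exact hPQ (sylow_eq_of_le h)
  rw [hidx, hn7] at hne1
  rw [hn7] at hle
  have hn1 : n = 1 := by
    rcases n with _ | _ | n
    · simp at hne1
    · rfl
    · exfalso
      have : (7:ℕ) ^ 2 ≤ 7 ^ (n + 1 + 1) := Nat.pow_le_pow_right (by norm_num) (by omega)
      omega
  subst hn1
  rw [hidx, hn7]
  simp

theorem card_inf_mul_seven (hn : Nat.card (Sylow 7 G) = 15) (P Q : Sylow 7 G) (hPQ : P ≠ Q) :
    Nat.card ((P : Subgroup G) ⊓ Q : Subgroup G) * 7 = Nat.card P := by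
  have h1 := (relIndex_eq_seven hn P Q hPQ).1
  have h2 := Subgroup.relIndex_mul_relIndex ⊥ ((P : Subgroup G) ⊓ Q) (P : Subgroup G) bot_le inf_le_left
  rw [Subgroup.relIndex_bot_left, Subgroup.relIndex_bot_left, Subgroup.inf_relIndex_left, h1] at h2
  exact h2

/-- the block through two distinct Sylow subgroups has at least 8 points -/
theorem eight_le_block (hn : Nat.card (Sylow 7 G) = 15) (S T : Sylow 7 G) (hST : S ≠ T) :
    8 ≤ {U : Sylow 7 G | (S : Subgroup G) ⊓ T ≤ U}.ncard := by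
  obtain ⟨h7, horb⟩ := relIndex_eq_seven hn S T hST
  -- normality of S ⊓ T in S
  have hcardS : Nat.card (S : Subgroup G) = Nat.card ((S : Subgroup G) ⊓ T : Subgroup G) * 7 :=
    (card_inf_mul_seven hn S T hST).symm
  have hnorm : (((S : Subgroup G) ⊓ T).subgroupOf S).Normal := by
    apply Subgroup.normal_of_index_eq_minFac_card
    change ((S : Subgroup G) ⊓ T).relIndex S = _
    rw [Subgroup.inf_relIndex_left, h7]
    obtain ⟨k, hk⟩ := S.isPGroup'.exists_card_eq
    have hk0 : k ≠ 0 := by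
      rintro rfl
      rw [pow_zero] at hk
      omega
    rw [hk, Nat.Prime.pow_minFac (by norm_num) hk0]
  have hsub : insert S (orbit (S : Subgroup G) T) ⊆ {U : Sylow 7 G | (S : Subgroup G) ⊓ T ≤ U} := by
    intro U hU
    rcases hU with rfl | ⟨u, rfl⟩
    · exact (inf_le_left : (U : Subgroup G) ⊓ T ≤ U)
    · intro d hd
      change d ∈ ((u • T : Sylow 7 G))
      rw [Subgroup.smul_def, mem_smul_sylow]
      have hdS : d ∈ (S : Subgroup G) := hd.1
      have := hnorm.conj_mem ⟨d, hdS⟩ (by rw [Subgroup.mem_subgroupOf]; exact hd) u⁻¹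
      rw [Subgroup.mem_subgroupOf] at this
      have h2 := this.2
      simpa using h2
  have hnot : S ∉ orbit (S : Subgroup G) T := by
    rintro ⟨u, hu⟩
    apply hST
    have : (u : G) • T = S := by rw [← Subgroup.smul_def]; exact hu
    have h2 : T = (u : G)⁻¹ • S := eq_inv_smul_iff.mpr this
    rw [h2]
    symm
    rw [Sylow.smul_eq_iff_mem_normalizer]
    exact Subgroup.le_normalizer (inv_mem u.2)
  calc 8 = (insert S (orbit (S : Subgroup G) T)).ncard := by
        rw [Set.ncard_insert_of_notMem hnot, horb]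
    _ ≤ _ := Set.ncard_le_ncard hsub

theorem block_inter (hn : Nat.card (Sylow 7 G) = 15) (S T U V : Sylow 7 G) (hST : S ≠ T)
    (hUV : U ≠ V) (hU : (S : Subgroup G) ⊓ T ≤ U) (hV : (S : Subgroup G) ⊓ T ≤ V) :
    (U : Subgroup G) ⊓ V = (S : Subgroup G) ⊓ T := by
  symm
  apply Subgroup.eq_of_le_of_card_ge (le_inf hU hV)
  have h1 := card_inf_mul_seven hn S T hST
  have h2 := card_inf_mul_seven hn U V hUV
  have h3 : Nat.card (S : Subgroup G) = Nat.card (U : Subgroup G) := sylow_card_eq S U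
  omega

/-- the intersection of two distinct Sylow 7-subgroups lies in every Sylow 7-subgroup -/
theorem inter_le_all (hn : Nat.card (Sylow 7 G) = 15) (P Q R : Sylow 7 G) (hPQ : P ≠ Q) :
    (P : Subgroup G) ⊓ Q ≤ R := by
  by_contra hR
  have hRP : P ≠ R := by rintro rfl; exact hR inf_le_left
  have hRQ : Q ≠ R := by rintro rfl; exact hR inf_le_right
  set B₁ := {U : Sylow 7 G | (P : Subgroup G) ⊓ Q ≤ U} with hB₁
  set B₂ := {U : Sylow 7 G | (P : Subgroup G) ⊓ R ≤ U} with hB₂
  set B₃ := {U : Sylow 7 G | (Q : Subgroup G) ⊓ R ≤ U} with hB₃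
  have c1 : 8 ≤ B₁.ncard := eight_le_block hn P Q hPQ
  have c2 : 8 ≤ B₂.ncard := eight_le_block hn P R hRP
  have c3 : 8 ≤ B₃.ncard := eight_le_block hn Q R hRQ
  have i12 : B₁ ∩ B₂ ⊆ {P} := by
    rintro U ⟨h1, h2⟩
    by_contra hne
    have hne' : P ≠ U := fun h => hne (by rw [← h]; rfl)
    have e1 := block_inter hn P Q P U hPQ hne' inf_le_left h1
    have e2 := block_inter hn P R P U hRP hne' inf_le_left h2
    apply hR
    rw [← e1, e2]
    exact inf_le_right
  have i13 : B₁ ∩ B₃ ⊆ {Q} := by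
    rintro U ⟨h1, h3⟩
    by_contra hne
    have hne' : Q ≠ U := fun h => hne (by rw [← h]; rfl)
    have e1 := block_inter hn P Q Q U hPQ hne' inf_le_right h1
    have e2 := block_inter hn Q R Q U hRQ hne' inf_le_left h3
    apply hR
    rw [← e1, e2]
    exact inf_le_right
  have i23 : B₂ ∩ B₃ ⊆ {R} := by
    rintro U ⟨h2, h3⟩
    by_contra hne
    have hne' : R ≠ U := fun h => hne (by rw [← h]; rfl)
    have e1 := block_inter hn P R R U hRP hne' inf_le_right h2
    have e2 := block_inter hn Q R R U hRQ hne' inf_le_right h3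
    -- P ⊓ R = Q ⊓ R
    have e3 : (P : Subgroup G) ⊓ R = (Q : Subgroup G) ⊓ R := by rw [← e1, e2]
    have hle : (P : Subgroup G) ⊓ R ≤ (P : Subgroup G) ⊓ Q :=
      le_inf inf_le_left (e3 ▸ inf_le_left)
    have h1 := card_inf_mul_seven hn P Q hPQ
    have h2' := card_inf_mul_seven hn P R hRP
    have e4 : (P : Subgroup G) ⊓ R = (P : Subgroup G) ⊓ Q :=
      Subgroup.eq_of_le_of_card_ge hle (by omega)
    apply hR
    rw [← e4]
    exact inf_le_right
  have n12 : (B₁ ∩ B₂).ncard ≤ 1 := by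
    calc (B₁ ∩ B₂).ncard ≤ ({P} : Set (Sylow 7 G)).ncard := Set.ncard_le_ncard i12
      _ = 1 := Set.ncard_singleton _
  have u12 := Set.ncard_union_add_ncard_inter B₁ B₂
  have i123 : (B₁ ∪ B₂) ∩ B₃ ⊆ {Q, R} := by
    rintro U ⟨h12 | h12, h3⟩
    · left; exact i13 ⟨h12, h3⟩
    · right; exact i23 ⟨h12, h3⟩
  have n123 : ((B₁ ∪ B₂) ∩ B₃).ncard ≤ 2 := by
    calc ((B₁ ∪ B₂) ∩ B₃).ncard ≤ ({Q, R} : Set (Sylow 7 G)).ncard := Set.ncard_le_ncard i123
      _ ≤ 2 := Set.ncard_insert_le _ _ |>.trans (by rw [Set.ncard_singleton])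
  have u123 := Set.ncard_union_add_ncard_inter (B₁ ∪ B₂) B₃
  have hle : (B₁ ∪ B₂ ∪ B₃).ncard ≤ 15 := by
    rw [← hn, ← Set.ncard_univ]
    exact Set.ncard_le_ncard (Set.subset_univ _)
  omega

end Seven



section Perm
variable {Ω : Type*} [Fintype Ω] [DecidableEq Ω]

omit [Fintype Ω] [DecidableEq Ω] in
theorem comm_apply {u v : Equiv.Perm Ω} (h : Commute u v) (ω : Ω) : u (v ω) = v (u ω) := by
  have := congrArg (fun f : Equiv.Perm Ω => f ω) h.eq
  simpa [Equiv.Perm.mul_apply] using this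

omit [Fintype Ω] [DecidableEq Ω] in
theorem pow_mod7 (x : Equiv.Perm Ω) (hx7 : x ^ 7 = 1) (n : ℕ) : x ^ n = x ^ (n % 7) := by
  conv_lhs => rw [← Nat.div_add_mod n 7, pow_add, pow_mul, hx7, one_pow, one_mul]

omit [Fintype Ω] [DecidableEq Ω] in
theorem seven_dvd_of_fix (x : Equiv.Perm Ω) (α : Ω) (hx7 : x ^ 7 = 1)
    (hfix : ∀ ω, x ω = ω ↔ ω = α) (ω : Ω) (hω : ω ≠ α) (d : ℕ) (hd : (x ^ d) ω = ω) : 7 ∣ d := by
  by_contra h7
  have hr : 0 < d % 7 := Nat.pos_of_ne_zero (fun h => h7 (Nat.dvd_of_mod_eq_zero h))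
  have hr7 : d % 7 < 7 := Nat.mod_lt _ (by norm_num)
  have hcop : Nat.Coprime (d % 7) 7 := (Nat.coprime_of_lt_prime hr.ne' hr7 (by norm_num)).symm
  obtain ⟨m, -, hm⟩ := Nat.exists_mul_mod_eq_one_of_coprime hcop (by norm_num)
  have h1 : (x ^ (d % 7)) ω = ω := by rw [← pow_mod7 x hx7]; exact hd
  have h2 : ((x ^ (d % 7)) ^ m) ω = ω := Equiv.Perm.pow_apply_eq_self_of_apply_eq_self h1 m
  rw [← pow_mul, pow_mod7 x hx7, hm, pow_one] at h2
  exact hω ((hfix ω).mp h2)

omit [Fintype Ω] [DecidableEq Ω] in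
theorem pow_apply_of_comm {x u : Equiv.Perm Ω} (hc : Commute u x) (ω : Ω) (i : ℕ)
    (h : u ω = (x ^ i) ω) (n : ℕ) : (u ^ n) ω = (x ^ (i * n)) ω := by
  induction n with
  | zero => simp
  | succ n ih =>
    rw [pow_succ, Equiv.Perm.mul_apply, h, comm_apply (hc.pow_pow n i), ih, ← Equiv.Perm.mul_apply,
      ← pow_add]
    congr 2; ring

theorem exists_cover (hΩ : Fintype.card Ω = 15) (x : Equiv.Perm Ω) (α : Ω) (hx7 : x ^ 7 = 1)
    (hfix : ∀ ω, x ω = ω ↔ ω = α) :
    ∃ a b : Ω, a ≠ α ∧ b ≠ α ∧ (∀ i, (x ^ i) a ≠ b) ∧ (∀ i, (x ^ i) b ≠ a) ∧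
      ∀ ω, ω = α ∨ (∃ i, ω = (x ^ i) a) ∨ (∃ i, ω = (x ^ i) b) := by
  have hxα : ∀ i, (x ^ i) α = α := fun i =>
    Equiv.Perm.pow_apply_eq_self_of_apply_eq_self ((hfix α).mpr rfl) i
  let O : Ω → Finset Ω := fun ω => (Finset.range 7).image (fun i => (x ^ i) ω)
  have hinj : ∀ ω, ω ≠ α → ∀ i j, i < 7 → j < 7 → i ≤ j → (x ^ i) ω = (x ^ j) ω → i = j := by
    intro ω hω i j hi hj hij h
    have h1 : (x ^ j) ω = (x ^ i) ((x ^ (j - i)) ω) := by
      rw [← Equiv.Perm.mul_apply, ← pow_add, Nat.add_sub_cancel' hij]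
    rw [h1] at h
    have h2 := (x ^ i).injective h
    have := seven_dvd_of_fix x α hx7 hfix ω hω (j - i) h2.symm
    omega
  have hOcard : ∀ ω, ω ≠ α → (O ω).card = 7 := by
    intro ω hω
    rw [Finset.card_image_of_injOn, Finset.card_range]
    intro i hi j hj hij
    simp only [Finset.coe_range, Set.mem_Iio] at hi hj
    rcases le_total i j with h | h
    · exact hinj ω hω i j hi hj h hij
    · exact (hinj ω hω j i hj hi h hij.symm).symm
  have hOmem : ∀ ω i, (x ^ i) ω ∈ O ω := by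
    intro ω i
    rw [pow_mod7 x hx7 i]
    exact Finset.mem_image.mpr ⟨i % 7, Finset.mem_range.mpr (Nat.mod_lt _ (by norm_num)), rfl⟩
  have hαO : ∀ ω, ω ≠ α → α ∉ O ω := by
    intro ω hω h
    obtain ⟨i, -, hi⟩ := Finset.mem_image.mp h
    exact hω ((x ^ i).injective (hi.trans (hxα i).symm))
  have hex : ∃ a, a ≠ α := by
    by_contra h
    push Not at h
    have : Fintype.card Ω ≤ 1 := Fintype.card_le_one_iff.mpr (fun u v => (h u).trans (h v).symm)
    omega
  obtain ⟨a, ha⟩ := hex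
  have hex2 : ∃ b, b ∉ insert α (O a) := by
    by_contra h
    push Not at h
    have h1 : insert α (O a) = Finset.univ := Finset.eq_univ_iff_forall.mpr h
    have hc := congrArg Finset.card h1
    rw [Finset.card_insert_of_notMem (hαO a ha), hOcard a ha, Finset.card_univ, hΩ] at hc
    omega
  obtain ⟨b, hb'⟩ := hex2
  have hb : b ≠ α := fun h => hb' (h ▸ Finset.mem_insert_self _ _)
  have hbO : b ∉ O a := fun h => hb' (Finset.mem_insert_of_mem h)
  have hab : ∀ i, (x ^ i) a ≠ b := fun i h => hbO (h ▸ hOmem a i)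
  have hba : ∀ i, (x ^ i) b ≠ a := by
    intro i h
    apply hab (6 * i)
    rw [← h, ← Equiv.Perm.mul_apply, ← pow_add, show 6 * i + i = 7 * i by ring, pow_mul, hx7,
      one_pow]
    rfl
  have hdisj : Disjoint (O a) (O b) := by
    rw [Finset.disjoint_left]
    intro ω h1 h2
    obtain ⟨i, -, rfl⟩ := Finset.mem_image.mp h1
    obtain ⟨j, -, hj⟩ := Finset.mem_image.mp h2
    apply hab (6 * j + i)
    rw [pow_add, Equiv.Perm.mul_apply, ← hj, ← Equiv.Perm.mul_apply, ← pow_add,
      show 6 * j + j = 7 * j by ring, pow_mul, hx7, one_pow]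
    rfl
  have hcard : (insert α (O a ∪ O b)).card = 15 := by
    rw [Finset.card_insert_of_notMem, Finset.card_union_of_disjoint hdisj, hOcard a ha,
      hOcard b hb]
    simp only [Finset.mem_union, not_or]
    exact ⟨hαO a ha, hαO b hb⟩
  have huniv : insert α (O a ∪ O b) = Finset.univ := by
    apply Finset.eq_univ_of_card; rw [hcard, hΩ]
  refine ⟨a, b, ha, hb, hab, hba, fun ω => ?_⟩
  have hω : ω ∈ insert α (O a ∪ O b) := huniv ▸ Finset.mem_univ ω
  rcases Finset.mem_insert.mp hω with h | h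
  · exact Or.inl h
  · rcases Finset.mem_union.mp h with h | h
    · obtain ⟨i, -, hi⟩ := Finset.mem_image.mp h
      exact Or.inr (Or.inl ⟨i, hi.symm⟩)
    · obtain ⟨i, -, hi⟩ := Finset.mem_image.mp h
      exact Or.inr (Or.inr ⟨i, hi.symm⟩)

omit [Fintype Ω] [DecidableEq Ω] in
theorem pow14_fix {x u : Equiv.Perm Ω} {α a b : Ω} (hx7 : x ^ 7 = 1)
    (hfix : ∀ ω, x ω = ω ↔ ω = α)
    (hc : Commute u x) (ha : a ≠ α) (hba : ∀ i, (x ^ i) b ≠ a)
    (hcov : ∀ ω, ω = α ∨ (∃ i, ω = (x ^ i) a) ∨ (∃ i, ω = (x ^ i) b)) : (u ^ 14) a = a := by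
  have hxα : ∀ i, (x ^ i) α = α := fun i =>
    Equiv.Perm.pow_apply_eq_self_of_apply_eq_self ((hfix α).mpr rfl) i
  have huα : u α = α := by
    rw [← hfix, ← comm_apply hc, (hfix α).mpr rfl]
  have h7 : ∀ (v : Equiv.Perm Ω), Commute v x → ∀ i, v a = (x ^ i) a → (v ^ 7) a = a := by
    intro v hv i hi
    rw [pow_apply_of_comm hv a i hi 7, pow_mul', hx7, one_pow]; rfl
  rcases hcov (u a) with h | ⟨i, hi⟩ | ⟨i, hi⟩
  · exact absurd (u.injective (h.trans huα.symm)) ha
  · have := h7 u hc i hi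
    rw [show (14:ℕ) = 7 + 7 by norm_num, pow_add, Equiv.Perm.mul_apply, this, this]
  · rcases hcov (u b) with h | ⟨k, hk⟩ | ⟨k, hk⟩
    · exfalso
      have hbα : b = α := u.injective (h.trans huα.symm)
      rw [hbα, hxα i] at hi
      exact ha (u.injective (hi.trans huα.symm))
    · have h2 : (u ^ 2) a = (x ^ (i + k)) a := by
        rw [pow_two, Equiv.Perm.mul_apply, hi, comm_apply (hc.pow_right i), hk,
          ← Equiv.Perm.mul_apply, ← pow_add]
      have := h7 (u ^ 2) (hc.pow_left 2) (i + k) h2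
      rw [← pow_mul] at this
      exact this
    · exfalso
      apply hba (i + 6 * k)
      apply u.injective
      rw [comm_apply (hc.pow_right (i + 6 * k)), hk, hi, ← Equiv.Perm.mul_apply, ← pow_add,
        show i + 6 * k + k = i + 7 * k by ring, pow_add, pow_mul, hx7, one_pow, mul_one]

omit [Fintype Ω] [DecidableEq Ω] in
theorem eq_one_of_fix {x t : Equiv.Perm Ω} {α a b : Ω} (hx7 : x ^ 7 = 1)
    (hfix : ∀ ω, x ω = ω ↔ ω = α)
    (hc : Commute t x) (ht2 : t ^ 2 = 1) (hb : b ≠ α) (hab : ∀ i, (x ^ i) a ≠ b)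
    (hcov : ∀ ω, ω = α ∨ (∃ i, ω = (x ^ i) a) ∨ (∃ i, ω = (x ^ i) b)) (hta : t a = a) :
    t = 1 := by
  have htα : t α = α := by
    rw [← hfix, ← comm_apply hc, (hfix α).mpr rfl]
  have htb : t b = b := by
    rcases hcov (t b) with h | ⟨k, hk⟩ | ⟨j, hj⟩
    · exact absurd (t.injective (h.trans htα.symm)) hb
    · exfalso
      have : t b = t ((x ^ k) a) := by rw [comm_apply (hc.pow_right k), hta, hk]
      exact hab k (t.injective this).symm
    · have h2 := pow_apply_of_comm hc b j hj 2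
      rw [ht2, Equiv.Perm.one_apply] at h2
      have hd := seven_dvd_of_fix x α hx7 hfix b hb (j * 2) h2.symm
      have hj7 : 7 ∣ j := (Nat.Coprime.dvd_of_dvd_mul_right (by norm_num) hd)
      obtain ⟨q, rfl⟩ := hj7
      rw [hj, pow_mul, hx7, one_pow]; rfl
  ext ω
  rcases hcov ω with rfl | ⟨i, rfl⟩ | ⟨i, rfl⟩
  · simpa using htα
  · rw [comm_apply (hc.pow_right i), hta]; rfl
  · rw [comm_apply (hc.pow_right i), htb]; rfl

theorem perm_key (hΩ : Fintype.card Ω = 15) (x z : Equiv.Perm Ω) (α : Ω) (hx7 : x ^ 7 = 1)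
    (hfix : ∀ ω, x ω = ω ↔ ω = α) (hzx : Commute z x) :
    z ^ 14 = 1 ∧ (z ^ 7 ≠ 1 → Equiv.Perm.sign (z ^ 7) = -1) := by
  obtain ⟨a, b, ha, hb, hab, hba, hcov⟩ := exists_cover hΩ x α hx7 hfix
  have hcov' : ∀ ω, ω = α ∨ (∃ i, ω = (x ^ i) b) ∨ (∃ i, ω = (x ^ i) a) :=
    fun ω => (hcov ω).imp_right Or.symm
  have hzα : z α = α := by
    rw [← hfix, ← comm_apply hzx, (hfix α).mpr rfl]
  have h14 : z ^ 14 = 1 := by
    ext ω
    have hc14 : Commute (z ^ 14) x := hzx.pow_left 14
    rcases hcov ω with rfl | ⟨i, rfl⟩ | ⟨i, rfl⟩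
    · simpa using Equiv.Perm.pow_apply_eq_self_of_apply_eq_self hzα 14
    · rw [comm_apply (hc14.pow_right i), pow14_fix hx7 hfix hzx ha hba hcov]; rfl
    · rw [comm_apply (hc14.pow_right i), pow14_fix hx7 hfix hzx hb hab hcov']; rfl
  refine ⟨h14, fun ht => ?_⟩
  set t := z ^ 7 with ht_def
  have ht2 : t ^ 2 = 1 := by rw [ht_def, ← pow_mul]; exact h14
  have hct : Commute t x := hzx.pow_left 7
  have hmove : ∀ ω, ω ≠ α → t ω ≠ ω := by
    intro ω hω hfixω
    rcases hcov ω with rfl | ⟨i, rfl⟩ | ⟨i, rfl⟩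
    · exact hω rfl
    · apply ht
      apply eq_one_of_fix hx7 hfix hct ht2 hb hab hcov
      rw [comm_apply (hct.pow_right i)] at hfixω
      exact (x ^ i).injective hfixω
    · apply ht
      apply eq_one_of_fix hx7 hfix hct ht2 ha hba hcov'
      rw [comm_apply (hct.pow_right i)] at hfixω
      exact (x ^ i).injective hfixω
  have htα : t α = α := Equiv.Perm.pow_apply_eq_self_of_apply_eq_self hzα 7
  have hsupp : t.support = Finset.univ.erase α := by
    ext ω
    simp only [Equiv.Perm.mem_support, Finset.mem_erase, Finset.mem_univ, and_true]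
    constructor
    · intro h1 h2; exact h1 (h2 ▸ htα)
    · exact hmove ω
  have hcs : t.support.card = 14 := by
    rw [hsupp, Finset.card_erase_of_mem (Finset.mem_univ _), Finset.card_univ, hΩ]
  have hord : orderOf t = 2 := orderOf_eq_prime ht2 ht
  obtain ⟨n, hn⟩ := Equiv.Perm.cycleType_prime_order (σ := t) (by rw [hord]; norm_num)
  rw [hord] at hn
  have hsum := Equiv.Perm.sum_cycleType t
  rw [hn, hcs] at hsum
  simp at hsum
  have hn6 : n = 6 := by omega
  rw [Equiv.Perm.sign_of_cycleType, hn, hn6]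
  have h21 : (-1 : ℤˣ) ^ 21 = -1 := Odd.neg_one_pow ⟨10, by norm_num⟩
  simpa using h21

end Perm


universe u

section Main
open Subgroup
variable {G : Type u} [Group G] [Finite G]

theorem no_complement [Fact (Nat.Prime 7)] {q : ℕ} [Fact q.Prime] (T : Sylow q G)
    (hT : Nat.card T = q) (hq7 : Nat.Coprime 7 q)
    (hNC : normalizer (T : Set G) ≤ centralizer (T : Set G))
    (P : Sylow 7 G) (hP7 : ∀ g ∈ P, g ^ 7 = 1)
    (hM1 : ∀ (M : Subgroup G) [M.Normal], (P : Subgroup G) ≤ M → M = ⊤) : False := by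
  have hq : q.Prime := Fact.out
  have hcomp := MonoidHom.ker_transferSylow_isComplement' T hNC
  set f := MonoidHom.transferSylow T hNC with hf
  have hPL : (P : Subgroup G) ≤ f.ker := by
    intro g hg
    rw [MonoidHom.mem_ker]
    have h1 : f g ^ 7 = 1 := by rw [← map_pow, hP7 g hg, map_one]
    have h2 : f g ^ q = 1 := by
      have := pow_card_eq_one' (G := (T : Subgroup G)) (x := f g)
      rwa [hT] at this
    have := Nat.eq_one_of_dvd_coprimes hq7 (orderOf_dvd_of_pow_eq_one h1)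
      (orderOf_dvd_of_pow_eq_one h2)
    exact orderOf_eq_one_iff.mp this
  have htop := hM1 f.ker hPL
  rw [htop] at hcomp
  have hc := hcomp.card_mul_card
  rw [Subgroup.card_top, hT] at hc
  have hpos : 0 < Nat.card G := Nat.card_pos
  have : q = 1 := by nlinarith
  exact hq.one_lt.ne' this

theorem final_even [Fact (Nat.Prime 7)] (h2 : 2 ∣ Nat.card G) (h4 : ¬ 2 ^ 2 ∣ Nat.card G)
    (P : Sylow 7 G) (hP7 : ∀ g ∈ P, g ^ 7 = 1)
    (hM1 : ∀ (M : Subgroup G) [M.Normal], (P : Subgroup G) ≤ M → M = ⊤) : False := by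
  have : Fact (Nat.Prime 2) := ⟨Nat.prime_two⟩
  obtain T : Sylow 2 G := default
  have hT : Nat.card T = 2 := sylow_card_eq_prime T h2 h4
  have hNC : normalizer (T : Set G) ≤ centralizer (T : Set G) := by
    intro g hg
    exact centralizes_of_coprime (T : Subgroup G) Nat.prime_two hT g hg (pow_orderOf_eq_one g)
      (Nat.coprime_one_right _)
  exact no_complement T hT (by norm_num) hNC P hP7 hM1

theorem final_odd [Fact (Nat.Prime 7)] (hG : Nat.card G = 105 ∨ Nat.card G = 315)
    (P : Sylow 7 G) (hP7 : Nat.card (P : Subgroup G) = 7) (hPpow : ∀ g ∈ P, g ^ 7 = 1) (g₀ : G)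
    (hg₀ : g₀ ^ 7 = 1) (hC : ∀ b : G, Commute b g₀ → b ∈ (P : Subgroup G))
    (hM1 : ∀ (M : Subgroup G) [M.Normal], (P : Subgroup G) ≤ M → M = ⊤) : False := by
  have : Fact (Nat.Prime 5) := ⟨by norm_num⟩
  obtain Q : Sylow 5 G := default
  have hQ : Nat.card Q = 5 :=
    sylow_card_eq_prime Q (by rcases hG with h | h <;> rw [h] <;> norm_num)
      (by rcases hG with h | h <;> rw [h] <;> norm_num)
  have hn5 := card_sylow_modEq_one 5 G
  have hdvd := Sylow.card_dvd_index Q
  have hidx : (Q : Subgroup G).index ∣ 63 := by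
    have h0 := Subgroup.card_mul_index (Q : Subgroup G)
    rw [hQ] at h0
    rcases hG with h | h <;> rw [h] at h0
    · have : (Q : Subgroup G).index = 21 := by omega
      rw [this]; norm_num
    · have : (Q : Subgroup G).index = 63 := by omega
      rw [this]
  have hn5' : Nat.card (Sylow 5 G) = 1 ∨ Nat.card (Sylow 5 G) = 21 := by
    have h63 := hdvd.trans hidx
    have hle := Nat.le_of_dvd (by norm_num) h63
    obtain ⟨c, hc⟩ := h63
    have hmod : Nat.card (Sylow 5 G) % 5 = 1 := hn5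
    generalize Nat.card (Sylow 5 G) = k at *
    interval_cases k <;> omega
  rcases hn5' with h1 | h21
  · have hNtop : normalizer (Q : Set G) = ⊤ := by
      rw [← Subgroup.index_eq_one, ← Sylow.card_eq_index_normalizer, h1]
    have hcent := centralizes_of_coprime (Q : Subgroup G) (by norm_num : Nat.Prime 5) hQ g₀
      (hNtop ▸ Subgroup.mem_top g₀) hg₀ (by norm_num)
    have hQP : (Q : Subgroup G) ≤ P := by
      intro h hh
      rw [Subgroup.mem_centralizer_iff] at hcent
      exact hC h (hcent h hh)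
    have := Subgroup.card_dvd_of_le hQP
    rw [hQ, hP7] at this
    norm_num at this
  · have hNcard : Nat.card (normalizer (Q : Set G)) = 5 ∨
        Nat.card (normalizer (Q : Set G)) = 15 := by
      have h0 := Subgroup.card_mul_index (normalizer (Q : Set G))
      rw [← Sylow.card_eq_index_normalizer, h21] at h0
      rcases hG with h | h <;> rw [h] at h0 <;> omega
    have hNC : normalizer (Q : Set G) ≤ centralizer (Q : Set G) := by
      intro g hg
      have hpow : g ^ Nat.card (normalizer (Q : Set G)) = 1 := by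
        have h0 := pow_card_eq_one' (G := normalizer (Q : Set G)) (x := ⟨g, hg⟩)
        have h1 := congrArg Subtype.val h0
        simp only [Subgroup.coe_pow, Subgroup.coe_one] at h1
        exact h1
      rcases hNcard with h | h <;> rw [h] at hpow
      · exact centralizes_of_coprime (Q : Subgroup G) (by norm_num) hQ g hg hpow (by norm_num)
      · exact centralizes_of_coprime (Q : Subgroup G) (by norm_num) hQ g hg hpow (by norm_num)
    exact no_complement Q hQ (by norm_num) hNC P hPpow hM1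

theorem min_counter [Fact (Nat.Prime 7)] (hn : Nat.card (Sylow 7 G) = 15)
    (hmin : ∀ (H : Type u) [Group H] [Finite H], Nat.card H < Nat.card G →
      Nat.card (Sylow 7 H) ≠ 15) : False := by
  classical
  let _ : Fintype (Sylow 7 G) := Fintype.ofFinite _
  have hM1 : ∀ (P : Sylow 7 G) (M : Subgroup G) [M.Normal], (P : Subgroup G) ≤ M → M = ⊤ := by
    intro P M _ hPM
    by_contra hM
    have h1 := card_sylow_of_normal M P hPM
    rw [hn] at h1
    refine hmin M ?_ h1
    have hle : Nat.card M ≤ Nat.card G := Subgroup.card_le_card_group M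
    have hne : Nat.card M ≠ Nat.card G := fun h => hM ((Subgroup.card_eq_iff_eq_top M).mp h)
    omega
  set φ : G →* Equiv.Perm (Sylow 7 G) := MulAction.toPermHom G (Sylow 7 G) with hφ
  have hφapp : ∀ (g : G) (S : Sylow 7 G), φ g S = g • S := fun g S => rfl
  have hker_norm : ∀ S : Sylow 7 G, φ.ker ≤ normalizer (S : Set G) := by
    intro S g hg
    rw [MonoidHom.mem_ker] at hg
    rw [← Sylow.smul_eq_iff_mem_normalizer, ← hφapp, hg]; rfl
  have hker : φ.ker = ⊥ := by
    by_contra hk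
    have h1 := card_sylow_quotient φ.ker hker_norm
    rw [hn] at h1
    refine hmin (G ⧸ φ.ker) ?_ h1
    have h2 := Subgroup.card_mul_index φ.ker
    have h3 : 1 < Nat.card φ.ker := (Subgroup.one_lt_card_iff_ne_bot _).mpr hk
    change φ.ker.index < _
    have hpos : 0 < φ.ker.index := Nat.pos_of_ne_zero Subgroup.index_ne_zero_of_finite
    nlinarith
  have hinj : Function.Injective φ := (MonoidHom.ker_eq_bot_iff φ).mp hker
  have hTI : ∀ P Q : Sylow 7 G, P ≠ Q → (P : Subgroup G) ⊓ Q = ⊥ := by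
    intro P Q hPQ
    rw [eq_bot_iff, ← hker]
    intro g hg
    rw [MonoidHom.mem_ker]
    ext S : 1
    rw [hφapp, Equiv.Perm.one_apply, Sylow.smul_eq_iff_mem_normalizer]
    exact Subgroup.le_normalizer (inter_le_all hn P Q S hPQ hg)
  obtain P : Sylow 7 G := default
  have hnontriv : ∃ Q : Sylow 7 G, Q ≠ P := by
    have : Nontrivial (Sylow 7 G) :=
      (Finite.one_lt_card_iff_nontrivial).mp (by rw [hn]; norm_num)
    exact exists_ne P
  obtain ⟨Q, hQP⟩ := hnontriv
  have hP7 : Nat.card (P : Subgroup G) = 7 := by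
    have h1 := card_inf_mul_seven hn P Q (Ne.symm hQP)
    rw [hTI P Q (Ne.symm hQP), Subgroup.card_bot] at h1
    omega
  have hPne : (P : Subgroup G) ≠ ⊥ := by
    rw [← Subgroup.one_lt_card_iff_ne_bot, hP7]; norm_num
  obtain ⟨g₀, hg₀P, hg₀1⟩ := (P : Subgroup G).bot_or_exists_ne_one.resolve_left hPne
  have hP_pow : ∀ g ∈ (P : Subgroup G), g ^ 7 = 1 := by
    intro g hg
    have := pow_card_eq_one' (G := (P : Subgroup G)) (x := ⟨g, hg⟩)
    rw [hP7] at this
    simpa using congrArg Subtype.val this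
  have hord : orderOf g₀ = 7 := orderOf_eq_prime (hP_pow g₀ hg₀P) hg₀1
  have hzp : Subgroup.zpowers g₀ = (P : Subgroup G) := by
    apply Subgroup.eq_of_le_of_card_ge (Subgroup.zpowers_le.mpr hg₀P)
    rw [Nat.card_zpowers, hord, hP7]
  set x := φ g₀ with hx
  have hx7 : x ^ 7 = 1 := by rw [hx, ← map_pow, hP_pow g₀ hg₀P, map_one]
  have hfix : ∀ S : Sylow 7 G, x S = S ↔ S = P := by
    intro S
    rw [hx, hφapp]
    constructor
    · intro h
      by_contra hSP
      rw [Sylow.smul_eq_iff_mem_normalizer] at h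
      have h1 : g₀ ∈ (P : Subgroup G) ⊓ normalizer (S : Set G) := ⟨hg₀P, h⟩
      rw [P.isPGroup'.inf_normalizer_sylow S, hTI P S (Ne.symm hSP)] at h1
      exact hg₀1 (Subgroup.mem_bot.mp h1)
    · rintro rfl
      rw [Sylow.smul_eq_iff_mem_normalizer]
      exact Subgroup.le_normalizer hg₀P
  have hΩ : Fintype.card (Sylow 7 G) = 15 := by rw [← Nat.card_eq_fintype_card, hn]
  have hsign : ∀ b : G, Equiv.Perm.sign (φ b) = 1 := by
    have hPle : (P : Subgroup G) ≤ (Equiv.Perm.sign.comp φ).ker := by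
      intro g hg
      rw [MonoidHom.mem_ker, MonoidHom.comp_apply]
      have h7 : Equiv.Perm.sign (φ g) ^ 7 = 1 := by
        rw [← map_pow, ← map_pow, hP_pow g hg, map_one, map_one]
      have h2 : Equiv.Perm.sign (φ g) ^ 2 = 1 := Int.units_sq _
      have := Nat.eq_one_of_dvd_coprimes (by norm_num : Nat.Coprime 7 2)
        (orderOf_dvd_of_pow_eq_one h7) (orderOf_dvd_of_pow_eq_one h2)
      exact orderOf_eq_one_iff.mp this
    have htop := hM1 P (Equiv.Perm.sign.comp φ).ker hPle
    intro b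
    have hb : b ∈ (Equiv.Perm.sign.comp φ).ker := htop ▸ Subgroup.mem_top b
    exact hb
  have hC : ∀ b : G, Commute b g₀ → b ∈ (P : Subgroup G) := by
    intro b hb
    have hz : Commute (φ b) x := hb.map φ
    obtain ⟨h14, hs⟩ := perm_key hΩ x (φ b) P hx7 hfix hz
    have hb7 : b ^ 7 = 1 := by
      apply hinj
      rw [map_pow, map_one]
      by_contra hne
      have h1 := hs hne
      rw [← map_pow, hsign] at h1
      exact absurd h1 (by decide)
    have hcent : b ∈ centralizer ((P : Subgroup G) : Set G) := by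
      rw [Subgroup.mem_centralizer_iff]
      intro h hh
      have hh' : h ∈ Subgroup.zpowers g₀ := hzp ▸ hh
      obtain ⟨k, rfl⟩ := Subgroup.mem_zpowers_iff.mp hh'
      exact (hb.zpow_right k).eq.symm
    have hpg : IsPGroup 7 (Subgroup.zpowers b) := by
      intro g
      refine ⟨1, ?_⟩
      obtain ⟨k, hk⟩ := Subgroup.mem_zpowers_iff.mp g.2
      apply Subtype.ext
      rw [pow_one]
      simp only [Subgroup.coe_pow, Subgroup.coe_one]
      rw [← hk, ← zpow_natCast, ← zpow_mul, mul_comm, zpow_mul, zpow_natCast, hb7, one_zpow]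
    have h1 : b ∈ Subgroup.zpowers b ⊓ normalizer (P : Set G) :=
      ⟨Subgroup.mem_zpowers b, Subgroup.centralizer_le_normalizer _ hcent⟩
    rw [hpg.inf_normalizer_sylow P] at h1
    exact h1.2
  have hcentP : centralizer ((P : Subgroup G) : Set G) = P := by
    apply le_antisymm
    · intro b hb
      rw [Subgroup.mem_centralizer_iff] at hb
      exact hC b (hb g₀ hg₀P).symm
    · intro b hb
      rw [Subgroup.mem_centralizer_iff]
      intro h hh
      have hb' : b ∈ Subgroup.zpowers g₀ := hzp ▸ hb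
      have hh' : h ∈ Subgroup.zpowers g₀ := hzp ▸ hh
      obtain ⟨k, rfl⟩ := Subgroup.mem_zpowers_iff.mp hb'
      obtain ⟨l, rfl⟩ := Subgroup.mem_zpowers_iff.mp hh'
      exact ((Commute.refl g₀).zpow_zpow l k).eq
  set N := normalizer ((P : Subgroup G) : Set G) with hN
  have hcyc : IsCyclic (P : Subgroup G) := isCyclic_of_prime_card hP7
  have hAut : Nat.card (MulAut (P : Subgroup G)) = 6 := by
    rw [hcyc.card_mulAut, hP7, Nat.totient_prime (by norm_num)]
  have hkerψ : (P : Subgroup G).normalizerMonoidHom.ker = (P : Subgroup G).subgroupOf N := by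
    rw [Subgroup.normalizerMonoidHom_ker, hcentP]
  have he : ∃ e, e ∣ 6 ∧ Nat.card N = 7 * e := by
    refine ⟨(P : Subgroup G).normalizerMonoidHom.ker.index, ?_, ?_⟩
    · rw [Subgroup.index_ker, ← hAut]
      exact Subgroup.card_subgroup_dvd_card _
    · rw [← Subgroup.card_mul_index (P : Subgroup G).normalizerMonoidHom.ker, hkerψ,
        Nat.card_congr (Subgroup.subgroupOfEquivOfLe Subgroup.le_normalizer).toEquiv, hP7]
  obtain ⟨e, he6, hNe⟩ := he
  have hG : Nat.card G = 105 * e := by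
    have h1 := Subgroup.card_mul_index N
    have h2 : N.index = 15 := by rw [← hn]; exact (Sylow.card_eq_index_normalizer P).symm
    rw [h2, hNe] at h1
    omega
  have he' : e = 1 ∨ e = 2 ∨ e = 3 ∨ e = 6 := by
    have hle : e ≤ 6 := Nat.le_of_dvd (by norm_num) he6
    obtain ⟨c, hc⟩ := he6
    interval_cases e <;> omega
  rcases he' with rfl | rfl | rfl | rfl
  · exact final_odd (Or.inl (by omega)) P hP7 hP_pow g₀ (hP_pow g₀ hg₀P) hC (hM1 P)
  · exact final_even (by rw [hG]; norm_num) (by rw [hG]; norm_num) P hP_pow (hM1 P)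
  · exact final_odd (Or.inr (by omega)) P hP7 hP_pow g₀ (hP_pow g₀ hg₀P) hC (hM1 P)
  · exact final_even (by rw [hG]; norm_num) (by rw [hG]; norm_num) P hP_pow (hM1 P)

theorem main_aux [Fact (Nat.Prime 7)] : ∀ (n : ℕ) (G : Type u) [Group G] [Finite G],
    Nat.card G = n → Nat.card (Sylow 7 G) ≠ 15 := by
  intro n
  induction n using Nat.strong_induction_on with
  | _ n ih =>
    intro G _ _ hcard hn
    exact min_counter hn (fun H _ _ hlt => ih (Nat.card H) (hcard ▸ hlt) H rfl)

end Main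

/-- No finite group has exactly 15 Sylow 7-subgroups. -/
theorem result {G : Type*} [Group G] [Finite G] : Nat.card (Sylow 7 G) ≠ 15 := by
  have : Fact (Nat.Prime 7) := ⟨by norm_num⟩
  exact main_aux _ G rfl

end Cfsg.Agent.S4304
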