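import Cfsg.Statements.S4321
import Cfsg.Agent.Lib.Helper9.S4321.Assembly
import Cfsg.Agent.Lib.Helper27.S4257.A
import Cfsg.Agent.Lib.Helper15.S4257.B
import Cfsg.Agent.Lib.Helper15.S4257.J
import Cfsg.Agent.Lib.Helper64.S4321.PP
import Cfsg.Agent.Lib.Helper64.S4321.N1
import Cfsg.Agent.Lib.Helper64.S4321.Q3
import Cfsg.Agent.Lib.Helper23.S4321.L13
import Cfsg.Agent.Lib.Helper23.S4321.N3
import Cfsg.Agent.Lib.Helper23.S4321.N4
import Cfsg.Agent.Lib.Helper23.S4321.N5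
import Cfsg.Agent.Lib.Helper91.S4321.N2
import Cfsg.Agent.Lib.Helper37.S4321.Q2b
import Cfsg.Agent.Lib.Helper56.S4321.Q1
import Cfsg.Agent.Lib.Helper25.S4321.Q2a

set_option autoImplicit false
open Cfsg

namespace Cfsg.Agent.S4321

/-- Let `G` be a finite group and `p` a prime not dividing the order of the centre of `G`. Consider the primes dividing the size of some conjugacy class of a `p`-singular element (an element of order divisible by `p`), two of them adjacent when their product divides such a class size. Then any two distinct such primes are joined by a path with at most 3 edges (the graph is connected of diameter at most 3). -/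
theorem result {G : Type*} [Group G] [Finite G] (p : ℕ) [Fact p.Prime]
    (hZ : ¬ p ∣ Nat.card ↥(Subgroup.center G)) (r s : ℕ) (hr : (r.Prime ∧ ∃ x : G, p ∣ orderOf x ∧ r ∣ (Subgroup.centralizer ({x} : Set G)).index)) (hs : (s.Prime ∧ ∃ x : G, p ∣ orderOf x ∧ s ∣ (Subgroup.centralizer ({x} : Set G)).index)) (hrs : r ≠ s) :
    (∃ x : G, p ∣ orderOf x ∧ r * s ∣ (Subgroup.centralizer ({x} : Set G)).index) ∨ (∃ t : ℕ, (t.Prime ∧ ∃ x : G, p ∣ orderOf x ∧ t ∣ (Subgroup.centralizer ({x} : Set G)).index) ∧ t ≠ r ∧ t ≠ s ∧ (∃ x : G, p ∣ orderOf x ∧ r * t ∣ (Subgroup.centralizer ({x} : Set G)).index) ∧ (∃ x : G, p ∣ orderOf x ∧ t * s ∣ (Subgroup.centralizer ({x} : Set G)).index)) ∨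
      (∃ t u : ℕ, (t.Prime ∧ ∃ x : G, p ∣ orderOf x ∧ t ∣ (Subgroup.centralizer ({x} : Set G)).index) ∧ (u.Prime ∧ ∃ x : G, p ∣ orderOf x ∧ u ∣ (Subgroup.centralizer ({x} : Set G)).index) ∧ t ≠ r ∧ u ≠ s ∧ t ≠ u ∧ (∃ x : G, p ∣ orderOf x ∧ r * t ∣ (Subgroup.centralizer ({x} : Set G)).index) ∧ (∃ x : G, p ∣ orderOf x ∧ t * u ∣ (Subgroup.centralizer ({x} : Set G)).index) ∧ (∃ x : G, p ∣ orderOf x ∧ u * s ∣ (Subgroup.centralizer ({x} : Set G)).index)) := by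
  exact Cfsg.Agent.Lib.Helper9.S4321.diameter_of_false (fun p σ τ r s hC => Cfsg.Agent.Lib.Helper9.S4321.false_of_pkgs Cfsg.Agent.Lib.Helper27.S4257.pkgA Cfsg.Agent.Lib.Helper15.S4257.pkgB Cfsg.Agent.Lib.Helper15.S4257.pkgJ Cfsg.Agent.Lib.Helper64.S4321.pkgPP Cfsg.Agent.Lib.Helper64.S4321.pkgPS Cfsg.Agent.Lib.Helper64.S4321.pkgN1 Cfsg.Agent.Lib.Helper23.S4321.pkgL13 Cfsg.Agent.Lib.Helper56.S4321.pkgQ1 Cfsg.Agent.Lib.Helper25.S4321.pkgQ2a Cfsg.Agent.Lib.Helper37.S4321.pkgQ2b Cfsg.Agent.Lib.Helper64.S4321.pkgQ3 Cfsg.Agent.Lib.Helper91.S4321.pkgN2 Cfsg.Agent.Lib.Helper23.S4321.pkgN3 Cfsg.Agent.Lib.Helper23.S4321.pkgN4 Cfsg.Agent.Lib.Helper23.S4321.pkgN5 p σ τ r s hC) p hZ r s hr hs hrs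

end Cfsg.Agent.S4321
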