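import Cfsg.Statements.S4347

set_option autoImplicit false
open Cfsg

namespace Cfsg.Agent.S4347

/-- Let G be a finite group and p a prime. Say a Sylow p-subgroup Q is redundant when every element of p-power order lies in some Sylow p-subgroup other than Q. Then G has no redundant Sylow p-subgroup if and only if some element of p-power order lies in exactly one Sylow p-subgroup. -/
theorem result {G : Type*} [Group G] [Finite G]
    (p : ℕ) [Fact p.Prime] :
    (¬ ∃ Q : Sylow p G, ∀ x : G, (∃ k : ℕ, orderOf x = p ^ k) → ∃ P : Sylow p G, P ≠ Q ∧ x ∈ P) ↔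
      ∃ x : G, (∃ k : ℕ, orderOf x = p ^ k) ∧ ∃! P : Sylow p G, x ∈ P := by
  constructor
  · intro h
    push Not at h
    obtain ⟨Q⟩ : Nonempty (Sylow p G) := inferInstance
    obtain ⟨x, hx, hQ⟩ := h Q
    refine ⟨x, hx, ?_⟩
    obtain ⟨k, hk⟩ := hx
    have hz : IsPGroup p (Subgroup.zpowers x) := by
      apply IsPGroup.of_card (n := k)
      rw [Nat.card_zpowers, hk]
    obtain ⟨P, hP⟩ := hz.exists_le_sylow
    have hxP : x ∈ P := hP (Subgroup.mem_zpowers x)
    have hPQ : P = Q := by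
      by_contra hne
      exact hQ P hne hxP
    refine ⟨Q, hPQ ▸ hxP, ?_⟩
    intro P' hP'
    by_contra hne
    exact hQ P' hne hP'
  · rintro ⟨x, hx, P, hxP, huniq⟩ ⟨Q, hQ⟩
    obtain ⟨g, rfl⟩ := MulAction.exists_smul_eq G P Q
    have hord : ∃ k : ℕ, orderOf (g * x * g⁻¹) = p ^ k := by
      obtain ⟨k, hk⟩ := hx
      exact ⟨k, by rw [← hk]; exact (MulAut.conj g).orderOf_eq x⟩
    obtain ⟨P', hP', hxP'⟩ := hQ (g * x * g⁻¹) hord
    apply hP'
    have h1 : x ∈ g⁻¹ • P' := by
      have : x ∈ ((g⁻¹ • P' : Sylow p G) : Subgroup G) := by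
        rw [Sylow.coe_subgroup_smul, Subgroup.mem_pointwise_smul_iff_inv_smul_mem]
        have h3 : g * x * g⁻¹ ∈ (P' : Subgroup G) := hxP'
        simpa [MulAut.conj_apply] using h3
      exact this
    have h2 := huniq (g⁻¹ • P') h1
    rw [← h2]; simp
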