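import Cfsg.Statements.S4348

set_option autoImplicit false
open Cfsg

namespace Cfsg.Agent.S4348

/-- Let G be a finite group, p a prime and P a Sylow p-subgroup of G, and let O_p(G) be the largest normal p-subgroup of G. If P/O_p(G) is cyclic, then some element of p-power order of G lies in exactly one Sylow p-subgroup. -/
theorem result {G : Type*} [Group G] [Finite G]
    (p : ℕ) [Fact p.Prime] (P : Sylow p G)
    [hn : ((Cfsg.pCore p G).subgroupOf (P : Subgroup G)).Normal]
    (hc : IsCyclic ((P : Subgroup G) ⧸ (Cfsg.pCore p G).subgroupOf (P : Subgroup G))) :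
    ∃ x : G, (∃ k : ℕ, orderOf x = p ^ k) ∧ ∃! Q : Sylow p G, x ∈ Q := by
  have hcore : ∀ Q : Sylow p G, Cfsg.pCore p G ≤ (Q : Subgroup G) := by
    intro Q
    unfold Cfsg.pCore
    refine sSup_le ?_
    rintro N ⟨hN, hp⟩
    have := hN
    exact hp.le_sylow_of_normal Q
  obtain ⟨g, hg⟩ := hc.exists_generator
  obtain ⟨y, rfl⟩ := QuotientGroup.mk_surjective g
  refine ⟨(y : G), ?_, P, y.2, ?_⟩
  · obtain ⟨k, hk⟩ := (IsPGroup.iff_orderOf.mp P.isPGroup') y
    exact ⟨k, by rw [Subgroup.orderOf_coe]; exact hk⟩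
  · intro Q hQ
    have hle : (P : Subgroup G) ≤ (Q : Subgroup G) := by
      intro z hz
      obtain ⟨n, hn'⟩ := Subgroup.mem_zpowers_iff.mp (hg (QuotientGroup.mk ⟨z, hz⟩))
      rw [← QuotientGroup.mk_zpow, QuotientGroup.eq] at hn'
      rw [Subgroup.mem_subgroupOf] at hn'
      have h1 : ((y ^ n)⁻¹ * ⟨z, hz⟩ : (P : Subgroup G)) = (((y : G) ^ n)⁻¹ * z : G) := by
        simp
      rw [h1] at hn'
      have h2 : ((y : G) ^ n)⁻¹ * z ∈ (Q : Subgroup G) := hcore Q hn'
      have h3 : ((y : G) ^ n) ∈ (Q : Subgroup G) := Subgroup.zpow_mem _ hQ n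
      have h4 := Subgroup.mul_mem _ h3 h2
      simpa using h4
    exact Sylow.ext (P.is_maximal' Q.isPGroup' hle)
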