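import Mathlib
import Cfsg.Statements.S4355
import Cfsg.Agent.S4194

set_option autoImplicit false
open Cfsg

namespace Cfsg.Agent.S4355

/-- A subgroup of odd index contains a Sylow `2`-subgroup. -/
theorem exists_sylow_le_of_not_dvd_index {G : Type*} [Group G] [Finite G] (C : Subgroup G)
    (hC : ¬ 2 ∣ C.index) : ∃ Q : Sylow 2 G, (Q : Subgroup G) ≤ C := by
  have : Fact (Nat.Prime 2) := ⟨Nat.prime_two⟩
  obtain ⟨Q⟩ : Nonempty (Sylow 2 G) := inferInstance
  have hfix := IsPGroup.nonempty_fixed_point_of_prime_not_dvd_card (p := 2) Q.isPGroup' (G ⧸ C)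
    (by rwa [← Subgroup.index_eq_card])
  obtain ⟨x, hx⟩ := hfix
  obtain ⟨g, rfl⟩ := QuotientGroup.mk_surjective x
  refine ⟨g⁻¹ • Q, ?_⟩
  intro y hy
  have hy' : y ∈ ((g⁻¹ • Q : Sylow 2 G) : Subgroup G) := hy
  rw [Sylow.smul_def, Sylow.pointwise_smul_def, Subgroup.mem_pointwise_smul_iff_inv_smul_mem] at hy'
  have e : (MulAut.conj g⁻¹)⁻¹ • y = g * y * g⁻¹ := by simp [MulAut.smul_def]
  rw [e] at hy'
  have h1 := hx ⟨g * y * g⁻¹, hy'⟩
  have h2 : ((g * y * g⁻¹ * g : G) : G ⧸ C) = (g : G ⧸ C) := h1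
  rw [QuotientGroup.eq] at h2
  have e2 : (g * y * g⁻¹ * g)⁻¹ * g = y⁻¹ := by group
  rw [e2] at h2
  exact (inv_mem_iff (x := y)).1 h2

/-- If every element of 2-power order of a finite group has a conjugacy class of odd size, then the Sylow 2-subgroups of the group are abelian. -/
theorem result {G : Type*} [Group G] [Finite G]
    (h : ∀ x : G, (∃ k : ℕ, orderOf x = 2 ^ k) → ¬ 2 ∣ (Subgroup.centralizer ({x} : Set G)).index) (P : Sylow 2 G) :
    IsMulCommutative P := by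
  have hG : Cfsg.Agent.S4194.TwoCentral G := fun x hx =>
    exists_sylow_le_of_not_dvd_index _ (h x hx)
  exact ⟨⟨fun a b => Subtype.ext (Cfsg.Agent.S4194.main _ G rfl hG P a.1 b.1 a.2 b.2)⟩⟩

end Cfsg.Agent.S4355
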