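import Cfsg.Statements.S4364
import Cfsg.Agent.Lib.Helper72.Kazarin
import Cfsg.Agent.Lib.Helper21.Fit
import Cfsg.Agent.Lib.Helper47.PRed
import Cfsg.Agent.Lib.Helper77.Kernel
import Cfsg.Agent.S3836

set_option autoImplicit false
open Cfsg

namespace Cfsg.Agent.S4364

universe u

/-- A nilpotent normal subgroup of a group with trivial `O_p` has order prime to `p`. -/
theorem not_dvd_card_of_pCore_eq_bot {H : Type u} [Group H] [Finite H] (p : ℕ) [Fact p.Prime]
    (hO : Cfsg.pCore p H = ⊥) (F : Subgroup H) [hFn : F.Normal] (hF : Group.IsNilpotent F) :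
    ¬ p ∣ Nat.card F := by
  intro hdvd
  obtain ⟨P⟩ := (inferInstance : Nonempty (Sylow p F))
  have hPn : (P : Subgroup F).Normal :=
    Sylow.normal_of_normalizerCondition Group.normalizerCondition_of_isNilpotent P
  have hPc : (P : Subgroup F).Characteristic := Sylow.characteristic_of_normal P hPn
  have hn : ((P : Subgroup F).map F.subtype).Normal := ConjAct.normal_of_characteristic_of_normal
  have hp : IsPGroup p ((P : Subgroup F).map F.subtype) := P.isPGroup'.map F.subtype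
  have hle := Cfsg.Agent.S3836.le_pCore' _ hn hp
  rw [hO, le_bot_iff] at hle
  have hbot : (P : Subgroup F) = ⊥ := by
    rw [eq_bot_iff]
    intro z hz
    have : (z : H) ∈ (P : Subgroup F).map F.subtype := ⟨z, hz, rfl⟩
    rw [hle, Subgroup.mem_bot] at this
    rw [Subgroup.mem_bot]
    exact Subtype.ext this
  exact P.ne_bot_of_dvd_card hdvd hbot

/-- Camina–Camina for trivial `O_p`: conjugates of an element of `p`-power class size
commute. -/
theorem commute_conj_of_pCore_eq_bot {H : Type u} [Group H] [Finite H] (p : ℕ) [Fact p.Prime]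
    (hO : Cfsg.pCore p H = ⊥) (y : H) (a : ℕ)
    (hy : (Subgroup.centralizer ({y} : Set H)).index = p ^ a) (g h : H) :
    Commute (g * y * g⁻¹) (h * y * h⁻¹) := by
  have hp : p.Prime := Fact.out
  have hFn : (Cfsg.fittingSubgroup H).Normal := Cfsg.Agent.Lib.Helper29.fittingSubgroup_normal H
  have hFnil : Group.IsNilpotent (Cfsg.fittingSubgroup H) :=
    Cfsg.Agent.Lib.Helper71.fittingSubgroup_isNilpotent
  have hpF := not_dvd_card_of_pCore_eq_bot p hO (Cfsg.fittingSubgroup H) hFnil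
  -- `F ≤ C(y)`
  have hFle : Cfsg.fittingSubgroup H ≤ Subgroup.centralizer ({y} : Set H) := by
    rw [← Subgroup.relIndex_eq_one]
    have h1 : (Subgroup.centralizer ({y} : Set H)).relIndex (Cfsg.fittingSubgroup H) ∣ p ^ a := by
      rw [← hy]
      exact Cfsg.Agent.S4354.relIndex_dvd_index_normal _ _
    have h2 : (Subgroup.centralizer ({y} : Set H)).relIndex (Cfsg.fittingSubgroup H) ∣
        Nat.card (Cfsg.fittingSubgroup H) := Subgroup.relIndex_dvd_card _ _
    have hcop : Nat.Coprime (p ^ a) (Nat.card (Cfsg.fittingSubgroup H)) :=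
      Nat.Coprime.pow_left a ((Nat.Prime.coprime_iff_not_dvd hp).mpr hpF)
    exact Nat.eq_one_of_dvd_coprimes hcop h1 h2
  have hyC : y ∈ Subgroup.centralizer (Cfsg.fittingSubgroup H : Set H) := by
    rw [Subgroup.mem_centralizer_iff]
    intro f hf
    have := Subgroup.mem_centralizer_iff.mp (hFle hf) y rfl
    exact this.symm
  have hCn : (Subgroup.centralizer (Cfsg.fittingSubgroup H : Set H)).Normal := inferInstance
  have hNle : Subgroup.normalClosure ({y} : Set H) ≤
      Subgroup.centralizer (Cfsg.fittingSubgroup H : Set H) :=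
    Subgroup.normalClosure_le_normal (by simpa using hyC)
  have hNn : (Subgroup.normalClosure ({y} : Set H)).Normal := Subgroup.normalClosure_normal
  have hsolv := Cfsg.Agent.Lib.Helper72.Kazarin.kazarin y hp a hy
  have hcen := Cfsg.Agent.Lib.Helper21.solvable_le_center_fittingSubgroup
    (Subgroup.normalClosure ({y} : Set H)) hNle
    (by rw [Subgroup.normalizer_eq_top]; exact le_top) hsolv
  have hg : g * y * g⁻¹ ∈ Subgroup.normalClosure ({y} : Set H) :=
    hNn.conj_mem y (Subgroup.subset_normalClosure rfl) g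
  have hh : h * y * h⁻¹ ∈ Subgroup.normalClosure ({y} : Set H) :=
    hNn.conj_mem y (Subgroup.subset_normalClosure rfl) h
  obtain ⟨u, hu, hug⟩ := hcen hg
  obtain ⟨v, hv, hvh⟩ := hcen hh
  rw [SetLike.mem_coe, Subgroup.mem_center_iff] at hu
  have := hu v
  rw [← hug, ← hvh]
  exact (congrArg Subtype.val this).symm

/-- Let G be a finite group, p a prime and x an element whose conjugacy class has p-power size. Then for any two conjugates y and z of x, the commutator y z y⁻¹ z⁻¹ lies in O_p(G), the largest normal p-subgroup of G. -/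
theorem result {G : Type*} [Group G] [Finite G] (p : ℕ) [Fact p.Prime]
    (x : G) (hx : ∃ a : ℕ, (Subgroup.centralizer ({x} : Set G)).index = p ^ a) (g h : G) :
    (g * x * g⁻¹) * (h * x * h⁻¹) * (g * x * g⁻¹)⁻¹ * (h * x * h⁻¹)⁻¹ ∈ Cfsg.pCore p G := by
  classical
  obtain ⟨a, ha⟩ := hx
  have hp : p.Prime := Fact.out
  have hRn : (Cfsg.pCore p G).Normal := Cfsg.Agent.S3836.pCore_normal' p G
  have hO : Cfsg.pCore p (G ⧸ Cfsg.pCore p G) = ⊥ := by
    rw [Cfsg.Agent.Lib.Helper47.pCore_quot_eq_bot_iff]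
    intro D hD hDp
    refine Cfsg.Agent.S3836.le_pCore' D hD ?_
    intro d
    obtain ⟨k, hk⟩ := hDp d d.2
    obtain ⟨j, hj⟩ := Cfsg.Agent.S3836.pCore_isPGroup' p G ⟨_, hk⟩
    refine ⟨k + j, Subtype.ext ?_⟩
    have hj' := congrArg Subtype.val hj
    simp only [SubmonoidClass.mk_pow, OneMemClass.coe_one] at hj'
    simp only [SubmonoidClass.coe_pow, OneMemClass.coe_one]
    rw [pow_add, pow_mul]
    exact hj'
  have hd := Cfsg.Agent.Lib.Helper77.index_centralizer_quot_dvd (N := Cfsg.pCore p G) x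
  rw [ha] at hd
  obtain ⟨a', -, ha'⟩ := (Nat.dvd_prime_pow hp).mp hd
  have hc := commute_conj_of_pCore_eq_bot p hO (x : G ⧸ Cfsg.pCore p G) a' ha'
    (g : G ⧸ Cfsg.pCore p G) (h : G ⧸ Cfsg.pCore p G)
  rw [← QuotientGroup.eq_one_iff]
  have e : (((g * x * g⁻¹) * (h * x * h⁻¹) * (g * x * g⁻¹)⁻¹ * (h * x * h⁻¹)⁻¹ : G) :
      G ⧸ Cfsg.pCore p G) =
      ((g : G ⧸ Cfsg.pCore p G) * (x : G ⧸ Cfsg.pCore p G) * (g : G ⧸ Cfsg.pCore p G)⁻¹) *
      ((h : G ⧸ Cfsg.pCore p G) * (x : G ⧸ Cfsg.pCore p G) * (h : G ⧸ Cfsg.pCore p G)⁻¹) *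
      ((g : G ⧸ Cfsg.pCore p G) * (x : G ⧸ Cfsg.pCore p G) * (g : G ⧸ Cfsg.pCore p G)⁻¹)⁻¹ *
      ((h : G ⧸ Cfsg.pCore p G) * (x : G ⧸ Cfsg.pCore p G) * (h : G ⧸ Cfsg.pCore p G)⁻¹)⁻¹ := by
    simp only [QuotientGroup.mk_mul, QuotientGroup.mk_inv]
  rw [e, hc.eq]
  group

end Cfsg.Agent.S4364
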