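import Cfsg.Statements.S4370
import Mathlib
import Cfsg.Agent.Lib.Helper73.MaxClass2
import Cfsg.Agent.Lib.Helper73.NilpotentCoprime
import Cfsg.Agent.S0016
import Cfsg.Agent.S3908

set_option autoImplicit false
open Cfsg

namespace Cfsg.Agent.S4370

open Cfsg.Agent.Lib.Helper73

/-- If all centralizers of non-central elements are cyclic, a non-abelian Sylow subgroup is
generalized quaternion. -/
theorem sylow_quaternion_of_not_comm {G : Type*} [Group G] [Finite G]
    (hcent : ∀ x : G, x ∉ Subgroup.center G → IsCyclic (Subgroup.centralizer ({x} : Set G)))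
    (p : ℕ) [Fact p.Prime] (P : Sylow p G) (hP : ¬ IsMulCommutative ↥(P : Subgroup G)) :
    p = 2 ∧ ∃ n : ℕ, 1 ≤ n ∧ Nonempty (↥(P : Subgroup G) ≃* QuaternionGroup (2 ^ n)) := by
  have hp : p.Prime := Fact.out
  have hQ : IsPGroup p ↥(P : Subgroup G) := P.isPGroup'
  have hcentQ : ∀ u : ↥(P : Subgroup G), u ∉ Subgroup.center ↥(P : Subgroup G) →
      IsCyclic (Subgroup.centralizer ({u} : Set ↥(P : Subgroup G))) := by
    intro u hu
    have hu' : (u : G) ∉ Subgroup.center G := by
      intro h
      apply hu
      rw [Subgroup.mem_center_iff]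
      intro g
      apply Subtype.ext
      exact Subgroup.mem_center_iff.mp h g
    have hcyc := hcent (u : G) hu'
    let f : ↥(Subgroup.centralizer ({u} : Set ↥(P : Subgroup G))) →*
        ↥(Subgroup.centralizer ({(u : G)} : Set G)) :=
      { toFun := fun y => ⟨((y : ↥(P : Subgroup G)) : G), by
          rw [Subgroup.mem_centralizer_singleton_iff]
          have := Subgroup.mem_centralizer_singleton_iff.mp y.2
          exact congrArg Subtype.val this⟩
        map_one' := rfl
        map_mul' := fun _ _ => rfl }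
    apply isCyclic_of_injective f
    intro a b hab
    have h1 : ((a : ↥(P : Subgroup G)) : G) = ((b : ↥(P : Subgroup G)) : G) := by
      have := congrArg Subtype.val hab
      exact this
    exact Subtype.ext (Subtype.ext h1)
  have hnt : Nontrivial ↥(P : Subgroup G) := by
    by_contra hnt
    rw [not_nontrivial_iff_subsingleton] at hnt
    exact hP ⟨⟨fun a b => by rw [Subsingleton.elim a b]⟩⟩
  obtain ⟨u, hu⟩ : ∃ u : ↥(P : Subgroup G), u ∉ Subgroup.center ↥(P : Subgroup G) := by
    by_contra hcon
    push Not at hcon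
    apply hP
    exact ⟨⟨fun a b => Subgroup.mem_center_iff.mp (hcon b) a⟩⟩
  have huniq : ∀ H K : Subgroup ↥(P : Subgroup G), Nat.card H = p → Nat.card K = p → H = K := by
    intro H K hH hK
    by_contra hne
    obtain ⟨E, hEc, hEcard, hEexp⟩ := Cfsg.Agent.S3908.exists_elementary_sq hQ H K hH hK hne
    have hEnc : ¬ IsCyclic E := by
      intro hc
      obtain ⟨g, hg⟩ := hc.exists_generator
      have h1 : orderOf g = Nat.card E := orderOf_eq_card_of_forall_mem_zpowers hg
      have h3 : g ^ p = 1 := by
        apply Subtype.ext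
        rw [Subgroup.coe_pow, hEexp g g.2]
        rfl
      have h4 : orderOf g ∣ p := orderOf_dvd_iff_pow_eq_one.mpr h3
      rw [h1, hEcard] at h4
      have h5 := Nat.le_of_dvd hp.pos h4
      have h6 : p < p ^ 2 := by
        calc p = p ^ 1 := (pow_one p).symm
          _ < p ^ 2 := Nat.pow_lt_pow_right hp.one_lt (by norm_num)
      omega
    have hEZ : E ≤ Subgroup.center ↥(P : Subgroup G) := by
      intro e he
      by_contra hec
      have hcyc := hcentQ e hec
      apply hEnc
      apply Subgroup.isCyclic_of_le (H' := Subgroup.centralizer ({e} : Set ↥(P : Subgroup G)))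
      intro y hy
      rw [Subgroup.mem_centralizer_singleton_iff]
      have := mul_comm' (⟨y, hy⟩ : E) ⟨e, he⟩
      exact congrArg Subtype.val this
    have hcyc := hcentQ u hu
    apply hEnc
    exact Subgroup.isCyclic_of_le (H' := Subgroup.centralizer ({u} : Set ↥(P : Subgroup G)))
      (hEZ.trans (Subgroup.center_le_centralizer _))
  rcases Cfsg.Agent.S0016.result p hQ huniq with hcyc | ⟨rfl, n, ⟨φ⟩⟩
  · exact absurd (inferInstance : IsMulCommutative ↥(P : Subgroup G)) hP
  · refine ⟨rfl, n, ?_, ⟨φ⟩⟩
    by_contra hn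
    have hn0 : n = 0 := by omega
    subst hn0
    apply hP
    have : NeZero (2 ^ 0) := ⟨by norm_num⟩
    have hcard : Nat.card ↥(P : Subgroup G) = 2 ^ 2 := by
      rw [Nat.card_congr φ.toEquiv, Nat.card_eq_fintype_card, QuaternionGroup.card]
      norm_num
    exact IsPGroup.isMulCommutative_of_card_eq_prime_sq (p := 2) hcard

/-- In the generalized quaternion group, everything commuting with `xa i` is a power of `xa i`. -/
theorem mem_zpowers_xa_of_comm (N : ℕ) [NeZero N] (i : ZMod (2 * N)) (y : QuaternionGroup N)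
    (hy : y * QuaternionGroup.xa i = QuaternionGroup.xa i * y) :
    y ∈ Subgroup.zpowers (QuaternionGroup.xa i) := by
  have hNN : (N : ZMod (2 * N)) + N = 0 := by
    have : ((N + N : ℕ) : ZMod (2 * N)) = 0 := by
      rw [ZMod.natCast_eq_zero_iff]; exact ⟨1, by ring⟩
    rwa [Nat.cast_add] at this
  have hsq : (QuaternionGroup.xa i) ^ 2 = QuaternionGroup.a (N : ZMod (2 * N)) := by
    rw [pow_two, QuaternionGroup.xa_mul_xa]; simp
  have hcube : (QuaternionGroup.xa i) ^ 3 = QuaternionGroup.xa (i + (N : ZMod (2 * N))) := by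
    rw [pow_succ, hsq, QuaternionGroup.a_mul_xa]
    congr 1
    linear_combination (-1 : ZMod (2 * N)) * hNN
  rcases y with j | j
  · rw [QuaternionGroup.a_mul_xa, QuaternionGroup.xa_mul_a] at hy
    have hj : j + j = 0 := by
      have h1 : i - j = i + j := by injection hy
      linear_combination (-1 : ZMod (2 * N)) * h1
    rcases zmod_two_mul_add_self j hj with rfl | rfl
    · rw [← QuaternionGroup.one_def]; exact one_mem _
    · rw [← hsq]; exact Subgroup.pow_mem _ (Subgroup.mem_zpowers _) _
  · rw [QuaternionGroup.xa_mul_xa, QuaternionGroup.xa_mul_xa] at hy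
    have hj : (j - i) + (j - i) = 0 := by
      have h1 : (N : ZMod (2 * N)) + i - j = N + j - i := by injection hy
      linear_combination (-1 : ZMod (2 * N)) * h1
    rcases zmod_two_mul_add_self (j - i) hj with h | h
    · have : j = i := by linear_combination h
      rw [this]; exact Subgroup.mem_zpowers _
    · have : j = i + (N : ZMod (2 * N)) := by linear_combination h
      rw [this, ← hcube]; exact Subgroup.pow_mem _ (Subgroup.mem_zpowers _) _

/-- A nilpotent non-abelian group has all centralizers of non-central elements cyclic iff it is the direct product of a generalized quaternion group and a cyclic group of odd order. -/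
theorem result {G : Type*} [Group G] [Finite G] (hG : Group.IsNilpotent G)
    (hna : ¬ IsMulCommutative G) :
    (∀ x : G, x ∉ Subgroup.center G → IsCyclic (Subgroup.centralizer ({x} : Set G))) ↔
      ∃ (k m : ℕ), 1 ≤ k ∧ Odd m ∧ Nonempty (G ≃* QuaternionGroup (2 ^ k) × Multiplicative (ZMod m)) := by
  constructor
  · intro hcent
    obtain ⟨p, hp, P, hPnc⟩ := exists_sylow_not_comm hna
    obtain ⟨rfl, k, hk, ⟨φ⟩⟩ := sylow_quaternion_of_not_comm hcent p P hPnc
    have hPnormal : (P : Subgroup G).Normal := inferInstance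
    obtain ⟨C, hC⟩ := Subgroup.exists_right_complement'_of_coprime P.card_coprime_index
    have hcardmul := hC.card_mul_card
    have hcop : Nat.Coprime (Nat.card (P : Subgroup G)) (Nat.card C) := by
      have h0 := P.card_coprime_index
      have h1 := (P : Subgroup G).card_mul_index
      have h2 : (P : Subgroup G).index = Nat.card C :=
        Nat.eq_of_mul_eq_mul_left Nat.card_pos (h1.trans hcardmul.symm)
      rwa [h2] at h0
    have hcomm : ∀ x ∈ (P : Subgroup G), ∀ c ∈ C, x * c = c * x := by
      intro x hx c hc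
      apply commute_of_coprime_orderOf
      exact Nat.Coprime.coprime_dvd_left (Subgroup.orderOf_dvd_natCard _ hx)
        (Nat.Coprime.coprime_dvd_right (Subgroup.orderOf_dvd_natCard _ hc) hcop)
    obtain ⟨u, huP, hunc⟩ : ∃ u ∈ (P : Subgroup G), u ∉ Subgroup.center G := by
      by_contra hcon
      push Not at hcon
      apply hPnc
      refine ⟨⟨fun a b => ?_⟩⟩
      apply Subtype.ext
      exact Subgroup.mem_center_iff.mp (hcon b b.2) a
    have hCcyc : IsCyclic C := by
      have := hcent u hunc
      apply Subgroup.isCyclic_of_le (H' := Subgroup.centralizer ({u} : Set G))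
      intro c hc
      rw [Subgroup.mem_centralizer_singleton_iff]
      exact (hcomm u huP c hc).symm
    have : NeZero (2 ^ k) := ⟨by positivity⟩
    have hPcard : Nat.card (P : Subgroup G) = 2 ^ (k + 2) := by
      rw [Nat.card_congr φ.toEquiv, Nat.card_eq_fintype_card, QuaternionGroup.card]; ring
    have hm : Odd (Nat.card C) := by
      rw [hPcard] at hcop
      have h2 : Nat.Coprime 2 (Nat.card C) :=
        Nat.Coprime.coprime_dvd_left (dvd_pow_self 2 (by omega)) hcop
      exact Nat.Coprime.odd_of_left h2
    let f : ↥(P : Subgroup G) × ↥C →* G :=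
      { toFun := fun x => (x.1 : G) * (x.2 : G)
        map_one' := by simp
        map_mul' := fun x y => by
          simp only [Prod.fst_mul, Prod.snd_mul, Subgroup.coe_mul]
          have h3 := hcomm y.1 y.1.2 x.2 x.2.2
          calc (x.1 : G) * (y.1 : G) * ((x.2 : G) * (y.2 : G))
              = (x.1 : G) * ((y.1 : G) * (x.2 : G)) * (y.2 : G) := by group
            _ = (x.1 : G) * ((x.2 : G) * (y.1 : G)) * (y.2 : G) := by rw [h3]
            _ = (x.1 : G) * (x.2 : G) * ((y.1 : G) * (y.2 : G)) := by group }
    have hbij : Function.Bijective f := hC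
    exact ⟨k, Nat.card C, hk, hm,
      ⟨(MulEquiv.ofBijective f hbij).symm.trans
        (MulEquiv.prodCongr φ (zmodCyclicMulEquiv hCcyc).symm)⟩⟩
  · rintro ⟨k, m, hk, hm, ⟨φ⟩⟩ x hx
    have : NeZero (2 ^ k) := ⟨by positivity⟩
    have hmpos : NeZero m := ⟨(Odd.pos hm).ne'⟩
    have hQcard : Nat.card (QuaternionGroup (2 ^ k)) = 2 ^ (k + 2) := by
      rw [Nat.card_eq_fintype_card, QuaternionGroup.card]; ring
    obtain ⟨q, c, hφx⟩ : ∃ q c, φ x = (q, c) := ⟨_, _, rfl⟩
    have hkey : ∃ g : QuaternionGroup (2 ^ k), g * q = q * g ∧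
        ∀ y, y * q = q * y → y ∈ Subgroup.zpowers g := by
      rcases q with i | i
      · by_cases hi : i + i = 0
        · exfalso
          apply hx
          rw [Subgroup.mem_center_iff]
          intro g
          apply φ.injective
          rw [map_mul, map_mul, hφx]
          obtain ⟨g1, g2, hφg⟩ : ∃ g1 g2, φ g = (g1, g2) := ⟨_, _, rfl⟩
          rw [hφg, Prod.mk_mul_mk, Prod.mk_mul_mk]
          refine Prod.ext ?_ (mul_comm _ _)
          rcases g1 with j | j
          · change QuaternionGroup.a j * QuaternionGroup.a i = QuaternionGroup.a i * QuaternionGroup.a j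
            rw [QuaternionGroup.a_mul_a, QuaternionGroup.a_mul_a, add_comm]
          · change QuaternionGroup.xa j * QuaternionGroup.a i = QuaternionGroup.a i * QuaternionGroup.xa j
            rw [QuaternionGroup.xa_mul_a, QuaternionGroup.a_mul_xa]
            congr 1
            linear_combination hi
        · refine ⟨QuaternionGroup.a 1, ?_, ?_⟩
          · rw [QuaternionGroup.a_mul_a, QuaternionGroup.a_mul_a, add_comm]
          · intro y hy
            rcases y with j | j
            · rw [Subgroup.mem_zpowers_iff]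
              refine ⟨(j.val : ℤ), ?_⟩
              rw [zpow_natCast, QuaternionGroup.a_one_pow, ZMod.natCast_zmod_val]
            · exfalso
              rw [QuaternionGroup.xa_mul_a, QuaternionGroup.a_mul_xa] at hy
              apply hi
              have h1 : j + i = j - i := by injection hy
              linear_combination h1
      · exact ⟨QuaternionGroup.xa i, rfl, fun y hy => mem_zpowers_xa_of_comm (2 ^ k) i y hy⟩
    obtain ⟨g, hgq, hgen⟩ := hkey
    obtain ⟨γ, hγdef⟩ : ∃ γ : G, φ γ = (g, Multiplicative.ofAdd (1 : ZMod m)) :=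
      ⟨φ.symm (g, Multiplicative.ofAdd (1 : ZMod m)), φ.apply_symm_apply _⟩
    have hγ : γ ∈ Subgroup.centralizer ({x} : Set G) := by
      rw [Subgroup.mem_centralizer_singleton_iff]
      apply φ.injective
      rw [map_mul, map_mul, hφx, hγdef, Prod.mk_mul_mk, Prod.mk_mul_mk]
      exact Prod.ext hgq (mul_comm _ _)
    have hord1 : orderOf g ∣ 2 ^ (k + 2) := by rw [← hQcard]; exact orderOf_dvd_natCard g
    have hord2 : orderOf (Multiplicative.ofAdd (1 : ZMod m)) = m := by
      rw [orderOf_ofAdd_eq_addOrderOf, ZMod.addOrderOf_one]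
    have hcop : Nat.Coprime (orderOf g) (orderOf (Multiplicative.ofAdd (1 : ZMod m))) := by
      rw [hord2]
      have h2 : Nat.Coprime (2 ^ (k + 2)) m :=
        Nat.Coprime.pow_left _ (Nat.coprime_two_left.mpr hm)
      exact Nat.Coprime.coprime_dvd_left hord1 h2
    refine ⟨⟨⟨γ, hγ⟩, fun y => ?_⟩⟩
    have hy := Subgroup.mem_centralizer_singleton_iff.mp y.2
    obtain ⟨y1, y2, hφy⟩ : ∃ y1 y2, φ (y : G) = (y1, y2) := ⟨_, _, rfl⟩
    have hy1 : y1 * q = q * y1 := by
      have h1 := congrArg φ hy
      rw [map_mul, map_mul, hφx, hφy, Prod.mk_mul_mk, Prod.mk_mul_mk] at h1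
      exact congrArg Prod.fst h1
    have hy1g := hgen y1 hy1
    rw [← mem_powers_iff_mem_zpowers] at hy1g
    obtain ⟨e, he⟩ := hy1g
    have hy2 : (Multiplicative.ofAdd (1 : ZMod m)) ^ (Multiplicative.toAdd y2).val = y2 := by
      rw [← ofAdd_nsmul, nsmul_one, ZMod.natCast_zmod_val]
      rfl
    obtain ⟨s, hs⟩ := exists_pow_prod_eq g (Multiplicative.ofAdd (1 : ZMod m)) hcop e
      (Multiplicative.toAdd y2).val
    refine ⟨(s : ℤ), ?_⟩
    change (⟨γ, hγ⟩ : ↥(Subgroup.centralizer ({x} : Set G))) ^ (s : ℤ) = y
    rw [zpow_natCast]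
    apply Subtype.ext
    rw [Subgroup.coe_pow]
    apply φ.injective
    rw [map_pow, hφy, hγdef, hs, hy2]
    exact Prod.ext he rfl

end Cfsg.Agent.S4370
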