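import Mathlib
import Cfsg.Agent.Lib.Helper22.PL1.SchmidtSyl
import Cfsg.Agent.Lib.Helper22.PL1.BigP
import Cfsg.Agent.Lib.Helper22.PL1.Min
import Cfsg.Agent.Lib.Helper63.PLength
import Cfsg.Agent.Lib.Helper63.HallHigman
import Cfsg.Agent.Lib.Helper69.PSolvable
import Cfsg.Statements.S4394

set_option autoImplicit false
open Cfsg

namespace Cfsg.Agent.S4394

/-- Let X be a finite minimal non-nilpotent group (not nilpotent, every proper subgroup nilpotent) with a nontrivial normal Sylow p-subgroup P. If G is a finite p-solvable group whose Sylow p-subgroups are isomorphic to P, then G has p-length at most 1. -/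
theorem result {G X : Type*} [Group G] [Finite G] [Group X] [Finite X] (p : ℕ) [Fact p.Prime]
    (hX : Cfsg.IsMinimalNonNilpotent X) (P : Sylow p X) (hPn : (P : Subgroup X).Normal) (hP1 : (P : Subgroup X) ≠ ⊥)
    (hG : Cfsg.IsPSolvable p G) (Q : Sylow p G) (hQ : Nonempty (↥(Q : Subgroup G) ≃* ↥(P : Subgroup X))) : Cfsg.PLengthLE p 1 G := by
  classical
  have hp : p.Prime := Fact.out
  have hSL : Cfsg.Agent.Lib.Helper22.PL1.SL p ↥(P : Subgroup X) :=
    Cfsg.Agent.Lib.Helper22.PL1.schmidt_sylow_sl p hX P hPn hP1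
  obtain ⟨e⟩ := hQ
  set N := Cfsg.pPrimeCore p G with hN
  have hNc : (Nat.card N).Coprime p := Cfsg.Agent.Lib.Helper63.card_pPrimeCore_coprime' p G
  have hN0 : Cfsg.PLengthLE p 0 ↥N := by
    rw [Cfsg.Agent.Lib.Helper63.plengthLE_zero_iff]
    exact hNc
  suffices hH : Cfsg.PLengthLE p 1 (G ⧸ N) by
    have h1 := Cfsg.Agent.Lib.Helper63.plengthLE_of_normal N hN0 hH
    rwa [zero_add] at h1
  have hsolH : Cfsg.IsPSolvable p (G ⧸ N) :=
    Cfsg.Agent.Lib.Helper69.isPSolvable_of_surj p (QuotientGroup.mk' N)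
      (QuotientGroup.mk'_surjective N) hG
  have h0 : Cfsg.pPrimeCore p (G ⧸ N) = ⊥ :=
    Cfsg.Agent.Lib.Helper63.pPrimeCore_quotient_eq_bot p G
  set R := Cfsg.pCore p (G ⧸ N) with hR
  have hRn : R.Normal := inferInstance
  have hRp : IsPGroup p R := Cfsg.Agent.Lib.Helper63.pCore_isPGroup' p _
  have hR1 : Cfsg.PLengthLE p 1 ↥R := Cfsg.Agent.Lib.Helper63.plengthLE_one_of_isPGroup hRp
  suffices hQ0 : Cfsg.PLengthLE p 0 ((G ⧸ N) ⧸ R) by
    have h1 := Cfsg.Agent.Lib.Helper63.plengthLE_of_normal R hR1 hQ0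
    rwa [add_zero] at h1
  rw [Cfsg.Agent.Lib.Helper63.plengthLE_zero_iff]
  set π : G →* G ⧸ N := QuotientGroup.mk' N with hπ
  have hπs : Function.Surjective π := QuotientGroup.mk'_surjective N
  -- the image of the Sylow subgroup is isomorphic to it
  have hinj : Function.Injective (π.comp (Q : Subgroup G).subtype) := by
    rw [injective_iff_map_eq_one]
    intro x hx
    have hxN : (x : G) ∈ N := (QuotientGroup.eq_one_iff _).1 hx
    obtain ⟨m, hm, hxm⟩ := Cfsg.Agent.Lib.Helper63.exists_coprime_pow_eq_one N hNc hxN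
    obtain ⟨j, hj⟩ := Q.isPGroup' x
    have hj' : (x : G) ^ p ^ j = 1 := congrArg Subtype.val hj
    have h7 := pow_gcd_eq_one.2 ⟨hxm, hj'⟩
    rw [Nat.Coprime.gcd_eq_one (Nat.Coprime.pow_right j hm), pow_one] at h7
    exact Subtype.ext h7
  have hrange : (π.comp (Q : Subgroup G).subtype).range =
      ((Q.mapSurjective hπs : Sylow p (G ⧸ N)) : Subgroup (G ⧸ N)) := by
    rw [MonoidHom.range_comp, Subgroup.range_subtype, Sylow.coe_mapSurjective]
  let e' : ↥((Q.mapSurjective hπs : Sylow p (G ⧸ N)) : Subgroup (G ⧸ N)) ≃*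
      ↥(P : Subgroup X) :=
    ((MulEquiv.subgroupCongr hrange.symm).trans (MonoidHom.ofInjective hinj).symm).trans e
  have hle : ((Q.mapSurjective hπs : Sylow p (G ⧸ N)) : Subgroup (G ⧸ N)) ≤ R := by
    by_cases hp5 : 5 ≤ p
    · have hSLQ : Cfsg.Agent.Lib.Helper22.PL1.SL p
          ↥((Q.mapSurjective hπs : Sylow p (G ⧸ N)) : Subgroup (G ⧸ N)) := hSL.of_equiv e'
      exact Cfsg.Agent.Lib.Helper22.PL1.sylow_le_pCore_of_class_two hp5 hsolH h0
        (Q.mapSurjective hπs)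
        (fun x hx y hy w hw => congrArg Subtype.val (hSLQ.cl2 ⟨x, hx⟩ ⟨y, hy⟩ ⟨w, hw⟩))
    · have hp23 : p = 2 ∨ p = 3 := by
        have h2 := hp.two_le
        have h3 : p = 2 ∨ p = 3 ∨ p = 4 := by omega
        rcases h3 with h | h | h
        · exact Or.inl h
        · exact Or.inr h
        · exfalso
          rw [h] at hp
          exact absurd hp (by decide)
      exact Cfsg.Agent.Lib.Helper22.PL1.sylow_le_pCore_small hp23 hSL (Nat.card (G ⧸ N))
        (G ⧸ N) rfl hsolH h0 (Q.mapSurjective hπs) ⟨e'⟩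
  have h2 := (Q.mapSurjective hπs).not_dvd_index
  have h3 : R.index ∣ ((Q.mapSurjective hπs : Sylow p (G ⧸ N)) : Subgroup (G ⧸ N)).index :=
    Subgroup.index_dvd_of_le hle
  rw [← Subgroup.index_eq_card]
  exact ((Nat.Prime.coprime_iff_not_dvd hp).2 (fun h => h2 (dvd_trans h h3))).symm

end Cfsg.Agent.S4394
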