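import Mathlib
import Cfsg.Statements.S4397
import Cfsg.Agent.Lib.Helper11.QuadStable
import Cfsg.Agent.S0639

set_option autoImplicit false
open Cfsg
open scoped commutatorElement

namespace Cfsg.Agent.S4397

universe u

/-- `PRankLE` is invariant under isomorphism. -/
theorem pRankLE_congr {X Y : Type*} [Group X] [Group Y] {p k : ℕ} (e : X ≃* Y)
    (h : PRankLE p k X) : PRankLE p k Y := by
  intro A hA hAp
  have h1 := h (A.map e.symm.toMonoidHom)
    ⟨⟨by
      rintro ⟨x, ⟨a, ha, rfl⟩⟩ ⟨y, ⟨b, hb, rfl⟩⟩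
      apply Subtype.ext
      have := hA.is_comm.comm ⟨a, ha⟩ ⟨b, hb⟩
      have h2 : a * b = b * a := congrArg Subtype.val this
      show e.symm.toMonoidHom a * e.symm.toMonoidHom b
        = e.symm.toMonoidHom b * e.symm.toMonoidHom a
      rw [← map_mul, ← map_mul, h2]⟩⟩
    (by
      rintro x ⟨a, ha, rfl⟩
      rw [← map_pow, hAp a ha, map_one])
  have h2 : Nat.card (A.map e.symm.toMonoidHom) = Nat.card A :=
    (Nat.card_congr (A.equivMapOfInjective e.symm.toMonoidHom e.symm.injective).toEquiv).symm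
  rw [← h2]
  exact h1

/-- Sectional rank passes to quotients. -/
theorem sectional_quotient {S : Type*} [Group S] {p k : ℕ} (h : SectionalPRankLE p k S)
    (T : Subgroup S) [T.Normal] : SectionalPRankLE p k (S ⧸ T) := by
  intro Hb Nb _
  have hs : Function.Surjective ((QuotientGroup.mk' T).subgroupComap Hb) :=
    MonoidHom.subgroupComap_surjective_of_surjective _ Hb (QuotientGroup.mk'_surjective T)
  have h1 := h (Hb.comap (QuotientGroup.mk' T))
    (((QuotientGroup.mk' Nb).comp ((QuotientGroup.mk' T).subgroupComap Hb)).ker)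
  exact pRankLE_congr (QuotientGroup.quotientKerEquivOfSurjective
    ((QuotientGroup.mk' Nb).comp ((QuotientGroup.mk' T).subgroupComap Hb))
    ((QuotientGroup.mk'_surjective Nb).comp hs)) h1

/-- The case where the derived subgroup lies in a central subgroup of order `2`. -/
theorem caseA {S : Type u} [Group S] [Finite S] (h2 : IsPGroup 2 S)
    (hr : SectionalPRankLE 2 2 S) (z : S) (hzo : orderOf z = 2)
    (hRZ : commutator S ≤ Subgroup.zpowers z) : IsMetacyclic S := by
  classical
  -- an element `a` of maximal order with `z ∈ ⟨a⟩`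
  obtain ⟨a, haS, hamax⟩ := Set.exists_max_image {a : S | z ∈ Subgroup.zpowers a} orderOf
    (Set.toFinite _) ⟨z, Subgroup.mem_zpowers z⟩
  have hZa : Subgroup.zpowers z ≤ Subgroup.zpowers a := Subgroup.zpowers_le.mpr haS
  have hcen : ∀ x y : S, ⁅x, y⁆ ∈ Subgroup.zpowers a := by
    intro x y
    apply hZa
    apply hRZ
    rw [commutator_def]
    exact Subgroup.commutator_mem_commutator (Subgroup.mem_top x) (Subgroup.mem_top y)
  haveI hNn : (Subgroup.zpowers a).Normal := by
    constructor
    intro n hn x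
    have h1 : x * n * x⁻¹ = ⁅x, n⁆ * n := by rw [commutatorElement_def]; group
    rw [h1]
    exact Subgroup.mul_mem _ (hcen x n) hn
  refine ⟨Subgroup.zpowers a, hNn, inferInstance, ?_⟩
  -- the quotient is commutative
  have hc : ∀ x y : S ⧸ Subgroup.zpowers a, x * y = y * x := by
    intro x y
    obtain ⟨x, rfl⟩ := QuotientGroup.mk'_surjective _ x
    obtain ⟨y, rfl⟩ := QuotientGroup.mk'_surjective _ y
    rw [← map_mul, ← map_mul]
    apply QuotientGroup.eq.mpr
    have : (x * y)⁻¹ * (y * x) = ⁅y⁻¹, x⁻¹⁆ := by rw [commutatorElement_def]; group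
    rw [this]
    exact hcen _ _
  apply Cfsg.Agent.Lib.Helper11.isCyclic_of_comm_of_unique_involution
    (h2.to_quotient (Subgroup.zpowers a)) hc
  intro sb tb hsb htb
  by_contra hst
  -- the subgroup of elements of order dividing 2 in the quotient
  let K : Subgroup (S ⧸ Subgroup.zpowers a) :=
    { carrier := {q | q ^ 2 = 1}
      one_mem' := one_pow 2
      mul_mem' := by
        intro x y hx hy
        show (x * y) ^ 2 = 1
        have hx' : x ^ 2 = 1 := hx
        have hy' : y ^ 2 = 1 := hy
        rw [(show Commute x y from hc x y).mul_pow, hx', hy', one_mul]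
      inv_mem' := by
        intro x hx
        show x⁻¹ ^ 2 = 1
        have hx' : x ^ 2 = 1 := hx
        rw [inv_pow, hx', inv_one] }
  have hKmem : ∀ q : S ⧸ Subgroup.zpowers a, q ∈ K ↔ q ^ 2 = 1 := fun q => Iff.rfl
  have hsK : sb ∈ K := by rw [hKmem, ← hsb]; exact pow_orderOf_eq_one sb
  have htK : tb ∈ K := by rw [hKmem, ← htb]; exact pow_orderOf_eq_one tb
  -- `K` has more than two elements
  have hKcard : 2 < Nat.card K := by
    by_contra hle
    push Not at hle
    have h1 : Subgroup.zpowers sb = K := by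
      apply Subgroup.eq_of_le_of_card_ge (Subgroup.zpowers_le.mpr hsK)
      rw [Nat.card_zpowers, hsb]
      exact hle
    have h3 : tb ∈ Subgroup.zpowers sb := h1 ▸ htK
    obtain ⟨j, hj⟩ := Subgroup.mem_zpowers_iff.mp h3
    have hsb2 : sb ^ (2 : ℤ) = 1 := by
      have := pow_orderOf_eq_one sb
      rw [hsb] at this
      exact_mod_cast this
    rcases Int.emod_two_eq_zero_or_one j with h | h
    · have : j = 2 * (j / 2) := by omega
      rw [this, zpow_mul, hsb2, one_zpow] at hj
      rw [← hj, orderOf_one] at htb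
      omega
    · have : j = 2 * (j / 2) + 1 := by omega
      rw [this, zpow_add, zpow_mul, hsb2, one_zpow, one_mul, zpow_one] at hj
      exact hst hj
  -- the subgroup `M = ⟨a²⟩`
  have hMN : Subgroup.zpowers (a ^ 2) ≤ Subgroup.zpowers a :=
    Subgroup.zpowers_le.mpr (Subgroup.pow_mem _ (Subgroup.mem_zpowers a) 2)
  have hMn : ∀ x : S, ∀ y ∈ Subgroup.zpowers (a ^ 2), x * y * x⁻¹ ∈ Subgroup.zpowers (a ^ 2) := by
    intro x y hy
    obtain ⟨j, rfl⟩ := Subgroup.mem_zpowers_iff.mp hy
    obtain ⟨m, hm⟩ := Subgroup.mem_zpowers_iff.mp (hNn.conj_mem a (Subgroup.mem_zpowers a) x)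
    have h1 : x * (a ^ 2) ^ j * x⁻¹ = ((x * a * x⁻¹) ^ 2) ^ j := by
      have e1 := map_zpow (MulAut.conj x).toMonoidHom (a ^ 2) j
      have e2 := map_pow (MulAut.conj x).toMonoidHom a 2
      simp only [MulEquiv.coe_toMonoidHom, MulAut.conj_apply] at e1 e2
      rw [e1, e2]
    rw [h1, ← hm]
    have h2 : (a ^ m) ^ 2 = (a ^ 2) ^ m := by
      rw [← zpow_natCast, ← zpow_mul, ← zpow_natCast, ← zpow_mul, mul_comm]
    rw [h2]
    exact Subgroup.zpow_mem _ (Subgroup.zpow_mem_zpowers _ m) j
  -- squares of elements of `F` lie in `M`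
  have hF2 : ∀ u ∈ K.comap (QuotientGroup.mk' (Subgroup.zpowers a)),
      u ^ 2 ∈ Subgroup.zpowers (a ^ 2) := by
    intro u hu
    have hu2 : ((QuotientGroup.mk' (Subgroup.zpowers a)) u) ^ 2 = 1 := hu
    rw [← map_pow] at hu2
    obtain ⟨k, hk⟩ := Subgroup.mem_zpowers_iff.mp ((QuotientGroup.eq_one_iff _).mp hu2)
    by_cases hk2 : (2 : ℤ) ∣ k
    · obtain ⟨k', rfl⟩ := hk2
      rw [← hk, zpow_mul, zpow_ofNat]
      exact Subgroup.zpow_mem_zpowers _ k'
    · obtain ⟨e, he⟩ := (IsPGroup.iff_orderOf.mp h2) a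
      have hcop : IsCoprime ((2 : ℤ) ^ e) k :=
        ((Int.prime_two).irreducible.coprime_iff_not_dvd.mpr hk2).pow_left
      obtain ⟨c, v, hcv⟩ := hcop
      have hapk : a ^ ((2 : ℤ) ^ e) = 1 := by
        have : ((2 : ℤ) ^ e) = ((2 ^ e : ℕ) : ℤ) := by push_cast; rfl
        rw [this, zpow_natCast, ← he, pow_orderOf_eq_one]
      have ha : a = (u ^ 2) ^ v := by
        have h1 : a = a ^ (c * (2 : ℤ) ^ e + v * k) := by rw [hcv, zpow_one]
        rw [h1, zpow_add, mul_comm c, zpow_mul, hapk, one_zpow, one_mul, mul_comm v, zpow_mul, hk]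
      have hax : Subgroup.zpowers a ≤ Subgroup.zpowers u := by
        rw [Subgroup.zpowers_le, ha]
        exact Subgroup.zpow_mem _ (Subgroup.pow_mem _ (Subgroup.mem_zpowers u) 2) v
      have hle := hamax u (hax haS)
      have heq : Subgroup.zpowers a = Subgroup.zpowers u := by
        apply Subgroup.eq_of_le_of_card_ge hax
        rw [Nat.card_zpowers, Nat.card_zpowers]
        exact hle
      have hua : u ∈ Subgroup.zpowers a := heq ▸ Subgroup.mem_zpowers u
      obtain ⟨j, rfl⟩ := Subgroup.mem_zpowers_iff.mp hua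
      have h3 : (a ^ j) ^ 2 = (a ^ 2) ^ j := by
        rw [← zpow_natCast, ← zpow_mul, ← zpow_natCast, ← zpow_mul, mul_comm]
      rw [h3]
      exact Subgroup.zpow_mem_zpowers _ j
  have hNF : Subgroup.zpowers a ≤ K.comap (QuotientGroup.mk' (Subgroup.zpowers a)) := by
    intro x hx
    have h1 : (QuotientGroup.mk' (Subgroup.zpowers a)) x = 1 := (QuotientGroup.eq_one_iff x).mpr hx
    rw [Subgroup.mem_comap, h1]
    exact Subgroup.one_mem _
  haveI hMFn : ((Subgroup.zpowers (a ^ 2)).subgroupOf
      (K.comap (QuotientGroup.mk' (Subgroup.zpowers a)))).Normal := by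
    constructor
    intro n hn x
    rw [Subgroup.mem_subgroupOf] at hn ⊢
    exact hMn x n hn
  -- the section `F / M` is elementary abelian
  have hrank := hr (K.comap (QuotientGroup.mk' (Subgroup.zpowers a)))
    ((Subgroup.zpowers (a ^ 2)).subgroupOf (K.comap (QuotientGroup.mk' (Subgroup.zpowers a))))
  have hexp : ∀ q : ↥(K.comap (QuotientGroup.mk' (Subgroup.zpowers a))) ⧸
      (Subgroup.zpowers (a ^ 2)).subgroupOf (K.comap (QuotientGroup.mk' (Subgroup.zpowers a))),
      q ^ 2 = 1 := by
    intro q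
    obtain ⟨u, rfl⟩ := QuotientGroup.mk'_surjective _ q
    rw [← map_pow]
    apply (QuotientGroup.eq_one_iff _).mpr
    rw [Subgroup.mem_subgroupOf]
    exact hF2 u u.2
  have hcX : ∀ x y : ↥(K.comap (QuotientGroup.mk' (Subgroup.zpowers a))) ⧸
      (Subgroup.zpowers (a ^ 2)).subgroupOf (K.comap (QuotientGroup.mk' (Subgroup.zpowers a))),
      x * y = y * x := by
    intro x y
    have h1 := hexp (x * y)
    have hx := hexp x
    have hy := hexp y
    have hxi : x⁻¹ = x := by
      rw [inv_eq_iff_mul_eq_one, ← pow_two]; exact hx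
    have hyi : y⁻¹ = y := by
      rw [inv_eq_iff_mul_eq_one, ← pow_two]; exact hy
    have h3 : x * y = (x * y)⁻¹ := by
      rw [eq_comm, inv_eq_iff_mul_eq_one, ← pow_two]; exact h1
    rw [h3, mul_inv_rev, hxi, hyi]
  have h4 := hrank ⊤ ⟨⟨fun x y => Subtype.ext (hcX x y)⟩⟩ (fun q _ => hexp q)
  rw [Subgroup.card_top] at h4
  -- counting
  have h5 : Nat.card (↥(K.comap (QuotientGroup.mk' (Subgroup.zpowers a))) ⧸
      (Subgroup.zpowers (a ^ 2)).subgroupOf (K.comap (QuotientGroup.mk' (Subgroup.zpowers a))))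
      = (Subgroup.zpowers (a ^ 2)).relIndex (K.comap (QuotientGroup.mk' (Subgroup.zpowers a))) :=
    (Subgroup.index_eq_card _).symm
  have h6 := Subgroup.relIndex_mul_relIndex _ _ _ hMN hNF
  have h7 : (Subgroup.zpowers a).relIndex (K.comap (QuotientGroup.mk' (Subgroup.zpowers a)))
      = Nat.card K := by
    have e1 : (⊥ : Subgroup (S ⧸ Subgroup.zpowers a)).comap
        (QuotientGroup.mk' (Subgroup.zpowers a)) = Subgroup.zpowers a :=
      (MonoidHom.comap_bot _).trans (QuotientGroup.ker_mk' _)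
    have e2 : (K.comap (QuotientGroup.mk' (Subgroup.zpowers a))).map
        (QuotientGroup.mk' (Subgroup.zpowers a)) = K :=
      Subgroup.map_comap_eq_self_of_surjective (QuotientGroup.mk'_surjective _) K
    have e3 := Subgroup.relIndex_comap (H := (⊥ : Subgroup (S ⧸ Subgroup.zpowers a)))
      (QuotientGroup.mk' (Subgroup.zpowers a)) (K.comap (QuotientGroup.mk' (Subgroup.zpowers a)))
    rw [e1, e2, Subgroup.relIndex_bot_left] at e3
    exact e3
  have h8 : (Subgroup.zpowers (a ^ 2)).relIndex (Subgroup.zpowers a) = 2 := by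
    have e1 := Subgroup.relIndex_mul_relIndex _ _ _ (bot_le : (⊥ : Subgroup S) ≤ Subgroup.zpowers (a ^ 2)) hMN
    rw [Subgroup.relIndex_bot_left, Subgroup.relIndex_bot_left, Nat.card_zpowers,
      Nat.card_zpowers, orderOf_pow' a (by norm_num : (2 : ℕ) ≠ 0)] at e1
    have hdvd : 2 ∣ orderOf a := by
      have := Subgroup.card_dvd_of_le hZa
      rw [Nat.card_zpowers, Nat.card_zpowers, hzo] at this
      exact this
    have hg : Nat.gcd (orderOf a) 2 = 2 := Nat.gcd_eq_right hdvd
    rw [hg] at e1
    obtain ⟨m, hm⟩ := hdvd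
    have hm0 : 0 < m := by
      rcases Nat.eq_zero_or_pos m with h | h
      · rw [h, mul_zero] at hm
        exact absurd hm (orderOf_pos a).ne'
      · exact h
    rw [hm, Nat.mul_div_cancel_left m (by norm_num)] at e1
    have : m * (Subgroup.zpowers (a ^ 2)).relIndex (Subgroup.zpowers a) = m * 2 := by
      rw [e1]; ring
    exact Nat.eq_of_mul_eq_mul_left hm0 this
  rw [h7, h8] at h6
  rw [h5, ← h6] at h4
  omega

theorem main : ∀ n : ℕ, ∀ (S : Type u) [Group S] [Finite S],
    Nat.card S = n → IsPGroup 2 S → SectionalPRankLE 2 2 S → IsMetacyclic S := by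
  intro n
  induction n using Nat.strong_induction_on with
  | _ n ih =>
    intro S _ _ hn h2 hr
    haveI : Fact (Nat.Prime 2) := ⟨Nat.prime_two⟩
    by_cases hcyc : IsCyclic S
    · haveI : Subsingleton (S ⧸ (⊤ : Subgroup S)) := QuotientGroup.subsingleton_quotient_top
      refine ⟨⊤, inferInstance, ?_, inferInstance⟩
      exact isCyclic_of_surjective
        (Subgroup.topEquiv : (⊤ : Subgroup S) ≃* S).symm Subgroup.topEquiv.symm.surjective
    · by_cases hcomm : commutator S = ⊥
      · have htop : (⊤ : Subgroup S) ≠ ⊥ := by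
          intro h
          apply hcyc
          haveI : Subsingleton S :=
            Subgroup.subsingleton_iff.mp (subsingleton_of_bot_eq_top h.symm)
          infer_instance
        obtain ⟨z, -, -, hzo⟩ := Cfsg.Agent.S0639.exists_central_order_p h2 (⊤ : Subgroup S) htop
        exact caseA h2 hr z hzo (hcomm ▸ bot_le)
      · obtain ⟨w, hwC, hwc, hwo⟩ :=
          Cfsg.Agent.S0639.exists_central_order_p h2 (commutator S) hcomm
        by_cases hT : commutator S = Subgroup.zpowers w
        · exact caseA h2 hr w hwo hT.le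
        · haveI hTn : (Subgroup.zpowers w).Normal :=
            Cfsg.Agent.Lib.Helper4.zpowers_normal_of_central hwc
          have hT1c : Nat.card (Subgroup.zpowers w) = 2 := by rw [Nat.card_zpowers, hwo]
          have hlt : Nat.card (S ⧸ Subgroup.zpowers w) < n := by
            have h1 := Subgroup.card_eq_card_quotient_mul_card_subgroup (Subgroup.zpowers w)
            rw [hT1c, hn] at h1
            have hpos : 0 < Nat.card (S ⧸ Subgroup.zpowers w) := Nat.card_pos
            omega
          exact Cfsg.Agent.S0639.caseB h2 w hwc hwo (Subgroup.zpowers_le.mpr hwC) hT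
            (ih _ hlt (S ⧸ Subgroup.zpowers w) rfl (h2.to_quotient _)
              (sectional_quotient hr (Subgroup.zpowers w)))

/-- A finite 2-group of sectional rank at most 2 is metacyclic. -/
theorem result {S : Type*} [Group S] [Finite S] (h2 : IsPGroup 2 S) (hr : Cfsg.SectionalPRankLE 2 2 S) : Cfsg.IsMetacyclic S := by
  exact main _ S rfl h2 hr

end Cfsg.Agent.S4397
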