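import Cfsg.Statements.S4398
import Mathlib
import Cfsg.Agent.Lib.Helper73.PGroupBasic
import Cfsg.Agent.Lib.Helper73.MaximalClassTwo
import Cfsg.Agent.Lib.Helper73.DihedralIso
import Cfsg.Agent.Lib.Helper73.MaxClass
import Cfsg.Agent.Lib.Helper73.Suzuki2
import Cfsg.Agent.S4143

set_option autoImplicit false
open Cfsg

namespace Cfsg.Agent.S4398

open Cfsg.Agent.Lib.Helper73

set_option maxRecDepth 100000 in
theorem dihedral_sq_central : ∀ a b : DihedralGroup 4, b * a ^ 2 = a ^ 2 * b := by decide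

set_option maxRecDepth 100000 in
theorem quaternion_sq_central : ∀ a b : QuaternionGroup 2, b * a ^ 2 = a ^ 2 * b := by decide

/-- Data of a subgroup isomorphic to `D₈` or `Q₈`: order 8, non-abelian, squares central. -/
theorem data_of_iso {S : Type*} [Group S] (H : Subgroup S)
    (h : Nonempty (↥H ≃* DihedralGroup 4) ∨ Nonempty (↥H ≃* QuaternionGroup 2)) :
    Nat.card H = 2 ^ 3 ∧ ¬ IsMulCommutative H ∧ ∀ g ∈ H, ∀ k ∈ H, k * g ^ 2 = g ^ 2 * k := by
  rcases h with ⟨⟨e⟩⟩ | ⟨⟨e⟩⟩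
  · refine ⟨?_, ?_, ?_⟩
    · rw [Nat.card_congr e.toEquiv, DihedralGroup.nat_card]; norm_num
    · intro hc
      have h1 : (DihedralGroup.r 1 : DihedralGroup 4) * DihedralGroup.sr 0
          ≠ DihedralGroup.sr 0 * DihedralGroup.r 1 := by decide
      apply h1
      have h2 := mul_comm' (e.symm (DihedralGroup.r 1)) (e.symm (DihedralGroup.sr 0))
      have h3 := congrArg e h2
      simpa using h3
    · intro g hg k hk
      have h1 := dihedral_sq_central (e ⟨g, hg⟩) (e ⟨k, hk⟩)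
      have h2 : e (⟨k, hk⟩ * ⟨g, hg⟩ ^ 2) = e (⟨g, hg⟩ ^ 2 * ⟨k, hk⟩) := by
        rw [map_mul, map_mul, map_pow]; exact h1
      have h3 := congrArg Subtype.val (e.injective h2)
      simpa using h3
  · refine ⟨?_, ?_, ?_⟩
    · have : NeZero 2 := ⟨by norm_num⟩
      rw [Nat.card_congr e.toEquiv, Nat.card_eq_fintype_card, QuaternionGroup.card]
      norm_num
    · intro hc
      have h1 : (QuaternionGroup.a 1 : QuaternionGroup 2) * QuaternionGroup.xa 0
          ≠ QuaternionGroup.xa 0 * QuaternionGroup.a 1 := by decide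
      apply h1
      have h2 := mul_comm' (e.symm (QuaternionGroup.a 1)) (e.symm (QuaternionGroup.xa 0))
      have h3 := congrArg e h2
      simpa using h3
    · intro g hg k hk
      have h1 := quaternion_sq_central (e ⟨g, hg⟩) (e ⟨k, hk⟩)
      have h2 : e (⟨k, hk⟩ * ⟨g, hg⟩ ^ 2) = e (⟨g, hg⟩ ^ 2 * ⟨k, hk⟩) := by
        rw [map_mul, map_mul, map_pow]; exact h1
      have h3 := congrArg Subtype.val (e.injective h2)
      simpa using h3

/-- In a 2-group of sectional rank at most two, a non-abelian subgroup of order 8 with central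
squares contains its centralizer. -/
theorem centralizer_le {S : Type*} [Group S] [Finite S] (h2 : IsPGroup 2 S)
    (hr : Cfsg.SectionalPRankLE 2 2 S) (H : Subgroup S) (hH : Nat.card H = 2 ^ 3)
    (hna : ¬ IsMulCommutative H) (hsq : ∀ g ∈ H, ∀ k ∈ H, k * g ^ 2 = g ^ 2 * k) :
    Subgroup.centralizer (H : Set S) ≤ H := by
  have : Fact (Nat.Prime 2) := ⟨Nat.prime_two⟩
  by_contra hcon
  obtain ⟨x₀, hx₀C, hx₀H⟩ := SetLike.not_le_iff_exists.mp hcon
  -- x with x ∈ C, x ∉ H, x ^ 2 ∈ H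
  obtain ⟨x, hxC, hxH, hx2⟩ : ∃ x ∈ Subgroup.centralizer (H : Set S), x ∉ H ∧ x ^ 2 ∈ H := by
    have hex : ∃ j : ℕ, x₀ ^ (2 ^ j) ∈ H := by
      obtain ⟨e, he⟩ := (IsPGroup.iff_orderOf.mp h2) x₀
      exact ⟨e, by rw [← he, pow_orderOf_eq_one]; exact one_mem H⟩
    classical
    have hj0 : Nat.find hex ≠ 0 := by
      intro h0
      have := Nat.find_spec hex
      rw [h0, pow_zero, pow_one] at this
      exact hx₀H this
    obtain ⟨j, hj⟩ : ∃ j, Nat.find hex = j + 1 := ⟨Nat.find hex - 1, by omega⟩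
    refine ⟨x₀ ^ (2 ^ j), pow_mem hx₀C _, ?_, ?_⟩
    · exact Nat.find_min hex (by omega : j < Nat.find hex)
    · have := Nat.find_spec hex
      rw [hj, pow_succ, pow_mul] at this
      exact this
  have hxcomm : ∀ h ∈ H, h * x = x * h := Subgroup.mem_centralizer_iff.mp hxC
  -- u, v non-commuting in H
  obtain ⟨u, hu, v, hv, huv⟩ : ∃ u ∈ H, ∃ v ∈ H, u * v ≠ v * u := by
    by_contra hcon'
    push Not at hcon'
    exact hna ⟨⟨fun a b => Subtype.ext (hcon' a a.2 b b.2)⟩⟩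
  -- the centre Z of H
  obtain ⟨Z, hZdef⟩ : ∃ Z : Subgroup S, Z = H ⊓ Subgroup.centralizer (H : Set S) := ⟨_, rfl⟩
  have hZH : Z ≤ H := by rw [hZdef]; exact inf_le_left
  have hZcomm : ∀ z ∈ Z, ∀ h ∈ H, h * z = z * h := by
    intro z hz
    rw [hZdef] at hz
    exact Subgroup.mem_centralizer_iff.mp hz.2
  have hZne : Z ≠ H := by
    intro h
    apply huv
    exact hZcomm v (h ▸ hv) u hu
  have hZcard : Nat.card Z ≤ 2 := by
    have hd : Nat.card Z ∣ 2 ^ 3 := by rw [← hH]; exact Subgroup.card_dvd_of_le hZH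
    obtain ⟨k, hk3, hk⟩ := (Nat.dvd_prime_pow Nat.prime_two).mp hd
    have hk3' : k ≠ 3 := by
      rintro rfl
      exact hZne (Subgroup.eq_of_le_of_card_ge hZH (by rw [hk, hH]))
    have hk2 : k ≠ 2 := by
      rintro rfl
      obtain ⟨w, hwH, hwZ⟩ := SetLike.exists_of_lt (lt_of_le_of_ne hZH hZne)
      have hZD : Z ≤ H ⊓ Subgroup.centralizer ({w} : Set S) := by
        intro z hz
        rw [Subgroup.mem_inf, Subgroup.mem_centralizer_singleton_iff]
        exact ⟨hZH hz, (hZcomm z hz w hwH).symm⟩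
      have hwD : w ∈ H ⊓ Subgroup.centralizer ({w} : Set S) := by
        rw [Subgroup.mem_inf, Subgroup.mem_centralizer_singleton_iff]
        exact ⟨hwH, rfl⟩
      have hlt : Nat.card Z < Nat.card ↥(H ⊓ Subgroup.centralizer ({w} : Set S)) := by
        by_contra hle
        push Not at hle
        have := Subgroup.eq_of_le_of_card_ge hZD hle
        exact hwZ (this ▸ hwD)
      have hd2 : Nat.card ↥(H ⊓ Subgroup.centralizer ({w} : Set S)) ∣ 2 ^ 3 := by
        rw [← hH]; exact Subgroup.card_dvd_of_le inf_le_left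
      obtain ⟨e, he3, he⟩ := (Nat.dvd_prime_pow Nat.prime_two).mp hd2
      rw [hk, he] at hlt
      have he2 : 2 < e := (Nat.pow_lt_pow_iff_right (by norm_num)).mp hlt
      have he3' : e = 3 := by omega
      have hDH : H ⊓ Subgroup.centralizer ({w} : Set S) = H :=
        Subgroup.eq_of_le_of_card_ge inf_le_left (by rw [he, he3', hH])
      apply hwZ
      rw [hZdef, Subgroup.mem_inf, Subgroup.mem_centralizer_iff]
      refine ⟨hwH, ?_⟩
      intro h hh
      have : h ∈ H ⊓ Subgroup.centralizer ({w} : Set S) := by rw [hDH]; exact hh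
      rw [Subgroup.mem_inf, Subgroup.mem_centralizer_singleton_iff] at this
      exact this.2
    have hk1 : k ≤ 1 := by omega
    rw [hk]
    calc 2 ^ k ≤ 2 ^ 1 := Nat.pow_le_pow_right (by norm_num) hk1
      _ = 2 := by norm_num
  have hsqZ : ∀ g ∈ H, g ^ 2 ∈ Z := by
    intro g hg
    rw [hZdef, Subgroup.mem_inf, Subgroup.mem_centralizer_iff]
    exact ⟨pow_mem hg 2, fun k hk => hsq g hg k hk⟩
  have hx2Z : x ^ 2 ∈ Z := by
    rw [hZdef, Subgroup.mem_inf]
    exact ⟨hx2, pow_mem hxC 2⟩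
  -- K = H * <x>
  let f : ↥H × ↥(Subgroup.zpowers x) →* S :=
    { toFun := fun y => (y.1 : S) * (y.2 : S)
      map_one' := by simp
      map_mul' := fun a b => by
        simp only [Prod.fst_mul, Prod.snd_mul, Subgroup.coe_mul]
        have h3 : (b.1 : S) * (a.2 : S) = (a.2 : S) * (b.1 : S) := by
          obtain ⟨i, hi⟩ := Subgroup.mem_zpowers_iff.mp a.2.2
          rw [← hi]
          exact ((Commute.zpow_right (hxcomm b.1 b.1.2) i)).eq
        calc (a.1 : S) * (b.1 : S) * ((a.2 : S) * (b.2 : S))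
            = (a.1 : S) * ((b.1 : S) * (a.2 : S)) * (b.2 : S) := by group
          _ = (a.1 : S) * ((a.2 : S) * (b.1 : S)) * (b.2 : S) := by rw [h3]
          _ = (a.1 : S) * (a.2 : S) * ((b.1 : S) * (b.2 : S)) := by group }
  have hKmem : ∀ k ∈ f.range, ∃ h ∈ H, ∃ i : ℤ, k = h * x ^ i := by
    rintro _ ⟨⟨h, c⟩, rfl⟩
    obtain ⟨i, hi⟩ := Subgroup.mem_zpowers_iff.mp c.2
    exact ⟨h, h.2, i, by change (h : S) * (c : S) = _; rw [hi]⟩
  have hHK : H ≤ f.range := by
    intro h hh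
    exact ⟨(⟨h, hh⟩, 1), by change h * 1 = h; rw [mul_one]⟩
  have hxK : x ∈ f.range := ⟨(1, ⟨x, Subgroup.mem_zpowers x⟩), by change 1 * x = x; rw [one_mul]⟩
  have hZK : Z ≤ f.range := hZH.trans hHK
  have hKsq : ∀ k ∈ f.range, k ^ 2 ∈ Z := by
    intro k hk
    obtain ⟨h, hh, i, rfl⟩ := hKmem k hk
    have hc : Commute h (x ^ i) := Commute.zpow_right (hxcomm h hh) i
    rw [hc.mul_pow]
    have h4 : (x ^ i) ^ 2 = (x ^ 2) ^ i := by
      rw [← zpow_natCast, ← zpow_mul, mul_comm, zpow_mul, zpow_natCast]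
    rw [h4]
    exact mul_mem (hsqZ h hh) (Subgroup.zpow_mem _ hx2Z i)
  have hZcentral : ∀ z ∈ Z, ∀ k ∈ f.range, k * z = z * k := by
    intro z hz k hk
    obtain ⟨h, hh, i, rfl⟩ := hKmem k hk
    have h5 : x ^ i * z = z * x ^ i := ((Commute.zpow_right (hxcomm z (hZH hz)) i)).eq.symm
    calc h * x ^ i * z = h * (x ^ i * z) := by group
      _ = h * (z * x ^ i) := by rw [h5]
      _ = (h * z) * x ^ i := by group
      _ = (z * h) * x ^ i := by rw [hZcomm z hz h hh]
      _ = z * (h * x ^ i) := by group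
  have hNnormal : (Z.subgroupOf f.range).Normal := by
    constructor
    intro n hn g
    rw [Subgroup.mem_subgroupOf] at hn ⊢
    have h6 := hZcentral (n : S) hn (g : S) g.2
    have h7 : ((g * n * g⁻¹ : ↥f.range) : S) = (n : S) := by
      change (g : S) * (n : S) * (g : S)⁻¹ = (n : S)
      rw [h6]; group
    rw [h7]; exact hn
  have hrank := hr f.range (Z.subgroupOf f.range) ⊤
  have hexp : ∀ a : ↥f.range ⧸ Z.subgroupOf f.range, a ^ 2 = 1 := by
    intro a
    obtain ⟨k, rfl⟩ := QuotientGroup.mk_surjective a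
    rw [← QuotientGroup.mk_pow, QuotientGroup.eq_one_iff, Subgroup.mem_subgroupOf]
    exact hKsq (k : S) k.2
  have hcommQ := comm_of_sq_eq_one hexp
  have h8 := hrank ⟨⟨fun a b => Subtype.ext (hcommQ a.1 b.1)⟩⟩ (fun a _ => hexp a)
  rw [Subgroup.card_top] at h8
  -- but the quotient has at least 8 elements
  have hKcard : 16 ≤ Nat.card f.range := by
    have hlt : Nat.card H < Nat.card f.range := by
      by_contra hle
      push Not at hle
      have := Subgroup.eq_of_le_of_card_ge hHK hle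
      exact hxH (this ▸ hxK)
    have hd : Nat.card H ∣ Nat.card f.range := Subgroup.card_dvd_of_le hHK
    obtain ⟨c, hc⟩ := hd
    rw [hH] at hlt hc
    have hc2 : 2 ≤ c := by
      by_contra hc1
      have : c = 0 ∨ c = 1 := by omega
      rcases this with rfl | rfl <;> omega
    rw [hc]
    calc 16 = 2 ^ 3 * 2 := by norm_num
      _ ≤ 2 ^ 3 * c := Nat.mul_le_mul_left _ hc2
  have hNcard : Nat.card (Z.subgroupOf f.range) ≤ 2 := by
    rw [Nat.card_congr (Subgroup.subgroupOfEquivOfLe hZK).toEquiv]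
    exact hZcard
  have h9 := Subgroup.card_eq_card_quotient_mul_card_subgroup (Z.subgroupOf f.range)
  have h10 : Nat.card (↥f.range ⧸ Z.subgroupOf f.range) * Nat.card (Z.subgroupOf f.range)
      ≤ 2 ^ 2 * 2 := Nat.mul_le_mul h8 hNcard
  omega

/-- A 2-group of sectional rank ≤ 2 containing a D8 or Q8 is dihedral, semidihedral or generalized quaternion. -/
theorem result {S : Type*} [Group S] [Finite S] (h2 : IsPGroup 2 S) (hr : Cfsg.SectionalPRankLE 2 2 S)
    (hsub : ∃ H : Subgroup S, Nonempty (↥H ≃* DihedralGroup 4) ∨ Nonempty (↥H ≃* QuaternionGroup 2)) :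
    ((∃ k : ℕ, Nonempty (S ≃* DihedralGroup (2 ^ (k + 2)))) ∨
      (∃ k : ℕ, Nat.card S = 2 ^ (k + 4) ∧ ∃ a b : S, orderOf a = 2 ^ (k + 3) ∧ orderOf b = 2 ∧ b * a * b⁻¹ = a ^ (2 ^ (k + 2) - 1)) ∨
      (∃ k : ℕ, Nonempty (S ≃* QuaternionGroup (2 ^ (k + 1))))) := by
  have : Fact (Nat.Prime 2) := ⟨Nat.prime_two⟩
  obtain ⟨H, hH⟩ := hsub
  obtain ⟨hHcard, hHna, hHsq⟩ := data_of_iso H hH
  have hC := centralizer_le h2 hr H hHcard hHna hHsq
  obtain ⟨n, hn⟩ := IsPGroup.iff_card.mp h2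
  have hcls := Cfsg.Agent.S4143.result (p := 2) n hn H hHcard hHna hC
  have hnil : Group.IsNilpotent S := h2.isNilpotent
  have hn3 : 3 ≤ n := by
    have h1 : Nat.card H ∣ Nat.card S := Subgroup.card_subgroup_dvd_card _
    rw [hHcard, hn] at h1
    exact (Nat.pow_dvd_pow_iff_le_right (by norm_num)).mp h1
  have hidx : (commutator S).index = 4 := by
    have := commutator_index_of_maximal_class (p := 2) n hn3 hn hcls
    simpa using this
  have hna : commutator S ≠ ⊥ := by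
    intro h
    rw [← Subgroup.top_lowerCentralSeries_one,
      Subgroup.lowerCentralSeries_eq_bot_iff_nilpotencyClass_le] at h
    omega
  obtain ⟨m, a, b, hm2, hcard, ha, hbz, h⟩ := maximal_class_structure S h2 hidx hna
  obtain ⟨k, rfl⟩ : ∃ k, m = k + 2 := ⟨m - 2, by omega⟩
  rcases h with ⟨hinv, hb2⟩ | ⟨hinv, hb2⟩ | ⟨hm3, hsd, hb2⟩
  · left
    have : NeZero (2 ^ (k + 2)) := ⟨pow_ne_zero _ (by norm_num)⟩
    exact ⟨k, nonempty_mulEquiv_dihedralGroup (2 ^ (k + 2)) a b ha hb2 hinv hbz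
      (by rw [hcard, pow_succ, mul_comm])⟩
  · right; right
    have : NeZero (2 ^ (k + 1)) := ⟨pow_ne_zero _ (by norm_num)⟩
    refine ⟨k, nonempty_mulEquiv_quaternionGroup (2 ^ (k + 1)) a b ?_ ?_ hinv hbz ?_⟩
    · rw [ha, pow_succ, mul_comm]
    · rw [hb2]
      congr 2
    · rw [hcard]
      ring
  · right; left
    obtain ⟨k', rfl⟩ : ∃ k', k = k' + 1 := ⟨k - 1, by omega⟩
    refine ⟨k', hcard, a, b, ha, ?_, hsd⟩
    refine orderOf_eq_prime hb2 ?_
    rintro rfl
    exact hbz (one_mem _)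

end Cfsg.Agent.S4398
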