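import Mathlib
import Cfsg.Statements.S4409
import Cfsg.Agent.Lib.Helper32.P8.Main
import Cfsg.Agent.Lib.Helper32.P8.Qt8
import Cfsg.Agent.Lib.Helper32.P8.KI
import Cfsg.Agent.Lib.Helper62.P8.Ab
import Cfsg.Agent.Lib.Helper62.P8.Cyc
import Cfsg.Agent.Lib.Helper62.P8.C1
import Cfsg.Agent.Lib.Helper62.P8.C3
import Cfsg.Agent.Lib.Helper90.P8.C2
import Cfsg.Agent.Lib.Helper90.P8.Es
import Cfsg.Agent.Lib.Helper90.P8.Qt2
import Cfsg.Agent.Lib.Helper90.P8.M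
import Cfsg.Agent.Lib.Helper10.P8.QtA
import Cfsg.Agent.Lib.Helper10.P8.Qt4
import Cfsg.Agent.Lib.Helper10.P8.Hall
import Cfsg.Agent.Lib.Helper10.P8.DecA
import Cfsg.Agent.Lib.Helper38.P8.TrGen
import Cfsg.Agent.Lib.Helper38.P8.Q8aut
import Cfsg.Agent.Lib.Helper38.P8.Ext
import Cfsg.Agent.Lib.Helper97.P8.VsE
import Cfsg.Agent.Lib.Helper97.P8.VsQ
import Cfsg.Agent.Lib.Helper97.P8.DecBE
import Cfsg.Agent.Lib.Helper97.P8.DecBQ

set_option autoImplicit false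
open Cfsg

namespace Cfsg.Agent.S4409

/-- Let S be a finite solvable group with O_{2'}(S) = 1 that contains a non-cyclic abelian subgroup of order 8, while no proper subgroup of S of 2-power index contains one. Then a Sylow 2-subgroup X of S is normal in S, and one of the following holds: X is abelian; X is extraspecial of order at least 32; X has a generalized quaternion subgroup X₀ of index 2 with X = X₀·C_X(X₀); or X is special with centre of order 4. -/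
theorem result {S : Type*} [Group S] [Finite S]
    [Group.IsSolvable S] (hO : Cfsg.pPrimeCore 2 S = ⊥)
    (h8 : ∃ A : Subgroup S, IsMulCommutative ↥A ∧ ¬ IsCyclic ↥A ∧ Nat.card ↥A = 8)
    (hmin : ∀ R : Subgroup S, R ≠ ⊤ → (∃ k : ℕ, R.index = 2 ^ k) →
      ¬ ∃ A : Subgroup S, A ≤ R ∧ IsMulCommutative ↥A ∧ ¬ IsCyclic ↥A ∧ Nat.card ↥A = 8)
    (X : Sylow 2 S) :
    (X : Subgroup S).Normal ∧
      (IsMulCommutative ↥X ∨
        (Cfsg.IsExtraspecial 2 ↥X ∧ 32 ≤ Nat.card ↥X) ∨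
        (∃ (X₀ : Subgroup S) (k : ℕ), X₀ ≤ (X : Subgroup S) ∧ X₀.relIndex (X : Subgroup S) = 2 ∧
          Nonempty (↥X₀ ≃* QuaternionGroup (2 ^ (k + 1))) ∧ X₀ ⊔ ((X : Subgroup S) ⊓ Subgroup.centralizer (X₀ : Set S)) = (X : Subgroup S)) ∨
        (Cfsg.IsSpecial 2 ↥X ∧ Nat.card ↥(Subgroup.center ↥X) = 4)) := by
  have hAb : Cfsg.Agent.Lib.Helper32.P8.LemAb := Cfsg.Agent.Lib.Helper62.P8.lemAb
  have hCyc : Cfsg.Agent.Lib.Helper32.P8.LemCyc := Cfsg.Agent.Lib.Helper62.P8.lemCyc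
  have hC1 : Cfsg.Agent.Lib.Helper32.P8.LemC1 := Cfsg.Agent.Lib.Helper62.P8.lemC1
  have hC2 : Cfsg.Agent.Lib.Helper32.P8.LemC2 := Cfsg.Agent.Lib.Helper90.P8.lemC2
  have hC3 : Cfsg.Agent.Lib.Helper32.P8.LemC3 := Cfsg.Agent.Lib.Helper62.P8.lemC3
  have hCore : Cfsg.Agent.Lib.Helper32.P8.LemCore :=
    Cfsg.Agent.Lib.Helper32.P8.lemCore_of hAb hCyc hC1 hC2 hC3 Cfsg.Agent.Lib.Helper90.P8.lemEs
  have hQt : Cfsg.Agent.Lib.Helper32.P8.LemQt :=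
    Cfsg.Agent.Lib.Helper32.P8.lemQt_of hAb hCyc hC1 hC2 hC3 Cfsg.Agent.Lib.Helper10.P8.lemQtA
      Cfsg.Agent.Lib.Helper10.P8.lemQt4 Cfsg.Agent.Lib.Helper90.P8.lemQt2
      Cfsg.Agent.Lib.Helper32.P8.lemQt8
  exact Cfsg.Agent.Lib.Helper32.P8.main Cfsg.Agent.Lib.Helper38.P8.lemTr
    Cfsg.Agent.Lib.Helper38.P8.lemGen hQt hCore Cfsg.Agent.Lib.Helper38.P8.lemQ8aut
    Cfsg.Agent.Lib.Helper10.P8.lemDecA Cfsg.Agent.Lib.Helper97.P8.lemDecBE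
    Cfsg.Agent.Lib.Helper97.P8.lemDecBQ Cfsg.Agent.Lib.Helper38.P8.lemExtE
    Cfsg.Agent.Lib.Helper38.P8.lemExtQ Cfsg.Agent.Lib.Helper97.P8.lemVsE
    Cfsg.Agent.Lib.Helper97.P8.lemVsQ Cfsg.Agent.Lib.Helper32.P8.lemKI
    Cfsg.Agent.Lib.Helper90.P8.lemM Cfsg.Agent.Lib.Helper10.P8.lemHall hO h8 hmin X

end Cfsg.Agent.S4409
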