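import Cfsg.Statements.S4415
import Cfsg.Agent.Lib.Helper78.S4415.Main
import Cfsg.Agent.Lib.Helper48.S4415.Red
import Cfsg.Agent.Lib.Helper67.S4415.Frame
import Cfsg.Agent.Lib.Helper67.S4415.Odd
import Cfsg.Agent.Lib.Helper80.S4415.Central
import Cfsg.Agent.Lib.Helper80.S4415.NormCent
import Cfsg.Agent.Lib.Helper84.S4415.Dich
import Cfsg.Agent.Lib.Helper34.S4415.Fin
import Cfsg.Agent.Lib.Helper82.S4415.MonMain
import Cfsg.Agent.Lib.Helper74.S4415.MonQ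
import Cfsg.Agent.Lib.Helper34.S4415.MonWF
import Cfsg.Agent.Lib.Helper83.S4415.MonInd
import Cfsg.Agent.Lib.Helper83.S4415.MonOrb
import Cfsg.Agent.Lib.Helper79.S4415.MonReix
import Cfsg.Agent.Lib.Helper79.S4415.MonSP
import Cfsg.Agent.Lib.Helper25.S4415.MonProd
import Cfsg.Agent.Lib.Helper82.S4415.MonPRed
import Cfsg.Agent.Lib.Helper82.S4415.MonPA
import Cfsg.Agent.Lib.Helper25.S4415.MonPB
import Cfsg.Agent.Lib.Helper25.S4415.MonPC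
import Cfsg.Agent.Lib.Helper74.S4415.Mon3
import Cfsg.Agent.Lib.Helper73.S4415.Mon4S
import Cfsg.Agent.Lib.Helper74.S4415.Mon4C
import Cfsg.Agent.Lib.Helper13.S4415.Mon4SQ
import Cfsg.Agent.Lib.Helper73.S4415.Mon4Comm
import Cfsg.Agent.Lib.Helper13.S4415.Mon4Cen
import Cfsg.Agent.Lib.Helper65.S4415.ExtMain
import Cfsg.Agent.Lib.Helper45.S4415.XQ8
import Cfsg.Agent.Lib.Helper87.S4415.XDim
import Cfsg.Agent.Lib.Helper87.S4415.XModel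
import Cfsg.Agent.Lib.Helper43.S4415.XNorm
import Cfsg.Agent.Lib.Helper65.S4415.XFin
import Cfsg.Agent.Lib.Helper61.S4415.XB
import Cfsg.Agent.Lib.Helper61.S4415.XN
import Cfsg.Agent.Lib.Helper64.S4415.XR1
import Cfsg.Agent.Lib.Helper3.S4415.XR2
import Cfsg.Agent.Lib.Helper85.S4415.XR3

set_option autoImplicit false
open Cfsg

namespace Cfsg.Agent.S4415

/-- Let S be a finite solvable group acting faithfully on a finite-dimensional space E over the field with three elements, with O₃(S) = 1. Let B ≤ S have order 3 and suppose: E = E₀ ⊕ E₁ with B fixing E₁ pointwise, E₀ B-invariant of order 27 and indecomposable under B (a generator of B has a single Jordan block on E₀); B normalizes but does not centralize some subgroup Q of S that is elementary abelian of order 4; and B is the centre of a Sylow 3-subgroup of S. Put R = [O_{3'}(S), B]. Then R is elementary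 abelian of order 4 or extraspecial of order 32 containing an elementary abelian subgroup of order 8 (a central product of two quaternion groups), and E is the direct sum of a subspace fixed pointwise by R and an RB-invariant subspace on which the subgroup RB acts faithfully and irreducibly. -/
theorem result {S : Type*} [Group S] [Finite S]
    [Group.IsSolvable S] {E : Type*} [AddCommGroup E] [Module (ZMod 3) E] [Finite E] (ρ : Representation (ZMod 3) S E)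
    (hfaith : Function.Injective ρ) (hO3 : Cfsg.pCore 3 S = ⊥)
    (B : Subgroup S) (hB : Nat.card ↥B = 3) (b : S) (hb : Subgroup.zpowers b = B)
    (E₀ E₁ : Submodule (ZMod 3) E) (hE01 : E₀ ⊓ E₁ = ⊥) (hE01' : E₀ ⊔ E₁ = ⊤)
    (hE1 : ∀ v ∈ E₁, ρ b v = v) (hE0inv : ∀ v ∈ E₀, ρ b v ∈ E₀) (hE0 : Nat.card ↥E₀ = 27)
    (hind : ∃ v ∈ E₀, ρ b (ρ b v - v) - (ρ b v - v) ≠ 0)
    (Q : Subgroup S) (hQ : Cfsg.IsElementaryAbelian 2 Q) (hQ4 : Nat.card ↥Q = 4)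
    (hBQ : B ≤ Subgroup.normalizer (Q : Set S)) (hBQ' : ¬ B ≤ Subgroup.centralizer (Q : Set S))
    (P : Sylow 3 S) (hBZ : (Subgroup.center ↥(P : Subgroup S)).map (P : Subgroup S).subtype = B) :
    ((Cfsg.IsElementaryAbelian 2 ⁅Cfsg.pPrimeCore 3 S, B⁆ ∧ Nat.card ↥⁅Cfsg.pPrimeCore 3 S, B⁆ = 4) ∨
      (Cfsg.IsExtraspecial 2 ↥⁅Cfsg.pPrimeCore 3 S, B⁆ ∧ Nat.card ↥⁅Cfsg.pPrimeCore 3 S, B⁆ = 32 ∧
        ∃ A : Subgroup S, A ≤ ⁅Cfsg.pPrimeCore 3 S, B⁆ ∧ Cfsg.IsElementaryAbelian 2 A ∧ Nat.card ↥A = 8)) ∧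
    ∃ F₀ F₁ : Submodule (ZMod 3) E, F₀ ⊓ F₁ = ⊥ ∧ F₀ ⊔ F₁ = ⊤ ∧
      (∀ r ∈ ⁅Cfsg.pPrimeCore 3 S, B⁆, ∀ v ∈ F₁, ρ r v = v) ∧ (∀ r ∈ ⁅Cfsg.pPrimeCore 3 S, B⁆ ⊔ B, ∀ v ∈ F₀, ρ r v ∈ F₀) ∧
      (∀ r ∈ ⁅Cfsg.pPrimeCore 3 S, B⁆ ⊔ B, (∀ v ∈ F₀, ρ r v = v) → r = 1) ∧
      (∀ N : Submodule (ZMod 3) E, N ≤ F₀ → (∀ r ∈ ⁅Cfsg.pPrimeCore 3 S, B⁆ ⊔ B, ∀ v ∈ N, ρ r v ∈ N) → N = ⊥ ∨ N = F₀) := by
  have hMon : Cfsg.Agent.Lib.Helper78.S4415.PkgMon :=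
    Cfsg.Agent.Lib.Helper82.S4415.pkgMon_of Cfsg.Agent.Lib.Helper67.S4415.pkgFrame
      Cfsg.Agent.Lib.Helper74.S4415.pkgMonQ Cfsg.Agent.Lib.Helper34.S4415.pkgMonWF
      (Cfsg.Agent.Lib.Helper83.S4415.pkgMonOrb Cfsg.Agent.Lib.Helper83.S4415.pkgMonInd)
      Cfsg.Agent.Lib.Helper79.S4415.pkgMonReix Cfsg.Agent.Lib.Helper79.S4415.pkgMonSP
      Cfsg.Agent.Lib.Helper25.S4415.pkgMonProd Cfsg.Agent.Lib.Helper82.S4415.pkgMonPRed
      Cfsg.Agent.Lib.Helper82.S4415.pkgMonPA Cfsg.Agent.Lib.Helper25.S4415.pkgMonPB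
      Cfsg.Agent.Lib.Helper25.S4415.pkgMonPC Cfsg.Agent.Lib.Helper74.S4415.pkgMon3
      Cfsg.Agent.Lib.Helper73.S4415.pkgMon4S Cfsg.Agent.Lib.Helper74.S4415.pkgMon4C
      Cfsg.Agent.Lib.Helper13.S4415.pkgMon4SQ Cfsg.Agent.Lib.Helper73.S4415.pkgMon4Comm
      Cfsg.Agent.Lib.Helper13.S4415.pkgMon4Cen
  have hExt : Cfsg.Agent.Lib.Helper78.S4415.PkgExt :=
    Cfsg.Agent.Lib.Helper65.S4415.pkgExt_of Cfsg.Agent.Lib.Helper45.S4415.pkgXQ8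
      Cfsg.Agent.Lib.Helper87.S4415.pkgXDim Cfsg.Agent.Lib.Helper87.S4415.pkgXModel
      Cfsg.Agent.Lib.Helper43.S4415.pkgXNorm Cfsg.Agent.Lib.Helper65.S4415.pkgXFin
      Cfsg.Agent.Lib.Helper61.S4415.pkgXB Cfsg.Agent.Lib.Helper61.S4415.pkgXN
      Cfsg.Agent.Lib.Helper64.S4415.pkgXR1 Cfsg.Agent.Lib.Helper3.S4415.pkgXR2
      Cfsg.Agent.Lib.Helper85.S4415.pkgXR3
  have hAbs : Cfsg.Agent.Lib.Helper78.S4415.PkgAbs :=
    Cfsg.Agent.Lib.Helper78.S4415.pkgAbs_of Cfsg.Agent.Lib.Helper67.S4415.pkgFrame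
      Cfsg.Agent.Lib.Helper80.S4415.pkgCentral Cfsg.Agent.Lib.Helper80.S4415.pkgNormCent
      Cfsg.Agent.Lib.Helper84.S4415.pkgDich Cfsg.Agent.Lib.Helper67.S4415.pkgOdd hMon hExt
      Cfsg.Agent.Lib.Helper34.S4415.pkgFin
  exact Cfsg.Agent.Lib.Helper48.S4415.pkgRed hAbs ρ hfaith hO3 B hB b hb E₀ E₁ hE01 hE01' hE1
    hE0inv hE0 hind Q hQ hQ4 hBQ hBQ' P hBZ

end Cfsg.Agent.S4415
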