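-- Statement S4419 (helper1).
import Mathlib
import Cfsg.Statements.S4419
import Cfsg.Agent.Lib.Helper1.FrattiniAut
import Cfsg.Agent.Lib.Helper54.Frobenius
import Cfsg.Agent.Lib.Helper55.Cores

set_option autoImplicit false
open Cfsg

namespace Cfsg.Agent.S4419

open Cfsg.Agent.Lib.Helper1 Cfsg.Agent.Lib.Helper54

/-- Subgroups of a metacyclic subgroup are generated by two elements. -/
theorem two_gen {G : Type*} [Group G] (S : Subgroup G) (hS : Cfsg.IsMetacyclic ↥S)
    (Q : Subgroup G) (hQS : Q ≤ S) :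
    ∃ a b : Q, Subgroup.closure ({a, b} : Set Q) = ⊤ := by
  obtain ⟨N, hNn, hNc, hSN⟩ := hS
  obtain ⟨D, hD⟩ : ∃ D : Subgroup S, D = N ⊓ Q.subgroupOf S := ⟨_, rfl⟩
  have hDc : IsCyclic D := by
    have hle : D ≤ N := hD ▸ inf_le_left
    exact isCyclic_of_injective (Subgroup.inclusion hle) (Subgroup.inclusion_injective hle)
  obtain ⟨a, ha⟩ := IsCyclic.exists_generator (α := D)
  obtain ⟨E, hE⟩ : ∃ E : Subgroup (S ⧸ N), E = (Q.subgroupOf S).map (QuotientGroup.mk' N) :=
    ⟨_, rfl⟩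
  obtain ⟨e, he⟩ := IsCyclic.exists_generator (α := E)
  have heE : (e : S ⧸ N) ∈ (Q.subgroupOf S).map (QuotientGroup.mk' N) := hE ▸ e.2
  obtain ⟨b, hbQ, hbe⟩ := Subgroup.mem_map.mp heE
  have haQ : ((a : S) : G) ∈ Q := by
    have h1 : (a : S) ∈ N ⊓ Q.subgroupOf S := hD ▸ a.2
    exact Subgroup.mem_subgroupOf.mp h1.2
  have hbQ' : (b : G) ∈ Q := Subgroup.mem_subgroupOf.mp hbQ
  refine ⟨⟨((a : S) : G), haQ⟩, ⟨(b : G), hbQ'⟩, ?_⟩
  rw [eq_top_iff]
  intro x _
  obtain ⟨x', hx'⟩ : ∃ x' : S, (x' : G) = (x : G) := ⟨⟨x, hQS x.2⟩, rfl⟩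
  have hx'Q : x' ∈ Q.subgroupOf S := by rw [Subgroup.mem_subgroupOf, hx']; exact x.2
  have hxE : QuotientGroup.mk' N x' ∈ E := by rw [hE]; exact Subgroup.mem_map_of_mem _ hx'Q
  obtain ⟨k, hk⟩ := Subgroup.mem_zpowers_iff.mp (he ⟨_, hxE⟩)
  have hk' : (QuotientGroup.mk' N b) ^ k = QuotientGroup.mk' N x' := by
    have h1 := congrArg Subtype.val hk
    rw [Subgroup.coe_zpow] at h1
    rw [hbe]; exact h1
  have hN' : (b ^ k)⁻¹ * x' ∈ N := by
    rw [← map_zpow] at hk'
    exact QuotientGroup.eq.mp hk'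
  have hD' : (b ^ k)⁻¹ * x' ∈ D := by
    rw [hD]
    exact ⟨hN', Subgroup.mul_mem _ (Subgroup.inv_mem _ (Subgroup.zpow_mem _ hbQ k)) hx'Q⟩
  obtain ⟨j, hj⟩ := Subgroup.mem_zpowers_iff.mp (ha ⟨_, hD'⟩)
  have hj' : ((a : S) : G) ^ j = ((b : G) ^ k)⁻¹ * (x : G) := by
    have h1 := congrArg (fun d : D => ((d : S) : G)) hj
    simpa [hx'] using h1
  have hxeq : x = ⟨(b : G), hbQ'⟩ ^ k * ⟨((a : S) : G), haQ⟩ ^ j := by
    apply Subtype.ext
    rw [Subgroup.coe_mul, Subgroup.coe_zpow, Subgroup.coe_zpow]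
    show (x : G) = (b : G) ^ k * ((a : S) : G) ^ j
    rw [hj']; group
  rw [hxeq]
  exact Subgroup.mul_mem _ (Subgroup.zpow_mem _ (Subgroup.subset_closure (by simp)) k)
    (Subgroup.zpow_mem _ (Subgroup.subset_closure (by simp)) j)

theorem result {G : Type*} [Group G] [Finite G] (p : ℕ) [Fact p.Prime] (S : Sylow p G) (hS : Cfsg.IsMetacyclic ↥(S : Subgroup G)) : Cfsg.HasNormalPComplement p G ↔ Nat.Coprime (Nat.card (G ⧸ Cfsg.pPrimePCore p G)) (p ^ 2 - 1) := by
  classical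
  have hp : p.Prime := Fact.out
  constructor
  · intro hN
    obtain ⟨N, hNc⟩ := hasNormalPComplement_iff.mp hN
    obtain ⟨hNn, hNcop, k, hk⟩ := hNc
    have hNle : N ≤ Cfsg.pPrimeCore p G := le_sSup ⟨hNn, hNcop⟩
    have hKp : IsPGroup p (G ⧸ Cfsg.pPrimeCore p G) := by
      have h1 : (Cfsg.pPrimeCore p G).index ∣ p ^ k := hk ▸ Subgroup.index_dvd_of_le hNle
      obtain ⟨j, -, hj⟩ := (Nat.dvd_prime_pow hp).mp h1
      exact IsPGroup.of_card (n := j) (by rw [← Subgroup.index_eq_card, hj])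
    have htop : Cfsg.pPrimePCore p G = ⊤ := by
      rw [eq_top_iff]
      intro x _
      show QuotientGroup.mk' (Cfsg.pPrimeCore p G) x ∈ Cfsg.pCore p (G ⧸ Cfsg.pPrimeCore p G)
      have h2 : (⊤ : Subgroup (G ⧸ Cfsg.pPrimeCore p G)) ≤
          Cfsg.pCore p (G ⧸ Cfsg.pPrimeCore p G) :=
        Cfsg.Agent.Lib.Helper55.le_pCore inferInstance (hKp.to_subgroup ⊤)
      exact h2 (Subgroup.mem_top _)
    rw [htop]
    have h3 : Nat.card (G ⧸ (⊤ : Subgroup G)) = 1 := by
      rw [← Subgroup.index_eq_card, Subgroup.index_top]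
    rw [h3]; exact Nat.coprime_one_left _
  · intro hcop
    apply hasNormalPComplement_iff.mpr
    apply exists_isNormalPComplement_of_frobeniusCondition
    apply frobeniusCondition_of_le_sylow S
    intro Q hQS g hg hgp
    by_contra hgc
    have hQp : IsPGroup p Q := S.isPGroup'.to_le hQS
    obtain ⟨a, b, hgen⟩ := two_gen (S : Subgroup G) hS Q hQS
    have hidx := frattini_index_dvd_sq_of_two_generated p hQp a b hgen
    obtain ⟨φ, hφ⟩ : ∃ φ : Subgroup.normalizer (Q : Set G) →* MulAut Q,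
        φ = Subgroup.normalizerMonoidHom Q := ⟨_, rfl⟩
    have hφapp : ∀ (x : Subgroup.normalizer (Q : Set G)) (q : Q),
        ((φ x q : Q) : G) = x * q * (x : G)⁻¹ := by
      intro x q; rw [hφ]; rfl
    have hφ1 : ∀ x : Subgroup.normalizer (Q : Set G),
        (∀ q ∈ Q, (x : G) * q = q * x) → φ x = 1 := by
      intro x hx
      ext q
      rw [hφapp, hx q q.2]
      simp
    have hβ1 : φ ⟨g, hg⟩ ≠ 1 := by
      intro h
      apply hgc
      rw [Subgroup.mem_centralizer_iff]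
      intro q hq
      have h1 := hφapp ⟨g, hg⟩ ⟨q, hq⟩
      rw [h] at h1
      have h2 : q = g * q * g⁻¹ := h1
      calc q * g = (g * q * g⁻¹) * g := by rw [← h2]
        _ = g * q := by group
    obtain ⟨n, hn⟩ : ∃ n, n = orderOf (φ ⟨g, hg⟩) := ⟨_, rfl⟩
    have hn1 : n ≠ 1 := fun h => hβ1 (orderOf_eq_one_iff.mp (hn ▸ h))
    obtain ⟨r, hr, hrn⟩ := Nat.exists_prime_and_dvd hn1
    have hrF : Fact r.Prime := ⟨hr⟩
    have hn_dvd : n ∣ orderOf g := by
      have h1 : orderOf (φ ⟨g, hg⟩) ∣ orderOf (⟨g, hg⟩ : Subgroup.normalizer (Q : Set G)) :=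
        orderOf_map_dvd φ _
      rwa [Subgroup.orderOf_mk, ← hn] at h1
    have hn0 : n ≠ 0 := by
      intro h
      rw [h] at hn_dvd
      exact (orderOf_pos g).ne' (Nat.eq_zero_of_zero_dvd hn_dvd)
    have hrp : r ≠ p := by
      intro hrp
      have h1 : r ∣ orderOf g := hrn.trans hn_dvd
      have h2 := Nat.dvd_gcd h1 (hrp ▸ dvd_rfl : r ∣ p)
      rw [hgp.gcd_eq_one] at h2
      exact hr.one_lt.ne' (Nat.dvd_one.mp h2)
    obtain ⟨g', hg'⟩ : ∃ g' : Subgroup.normalizer (Q : Set G),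
        g' = (⟨g, hg⟩ : Subgroup.normalizer (Q : Set G)) ^ (n / r) := ⟨_, rfl⟩
    have hβ'ord : orderOf (φ g') = r := by
      rw [hg', map_pow, hn]
      exact orderOf_pow_orderOf_div (hn ▸ hn0) (hn ▸ hrn)
    have hβ'1 : φ g' ≠ 1 := by
      intro h
      rw [h, orderOf_one] at hβ'ord
      exact hr.one_lt.ne' hβ'ord.symm
    by_cases hA : r ∣ p ^ 2 - 1
    · -- r divides the order of G / O_{p',p}(G)
      have hLn : (Cfsg.pPrimePCore p G).Normal := (Cfsg.pCore_normal p _).comap _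
      obtain ⟨t, ht⟩ : ∃ t, t = orderOf (QuotientGroup.mk' (Cfsg.pPrimePCore p G) (g' : G)) :=
        ⟨_, rfl⟩
      have htcard : t ∣ Nat.card (G ⧸ Cfsg.pPrimePCore p G) := ht ▸ orderOf_dvd_natCard _
      have hrt : r ∣ t := by
        by_contra hrt
        apply hβ'1
        -- h := g'^t lies in O_{p',p}(G), has order prime to p, hence lies in O_{p'}(G)
        have hhL : ((g' ^ t : Subgroup.normalizer (Q : Set G)) : G) ∈ Cfsg.pPrimePCore p G := by
          rw [← QuotientGroup.eq_one_iff, Subgroup.coe_pow, QuotientGroup.mk_pow]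
          have h1 := pow_orderOf_eq_one (QuotientGroup.mk' (Cfsg.pPrimePCore p G) (g' : G))
          rw [← ht] at h1
          exact h1
        have hhord : (orderOf ((g' ^ t : Subgroup.normalizer (Q : Set G)) : G)).Coprime p := by
          have h1 : ((g' ^ t : Subgroup.normalizer (Q : Set G)) : G) = g ^ (n / r * t) := by
            rw [hg', ← pow_mul]; rfl
          rw [h1]
          exact Nat.Coprime.coprime_dvd_left (orderOf_pow_dvd _) hgp
        have hhK : ((g' ^ t : Subgroup.normalizer (Q : Set G)) : G) ∈ Cfsg.pPrimeCore p G := by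
          have h1 : QuotientGroup.mk' (Cfsg.pPrimeCore p G)
              ((g' ^ t : Subgroup.normalizer (Q : Set G)) : G) ∈
              Cfsg.pCore p (G ⧸ Cfsg.pPrimeCore p G) := hhL
          obtain ⟨e, he⟩ := (Cfsg.Agent.Lib.Helper55.pCore_isPGroup p
            (G ⧸ Cfsg.pPrimeCore p G)) ⟨_, h1⟩
          have he' : (QuotientGroup.mk' (Cfsg.pPrimeCore p G)
              ((g' ^ t : Subgroup.normalizer (Q : Set G)) : G)) ^ (p ^ e) = 1 :=
            congrArg Subtype.val he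
          rw [← map_pow] at he'
          have h3 : ((g' ^ t : Subgroup.normalizer (Q : Set G)) : G) ^ (p ^ e) ∈
              Cfsg.pPrimeCore p G := (QuotientGroup.eq_one_iff _).mp he'
          obtain ⟨m, hm⟩ := exists_pow_eq_self_of_coprime
            (x := ((g' ^ t : Subgroup.normalizer (Q : Set G)) : G)) (n := p ^ e)
            (Nat.Coprime.pow_left e hhord.symm)
          rw [← hm]
          exact Subgroup.pow_mem _ h3 m
        have hKcop := Cfsg.Agent.Lib.Helper55.pPrimeCore_coprime p G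
        have hcent : ∀ q ∈ Q, ((g' ^ t : Subgroup.normalizer (Q : Set G)) : G) * q =
            q * ((g' ^ t : Subgroup.normalizer (Q : Set G)) : G) := by
          intro q hq
          obtain ⟨h, hh⟩ : ∃ h : G, h = ((g' ^ t : Subgroup.normalizer (Q : Set G)) : G) :=
            ⟨_, rfl⟩
          rw [← hh] at hhK ⊢
          have hhN : h ∈ Subgroup.normalizer (Q : Set G) := hh ▸ (g' ^ t).2
          have hwK : h * q * h⁻¹ * q⁻¹ ∈ Cfsg.pPrimeCore p G := by
            have h1 : h * (q * h⁻¹ * q⁻¹) ∈ Cfsg.pPrimeCore p G :=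
              Subgroup.mul_mem _ hhK
                ((Cfsg.pPrimeCore_normal p G).conj_mem _ (Subgroup.inv_mem _ hhK) q)
            have h2 : h * (q * h⁻¹ * q⁻¹) = h * q * h⁻¹ * q⁻¹ := by group
            rwa [h2] at h1
          have hwQ : h * q * h⁻¹ * q⁻¹ ∈ Q :=
            Q.mul_mem ((Subgroup.mem_normalizer_iff.mp hhN q).mp hq) (Q.inv_mem hq)
          have hw1 : h * q * h⁻¹ * q⁻¹ = 1 := by
            obtain ⟨e, he⟩ := hQp ⟨_, hwQ⟩
            have he' : (h * q * h⁻¹ * q⁻¹) ^ p ^ e = 1 := by simpa using congrArg Subtype.val he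
            have h1 : orderOf (h * q * h⁻¹ * q⁻¹) ∣ p ^ e := orderOf_dvd_of_pow_eq_one he'
            have h2 : orderOf (h * q * h⁻¹ * q⁻¹) ∣ Nat.card (Cfsg.pPrimeCore p G) :=
              Subgroup.orderOf_dvd_natCard _ hwK
            have h3 := Nat.dvd_gcd h2 h1
            rw [(Nat.Coprime.pow_right e hKcop).gcd_eq_one] at h3
            exact orderOf_eq_one_iff.mp (Nat.dvd_one.mp h3)
          calc h * q = (h * q * h⁻¹ * q⁻¹) * (q * h) := by group
            _ = q * h := by rw [hw1, one_mul]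
        have h5 : φ (g' ^ t) = 1 := hφ1 _ hcent
        rw [map_pow] at h5
        have h6 : orderOf (φ g') ∣ t := orderOf_dvd_of_pow_eq_one h5
        rw [hβ'ord] at h6
        exact absurd h6 hrt
      have h7 := Nat.dvd_gcd (hrt.trans htcard) hA
      rw [hcop.gcd_eq_one] at h7
      exact hr.one_lt.ne' (Nat.dvd_one.mp h7)
    · apply hβ'1
      apply aut_eq_one_of_frattini_index hQp hidx hrp hA (φ g') 1
      rw [pow_one, ← hβ'ord, pow_orderOf_eq_one]

end Cfsg.Agent.S4419
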