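import Cfsg.Statements.S4445
import Cfsg.Agent.Lib.Helper81.GlaubRel

set_option autoImplicit false
open Cfsg

namespace Cfsg.Agent.S4445

/-- Inside a finite group Γ let the solvable subgroup S normalise G with the orders of G and S coprime. Then the number of S-invariant irreducible characters of G (χ(s g s⁻¹) = χ(g) for all s ∈ S, g ∈ G) equals the number of conjugacy classes of G mapped to themselves by conjugation by every element of S. -/
theorem result {Γ : Type*} [Group Γ] [Fintype Γ] (G S : Subgroup Γ) [Fintype G] (hnorm : ∀ s ∈ S, ∀ g ∈ G, s * g * s⁻¹ ∈ G) (hcop : (Nat.card G).Coprime (Nat.card S)) (hsolv : Group.IsSolvable S) : Nat.card {χ : Cfsg.IrrCharacter G // (∀ s ∈ S, ∀ g g' : G, (g' : Γ) = s * g * s⁻¹ → (χ : G → ℂ) g' = (χ : G → ℂ) g)} = Nat.card {K : ConjClasses G // ∀ s ∈ S, ∀ g g' : G, (g' : Γ) = s * g * s⁻¹ → ConjClasses.mk g = K → ConjClasses.mk g' = K} := by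
  classical
  have hAG : ∀ a ∈ S.map (MulAut.conj : Γ →* MulAut Γ), ∀ g ∈ G, a g ∈ G := by
    rintro _ ⟨s, hs, rfl⟩ g hg
    rw [MulAut.conj_apply]
    exact hnorm s hs g hg
  have hcop' : (Nat.card (S.map (MulAut.conj : Γ →* MulAut Γ))).Coprime (Nat.card G) :=
    Nat.Coprime.coprime_dvd_left (Subgroup.card_map_dvd S _) hcop.symm
  have hsolv' : Group.IsSolvable (S.map (MulAut.conj : Γ →* MulAut Γ)) :=
    Group.isSolvable_of_surjective (f := (MulAut.conj : Γ →* MulAut Γ).subgroupMap S)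
      (MonoidHom.subgroupMap_surjective _ S)
  have key := Lib.Helper81.card_inv_irr_eq_card_inv_classes
    (S.map (MulAut.conj : Γ →* MulAut Γ)) hsolv' G hAG hcop'
  have e1 : ∀ χ : Cfsg.IrrCharacter G,
      (∀ s ∈ S, ∀ g g' : G, (g' : Γ) = s * g * s⁻¹ → (χ : G → ℂ) g' = (χ : G → ℂ) g) ↔
      Lib.Helper81.InvR (S.map (MulAut.conj : Γ →* MulAut Γ)) G (χ : G → ℂ) := by
    intro χ
    constructor
    · rintro h _ ⟨s, hs, rfl⟩ g hmem
      exact h s hs g ⟨_, hmem⟩ (MulAut.conj_apply s _)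
    · intro h s hs g g' hgg'
      have hmem : (MulAut.conj s) (g : Γ) ∈ G := by
        rw [MulAut.conj_apply, ← hgg']
        exact g'.2
      have h2 := h (MulAut.conj s) (Subgroup.mem_map_of_mem _ hs) g hmem
      have h3 : g' = ⟨(MulAut.conj s) (g : Γ), hmem⟩ :=
        Subtype.ext (hgg'.trans (MulAut.conj_apply s _).symm)
      rw [h3]
      exact h2
  have e2 : ∀ K : ConjClasses G,
      (∀ s ∈ S, ∀ g g' : G, (g' : Γ) = s * g * s⁻¹ → ConjClasses.mk g = K →
        ConjClasses.mk g' = K) ↔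
      Lib.Helper81.InvClass (S.map (MulAut.conj : Γ →* MulAut Γ)) G K := by
    intro K
    constructor
    · rintro h _ ⟨s, hs, rfl⟩ g hmem hg
      exact h s hs g ⟨_, hmem⟩ (MulAut.conj_apply s _) hg
    · intro h s hs g g' hgg' hg
      have hmem : (MulAut.conj s) (g : Γ) ∈ G := by
        rw [MulAut.conj_apply, ← hgg']
        exact g'.2
      have h2 := h (MulAut.conj s) (Subgroup.mem_map_of_mem _ hs) g hmem hg
      have h3 : g' = ⟨(MulAut.conj s) (g : Γ), hmem⟩ :=
        Subtype.ext (hgg'.trans (MulAut.conj_apply s _).symm)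
      rw [h3]
      exact h2
  rw [Nat.card_congr (Equiv.subtypeEquivRight e1), Nat.card_congr (Equiv.subtypeEquivRight e2)]
  exact key

end Cfsg.Agent.S4445
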