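-- Statement S4478: defect zero for 2 and the mixed primes forces one class of involutions.
import Mathlib
import Cfsg.Statements.S4478
import Cfsg.Agent.S0165
import Cfsg.Agent.S4035
import Cfsg.Agent.Lib.Helper81.OddIndex
import Cfsg.Agent.Lib.Helper74.CharSums

set_option autoImplicit false
open Cfsg

namespace Cfsg.Agent.S4478

open Cfsg.Agent.Lib.Helper3

/-- Defect zero vanishing, for an element of `IrrCharacter G`. -/
lemma vanish {G : Type*} [Group G] [Fintype G] (χ : Cfsg.IrrCharacter G) (p : ℕ) (hp : p.Prime)
    (hdeg : p ^ (Nat.card G).factorization p ∣ Cfsg.charDegree (χ : G → ℂ)) (x : G)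
    (hx : p ∣ orderOf x) : (χ : G → ℂ) x = 0 := by
  obtain ⟨n, ρ, hirr, hρ⟩ := χ.2
  have := hirr
  rw [← hρ]
  have hdegeq : Cfsg.charDegree ρ.character = Module.finrank ℂ (Fin n → ℂ) := by
    unfold Cfsg.charDegree
    rw [Representation.char_one]
    simp
  refine Cfsg.Agent.S0165.result ρ p ((Nat.card G).factorization p) hp
    (Nat.ordProj_dvd _ _) ?_ ?_ x hx
  · exact Nat.pow_succ_factorization_not_dvd (Nat.card_pos.ne') hp
  · rw [← hdegeq, hρ]; exact hdeg

open Classical in
/-- The sum of the squares-values of a character in terms of commuting pairs. -/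
lemma sum_sq_eq {G : Type*} [Group G] [Fintype G] (χ : G → ℂ)
    (hv2 : ∀ g : G, 2 ∣ orderOf g → χ g = 0) :
    ∑ g : G, χ (g * g) =
      ∑ t : G, if t * t = 1 then ∑ h : G, (if Commute t h then χ h else 0) else 0 := by
  have h1 : ∑ g : G, χ (g * g) = ∑ h : G, ∑ g : G, if g * g = h then χ h else 0 := by
    rw [Finset.sum_comm]
    refine Finset.sum_congr rfl fun g _ => ?_
    rw [Finset.sum_ite_eq]
    simp
  have h2 : (∑ t : G, if t * t = 1 then ∑ h : G, (if Commute t h then χ h else 0) else 0) =
      ∑ h : G, ∑ t : G, if t * t = 1 ∧ Commute t h then χ h else 0 := by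
    rw [Finset.sum_comm]
    refine Finset.sum_congr rfl fun t _ => ?_
    by_cases ht : t * t = 1
    · simp [ht]
    · simp [ht]
  rw [h1, h2]
  refine Finset.sum_congr rfl fun h _ => ?_
  by_cases he : 2 ∣ orderOf h
  · simp [hv2 h he]
  · -- `h` has odd order: it has a square root `r` among its powers
    obtain ⟨k, hk⟩ : ∃ k, orderOf h + 1 = 2 * k := by
      have : Odd (orderOf h) := Nat.odd_iff.2 (by omega)
      obtain ⟨j, hj⟩ := this
      exact ⟨j + 1, by omega⟩
    set r := h ^ k with hr
    have hrr : r * r = h := by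
      rw [hr, ← pow_add, ← two_mul, ← hk, pow_succ, pow_orderOf_eq_one, one_mul]
    have hcr : Commute r h := (Commute.refl h).pow_left k
    refine Fintype.sum_equiv (Equiv.mulRight r⁻¹) _ _ ?_
    intro g
    have hiff : g * g = h ↔ (g * r⁻¹) * (g * r⁻¹) = 1 ∧ Commute (g * r⁻¹) h := by
      constructor
      · intro hg
        have hcg : Commute g h := by
          rw [← hg]
          exact (Commute.refl g).mul_right (Commute.refl g)
        have hcgr : Commute g r := hcg.pow_right k
        refine ⟨?_, hcg.mul_left hcr.inv_left⟩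
        have : g * r⁻¹ * (g * r⁻¹) = (g * g) * (r * r)⁻¹ := by
          have h3 : r⁻¹ * g = g * r⁻¹ := (hcgr.inv_right).eq.symm
          rw [mul_assoc, ← mul_assoc r⁻¹, h3, mul_inv_rev]
          group
        rw [this, hg, hrr, mul_inv_cancel]
      · rintro ⟨ht, hc⟩
        have hctr : Commute (g * r⁻¹) r := hc.pow_right k
        have hg : g = (g * r⁻¹) * r := by group
        have : g * g = ((g * r⁻¹) * (g * r⁻¹)) * (r * r) := by
          conv_lhs => rw [hg]
          rw [mul_assoc, ← mul_assoc r, ← hctr.eq]
          group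
        rw [this, ht, one_mul, hrr]
    show (if g * g = h then χ h else 0) =
      if (g * r⁻¹) * (g * r⁻¹) = 1 ∧ Commute (g * r⁻¹) h then χ h else 0
    by_cases hg : g * g = h
    · rw [if_pos hg, if_pos (hiff.1 hg)]
    · rw [if_neg hg, if_neg (fun h' => hg (hiff.2 h'))]

/-- Let G be a finite group of even order and χ an irreducible character of G whose degree x is divisible by the full power of 2 dividing the order of G and, for every odd prime p such that G has an element of order 2p, by the full power of p dividing the order of G. Then all involutions of G are conjugate, the centralizer of every involution has order exactly x with x coprime to its index, and the Frobenius–Schur indicator of χ equals 1. -/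
theorem result {G : Type*} [Group G] [Fintype G] (heven : Even (Nat.card G)) (χ : Cfsg.IrrCharacter G) (h2 : 2 ^ (Nat.card G).factorization 2 ∣ Cfsg.charDegree (χ : G → ℂ)) (hp : ∀ p : ℕ, p.Prime → p ≠ 2 → (∃ g : G, orderOf g = 2 * p) → p ^ (Nat.card G).factorization p ∣ Cfsg.charDegree (χ : G → ℂ)) : (∀ s t : G, orderOf s = 2 → orderOf t = 2 → IsConj s t) ∧ (∀ s : G, orderOf s = 2 → Nat.card (Subgroup.centralizer ({s} : Set G)) = Cfsg.charDegree (χ : G → ℂ) ∧ (Nat.card (Subgroup.centralizer ({s} : Set G))).Coprime (Subgroup.centralizer ({s} : Set G)).index) ∧ (Nat.card G : ℂ)⁻¹ * ∑ g : G, (χ : G → ℂ) (g * g) = 1 := by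
  classical
  obtain ⟨hx1, hxpos, hxdvd⟩ := Cfsg.Agent.Lib.Helper79.irr_charDegree χ.2
  have hGpos : 0 < Nat.card G := Nat.card_pos
  have hv2 : ∀ g : G, 2 ∣ orderOf g → (χ : G → ℂ) g = 0 :=
    fun g hg => vanish χ 2 Nat.prime_two h2 g hg
  -- vanishing on nontrivial elements commuting with an involution
  have hvodd : ∀ t u : G, orderOf t = 2 → Commute t u → u ≠ 1 → (χ : G → ℂ) u = 0 := by
    intro t u ht hc hu
    by_cases he : 2 ∣ orderOf u
    · exact hv2 u he
    · have hou : orderOf u ≠ 1 := by rwa [Ne, orderOf_eq_one_iff]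
      obtain ⟨p, hpp, hpu⟩ := Nat.exists_prime_and_dvd hou
      have hp2 : p ≠ 2 := by rintro rfl; exact he hpu
      have hopos : 0 < orderOf u := orderOf_pos u
      have hov : orderOf (u ^ (orderOf u / p)) = p := orderOf_pow_orderOf_div hopos.ne' hpu
      have hcv : Commute t (u ^ (orderOf u / p)) := hc.pow_right _
      have hcop : Nat.Coprime (orderOf t) (orderOf (u ^ (orderOf u / p))) := by
        rw [ht, hov]; exact (Nat.coprime_primes Nat.prime_two hpp).2 (Ne.symm hp2)
      have hotv : orderOf (t * u ^ (orderOf u / p)) = 2 * p := by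
        rw [hcv.orderOf_mul_eq_mul_orderOf_of_coprime hcop, ht, hov]
      exact vanish χ p hpp (hp p hpp hp2 ⟨_, hotv⟩) u hpu
  -- the sum of all values vanishes
  have hχne : (χ : G → ℂ) ≠ fun _ => (1 : ℂ) := by
    intro h
    have h1 : (χ : G → ℂ) 1 = 1 := by rw [h]
    rw [hx1] at h1
    have h1' : Cfsg.charDegree (χ : G → ℂ) = 1 := by exact_mod_cast h1
    have h2' : 2 ∣ Cfsg.charDegree (χ : G → ℂ) := by
      refine dvd_trans ?_ h2
      have hf : 0 < (Nat.card G).factorization 2 :=
        Nat.prime_two.factorization_pos_of_dvd hGpos.ne' (even_iff_two_dvd.1 heven)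
      exact dvd_pow_self 2 hf.ne'
    rw [h1'] at h2'
    omega
  have hsum0 : ∑ h : G, (χ : G → ℂ) h = 0 := by
    have h := pair_irr_ne χ.2 Cfsg.Agent.Lib.Helper74.isIrrCharacter_one hχne
    unfold pair at h
    simp only [mul_one] at h
    rcases mul_eq_zero.1 h with h | h
    · exact absurd (inv_eq_zero.1 h) card_ne_zero'
    · exact h
  -- the set of involutions
  set I : Finset G := Finset.univ.filter (fun t : G => orderOf t = 2) with hI
  have hS : ∑ g : G, (χ : G → ℂ) (g * g) = (I.card : ℂ) * (Cfsg.charDegree (χ : G → ℂ) : ℂ) := by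
    rw [sum_sq_eq (χ : G → ℂ) hv2]
    have h3 : ∀ t : G, (if t * t = 1 then ∑ h : G, (if Commute t h then (χ : G → ℂ) h else 0)
        else 0) = if orderOf t = 2 then (Cfsg.charDegree (χ : G → ℂ) : ℂ) else 0 := by
      intro t
      by_cases ht1 : t = 1
      · subst ht1
        have : orderOf (1 : G) ≠ 2 := by rw [orderOf_one]; norm_num
        rw [if_pos (mul_one 1), if_neg this]
        simp only [Commute.one_left, if_true]
        exact hsum0
      · by_cases htt : t * t = 1
        · have hot : orderOf t = 2 := orderOf_eq_prime (by rw [pow_two]; exact htt) ht1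
          rw [if_pos htt, if_pos hot]
          rw [Finset.sum_eq_single (1 : G)]
          · rw [if_pos (Commute.one_right t), hx1]
          · intro u _ hu
            by_cases hc : Commute t u
            · rw [if_pos hc]; exact hvodd t u hot hc hu
            · rw [if_neg hc]
          · intro h; exact absurd (Finset.mem_univ _) h
        · have hot : orderOf t ≠ 2 := by
            intro h
            apply htt
            rw [← pow_two, ← h, pow_orderOf_eq_one]
          rw [if_neg htt, if_neg hot]
    rw [Finset.sum_congr rfl (fun t _ => h3 t), ← Finset.sum_filter, Finset.sum_const,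
      nsmul_eq_mul]
  -- there is an involution
  have hIpos : 0 < I.card := by
    have : Fact (Nat.Prime 2) := ⟨Nat.prime_two⟩
    obtain ⟨t, ht⟩ := exists_prime_orderOf_dvd_card' (G := G) 2 (even_iff_two_dvd.1 heven)
    exact Finset.card_pos.2 ⟨t, by simp [hI, ht]⟩
  -- the indicator is 1
  have hcard0 : (Nat.card G : ℂ) ≠ 0 := card_ne_zero'
  have hν : (Nat.card G : ℂ)⁻¹ * ∑ g : G, (χ : G → ℂ) (g * g) = 1 := by
    rcases (Cfsg.Agent.Lib.Helper81.fs_cases χ).1 with h | h | h
    · exfalso
      rw [hS] at h
      rcases mul_eq_zero.1 h with h | h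
      · exact absurd (inv_eq_zero.1 h) hcard0
      · have : I.card * Cfsg.charDegree (χ : G → ℂ) = 0 := by exact_mod_cast h
        rcases Nat.mul_eq_zero.1 this with h | h <;> omega
    · exact h
    · exfalso
      rw [hS] at h
      have h' : ((I.card * Cfsg.charDegree (χ : G → ℂ) + Nat.card G : ℕ) : ℂ) = 0 := by
        push_cast
        field_simp at h
        linear_combination h
      have : I.card * Cfsg.charDegree (χ : G → ℂ) + Nat.card G = 0 := by exact_mod_cast h'
      omega
  have hIx : I.card * Cfsg.charDegree (χ : G → ℂ) = Nat.card G := by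
    have h := hν
    rw [hS] at h
    have h' : ((I.card * Cfsg.charDegree (χ : G → ℂ) : ℕ) : ℂ) = (Nat.card G : ℂ) := by
      push_cast
      field_simp at h
      linear_combination h
    exact_mod_cast h'
  -- centralizers of involutions
  have hkey : ∀ s : G, orderOf s = 2 → ∀ p : ℕ, p.Prime →
      p ∣ Nat.card (Subgroup.centralizer ({s} : Set G)) →
      p ^ (Nat.card G).factorization p ∣ Cfsg.charDegree (χ : G → ℂ) := by
    intro s hs p hpp hpd
    by_cases hp2 : p = 2
    · subst hp2; exact h2
    · have : Fact p.Prime := ⟨hpp⟩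
      obtain ⟨u, hu⟩ := exists_prime_orderOf_dvd_card'
        (G := Subgroup.centralizer ({s} : Set G)) p hpd
      have hou : orderOf (u : G) = p := by rw [Subgroup.orderOf_coe]; exact hu
      have hc : Commute s (u : G) := by
        have := u.2
        rw [Subgroup.mem_centralizer_iff] at this
        exact this s rfl
      have hcop : Nat.Coprime (orderOf s) (orderOf (u : G)) := by
        rw [hs, hou]; exact (Nat.coprime_primes Nat.prime_two hpp).2 (Ne.symm hp2)
      have hotv : orderOf (s * (u : G)) = 2 * p := by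
        rw [hc.orderOf_mul_eq_mul_orderOf_of_coprime hcop, hs, hou]
      exact hp p hpp hp2 ⟨_, hotv⟩
  have hdvd : ∀ s : G, orderOf s = 2 →
      Nat.card (Subgroup.centralizer ({s} : Set G)) ∣ Cfsg.charDegree (χ : G → ℂ) := by
    intro s hs
    rw [Nat.dvd_iff_prime_pow_dvd_dvd]
    intro p k hpp hpk
    rcases Nat.eq_zero_or_pos k with hk | hk
    · subst hk; simp
    · have hpd : p ∣ Nat.card (Subgroup.centralizer ({s} : Set G)) :=
        dvd_trans (dvd_pow_self p hk.ne') hpk
      refine dvd_trans ?_ (hkey s hs p hpp hpd)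
      apply pow_dvd_pow
      have : p ^ k ∣ Nat.card G := dvd_trans hpk (Subgroup.card_subgroup_dvd_card _)
      exact (hpp.pow_dvd_iff_le_factorization hGpos.ne').1 this
  have hclass : ∀ s : G, orderOf s = 2 →
      Nat.card (Subgroup.centralizer ({s} : Set G)) = Cfsg.charDegree (χ : G → ℂ) ∧
      (ConjClasses.mk s).carrier = {t : G | orderOf t = 2} := by
    intro s hs
    have hle : Nat.card (Subgroup.centralizer ({s} : Set G)) ≤ Cfsg.charDegree (χ : G → ℂ) :=
      Nat.le_of_dvd hxpos (hdvd s hs)
    have hsub : (ConjClasses.mk s).carrier ⊆ {t : G | orderOf t = 2} := by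
      intro t ht
      rw [ConjClasses.mem_carrier_iff_mk_eq, ConjClasses.mk_eq_mk_iff_isConj] at ht
      obtain ⟨c, hc⟩ := isConj_iff.1 ht
      have h5 : orderOf (c * t * c⁻¹) = orderOf t := by
        rw [← MulAut.conj_apply]; exact MulEquiv.orderOf_eq _ t
      change orderOf t = 2
      rw [← h5, hc]; exact hs
    have hIn : ({t : G | orderOf t = 2} : Set G).ncard = I.card := by
      rw [← Set.ncard_coe_finset]
      congr 1
      ext t
      simp [hI]
    have hidx : (Subgroup.centralizer ({s} : Set G)).index ≤ I.card := by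
      rw [← Cfsg.Agent.S4035.ncard_carrier_eq_index, ← hIn]
      exact Set.ncard_le_ncard hsub (Set.toFinite _)
    have hmul := Subgroup.index_mul_card (Subgroup.centralizer ({s} : Set G))
    have hceq : Nat.card (Subgroup.centralizer ({s} : Set G)) = Cfsg.charDegree (χ : G → ℂ) := by
      by_contra hne
      have hlt : Nat.card (Subgroup.centralizer ({s} : Set G)) < Cfsg.charDegree (χ : G → ℂ) :=
        lt_of_le_of_ne hle hne
      have h1 : (Subgroup.centralizer ({s} : Set G)).index *
          Nat.card (Subgroup.centralizer ({s} : Set G)) ≤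
          I.card * Nat.card (Subgroup.centralizer ({s} : Set G)) :=
        Nat.mul_le_mul_right _ hidx
      have h2' : I.card * Nat.card (Subgroup.centralizer ({s} : Set G)) <
          I.card * Cfsg.charDegree (χ : G → ℂ) := Nat.mul_lt_mul_of_pos_left hlt hIpos
      omega
    refine ⟨hceq, ?_⟩
    apply Set.eq_of_subset_of_ncard_le hsub ?_ (Set.toFinite _)
    rw [hIn, Cfsg.Agent.S4035.ncard_carrier_eq_index]
    rw [hceq] at hmul
    have : (Subgroup.centralizer ({s} : Set G)).index * Cfsg.charDegree (χ : G → ℂ) =
        I.card * Cfsg.charDegree (χ : G → ℂ) := by rw [hmul, hIx]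
    exact (Nat.eq_of_mul_eq_mul_right hxpos this).ge
  refine ⟨?_, ?_, hν⟩
  · intro s t hs ht
    have h1 : t ∈ (ConjClasses.mk s).carrier := by
      rw [(hclass s hs).2]; exact ht
    rw [ConjClasses.mem_carrier_iff_mk_eq, ConjClasses.mk_eq_mk_iff_isConj] at h1
    exact h1.symm
  · intro s hs
    refine ⟨(hclass s hs).1, ?_⟩
    apply Nat.coprime_of_dvd
    intro p hpp hpc hpi
    have h1 := hkey s hs p hpp hpc
    rw [← (hclass s hs).1] at h1
    have h3 : p ^ ((Nat.card G).factorization p + 1) ∣ Nat.card G := by
      have h4 := Nat.mul_dvd_mul hpi h1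
      rw [Subgroup.index_mul_card] at h4
      rw [pow_succ']
      exact h4
    exact Nat.pow_succ_factorization_not_dvd hGpos.ne' hpp h3

end Cfsg.Agent.S4478
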