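import Cfsg.Statements.S4551
import Cfsg.Agent.Lib.Helper81.ADGen

set_option autoImplicit false
open Cfsg

namespace Cfsg.Agent.S4551

/-- Let N be a normal subgroup of the finite group G of index prime to p, P a Sylow p-subgroup of G with G = N·C_G(P), and M a maximal ideal of the algebraic integers containing p. Then restriction to N is a bijection from the principal p-block of G onto the principal p-block of N: every member of the principal block of G restricts to a member of the principal block of N, and every member of the principal block of N is the restriction of exactly one member of the principal block of G. -/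
theorem result {G : Type*} [Group G] [Finite G] (p : ℕ) [Fact p.Prime] (M : Ideal Cfsg.AlgInt) (hM : Cfsg.IsPModular p M) (N : Subgroup G) [N.Normal] (hidx : ¬ p ∣ N.index) (P : Sylow p G) (hsup : N ⊔ Subgroup.centralizer ((P : Subgroup G) : Set G) = ⊤) : (∀ χ ∈ Cfsg.principalBlock M G, ∃ θ ∈ Cfsg.principalBlock M ↥N, ∀ n : N, (χ : G → ℂ) n = (θ : N → ℂ) n) ∧ ∀ θ ∈ Cfsg.principalBlock M ↥N, ∃! χ : Cfsg.IrrCharacter G, χ ∈ Cfsg.principalBlock M G ∧ ∀ n : N, (χ : G → ℂ) n = (θ : N → ℂ) n := by
  have hN : N.Normal := inferInstance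
  have hcos : ∀ g : G, ∃ c : G, c⁻¹ * g ∈ N ∧
      ¬ p ∣ (Subgroup.centralizer ({c} : Set G)).index := by
    intro g
    have hg : g ∈ N ⊔ Subgroup.centralizer ((P : Subgroup G) : Set G) := by
      rw [hsup]
      exact Subgroup.mem_top g
    obtain ⟨n, hn, c, hc, rfl⟩ := Lib.Helper81.exists_mul_of_mem_sup_normal N _ hg
    refine ⟨c, ?_, ?_⟩
    · have h1 := hN.conj_mem n hn c⁻¹
      have e : c⁻¹ * (n * c) = c⁻¹ * n * c⁻¹⁻¹ := by group
      rw [e]
      exact h1
    · have hle : (P : Subgroup G) ≤ Subgroup.centralizer ({c} : Set G) := by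
        intro x hx
        rw [Subgroup.mem_centralizer_iff]
        intro y hy
        rw [Set.mem_singleton_iff] at hy
        rw [hy]
        exact ((Subgroup.mem_centralizer_iff.1 hc) x hx).symm
      intro h
      exact P.not_dvd_index (dvd_trans h (Subgroup.index_dvd_of_le hle))
  have h := Lib.Helper81.alperin_dade hM N hidx hcos
  refine ⟨h.1, fun θ hθ => ?_⟩
  obtain ⟨χ, hχ, h1, h2⟩ := h.2 θ hθ
  exact ⟨χ, ⟨hχ, h1⟩, fun χ' hχ' => h2 χ' hχ'.1 hχ'.2⟩

end Cfsg.Agent.S4551
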