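-- Statement S4587 (helper61): |P : P'| = p^2 iff some p-element has centralizer with p-part p^2,
-- for G not almost simple with O_{p'}(G) = 1 and core-free P'.
import Mathlib
import Cfsg.Statements.S4587
import Cfsg.Agent.S4172
import Cfsg.Agent.Lib.Helper61.MC.CompC

set_option autoImplicit false
open Cfsg

namespace Cfsg.Agent.S4587

open Cfsg.Agent.Lib.Helper61.MC
open scoped commutatorElement

/-- Let G be a finite group, p a prime and P a Sylow p-subgroup of order at least p². Assume that G has no nontrivial normal subgroup of order prime to p, that the derived subgroup P' of P contains no nontrivial normal subgroup of G, and that G is not almost simple (there is no non-abelian simple normal subgroup of G with trivial centralizer). Then [P : P'] = p² if and only if some p-element x of G has centralizer whose order has p-part exactly p². -/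
theorem result {G : Type*} [Group G] [Finite G] (p : ℕ) [Fact p.Prime] (P : Sylow p G) (hbig : p ^ 2 ∣ Nat.card G) (hcore : Cfsg.pPrimeCore p G = ⊥)
    (hcore' : (⁅(P : Subgroup G), (P : Subgroup G)⁆).normalCore = ⊥) (hnas : ¬ ∃ S : Subgroup G, S.Normal ∧ IsSimpleGroup S ∧ ¬ IsMulCommutative S ∧ Subgroup.centralizer (S : Set G) = ⊥) :
    (⁅(P : Subgroup G), (P : Subgroup G)⁆).relIndex (P : Subgroup G) = p ^ 2 ↔
      ∃ x : G, (∃ k : ℕ, orderOf x = p ^ k) ∧ (Nat.card (Subgroup.centralizer ({x} : Set G))).factorization p = 2 := by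
  classical
  have hp : p.Prime := Fact.out
  constructor
  swap
  · rintro ⟨x, hx, h⟩
    exact relIndex_commutator_of_centralizer P x hx h
  intro hidx
  by_cases hab : IsMulCommutative (P : Subgroup G)
  · -- commutative Sylow subgroup: `x = 1`
    have hcomm0 : ⁅(P : Subgroup G), (P : Subgroup G)⁆ = ⊥ := by
      rw [eq_bot_iff, Subgroup.commutator_le]
      intro a ha b hb
      have h1 : a * b = b * a :=
        congrArg Subtype.val (hab.is_comm.comm (⟨a, ha⟩ : (P : Subgroup G)) ⟨b, hb⟩)
      rw [Subgroup.mem_bot, commutatorElement_def, h1]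
      group
    rw [hcomm0, Subgroup.relIndex_bot_left] at hidx
    refine ⟨1, ⟨0, by simp⟩, ?_⟩
    have hC : Subgroup.centralizer ({1} : Set G) = ⊤ := by
      rw [eq_top_iff]
      intro g _
      rw [Subgroup.mem_centralizer_iff]
      intro h hh
      rw [Set.mem_singleton_iff] at hh
      rw [hh, one_mul, mul_one]
    rw [hC, Subgroup.card_top]
    have hcard := P.card_eq_multiplicity
    rw [hidx] at hcard
    exact (Nat.pow_right_injective hp.two_le hcard).symm
  -- non-commutative Sylow subgroup
  have hPp : IsPGroup p ↥(P : Subgroup G) := P.isPGroup'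
  have hcidx : (commutator ↥(P : Subgroup G)).index = p ^ 2 := by
    rw [← relIndex_commutator_self]; exact hidx
  have hle : commutator ↥(P : Subgroup G) ≤ frattini ↥(P : Subgroup G) :=
    Cfsg.Agent.Lib.Helper2.commutator_le_frattini hPp
  have hncomm : ¬ ∀ a b : ↥(P : Subgroup G), a * b = b * a := fun h => hab ⟨⟨h⟩⟩
  have hgen : (frattini ↥(P : Subgroup G)).index = p ^ 2 := by
    have hd : (frattini ↥(P : Subgroup G)).index ∣ p ^ 2 :=
      hcidx ▸ Subgroup.index_dvd_of_le hle
    obtain ⟨k, hk, hkeq⟩ := (Nat.dvd_prime_pow hp).mp hd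
    interval_cases k
    · exfalso; apply hncomm; apply comm_of_frattini_index_dvd (p := p); rw [hkeq]; simp
    · exfalso; apply hncomm; apply comm_of_frattini_index_dvd (p := p); rw [hkeq]; simp
    · exact hkeq
  have hfeq : commutator ↥(P : Subgroup G) = frattini ↥(P : Subgroup G) := by
    apply Subgroup.eq_of_le_of_card_ge hle
    have h1 := Subgroup.card_mul_index (commutator ↥(P : Subgroup G))
    have h2 := Subgroup.card_mul_index (frattini ↥(P : Subgroup G))
    rw [hcidx] at h1
    rw [hgen, ← h1] at h2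
    exact (Nat.eq_of_mul_eq_mul_right (pow_pos hp.pos 2) h2).le
  have hfmap : (frattini ↥(P : Subgroup G)).map (P : Subgroup G).subtype =
      ⁅(P : Subgroup G), (P : Subgroup G)⁆ := by
    rw [← hfeq, Subgroup.map_subtype_commutator]
  have hfrat : ((frattini ↥(P : Subgroup G)).map (P : Subgroup G).subtype).normalCore = ⊥ := by
    rw [hfmap]; exact hcore'
  have hFn : (Cfsg.generalizedFittingSubgroup G).Normal :=
    Cfsg.Agent.Lib.Helper22.generalizedFittingSubgroup_normal' G
  obtain ⟨⟨hFne, hFmin⟩, hcyc, htrans⟩ := Cfsg.Agent.S4172.result p P hab hgen hcore hfrat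
  -- `P' ≤ F*(G)`
  have hP'F : ⁅(P : Subgroup G), (P : Subgroup G)⁆ ≤ Cfsg.generalizedFittingSubgroup G := by
    rw [Subgroup.commutator_le]
    intro a ha b hb
    have hab' : (QuotientGroup.mk' (Cfsg.generalizedFittingSubgroup G) a) *
        (QuotientGroup.mk' (Cfsg.generalizedFittingSubgroup G) b) =
        (QuotientGroup.mk' (Cfsg.generalizedFittingSubgroup G) b) *
        (QuotientGroup.mk' (Cfsg.generalizedFittingSubgroup G) a) := by
      obtain ⟨g, hg⟩ := hcyc.exists_generator
      have ha' := hg ⟨QuotientGroup.mk' (Cfsg.generalizedFittingSubgroup G) a,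
        Subgroup.mem_map_of_mem _ ha⟩
      have hb' := hg ⟨QuotientGroup.mk' (Cfsg.generalizedFittingSubgroup G) b,
        Subgroup.mem_map_of_mem _ hb⟩
      obtain ⟨i, hi⟩ := Subgroup.mem_zpowers_iff.mp ha'
      obtain ⟨j, hj⟩ := Subgroup.mem_zpowers_iff.mp hb'
      have hi' : QuotientGroup.mk' (Cfsg.generalizedFittingSubgroup G) a =
          (g : G ⧸ Cfsg.generalizedFittingSubgroup G) ^ i := by
        rw [← Subgroup.coe_zpow, hi]
      have hj' : QuotientGroup.mk' (Cfsg.generalizedFittingSubgroup G) b =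
          (g : G ⧸ Cfsg.generalizedFittingSubgroup G) ^ j := by
        rw [← Subgroup.coe_zpow, hj]
      rw [hi', hj', ← zpow_add, ← zpow_add, add_comm]
    rw [commutatorElement_def]
    apply (QuotientGroup.eq_one_iff _).mp
    show QuotientGroup.mk' (Cfsg.generalizedFittingSubgroup G) (a * b * a⁻¹ * b⁻¹) = 1
    rw [map_mul, map_mul, map_mul, map_inv, map_inv, hab']
    group
  have hP'Q : ⁅(P : Subgroup G), (P : Subgroup G)⁆ ≤
      (P : Subgroup G) ⊓ Cfsg.generalizedFittingSubgroup G :=
    le_inf (Cfsg.Agent.Lib.Helper22.commutator_self_le' _) hP'F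
  have hTate := Cfsg.Agent.Lib.Helper67.not_inf_le_frattini_of_normal P hcore hfrat
    (Cfsg.generalizedFittingSubgroup G) hFne
  rw [hfmap] at hTate
  have hmul := Subgroup.relIndex_mul_relIndex _ _ _ hP'Q
    (inf_le_left : (P : Subgroup G) ⊓ Cfsg.generalizedFittingSubgroup G ≤ (P : Subgroup G))
  rw [hidx] at hmul
  have h1 : (⁅(P : Subgroup G), (P : Subgroup G)⁆).relIndex
      ((P : Subgroup G) ⊓ Cfsg.generalizedFittingSubgroup G) ≠ 1 := by
    intro h
    apply hTate
    rw [inf_comm]
    exact Subgroup.relIndex_eq_one.mp h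
  -- the index arithmetic, once `P ≰ F*(G)` is known
  have harith : ¬ (P : Subgroup G) ≤ Cfsg.generalizedFittingSubgroup G →
      (Cfsg.generalizedFittingSubgroup G).relIndex (P : Subgroup G) = p ∧
      (⁅(P : Subgroup G), (P : Subgroup G)⁆).relIndex
        ((P : Subgroup G) ⊓ Cfsg.generalizedFittingSubgroup G) = p := by
    intro hnotle
    have h2 : ((P : Subgroup G) ⊓ Cfsg.generalizedFittingSubgroup G).relIndex (P : Subgroup G)
        ≠ 1 := fun h => hnotle (fun x hx => (Subgroup.relIndex_eq_one.mp h hx).2)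
    have hd : ((P : Subgroup G) ⊓ Cfsg.generalizedFittingSubgroup G).relIndex (P : Subgroup G)
        ∣ p ^ 2 := Dvd.intro_left _ hmul
    obtain ⟨k, hk, hkeq⟩ := (Nat.dvd_prime_pow hp).mp hd
    have hrel : (Cfsg.generalizedFittingSubgroup G).relIndex (P : Subgroup G) =
        ((P : Subgroup G) ⊓ Cfsg.generalizedFittingSubgroup G).relIndex (P : Subgroup G) := by
      rw [inf_comm, Subgroup.inf_relIndex_right]
    interval_cases k
    · rw [pow_zero] at hkeq
      exact absurd hkeq h2
    · rw [pow_one] at hkeq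
      rw [hkeq] at hmul
      refine ⟨hrel.trans hkeq, ?_⟩
      exact Nat.eq_of_mul_eq_mul_right hp.pos (by rw [hmul]; ring)
    · rw [hkeq] at hmul
      exfalso
      apply h1
      exact Nat.eq_of_mul_eq_mul_right (pow_pos hp.pos 2) (by rw [hmul, one_mul])
  by_cases hFc : IsMulCommutative (Cfsg.generalizedFittingSubgroup G)
  · -- `F*(G)` commutative
    have hnotle : ¬ (P : Subgroup G) ≤ Cfsg.generalizedFittingSubgroup G := by
      intro h
      apply hab
      refine ⟨⟨fun a b => ?_⟩⟩
      apply Subtype.ext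
      have h3 : (a : G) * (b : G) = (b : G) * (a : G) := congrArg Subtype.val (hFc.is_comm.comm
        (⟨a, h a.2⟩ : Cfsg.generalizedFittingSubgroup G) ⟨b, h b.2⟩)
      exact h3
    obtain ⟨hrel, -⟩ := harith hnotle
    have hQab : ∀ a ∈ (P : Subgroup G) ⊓ Cfsg.generalizedFittingSubgroup G,
        ∀ b ∈ (P : Subgroup G) ⊓ Cfsg.generalizedFittingSubgroup G, a * b = b * a := by
      intro a ha b hb
      exact congrArg Subtype.val (hFc.is_comm.comm
        (⟨a, ha.2⟩ : Cfsg.generalizedFittingSubgroup G) ⟨b, hb.2⟩)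
    exact exists_centralizer_of_abelian_index P (Cfsg.generalizedFittingSubgroup G) hrel hQab hidx
  · -- `F*(G)` non-commutative: it is the layer, with trivial centralizer
    have hFit := Cfsg.Agent.Lib.Helper22.fittingSubgroup_eq_pCore_of_pPrimeCore_eq_bot hcore
    have hpc : Cfsg.pCore p G = ⊥ := by
      by_contra hpc
      obtain ⟨h2, -, h3⟩ := Cfsg.Agent.Lib.Helper67.pCore_le_of_pCore_ne_bot P hgen hcore hfrat
        _ hFn hFne hFmin hpc
      have hle' : Cfsg.generalizedFittingSubgroup G ≤ Cfsg.pCore p G := by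
        unfold Cfsg.generalizedFittingSubgroup
        rw [hFit, h2, bot_sup_eq]
      apply hFc
      refine ⟨⟨fun a b => ?_⟩⟩
      exact Subtype.ext (h3 a a.2 b (hle' b.2))
    have hFL : Cfsg.generalizedFittingSubgroup G = Cfsg.layer G := by
      unfold Cfsg.generalizedFittingSubgroup
      rw [hFit, hpc, sup_bot_eq]
    have hcentF : Subgroup.centralizer (Cfsg.generalizedFittingSubgroup G : Set G) = ⊥ := by
      by_contra hne
      have hCn : (Subgroup.centralizer (Cfsg.generalizedFittingSubgroup G : Set G)).Normal :=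
        inferInstance
      have hle' := hFmin _ hCn hne
      apply hFc
      refine ⟨⟨fun a b => ?_⟩⟩
      apply Subtype.ext
      exact Subgroup.mem_centralizer_iff.mp (hle' b.2) a a.2
    rw [hFL] at hcentF hFne harith
    have hmove : ∀ L : Subgroup G, Cfsg.IsComponent L →
        ∃ y ∈ (P : Subgroup G), L.map (MulAut.conj y).toMonoidHom ≠ L :=
      fun L hL => exists_conj_ne P hcentF (htrans hFc) hnas L hL
    have hnotle : ¬ (P : Subgroup G) ≤ Cfsg.layer G := by
      intro h
      obtain ⟨K, hK⟩ := exists_component_of_layer_ne_bot hFne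
      obtain ⟨y, hy, hne⟩ := hmove K hK
      exact hne (map_conj_eq_iff.mpr
        (Cfsg.Agent.Lib.Helper22.layer_le_normalizer_component hK (h hy)))
    obtain ⟨hrel, hrel'⟩ := harith hnotle
    have hQab := comm_inf_layer P hcentF hrel hrel' hmove
    have hLn : (Cfsg.layer G).Normal := Cfsg.Agent.Lib.Helper22.layer_normal' G
    exact exists_centralizer_of_abelian_index P (Cfsg.layer G) hrel hQab hidx

end Cfsg.Agent.S4587
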