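import Cfsg.Statements.S4623
import Cfsg.Agent.Lib.Helper95.SylowSym
import Mathlib

set_option autoImplicit false
open Cfsg

namespace Cfsg.Agent.S4623

open Cfsg.Agent.Lib.Helper95.SylowSym

/-- a `p`-subgroup of a symmetric group, `p` odd, consists of even permutations -/
theorem le_alt_of_odd {α : Type*} [Fintype α] [DecidableEq α] (p : ℕ) [Fact p.Prime]
    (hp2 : p ≠ 2) (P : Subgroup (Equiv.Perm α)) (hP : IsPGroup p P) : P ≤ alternatingGroup α := by
  intro x hx
  rw [Equiv.Perm.mem_alternatingGroup]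
  obtain ⟨k, hk⟩ := hP ⟨x, hx⟩
  have hk' : x ^ p ^ k = 1 := congrArg Subtype.val hk
  have hs : Equiv.Perm.sign x ^ p ^ k = 1 := by rw [← map_pow, hk', map_one]
  rcases Int.units_eq_one_or (Equiv.Perm.sign x) with h | h
  · exact h
  · exfalso
    rw [h] at hs
    have hodd : Odd (p ^ k) := ((Fact.out : p.Prime).odd_of_ne_two hp2).pow
    rw [hodd.neg_one_pow] at hs
    exact absurd hs (by decide)

/-- For every prime p and every n, a Sylow p-subgroup P of the symmetric group on n letters has P/P' elementary abelian (the p-th power of every element of P lies in the derived subgroup of P), and the same holds for a Sylow p-subgroup of the alternating group on n letters. -/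
theorem result (p : ℕ) [Fact p.Prime] (n : ℕ) (P : Sylow p (Equiv.Perm (Fin n))) (Q : Sylow p (alternatingGroup (Fin n))) :
    (∀ x : (P : Subgroup (Equiv.Perm (Fin n))), x ^ p ∈ commutator (P : Subgroup (Equiv.Perm (Fin n)))) ∧
    (∀ x : (Q : Subgroup (alternatingGroup (Fin n))), x ^ p ∈ commutator (Q : Subgroup (alternatingGroup (Fin n)))) := by
  refine ⟨EA_sylow p n (Fin n) (Nat.card_fin n) P, ?_⟩
  set Q' : Subgroup (Equiv.Perm (Fin n)) :=
    (Q : Subgroup (alternatingGroup (Fin n))).map (alternatingGroup (Fin n)).subtype with hQ'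
  let eQ : ↥(Q : Subgroup (alternatingGroup (Fin n))) ≃* Q' :=
    (Q : Subgroup (alternatingGroup (Fin n))).equivMapOfInjective _
      (Subgroup.subtype_injective _)
  suffices h : EA p Q' from EA_of_surjective p eQ.symm.toMonoidHom eQ.symm.surjective h
  have hQ'p : IsPGroup p Q' := Q.isPGroup'.map _
  obtain ⟨P₀, hP₀⟩ := hQ'p.exists_le_sylow
  have hQ'eq : Q' = (P₀ : Subgroup (Equiv.Perm (Fin n))) ⊓ alternatingGroup (Fin n) := by
    apply le_antisymm
    · refine le_inf hP₀ ?_
      rintro _ ⟨x, -, rfl⟩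
      exact x.2
    · rintro x ⟨hxP, hxA⟩
      have hR : IsPGroup p (((P₀ : Subgroup (Equiv.Perm (Fin n))) ⊓
          alternatingGroup (Fin n)).subgroupOf (alternatingGroup (Fin n))) :=
        (P₀.isPGroup'.to_le inf_le_left).comap_subtype
      have hle : (Q : Subgroup (alternatingGroup (Fin n))) ≤
          ((P₀ : Subgroup (Equiv.Perm (Fin n))) ⊓
            alternatingGroup (Fin n)).subgroupOf (alternatingGroup (Fin n)) := by
        intro y hy
        rw [Subgroup.mem_subgroupOf]
        exact ⟨hP₀ ⟨y, hy, rfl⟩, y.2⟩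
      have hmax := Q.is_maximal' hR hle
      have hx' : (⟨x, hxA⟩ : alternatingGroup (Fin n)) ∈
          ((P₀ : Subgroup (Equiv.Perm (Fin n))) ⊓
            alternatingGroup (Fin n)).subgroupOf (alternatingGroup (Fin n)) := by
        rw [Subgroup.mem_subgroupOf]
        exact ⟨hxP, hxA⟩
      rw [hmax] at hx'
      exact ⟨⟨x, hxA⟩, hx', rfl⟩
  by_cases hp2 : p = 2
  · subst hp2
    obtain ⟨T, hT, hT2⟩ := alt_closure_of_good _ (Good_sylow n (Fin n) (Nat.card_fin n) P₀)
    exact EA_of_closure 2 Q' T (by rw [hT, hQ'eq]) hT2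
  · have hle : (P₀ : Subgroup (Equiv.Perm (Fin n))) ≤ alternatingGroup (Fin n) :=
      le_alt_of_odd p hp2 _ P₀.isPGroup'
    have hQP : Q' = (P₀ : Subgroup (Equiv.Perm (Fin n))) := by
      rw [hQ'eq]; exact inf_eq_left.mpr hle
    rw [hQP]
    exact EA_sylow p n (Fin n) (Nat.card_fin n) P₀

end Cfsg.Agent.S4623
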