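import Cfsg.Statements.S4645
import Cfsg.Agent.Lib.Helper77.CyclicAct
import Cfsg.Agent.Lib.Helper77.NilAbelian
import Cfsg.Agent.Lib.Helper77.IndBridge
import Cfsg.Agent.Lib.Helper77.PairTools
import Cfsg.Agent.Lib.Helper77.NilControl
import Cfsg.Agent.Lib.Helper16.FirstMain
import Cfsg.Agent.S4682
import Cfsg.Agent.S4687
import Cfsg.Agent.S4659

set_option autoImplicit false
open Cfsg

namespace Cfsg.Agent.S4645

open Cfsg.Agent.Lib.Helper77 Cfsg.Agent.Lib.Helper16 in
/-- Let B be a block of the finite group G relative to a maximal ideal M of the algebraic integers containing the prime p, with a nontrivial cyclic defect group P; let c be a block of C_G(P) inducing B and T the stabilizer of c in N_G(P). Let Q be a nontrivial subgroup of P (so C_G(P) ≤ C_G(Q)), f the block of C_G(Q) induced by c inside C_G(Q), and T' the stabilizer of f in N_G(Q). Then T' = T·C_G(Q), the index of C_G(Q) in T' equals the index of C_G(P) in T, f has p-regular rank 1, and f is a nilpotent block of C_G(Q). -/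
theorem result {G : Type*} [Group G] [Finite G] (p : ℕ) [Fact p.Prime] (M : Ideal Cfsg.AlgInt) (hM : Cfsg.IsPModular p M) (B : Set (Cfsg.IrrCharacter G)) (hB : Cfsg.IsPBlock M B) (P : Subgroup G) (hPD : Cfsg.IsDefectGroup p M B P) (hP1 : P ≠ ⊥) (hcyc : IsCyclic P) (c : Set (Cfsg.IrrCharacter (Subgroup.centralizer (P : Set G)))) (hc : Cfsg.IsInducedBlock M (Subgroup.centralizer (P : Set G)) c B) (T : Subgroup G) (hT : ∀ g : G, g ∈ T ↔ (g ∈ Subgroup.normalizer (P : Set G) ∧ Cfsg.StabilizesBlock (Subgroup.centralizer (P : Set G)) c g)) (Q : Subgroup G) (hQP : Q ≤ P) (hQ1 : Q ≠ ⊥) (f : Set (Cfsg.IrrCharacter (Subgroup.centralizer (Q : Set G)))) (hf : Cfsg.IsInducedBlockIn M (Subgroup.centralizer (Q : Set G)) (Subgroup.centralizer (P : Set G)) c f) (T' : Subgroup G) (hT' : ∀ g : G, g ∈ T' ↔ (g ∈ Subgroup.normalizer (Q : Set G) ∧ Cfsg.StabilizesBlock (Subgroup.centralizer (Q : Set G)) f g)) : T' = T ⊔ Subgroup.centralizer (Q : Set G) ∧ (Subgroup.centralizer (Q : Set G)).relIndex T' = (Subgroup.centralizer (P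 : Set G)).relIndex T ∧ Cfsg.blockRank p f = 1 ∧ Cfsg.IsNilpotentBlock p M f := by
  classical
  letI : Fintype G := Fintype.ofFinite G
  have hp : p.Prime := Fact.out
  have hMp := isPrime_of_isPModular hM
  have hPp : IsPGroup p P := isPGroup_of_isDefectGroup hPD
  -- `P` is abelian
  have hab : ∀ x ∈ P, ∀ y ∈ P, x * y = y * x := by
    intro x hx y hy
    obtain ⟨g, hg⟩ := hcyc.exists_generator
    obtain ⟨i, hi⟩ := Subgroup.mem_zpowers_iff.mp (hg ⟨x, hx⟩)
    obtain ⟨j, hj⟩ := Subgroup.mem_zpowers_iff.mp (hg ⟨y, hy⟩)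
    have hi' : (g : G) ^ i = x := by
      have := congrArg (Subtype.val : ↥P → G) hi
      simpa using this
    have hj' : (g : G) ^ j = y := by
      have := congrArg (Subtype.val : ↥P → G) hj
      simpa using this
    rw [← hi', ← hj', ← zpow_add, ← zpow_add, add_comm]
  have hPc := isBrauerPairOf_of_isInducedBlock hM hPp hc
  have hmax := isMaximalBrauerPair_of_isDefectGroup hM hPc hPD
  have hn := isNormalSubpair_of_isInducedBlockIn hM hPp hab hQP hf
  have hle : Cfsg.SubpairLE p M Q f P c := Relation.ReflTransGen.single hn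
  have hfB : Cfsg.IsPBlock M f := hf.2.1
  have hPH : P ≤ Subgroup.centralizer (Q : Set G) := fun u hu =>
    Subgroup.mem_centralizer_iff.mpr (fun q hq => hab q (hQP hq) u hu)
  have hCH : Subgroup.centralizer (P : Set G) ≤ Subgroup.centralizer (Q : Set G) :=
    Subgroup.centralizer_le hQP
  have hPCP : P ≤ Subgroup.centralizer (P : Set G) := fun u hu =>
    Subgroup.mem_centralizer_iff.mpr (fun q hq => hab q hq u hu)
  have hNN : Subgroup.normalizer (P : Set G) ≤ Subgroup.normalizer (Q : Set G) :=
    normalizer_le_normalizer_of_isCyclic hcyc hQP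
  -- the key: the stabilizer of `c` meets `C_G(Q)` in `C_G(P)`
  have hkey : ∀ t : G, t ∈ Subgroup.normalizer (P : Set G) →
      Cfsg.StabilizesBlock (Subgroup.centralizer (P : Set G)) c t →
      t ∈ Subgroup.centralizer (Q : Set G) → t ∈ Subgroup.centralizer (P : Set G) := by
    intro t htN hts htQ
    obtain ⟨k, m, A, B', hpm, hord, hdec⟩ := exists_pow_decomp (p := p) t
    have htT : t ∈ T := (hT t).mpr ⟨htN, hts⟩
    have h1 : t ^ (p ^ k) ∈ Subgroup.centralizer (P : Set G) := by
      have hmem : t ^ (p ^ k) ∈ T := T.pow_mem htT _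
      exact mem_centralizer_of_pRegular_of_isCyclic hPp hcyc hQP hQ1 ((hT _).mp hmem).1
        ((Subgroup.centralizer (Q : Set G)).pow_mem htQ _) (isPRegular_pow_of_orderOf hpm hord)
    have h2 : t ^ m ∈ Subgroup.centralizer (P : Set G) := by
      have hmem : t ^ m ∈ T := T.pow_mem htT _
      have h3 := mem_sup_centralizer_of_isMaximalBrauerPair hM hmax ((hT _).mp hmem).1
        ((hT _).mp hmem).2 (isPGroup_zpowers_pow_of_orderOf hord)
      exact (sup_le hPCP le_rfl) h3
    rw [hdec]
    exact (Subgroup.centralizer (P : Set G)).mul_mem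
      ((Subgroup.centralizer (P : Set G)).zpow_mem h1 A)
      ((Subgroup.centralizer (P : Set G)).zpow_mem h2 B')
  have hTN : T ≤ Subgroup.normalizer (Q : Set G) := fun t ht => hNN ((hT t).mp ht).1
  have hTT' : T ≤ T' := fun t ht => (hT' t).mpr ⟨hTN ht,
    stabilizesBlock_of_subpairLE hM hmax.1.1 hle ((hT t).mp ht).1 ((hT t).mp ht).2 (hTN ht)⟩
  have hCT' : Subgroup.centralizer (Q : Set G) ≤ T' := fun x hx =>
    (hT' x).mpr ⟨Subgroup.centralizer_le_normalizer _ hx, stabilizesBlock_of_mem _ f hx⟩
  have hCT : Subgroup.centralizer (P : Set G) ≤ T := fun x hx =>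
    (hT x).mpr ⟨Subgroup.centralizer_le_normalizer _ hx, stabilizesBlock_of_mem _ c hx⟩
  have h82 := Cfsg.Agent.S4682.result p M hM B P c hmax hab Q f hQP hfB hle T' hT' T hT
  have hpart1 : T' = T ⊔ Subgroup.centralizer (Q : Set G) := by
    apply le_antisymm
    · intro x hx
      obtain ⟨y, hy, c', hc', rfl⟩ := h82.1 x hx
      exact Subgroup.mul_mem_sup hy hc'
    · exact sup_le hTT' hCT'
  have hpart2 : (Subgroup.centralizer (Q : Set G)).relIndex T' =
      (Subgroup.centralizer (P : Set G)).relIndex T := by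
    have h := h82.2
    have e1 : T ⊓ Subgroup.normalizer (Q : Set G) = T := inf_eq_left.mpr hTN
    have e2 : T ⊓ Subgroup.centralizer (Q : Set G) = Subgroup.centralizer (P : Set G) := by
      apply le_antisymm
      · rintro x ⟨hx1, hx2⟩
        exact hkey x ((hT x).mp hx1).1 ((hT x).mp hx1).2 hx2
      · exact le_inf hCT hCH
    rw [e1, e2] at h
    exact h
  -- the block `f` of `C_G(Q)`
  letI : Fintype ↥(Subgroup.centralizer (Q : Set G)) := Fintype.ofFinite _
  have hmaxH := isMaximalBrauerPair_centralizer hM hmax hfB hle hPH hCH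
  have hab' : ∀ x ∈ P.subgroupOf (Subgroup.centralizer (Q : Set G)),
      ∀ y ∈ P.subgroupOf (Subgroup.centralizer (Q : Set G)), x * y = y * x := by
    intro x hx y hy
    apply Subtype.ext
    exact hab x (Subgroup.mem_subgroupOf.mp hx) y (Subgroup.mem_subgroupOf.mp hy)
  have hcent := centEq_subgroupOf (Subgroup.centralizer (Q : Set G)) P hPH hCH
  have hnil : Cfsg.IsNilpotentBlock p M f := by
    rw [Cfsg.Agent.S4687.result p M hM f _ _ hmaxH hab']
    intro x hxN hxs
    have h1 := stabilizesBlock_subCentIso (Subgroup.centralizer (Q : Set G)) _ P hcent _ hxs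
    rw [mapSet_mapSet_symm] at h1
    have hxNP : (x : G) ∈ Subgroup.normalizer (P : Set G) := by
      rw [Subgroup.mem_normalizer_iff]
      intro h
      constructor
      · intro hh
        have h2 := (Subgroup.mem_normalizer_iff.mp hxN ⟨h, hPH hh⟩).mp
          (Subgroup.mem_subgroupOf.mpr hh)
        have h3 := Subgroup.mem_subgroupOf.mp h2
        simpa using h3
      · intro hh
        have hhH : h ∈ Subgroup.centralizer (Q : Set G) := by
          have h4 := (Subgroup.centralizer (Q : Set G)).mul_mem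
            ((Subgroup.centralizer (Q : Set G)).mul_mem
              ((Subgroup.centralizer (Q : Set G)).inv_mem x.2) (hPH hh)) x.2
          have e : (x : G)⁻¹ * ((x : G) * h * (x : G)⁻¹) * (x : G) = h := by group
          rwa [e] at h4
        have h2 := (Subgroup.mem_normalizer_iff.mp hxN ⟨h, hhH⟩).mpr (by
          rw [Subgroup.mem_subgroupOf]
          simpa using hh)
        exact Subgroup.mem_subgroupOf.mp h2
    have h2 := hkey (x : G) hxNP h1 x.2
    obtain ⟨_, h3⟩ := (hcent _).mp h2
    exact h3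
  have hdef := Cfsg.Agent.S4659.result p M hM f _ _ hmaxH
  have hrank := blockRank_eq_one_of_nilpotent_abelian hM f hnil _ hdef hab'
  exact ⟨hpart1, hpart2, hrank, hnil⟩

end Cfsg.Agent.S4645
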