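import Cfsg.Statements.S4873
import Cfsg.Agent.Lib.Helper81.OddIndex

set_option autoImplicit false
open Cfsg

namespace Cfsg.Agent.S4873

/-- Let N be a normal subgroup of odd index in the finite group G. Then every irreducible complex character of N with Frobenius–Schur indicator +1 lies under exactly one irreducible character of G with Frobenius–Schur indicator +1. -/
theorem result {G : Type*} [Group G] [Finite G] (N : Subgroup G) [N.Normal] (hodd : Odd N.index) (φ : Cfsg.IrrCharacter ↥N) (hφ : (Nat.card ↥N : ℂ)⁻¹ * ∑ᶠ g : ↥N, (φ : ↥N → ℂ) (g * g) = 1) : ∃! χ : Cfsg.IrrCharacter G, (Nat.card G : ℂ)⁻¹ * ∑ᶠ g : G, (χ : G → ℂ) (g * g) = 1 ∧ (∑ᶠ n : ↥N, (χ : G → ℂ) n * (starRingEnd ℂ) ((φ : ↥N → ℂ) n)) ≠ 0 := by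
  classical
  have : Fintype G := Fintype.ofFinite G
  have : Fintype ↥N := Fintype.ofFinite _
  have : Fintype (Cfsg.IrrCharacter G) := Fintype.ofFinite _
  have : Fintype (Cfsg.IrrCharacter ↥N) := Fintype.ofFinite _
  rw [finsum_eq_sum_of_fintype] at hφ
  have hN0 : (Nat.card ↥N : ℂ) ≠ 0 := by exact_mod_cast Nat.card_pos.ne'
  -- reformulate the second condition
  have hcond : ∀ χ : Cfsg.IrrCharacter G,
      (∑ᶠ n : ↥N, (χ : G → ℂ) n * (starRingEnd ℂ) ((φ : ↥N → ℂ) n)) ≠ 0 ↔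
        Cfsg.classInner (fun n : ↥N => (χ : G → ℂ) n) (φ : ↥N → ℂ) ≠ 0 := by
    intro χ
    rw [finsum_eq_sum_of_fintype]
    unfold Cfsg.classInner
    constructor
    · intro h
      exact mul_ne_zero (inv_ne_zero hN0) h
    · intro h h0
      apply h
      rw [h0, mul_zero]
  -- `φ` is real
  have hφreal : ∀ k : ↥N, ((φ : ↥N → ℂ) k).im = 0 := by
    intro k
    by_contra hk
    have h0 := ((Lib.Helper81.fs_cases φ).2).2 ⟨k, hk⟩
    rw [hφ] at h0
    exact one_ne_zero h0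
  -- the Frobenius–Schur identity
  have hsum := Lib.Helper81.sum_fs_mul_restrict N hodd φ
  rw [hφ] at hsum
  -- a character with nonzero contribution
  have hex : ∃ χ : Cfsg.IrrCharacter G,
      ((Nat.card G : ℂ)⁻¹ * ∑ s : G, (χ : G → ℂ) (s * s)) *
        Cfsg.classInner (fun n : ↥N => (χ : G → ℂ) n) (φ : ↥N → ℂ) ≠ 0 := by
    by_contra hcon
    push Not at hcon
    rw [Finset.sum_eq_zero (fun χ _ => hcon χ)] at hsum
    exact zero_ne_one hsum
  obtain ⟨χ₀, hχ₀⟩ := hex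
  have hfs₀ : (Nat.card G : ℂ)⁻¹ * ∑ s : G, (χ₀ : G → ℂ) (s * s) ≠ 0 := left_ne_zero_of_mul hχ₀
  have hin₀ : Cfsg.classInner (fun n : ↥N => (χ₀ : G → ℂ) n) (φ : ↥N → ℂ) ≠ 0 :=
    right_ne_zero_of_mul hχ₀
  have hreal_of : ∀ χ : Cfsg.IrrCharacter G,
      (Nat.card G : ℂ)⁻¹ * ∑ s : G, (χ : G → ℂ) (s * s) ≠ 0 → ∀ g : G, ((χ : G → ℂ) g).im = 0 := by
    intro χ h g
    by_contra hg
    exact h (((Lib.Helper81.fs_cases χ).2).2 ⟨g, hg⟩)
  have huniq : ∀ χ : Cfsg.IrrCharacter G,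
      (Nat.card G : ℂ)⁻¹ * ∑ s : G, (χ : G → ℂ) (s * s) ≠ 0 →
      Cfsg.classInner (fun n : ↥N => (χ : G → ℂ) n) (φ : ↥N → ℂ) ≠ 0 → χ = χ₀ := by
    intro χ h1 h2
    exact Lib.Helper81.real_over_unique N hodd φ hφreal χ χ₀ (hreal_of χ h1) (hreal_of χ₀ hfs₀)
      h2 hin₀
  -- the sum collapses to the term of `χ₀`
  rw [Finset.sum_eq_single χ₀] at hsum
  rotate_left
  · intro χ _ hχ
    by_contra hne
    exact hχ (huniq χ (left_ne_zero_of_mul hne) (right_ne_zero_of_mul hne))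
  · intro h
    exact absurd (Finset.mem_univ _) h
  -- the multiplicity is a natural number
  obtain ⟨e, he⟩ := Lib.Helper80.classInner_nat
    (Lib.Helper80.isCharacter_restrict N (Lib.Helper80.isCharacter_of_isIrrCharacter χ₀.2))
    (Lib.Helper80.isCharacter_of_isIrrCharacter φ.2)
  rw [he] at hsum
  have hfs1 : (Nat.card G : ℂ)⁻¹ * ∑ s : G, (χ₀ : G → ℂ) (s * s) = 1 := by
    rcases (Lib.Helper81.fs_cases χ₀).1 with h0 | h1 | hm1
    · exact absurd h0 hfs₀
    · exact h1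
    · exfalso
      rw [hm1] at hsum
      have h3 : ((e : ℂ)).re = -1 := by
        have := congrArg Complex.re hsum
        simp only [neg_mul, one_mul, Complex.neg_re, Complex.one_re] at this
        linarith
      rw [Complex.natCast_re] at h3
      have : (0 : ℝ) ≤ (e : ℝ) := Nat.cast_nonneg e
      linarith
  refine ⟨χ₀, ⟨?_, (hcond χ₀).2 hin₀⟩, ?_⟩
  · rw [finsum_eq_sum_of_fintype]
    exact hfs1
  · rintro χ ⟨h1, h2⟩
    rw [finsum_eq_sum_of_fintype] at h1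
    apply huniq χ
    · rw [h1]
      exact one_ne_zero
    · exact (hcond χ).1 h2

end Cfsg.Agent.S4873
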