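import Cfsg.Statements.S4989
import Cfsg.Agent.Lib.Helper3.CharValues
import Cfsg.Agent.Lib.Helper74.GaloisAMGM

set_option autoImplicit false
open Cfsg

namespace Cfsg.Agent.S4989

open Cfsg.Agent.Lib.Helper3 Cfsg.Agent.Lib.Helper74
open scoped ComplexConjugate

/-- First orthogonality relation in the form `∑ ‖χ g‖² = |G|`. -/
theorem sum_norm_sq {G : Type*} [Group G] [Fintype G] {χ : G → ℂ}
    (hχ : Cfsg.IsIrrCharacter G χ) : ∑ g : G, ‖χ g‖ ^ 2 = (Nat.card G : ℝ) := by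
  have h1 := classInner_irr_self hχ
  unfold Cfsg.classInner at h1
  have hG : (Nat.card G : ℂ) ≠ 0 := card_ne_zero'
  have h2 : ∑ g : G, χ g * conj (χ g) = (Nat.card G : ℂ) := by
    field_simp at h1
    exact h1
  have h3 : ∑ g : G, χ g * conj (χ g) = ((∑ g : G, ‖χ g‖ ^ 2 : ℝ) : ℂ) := by
    rw [Complex.ofReal_sum]
    refine Finset.sum_congr rfl (fun g _ => ?_)
    rw [Complex.mul_conj, Complex.normSq_eq_norm_sq]
  rw [h3] at h2
  exact_mod_cast h2

/-- If a coprime power of `g` lies in a subgroup then so does `g`. -/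
theorem mem_of_pow_mem {G : Type*} [Group G] [Fintype G] (H : Subgroup G) {g : G} {k : ℕ}
    (hk : k.Coprime (Fintype.card G)) (h : g ^ k ∈ H) : g ∈ H := by
  have hbez : (1 : ℤ) = (k : ℤ) * Nat.gcdA k (Fintype.card G)
      + (Fintype.card G : ℤ) * Nat.gcdB k (Fintype.card G) := by
    have := Nat.gcd_eq_gcd_ab k (Fintype.card G)
    rw [hk] at this
    exact_mod_cast this
  have h1 : g = (g ^ k) ^ (Nat.gcdA k (Fintype.card G)) := by
    calc g = g ^ (1 : ℤ) := (zpow_one g).symm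
      _ = g ^ ((k : ℤ) * Nat.gcdA k (Fintype.card G)
            + (Fintype.card G : ℤ) * Nat.gcdB k (Fintype.card G)) := by rw [← hbez]
      _ = (g ^ k) ^ (Nat.gcdA k (Fintype.card G)) := by
        rw [zpow_add, zpow_mul, zpow_mul, zpow_natCast, zpow_natCast, pow_card_eq_one, one_zpow,
          mul_one]
  rw [h1]
  exact H.zpow_mem h _

/-- `[χ_H, χ_H] ≤ 1 + #(v(χ) ∖ H) / #H`. -/
theorem result {G : Type*} [Group G] [Finite G] (H : Subgroup G) (χ : Cfsg.IrrCharacter G) : (Nat.card ↥H : ℝ)⁻¹ * ∑ᶠ h : ↥H, ‖(χ : G → ℂ) h‖ ^ 2 ≤ 1 + (Set.ncard ({x : G | (χ : G → ℂ) x = 0} \ (H : Set G)) : ℝ) / (Nat.card ↥H : ℝ) := by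
  classical
  have := Fintype.ofFinite G
  have := Fintype.ofFinite H
  rw [finsum_eq_sum_of_fintype]
  have hcyc : CycloType (χ : G → ℂ) := cycloType_of_isCharacter (isCharacter_of_irr χ.2)
  set A : Finset G := Finset.univ.filter (fun g : G => g ∈ H) with hA
  set B : Finset G := Finset.univ.filter (fun g : G => g ∉ H ∧ (χ : G → ℂ) g ≠ 0) with hB
  set Z : Finset G := Finset.univ.filter (fun g : G => g ∉ H ∧ (χ : G → ℂ) g = 0) with hZ
  have hsumA : ∑ h : ↥H, ‖(χ : G → ℂ) h‖ ^ 2 = ∑ g ∈ A, ‖(χ : G → ℂ) g‖ ^ 2 := by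
    rw [hA]
    exact (Finset.sum_subtype (Finset.univ.filter (fun g : G => g ∈ H)) (by simp)
      (fun g => ‖(χ : G → ℂ) g‖ ^ 2)).symm
  have hcardA : A.card = Nat.card H := by
    rw [hA, Nat.card_eq_fintype_card, Fintype.card_subtype]
  have hZset : ({x : G | (χ : G → ℂ) x = 0} \ (H : Set G)) = (Z : Set G) := by
    ext x
    simp [hZ, and_comm]
  have hsplit : ∀ φ : G → ℝ, ∑ g : G, φ g = ∑ g ∈ A, φ g + ∑ g ∈ B, φ g + ∑ g ∈ Z, φ g := by
    intro φ
    rw [hA, hB, hZ, ← Finset.sum_filter_add_sum_filter_not Finset.univ (fun g : G => g ∈ H),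
      add_assoc]
    congr 1
    rw [← Finset.sum_filter_add_sum_filter_not (Finset.univ.filter (fun g : G => g ∉ H))
      (fun g : G => (χ : G → ℂ) g ≠ 0), Finset.filter_filter, Finset.filter_filter]
    congr 1
    refine Finset.sum_congr ?_ (fun _ _ => rfl)
    ext g
    simp
  have horth := sum_norm_sq χ.2
  rw [hsplit] at horth
  have hcount := hsplit (fun _ => (1 : ℝ))
  simp only [Finset.sum_const, Finset.card_univ, nsmul_eq_mul, mul_one] at hcount
  rw [← Nat.card_eq_fintype_card] at hcount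
  have hZsum : ∑ g ∈ Z, ‖(χ : G → ℂ) g‖ ^ 2 = 0 := by
    apply Finset.sum_eq_zero
    intro g hg
    rw [hZ, Finset.mem_filter] at hg
    rw [hg.2.2]
    simp
  have hBsum : (B.card : ℝ) ≤ ∑ g ∈ B, ‖(χ : G → ℂ) g‖ ^ 2 := by
    apply card_le_sum_norm_pow hcyc 2 B
    · intro g hg k hk
      rw [hB, Finset.mem_filter] at hg ⊢
      exact ⟨Finset.mem_univ _, fun h => hg.2.1 (mem_of_pow_mem H hk h),
        hcyc.pow_ne_zero hg.2.2 hk⟩
    · intro g hg
      rw [hB, Finset.mem_filter] at hg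
      exact hg.2.2
  rw [hsumA, hZset, Set.ncard_coe_finset]
  have hHpos : (0 : ℝ) < (Nat.card H : ℝ) := by exact_mod_cast Nat.card_pos
  rw [hcardA] at hcount
  rw [inv_mul_le_iff₀ hHpos]
  have : (Nat.card ↥H : ℝ) * (1 + (Z.card : ℝ) / (Nat.card ↥H : ℝ)) = Nat.card H + Z.card := by
    field_simp
  rw [this]
  linarith

end Cfsg.Agent.S4989
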