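import Cfsg.Statements.S4996
import Cfsg.Agent.S4989
import Cfsg.Agent.Lib.Helper15.LinChar
import Cfsg.Agent.Lib.Helper74.CharOps
import Cfsg.Agent.Lib.Helper74.GaloisAMGM
import Cfsg.Agent.Lib.Helper75.CharInd
import Cfsg.Agent.Lib.Helper79.Schur
import Cfsg.Agent.Lib.Helper80.CharOps

set_option autoImplicit false
open Cfsg

namespace Cfsg.Agent.S4996

open Cfsg.Agent.Lib.Helper3 Cfsg.Agent.Lib.Helper74 Cfsg.Agent.Lib.Helper75
open scoped ComplexConjugate

/-- Coset sums of an irreducible character over a normal subgroup: `∑_{n ∈ N} ψ(n g)` is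
either `0` for all `g` or `|N| ψ(g)` for all `g`. -/
theorem coset_sum_irr {G : Type*} [Group G] [Fintype G] (N : Subgroup G) [N.Normal] [Fintype N]
    (ψ : Cfsg.IrrCharacter G) :
    ∃ c : ℂ, (c = 0 ∨ c = (Nat.card N : ℂ)) ∧
      ∀ g : G, ∑ n : N, (ψ : G → ℂ) ((n : G) * g) = c * (ψ : G → ℂ) g := by
  classical
  obtain ⟨d, ρ, hirr, hψ⟩ := ψ.2
  have := hirr
  set E : (Fin d → ℂ) →ₗ[ℂ] (Fin d → ℂ) := ∑ n : N, ρ (n : G) with hE
  have hcomm : ∀ g : G, E ∘ₗ ρ g = ρ g ∘ₗ E := by
    intro g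
    change E * ρ g = ρ g * E
    rw [hE, Finset.sum_mul, Finset.mul_sum]
    rw [← Equiv.sum_comp (MulAut.conjNormal g : N ≃* N).toEquiv]
    refine Finset.sum_congr rfl (fun n _ => ?_)
    rw [← map_mul, ← map_mul]
    congr 1
    simp [MulAut.conjNormal_apply]
  obtain ⟨c, hc⟩ := Cfsg.Agent.Lib.Helper79.schur_scalar ρ E hcomm
  have hEE : E * E = (Nat.card N : ℂ) • E := by
    have h1 : ∀ n : N, ρ (n : G) * E = E := by
      intro n
      rw [hE, Finset.mul_sum]
      rw [← Equiv.sum_comp (Equiv.mulLeft n⁻¹)]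
      refine Finset.sum_congr rfl (fun m _ => ?_)
      rw [← map_mul]
      refine congrArg ρ ?_
      simp
    have h2 : E * E = ∑ n : N, ρ (n : G) * E := by
      nth_rewrite 1 [hE]
      rw [Finset.sum_mul]
    rw [h2]
    simp only [h1, Finset.sum_const, Finset.card_univ]
    rw [Nat.card_eq_fintype_card, Nat.cast_smul_eq_nsmul]
  have hd : 0 < d := by simpa using Cfsg.Agent.Lib.Helper79.finrank_pos_of_irreducible ρ
  have hc2 : c * c = (Nat.card N : ℂ) * c := by
    rw [hc] at hEE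
    have h2 := congrFun (congrArg (fun L : (Fin d → ℂ) →ₗ[ℂ] (Fin d → ℂ) =>
      L (Pi.single (⟨0, hd⟩ : Fin d) (1 : ℂ))) hEE) ⟨0, hd⟩
    simpa [mul_comm] using h2
  refine ⟨c, ?_, ?_⟩
  · rcases eq_or_ne c 0 with h0 | h0
    · exact Or.inl h0
    · right
      exact mul_right_cancel₀ h0 hc2
  · intro g
    rw [← hψ]
    have h3 : ∑ n : N, ρ.character ((n : G) * g) = LinearMap.trace ℂ _ (E * ρ g) := by
      rw [hE, Finset.sum_mul, map_sum]
      refine Finset.sum_congr rfl (fun n _ => ?_)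
      rw [← map_mul]
      rfl
    rw [h3, hc]
    change LinearMap.trace ℂ _ ((c • (1 : Module.End ℂ (Fin d → ℂ))) * ρ g) = _
    rw [smul_mul_assoc, one_mul, map_smul]
    rfl

/-- `χ_N` is reducible iff `χ` vanishes on a coset of `N`. -/
theorem result {G : Type*} [Group G] [Finite G] (N : Subgroup G) [N.Normal] (χ : Cfsg.IrrCharacter G) : ¬ Cfsg.IsIrrCharacter ↥N (fun n : ↥N => (χ : G → ℂ) n) ↔ ∃ x : G, ∀ n : ↥N, (χ : G → ℂ) ((n : G) * x) = 0 := by
  classical
  have := Fintype.ofFinite G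
  have := Fintype.ofFinite N
  have := Fintype.ofFinite (Cfsg.IrrCharacter G)
  have := Fintype.ofFinite (Cfsg.IrrCharacter N)
  have hNne : (Nat.card N : ℂ) ≠ 0 := by
    have : Nat.card N ≠ 0 := Nat.card_pos.ne'
    exact_mod_cast this
  have hNpos : (0 : ℝ) < (Nat.card N : ℝ) := by exact_mod_cast Nat.card_pos
  have hχc : Cfsg.IsCharacter G (χ : G → ℂ) := isCharacter_of_irr χ.2
  -- the character `θ = χ χ̄`
  set θ : G → ℂ := fun g => (χ : G → ℂ) g * conj ((χ : G → ℂ) g) with hθ
  have hθc : Cfsg.IsCharacter G θ :=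
    Cfsg.Agent.Lib.Helper80.isCharacter_mul hχc (isCharacter_conj hχc)
  have hθnorm : ∀ g : G, θ g = ((‖(χ : G → ℂ) g‖ ^ 2 : ℝ) : ℂ) := by
    intro g
    simp only [hθ]
    rw [Complex.mul_conj, Complex.normSq_eq_norm_sq]
  -- the averaged function
  set ωr : G → ℝ := fun g => (Nat.card N : ℝ)⁻¹ * ∑ n : N, ‖(χ : G → ℂ) ((n : G) * g)‖ ^ 2
    with hωr
  set ω : G → ℂ := fun g => (Nat.card N : ℂ)⁻¹ * ∑ n : N, θ ((n : G) * g) with hω
  have hωeq : ∀ g : G, ω g = ((ωr g : ℝ) : ℂ) := by
    intro g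
    simp only [hω, hωr]
    push_cast
    congr 1
    exact Finset.sum_congr rfl (fun n _ => by rw [hθnorm]; push_cast; rfl)
  have hωr_nonneg : ∀ g : G, 0 ≤ ωr g := by
    intro g
    simp only [hωr]
    positivity
  have hωzero : ∀ g : G, ω g = 0 ↔ ∀ n : N, (χ : G → ℂ) ((n : G) * g) = 0 := by
    intro g
    rw [hωeq g, Complex.ofReal_eq_zero]
    simp only [hωr]
    rw [mul_eq_zero]
    constructor
    · rintro (h | h)
      · exact absurd (inv_eq_zero.1 h) hNpos.ne'
      · intro n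
        have h1 := (Finset.sum_eq_zero_iff_of_nonneg (fun n _ => by positivity)).1 h n
          (Finset.mem_univ n)
        simpa using h1
    · intro h
      right
      exact Finset.sum_eq_zero (fun n _ => by rw [h n]; simp)
  -- `ω` is a character
  have hωc : Cfsg.IsCharacter G ω := by
    obtain ⟨m, -, hsum⟩ := char_eq_sum_irr hθc
    choose c hc01 hc using fun ψ : Cfsg.IrrCharacter G => coset_sum_irr N ψ
    have hωsum : ω = ∑ ψ : Cfsg.IrrCharacter G,
        (if c ψ = 0 then 0 else m ψ) • (ψ : G → ℂ) := by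
      funext g
      simp only [hω]
      have h1 : ∀ n : N, θ ((n : G) * g) = ∑ ψ : Cfsg.IrrCharacter G,
          (m ψ : ℂ) * (ψ : G → ℂ) ((n : G) * g) := by
        intro n
        have := congrFun hsum ((n : G) * g)
        simpa using this
      simp_rw [h1]
      rw [Finset.sum_comm, Finset.mul_sum, Finset.sum_apply]
      refine Finset.sum_congr rfl (fun ψ _ => ?_)
      rw [← Finset.mul_sum, hc ψ g]
      rcases hc01 ψ with h0 | h0
      · rw [h0, if_pos rfl]
        simp
      · have hne : c ψ ≠ 0 := by rw [h0]; exact hNne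
        rw [if_neg hne, h0]
        simp only [Pi.smul_apply, nsmul_eq_mul]
        field_simp
    rw [hωsum]
    exact isCharacter_sum _ _ (fun ψ _ => isCharacter_nsmul _ (isCharacter_of_irr ψ.2))
  -- value at one
  have hω1 : ω 1 = Cfsg.classInner (fun n : N => (χ : G → ℂ) n) (fun n : N => (χ : G → ℂ) n) := by
    simp only [hω, hθ]
    unfold Cfsg.classInner
    simp
  have hresc : Cfsg.IsCharacter N (fun n : N => (χ : G → ℂ) n) := isCharacter_res N hχc
  constructor
  · -- reducible ⇒ some coset vanishes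
    intro hred
    by_contra hno
    push Not at hno
    have hne : ∀ g : G, ω g ≠ 0 := by
      intro g h0
      obtain ⟨n, hn⟩ := hno g
      exact hn ((hωzero g).1 h0 n)
    obtain ⟨k, hk⟩ := classInner_char_nat hresc hresc
    have hk1 : k ≠ 1 := by
      intro h1
      apply hred
      apply isIrrCharacter_of_classInner_self hresc
      rw [hk, h1]
      simp
    have hk0 : k ≠ 0 := by
      intro h0
      apply hne 1
      rw [hω1, hk, h0]
      simp
    have hk2 : (2 : ℝ) ≤ ωr 1 := by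
      have h2 : ((ωr 1 : ℝ) : ℂ) = ((k : ℝ) : ℂ) := by
        rw [← hωeq 1, hω1, hk]
        simp
      have h3 : ωr 1 = (k : ℝ) := by exact_mod_cast h2
      rw [h3]
      have : 2 ≤ k := by omega
      exact_mod_cast this
    -- AM-GM on the nonidentity elements
    have hcyc : CycloType ω := cycloType_of_isCharacter hωc
    have hT : ((Finset.univ.erase (1 : G)).card : ℝ) ≤
        ∑ g ∈ Finset.univ.erase (1 : G), ‖ω g‖ ^ 1 := by
      apply card_le_sum_norm_pow hcyc 1
      · intro g hg k hk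
        rw [Finset.mem_erase] at hg ⊢
        refine ⟨fun h => hg.1 ?_, Finset.mem_univ _⟩
        have h1 : g ^ k ∈ (⊥ : Subgroup G) := by rw [h]; exact Subgroup.one_mem _
        exact Subgroup.mem_bot.1 (Cfsg.Agent.S4989.mem_of_pow_mem ⊥ hk h1)
      · intro g _
        exact hne g
    have hnormω : ∀ g : G, ‖ω g‖ ^ 1 = ωr g := by
      intro g
      rw [pow_one, hωeq g, Complex.norm_real, Real.norm_of_nonneg (hωr_nonneg g)]
    simp_rw [hnormω] at hT
    rw [Finset.card_erase_of_mem (Finset.mem_univ _), Finset.card_univ] at hT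
    have hsum : ∑ g : G, ωr g = (Nat.card G : ℝ) := by
      simp only [hωr]
      rw [← Finset.mul_sum, Finset.sum_comm]
      have h1 : ∀ n : N, ∑ g : G, ‖(χ : G → ℂ) ((n : G) * g)‖ ^ 2 = (Nat.card G : ℝ) := by
        intro n
        rw [← Cfsg.Agent.S4989.sum_norm_sq χ.2]
        exact Equiv.sum_comp (Equiv.mulLeft (n : G)) (fun g => ‖(χ : G → ℂ) g‖ ^ 2)
      simp only [h1, Finset.sum_const, Finset.card_univ, nsmul_eq_mul]
      rw [← Nat.card_eq_fintype_card]
      field_simp
    rw [← Finset.add_sum_erase Finset.univ ωr (Finset.mem_univ (1 : G))] at hsum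
    have hcard : ((Fintype.card G - 1 : ℕ) : ℝ) = (Nat.card G : ℝ) - 1 := by
      rw [Nat.cast_sub Fintype.card_pos, Nat.card_eq_fintype_card]
      simp
    rw [hcard] at hT
    linarith
  · -- some coset vanishes ⇒ reducible
    rintro ⟨x, hx⟩ hirr
    have h1 : ω 1 = 1 := by rw [hω1, classInner_irr_self hirr]
    have h2 := Cfsg.Agent.Lib.Helper15.linChar_ne_zero hωc h1 x
    exact h2 ((hωzero x).2 hx)

end Cfsg.Agent.S4996
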