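import Cfsg.Statements.S5010
import Cfsg.Agent.Lib.Helper39.SqfDeg.Final
import Cfsg.Agent.Lib.Helper39.SqfDeg.Core
import Cfsg.Agent.Lib.Helper39.SqfDeg.Ker
import Cfsg.Agent.Lib.Helper1.SqfDeg.Struct
import Cfsg.Agent.Lib.Helper1.SqfDeg.ClaimA
import Cfsg.Agent.Lib.Helper1.SqfDeg.R
import Cfsg.Agent.Lib.Helper29.SqfDeg.Deg
import Cfsg.Agent.Lib.Helper29.SqfDeg.Stab
import Cfsg.Agent.Lib.Helper67.SqfDeg.Nilp
import Cfsg.Agent.Lib.Helper20.SqfDeg.Hyp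
import Cfsg.Agent.Lib.Helper20.SqfDeg.Coprime

set_option autoImplicit false
open Cfsg

namespace Cfsg.Agent.S5010

/-- Let `G` be a finite solvable group. If every irreducible complex character degree of `G` is squarefree (1 included), then the derived length of `G` is at most 4. -/
theorem result {G : Type*} [Group G] [Finite G] [Group.IsSolvable G]
    (h : ∀ χ : Cfsg.IrrCharacter G, Squarefree (Cfsg.charDegree (χ : G → ℂ))) : derivedSeries G 4 = ⊥ := by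
  exact Cfsg.Agent.Lib.Helper39.SqfDeg.s5010_of
    (Cfsg.Agent.Lib.Helper67.SqfDeg.pkgNilp_of Cfsg.Agent.Lib.Helper29.SqfDeg.pkgDeg)
    Cfsg.Agent.Lib.Helper29.SqfDeg.pkgDeg Cfsg.Agent.Lib.Helper1.SqfDeg.pkgStruct
    (Cfsg.Agent.Lib.Helper39.SqfDeg.pkgCore_of Cfsg.Agent.Lib.Helper20.SqfDeg.pkgHyp
      (Cfsg.Agent.Lib.Helper29.SqfDeg.pkgStab_of Cfsg.Agent.Lib.Helper1.SqfDeg.pkgR)
      (Cfsg.Agent.Lib.Helper39.SqfDeg.pkgKer_of Cfsg.Agent.Lib.Helper20.SqfDeg.pkgCoprime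
        Cfsg.Agent.Lib.Helper1.SqfDeg.pkgClaimA Cfsg.Agent.Lib.Helper1.SqfDeg.pkgR)
      Cfsg.Agent.Lib.Helper1.SqfDeg.pkgR) h

end Cfsg.Agent.S5010
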