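import Cfsg.Statements.S5045
import Cfsg.Agent.Lib.Helper83.RootInv
import Cfsg.Agent.Lib.Helper64.Dihedral
open Cfsg.Agent.Lib.Helper83

set_option autoImplicit false
open Cfsg

namespace Cfsg.Agent.S5045

/-- Let G be a finite group generated by a set D of root involutions, and W the set of members of D whose product with every other member of D has even order or is trivial (the isolated vertices of the odd-order-product graph on D). Then W is conjugation-invariant and generates a normal 2-subgroup of G meeting D in exactly W; the commutator of two members of D lying in different connected components of that graph, each with more than one member, lies in the subgroup generated by W; and for a in such a component, every member of D commuting with a, different from a and with product with a in D, lies in that component or in W. -/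
theorem result {G : Type*} [Group G] [Finite G] {D : Set G} (hD : Cfsg.IsRootInvolutionSet D) :
    (∀ w ∈ {w | Cfsg.IsIsolatedElem (Cfsg.OddAdj D) D w}, ∀ g : G, g * w * g⁻¹ ∈ {w | Cfsg.IsIsolatedElem (Cfsg.OddAdj D) D w}) ∧
    (Subgroup.closure {w | Cfsg.IsIsolatedElem (Cfsg.OddAdj D) D w}).Normal ∧
    IsPGroup 2 ↥(Subgroup.closure {w | Cfsg.IsIsolatedElem (Cfsg.OddAdj D) D w}) ∧
    (Subgroup.closure {w | Cfsg.IsIsolatedElem (Cfsg.OddAdj D) D w} : Set G) ∩ D = {w | Cfsg.IsIsolatedElem (Cfsg.OddAdj D) D w} ∧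
    (∀ a ∈ D, ∀ b ∈ D, (∃ a' ∈ Cfsg.elemComponentOf (Cfsg.OddAdj D) D a, a' ≠ a) →
      (∃ b' ∈ Cfsg.elemComponentOf (Cfsg.OddAdj D) D b, b' ≠ b) →
      Cfsg.elemComponentOf (Cfsg.OddAdj D) D a ≠ Cfsg.elemComponentOf (Cfsg.OddAdj D) D b →
        a * b * a⁻¹ * b⁻¹ ∈ Subgroup.closure {w | Cfsg.IsIsolatedElem (Cfsg.OddAdj D) D w}) ∧
    (∀ a ∈ D, (∃ a' ∈ Cfsg.elemComponentOf (Cfsg.OddAdj D) D a, a' ≠ a) →
      Cfsg.productPartners D a ⊆ Cfsg.elemComponentOf (Cfsg.OddAdj D) D a ∪ {w | Cfsg.IsIsolatedElem (Cfsg.OddAdj D) D w}) := by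
  have hconj : ∀ w ∈ {w | IsIsolatedElem (OddAdj D) D w}, ∀ g : G,
      g * w * g⁻¹ ∈ {w | IsIsolatedElem (OddAdj D) D w} := by
    rintro w ⟨hw, hiso⟩ g
    have key : ∀ b, ¬ OddAdj D (g * w * g⁻¹) b := by
      rintro b ⟨-, hbD, hne, hodd⟩
      apply (hiso (g⁻¹ * b * g)).1
      refine ⟨hw, rinv_conj' hD hbD g, ?_, ?_⟩
      · intro e
        apply hne
        rw [e]; group
      · have e : w * (g⁻¹ * b * g) = g⁻¹ * (g * w * g⁻¹ * b) * g := by group
        rw [e, orderOf_conj_inv]
        exact hodd
    exact ⟨hD.conj_mem w hw g, fun b => ⟨key b, fun hb => key b (oddAdj_symm hb)⟩⟩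
  have hnormal : (Subgroup.closure {w | IsIsolatedElem (OddAdj D) D w}).Normal :=
    Cfsg.Agent.Lib.Helper64.closure_normal_of_conj_invariant _ (fun g x hx => hconj x hx g)
  have hpg : IsPGroup 2 ↥(Subgroup.closure {w | IsIsolatedElem (OddAdj D) D w}) := by
    apply Cfsg.Agent.Lib.Helper64.baerSuzuki_set 2 _ (fun g x hx => hconj x hx g)
    rintro x ⟨hxD, hxiso⟩ y ⟨hyD, -⟩
    have x2 := rinv_sq hD hxD
    have y2 := rinv_sq hD hyD
    rcases hD.pair x hxD y hyD with h | h | ⟨h, -⟩
    · apply Cfsg.Agent.Lib.Helper64.isPGroup_two_closure_pair_invol x2 y2 1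
      rw [pow_one, pow_two]
      calc x * y * (x * y) = x * (y * x) * y := by group
        _ = x * (x * y) * y := by rw [h]
        _ = (x * x) * (y * y) := by group
        _ = 1 := by rw [x2, y2, one_mul]
    · by_cases hxy : x = y
      · apply Cfsg.Agent.Lib.Helper64.isPGroup_two_closure_pair_invol x2 y2 0
        rw [pow_zero, pow_one, ← hxy, x2]
      · exact absurd ⟨hxD, hyD, hxy, h⟩ (hxiso y).1
    · apply Cfsg.Agent.Lib.Helper64.isPGroup_two_closure_pair_invol x2 y2 2
      have e : (2 : ℕ) ^ 2 = 4 := by norm_num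
      rw [e, ← h]
      exact pow_orderOf_eq_one _
  have hinter : (Subgroup.closure {w | IsIsolatedElem (OddAdj D) D w} : Set G) ∩ D =
      {w | IsIsolatedElem (OddAdj D) D w} := by
    ext d
    constructor
    · rintro ⟨hdQ, hdD⟩
      have hdQ' : d ∈ Subgroup.closure {w | IsIsolatedElem (OddAdj D) D w} := hdQ
      have key : ∀ b, ¬ OddAdj D d b := by
        rintro b ⟨-, hbD, hne, hodd⟩
        have hmem : (d * b) ^ 2 ∈ Subgroup.closure {w | IsIsolatedElem (OddAdj D) D w} := by
          have e : (d * b) ^ 2 = d * (b * d * b⁻¹) := by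
            rw [pow_two, rinv_inv hD hbD]; group
          rw [e]
          exact mul_mem hdQ' (hnormal.conj_mem d hdQ' b)
        obtain ⟨k, hk⟩ := (Cfsg.Agent.Lib.Helper64.isPGroup_iff_mem.mp hpg) _ hmem
        have h1 : orderOf ((d * b) ^ 2) ∣ 2 ^ k := orderOf_dvd_of_pow_eq_one hk
        have h2 : orderOf ((d * b) ^ 2) ∣ orderOf (d * b) := orderOf_pow_dvd 2
        have hcop : Nat.Coprime (2 ^ k) (orderOf (d * b)) :=
          Nat.Coprime.pow_left k (Nat.coprime_two_left.mpr hodd)
        have h3 : orderOf ((d * b) ^ 2) ∣ 1 := by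
          have := Nat.dvd_gcd h1 h2
          rwa [hcop] at this
        have h4 : (d * b) ^ 2 = 1 := orderOf_eq_one_iff.mp (Nat.dvd_one.mp h3)
        have h5 : orderOf (d * b) ∣ 2 := orderOf_dvd_of_pow_eq_one h4
        have h6 : orderOf (d * b) = 1 := by
          have hle := Nat.le_of_dvd (by norm_num) h5
          obtain ⟨m, hm⟩ := hodd
          omega
        have h7 : d * b = 1 := orderOf_eq_one_iff.mp h6
        apply hne
        have h8 : b = d⁻¹ := eq_inv_of_mul_eq_one_right h7
        rw [h8, rinv_inv hD hdD]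
      exact ⟨hdD, fun b => ⟨key b, fun hb => key b (oddAdj_symm hb)⟩⟩
    · intro hd
      exact ⟨Subgroup.subset_closure hd, hd.1⟩
  have hpart : ∀ a ∈ D, (∃ a' ∈ elemComponentOf (OddAdj D) D a, a' ≠ a) →
      productPartners D a ⊆ elemComponentOf (OddAdj D) D a ∪ {w | IsIsolatedElem (OddAdj D) D w} := by
    intro a ha hca e he
    rcases rinv_productPartner_component hD ha hca he with h | h
    · exact Or.inl h
    · exact Or.inr h
  refine ⟨hconj, hnormal, hpg, hinter, ?_, hpart⟩
  intro a ha b hb hca hcb hne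
  have a2 := rinv_sq hD ha
  have b2 := rinv_sq hD hb
  rcases hD.pair a ha b hb with h | h | ⟨h4, hz⟩
  · have e : a * b * a⁻¹ * b⁻¹ = 1 := by rw [h]; group
    rw [e]; exact one_mem _
  · exfalso
    by_cases hab : a = b
    · exact hne (by rw [hab])
    · have hbm : b ∈ elemComponentOf (OddAdj D) D a :=
        ⟨hb, Relation.ReflTransGen.single ⟨ha, hb, hab, h⟩⟩
      exact hne (oddComponent_eq hbm).symm
  · have e : a * b * a⁻¹ * b⁻¹ = (a * b) ^ 2 := by
      rw [rinv_inv hD ha, rinv_inv hD hb, pow_two]; group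
    rw [e]
    apply Subgroup.subset_closure
    show IsIsolatedElem (OddAdj D) D ((a * b) ^ 2)
    by_contra hzW
    obtain ⟨z, hzdef⟩ : ∃ z, z = (a * b) ^ 2 := ⟨_, rfl⟩
    rw [← hzdef] at hz hzW
    obtain ⟨y, hzy⟩ : ∃ y, OddAdj D z y := by
      by_contra hcon
      push Not at hcon
      exact hzW ⟨hz, fun c => ⟨hcon c, fun hc => hcon c (oddAdj_symm hc)⟩⟩
    have hcz : ∃ z' ∈ elemComponentOf (OddAdj D) D z, z' ≠ z :=
      ⟨y, ⟨hzy.2.1, Relation.ReflTransGen.single hzy⟩, hzy.2.2.1.symm⟩
    have e4 : (a * b) ^ 4 = 1 := by rw [← h4]; exact pow_orderOf_eq_one _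
    have e4' : (b * a) ^ 4 = 1 := by
      have : orderOf (b * a) = 4 := by rw [orderOf_mul_comm']; exact h4
      rw [← this]; exact pow_orderOf_eq_one _
    -- a is a product partner of z
    have haz : a * z = b * a * b := by
      rw [hzdef, pow_two]
      calc a * (a * b * (a * b)) = (a * a) * b * a * b := by group
        _ = b * a * b := by rw [a2, one_mul]
    have hza : z * a = b * a * b := by
      have h1 : z * a * (b * a * b) = 1 := by
        rw [hzdef]
        have h0 : (a * b) ^ 2 * a * (b * a * b) = (a * b) ^ 4 := by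
          simp only [pow_succ, pow_zero, one_mul, mul_assoc]
        rw [h0, e4]
      have h2 := eq_inv_of_mul_eq_one_left h1
      rw [h2, mul_inv_rev, mul_inv_rev, rinv_inv hD ha, rinv_inv hD hb, ← mul_assoc]
    have hazD : a * z ∈ D := by rw [haz]; exact rinv_conj_invol hD ha hb
    have hanez : a ≠ z := by
      intro h
      have h1 : a * z = 1 := by rw [← h, a2]
      exact rinv_ne_one hD hazD h1
    have haX : a ∈ productPartners D z := ⟨⟨ha, haz.trans hza.symm, hanez⟩, hazD⟩
    have hzb : z * b = a * b * a := by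
      rw [hzdef, pow_two]
      calc a * b * (a * b) * b = a * b * a * (b * b) := by group
        _ = a * b * a := by rw [b2, mul_one]
    have hbz : b * z = a * b * a := by
      have h1 : b * z * (a * b * a) = 1 := by
        rw [hzdef]
        have h0 : b * (a * b) ^ 2 * (a * b * a) = (b * a) ^ 4 := by
          simp only [pow_succ, pow_zero, one_mul, mul_assoc]
        rw [h0, e4']
      have h2 := eq_inv_of_mul_eq_one_left h1
      rw [h2, mul_inv_rev, mul_inv_rev, rinv_inv hD ha, rinv_inv hD hb, ← mul_assoc]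
    have hbzD : b * z ∈ D := by rw [hbz]; exact rinv_conj_invol hD hb ha
    have hbnez : b ≠ z := by
      intro h
      have h1 : b * z = 1 := by rw [← h, b2]
      exact rinv_ne_one hD hbzD h1
    have hbX : b ∈ productPartners D z := ⟨⟨hb, hbz.trans hzb.symm, hbnez⟩, hbzD⟩
    have hnota : ¬ IsIsolatedElem (OddAdj D) D a := by
      intro hiso
      obtain ⟨x, hx⟩ := exists_oddAdj_of_component hca
      exact (hiso.2 x).1 hx
    have hnotb : ¬ IsIsolatedElem (OddAdj D) D b := by
      intro hiso
      obtain ⟨x, hx⟩ := exists_oddAdj_of_component hcb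
      exact (hiso.2 x).1 hx
    have ha' : a ∈ elemComponentOf (OddAdj D) D z := by
      rcases rinv_productPartner_component hD hz hcz haX with h | h
      · exact h
      · exact absurd h hnota
    have hb' : b ∈ elemComponentOf (OddAdj D) D z := by
      rcases rinv_productPartner_component hD hz hcz hbX with h | h
      · exact h
      · exact absurd h hnotb
    exact hne ((oddComponent_eq ha').trans (oddComponent_eq hb').symm)

end Cfsg.Agent.S5045
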