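import Cfsg.Statements.S5072
import Cfsg.Agent.Lib.Helper31.Siegel.Final
import Cfsg.Agent.Lib.Helper67.Siegel.Param
import Cfsg.Agent.Lib.Helper67.Siegel.ComR
import Cfsg.Agent.Lib.Helper76.Siegel.Alg
import Cfsg.Agent.Lib.Helper76.Siegel.Exist
import Cfsg.Agent.Lib.Helper21.Siegel.Conj
import Cfsg.Agent.Lib.Helper21.Siegel.Classify
import Cfsg.Agent.Lib.Helper34.Siegel.Comm1
import Cfsg.Agent.Lib.Helper34.Siegel.Comm2
import Cfsg.Agent.Lib.Helper34.Siegel.Rebase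
import Cfsg.Agent.Lib.Helper74.Siegel.CCase
import Cfsg.Agent.Lib.Helper74.Siegel.NotR1
import Cfsg.Agent.Lib.Helper96.Siegel.Dual
import Cfsg.Agent.Lib.Helper96.Siegel.NormOpp
import Cfsg.Agent.Lib.Helper3.Siegel.SL2
import Cfsg.Agent.Lib.Helper94.Siegel.R1
import Cfsg.Agent.Lib.Helper24.Siegel.Meet
import Cfsg.Agent.Lib.Helper24.Siegel.Conn2A
import Cfsg.Agent.Lib.Helper24.Siegel.Conn2C
import Cfsg.Agent.Lib.Helper32.Siegel.Conn2B

set_option autoImplicit false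
open Matrix
open Cfsg

namespace Cfsg.Agent.S5072

/-- Let F be a field, m a natural number and V = F^{2(m+3)} with the hyperbolic quadratic form q(x, y) = Σ xᵢ yᵢ (non-degenerate, Witt index m + 3 ≥ 3). For a singular line ℓ (a 2-dimensional subspace on which q vanishes) let T(ℓ) be the group of isometries of q fixing every vector of ℓ^⊥ (the Siegel transvection group of ℓ), let Σ be the set of these groups and G₀ the subgroup they generate. Then, viewed inside G₀, the members of Σ form a set of abstract F-root subgroups of G₀ (any two commute, or are the unipotent subgroups of a rank one group that is an image of SL₂(F) with central kernel, or satisfy the commutator case), and their graph of rank one pairs is connected. -/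
theorem result (F : Type*) [Field F] (m : ℕ) :
    Cfsg.IsKRootSubgroupSet F ((fun A : Subgroup ↥(Cfsg.isometryGroup F (Cfsg.quadFormPlus (m + 3) F)) => A.subgroupOf (⨆ B ∈ {A : Subgroup ↥(Cfsg.isometryGroup F (Cfsg.quadFormPlus (m + 3) F)) | ∃ p r : Fin (m + 3) ⊕ Fin (m + 3) → F, LinearIndependent F ![p, r] ∧
          Cfsg.quadFormPlus (m + 3) F p = 0 ∧ Cfsg.quadFormPlus (m + 3) F r = 0 ∧
          Cfsg.quadFormPlus (m + 3) F (p + r) = 0 ∧
          A = Subgroup.closure {σ : ↥(Cfsg.isometryGroup F (Cfsg.quadFormPlus (m + 3) F)) | ∀ v : Fin (m + 3) ⊕ Fin (m + 3) → F,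
            Cfsg.quadFormPlus (m + 3) F (v + p) - Cfsg.quadFormPlus (m + 3) F v - Cfsg.quadFormPlus (m + 3) F p = 0 →
            Cfsg.quadFormPlus (m + 3) F (v + r) - Cfsg.quadFormPlus (m + 3) F v - Cfsg.quadFormPlus (m + 3) F r = 0 →
              ((σ : Matrix.GeneralLinearGroup (Fin (m + 3) ⊕ Fin (m + 3)) F) : Matrix (Fin (m + 3) ⊕ Fin (m + 3)) (Fin (m + 3) ⊕ Fin (m + 3)) F) *ᵥ v = v}}, B)) ''
      {A : Subgroup ↥(Cfsg.isometryGroup F (Cfsg.quadFormPlus (m + 3) F)) | ∃ p r : Fin (m + 3) ⊕ Fin (m + 3) → F, LinearIndependent F ![p, r] ∧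
          Cfsg.quadFormPlus (m + 3) F p = 0 ∧ Cfsg.quadFormPlus (m + 3) F r = 0 ∧
          Cfsg.quadFormPlus (m + 3) F (p + r) = 0 ∧
          A = Subgroup.closure {σ : ↥(Cfsg.isometryGroup F (Cfsg.quadFormPlus (m + 3) F)) | ∀ v : Fin (m + 3) ⊕ Fin (m + 3) → F,
            Cfsg.quadFormPlus (m + 3) F (v + p) - Cfsg.quadFormPlus (m + 3) F v - Cfsg.quadFormPlus (m + 3) F p = 0 →
            Cfsg.quadFormPlus (m + 3) F (v + r) - Cfsg.quadFormPlus (m + 3) F v - Cfsg.quadFormPlus (m + 3) F r = 0 →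
              ((σ : Matrix.GeneralLinearGroup (Fin (m + 3) ⊕ Fin (m + 3)) F) : Matrix (Fin (m + 3) ⊕ Fin (m + 3)) (Fin (m + 3) ⊕ Fin (m + 3)) F) *ᵥ v = v}}) ∧
    Cfsg.IsConnectedFamily (Cfsg.FAdj {A : Subgroup ↥(Cfsg.isometryGroup F (Cfsg.quadFormPlus (m + 3) F)) | ∃ p r : Fin (m + 3) ⊕ Fin (m + 3) → F, LinearIndependent F ![p, r] ∧
          Cfsg.quadFormPlus (m + 3) F p = 0 ∧ Cfsg.quadFormPlus (m + 3) F r = 0 ∧
          Cfsg.quadFormPlus (m + 3) F (p + r) = 0 ∧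
          A = Subgroup.closure {σ : ↥(Cfsg.isometryGroup F (Cfsg.quadFormPlus (m + 3) F)) | ∀ v : Fin (m + 3) ⊕ Fin (m + 3) → F,
            Cfsg.quadFormPlus (m + 3) F (v + p) - Cfsg.quadFormPlus (m + 3) F v - Cfsg.quadFormPlus (m + 3) F p = 0 →
            Cfsg.quadFormPlus (m + 3) F (v + r) - Cfsg.quadFormPlus (m + 3) F v - Cfsg.quadFormPlus (m + 3) F r = 0 →
              ((σ : Matrix.GeneralLinearGroup (Fin (m + 3) ⊕ Fin (m + 3)) F) : Matrix (Fin (m + 3) ⊕ Fin (m + 3)) (Fin (m + 3) ⊕ Fin (m + 3)) F) *ᵥ v = v}})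
      {A : Subgroup ↥(Cfsg.isometryGroup F (Cfsg.quadFormPlus (m + 3) F)) | ∃ p r : Fin (m + 3) ⊕ Fin (m + 3) → F, LinearIndependent F ![p, r] ∧
          Cfsg.quadFormPlus (m + 3) F p = 0 ∧ Cfsg.quadFormPlus (m + 3) F r = 0 ∧
          Cfsg.quadFormPlus (m + 3) F (p + r) = 0 ∧
          A = Subgroup.closure {σ : ↥(Cfsg.isometryGroup F (Cfsg.quadFormPlus (m + 3) F)) | ∀ v : Fin (m + 3) ⊕ Fin (m + 3) → F,
            Cfsg.quadFormPlus (m + 3) F (v + p) - Cfsg.quadFormPlus (m + 3) F v - Cfsg.quadFormPlus (m + 3) F p = 0 →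
            Cfsg.quadFormPlus (m + 3) F (v + r) - Cfsg.quadFormPlus (m + 3) F v - Cfsg.quadFormPlus (m + 3) F r = 0 →
              ((σ : Matrix.GeneralLinearGroup (Fin (m + 3) ⊕ Fin (m + 3)) F) : Matrix (Fin (m + 3) ⊕ Fin (m + 3)) (Fin (m + 3) ⊕ Fin (m + 3)) F) *ᵥ v = v}} := by
  exact Cfsg.Agent.Lib.Helper31.Siegel.result_of
    Cfsg.Agent.Lib.Helper67.Siegel.pkgParam
    Cfsg.Agent.Lib.Helper76.Siegel.pkgExist
    Cfsg.Agent.Lib.Helper76.Siegel.pkgAlg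
    Cfsg.Agent.Lib.Helper21.Siegel.pkgConj
    Cfsg.Agent.Lib.Helper34.Siegel.pkgRebase
    Cfsg.Agent.Lib.Helper34.Siegel.pkgComm1
    Cfsg.Agent.Lib.Helper34.Siegel.pkgComm2
    (Cfsg.Agent.Lib.Helper74.Siegel.pkgCCase_of Cfsg.Agent.Lib.Helper67.Siegel.pkgParam
      Cfsg.Agent.Lib.Helper76.Siegel.pkgExist Cfsg.Agent.Lib.Helper76.Siegel.pkgAlg
      Cfsg.Agent.Lib.Helper34.Siegel.pkgComm2 Cfsg.Agent.Lib.Helper67.Siegel.pkgComr)
    (Cfsg.Agent.Lib.Helper74.Siegel.pkgNotR1_of Cfsg.Agent.Lib.Helper67.Siegel.pkgParam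
      Cfsg.Agent.Lib.Helper76.Siegel.pkgExist Cfsg.Agent.Lib.Helper76.Siegel.pkgAlg
      Cfsg.Agent.Lib.Helper96.Siegel.pkgDual)
    Cfsg.Agent.Lib.Helper21.Siegel.pkgClassify
    Cfsg.Agent.Lib.Helper96.Siegel.pkgNormOpp
    (Cfsg.Agent.Lib.Helper3.Siegel.pkgSL2_of Cfsg.Agent.Lib.Helper67.Siegel.pkgParam)
    (Cfsg.Agent.Lib.Helper94.Siegel.pkgR1_of Cfsg.Agent.Lib.Helper67.Siegel.pkgParam
      Cfsg.Agent.Lib.Helper76.Siegel.pkgExist Cfsg.Agent.Lib.Helper76.Siegel.pkgAlg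
      Cfsg.Agent.Lib.Helper34.Siegel.pkgRebase)
    Cfsg.Agent.Lib.Helper24.Siegel.pkgMeet
    (Cfsg.Agent.Lib.Helper24.Siegel.pkgConn2A Cfsg.Agent.Lib.Helper96.Siegel.pkgDual)
    Cfsg.Agent.Lib.Helper32.Siegel.pkgConn2B
    (Cfsg.Agent.Lib.Helper24.Siegel.pkgConn2C Cfsg.Agent.Lib.Helper96.Siegel.pkgDual)
    F m

end Cfsg.Agent.S5072
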