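import Cfsg.Statements.S5154
import Mathlib
import Cfsg.Agent.Lib.Helper88.IsoD

set_option autoImplicit false
open Cfsg

namespace Cfsg.Agent.S5154

open Cfsg.Agent.Lib.Helper88

/-- Let F be a saturated fusion system over a finite p-group S, C a component of F over T, and γ a map of F with source T. Then the image of C under γ — the fusion system over γ(T) whose maps are the homomorphisms induced along γ by the maps of C — is again a component of F. -/
theorem result {Ω : Type*} [Group Ω] {S : Subgroup Ω} [Finite S] (p : ℕ) [Fact p.Prime] (hS : IsPGroup p S) (F : Cfsg.FusionSystem S) (hF : F.IsSaturated p) {T : Subgroup Ω} (C : Cfsg.FusionSystem T) (hC : C.IsComponentIn F p) (γ : T →* Ω) (hγ : γ ∈ F.Hom T) (E : Cfsg.FusionSystem γ.range) (hE : C.IsFactorSystem ⊥ γ E) : E.IsComponentIn F p := by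
  classical
  obtain ⟨hCsub, hCq⟩ := hC
  have hTS : T ≤ S := subnormal_le hCsub
  haveI : Finite T := Finite.of_injective _ (Subgroup.inclusion_injective hTS)
  have hTp : IsPGroup p T := hS.to_le hTS
  have hCsat : C.IsSaturated p := hCq.1
  have hg : Mor F T (extFun γ) := mor_of_hom F hγ
  obtain ⟨g', -, hg'g⟩ := hg.exists_inv
  have hbot := stronglyClosed_bot C
  have hiso : FIso C E (extFun γ) g' :=
    fiso_of_factor p hTp hCsat hE (fun s => extFun_apply γ s)
      (fun s => by rw [← extFun_apply γ s]; exact hg'g s s.2)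
  have hEsat : E.IsSaturated p :=
    Cfsg.Agent.S5133.result p hTp C hCsat E γ
      (Cfsg.Agent.S5134.result p hTp C hCsat ⊥ hbot γ E hE)
  have hhyp : E.hyperfocalSubgroup p = γ.range := by
    rw [Cfsg.Agent.S5256.result p hTp C hCsat ⊥ hbot γ E hE, hCq.2.1, Subgroup.subgroupOf_self,
      ← MonoidHom.range_eq_map]
  have hRS : γ.range ≤ S := by
    rintro _ ⟨x, rfl⟩
    exact (F.le_of_mem hγ).2 x
  haveI : Finite γ.range := Finite.of_injective _ (Subgroup.inclusion_injective hRS)
  have hRp : IsPGroup p γ.range := hS.to_le hRS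
  exact ⟨conj_subnormal hCsub hS hCsat (extFun γ) g' hg E hiso,
    quasisimple_transport p hTp hRp hiso hEsat hhyp hCq⟩

end Cfsg.Agent.S5154
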