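import Cfsg.Statements.S5168
import Cfsg.Agent.Lib.Helper86.MathieuFusion
import Cfsg.Agent.Lib.Helper86.MathieuOrders

set_option autoImplicit false
set_option maxRecDepth 100000
open Cfsg

namespace Cfsg.Agent.S5168

open Cfsg.Agent.Lib.Helper86

/-- polycyclic generators of a Sylow `2`-subgroup (top first) -/
def ys : List (List ℕ) := [[0, 7, 2, 4, 3, 18, 19, 1, 9, 8, 10, 22, 12, 13, 20, 16, 15, 17, 5, 6, 14, 21, 11, 23],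
  [0, 1, 4, 12, 2, 6, 5, 7, 19, 14, 10, 11, 3, 16, 9, 21, 13, 17, 20, 8, 18, 15, 22, 23],
  [0, 1, 3, 2, 12, 14, 9, 7, 20, 6, 10, 11, 4, 15, 5, 13, 21, 17, 19, 18, 8, 16, 22, 23],
  [0, 1, 6, 3, 15, 8, 2, 7, 5, 9, 17, 22, 20, 14, 13, 4, 16, 10, 18, 21, 12, 19, 11, 23],
  [0, 1, 2, 16, 5, 4, 6, 7, 15, 18, 11, 10, 20, 14, 13, 8, 3, 22, 9, 19, 12, 21, 17, 23],
  [0, 1, 2, 9, 8, 15, 6, 7, 4, 3, 17, 22, 13, 12, 20, 5, 18, 10, 16, 19, 14, 21, 11, 23],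
  [0, 1, 21, 16, 15, 8, 19, 7, 5, 18, 10, 11, 13, 12, 20, 4, 3, 17, 9, 6, 14, 2, 22, 23]]

/-- its central involution -/
def z : List ℕ := [0, 1, 21, 16, 15, 8, 19, 7, 5, 18, 10, 11, 13, 12, 20, 4, 3, 17, 9, 6, 14, 2, 22, 23]

/-- coset representatives of the stabilizer of the fixed octad of `z` -/
def ts1 : List (List ℕ) := [[0, 1, 2, 3, 4, 5, 6, 7, 8, 9, 10, 11, 12, 13, 14, 15, 16, 17, 18, 19, 20, 21, 22, 23],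
  [0, 1, 2, 17, 16, 14, 7, 6, 11, 9, 10, 8, 18, 22, 5, 15, 4, 3, 12, 21, 20, 19, 13, 23],
  [0, 1, 2, 22, 14, 4, 12, 18, 21, 20, 15, 19, 7, 3, 16, 10, 5, 13, 6, 8, 9, 11, 17, 23],
  [0, 1, 3, 14, 4, 17, 16, 9, 6, 22, 15, 10, 13, 11, 5, 12, 19, 2, 8, 18, 21, 7, 20, 23],
  [0, 1, 8, 22, 4, 9, 21, 17, 12, 10, 3, 2, 18, 15, 19, 6, 7, 14, 11, 16, 13, 20, 5, 23],
  [0, 1, 9, 16, 12, 18, 20, 2, 8, 13, 21, 19, 14, 17, 3, 11, 4, 7, 22, 10, 5, 15, 6, 23],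
  [0, 2, 18, 21, 6, 5, 20, 4, 11, 3, 22, 1, 12, 14, 15, 10, 9, 16, 8, 7, 19, 17, 13, 23],
  [0, 3, 14, 21, 5, 19, 11, 9, 6, 8, 18, 7, 22, 17, 13, 15, 2, 16, 4, 10, 20, 12, 1, 23],
  [0, 4, 12, 21, 20, 11, 5, 3, 19, 9, 17, 15, 14, 22, 7, 1, 8, 16, 2, 13, 6, 18, 10, 23],
  [0, 4, 19, 16, 12, 18, 20, 3, 5, 10, 9, 21, 22, 14, 6, 13, 15, 8, 17, 11, 7, 1, 2, 23],
  [0, 5, 3, 16, 15, 11, 13, 12, 17, 10, 7, 2, 14, 6, 8, 20, 19, 22, 1, 18, 21, 4, 9, 23],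
  [0, 5, 7, 6, 14, 13, 20, 10, 22, 4, 1, 12, 9, 18, 17, 15, 11, 16, 2, 21, 8, 3, 19, 23],
  [0, 5, 8, 14, 19, 6, 16, 3, 9, 1, 4, 18, 10, 20, 21, 15, 2, 12, 17, 11, 7, 22, 13, 23],
  [0, 5, 12, 1, 14, 19, 15, 11, 7, 13, 4, 2, 22, 8, 16, 18, 21, 10, 9, 17, 3, 20, 6, 23],
  [0, 5, 12, 6, 16, 14, 22, 9, 20, 3, 18, 17, 11, 1, 21, 4, 19, 8, 15, 7, 13, 2, 10, 23],
  [0, 5, 12, 8, 19, 21, 9, 22, 17, 3, 18, 20, 15, 10, 14, 4, 16, 6, 11, 2, 13, 7, 1, 23],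
  [0, 5, 13, 14, 9, 22, 3, 12, 2, 6, 17, 20, 19, 1, 10, 7, 21, 15, 8, 4, 16, 18, 11, 23],
  [0, 5, 17, 1, 19, 3, 7, 6, 15, 18, 8, 12, 11, 4, 2, 9, 22, 14, 20, 16, 10, 13, 21, 23],
  [0, 6, 13, 16, 18, 7, 21, 15, 10, 11, 22, 8, 3, 9, 5, 12, 14, 17, 1, 4, 19, 20, 2, 23],
  [0, 6, 17, 11, 16, 18, 12, 4, 19, 2, 22, 14, 20, 13, 21, 8, 5, 3, 10, 1, 15, 9, 7, 23],
  [0, 6, 17, 13, 18, 5, 10, 20, 1, 15, 8, 9, 12, 3, 16, 22, 21, 7, 4, 14, 2, 19, 11, 23],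
  [0, 7, 4, 6, 12, 22, 8, 5, 9, 17, 20, 10, 19, 11, 14, 2, 16, 3, 13, 15, 18, 1, 21, 23],
  [0, 7, 4, 21, 14, 12, 19, 13, 1, 18, 2, 15, 5, 6, 16, 20, 22, 11, 8, 9, 17, 10, 3, 23],
  [0, 7, 6, 14, 12, 3, 16, 17, 8, 21, 2, 20, 11, 10, 22, 19, 15, 4, 9, 13, 1, 5, 18, 23],
  [0, 7, 17, 16, 19, 13, 18, 4, 9, 11, 1, 15, 14, 3, 6, 10, 12, 5, 21, 20, 22, 2, 8, 23],
  [0, 7, 18, 14, 8, 5, 17, 4, 15, 3, 9, 10, 12, 21, 11, 1, 22, 19, 6, 2, 16, 20, 13, 23],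
  [0, 9, 16, 2, 21, 11, 7, 1, 5, 15, 12, 4, 14, 22, 19, 13, 10, 17, 20, 3, 8, 18, 6, 23],
  [0, 9, 22, 21, 11, 6, 19, 8, 20, 2, 12, 13, 17, 18, 10, 7, 4, 16, 3, 1, 5, 14, 15, 23],
  [0, 10, 2, 16, 21, 7, 1, 20, 5, 18, 19, 6, 4, 12, 8, 3, 13, 14, 11, 9, 22, 15, 17, 23],
  [0, 10, 7, 9, 21, 4, 12, 18, 14, 17, 11, 16, 2, 3, 19, 1, 5, 13, 8, 6, 22, 15, 20, 23],
  [0, 11, 14, 15, 22, 6, 7, 19, 13, 10, 3, 4, 17, 2, 16, 12, 21, 1, 8, 18, 9, 5, 20, 23],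
  [0, 11, 14, 20, 16, 22, 17, 8, 5, 9, 12, 18, 19, 15, 21, 3, 6, 2, 7, 13, 10, 4, 1, 23],
  [0, 11, 15, 16, 22, 1, 21, 10, 7, 20, 12, 3, 2, 4, 6, 17, 18, 14, 13, 8, 5, 19, 9, 23],
  [0, 13, 19, 16, 5, 21, 22, 11, 1, 10, 4, 17, 15, 2, 3, 9, 20, 14, 18, 6, 7, 12, 8, 23],
  [0, 14, 3, 1, 21, 17, 6, 7, 15, 12, 11, 18, 8, 16, 2, 9, 13, 5, 20, 4, 10, 22, 19, 23],
  [0, 14, 6, 7, 1, 3, 8, 5, 2, 19, 10, 13, 9, 16, 4, 17, 11, 22, 18, 12, 20, 21, 15, 23],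
  [0, 14, 8, 5, 7, 6, 9, 22, 4, 15, 20, 11, 17, 16, 12, 3, 10, 21, 13, 19, 18, 1, 2, 23],
  [0, 14, 9, 22, 5, 8, 17, 21, 12, 2, 18, 10, 3, 16, 19, 6, 20, 1, 11, 15, 13, 7, 4, 23],
  [0, 14, 10, 22, 1, 5, 12, 3, 17, 7, 16, 19, 20, 18, 15, 2, 4, 13, 6, 9, 8, 11, 21, 23],
  [0, 14, 11, 5, 21, 7, 4, 17, 9, 1, 16, 12, 10, 20, 19, 15, 2, 18, 3, 8, 6, 13, 22, 23],
  [0, 14, 13, 7, 22, 1, 2, 9, 8, 21, 16, 4, 11, 10, 12, 19, 15, 20, 17, 6, 3, 18, 5, 23],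
  [0, 14, 17, 21, 22, 9, 3, 1, 19, 4, 13, 20, 6, 16, 15, 8, 18, 7, 10, 2, 11, 5, 12, 23],
  [0, 14, 18, 1, 5, 21, 15, 8, 6, 22, 16, 2, 13, 11, 4, 12, 19, 10, 9, 3, 17, 20, 7, 23],
  [0, 14, 20, 21, 7, 22, 19, 6, 3, 5, 16, 15, 18, 13, 2, 4, 12, 11, 8, 17, 9, 10, 1, 23],
  [0, 15, 21, 17, 19, 9, 20, 6, 5, 22, 12, 18, 16, 11, 14, 3, 8, 7, 2, 13, 1, 4, 10, 23],
  [0, 16, 1, 5, 20, 10, 15, 11, 18, 22, 2, 9, 7, 21, 12, 13, 8, 19, 3, 14, 4, 6, 17, 23],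
  [0, 16, 2, 19, 20, 11, 14, 10, 13, 5, 21, 22, 4, 3, 17, 18, 12, 9, 1, 7, 15, 8, 6, 23],
  [0, 16, 3, 20, 11, 6, 17, 15, 1, 19, 21, 18, 9, 8, 12, 14, 22, 2, 7, 10, 13, 4, 5, 23],
  [0, 16, 4, 6, 5, 19, 22, 1, 10, 11, 21, 17, 3, 9, 18, 12, 14, 8, 15, 13, 7, 2, 20, 23],
  [0, 16, 7, 19, 11, 15, 13, 6, 14, 18, 3, 2, 10, 21, 22, 1, 4, 20, 8, 17, 9, 5, 12, 23],
  [0, 16, 9, 5, 19, 20, 18, 7, 15, 6, 21, 12, 8, 2, 14, 22, 17, 4, 13, 1, 10, 3, 11, 23],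
  [0, 16, 10, 20, 6, 13, 1, 5, 17, 14, 8, 3, 15, 21, 18, 7, 9, 11, 4, 12, 2, 19, 22, 23],
  [0, 16, 15, 11, 5, 1, 7, 19, 12, 17, 4, 8, 13, 21, 14, 10, 2, 6, 9, 22, 3, 20, 18, 23],
  [0, 16, 19, 4, 11, 18, 14, 13, 20, 1, 5, 7, 15, 9, 8, 10, 2, 6, 22, 21, 12, 3, 17, 23],
  [0, 17, 4, 19, 10, 5, 2, 18, 9, 13, 11, 6, 12, 16, 22, 8, 15, 21, 1, 20, 14, 7, 3, 23],
  [0, 18, 12, 16, 7, 22, 5, 13, 21, 11, 2, 9, 19, 15, 17, 8, 10, 14, 20, 3, 1, 4, 6, 23],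
  [0, 18, 14, 12, 7, 17, 21, 4, 20, 13, 9, 15, 8, 19, 16, 2, 5, 22, 3, 10, 6, 1, 11, 23],
  [0, 19, 2, 16, 15, 11, 13, 8, 21, 18, 3, 7, 1, 14, 9, 10, 4, 17, 6, 20, 22, 5, 12, 23],
  [0, 19, 7, 16, 17, 15, 21, 1, 13, 5, 14, 9, 4, 3, 20, 18, 12, 22, 10, 2, 11, 6, 8, 23],
  [0, 19, 8, 16, 13, 6, 1, 22, 12, 15, 10, 3, 17, 5, 4, 11, 20, 18, 7, 14, 21, 9, 2, 23],
  [0, 19, 10, 5, 17, 1, 11, 15, 18, 9, 7, 22, 2, 14, 12, 13, 6, 16, 3, 21, 4, 8, 20, 23],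
  [0, 19, 22, 5, 16, 17, 18, 2, 11, 8, 14, 12, 6, 7, 21, 9, 20, 4, 13, 10, 1, 3, 15, 23],
  [0, 19, 22, 7, 17, 20, 13, 6, 10, 1, 9, 3, 18, 4, 16, 14, 21, 15, 2, 12, 8, 11, 5, 23],
  [0, 20, 4, 16, 1, 5, 7, 18, 22, 13, 15, 8, 12, 19, 9, 6, 11, 14, 10, 17, 21, 2, 3, 23],
  [0, 20, 18, 10, 12, 11, 1, 5, 15, 7, 2, 8, 14, 9, 16, 17, 21, 13, 3, 22, 4, 6, 19, 23],
  [0, 20, 18, 19, 16, 12, 14, 3, 6, 4, 17, 22, 5, 10, 21, 2, 11, 9, 1, 15, 7, 8, 13, 23],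
  [0, 21, 6, 5, 2, 8, 22, 9, 4, 11, 17, 15, 20, 19, 12, 3, 1, 14, 13, 16, 18, 10, 7, 23],
  [0, 21, 8, 16, 4, 20, 10, 15, 6, 18, 22, 12, 14, 9, 17, 13, 2, 1, 5, 11, 7, 19, 3, 23],
  [0, 21, 10, 14, 3, 1, 8, 15, 12, 9, 6, 13, 2, 5, 18, 22, 7, 4, 17, 19, 16, 11, 20, 23],
  [0, 21, 15, 5, 14, 2, 4, 20, 22, 10, 19, 12, 1, 17, 16, 11, 7, 18, 3, 6, 8, 13, 9, 23],
  [0, 21, 15, 17, 2, 7, 3, 1, 6, 8, 11, 13, 4, 18, 14, 19, 16, 9, 20, 12, 10, 22, 5, 23],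
  [0, 21, 17, 14, 2, 9, 16, 8, 3, 5, 19, 11, 18, 13, 7, 4, 12, 15, 6, 20, 22, 1, 10, 23],
  [0, 21, 20, 14, 9, 22, 3, 10, 16, 4, 13, 17, 8, 19, 11, 6, 18, 2, 1, 7, 15, 5, 12, 23],
  [0, 22, 6, 16, 2, 10, 11, 19, 3, 20, 5, 4, 14, 8, 9, 18, 15, 21, 7, 13, 1, 12, 17, 23],
  [0, 22, 9, 14, 15, 8, 16, 6, 17, 7, 12, 13, 20, 18, 1, 2, 4, 19, 3, 10, 5, 21, 11, 23],
  [0, 22, 19, 7, 14, 15, 2, 10, 5, 11, 12, 4, 21, 9, 16, 13, 1, 20, 17, 3, 6, 18, 8, 23],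
  [0, 22, 19, 9, 15, 1, 17, 21, 3, 6, 13, 18, 2, 20, 14, 12, 16, 8, 10, 4, 11, 5, 7, 23]]

/-- elements fixing the octad, with the conjugates of `z` under them -/
def ts2 : List (List ℕ × List ℕ) := [([0, 1, 19, 4, 16, 20, 15, 17, 8, 6, 7, 22, 14, 5, 3, 21, 12, 11, 9, 13, 2, 18, 10, 23], [0, 1, 3, 2, 12, 14, 9, 7, 20, 6, 10, 11, 4, 15, 5, 13, 21, 17, 19, 18, 8, 16, 22, 23]),
  ([0, 22, 14, 6, 13, 4, 8, 1, 2, 18, 17, 11, 21, 15, 3, 16, 5, 7, 20, 19, 12, 9, 10, 23], [0, 1, 4, 12, 2, 6, 5, 7, 19, 14, 10, 11, 3, 16, 9, 21, 13, 17, 20, 8, 18, 15, 22, 23]),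
  ([0, 22, 16, 12, 6, 14, 15, 7, 3, 2, 1, 11, 8, 21, 18, 4, 9, 17, 5, 19, 13, 20, 10, 23], [0, 1, 5, 14, 6, 2, 4, 7, 21, 12, 10, 11, 9, 18, 3, 19, 20, 17, 13, 15, 16, 8, 22, 23]),
  ([0, 10, 14, 6, 8, 19, 9, 11, 21, 5, 22, 1, 18, 16, 20, 15, 2, 17, 4, 3, 13, 12, 7, 23], [0, 1, 6, 9, 5, 4, 2, 7, 15, 3, 10, 11, 14, 20, 12, 8, 18, 17, 16, 21, 13, 19, 22, 23]),
  ([0, 7, 4, 18, 16, 2, 13, 10, 8, 6, 22, 1, 5, 21, 20, 14, 12, 17, 15, 9, 3, 19, 11, 23], [0, 1, 8, 20, 19, 21, 15, 7, 2, 13, 10, 11, 18, 9, 16, 6, 14, 17, 12, 4, 3, 5, 22, 23]),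
  ([0, 22, 13, 5, 19, 15, 18, 7, 20, 2, 1, 17, 3, 6, 14, 16, 12, 10, 9, 21, 4, 8, 11, 23], [0, 1, 9, 6, 14, 12, 3, 7, 13, 2, 10, 11, 5, 8, 4, 20, 19, 17, 21, 16, 15, 18, 22, 23]),
  ([0, 17, 16, 12, 9, 18, 3, 10, 8, 13, 7, 1, 20, 19, 14, 5, 2, 22, 21, 4, 6, 15, 11, 23], [0, 1, 12, 4, 3, 9, 14, 7, 18, 5, 10, 11, 2, 21, 6, 16, 15, 17, 8, 20, 19, 13, 22, 23]),
  ([0, 17, 16, 18, 6, 14, 15, 10, 19, 8, 1, 11, 2, 13, 12, 20, 5, 22, 9, 3, 21, 4, 7, 23], [0, 1, 13, 15, 16, 18, 20, 7, 9, 8, 10, 11, 21, 2, 19, 3, 4, 17, 5, 14, 6, 12, 22, 23]),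
  ([0, 7, 12, 20, 16, 14, 18, 10, 2, 3, 17, 22, 9, 4, 13, 8, 21, 1, 5, 15, 19, 6, 11, 23], [0, 1, 14, 5, 9, 3, 12, 7, 16, 4, 10, 11, 6, 19, 2, 18, 8, 17, 15, 13, 21, 20, 22, 23]),
  ([0, 17, 16, 15, 9, 3, 18, 22, 13, 8, 1, 7, 5, 19, 4, 20, 2, 10, 6, 14, 21, 12, 11, 23], [0, 1, 15, 13, 21, 19, 8, 7, 6, 20, 10, 11, 16, 3, 18, 2, 12, 17, 14, 5, 9, 4, 22, 23]),
  ([0, 17, 21, 8, 9, 16, 6, 11, 2, 4, 22, 10, 12, 15, 20, 19, 14, 1, 13, 18, 5, 3, 7, 23], [0, 1, 16, 21, 13, 20, 18, 7, 14, 19, 10, 11, 15, 4, 8, 12, 2, 17, 6, 9, 5, 3, 22, 23]),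
  ([0, 10, 13, 18, 12, 20, 14, 22, 4, 3, 1, 7, 9, 21, 16, 8, 2, 11, 19, 15, 6, 5, 17, 23], [0, 1, 18, 19, 20, 13, 16, 7, 12, 21, 10, 11, 8, 5, 15, 14, 6, 17, 2, 3, 4, 9, 22, 23]),
  ([0, 22, 13, 3, 21, 9, 5, 10, 16, 19, 11, 1, 4, 8, 20, 6, 18, 17, 2, 15, 12, 14, 7, 23], [0, 1, 19, 18, 8, 15, 21, 7, 4, 16, 10, 11, 20, 14, 13, 5, 9, 17, 3, 2, 12, 6, 22, 23]),
  ([0, 10, 9, 5, 6, 8, 20, 1, 3, 19, 7, 11, 14, 21, 18, 13, 16, 17, 12, 2, 4, 15, 22, 23], [0, 1, 20, 8, 18, 16, 13, 7, 3, 15, 10, 11, 19, 6, 21, 9, 5, 17, 4, 12, 2, 14, 22, 23]),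
  ([0, 1, 2, 3, 4, 5, 6, 7, 8, 9, 10, 11, 12, 13, 14, 15, 16, 17, 18, 19, 20, 21, 22, 23], [0, 1, 21, 16, 15, 8, 19, 7, 5, 18, 10, 11, 13, 12, 20, 4, 3, 17, 9, 6, 14, 2, 22, 23])]

/-- elements centralizing `z` (with inverses), in distinct cosets of the normalizer -/
def ts3 : List (List ℕ × List ℕ) := [([0, 1, 2, 3, 4, 5, 6, 7, 8, 9, 10, 11, 12, 13, 14, 15, 16, 17, 18, 19, 20, 21, 22, 23], [0, 1, 2, 3, 4, 5, 6, 7, 8, 9, 10, 11, 12, 13, 14, 15, 16, 17, 18, 19, 20, 21, 22, 23]),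
  ([0, 17, 19, 3, 9, 8, 14, 10, 5, 15, 1, 22, 21, 2, 12, 18, 16, 7, 4, 20, 13, 6, 11, 23], [0, 10, 13, 3, 18, 8, 21, 17, 5, 4, 7, 22, 14, 20, 6, 9, 16, 1, 15, 2, 19, 12, 11, 23]),
  ([0, 22, 4, 21, 13, 19, 9, 11, 6, 20, 10, 7, 3, 16, 5, 12, 2, 17, 14, 18, 8, 15, 1, 23], [0, 22, 16, 12, 2, 14, 8, 11, 20, 6, 10, 7, 15, 4, 18, 21, 13, 17, 19, 5, 9, 3, 1, 23])]

/-- the fusion chain from `z` to the generators -/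
def steps : List (List ℕ × List ℕ × List ℕ) := [([0, 4, 20, 17, 10, 2, 9, 5, 6, 19, 1, 15, 13, 12, 18, 11, 22, 7, 21, 16, 3, 14, 8, 23], [0], [0, 1, 6, 18, 4, 5, 2, 7, 8, 16, 11, 10, 13, 12, 20, 15, 9, 22, 3, 21, 14, 19, 17, 23]),
  ([0, 17, 12, 22, 3, 16, 2, 10, 15, 1, 6, 20, 5, 8, 18, 4, 7, 14, 11, 13, 9, 21, 19, 23], [1], [0, 7, 12, 3, 4, 8, 20, 1, 5, 18, 10, 22, 2, 21, 19, 15, 16, 17, 9, 14, 6, 13, 11, 23]),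
  ([0, 9, 4, 22, 3, 18, 5, 16, 7, 6, 12, 13, 19, 2, 11, 1, 21, 15, 10, 20, 17, 14, 8, 23], [1], [0, 1, 19, 3, 5, 4, 21, 7, 15, 9, 22, 17, 13, 12, 20, 8, 16, 11, 18, 2, 14, 6, 10, 23]),
  ([0, 5, 9, 1, 17, 13, 20, 16, 6, 12, 22, 3, 15, 18, 21, 7, 10, 11, 19, 14, 2, 4, 8, 23], [2], [0, 1, 20, 8, 18, 16, 13, 7, 3, 15, 10, 11, 19, 6, 21, 9, 5, 17, 4, 12, 2, 14, 22, 23]),
  ([0, 22, 2, 5, 13, 9, 6, 17, 20, 19, 18, 14, 11, 1, 7, 3, 4, 12, 21, 15, 10, 8, 16, 23], [1, 0], [0, 1, 15, 13, 21, 19, 8, 7, 6, 20, 10, 11, 16, 3, 18, 2, 12, 17, 14, 5, 9, 4, 22, 23]),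
  ([0, 1, 2, 3, 4, 5, 6, 7, 8, 9, 10, 11, 12, 13, 14, 15, 16, 17, 18, 19, 20, 21, 22, 23], [5, 2, 5], [0, 7, 2, 4, 3, 18, 19, 1, 9, 8, 10, 22, 12, 13, 20, 16, 15, 17, 5, 6, 14, 21, 11, 23]),
  ([0, 1, 2, 3, 4, 5, 6, 7, 8, 9, 10, 11, 12, 13, 14, 15, 16, 17, 18, 19, 20, 21, 22, 23], [5, 0], [0, 1, 4, 12, 2, 6, 5, 7, 19, 14, 10, 11, 3, 16, 9, 21, 13, 17, 20, 8, 18, 15, 22, 23]),
  ([0, 1, 2, 3, 4, 5, 6, 7, 8, 9, 10, 11, 12, 13, 14, 15, 16, 17, 18, 19, 20, 21, 22, 23], [2, 5, 2, 0], [0, 1, 3, 2, 12, 14, 9, 7, 20, 6, 10, 11, 4, 15, 5, 13, 21, 17, 19, 18, 8, 16, 22, 23]),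
  ([0, 1, 2, 3, 4, 5, 6, 7, 8, 9, 10, 11, 12, 13, 14, 15, 16, 17, 18, 19, 20, 21, 22, 23], [3, 2, 3, 2], [0, 1, 6, 3, 15, 8, 2, 7, 5, 9, 17, 22, 20, 14, 13, 4, 16, 10, 18, 21, 12, 19, 11, 23]),
  ([0, 1, 2, 3, 4, 5, 6, 7, 8, 9, 10, 11, 12, 13, 14, 15, 16, 17, 18, 19, 20, 21, 22, 23], [5, 1, 5], [0, 1, 2, 16, 5, 4, 6, 7, 15, 18, 11, 10, 20, 14, 13, 8, 3, 22, 9, 19, 12, 21, 17, 23]),
  ([0, 1, 2, 3, 4, 5, 6, 7, 8, 9, 10, 11, 12, 13, 14, 15, 16, 17, 18, 19, 20, 21, 22, 23], [3, 1, 0], [0, 1, 2, 9, 8, 15, 6, 7, 4, 3, 17, 22, 13, 12, 20, 5, 18, 10, 16, 19, 14, 21, 11, 23])]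

theorem c1 : ys.all m22Tab = true := by decide +kernel
theorem c2 : closedOK ys = true := by decide +kernel
theorem c3 : distinctB ((pcList ys).map tcode) = true := by decide +kernel
theorem c4 : centerOK ys z = true := by decide +kernel
theorem c5 : fixOK z 12717187 = true := by decide +kernel
theorem c6 : ts1.all m22Tab = true := by decide +kernel
theorem c7 : masksOK 12717187 ts1 = true := by decide +kernel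
theorem c8 : ts2OK m22Tab z 12717187 ts2 = true := by decide +kernel
theorem c9 : ts3OK m22Tab ys z ts3 = true := by decide +kernel
theorem c10 : chainOK m22Tab ((pcList ys).map tcode) [z] steps = true := by decide +kernel
theorem c11 : ys.all (fun y => memB (tcode y) ((chainOut [z] steps).map tcode)) = true := by
  decide +kernel

/-- The 2-fusion system of the Mathieu group M₂₂ (as the explicit permutation group carved out of the automorphism group of the binary Golay code) on a Sylow 2-subgroup is simple: saturated, over a nontrivial 2-group, with no normal subsystem other than the trivial one and itself. -/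
theorem result (S : Sylow 2 Cfsg.Spor.M22) : (Cfsg.groupFusionSystem (S : Subgroup Cfsg.Spor.M22)).IsSimple 2 :=
  isSimple_of_cert Cfsg.Spor.M22 m22Tab m22Tab_spec ys z 12717187 ts1 ts2 ts3 steps 3465
    (by rw [card_M22]; decide) (by decide) (by decide) (by decide +kernel)
    c1 c2 c3 c4 c5 c6 c7 c8 c9 c10 c11 S

end Cfsg.Agent.S5168
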