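import Cfsg.Statements.S5186
import Cfsg.Agent.Lib.Helper42.EssP3

set_option autoImplicit false
universe u
open Cfsg

namespace Cfsg.Agent.S5186

/-- Let F be a saturated fusion system over a finite p-group S and H an essential subgroup of order p³. Then H is elementary abelian, or p is odd and H is extraspecial of exponent p, or p = 2 and H is the quaternion group of order 8. -/
theorem result {Ω : Type u} [Group Ω] {S : Subgroup Ω} [Finite S] (p : ℕ) [Fact p.Prime] (hS : IsPGroup p S)
    (F : Cfsg.FusionSystem S) (hF : F.IsSaturated p) (H : Subgroup Ω) (hH : F.IsEssential p H) (hcard : Nat.card H = p ^ 3) :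
    Cfsg.IsElementaryAbelian p H ∨ (Odd p ∧ Cfsg.IsExtraspecial p ↥H ∧ ∀ x ∈ H, x ^ p = 1) ∨
      (p = 2 ∧ Nonempty (↥H ≃* QuaternionGroup 2)) := by
  have hp : p.Prime := Fact.out
  have hHS : H ≤ S := hH.1.1
  have hfin : Finite H :=
    Finite.of_injective (Subgroup.inclusion hHS) (Subgroup.inclusion_injective hHS)
  have hHp : IsPGroup p H := hS.to_le hHS
  by_cases hab : ∀ a b : H, a * b = b * a
  · left
    have hA := Cfsg.Agent.Lib.Helper84.preduced_of_essential_abelian p F hH hab
    by_cases hrk : (frattini ↥H).index ≤ p ^ 2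
    · exfalso
      rcases Cfsg.Agent.Lib.Helper84.abelian_essential_structure hHp hab hA hrk with
        ⟨-, h2⟩ | ⟨-, k, ⟨e⟩⟩
      · rw [hcard] at h2
        exact absurd (Nat.pow_right_injective hp.two_le h2) (by norm_num)
      · have h1 : Nat.card H = p ^ k * p ^ k := by
          rw [Nat.card_congr e.toEquiv]
          show Nat.card (ZMod (p ^ k) × ZMod (p ^ k)) = _
          rw [Nat.card_prod, Nat.card_zmod]
        rw [hcard, ← pow_add] at h1
        have h2 := Nat.pow_right_injective hp.two_le h1
        omega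
    · push Not at hrk
      have hdvd : (frattini ↥H).index ∣ p ^ 3 := hcard ▸ Subgroup.index_dvd_card _
      obtain ⟨j, hj, hcj⟩ := (Nat.dvd_prime_pow hp).1 hdvd
      have hj3 : j = 3 := by
        by_contra hne
        have h1 : j ≤ 2 := by omega
        have h2 := Nat.pow_le_pow_right hp.pos h1
        rw [hcj] at hrk
        omega
      have hbot : frattini ↥H = ⊥ := by
        have h := Subgroup.card_mul_index (frattini ↥H)
        rw [hcj, hj3, hcard] at h
        have h1 : Nat.card (frattini ↥H) = 1 :=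
          Nat.eq_of_mul_eq_mul_right (pow_pos hp.pos 3) (by rw [one_mul]; exact h)
        exact Subgroup.card_eq_one.1 h1
      refine ⟨⟨⟨hab⟩⟩, fun a ha => ?_⟩
      have h1 := Cfsg.Agent.Lib.Helper87.pow_p_mem_frattini hHp (⟨a, ha⟩ : H)
      rw [hbot, Subgroup.mem_bot] at h1
      exact congrArg Subtype.val h1
  · have hex := Cfsg.Agent.Lib.Helper42.EssP3.extraspecial_of_p3 hcard hab
    rcases Cfsg.Agent.Lib.Helper42.EssP3.order_p3_cases hcard hab with
      ⟨K, hΦK, hKα, h1, h2⟩ | ⟨hodd, hexp⟩ | ⟨h2, hq⟩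
    · exact (Cfsg.Agent.Lib.Helper42.EssP3.essential_no_chain p hS F hH K hΦK
        (fun α _ => hKα α) h1 h2).elim
    · right; left
      exact ⟨hodd, hex, fun x hx => congrArg Subtype.val (hexp ⟨x, hx⟩)⟩
    · right; right
      exact ⟨h2, hq⟩

end Cfsg.Agent.S5186
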