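import Cfsg.Statements.S5188
import Cfsg.Agent.Lib.Helper42.EssP4b

set_option autoImplicit false
universe u
open Cfsg

namespace Cfsg.Agent.S5188

/-- Let F be a saturated fusion system over a finite p-group S and H an essential subgroup of order p⁴. Then H is isomorphic to one of: C_p⁴ or C_{p²} × C_p × C_p (any p); C_{p²} × C_{p²} with p ∈ {2, 3}; p^{1+2}_+ × C_p with p odd (the direct product of an extraspecial group of order p³ and exponent p with a group of order p); Q₈ × C₂ (p = 2); or the non-abelian group of order p⁴ of exponent p² whose centre is cyclic of order p² (the central product of an extraspecial group of order p³ with a cyclic group of order p²; for p = 2 this is D₈ ∘ C₄). -/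
theorem result {Ω : Type u} [Group Ω] {S : Subgroup Ω} [Finite S] (p : ℕ) [Fact p.Prime] (hS : IsPGroup p S)
    (F : Cfsg.FusionSystem S) (hF : F.IsSaturated p) (H : Subgroup Ω) (hH : F.IsEssential p H) (hcard : Nat.card H = p ^ 4) :
    Cfsg.IsElementaryAbelian p H ∨
      Nonempty (↥H ≃* Multiplicative (ZMod (p ^ 2) × ZMod p × ZMod p)) ∨
      ((p = 2 ∨ p = 3) ∧ Nonempty (↥H ≃* Multiplicative (ZMod (p ^ 2) × ZMod (p ^ 2)))) ∨
      (Odd p ∧ ∃ (E : Type) (_ : Group E) (_ : Finite E), Cfsg.IsExtraspecial p E ∧ Nat.card E = p ^ 3 ∧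
        (∀ x : E, x ^ p = 1) ∧ Nonempty (↥H ≃* E × Multiplicative (ZMod p))) ∨
      (p = 2 ∧ Nonempty (↥H ≃* QuaternionGroup 2 × Multiplicative (ZMod 2))) ∨
      (¬ IsMulCommutative ↥H ∧ (∀ x ∈ H, x ^ (p ^ 2) = 1) ∧ IsCyclic ↥(Subgroup.center ↥H) ∧
        Nat.card (Subgroup.center ↥H) = p ^ 2) := by
  have hp : p.Prime := Fact.out
  have hHS : H ≤ S := hH.1.1
  have hfin : Finite H :=
    Finite.of_injective (Subgroup.inclusion hHS) (Subgroup.inclusion_injective hHS)
  have hHp : IsPGroup p H := hS.to_le hHS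
  rcases Cfsg.Agent.Lib.Helper42.EssP4.p4_cases (H := ↥H) (p := p) hcard with
    ⟨hab, hrk⟩ | ⟨hab, hexp⟩ | h3 | ⟨K₁, K₂, hΦK, hK12, hK1, hK2, h1, h2, h3⟩ | h5 | h6 |
    ⟨hnc, hexp, hcyc, hZ⟩
  · -- abelian of rank at most two
    right; right; left
    have hA := Cfsg.Agent.Lib.Helper84.preduced_of_essential_abelian p F hH hab
    rcases Cfsg.Agent.Lib.Helper84.abelian_essential_structure hHp hab hA hrk with
      ⟨-, h2⟩ | ⟨hp3, k, ⟨e⟩⟩
    · exfalso
      rw [hcard] at h2
      exact absurd (Nat.pow_right_injective hp.two_le h2) (by norm_num)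
    · have h1 : Nat.card H = p ^ k * p ^ k := by
        rw [Nat.card_congr e.toEquiv]
        show Nat.card (ZMod (p ^ k) × ZMod (p ^ k)) = _
        rw [Nat.card_prod, Nat.card_zmod]
      rw [hcard, ← pow_add] at h1
      have h2 := Nat.pow_right_injective hp.two_le h1
      have hk : k = 2 := by omega
      subst hk
      refine ⟨?_, ⟨e⟩⟩
      have h2' := hp.two_le
      omega
  · left
    exact ⟨⟨⟨hab⟩⟩, fun a ha => congrArg Subtype.val (hexp ⟨a, ha⟩)⟩
  · right; left
    exact h3
  · exact (Cfsg.Agent.Lib.Helper42.EssP4.essential_no_chain3 p hS F hH K₁ K₂ hΦK hK12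
      (fun α _ => hK1 α) (fun α _ => hK2 α) h1 h2 h3).elim
  · right; right; right; left
    exact h5
  · right; right; right; right; left
    exact h6
  · right; right; right; right; right
    exact ⟨fun h => hnc (fun a b => h.is_comm.comm a b),
      fun x hx => congrArg Subtype.val (hexp ⟨x, hx⟩), hcyc, hZ⟩

end Cfsg.Agent.S5188
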