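import Cfsg.Statements.S5191

set_option autoImplicit false
open Cfsg

namespace Cfsg.Agent.S5191

/-- Sylow conjugacy inside an intermediate subgroup. -/
theorem sylow_conj_into {G : Type*} [Group G] [Finite G] {p : ℕ} [Fact p.Prime]
    (S : Sylow p G) (H : Subgroup G) (hSH : (S : Subgroup G) ≤ H) (Q : Subgroup G) (hQH : Q ≤ H)
    (hQ : IsPGroup p Q) : ∃ h ∈ H, ∀ x ∈ Q, h * x * h⁻¹ ∈ (S : Subgroup G) := by
  have hQ' : IsPGroup p (Q.subgroupOf H) := hQ.comap_subtype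
  obtain ⟨R, hR⟩ := hQ'.exists_le_sylow
  obtain ⟨h, hh⟩ := MulAction.exists_smul_eq H R (S.subtype hSH)
  refine ⟨h, h.2, fun x hx => ?_⟩
  have h1 : (⟨x, hQH hx⟩ : H) ∈ (R : Subgroup H) := hR (by simpa [Subgroup.mem_subgroupOf] using hx)
  have h2 : h * ⟨x, hQH hx⟩ * h⁻¹ ∈ ((h • R : Sylow p H) : Subgroup H) := by
    rw [Sylow.smul_def, Sylow.pointwise_smul_def]
    exact ⟨_, h1, rfl⟩
  rw [hh] at h2
  have h3 : ((h * ⟨x, hQH hx⟩ * h⁻¹ : H) : G) ∈ (S : Subgroup G) := by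
    simpa [Sylow.coe_subtype, Subgroup.mem_subgroupOf] using h2
  simpa using h3

/-- Fusion in a finite group G and in its quotient by O_{p'}(G) agree. Let S be a Sylow p-subgroup of G, N = O_{p'}(G) and P ≤ S. If an element of G/N conjugates the image of P into the image of S, then some element g of G conjugates P into S and induces the same map on P modulo N. (Together with the injectivity of S → G/N this says that g ↦ gN induces an isomorphism of the fusion system of G on S with that of G/N on SN/N.) -/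
theorem result {G : Type*} [Group G] [Finite G] {p : ℕ} [Fact p.Prime]
    [hN : (Cfsg.pPrimeCore p G).Normal] (S : Sylow p G) (P : Subgroup G) (hP : P ≤ (S : Subgroup G))
    (γ : G ⧸ Cfsg.pPrimeCore p G)
    (hγ : ∀ x ∈ P, γ * QuotientGroup.mk x * γ⁻¹ ∈ ((S : Subgroup G).map (QuotientGroup.mk' (Cfsg.pPrimeCore p G)))) :
    ∃ g : G, ∀ x ∈ P, g * x * g⁻¹ ∈ S ∧
      (QuotientGroup.mk (g * x * g⁻¹) : G ⧸ Cfsg.pPrimeCore p G) = γ * QuotientGroup.mk x * γ⁻¹ := by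
  obtain ⟨g₀, rfl⟩ := QuotientGroup.mk_surjective γ
  set N := Cfsg.pPrimeCore p G with hNdef
  -- the conjugate of P by g₀
  set Q : Subgroup G := P.map (MulAut.conj g₀).toMonoidHom with hQdef
  have hQp : IsPGroup p Q := (S.isPGroup'.to_le hP).map _
  have hQH : Q ≤ (S : Subgroup G) ⊔ N := by
    rintro _ ⟨x, hx, rfl⟩
    obtain ⟨s, hs, hs'⟩ := hγ x hx
    have h1 : s⁻¹ * (g₀ * x * g₀⁻¹) ∈ N := by
      rw [← QuotientGroup.eq]
      simpa using hs'
    have h2 : g₀ * x * g₀⁻¹ = s * (s⁻¹ * (g₀ * x * g₀⁻¹)) := by group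
    show g₀ * x * g₀⁻¹ ∈ _
    rw [h2]
    exact Subgroup.mul_mem_sup hs h1
  obtain ⟨h, hh, hconj⟩ := sylow_conj_into S _ le_sup_left Q hQH hQp
  -- write h = s * n
  rw [Subgroup.mem_sup_of_normal_right] at hh
  obtain ⟨s, hs, n, hn, rfl⟩ := hh
  refine ⟨n * g₀, fun x hx => ⟨?_, ?_⟩⟩
  · have h1 := hconj (g₀ * x * g₀⁻¹) ⟨x, hx, rfl⟩
    have h2 : n * g₀ * x * (n * g₀)⁻¹ = s⁻¹ * (s * n * (g₀ * x * g₀⁻¹) * (s * n)⁻¹) * s := by group
    rw [h2]
    exact Subgroup.mul_mem _ (Subgroup.mul_mem _ (Subgroup.inv_mem _ hs) h1) hs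
  · have hn1 : (QuotientGroup.mk n : G ⧸ Cfsg.pPrimeCore p G) = 1 :=
      (QuotientGroup.eq_one_iff n).mpr hn
    simp only [QuotientGroup.mk_mul, QuotientGroup.mk_inv, hn1, mul_inv_rev, inv_one, one_mul,
      mul_one]

end Cfsg.Agent.S5191
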