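import Mathlib
import Cfsg.Statements.S5192
import Cfsg.Agent.Lib.Helper88.BisetSat
import Cfsg.Agent.Lib.Helper88.BisetTransfer
import Cfsg.Agent.Lib.Helper88.BisetCount
import Cfsg.Agent.Lib.Helper88.BisetInv

set_option autoImplicit false
open Cfsg Cfsg.FusionSystem Cfsg.Agent.Lib.Helper88 MulAction

namespace Cfsg.Agent.S5192

universe u

/-- Every element of `S` has a conjugate in the system generating a fully normalized subgroup. -/
theorem exists_fn_conj {Ω : Type u} [Group Ω] [Finite Ω] {S : Subgroup Ω} (F : FusionSystem S)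
    {i : Ω} (hi : i ∈ S) :
    ∃ j₀ : Ω, F.IsConjElt i j₀ ∧ F.IsFullyNormalized (Subgroup.zpowers j₀) := by
  have hii : F.IsConjElt i i :=
    (isConjElt_iff F).2 ⟨fun x => x, mor_id F ((Subgroup.zpowers_le).2 hi), rfl⟩
  haveI : Nonempty {j : Ω // F.IsConjElt i j} := ⟨⟨i, hii⟩⟩
  obtain ⟨⟨j₀, hj₀⟩, hmax⟩ := Finite.exists_max
    (fun j : {j : Ω // F.IsConjElt i j} => Nat.card (normalizerIn S (Subgroup.zpowers j.1)))
  obtain ⟨f, hf, hfi⟩ := (isConjElt_iff F).1 hj₀
  have hj₀S : j₀ ∈ S := by rw [← hfi]; exact hf.mem_S (Subgroup.mem_zpowers i)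
  refine ⟨j₀, hj₀, (Subgroup.zpowers_le).2 hj₀S, fun Q hQ => ?_⟩
  obtain ⟨g, hg, hgQ⟩ := (isConj_iff F).1 hQ
  rw [hg.img_zpowers (Subgroup.mem_zpowers j₀)] at hgQ
  rw [← hgQ]
  have hc : F.IsConjElt i (g j₀) := by
    rw [← hfi]
    exact isConjElt_comp hf hg (by rw [hfi]; exact Subgroup.mem_zpowers j₀)
  exact hmax ⟨g j₀, hc⟩

theorem core {Ω : Type u} [Group Ω] [Finite Ω] {S : Subgroup Ω}
    (hS : IsPGroup 2 ↥S) (F : Cfsg.FusionSystem S) (hF : F.IsSaturated 2)
    (T : Subgroup Ω) (hT : T.relIndex S = 2)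
    (i : Ω) (hi : i ∈ S) (hi2 : orderOf i = 2)
    (h : ∀ j : Ω, F.IsConjElt i j → F.IsFullyNormalized (Subgroup.zpowers j) → j ∉ T) :
    i ∉ F.hyperfocalSubgroup 2 := by
  classical
  haveI : Fact (Nat.Prime 2) := ⟨Nat.prime_two⟩
  obtain ⟨X, iX, fX, hgen, hst, -, c, hc⟩ := exists_char_biset hS F hF
  have hm := card_rq_not_dvd hS F hF X hgen hst c hc
  have hfree : RightFree S X := genBy_rightFree hgen
  set T' : Subgroup S := T.subgroupOf S with hT'def
  have hT' : T'.index = 2 := hT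
  let ψ : S →* ℤˣ := sgnHom T' hT'
  let σ : RQ S X → X := fun y => Quotient.out y
  have hσ : ∀ y, rq S (σ y) = y := fun y => Quotient.out_eq y
  let τ : S →* ℤˣ := (transferHom σ hσ hfree ψ).comp (leftHom S X)
  have hτst : ∀ (P : Subgroup Ω) (hP : P ≤ S) (φ : P →* Ω) (_ : φ ∈ F.Hom P)
      (hφS : ∀ x : P, φ x ∈ S) (a : P), τ ⟨φ a, hφS a⟩ = τ ⟨a, hP a.2⟩ :=
    fun P hP φ hφ hφS a => transfer_stable F X hst (transferHom σ hσ hfree ψ) hP hφ hφS a
  -- the hyperfocal subgroup lies in the kernel of the transfer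
  have hhyp : F.hyperfocalSubgroup 2 ≤ (τ.ker).map S.subtype := by
    unfold FusionSystem.hyperfocalSubgroup
    rw [Subgroup.closure_le]
    rintro y ⟨P, α, x, hPS, -, rfl⟩
    obtain ⟨φ, hφ, hφf⟩ := (mem_autGroup_iff F hPS α.1).1 α.2
    have hφx : ∀ x : P, φ x = ((α.1 x : P) : Ω) := fun x => by rw [hφf x, extFun_apply]
    have hφS : ∀ x : P, φ x ∈ S := (F.le_of_mem hφ).2
    refine ⟨⟨x, hPS x.2⟩⁻¹ * ⟨φ x, hφS x⟩, ?_, ?_⟩
    · show τ (⟨x, hPS x.2⟩⁻¹ * ⟨φ x, hφS x⟩) = 1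
      rw [map_mul, map_inv, hτst P hPS φ hφ hφS x, inv_mul_cancel]
    · show (x : Ω)⁻¹ * φ x = _
      rw [hφx x]
  -- a fully normalized conjugate
  obtain ⟨j₀, hj₀c, hj₀fn⟩ := exists_fn_conj F hi
  obtain ⟨φ₀, hφ₀, hφ₀i⟩ := hj₀c
  have hφ₀S := (F.le_of_mem hφ₀).2
  have hj₀S : j₀ ∈ S := by rw [← hφ₀i]; exact hφ₀S _
  have hτij : τ ⟨j₀, hj₀S⟩ = τ ⟨i, hi⟩ := by
    have := hτst (Subgroup.zpowers i) ((Subgroup.zpowers_le).2 hi) φ₀ hφ₀ hφ₀S
      ⟨i, Subgroup.mem_zpowers i⟩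
    rw [show (⟨j₀, hj₀S⟩ : S) = ⟨φ₀ ⟨i, Subgroup.mem_zpowers i⟩, hφ₀S _⟩ from
      Subtype.ext hφ₀i.symm]
    exact this
  have hj₀2 : orderOf j₀ = 2 := by
    rw [← hφ₀i, orderOf_injective φ₀ (F.injective_of_mem hφ₀), ← hi2]
    exact (Subgroup.orderOf_coe (⟨i, Subgroup.mem_zpowers i⟩ : Subgroup.zpowers i)).symm
  set j : S := ⟨j₀, hj₀S⟩ with hjdef
  have hjj : j * j = 1 := by
    apply Subtype.ext
    show j₀ * j₀ = 1
    have := pow_orderOf_eq_one j₀
    rw [hj₀2, sq] at this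
    exact this
  have he : extFun φ₀ i = j₀ := by
    rw [← hφ₀i]; exact extFun_apply φ₀ ⟨i, Subgroup.mem_zpowers i⟩
  -- the group acting on the fixed right orbits
  set N' : Subgroup S := (normalizerIn S (Subgroup.zpowers j₀)).subgroupOf S with hN'
  have hN'comm : ∀ c : S, c ∈ N' → c * j = j * c := by
    intro c hc
    have hc' : (c : Ω) ∈ normalizerIn S (Subgroup.zpowers j₀) := Subgroup.mem_subgroupOf.1 hc
    apply Subtype.ext
    exact comm_of_mem_normalizer_zpowers hj₀2 (Subgroup.mem_inf.1 hc').2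
  let Zs : SubMulAction N' (RQ S X) :=
    { carrier := {y | j • y = y ∧ lab σ hσ j y ∈ T'}
      smul_mem' := by
        rintro ⟨c, hc⟩ y ⟨hy1, hy2⟩
        have hcj := hN'comm c hc
        refine ⟨?_, ?_⟩
        · show j • (c • y) = c • y
          rw [← mul_smul, ← hcj, mul_smul, hy1]
        · show lab σ hσ j (c • y) ∈ T'
          rw [lab_smul_of_comm σ hσ hfree hcj hy1]
          rw [← sgnHom_eq_one_iff hT'] at hy2 ⊢
          rw [map_mul, map_mul, map_inv, hy2, mul_one, inv_mul_cancel] }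
  have hfix : IsEmpty (fixedPoints N' Zs) := by
    constructor
    rintro ⟨⟨y, hy1, hy2⟩, hyfix⟩
    have hfixy : ∀ c : S, c ∈ N' → c • y = y := by
      intro c hc
      exact congrArg Subtype.val (hyfix ⟨c, hc⟩)
    obtain ⟨P, f, hf, hD⟩ := hgen (σ y)
    have hjP := (hD _).1 (mem_stab_of_fixed σ hσ hy1)
    have hjP1 : j₀ ∈ P := hjP.1
    have hjP2 : (((lab σ hσ j y)⁻¹ : S) : Ω) = f j₀ := hjP.2
    have hsT : f j₀ ∈ T := by
      rw [← hjP2]
      have : (lab σ hσ j y)⁻¹ ∈ T' := T'.inv_mem hy2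
      exact Subgroup.mem_subgroupOf.1 this
    have hNP : ∀ c : Ω, c ∈ normalizerIn S (Subgroup.zpowers j₀) → c ∈ P := by
      intro c hc
      have hcS : c ∈ S := (Subgroup.mem_inf.1 hc).1
      have hc' : (⟨c, hcS⟩ : S) ∈ N' := Subgroup.mem_subgroupOf.2 hc
      exact ((hD _).1 (mem_stab_of_fixed σ hσ (hfixy _ hc'))).1
    have hconj : F.IsConjElt i (f j₀) := by
      have h1 := isConjElt_comp (x := i) (mor_of_hom F hφ₀) hf (by rw [he]; exact hjP1)
      rw [he] at h1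
      exact h1
    have hres := hf.res ((Subgroup.zpowers_le).2 hjP1)
    have hfn : F.IsFullyNormalized (Subgroup.zpowers (f j₀)) := by
      refine ⟨(Subgroup.zpowers_le).2 (hf.mem_S hjP1), fun Q hQ => ?_⟩
      have hQ' : F.IsConj (Subgroup.zpowers j₀) Q := by
        obtain ⟨g, hg, hgQ⟩ := (isConj_iff F).1 hQ
        have hPQ : ∀ a ∈ Subgroup.zpowers j₀, f a ∈ Subgroup.zpowers (f j₀) := by
          intro a ha
          rw [← hf.img_zpowers hjP1]
          exact hres.apply_mem_img ha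
        refine (isConj_iff F).2 ⟨fun a => g (f a), hres.comp hg hPQ, ?_⟩
        rw [img_comp hres hg hPQ, hf.img_zpowers hjP1]
        exact hgQ
      refine le_trans (hj₀fn.2 Q hQ') ?_
      refine Nat.card_le_card_of_injective
        (fun c : normalizerIn S (Subgroup.zpowers j₀) =>
          (⟨f c.1, ?_⟩ : normalizerIn S (Subgroup.zpowers (f j₀)))) ?_
      · refine Subgroup.mem_inf.2 ⟨hf.mem_S (hNP c.1 c.2), mem_normalizer_zpowers_of_comm ?_⟩
        rw [← hf.map_mul (hNP c.1 c.2) hjP1, ← hf.map_mul hjP1 (hNP c.1 c.2),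
          comm_of_mem_normalizer_zpowers hj₀2 (Subgroup.mem_inf.1 c.2).2]
      · intro a b hab
        have : f a.1 = f b.1 := congrArg Subtype.val hab
        exact Subtype.ext (hf.inj (hNP a.1 a.2) (hNP b.1 b.2) this)
    exact h (f j₀) hconj hfn hsT
  have hcard := (hS.to_subgroup N').card_modEq_card_fixedPoints Zs
  have h0 : Nat.card (fixedPoints N' Zs) = 0 := Nat.card_of_isEmpty
  rw [h0] at hcard
  have hN0 : Nat.card Zs = ((Finset.univ.filter (fun y : RQ S X => j • y = y)).filter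
      (fun y => lab σ hσ j y ∈ T')).card :=
    Nat.subtype_card _ (fun y => by
      rw [Finset.mem_filter, Finset.mem_filter]
      exact ⟨fun h => ⟨h.1.2, h.2⟩, fun h => ⟨⟨Finset.mem_univ _, h.1⟩, h.2⟩⟩)
  have heven : Even ((Finset.univ.filter (fun y : RQ S X => j • y = y)).filter
      (fun y => lab σ hσ j y ∈ T')).card := by
    rw [← hN0]
    exact even_iff_two_dvd.2 (Nat.modEq_zero_iff_dvd.1 hcard)
  have hodd : Odd (Nat.card (RQ S X)) := Nat.odd_iff.2 (Nat.two_dvd_ne_zero.1 hm)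
  have hprod : ∏ y ∈ Finset.univ.filter (fun y : RQ S X => j • y = y),
      (ψ (lab σ hσ j y) * (-1 : ℤˣ))
      = (-1 : ℤˣ) ^ ((Finset.univ.filter (fun y : RQ S X => j • y = y)).filter
          (fun y => lab σ hσ j y ∈ T')).card := by
    have : ∀ y ∈ Finset.univ.filter (fun y : RQ S X => j • y = y),
        ψ (lab σ hσ j y) * (-1 : ℤˣ) = if lab σ hσ j y ∈ T' then (-1 : ℤˣ) else 1 := by
      intro y _
      by_cases hy : lab σ hσ j y ∈ T'
      · rw [if_pos hy]
        show sgnHom T' hT' (lab σ hσ j y) * (-1 : ℤˣ) = -1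
        rw [sgnHom_of_mem hT' hy, one_mul]
      · rw [if_neg hy]
        show sgnHom T' hT' (lab σ hσ j y) * (-1 : ℤˣ) = 1
        rw [sgnHom_of_not_mem hT' hy]
        decide
    rw [Finset.prod_congr rfl this, Finset.prod_ite, Finset.prod_const, Finset.prod_const_one,
      mul_one]
  have hmain := transfer_involution σ hσ hfree ψ hjj (-1 : ℤˣ) (by decide)
  rw [hprod, heven.neg_one_pow, hodd.neg_one_pow] at hmain
  have hτj : τ j = -1 := by
    have h1 : τ j * (-1 : ℤˣ) = 1 := hmain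
    have h2 := mul_eq_one_iff_eq_inv.1 h1
    rw [h2]
    decide
  intro hi_hyp
  obtain ⟨w, hw, hwi⟩ := hhyp hi_hyp
  have hwi' : w = ⟨i, hi⟩ := Subtype.ext hwi
  rw [hwi'] at hw
  have hτi : τ ⟨i, hi⟩ = 1 := hw
  rw [← hτij, hτj] at hτi
  exact absurd hτi (by decide)

/-- A Thompson-type transfer for saturated fusion systems. Let F be a saturated fusion system on a finite 2-group S, T a subgroup of S of index 2, and i an involution of S such that every fully normalized F-conjugate of i lies in S but outside T. Then i does not lie in the hyperfocal subgroup of F (the Sylow group of the 2-residual subsystem). -/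
theorem result {Ω : Type*} [Group Ω] [Finite Ω] {S : Subgroup Ω}
    (hS : IsPGroup 2 ↥S) (F : Cfsg.FusionSystem S) (hF : F.IsSaturated 2)
    (T : Subgroup Ω) (hTS : T ≤ S) (hT : T.relIndex S = 2)
    (i : Ω) (hi : i ∈ S) (hi2 : orderOf i = 2)
    (h : ∀ j : Ω, F.IsConjElt i j → F.IsFullyNormalized (Subgroup.zpowers j) → j ∉ T) :
    i ∉ F.hyperfocalSubgroup 2 :=
  core hS F hF T hT i hi hi2 h

end Cfsg.Agent.S5192
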