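import Cfsg.Statements.S5212
import Cfsg.Agent.Lib.Helper42.Meta2Fusion
import Cfsg.Agent.Lib.Helper85.FusionBasic
import Cfsg.Agent.Lib.Helper88.FusPAut

set_option autoImplicit false
open Cfsg

namespace Cfsg.Agent.S5212

/-- the product of two copies of a group as functions on `Fin 2` -/
def prodEquiv (A : Type*) [AddGroup A] :
    Multiplicative A × Multiplicative A ≃* Multiplicative (Fin 2 → A) where
  toFun z := Multiplicative.ofAdd ![Multiplicative.toAdd z.1, Multiplicative.toAdd z.2]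
  invFun f := (Multiplicative.ofAdd (Multiplicative.toAdd f 0),
    Multiplicative.ofAdd (Multiplicative.toAdd f 1))
  left_inv z := rfl
  right_inv f := by
    show Multiplicative.ofAdd ![Multiplicative.toAdd f 0, Multiplicative.toAdd f 1] = f
    have h : ![Multiplicative.toAdd f 0, Multiplicative.toAdd f 1] = Multiplicative.toAdd f := by
      funext i
      fin_cases i <;> rfl
    rw [h]
    rfl
  map_mul' a b := by
    show Multiplicative.ofAdd _ = Multiplicative.ofAdd (_ + _)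
    congr 1
    funext i
    fin_cases i <;> rfl

/-- when `S` is normal in `F`, every map of `F` is the restriction of an `F`-automorphism of
`S` -/
theorem exists_aut_top {Ω : Type*} [Group Ω] {S : Subgroup Ω} [Finite S] (F : Cfsg.FusionSystem S)
    (hn : F.IsNormal S) {P : Subgroup Ω} {φ : P →* Ω} (hφ : φ ∈ F.Hom P) :
    ∃ α ∈ F.autGroup S, ∀ (x : P) (hx : (x : Ω) ∈ S), φ x = ((α ⟨x, hx⟩ : S) : Ω) := by
  obtain ⟨ψ, hψ, hext, -⟩ := hn.2 P φ hφ
  have hψ' := Cfsg.Agent.Lib.Helper85.restrict_mem F (le_sup_right : S ≤ P ⊔ S) hψ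
  have hinj := F.injective_of_mem hψ'
  have hS' := (F.le_of_mem hψ').2
  let f : S →* S := (ψ.comp (Subgroup.inclusion (le_sup_right : S ≤ P ⊔ S))).codRestrict S hS'
  have hfinj : Function.Injective f := fun a b hab => hinj (congrArg Subtype.val hab)
  have hfbij : Function.Bijective f := Finite.injective_iff_bijective.1 hfinj
  let α : MulAut S := MulEquiv.ofBijective f hfbij
  refine ⟨α, (Cfsg.Agent.Lib.Helper87.mem_autGroup_iff F le_rfl α).2 ?_, fun x hx => ?_⟩
  · have e : S.subtype.comp α.toMonoidHom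
        = ψ.comp (Subgroup.inclusion (le_sup_right : S ≤ P ⊔ S)) := by
      ext y; rfl
    rw [e]; exact hψ'
  · rw [← hext x]; rfl

/-- Let S be a finite metacyclic 2-group that is not homocyclic abelian (a direct product of cyclic groups of one common order), not dihedral, not semidihedral and not generalized quaternion. Then every saturated fusion system over S is the inner fusion system of S. -/
theorem result {Ω : Type*} [Group Ω] {S : Subgroup Ω} [Finite S] (hS : IsPGroup 2 S) (F : Cfsg.FusionSystem S) (hF : F.IsSaturated 2) (hm : Cfsg.IsMetacyclic ↥S) (hh : ¬ ∃ n k : ℕ, Nonempty (↥S ≃* Multiplicative (Fin k → ZMod (2 ^ n)))) (hd : ¬ ∃ m : ℕ, Nonempty (↥S ≃* DihedralGroup m)) (hq : ¬ ∃ m : ℕ, Nonempty (↥S ≃* QuaternionGroup m)) (hsd : ¬ Cfsg.IsQuasiDihedral ↥S) : ∀ P : Subgroup Ω, F.Hom P = (Cfsg.innerFusionSystem S).Hom P := by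
  haveI : Fact (Nat.Prime 2) := ⟨Nat.prime_two⟩
  have hsc : F.StronglyClosed S := ⟨le_rfl, fun R hR φ hφ x => (F.le_of_mem hφ).2 x⟩
  have hn : F.IsNormal S :=
    Cfsg.Agent.Lib.Helper42.Meta2F.normal_of_metacyclic hS F hF S hsc hm hd hq hsd
  have hA : IsPGroup 2 (MulAut ↥S) := by
    by_contra hA
    rcases Cfsg.Agent.S1896.result hS hm hA with ⟨⟨e⟩⟩ | ⟨n, ⟨e⟩⟩
    · exact hq ⟨2, ⟨e⟩⟩
    · exact hh ⟨n, 2, ⟨e.trans (prodEquiv (ZMod (2 ^ n)))⟩⟩
  have hAF : IsPGroup 2 (F.autGroup S) := hA.to_subgroup _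
  have hle : F.autGroup S ≤ (Cfsg.innerFusionSystem S).autGroup S :=
    Cfsg.Agent.Lib.Helper88.autGroup_le_inner_of_isPGroup hS F hF
      (Cfsg.Agent.Lib.Helper88.top_fullyNormalized F) hAF
  intro P
  apply Set.Subset.antisymm
  · intro φ hφ
    have hP : P ≤ S := (F.le_of_mem hφ).1
    obtain ⟨α, hα, hαx⟩ := exists_aut_top F hn hφ
    obtain ⟨-, g, hg, hgx⟩ :=
      (Cfsg.Agent.Lib.Helper87.mem_autGroup_iff (Cfsg.innerFusionSystem S) le_rfl α).1 (hle hα)
    refine ⟨hP, g, hg, fun x => ?_⟩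
    rw [hαx x (hP x.2)]
    exact hgx ⟨x, hP x.2⟩
  · exact Cfsg.Agent.Lib.Helper88.inner_le F P

end Cfsg.Agent.S5212
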