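import Cfsg.Statements.S5249
-- import your own Cfsg.Agent.* helpers here
import Mathlib
import Cfsg.Agent.Lib.Helper38.QdSolv

set_option autoImplicit false
open Cfsg

namespace Cfsg.Agent.S5249

/-- Let p be an odd prime, G a finite group in which Qd(p) (the natural semidirect product of an elementary abelian group of order p² by SL₂(p)) is not involved, and P a Sylow p-subgroup of G. Then the fusion system of G on P is a solvable fusion system. -/
theorem result {G : Type*} [Group G] [Finite G] {p : ℕ} [Fact p.Prime] (hp : p ≠ 2) (hqd : ¬ Cfsg.Involves ↥(Cfsg.qd p) G) (P : Sylow p G) : (Cfsg.groupFusionSystem (P : Subgroup G)).IsSolvableSystem := by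
  intro R hsc hne hn E hE
  have hRP : R ≤ (P : Subgroup G) := hsc.1
  have hnP : (P : Subgroup G) ≤ Subgroup.normalizer (R : Set G) :=
    (Subgroup.normal_subgroupOf_iff_le_normalizer hRP).1 hn
  obtain ⟨W, hRW, hWP, hWne, hW⟩ :=
    Cfsg.Agent.Lib.Helper38.QdSolv.exists_W hp hqd P R hRP hne hnP
  refine Cfsg.Agent.Lib.Helper38.QdSolv.core_ne_bot_of_lift (P : Subgroup G) R W hsc hRW hWP hWne
    (fun A hRA hAP g hgA => ?_) E hE
  have hg : g ∈ Subgroup.normalizer (R : Set G) := by
    apply Cfsg.Agent.Lib.Helper84.mem_normalizer_of_finite_of_conj_mem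
    intro x hx
    exact hsc.2 R le_rfl (Cfsg.conjHom R g)
      ⟨hRP, fun y => hgA y (hRA y.2), g, fun y => rfl⟩ ⟨x, hx⟩
  exact hW (A : Set G) hAP g hg hgA

end Cfsg.Agent.S5249
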