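import Cfsg.Statements.S5270
-- import your own Cfsg.Agent.* helpers here
import Cfsg.Agent.Lib.Helper85.MaxClsFus

set_option autoImplicit false
open Cfsg

namespace Cfsg.Agent.S5270

/-- Let p ≥ 5 be a prime, S a finite p-group of maximal class of order p^n with n ≥ 4, and F a saturated fusion system over S. If some map of F defined on the second centre Z₂(S) with image Z₂(S) does not carry Z(S) into itself, then the centralizer C_S(Z₂(S)) is an F-essential subgroup. -/
theorem result {Ω : Type*} [Group Ω] {S : Subgroup Ω} [Finite S] (p : ℕ) [Fact p.Prime] (hS : IsPGroup p ↥S) (n : ℕ) (hn : Nat.card S = p ^ n) (h4 : 4 ≤ n) (hmax : Subgroup.lowerCentralSeries S (n - 2) ≠ ⊥) (F : Cfsg.FusionSystem S) (hF : F.IsSaturated p) (hp : 5 ≤ p) (φ : ↥((Subgroup.upperCentralSeries ↥S 2).map S.subtype) →* Ω) (hφ : φ ∈ F.Hom ((Subgroup.upperCentralSeries ↥S 2).map S.subtype)) (hφZ : φ.range = ((Subgroup.upperCentralSeries ↥S 2).map S.subtype)) (hmove : ∃ (z : Ω) (hz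 : z ∈ ((Subgroup.upperCentralSeries ↥S 2).map S.subtype)), z ∈ ((Subgroup.center ↥S).map S.subtype) ∧ φ ⟨z, hz⟩ ∉ ((Subgroup.center ↥S).map S.subtype)) : F.IsEssential p (S ⊓ Subgroup.centralizer (((Subgroup.upperCentralSeries ↥S 2).map S.subtype) : Set Ω)) := by
  classical
  have hpr : p.Prime := Fact.out
  have hc := Cfsg.Agent.Lib.Helper85.MaxCls.class_eq_of_lcs n hn (by omega) hmax
  have hcZ := Cfsg.Agent.Lib.Helper85.MaxCls.card_center n (by omega) hn hc
  have hcZ2 := Cfsg.Agent.Lib.Helper85.MaxCls.card_ucs_two n h4 hn hc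
  have hidx := Cfsg.Agent.Lib.Helper85.MaxCls.card_centralizer_ucs_two n h4 hn hc
  have hZ2n : ∀ s ∈ S, ∀ x ∈ (Subgroup.upperCentralSeries ↥S 2).map S.subtype,
      s * x * s⁻¹ ∈ (Subgroup.upperCentralSeries ↥S 2).map S.subtype := by
    rintro s hs _ ⟨y, hy, rfl⟩
    have hnorm : (Subgroup.upperCentralSeries ↥S 2).Normal := inferInstance
    exact ⟨(⟨s, hs⟩ : S) * y * (⟨s, hs⟩ : S)⁻¹, hnorm.conj_mem y hy ⟨s, hs⟩, rfl⟩
  have hZ2comm : ∀ x ∈ (Subgroup.upperCentralSeries ↥S 2).map S.subtype,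
      ∀ y ∈ (Subgroup.upperCentralSeries ↥S 2).map S.subtype, x * y = y * x := by
    have hmc : IsMulCommutative ↥(Subgroup.upperCentralSeries ↥S 2) :=
      IsPGroup.isMulCommutative_of_card_eq_prime_sq hcZ2
    rintro _ ⟨a, ha, rfl⟩ _ ⟨b, hb, rfl⟩
    have h1 := hmc.is_comm.comm (⟨a, ha⟩ : Subgroup.upperCentralSeries ↥S 2) ⟨b, hb⟩
    have h2 : a * b = b * a := congrArg Subtype.val h1
    exact congrArg Subtype.val h2
  have hcardZS : Nat.card ((Subgroup.center ↥S).map S.subtype) = p := by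
    rw [Subgroup.card_map_of_injective S.subtype_injective]
    exact hcZ
  have hmapC : (Subgroup.centralizer
      ((Subgroup.upperCentralSeries ↥S 2 : Subgroup ↥S) : Set ↥S)).map S.subtype =
      S ⊓ Subgroup.centralizer (((Subgroup.upperCentralSeries ↥S 2).map S.subtype : Subgroup Ω) : Set Ω) := by
    ext c
    constructor
    · rintro ⟨c', hc', rfl⟩
      refine ⟨c'.2, ?_⟩
      refine Subgroup.mem_centralizer_iff.2 ?_
      rintro _ ⟨y, hy, rfl⟩
      have h1 := Subgroup.mem_centralizer_iff.1 hc' y hy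
      exact congrArg Subtype.val h1
    · rintro ⟨hcS, hcc⟩
      refine ⟨⟨c, hcS⟩, ?_, rfl⟩
      refine Subgroup.mem_centralizer_iff.2 ?_
      intro y hy
      apply Subtype.ext
      exact Subgroup.mem_centralizer_iff.1 hcc (y : Ω) ⟨y, hy, rfl⟩
  have hidx' : Nat.card S = p * Nat.card (S ⊓ Subgroup.centralizer
      (((Subgroup.upperCentralSeries ↥S 2).map S.subtype : Subgroup Ω) : Set Ω) : Subgroup Ω) := by
    rw [← hmapC, Subgroup.card_map_of_injective S.subtype_injective]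
    exact hidx
  exact Cfsg.Agent.Lib.Helper85.MaxCls.essential_aux p hS F hF _ _
    (fun w => Cfsg.Agent.Lib.Helper53.mem_map_center_iff)
    (Subgroup.map_mono Cfsg.Agent.Lib.Helper85.MaxCls.center_le_ucs_two)
    (Subgroup.map_subtype_le _) hZ2n hZ2comm hcardZS hidx' φ hφ hφZ hmove

end Cfsg.Agent.S5270
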