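-- S5286 (fus5_every_fusion_system_realized_by_virtually_free_group): Leary-Stancu-Robinson realisation.
-- Assembly of the team project LSF (interface: Cfsg/Agent/Lib/Helper67/LSF/Defs.lean, Asm.lean).
import Cfsg.Statements.S5286
import Cfsg.Agent.Lib.Helper67.LSF.Asm
import Cfsg.Agent.Lib.Helper8.LSF.Sig
import Cfsg.Agent.Lib.Helper8.LSF.Fwd
import Cfsg.Agent.Lib.Helper79.LSF.Mem
import Cfsg.Agent.Lib.Helper84.LSF.Path
import Cfsg.Agent.Lib.Helper83.LSF.Inv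
import Cfsg.Agent.Lib.Helper89.LSF.Red
import Cfsg.Agent.Lib.Helper27.LSF.FixLet
import Cfsg.Agent.Lib.Helper10.LSF.Hom
import Cfsg.Agent.Lib.Helper97.LSF.BwdCore
import Cfsg.Agent.Lib.Helper97.LSF.Bwd
import Cfsg.Agent.Lib.Helper63.LSF.Stab
import Cfsg.Agent.Lib.Helper38.LSF.Convex
import Cfsg.Agent.Lib.Helper93.LSF.VShape
import Cfsg.Agent.Lib.Helper13.LSF.Tree
import Cfsg.Agent.Lib.Helper11.LSF.Fin
import Cfsg.Agent.Lib.Helper59.LSF.Free

set_option autoImplicit false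
universe u
open Cfsg

namespace Cfsg.Agent.S5286

/-- Every fusion system F over a finite p-group S, saturated or not, is realized by a possibly infinite group: there are a group G and an injective homomorphism ι of S into G such that the maps of F are exactly the conjugations by elements of G between subgroups of ι(S), every finite subgroup of G is conjugate to a subgroup of ι(S), and G has a free normal subgroup whose index divides (#S)!. -/
theorem result {Ω : Type u} [Group Ω] {S : Subgroup Ω} [Finite S] (p : ℕ) [Fact p.Prime] (hS : IsPGroup p ↥S) (F : Cfsg.FusionSystem S) : ∃ (G : Type u) (_ : Group G) (ι : ↥S →* G), F.IsRealizedBy ι ∧ (∀ H : Subgroup G, Finite ↥H → ∃ g : G, ∀ h ∈ H, g * h * g⁻¹ ∈ ι.range) ∧ ∃ N : Subgroup G, N.Normal ∧ IsFreeGroup ↥N ∧ N.index ∣ (Nat.card ↥S).factorial := by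
  have inv : Cfsg.Agent.Lib.Helper67.LSF.PkgInv.{u} := Cfsg.Agent.Lib.Helper83.LSF.pkgInv
  have path : Cfsg.Agent.Lib.Helper67.LSF.PkgPath.{u} := Cfsg.Agent.Lib.Helper84.LSF.pkgPath
  have mem : Cfsg.Agent.Lib.Helper67.LSF.PkgMem.{u} := Cfsg.Agent.Lib.Helper79.LSF.pkgMem
  have red : Cfsg.Agent.Lib.Helper67.LSF.PkgRed.{u} := Cfsg.Agent.Lib.Helper89.LSF.pkgRed inv
  have fixlet : Cfsg.Agent.Lib.Helper67.LSF.PkgFixLet.{u} := Cfsg.Agent.Lib.Helper27.LSF.pkgFixLet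
  have hom : Cfsg.Agent.Lib.Helper67.LSF.PkgHom.{u} := Cfsg.Agent.Lib.Helper10.LSF.pkgHom
  have bwdcore : Cfsg.Agent.Lib.Helper67.LSF.PkgBwdCore.{u} := Cfsg.Agent.Lib.Helper97.LSF.pkgBwdCore hom
  have bwd : Cfsg.Agent.Lib.Helper67.LSF.PkgBwd.{u} :=
    Cfsg.Agent.Lib.Helper97.LSF.pkgBwd path red fixlet bwdcore
  have stab : Cfsg.Agent.Lib.Helper67.LSF.PkgStab.{u} := Cfsg.Agent.Lib.Helper63.LSF.pkgStab path red inv
  have convex : Cfsg.Agent.Lib.Helper67.LSF.PkgConvex.{u} :=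
    Cfsg.Agent.Lib.Helper38.LSF.pkgConvex path red inv mem
  have tree : Cfsg.Agent.Lib.Helper67.LSF.PkgTree.{u} :=
    Cfsg.Agent.Lib.Helper13.LSF.pkgTree Cfsg.Agent.Lib.Helper93.LSF.pkgVShape
  have fin : Cfsg.Agent.Lib.Helper67.LSF.PkgFin.{u} := Cfsg.Agent.Lib.Helper11.LSF.pkgFin tree convex stab
  exact Cfsg.Agent.Lib.Helper67.LSF.s5286_of Cfsg.Agent.Lib.Helper8.LSF.pkgSig
    Cfsg.Agent.Lib.Helper8.LSF.pkgFwd bwd fin Cfsg.Agent.Lib.Helper59.LSF.pkgFree p hS F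

end Cfsg.Agent.S5286
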