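import Cfsg.Statements.S5295
-- import your own Cfsg.Agent.* helpers here
import Cfsg.Agent.Lib.Helper85.CenterFactor
import Cfsg.Agent.S5193
import Cfsg.Agent.Lib.Helper87.ThJ
import Cfsg.Agent.Lib.Helper84.NormalizerSys

set_option autoImplicit false
universe u
open Cfsg

namespace Cfsg.Agent.S5295

/-- Let F be a saturated fusion system over a finite p-group S with p odd. Then the centre Z(F) of F is a direct factor of Z(S): there is a subgroup K of Z(S) with Z(F) ∩ K = 1 and Z(F)K = Z(S). (At the prime 2 this can fail.) -/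
theorem result {Ω : Type u} [Group Ω] {S : Subgroup Ω} [Finite S] (p : ℕ) [Fact p.Prime] (hp : p ≠ 2) (hS : IsPGroup p S)
    (F : Cfsg.FusionSystem S) (hF : F.IsSaturated p) :
    ∃ K : Subgroup Ω, K ≤ (S ⊓ Subgroup.centralizer (S : Set Ω)) ∧ F.center ⊓ K = ⊥ ∧ F.center ⊔ K = (S ⊓ Subgroup.centralizer (S : Set Ω)) := by
  have hJS : thompsonSubgroupAOf S ≤ S := Cfsg.Agent.Lib.Helper87.thompson_le_self S
  have hSnJ : S ≤ Subgroup.normalizer ((thompsonSubgroupAOf S) : Set Ω) :=
    Subgroup.le_normalizer.trans (Cfsg.Agent.Lib.Helper87.normalizer_le_normalizer_thompson S)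
  have hNJ : Cfsg.FusionSystem.normalizerIn S (thompsonSubgroupAOf S) = S :=
    le_antisymm inf_le_left (le_inf le_rfl hSnJ)
  haveI hfinNJ : Finite (Cfsg.FusionSystem.normalizerIn S (thompsonSubgroupAOf S)) :=
    Finite.of_injective _ (Subgroup.inclusion_injective (inf_le_left : Cfsg.FusionSystem.normalizerIn S (thompsonSubgroupAOf S) ≤ S))
  have hJfn : F.IsFullyNormalized (thompsonSubgroupAOf S) := by
    refine ⟨hJS, fun Q _ => ?_⟩
    rw [hNJ]
    exact Subgroup.card_le_of_le inf_le_left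
  obtain ⟨N, hN⟩ : ∃ N : Cfsg.FusionSystem (Cfsg.FusionSystem.normalizerIn S (thompsonSubgroupAOf S)),
      F.IsNormalizerSystem (thompsonSubgroupAOf S) N :=
    ⟨_, Cfsg.Agent.Lib.Helper87.isNormalizerSystem_normSystem F _ hJS⟩
  have hNsat : N.IsSaturated p :=
    Cfsg.Agent.Lib.Helper84.normalizerSystem_saturated p hS F hF _ hJfn N hN
  have hNn : N.IsNormal (thompsonSubgroupAOf S) :=
    Cfsg.Agent.Lib.Helper84.normalizerSystem_isNormal F hJS N hN
  have hcenter : N.center = F.center := (Cfsg.Agent.S5193.result p hS F hF N hN).2 (Or.inl hp)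
  have hZJ : Cfsg.FusionSystem.normalizerIn S (thompsonSubgroupAOf S) ⊓
      Subgroup.centralizer ((Cfsg.FusionSystem.normalizerIn S (thompsonSubgroupAOf S) : Subgroup Ω) : Set Ω)
        ≤ thompsonSubgroupAOf S := by
    rintro c ⟨hc1, hc2⟩
    apply Cfsg.Agent.Lib.Helper87.centralizer_thompson_le
      ((inf_le_left : Cfsg.FusionSystem.normalizerIn S (thompsonSubgroupAOf S) ≤ S) hc1)
    intro j hj
    exact (Subgroup.mem_centralizer_iff.mp hc2) j ⟨hJS hj, Subgroup.le_normalizer hj⟩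
  obtain ⟨K, hK1, hK2, hK3⟩ :=
    Cfsg.Agent.Lib.Helper85.CenterFactor.center_direct_factor_of_normal
      (S := Cfsg.FusionSystem.normalizerIn S (thompsonSubgroupAOf S))
      (hS.to_le (inf_le_left : Cfsg.FusionSystem.normalizerIn S (thompsonSubgroupAOf S) ≤ S)) hNsat hNn hZJ
  rw [hcenter] at hK2 hK3
  rw [hNJ] at hK1 hK3
  exact ⟨K, hK1, hK2, hK3⟩

end Cfsg.Agent.S5295
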