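import Mathlib
import Cfsg.Statements.S5299

set_option autoImplicit false
universe u
open Cfsg

namespace Cfsg.Agent.S5299

universe v w

/-- A span `A → G` injective, `A → H` surjective shows `H` is involved in `G`. -/
theorem involves_of_span {H : Type u} [Group H] {G : Type v} [Group G] {A : Type w} [Group A]
    (i : A →* G) (hi : Function.Injective i) (f : A →* H) (hf : Function.Surjective f) :
    Cfsg.Involves H G := by
  let e : A ≃* i.range := MonoidHom.ofInjective hi
  let f' : i.range →* H := f.comp e.symm.toMonoidHom
  have hf' : Function.Surjective f' := hf.comp e.symm.surjective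
  have hker : (f'.ker.map i.range.subtype).subgroupOf i.range = f'.ker :=
    Subgroup.comap_map_eq_self_of_injective (Subgroup.subtype_injective _) _
  have hn : ((f'.ker.map i.range.subtype).subgroupOf i.range).Normal := by
    rw [hker]; infer_instance
  refine ⟨i.range, f'.ker.map i.range.subtype, hn, ⟨?_⟩⟩
  exact (QuotientGroup.quotientMulEquivOfEq hker).trans
    (QuotientGroup.quotientKerEquivOfSurjective f' hf')

theorem span_of_involves {H : Type u} [Group H] {G : Type v} [Group G] (h : Cfsg.Involves H G) :
    ∃ (K : Subgroup G) (f : K →* H), Function.Surjective f := by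
  obtain ⟨K, R, hn, ⟨e⟩⟩ := h
  exact ⟨K, e.toMonoidHom.comp (QuotientGroup.mk' (R.subgroupOf K)),
    e.surjective.comp (QuotientGroup.mk'_surjective _)⟩

/-- A Sylow subgroup maps onto any `p`-group quotient. -/
theorem sylow_surj {A : Type u} {B : Type v} [Group A] [Group B] [Finite A] (p : ℕ) [Fact p.Prime]
    (f : A →* B) (hf : Function.Surjective f) (hB : IsPGroup p B) (P : Sylow p A) :
    Function.Surjective (f.comp (P : Subgroup A).subtype) := by
  have : Finite B := Finite.of_surjective f hf
  have hidx : ((P : Subgroup A).map f).index ∣ (P : Subgroup A).index :=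
    Subgroup.index_map_dvd (P : Subgroup A) hf
  obtain ⟨n, hn⟩ := hB.index ((P : Subgroup A).map f)
  have h1 : ((P : Subgroup A).map f).index = 1 := by
    rcases n with _ | n
    · simpa using hn
    · exfalso
      have h2 : p ∣ (P : Subgroup A).index :=
        dvd_trans (by rw [hn]; exact dvd_pow_self p (Nat.succ_ne_zero n)) hidx
      exact P.not_dvd_index h2
  have htop := Subgroup.index_eq_one.mp h1
  intro y
  have hy : y ∈ (P : Subgroup A).map f := htop ▸ Subgroup.mem_top y
  obtain ⟨x, hx, rfl⟩ := hy
  exact ⟨⟨x, hx⟩, rfl⟩

/-- Let F be a saturated fusion system over a finite p-group S, H a finite group and Q a p-subgroup of H. If Q is not involved in S (no section of S is isomorphic to Q), then F is H-free: H is involved in no model of the normalizer system of a fully normalized centric subgroup. -/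
theorem result {Ω : Type u} [Group Ω] {S : Subgroup Ω} [Finite S] (p : ℕ) [Fact p.Prime] (hS : IsPGroup p S)
    (F : Cfsg.FusionSystem S) (hF : F.IsSaturated p) (H : Type*) [Group H] [Finite H] (Q : Subgroup H) (hQ : IsPGroup p Q)
    (hfree : ¬ Cfsg.Involves (↥Q) (↥S)) : F.IsSectionFree p H := by
  intro Q' _ _ N _ L _ ι hmodel hInv
  obtain ⟨hfin, hreal, ⟨T, hT⟩, -⟩ := hmodel
  apply hfree
  obtain ⟨K, f, hf⟩ := span_of_involves hInv
  have : Finite L := hfin
  have hf₁ : Function.Surjective (f.subgroupComap Q) :=
    f.subgroupComap_surjective_of_surjective Q hf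
  obtain ⟨P₁⟩ : Nonempty (Sylow p (Q.comap f)) := inferInstance
  have hsurj := sylow_surj p (f.subgroupComap Q) hf₁ hQ P₁
  have hj : Function.Injective
      (K.subtype.comp ((Q.comap f).subtype.comp (P₁ : Subgroup (Q.comap f)).subtype)) :=
    (Subgroup.subtype_injective K).comp
      ((Subgroup.subtype_injective _).comp (Subgroup.subtype_injective _))
  have hP : IsPGroup p
      (K.subtype.comp ((Q.comap f).subtype.comp (P₁ : Subgroup (Q.comap f)).subtype)).range :=
    P₁.isPGroup'.of_equiv (MonoidHom.ofInjective hj)
  obtain ⟨T', hT'⟩ := hP.exists_le_sylow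
  have hi1 : Function.Injective
      ((Subgroup.inclusion hT').comp (MonoidHom.ofInjective hj).toMonoidHom) :=
    (Subgroup.inclusion_injective hT').comp (MonoidHom.ofInjective hj).injective
  let e2 : (T' : Subgroup L) ≃* (Cfsg.FusionSystem.normalizerIn S Q') :=
    ((Sylow.equiv T' T).trans (MulEquiv.subgroupCongr hT)).trans
      (MonoidHom.ofInjective hreal.1).symm
  have hi : Function.Injective
      ((Subgroup.inclusion (inf_le_left : Cfsg.FusionSystem.normalizerIn S Q' ≤ S)).comp
        (e2.toMonoidHom.comp
          ((Subgroup.inclusion hT').comp (MonoidHom.ofInjective hj).toMonoidHom))) :=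
    (Subgroup.inclusion_injective
      (inf_le_left : Cfsg.FusionSystem.normalizerIn S Q' ≤ S)).comp (e2.injective.comp hi1)
  exact involves_of_span _ hi _ hsurj

end Cfsg.Agent.S5299
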