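import Cfsg.Statements.S5311
import Mathlib
import Cfsg.Agent.Lib.Helper88.IsoD

set_option autoImplicit false
open Cfsg

namespace Cfsg.Agent.S5311

open Cfsg.Agent.Lib.Helper88

/-- The layer of a saturated fusion system F over a finite p-group S is characteristic in F: for every automorphism α of S that is an automorphism of F (α and its inverse are morphisms from F to F) and every layer E of F over T, α carries T onto T and, for every map φ of E with source P, the map induced by α on α(P) (that is, α ∘ φ ∘ α⁻¹) is a map of E. -/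
theorem result {Ω : Type*} [Group Ω] {S : Subgroup Ω} [Finite S] (p : ℕ) [Fact p.Prime] (hS : IsPGroup p S) (F : Cfsg.FusionSystem S) (hF : F.IsSaturated p)
    (α : ↥S ≃* ↥S) (hα : F.IsMorphism F (S.subtype.comp α.toMonoidHom))
    (hα' : F.IsMorphism F (S.subtype.comp α.symm.toMonoidHom))
    {T : Subgroup Ω} (E : Cfsg.FusionSystem T) (hE : E.IsLayerOf F p) :
    Cfsg.FusionSystem.imageAlong (S.subtype.comp α.toMonoidHom) T = T ∧
      ∀ (P : Subgroup Ω) (φ : ↥P →* Ω), φ ∈ E.Hom P →
        ∀ φ' : ↥(Cfsg.FusionSystem.imageAlong (S.subtype.comp α.toMonoidHom) P) →* Ω,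
          Cfsg.FusionSystem.InducedAlong (S.subtype.comp α.toMonoidHom) φ φ' →
            φ' ∈ E.Hom (Cfsg.FusionSystem.imageAlong (S.subtype.comp α.toMonoidHom) P) := by
  classical
  have ha : ∀ s : S, tfun (S.subtype.comp α.toMonoidHom) (s : Ω) =
      (S.subtype.comp α.toMonoidHom) s := tfun_apply _
  have ha' : ∀ s : S, tfun (S.subtype.comp α.symm.toMonoidHom) (s : Ω) =
      (S.subtype.comp α.symm.toMonoidHom) s := tfun_apply _
  have hb : ∀ s : S, tfun (S.subtype.comp α.symm.toMonoidHom)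
      ((S.subtype.comp α.toMonoidHom) s) = s := by
    intro s
    show tfun (S.subtype.comp α.symm.toMonoidHom) ((α s : S) : Ω) = s
    rw [tfun_apply]
    show ((α.symm (α s) : S) : Ω) = s
    rw [MulEquiv.symm_apply_apply]
  have hb' : ∀ s : S, tfun (S.subtype.comp α.toMonoidHom)
      ((S.subtype.comp α.symm.toMonoidHom) s) = s := by
    intro s
    show tfun (S.subtype.comp α.toMonoidHom) ((α.symm s : S) : Ω) = s
    rw [tfun_apply]
    show ((α (α.symm s) : S) : Ω) = s
    rw [MulEquiv.apply_symm_apply]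
  have hiso : FIso F F (tfun (S.subtype.comp α.toMonoidHom))
      (tfun (S.subtype.comp α.symm.toMonoidHom)) :=
    ⟨hiso_of_isMorphism hα ha hb, hiso_of_isMorphism hα' ha' hb'⟩
  have hTS : T ≤ S := hE.1.1.2.2.2.1.1
  obtain ⟨h1, h2⟩ := layer_char p hS hF hiso hE
  obtain ⟨h1', -⟩ := layer_char p hS hF hiso.symm hE
  have himg : ∀ P : Subgroup Ω, P ≤ S → Cfsg.FusionSystem.imageAlong (S.subtype.comp α.toMonoidHom) P =
      imgX P (tfun (S.subtype.comp α.toMonoidHom)) := fun P hP => imageAlong_eq_imgX _ ha hP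
  refine ⟨?_, ?_⟩
  · rw [himg T hTS]
    apply le_antisymm
    · have := imgX_mono (tfun (S.subtype.comp α.toMonoidHom)) h1
      rwa [hiso.symm.imgX_imgX hTS] at this
    · exact h1'
  · intro P φ hφ φ' hind
    have hm := mor_of_hom E hφ
    have hPS : P ≤ S := hm.le.trans hTS
    have h3 := h2 P _ hm
    rw [← himg P hPS] at h3
    refine hom_of_mor h3 (fun y => ?_)
    obtain ⟨hP, hφS, hP', hind⟩ := hind
    obtain ⟨y, hy⟩ := y
    obtain ⟨s, hs, rfl⟩ := Subgroup.mem_map.mp hy
    have hsP : (s : Ω) ∈ P := Subgroup.mem_subgroupOf.mp hs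
    have e := hind ⟨s, hsP⟩
    show φ' ⟨(S.subtype.comp α.toMonoidHom) s, hy⟩ =
      tfun (S.subtype.comp α.toMonoidHom) (extFun φ (tfun (S.subtype.comp α.symm.toMonoidHom)
        ((S.subtype.comp α.toMonoidHom) s)))
    rw [hb s, extFun_mem φ hsP, tfun_mem _ (hφS ⟨s, hsP⟩)]
    exact e

end Cfsg.Agent.S5311
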