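import Mathlib
import Cfsg.Statements.S5315
import Cfsg.Agent.Lib.Helper88.FusGrun
import Cfsg.Agent.S5134
import Cfsg.Agent.Lib.Helper84.FusionApps
import Cfsg.Agent.Lib.Helper85.FusionNormal
import Cfsg.Agent.Lib.Helper85.FusionFactor

set_option autoImplicit false
open Cfsg Cfsg.FusionSystem Cfsg.Agent.Lib.Helper88

namespace Cfsg.Agent.S5315

/-- An analogue of Grün's lemma for fusion systems. Let F be a saturated fusion system over a finite p-group S that is perfect in the sense that its hyperfocal subgroup is all of S (F coincides with its p-residual subsystem). Then the second centre of F equals its centre: every fusion system over S/(Z(F) ∩ S) that is the factor system of F modulo its centre Z(F), read through the quotient map, has trivial centre. -/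
theorem result {Ω : Type*} [Group Ω] {S : Subgroup Ω} [Finite S] (p : ℕ) [Fact p.Prime] (hS : IsPGroup p S) (F : Cfsg.FusionSystem S) (hF : F.IsSaturated p)
    (hperf : F.hyperfocalSubgroup p = S)
    (E : Cfsg.FusionSystem (⊤ : Subgroup (↥S ⧸ (F.center).subgroupOf S)))
    (hE : F.IsFactorSystem F.center (QuotientGroup.mk' ((F.center).subgroupOf S)) E) : E.center = ⊥ := by
  have hZc : F.IsCentral F.center := Cfsg.Agent.Lib.Helper85.isCentral_center F
  have hZsc : F.StronglyClosed F.center := by
    refine ⟨hZc.1, ?_⟩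
    intro R hR φ hφ x
    obtain ⟨ψ, -, h1, h2⟩ := hZc.2 R φ hφ
    have h3 : φ x = (x : Ω) := by
      rw [← h1 x]
      exact h2 ⟨x, hR x.2⟩
    rw [h3]
    exact hR x.2
  have hmor := Cfsg.Agent.S5134.result p hS F hF F.center hZsc _ E hE
  have hEc : E.IsCentral E.center := Cfsg.Agent.Lib.Helper85.isCentral_center E
  obtain ⟨-, hker, hrange, -⟩ := hE
  have hW : preimageAlong (QuotientGroup.mk' ((F.center).subgroupOf S)) E.center ≤ F.center := by
    have hcentral : F.IsCentral
        (preimageAlong (QuotientGroup.mk' ((F.center).subgroupOf S)) E.center) := by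
      apply Cfsg.Agent.Lib.Helper84.isCentral_of_forall_conjElt p hS F hF
        (Cfsg.Agent.Lib.Helper85.preimageAlong_le _ _)
      rintro x hx y ⟨φ, hφ, hφx⟩
      obtain ⟨hxS, hxC⟩ := (Cfsg.Agent.Lib.Helper85.mem_preimageAlong _ _ x).mp hx
      rw [← hφx]
      exact grun_fix hS hF hperf hZc hker hmor hEc hxS hxC _ φ hφ _ rfl
    exact le_sSup hcentral
  rw [eq_bot_iff]
  intro c hc
  obtain ⟨s, rfl⟩ := QuotientGroup.mk'_surjective _ c
  have h1 : (s : Ω) ∈ preimageAlong (QuotientGroup.mk' ((F.center).subgroupOf S)) E.center :=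
    (Cfsg.Agent.Lib.Helper85.mem_preimageAlong _ _ _).mpr ⟨s.2, hc⟩
  rw [Subgroup.mem_bot]
  exact (hker s).mpr (hW h1)

end Cfsg.Agent.S5315
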