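-- Statement S5726: a transitive group of prime-power degree has a derangement of order p.
import Cfsg.Statements.S5726

set_option autoImplicit false
open Cfsg

namespace Cfsg.Agent.S5726

open MulAction

/-- The stabiliser of a point in a subgroup. -/
lemma stabilizer_subgroup {G Ω : Type*} [Group G] [MulAction G Ω] (P : Subgroup G) (ω : Ω) :
    stabilizer P ω = (stabilizer G ω).subgroupOf P := by
  ext g
  rfl

/-- For a transitive action, a power of `p` dividing the degree divides the length of every orbit
of a Sylow `p`-subgroup. -/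
lemma sylow_orbit_dvd {G Ω : Type*} [Group G] [Finite G] [MulAction G Ω] [IsPretransitive G Ω]
    {p : ℕ} [Fact p.Prime] (P : Sylow p G) (ω : Ω) (j : ℕ) (hj : p ^ j ∣ Nat.card Ω) :
    p ^ j ∣ (orbit (P : Subgroup G) ω).ncard := by
  rw [← index_stabilizer, stabilizer_subgroup]
  change p ^ j ∣ (stabilizer G ω).relIndex P
  have h1 := Subgroup.relIndex_mul_index (inf_le_left : (P : Subgroup G) ⊓ stabilizer G ω ≤ P)
  have h2 := Subgroup.relIndex_mul_index
    (inf_le_right : (P : Subgroup G) ⊓ stabilizer G ω ≤ stabilizer G ω)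
  rw [Subgroup.inf_relIndex_left] at h1
  rw [index_stabilizer_of_transitive] at h2
  have h3 : p ^ j ∣ (stabilizer G ω).relIndex P * (P : Subgroup G).index := by
    rw [h1, ← h2]
    exact Dvd.dvd.mul_left hj _
  have hc : (p ^ j).Coprime (P : Subgroup G).index :=
    Nat.Coprime.pow_left _ ((Nat.Prime.coprime_iff_not_dvd Fact.out).mpr P.not_dvd_index)
  exact hc.dvd_of_dvd_mul_right h3

/-- If a finite group acts faithfully and transitively on a set with p^k elements, p a prime and k ≥ 1, then some element of order p fixes no point. -/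
theorem result {G Ω : Type*} [Group G] [Finite G] [MulAction G Ω] [FaithfulSMul G Ω] [Fintype Ω] (htr : MulAction.IsPretransitive G Ω)
    (p k : ℕ) (hp : p.Prime) (hk : 1 ≤ k) (hΩ : Fintype.card Ω = p ^ k) :
    ∃ g : G, orderOf g = p ∧ ∀ ω : Ω, g • ω ≠ ω := by
  classical
  have : Fact p.Prime := ⟨hp⟩
  obtain ⟨P⟩ : Nonempty (Sylow p G) := inferInstance
  have hcard : Nat.card Ω = p ^ k := by rw [Nat.card_eq_fintype_card, hΩ]
  have horb : ∀ ω : Ω, orbit (P : Subgroup G) ω = Set.univ := by
    intro ω
    rw [Set.eq_univ_iff_ncard]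
    have h1 := sylow_orbit_dvd P ω k (by rw [hcard])
    have h2 := Set.ncard_le_card (orbit (P : Subgroup G) ω)
    have h3 : 0 < (orbit (P : Subgroup G) ω).ncard :=
      (Set.ncard_pos (Set.toFinite _)).mpr (MulAction.nonempty_orbit ω)
    rw [hcard] at h2 ⊢
    exact le_antisymm h2 (Nat.le_of_dvd h3 h1)
  have hΩ2 : 1 < Nat.card Ω := by
    rw [hcard]
    exact Nat.one_lt_pow (by omega) hp.one_lt
  have : Nontrivial (P : Subgroup G) := by
    by_contra h
    rw [not_nontrivial_iff_subsingleton] at h
    have hs : Subsingleton Ω := ⟨fun a b => by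
      have hb : b ∈ orbit (P : Subgroup G) a := by rw [horb]; trivial
      obtain ⟨g, rfl⟩ := hb
      change a = g • a
      rw [Subsingleton.elim g 1, one_smul]⟩
    have := Finite.card_le_one_iff_subsingleton.mpr hs
    omega
  have := P.2.center_nontrivial
  have hZ : IsPGroup p (Subgroup.center (P : Subgroup G)) := P.2.to_subgroup _
  obtain ⟨z, hz⟩ : ∃ z : Subgroup.center (P : Subgroup G), orderOf z = p := by
    apply exists_prime_orderOf_dvd_card' p
    rcases hZ.card_eq_or_dvd with h | h
    · have := Finite.one_lt_card (α := Subgroup.center (P : Subgroup G))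
      omega
    · exact h
  refine ⟨((z : (P : Subgroup G)) : G), ?_, ?_⟩
  · rw [Subgroup.orderOf_coe, Subgroup.orderOf_coe, hz]
  · intro ω hω
    have hall : ∀ ω' : Ω, ((z : (P : Subgroup G)) : G) • ω' = ω' := by
      intro ω'
      have hb : ω' ∈ orbit (P : Subgroup G) ω := by rw [horb]; trivial
      obtain ⟨g, rfl⟩ := hb
      have hcomm : (z : (P : Subgroup G)) * g = g * z := (Subgroup.mem_center_iff.mp z.2 g).symm
      change ((z : (P : Subgroup G)) : G) • (g : G) • ω = (g : G) • ω
      rw [smul_smul, ← Subgroup.coe_mul, hcomm, Subgroup.coe_mul, mul_smul, hω]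
    have h1 : ((z : (P : Subgroup G)) : G) = 1 :=
      FaithfulSMul.eq_of_smul_eq_smul (α := Ω) (fun a => by rw [hall, one_smul])
    have h2 : orderOf z = 1 := by
      rw [← Subgroup.orderOf_coe, ← Subgroup.orderOf_coe, h1, orderOf_one]
    rw [hz] at h2
    exact hp.one_lt.ne' h2

end Cfsg.Agent.S5726
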