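-- Statement S5727: a transitive group of degree m * p, m ≤ p, has a derangement of order p.
import Cfsg.Statements.S5727
import Cfsg.Agent.S5726

set_option autoImplicit false
open Cfsg

namespace Cfsg.Agent.S5727

open MulAction

/-- If a finite group acts faithfully and transitively on a set with m·p elements, where p is a prime and 1 ≤ m ≤ p, then some element of order p fixes no point. -/
theorem result {G Ω : Type*} [Group G] [Finite G] [MulAction G Ω] [FaithfulSMul G Ω] [Fintype Ω] (htr : MulAction.IsPretransitive G Ω)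
    (p m : ℕ) (hp : p.Prime) (hm : 1 ≤ m) (hmp : m ≤ p) (hΩ : Fintype.card Ω = m * p) :
    ∃ g : G, orderOf g = p ∧ ∀ ω : Ω, g • ω ≠ ω := by
  classical
  rcases Nat.eq_or_lt_of_le hmp with hmeq | hmlt
  · exact Cfsg.Agent.S5726.result htr p 2 hp (by norm_num) (by rw [hΩ, hmeq, sq])
  have : Fact p.Prime := ⟨hp⟩
  obtain ⟨P⟩ : Nonempty (Sylow p G) := inferInstance
  have hcard : Nat.card Ω = m * p := by rw [Nat.card_eq_fintype_card, hΩ]
  have hΩne : Nonempty Ω := by
    have : 0 < Nat.card Ω := by rw [hcard]; exact Nat.mul_pos hm hp.pos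
    exact (Nat.card_pos_iff.mp this).1
  -- every orbit of `P` has exactly `p` points
  have hidx : ∀ ω : Ω, (stabilizer (P : Subgroup G) ω).index = p := by
    intro ω
    obtain ⟨a, ha⟩ := P.2.index (stabilizer (P : Subgroup G) ω)
    have h1 := Cfsg.Agent.S5726.sylow_orbit_dvd P ω 1 (by rw [hcard, pow_one]; exact Dvd.intro_left m rfl)
    have h2 := Set.ncard_le_card (orbit (P : Subgroup G) ω)
    rw [← index_stabilizer, ha] at h1 h2
    rw [hcard] at h2
    have h3 : p ^ a < p ^ 2 := by
      calc p ^ a ≤ m * p := h2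
        _ < p * p := Nat.mul_lt_mul_of_pos_right hmlt hp.pos
        _ = p ^ 2 := (sq p).symm
    have h4 : a < 2 := (Nat.pow_lt_pow_iff_right hp.one_lt).mp h3
    have h5 : a ≠ 0 := by
      rintro rfl
      rw [pow_one, pow_zero] at h1
      exact hp.one_lt.ne' (Nat.dvd_one.mp h1)
    have h6 : a = 1 := by omega
    rw [ha, h6, pow_one]
  have horb : ∀ ω : Ω, (orbit (P : Subgroup G) ω).ncard = p := fun ω => by
    rw [← index_stabilizer, hidx]
  have hnormal : ∀ ω : Ω, (stabilizer (P : Subgroup G) ω).Normal := by
    intro ω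
    apply Subgroup.normal_of_index_eq_minFac_card
    obtain ⟨e, he⟩ := IsPGroup.iff_card.mp P.2
    have he0 : e ≠ 0 := by
      rintro rfl
      have h1 := Subgroup.card_mul_index (stabilizer (P : Subgroup G) ω)
      rw [hidx ω, he, pow_zero] at h1
      exact hp.one_lt.ne' (Nat.eq_one_of_mul_eq_one_left h1)
    rw [hidx ω, he, hp.pow_minFac he0]
  -- Burnside's lemma and the class formula
  let _ : Fintype (P : Subgroup G) := Fintype.ofFinite _
  let _ : ∀ g : (P : Subgroup G), Fintype (fixedBy Ω g) := fun g => Fintype.ofFinite _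
  let _ : Fintype (Quotient (orbitRel (P : Subgroup G) Ω)) := Fintype.ofFinite _
  let _ : ∀ ω : Ω, Fintype (stabilizer (P : Subgroup G) ω) := fun ω => Fintype.ofFinite _
  have burn := sum_card_fixedBy_eq_card_orbits_mul_card_group (P : Subgroup G) Ω
  have cls := card_eq_sum_card_group_div_card_stabilizer (P : Subgroup G) Ω
  have hterm : ∀ ω : Ω, Fintype.card (P : Subgroup G) / Fintype.card (stabilizer (P : Subgroup G) ω) = p := by
    intro ω
    have h1 := Subgroup.card_mul_index (stabilizer (P : Subgroup G) ω)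
    rw [hidx ω] at h1
    rw [← Nat.card_eq_fintype_card, ← Nat.card_eq_fintype_card, ← h1]
    exact Nat.mul_div_cancel_left _ Nat.card_pos
  simp only [hterm] at cls
  rw [Finset.sum_const, Finset.card_univ, smul_eq_mul] at cls
  have horbits : Fintype.card (Quotient (orbitRel (P : Subgroup G) Ω)) = m := by
    have h1 : Fintype.card (Quotient (orbitRel (P : Subgroup G) Ω)) * p = m * p := by
      rw [← cls, hΩ]
    exact Nat.eq_of_mul_eq_mul_right hp.pos h1
  rw [horbits] at burn
  by_contra hcon
  push Not at hcon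
  have hfix : ∀ g : (P : Subgroup G), ∃ ω : Ω, g • ω = ω := by
    intro g
    by_contra hg
    push Not at hg
    have hgp : ((g : G)) ^ p = 1 := by
      apply FaithfulSMul.eq_of_smul_eq_smul (α := Ω)
      intro ω
      have := hnormal ω
      have h1 := Subgroup.pow_index_mem (stabilizer (P : Subgroup G) ω) g
      rw [hidx ω] at h1
      rw [one_smul]
      exact h1
    have hg1 : (g : G) ≠ 1 := by
      intro h1
      obtain ⟨ω⟩ := hΩne
      apply hg ω
      change (g : G) • ω = ω
      rw [h1, one_smul]
    obtain ⟨ω, hω⟩ := hcon (g : G) (orderOf_eq_prime hgp hg1)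
    exact hg ω hω
  have hge : ∀ g : (P : Subgroup G), p ≤ Fintype.card (fixedBy Ω g) := by
    intro g
    obtain ⟨ω, hω⟩ := hfix g
    have hsub : orbit (P : Subgroup G) ω ⊆ fixedBy Ω g := by
      rintro _ ⟨h, rfl⟩
      have := hnormal ω
      have hmem : h⁻¹ * g * h ∈ stabilizer (P : Subgroup G) ω := by
        have h1 : g ∈ stabilizer (P : Subgroup G) ω := hω
        have h2 := (hnormal ω).conj_mem g h1 h⁻¹
        rwa [inv_inv] at h2
      change g • h • ω = h • ω
      have h3 : (h⁻¹ * g * h) • ω = ω := hmem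
      calc g • h • ω = h • (h⁻¹ * g * h) • ω := by
            rw [smul_smul, smul_smul]
            congr 1
            group
        _ = h • ω := by rw [h3]
    calc p = (orbit (P : Subgroup G) ω).ncard := (horb ω).symm
      _ ≤ (fixedBy Ω g).ncard := Set.ncard_le_ncard hsub (Set.toFinite _)
      _ = Fintype.card (fixedBy Ω g) := by
        rw [← Nat.card_coe_set_eq, Nat.card_eq_fintype_card]
  have hle : p * Fintype.card (P : Subgroup G) ≤ m * Fintype.card (P : Subgroup G) := by
    calc p * Fintype.card (P : Subgroup G) = ∑ _g : (P : Subgroup G), p := by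
          rw [Finset.sum_const, Finset.card_univ, smul_eq_mul, mul_comm]
      _ ≤ ∑ g : (P : Subgroup G), Fintype.card (fixedBy Ω g) :=
          Finset.sum_le_sum (fun g _ => hge g)
      _ = m * Fintype.card (P : Subgroup G) := burn
  have hpos : 0 < Fintype.card (P : Subgroup G) := Fintype.card_pos
  have := Nat.le_of_mul_le_mul_right hle hpos
  omega

end Cfsg.Agent.S5727
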