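-- Statement S5728: prime-order elements of AGL(1, p^2), p a Mersenne prime, are conjugate into
-- the subgroup with coefficients in the prime field.
import Cfsg.Statements.S5728

set_option autoImplicit false
open Cfsg

namespace Cfsg.Agent.S5728

/-- A unit of a finite field of characteristic `p` whose `(p - 1)`-th power is `1` lies in the
prime field. -/
lemma mem_prime_field_of_pow {p : ℕ} [Fact p.Prime] {K : Type*} [Field K] [Algebra (ZMod p) K]
    [Finite K] (A : Kˣ) (hA : A ^ (p - 1) = 1) :
    ∃ c : (ZMod p)ˣ, algebraMap (ZMod p) K (c : ZMod p) = (A : K) := by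
  classical
  have hp2 : 2 ≤ p := (Fact.out : p.Prime).two_le
  have : NeZero (p - 1) := ⟨by omega⟩
  let φ : (ZMod p)ˣ →* Kˣ := Units.map (algebraMap (ZMod p) K : ZMod p →* K)
  have hφ : Function.Injective φ := Units.map_injective (algebraMap (ZMod p) K).injective
  have hle : φ.range ≤ rootsOfUnity (p - 1) K := by
    rintro _ ⟨c, rfl⟩
    rw [mem_rootsOfUnity, ← map_pow, ZMod.units_pow_card_sub_one_eq_one, map_one]
  have hcard : Nat.card (rootsOfUnity (p - 1) K) ≤ Nat.card φ.range := by
    have h1 : Nat.card (ZMod p)ˣ = p - 1 := by rw [Nat.card_eq_fintype_card, ZMod.card_units]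
    rw [Nat.card_congr (MonoidHom.ofInjective hφ).symm.toEquiv, h1]
    exact card_rootsOfUnity K (p - 1)
  have heq : φ.range = rootsOfUnity (p - 1) K := Subgroup.eq_of_le_of_card_ge hle hcard
  have hmem : A ∈ φ.range := by
    rw [heq, mem_rootsOfUnity]
    exact hA
  obtain ⟨c, hc⟩ := hmem
  refine ⟨c, ?_⟩
  rw [← hc]
  rfl

/-- An elusive transitive action. Let p = 2^s − 1 be a prime and let F be the field with p² elements. Inside the group of affine maps x ↦ a·x + b of F (a ≠ 0), consider the subgroup of maps with both coefficients in the prime field. Then every element of prime order of the affine group is conjugate, within the affine group, to an element of that subgroup; equivalently, in the transitive action of the affine group on the cosets of that subgroup (of degree p(p + 1)) every element of prime order fixes a point. -/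
theorem result (p s : ℕ) [Fact p.Prime] (hs : p = 2 ^ s - 1)
    (g : Equiv.Perm (GaloisField p 2)) (hg : g ∈ Cfsg.affineGroup (GaloisField p 2)) (hord : (orderOf g).Prime) :
    ∃ x ∈ Cfsg.affineGroup (GaloisField p 2), ∃ a b : ZMod p, a ≠ 0 ∧
      ∀ y : GaloisField p 2, (x * g * x⁻¹) y = algebraMap (ZMod p) (GaloisField p 2) a * y + algebraMap (ZMod p) (GaloisField p 2) b := by
  classical
  have hp2 : 2 ≤ p := (Fact.out : p.Prime).two_le
  obtain ⟨A, B, hAB⟩ := hg
  -- it suffices to check the conjugation formula on points of the form `x z`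
  have reduce : ∀ (x : Equiv.Perm (GaloisField p 2)) (a b : ZMod p),
      (∀ z : GaloisField p 2, x (g z) = algebraMap (ZMod p) (GaloisField p 2) a * x z
        + algebraMap (ZMod p) (GaloisField p 2) b) →
      ∀ y : GaloisField p 2, (x * g * x⁻¹) y = algebraMap (ZMod p) (GaloisField p 2) a * y
        + algebraMap (ZMod p) (GaloisField p 2) b := by
    intro x a b h y
    have h1 := h (x⁻¹ y)
    rw [Equiv.Perm.coe_inv, Equiv.apply_symm_apply] at h1
    rw [Equiv.Perm.mul_apply, Equiv.Perm.mul_apply, Equiv.Perm.coe_inv]
    exact h1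
  by_cases hA : A = 1
  · -- translations
    have hB : B ≠ 0 := by
      rintro rfl
      have h1 : g = 1 := Equiv.ext (fun y => by rw [hAB, hA]; simp)
      rw [h1, orderOf_one] at hord
      exact Nat.not_prime_one hord
    refine ⟨Equiv.mulLeft₀ B⁻¹ (inv_ne_zero hB),
      ⟨Units.mk0 B⁻¹ (inv_ne_zero hB), 0, fun y => by simp⟩, 1, 1, one_ne_zero, ?_⟩
    apply reduce
    intro z
    rw [hAB, hA]
    simp only [Equiv.mulLeft₀_apply, Units.val_one, one_mul, map_one]
    rw [mul_add, inv_mul_cancel₀ hB]
  · -- a non-trivial linear part: conjugate to `y ↦ A * y`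
    have hA1 : (A : GaloisField p 2) - 1 ≠ 0 := by
      intro h
      exact hA (Units.ext (sub_eq_zero.mp h))
    -- `g` is conjugate to the multiplication by `A`
    have hconj : ∀ z : GaloisField p 2,
        Equiv.addRight (B / ((A : GaloisField p 2) - 1)) (g z)
          = (A : GaloisField p 2) * Equiv.addRight (B / ((A : GaloisField p 2) - 1)) z := by
      intro z
      rw [hAB]
      simp only [Equiv.coe_addRight]
      field_simp
      ring
    have hxmem : Equiv.addRight (B / ((A : GaloisField p 2) - 1))
        ∈ Cfsg.affineGroup (GaloisField p 2) := ⟨1, B / ((A : GaloisField p 2) - 1), fun y => by simp⟩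
    -- the order of `A` equals the order of `g`
    have hgA : Equiv.addRight (B / ((A : GaloisField p 2) - 1)) * g
        * (Equiv.addRight (B / ((A : GaloisField p 2) - 1)))⁻¹
        = MulAction.toPermHom (GaloisField p 2)ˣ (GaloisField p 2) A := by
      ext y
      have h1 := hconj ((Equiv.addRight (B / ((A : GaloisField p 2) - 1)))⁻¹ y)
      rw [Equiv.Perm.coe_inv, Equiv.apply_symm_apply] at h1
      rw [Equiv.Perm.mul_apply, Equiv.Perm.mul_apply, Equiv.Perm.coe_inv, h1]
      rfl
    have hinj : Function.Injective (MulAction.toPermHom (GaloisField p 2)ˣ (GaloisField p 2)) := by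
      intro u v huv
      have h1 := congrArg (fun σ : Equiv.Perm (GaloisField p 2) => σ 1) huv
      simp only [MulAction.toPermHom_apply, MulAction.toPerm_apply, Units.smul_def, smul_eq_mul,
        mul_one] at h1
      exact Units.ext h1
    have hordA : orderOf A = orderOf g := by
      rw [← orderOf_injective _ hinj A, ← hgA]
      exact (MulAut.conj (Equiv.addRight (B / ((A : GaloisField p 2) - 1)))).orderOf_eq g
    -- the order divides `p ^ 2 - 1 = (p - 1) * 2 ^ s`
    have hdvd : orderOf A ∣ (p - 1) * 2 ^ s := by
      have h1 : orderOf A ∣ Nat.card (GaloisField p 2)ˣ := orderOf_dvd_natCard A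
      rw [Nat.card_units, GaloisField.card p 2 two_ne_zero] at h1
      have h2 : p ^ 2 - 1 = (p - 1) * 2 ^ s := by
        have h3 : 2 ^ s = p + 1 := by omega
        rw [h3, mul_comm]
        have h4 := Nat.sq_sub_sq p 1
        rw [one_pow] at h4
        exact h4
      rwa [h2] at h1
    rw [← hordA] at hord
    by_cases h2 : orderOf A = 2
    · -- `A = -1`
      have hAsq : (A : GaloisField p 2) ^ 2 = 1 := by
        have h3 : A ^ 2 = 1 := by
          have h5 := pow_orderOf_eq_one A
          rwa [h2] at h5
        have h4 := congrArg (fun u : (GaloisField p 2)ˣ => (u : GaloisField p 2)) h3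
        simpa using h4
      have hAm : (A : GaloisField p 2) = -1 := by
        have h3 : ((A : GaloisField p 2) - 1) * ((A : GaloisField p 2) + 1) = 0 := by
          ring_nf
          rw [hAsq]
          ring
        rcases mul_eq_zero.mp h3 with h4 | h4
        · exact absurd h4 hA1
        · exact eq_neg_of_add_eq_zero_left h4
      refine ⟨_, hxmem, -1, 0, neg_ne_zero.mpr one_ne_zero, ?_⟩
      apply reduce
      intro z
      rw [hconj z, hAm]
      simp
    · -- odd order: `A ^ (p - 1) = 1`
      have h3 : orderOf A ∣ p - 1 := by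
        rcases (Nat.Prime.dvd_mul hord).mp hdvd with h4 | h4
        · exact h4
        · exfalso
          have h5 := hord.dvd_of_dvd_pow h4
          exact h2 ((Nat.prime_dvd_prime_iff_eq hord Nat.prime_two).mp h5)
      obtain ⟨c, hc⟩ := mem_prime_field_of_pow (p := p) A (orderOf_dvd_iff_pow_eq_one.mp h3)
      refine ⟨_, hxmem, (c : ZMod p), 0, c.ne_zero, ?_⟩
      apply reduce
      intro z
      rw [hconj z, hc]
      simp

end Cfsg.Agent.S5728
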