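import Cfsg.Statements.S5905
-- import your own Cfsg.Agent.* helpers here

set_option autoImplicit false
open Cfsg

namespace Cfsg.Agent.S5905

/-- The permutations preserving the fibre partition of `f`, as a subgroup. -/
def blockStab {Ω ι : Type*} (f : Ω → ι) : Subgroup (Equiv.Perm Ω) where
  carrier := {g | ∀ x y : Ω, f x = f y ↔ f (g x) = f (g y)}
  one_mem' := fun _ _ => Iff.rfl
  mul_mem' := by
    intro g h hg hh x y
    rw [hh x y, hg (h x) (h y)]
    rfl
  inv_mem' := by
    intro g hg x y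
    rw [hg (g⁻¹ x) (g⁻¹ y)]
    simp

theorem closure_eq_blockStab {Ω ι : Type*} (f : Ω → ι) :
    Subgroup.closure {g : Equiv.Perm Ω | ∀ x y : Ω, f x = f y ↔ f (g x) = f (g y)} = blockStab f :=
  Subgroup.closure_eq (blockStab f)

theorem swap_mem_blockStab {Ω ι : Type*} [DecidableEq Ω] (f : Ω → ι) (u v : Ω) (h : f u = f v) :
    Equiv.swap u v ∈ blockStab f := by
  have key : ∀ p, f (Equiv.swap u v p) = f p := by
    intro p
    by_cases hp : p = u
    · subst hp
      rw [Equiv.swap_apply_left, h]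
    · by_cases hp' : p = v
      · subst hp'
        rw [Equiv.swap_apply_right, h]
      · rw [Equiv.swap_apply_of_ne_of_ne hp hp']
  intro x y
  rw [key x, key y]

/-- An involution exchanging two fibres of equal size and fixing all other points. -/
theorem exists_fibre_swap {Ω ι : Type*} [Finite Ω] [DecidableEq ι] (f : Ω → ι) (i j : ι) (hij : i ≠ j)
    (hcard : Nat.card {x : Ω // f x = i} = Nat.card {x : Ω // f x = j}) :
    ∃ τ : Equiv.Perm Ω, τ ∈ blockStab f ∧ (∀ x, f x = j → f (τ x) = i) ∧ (∀ x, f x = i → f (τ x) = j) ∧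
      (∀ x, f x ≠ i → f x ≠ j → τ x = x) := by
  obtain ⟨e⟩ := Finite.card_eq.mp hcard
  let t : Ω → Ω := fun x =>
    if h : f x = i then (e ⟨x, h⟩ : Ω) else if h' : f x = j then (e.symm ⟨x, h'⟩ : Ω) else x
  have t_i : ∀ x (h : f x = i), t x = (e ⟨x, h⟩ : Ω) := by
    intro x h
    simp only [t, dif_pos h]
  have t_j : ∀ x (h : f x = j), t x = (e.symm ⟨x, h⟩ : Ω) := by
    intro x h
    have h' : ¬ f x = i := fun h'' => hij (h''.symm.trans h)
    simp only [t, dif_neg h', dif_pos h]
  have t_o : ∀ x, f x ≠ i → f x ≠ j → t x = x := by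
    intro x h h'
    simp only [t, dif_neg h, dif_neg h']
  have ft_i : ∀ x, f x = i → f (t x) = j := by
    intro x h
    rw [t_i x h]
    exact (e ⟨x, h⟩).2
  have ft_j : ∀ x, f x = j → f (t x) = i := by
    intro x h
    rw [t_j x h]
    exact (e.symm ⟨x, h⟩).2
  have hinv : Function.Involutive t := by
    intro x
    by_cases h : f x = i
    · rw [t_j (t x) (ft_i x h)]
      simp only [t_i x h, Subtype.coe_eta, Equiv.symm_apply_apply]
    · by_cases h' : f x = j
      · rw [t_i (t x) (ft_j x h')]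
        simp only [t_j x h', Subtype.coe_eta, Equiv.apply_symm_apply]
      · rw [t_o x h h', t_o x h h']
  have hsw : ∀ x, f (t x) = Equiv.swap i j (f x) := by
    intro x
    by_cases h : f x = i
    · rw [ft_i x h, h, Equiv.swap_apply_left]
    · by_cases h' : f x = j
      · rw [ft_j x h', h', Equiv.swap_apply_right]
      · rw [t_o x h h', Equiv.swap_apply_of_ne_of_ne h h']
  refine ⟨hinv.toPerm t, ?_, ft_j, ft_i, t_o⟩
  intro x y
  change f x = f y ↔ f (t x) = f (t y)
  rw [hsw x, hsw y, (Equiv.swap i j).apply_eq_iff_eq]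

theorem eq_top_of_blockStab_lt {Ω ι : Type*} [Finite Ω] [DecidableEq Ω] [DecidableEq ι] (f : Ω → ι)
    (hcard : ∀ i j : ι, Nat.card {x : Ω // f x = i} = Nat.card {x : Ω // f x = j})
    (L : Subgroup (Equiv.Perm Ω)) (hL : blockStab f < L) : L = ⊤ := by
  have hKL : blockStab f ≤ L := hL.le
  -- the relation "swap u v ∈ L"
  have Rsymm : ∀ u v, Equiv.swap u v ∈ L → Equiv.swap v u ∈ L := by
    intro u v h
    rw [Equiv.swap_comm]
    exact h
  have Rtrans : ∀ u v w, Equiv.swap u v ∈ L → Equiv.swap v w ∈ L → Equiv.swap u w ∈ L := by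
    intro u v w h1 h2
    by_cases huv : u = v
    · subst huv
      exact h2
    · by_cases huw : u = w
      · subst huw
        rw [Equiv.swap_self]
        exact L.one_mem
      · have := Equiv.swap_mul_swap_mul_swap (x := u) (y := v) (z := w) huv huw
        rw [Equiv.swap_comm u w, ← this]
        exact L.mul_mem (L.mul_mem h2 h1) h2
  have Rfib : ∀ u v, f u = f v → Equiv.swap u v ∈ L := fun u v h => hKL (swap_mem_blockStab f u v h)
  have Rconj : ∀ (k : Equiv.Perm Ω), k ∈ L → ∀ u v, Equiv.swap u v ∈ L → Equiv.swap (k u) (k v) ∈ L := by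
    intro k hk u v h
    rw [Equiv.swap_apply_apply]
    exact L.mul_mem (L.mul_mem hk h) (L.inv_mem hk)
  -- a swap across two fibres
  have hex : ∃ u v, f u ≠ f v ∧ Equiv.swap u v ∈ L := by
    obtain ⟨g, hgL, hgK⟩ := SetLike.exists_of_lt hL
    have hg' : ¬ ∀ x y : Ω, f x = f y ↔ f (g x) = f (g y) := hgK
    push Not at hg'
    obtain ⟨x, y, hxy⟩ := hg'
    rcases hxy with ⟨h1, h2⟩ | ⟨h1, h2⟩
    · exact ⟨g x, g y, h2, Rconj g hgL x y (Rfib x y h1)⟩
    · refine ⟨x, y, h1, ?_⟩
      have h3 := Rconj g⁻¹ (L.inv_mem hgL) (g x) (g y) (Rfib _ _ h2)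
      simpa using h3
  obtain ⟨u, v, huv, hswap⟩ := hex
  have hall : ∀ q, Equiv.swap u q ∈ L := by
    intro q
    by_cases hq : f q = f u
    · exact Rfib u q hq.symm
    · by_cases hq' : f q = f v
      · exact Rtrans u v q hswap (Rfib v q hq'.symm)
      · obtain ⟨τ, hτ, h1, h2, h3⟩ := exists_fibre_swap f (f v) (f q) (fun h => hq' h.symm) (hcard _ _)
        have h4 := Rconj τ (hKL hτ) u v hswap
        rw [h3 u huv (fun h => hq h.symm)] at h4
        exact Rtrans u (τ v) q h4 (Rfib _ _ (h2 v rfl))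
  rw [eq_top_iff, ← Equiv.Perm.closure_isSwap, Subgroup.closure_le]
  rintro σ ⟨p, q, -, rfl⟩
  exact Rtrans p u q (Rsymm u p (hall p)) (hall q)

/-- Let Ω be a finite set and f : Ω → Fin b a map onto b ≥ 2 labels whose fibres all have the same size a ≥ 2 (a partition of Ω into b blocks of size a, so |Ω| = ab). Then the stabilizer of this partition in the symmetric group on Ω — the permutations g such that x and y lie in the same block exactly when g x and g y do, a group isomorphic to the imprimitive wreath product S_a ≀ S_b — is a maximal subgroup of the symmetric group. -/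
theorem result {Ω : Type*} [Fintype Ω] [DecidableEq Ω] (a b : ℕ) (ha : 2 ≤ a) (hb : 2 ≤ b)
    (f : Ω → Fin b) (hf : ∀ i : Fin b, Nat.card {x : Ω // f x = i} = a) :
    IsCoatom (Subgroup.closure {g : Equiv.Perm Ω | ∀ x y : Ω, f x = f y ↔ f (g x) = f (g y)}) := by
  rw [closure_eq_blockStab]
  have hb0 : 0 < b := by omega
  have hb1 : 1 < b := by omega
  have hfib : ∀ i : Fin b, ∃ x y : Ω, f x = i ∧ f y = i ∧ x ≠ y := by
    intro i
    have h1 : 1 < Nat.card {x : Ω // f x = i} := by rw [hf i]; omega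
    rw [Finite.one_lt_card_iff_nontrivial] at h1
    obtain ⟨⟨x, hx⟩, ⟨y, hy⟩, hne⟩ := h1
    exact ⟨x, y, hx, hy, fun h => hne (Subtype.ext h)⟩
  refine ⟨?_, fun L hL => eq_top_of_blockStab_lt f (fun i j => by rw [hf i, hf j]) L hL⟩
  obtain ⟨u, u', hu, hu', hne⟩ := hfib ⟨0, hb0⟩
  obtain ⟨v, -, hv, -, -⟩ := hfib ⟨1, hb1⟩
  have huv : f u ≠ f v := by
    rw [hu, hv]
    intro h
    simp [Fin.ext_iff] at h
  intro htop
  have hsw : Equiv.swap u v ∈ blockStab f := by rw [htop]; exact Subgroup.mem_top _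
  have h1 := (hsw u u').mp (hu.trans hu'.symm)
  have h2 : u' ≠ u := fun h => hne h.symm
  have h3 : u' ≠ v := by
    intro h
    apply huv
    rw [← h, hu, hu']
  rw [Equiv.swap_apply_left, Equiv.swap_apply_of_ne_of_ne h2 h3] at h1
  apply huv
  rw [hu, ← hu', h1]

end Cfsg.Agent.S5905
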