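import Cfsg.Statements.S5894
-- import your own Cfsg.Agent.* helpers here
import Cfsg.Agent.S5905
import Cfsg.Agent.Lib.Helper98.Interval

set_option autoImplicit false
open Cfsg

namespace Cfsg.Agent.S5894

section
open Cfsg.Agent.Lib.Helper98
open scoped Pointwise

/-- The two-block labelling of `Fin (2 * m)`: `0` on the first `m` points, `1` on the others. -/
def lab (m : ℕ) : Fin (2 * m) → Fin 2 := fun i => if i.val < m then 0 else 1

theorem lab_eq_zero_iff (m : ℕ) (x : Fin (2 * m)) : lab m x = 0 ↔ x.val < m := by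
  unfold lab
  by_cases h : x.val < m <;> simp [h]

theorem lab_eq_one_iff (m : ℕ) (x : Fin (2 * m)) : lab m x = 1 ↔ ¬ x.val < m := by
  unfold lab
  by_cases h : x.val < m <;> simp [h]

theorem card_low (m : ℕ) : Nat.card {x : Fin (2 * m) // x.val < m} = m := by
  rw [← Nat.card_congr (Fin.castLEOrderIso (show m ≤ 2 * m by omega)).toEquiv, Nat.card_fin]

theorem ncard_low (m : ℕ) : ({x : Fin (2 * m) | x.val < m} : Set (Fin (2 * m))).ncard = m :=
  card_low m

theorem ncard_high (m : ℕ) : ({x : Fin (2 * m) | x.val < m}ᶜ : Set (Fin (2 * m))).ncard = m := by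
  have h := Set.ncard_add_ncard_compl ({x : Fin (2 * m) | x.val < m} : Set (Fin (2 * m)))
  rw [ncard_low, Nat.card_fin] at h
  omega

theorem card_fibre (m : ℕ) (i : Fin 2) : Nat.card {x : Fin (2 * m) // lab m x = i} = m := by
  revert i
  rw [Fin.forall_fin_two]
  constructor
  · exact (Nat.card_congr (Equiv.subtypeEquivRight (fun x => lab_eq_zero_iff m x))).trans (card_low m)
  · have h : Nat.card {x : Fin (2 * m) // lab m x = 1} =
        ({x : Fin (2 * m) | x.val < m}ᶜ : Set (Fin (2 * m))).ncard :=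
      Nat.card_congr (Equiv.subtypeEquivRight (fun x => lab_eq_one_iff m x))
    rw [h, ncard_high]

theorem lab_eq_of_stab (m : ℕ) (g : Equiv.Perm (Fin (2 * m)))
    (hg : g • ({x : Fin (2 * m) | x.val < m} : Set (Fin (2 * m))) = {x : Fin (2 * m) | x.val < m})
    (x : Fin (2 * m)) : lab m (g x) = lab m x := by
  have h1 : (g x).val < m ↔ x.val < m := by
    constructor
    · intro h
      have h2 : g • x ∈ g • ({x : Fin (2 * m) | x.val < m} : Set (Fin (2 * m))) := by
        rw [hg]
        exact h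
      have h3 : x ∈ ({x : Fin (2 * m) | x.val < m} : Set (Fin (2 * m))) :=
        (Set.smul_mem_smul_set_iff).mp h2
      exact h3
    · intro h
      have h2 : g • x ∈ g • ({x : Fin (2 * m) | x.val < m} : Set (Fin (2 * m))) :=
        Set.smul_mem_smul_set h
      rw [hg] at h2
      exact h2
  simp only [lab]
  by_cases h : x.val < m
  · rw [if_pos h, if_pos (h1.mpr h)]
  · rw [if_neg h, if_neg (fun h' => h (h1.mp h'))]

theorem stab_le_blockStab (m : ℕ) :
    MulAction.stabilizer (Equiv.Perm (Fin (2 * m))) ({x : Fin (2 * m) | x.val < m} : Set (Fin (2 * m))) ≤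
      Subgroup.closure {g : Equiv.Perm (Fin (2 * m)) | ∀ x y, lab m x = lab m y ↔ lab m (g x) = lab m (g y)} := by
  intro g hg
  apply Subgroup.subset_closure
  intro x y
  rw [lab_eq_of_stab m g hg x, lab_eq_of_stab m g hg y]

theorem swap_mem_stab_low (m : ℕ) (u v : Fin (2 * m)) (hu : u.val < m) (hv : v.val < m) :
    Equiv.swap u v ∈ MulAction.stabilizer (Equiv.Perm (Fin (2 * m)))
      ({x : Fin (2 * m) | x.val < m} : Set (Fin (2 * m))) :=
  Equiv.Perm.swap_mem_stabilizer hu hv

theorem swap_mem_stab_high (m : ℕ) (u v : Fin (2 * m)) (hu : ¬ u.val < m) (hv : ¬ v.val < m) :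
    Equiv.swap u v ∈ MulAction.stabilizer (Equiv.Perm (Fin (2 * m)))
      ({x : Fin (2 * m) | x.val < m} : Set (Fin (2 * m))) := by
  rw [← stabilizer_compl]
  exact Equiv.Perm.swap_mem_stabilizer (s := ({x : Fin (2 * m) | x.val < m} : Set (Fin (2 * m)))ᶜ) hu hv

theorem swap_fix (m : ℕ) (a u v : Fin (2 * m)) (hu : u ≠ a) (hv : v ≠ a) :
    Equiv.swap u v ∈ MulAction.stabilizer (Equiv.Perm (Fin (2 * m))) a := by
  rw [MulAction.mem_stabilizer_iff, Equiv.Perm.smul_def]
  exact Equiv.swap_apply_of_ne_of_ne (Ne.symm hu) (Ne.symm hv)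

/-- Maximality of `S_m × S_{m-1}` in the point stabiliser. -/
theorem interval_low (m : ℕ) (hm : 2 ≤ m) (J : Subgroup (Equiv.Perm (Fin (2 * m))))
    (hHJ : MulAction.stabilizer (Equiv.Perm (Fin (2 * m))) (⟨2 * m - 1, by omega⟩ : Fin (2 * m)) ⊓
      MulAction.stabilizer (Equiv.Perm (Fin (2 * m))) ({x : Fin (2 * m) | x.val < m} : Set (Fin (2 * m))) ≤ J)
    (hJM : J ≤ MulAction.stabilizer (Equiv.Perm (Fin (2 * m))) (⟨2 * m - 1, by omega⟩ : Fin (2 * m))) :
    J = MulAction.stabilizer (Equiv.Perm (Fin (2 * m))) (⟨2 * m - 1, by omega⟩ : Fin (2 * m)) ⊓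
      MulAction.stabilizer (Equiv.Perm (Fin (2 * m))) ({x : Fin (2 * m) | x.val < m} : Set (Fin (2 * m))) ∨
    J = MulAction.stabilizer (Equiv.Perm (Fin (2 * m))) (⟨2 * m - 1, by omega⟩ : Fin (2 * m)) := by
  by_cases hJ : J ≤ MulAction.stabilizer (Equiv.Perm (Fin (2 * m))) (⟨2 * m - 1, by omega⟩ : Fin (2 * m)) ⊓
      MulAction.stabilizer (Equiv.Perm (Fin (2 * m))) ({x : Fin (2 * m) | x.val < m} : Set (Fin (2 * m)))
  · exact Or.inl (le_antisymm hJ hHJ)
  right
  refine le_antisymm hJM ?_
  obtain ⟨g, hgJ, hgH⟩ := SetLike.not_le_iff_exists.mp hJ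
  have hga : g (⟨2 * m - 1, by omega⟩ : Fin (2 * m)) = ⟨2 * m - 1, by omega⟩ := hJM hgJ
  have hgA : ¬ g • ({x : Fin (2 * m) | x.val < m} : Set (Fin (2 * m))) = {x : Fin (2 * m) | x.val < m} := by
    intro h
    exact hgH (Subgroup.mem_inf.mpr ⟨hJM hgJ, h⟩)
  -- the relation
  have Rsymm : ∀ u v, Equiv.swap u v ∈ J → Equiv.swap v u ∈ J := by
    intro u v h
    rw [Equiv.swap_comm]
    exact h
  have Rtrans : ∀ u v w, Equiv.swap u v ∈ J → Equiv.swap v w ∈ J → Equiv.swap u w ∈ J := by
    intro u v w h1 h2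
    by_cases huv : u = v
    · subst huv
      exact h2
    · by_cases huw : u = w
      · subst huw
        rw [Equiv.swap_self]
        exact J.one_mem
      · have h3 := Equiv.swap_mul_swap_mul_swap (x := u) (y := v) (z := w) huv huw
        rw [Equiv.swap_comm u w, ← h3]
        exact J.mul_mem (J.mul_mem h2 h1) h2
  have Rlow : ∀ u v : Fin (2 * m), u.val < m → v.val < m → Equiv.swap u v ∈ J := by
    intro u v hu hv
    apply hHJ
    refine Subgroup.mem_inf.mpr ⟨swap_fix m _ u v ?_ ?_, swap_mem_stab_low m u v hu hv⟩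
    · intro h
      rw [h] at hu
      simp only at hu
      omega
    · intro h
      rw [h] at hv
      simp only at hv
      omega
  have Rhigh : ∀ u v : Fin (2 * m), ¬ u.val < m → ¬ v.val < m → u ≠ ⟨2 * m - 1, by omega⟩ →
      v ≠ ⟨2 * m - 1, by omega⟩ → Equiv.swap u v ∈ J := by
    intro u v hu hv hu' hv'
    apply hHJ
    exact Subgroup.mem_inf.mpr ⟨swap_fix m _ u v hu' hv', swap_mem_stab_high m u v hu hv⟩
  have Rconj : ∀ u v, Equiv.swap u v ∈ J → Equiv.swap (g u) (g v) ∈ J := by
    intro u v h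
    rw [Equiv.swap_apply_apply]
    exact J.mul_mem (J.mul_mem hgJ h) (J.inv_mem hgJ)
  -- existence of y in the low block with image outside
  have hy : ∃ y : Fin (2 * m), y.val < m ∧ ¬ (g y).val < m := by
    by_contra hcon
    push Not at hcon
    apply hgA
    apply Set.eq_of_subset_of_ncard_le
    · rintro _ ⟨y, hy, rfl⟩
      exact hcon y hy
    · exact le_of_eq (Set.ncard_image_of_injective _ g.injective).symm
    · exact Set.toFinite _
  have hx : ∃ x : Fin (2 * m), x.val < m ∧ (g x).val < m := by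
    by_contra hcon0
    have hcon : ∀ x : Fin (2 * m), x.val < m → ¬ (g x).val < m := fun x hx hgx => hcon0 ⟨x, hx, hgx⟩
    have hsub : g '' ({x : Fin (2 * m) | x.val < m} : Set (Fin (2 * m))) ⊆
        ({x : Fin (2 * m) | x.val < m}ᶜ : Set (Fin (2 * m))) \ {⟨2 * m - 1, by omega⟩} := by
      rintro _ ⟨x, hx, rfl⟩
      refine ⟨hcon x hx, ?_⟩
      intro h
      have h1 : g x = g ⟨2 * m - 1, by omega⟩ := by rw [hga]; exact h
      have h2 := g.injective h1
      rw [h2] at hx
      simp only [Set.mem_ofPred_eq] at hx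
      omega
    have h1 := Set.ncard_le_ncard hsub
    rw [Set.ncard_image_of_injective _ g.injective, ncard_low,
      Set.ncard_sdiff_singleton_of_mem (by simp only [Set.mem_compl_iff, Set.mem_ofPred_eq]; omega),
      ncard_high] at h1
    omega
  obtain ⟨x, hxl, hgx⟩ := hx
  obtain ⟨y, hyl, hgy⟩ := hy
  have hgya : g y ≠ ⟨2 * m - 1, by omega⟩ := by
    intro h
    have h1 : g y = g ⟨2 * m - 1, by omega⟩ := by rw [hga]; exact h
    have h2 := g.injective h1
    rw [h2] at hyl
    simp only at hyl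
    omega
  have hcross : Equiv.swap (g x) (g y) ∈ J := Rconj x y (Rlow x y hxl hyl)
  have hall : ∀ w : Fin (2 * m), w ≠ ⟨2 * m - 1, by omega⟩ → Equiv.swap w (g x) ∈ J := by
    intro w hw
    by_cases hwl : w.val < m
    · exact Rlow w (g x) hwl hgx
    · exact Rtrans w (g y) (g x) (Rhigh w (g y) hwl hgy hw hgya) (Rsymm _ _ hcross)
  apply stabilizer_le_of_swaps
  intro u v hu hv
  exact Rtrans u (g x) v (hall u hu) (Rsymm _ _ (hall v hv))

theorem main_aux (m : ℕ) (hm : 2 ≤ m) :
    ∃ M H K : Subgroup (Equiv.Perm (Fin (2 * m))), IsCoatom M ∧ M.index = 2 * m ∧ H ≤ M ∧ IsCoatom (H.subgroupOf M) ∧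
      IsCoatom K ∧ H ≤ K ∧ ¬ IsCoatom (H.subgroupOf K) := by
  have hnt : Nontrivial (Fin (2 * m)) := Fin.nontrivial_iff_two_le.mpr (by omega)
  refine ⟨MulAction.stabilizer (Equiv.Perm (Fin (2 * m))) (⟨2 * m - 1, by omega⟩ : Fin (2 * m)),
    MulAction.stabilizer (Equiv.Perm (Fin (2 * m))) (⟨2 * m - 1, by omega⟩ : Fin (2 * m)) ⊓
      MulAction.stabilizer (Equiv.Perm (Fin (2 * m))) ({x : Fin (2 * m) | x.val < m} : Set (Fin (2 * m))),
    Subgroup.closure {g : Equiv.Perm (Fin (2 * m)) | ∀ x y, lab m x = lab m y ↔ lab m (g x) = lab m (g y)},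
    ?_, ?_, inf_le_left, ?_, ?_, ?_, ?_⟩
  · exact MulAction.IsPreprimitive.isCoatom_stabilizer_of_isPreprimitive _ _
  · rw [MulAction.index_stabilizer_of_transitive, Nat.card_fin]
  · apply isCoatom_subgroupOf_of_interval _ _ inf_le_left
    · intro h
      have h1 : Equiv.swap (⟨0, by omega⟩ : Fin (2 * m)) ⟨m, by omega⟩ ∈
          MulAction.stabilizer (Equiv.Perm (Fin (2 * m))) (⟨2 * m - 1, by omega⟩ : Fin (2 * m)) := by
        apply swap_fix
        · intro h2
          have h3 := congrArg Fin.val h2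
          simp only at h3
          omega
        · intro h2
          have h3 := congrArg Fin.val h2
          simp only at h3
          omega
      rw [← h] at h1
      have h2 := MulAction.mem_stabilizer_iff.mp h1.2
      have h3 : Equiv.swap (⟨0, by omega⟩ : Fin (2 * m)) ⟨m, by omega⟩ • (⟨0, by omega⟩ : Fin (2 * m)) ∈
          Equiv.swap (⟨0, by omega⟩ : Fin (2 * m)) ⟨m, by omega⟩ •
            ({x : Fin (2 * m) | x.val < m} : Set (Fin (2 * m))) :=
        Set.smul_mem_smul_set (show (0 : ℕ) < m by omega)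
      rw [h2, Equiv.Perm.smul_def, Equiv.swap_apply_left] at h3
      simp only [Set.mem_ofPred_eq] at h3
      omega
    · intro J hHJ hJM
      exact interval_low m hm J hHJ hJM
  · exact Cfsg.Agent.S5905.result m 2 hm le_rfl (lab m) (card_fibre m)
  · exact inf_le_right.trans (stab_le_blockStab m)
  · intro hco
    rcases interval_of_isCoatom_subgroupOf _ _ (inf_le_right.trans (stab_le_blockStab m)) hco
      (MulAction.stabilizer (Equiv.Perm (Fin (2 * m))) ({x : Fin (2 * m) | x.val < m} : Set (Fin (2 * m))))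
      inf_le_right (stab_le_blockStab m) with h | h
    · -- stabiliser of the block moves the point
      have h1 : Equiv.swap (⟨2 * m - 1, by omega⟩ : Fin (2 * m)) ⟨m, by omega⟩ ∈
          MulAction.stabilizer (Equiv.Perm (Fin (2 * m)))
            ({x : Fin (2 * m) | x.val < m} : Set (Fin (2 * m))) := by
        apply swap_mem_stab_high
        · simp only
          omega
        · simp only
          omega
      rw [h] at h1
      have h2 := MulAction.mem_stabilizer_iff.mp h1.1
      rw [Equiv.Perm.smul_def, Equiv.swap_apply_left] at h2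
      have h3 := congrArg Fin.val h2
      simp only at h3
      omega
    · -- the fibre swap is in K but does not stabilise the block
      obtain ⟨τ, hτ, -, h2, -⟩ := Cfsg.Agent.S5905.exists_fibre_swap (lab m) (0 : Fin 2) 1 (by decide)
        (by rw [card_fibre, card_fibre])
      have hτK : τ ∈ Subgroup.closure
          {g : Equiv.Perm (Fin (2 * m)) | ∀ x y, lab m x = lab m y ↔ lab m (g x) = lab m (g y)} := by
        rw [Cfsg.Agent.S5905.closure_eq_blockStab]
        exact hτ
      rw [← h] at hτK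
      have h3 := lab_eq_of_stab m τ (MulAction.mem_stabilizer_iff.mp hτK) ⟨0, by omega⟩
      have h4 : lab m (⟨0, by omega⟩ : Fin (2 * m)) = 0 := (lab_eq_zero_iff m _).mpr (by simp only; omega)
      rw [h2 _ h4, h4] at h3
      exact absurd h3 (by decide)

end

/-- For every m ≥ 2 the symmetric group on 2m letters has a maximal subgroup M of index 2m together with a maximal subgroup H of M that is not second maximal: some maximal subgroup K of the symmetric group contains H without H being maximal in K. (One may take M the stabiliser of a letter, H ≅ S_m × S_{m−1} inside it, and K ≅ S_m ≀ S₂ the stabiliser of a partition into two m-sets, with H < S_m × S_m < K.) So the prime-index hypothesis in the second-maximality criterion cannot be relaxed to any even index ≥ 4. -/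
theorem result (m : ℕ) (hm : 2 ≤ m) :
    ∃ M H K : Subgroup (Equiv.Perm (Fin (2 * m))), IsCoatom M ∧ M.index = 2 * m ∧ H ≤ M ∧ IsCoatom (H.subgroupOf M) ∧
      IsCoatom K ∧ H ≤ K ∧ ¬ IsCoatom (H.subgroupOf K) := by
  exact main_aux m hm

end Cfsg.Agent.S5894
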