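import Cfsg.Statements.S5973
import Cfsg.Agent.Lib.Helper99.OTSP.Asm4
import Cfsg.Agent.Lib.Helper87.OTSP.Aniso
import Cfsg.Agent.Lib.Helper61.OTSP.Prim
import Cfsg.Agent.Lib.Helper67.OTSP.ZCnt
import Cfsg.Agent.Lib.Helper86.OTSP.PairC
import Cfsg.Agent.Lib.Helper40.OTSP.SpreadAsm
import Cfsg.Agent.Lib.Helper40.OTSP.SpN
import Cfsg.Agent.Lib.Helper34.OTSP.QS
import Cfsg.Agent.Lib.Helper34.OTSP.Type0
import Cfsg.Agent.Lib.Helper34.OTSP.Tr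
import Cfsg.Agent.Lib.Helper21.OTSP.Hyp
import Cfsg.Agent.Lib.Helper27.OTSP.EmbP
import Cfsg.Agent.Lib.Helper27.OTSP.EmbM

set_option autoImplicit false
open scoped MatrixGroups
open Cfsg

namespace Cfsg.Agent.S5973

/-- Elements of prime order of PΩ⁺_n(q), n = 2d ≥ 8, with no fixed totally singular `m`-space, `m < n/2`. Here `T = PΩ⁺_n(q)` is realised through `Ω⁺_n(q)`, the commutator subgroup of the isometry group of the quadratic form `Σ xᵢyᵢ` over the field `F` with `q` elements; an element of `T` of prime order `r` is an element `x` of `Ω⁺_n(q)` with `x^r` scalar and `x` not scalar. Let `1 ≤ m < d` and let `r` be a prime dividing the number of totally singular `m`-spaces. For `r ≠ p` let `i` be the multiplicative order of `q` modulo `r`, `c = i` for `i` even and `c = 2i` for `i` odd, and write `k = n mod c`, `ℓ = m mod i`, `n' = ⌊n/i⌋`, `m'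 = ⌊m/i⌋`, `t = (r−1)/i`. Then every element of `T` of order `r` fixes some totally singular `m`-space if and only if one of: (i) `r = 2 ≠ p` and either `q ≡ 1 (mod 4)`, or `q ≡ 3 (mod 4)`, `m ≤ n/2 − 2` and (`m` even or `n ≡ 2 (mod 4)`); (ii) `r ≠ p` odd, `i` odd, `i ≤ m` and `k ≥ 2ℓ`; (iii) `r ≠ p` odd, `i` even, `i ≤ m`, `n' − 2m' ≥ t`, and one of: `i ≥ 2ℓ`, `k = 0`, `n/i` odd and `n' − 2m' > t`; or `k ≥ 2ℓ` and `n'` even; or `k > 2ℓ` and `n'` odd. -/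
theorem result {F : Type*} [Field F] [Fintype F] {p : ℕ} [Fact p.Prime] [CharP F p] {q : ℕ} (hq : Fintype.card F = q)
    (d m : ℕ) (hd : 4 ≤ d) (hm : 1 ≤ m) (hmd : m < d)
    (r : ℕ) [Fact r.Prime]
    (hrΩ : r ∣ Nat.card {W : Submodule F (Fin d ⊕ Fin d → F) // Module.finrank F ↥W = m ∧ (∀ w ∈ W, Cfsg.quadFormPlus d F w = 0)})
    (i c : ℕ) (hi : i = orderOf (q : ZMod r)) (hc : c = if Even i then i else 2 * i) :
    (∀ x : GL (Fin d ⊕ Fin d) F, x ∈ Cfsg.Geo.omegaGL (Cfsg.quadFormPlus d F) →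
      (∃ z : F, ((x ^ r : GL (Fin d ⊕ Fin d) F) : Matrix (Fin d ⊕ Fin d) (Fin d ⊕ Fin d) F) = z • (1 : Matrix (Fin d ⊕ Fin d) (Fin d ⊕ Fin d) F)) →
      (∀ z : F, (x : Matrix (Fin d ⊕ Fin d) (Fin d ⊕ Fin d) F) ≠ z • (1 : Matrix (Fin d ⊕ Fin d) (Fin d ⊕ Fin d) F)) →
      ∃ W : Submodule F (Fin d ⊕ Fin d → F), Module.finrank F ↥W = m ∧ (∀ w ∈ W, Cfsg.quadFormPlus d F w = 0) ∧
        W.map (Matrix.toLin' (x : Matrix (Fin d ⊕ Fin d) (Fin d ⊕ Fin d) F)) ≤ W) ↔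
    ((r = 2 ∧ p ≠ 2 ∧ (q % 4 = 1 ∨ (q % 4 = 3 ∧ m + 2 ≤ d ∧ (Even m ∨ (2 * d) % 4 = 2)))) ∨
     (r ≠ p ∧ 2 < r ∧ Odd i ∧ i ≤ m ∧ 2 * (m % i) ≤ (2 * d) % c) ∨
     (r ≠ p ∧ 2 < r ∧ Even i ∧ i ≤ m ∧ (r - 1) / i + 2 * (m / i) ≤ (2 * d) / i ∧
       ((2 * (m % i) ≤ i ∧ (2 * d) % c = 0 ∧ Odd ((2 * d) / i) ∧ (r - 1) / i + 2 * (m / i) < (2 * d) / i) ∨
        (2 * (m % i) ≤ (2 * d) % c ∧ Even ((2 * d) / i)) ∨
        (2 * (m % i) < (2 * d) % c ∧ Odd ((2 * d) / i))))) := by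
  -- Team project OTSP (coordinated by helper99): packages by helper37, 53, 21, 34, 94, 67, 87,
  -- 61, 86, 40, 27, 19, 16 (see the lib notes of topic S5973).
  have hSplit : Cfsg.Agent.Lib.Helper99.OTSP.PkgSplit := Cfsg.Agent.Lib.Helper34.OTSP.pkgSplit
  have hDimI : Cfsg.Agent.Lib.Helper99.OTSP.PkgDimI := Cfsg.Agent.Lib.Helper34.OTSP.pkgDimI
  have hSubI : Cfsg.Agent.Lib.Helper99.OTSP.PkgSubI := Cfsg.Agent.Lib.Helper34.OTSP.pkgSubI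
  have hTypeW : Cfsg.Agent.Lib.Helper99.OTSP.PkgTypeW := Cfsg.Agent.Lib.Helper67.OTSP.pkgTypeW
  have hTiTs : Cfsg.Agent.Lib.Helper99.OTSP.PkgTiTs :=
    Cfsg.Agent.Lib.Helper87.OTSP.pkgTiTs_of hSplit
  have hAniso : Cfsg.Agent.Lib.Helper99.OTSP.PkgAniso :=
    Cfsg.Agent.Lib.Helper87.OTSP.pkgAniso_of hSplit
  have hPrim : Cfsg.Agent.Lib.Helper99.OTSP.PkgPrim :=
    Cfsg.Agent.Lib.Helper61.OTSP.pkgPrim_of hDimI hSubI
  have hPairC : Cfsg.Agent.Lib.Helper99.OTSP.PkgPairC :=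
    Cfsg.Agent.Lib.Helper86.OTSP.pkgPairC_of hTypeW Cfsg.Agent.Lib.Helper67.OTSP.pkgZCnt hTiTs hDimI
  have hSpread : Cfsg.Agent.Lib.Helper99.OTSP.PkgSpread :=
    Cfsg.Agent.Lib.Helper40.OTSP.spread_of
      (Cfsg.Agent.Lib.Helper40.OTSP.pkgSpN_of Cfsg.Agent.Lib.Helper34.OTSP.pkgQS)
      Cfsg.Agent.Lib.Helper27.OTSP.pkgEmbP Cfsg.Agent.Lib.Helper27.OTSP.pkgEmbM
      (Cfsg.Agent.Lib.Helper34.OTSP.pkgType0_of hTypeW)
      Cfsg.Agent.Lib.Helper21.OTSP.pkgHyp Cfsg.Agent.Lib.Helper34.OTSP.pkgTr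
  exact Cfsg.Agent.Lib.Helper99.OTSP.s5973_of_rest2 hAniso hPrim hPairC hSpread
    hq d m hd hm hmd r hrΩ i c hi hc

end Cfsg.Agent.S5973
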