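import Cfsg.Statements.S5978
import Cfsg.Agent.Lib.Helper74.OFM.Asm
import Cfsg.Agent.Lib.Helper74.OFM.Struct
import Cfsg.Agent.Lib.Helper37.OFM.ZPM
import Cfsg.Agent.Lib.Helper92.OFM.Peel
import Cfsg.Agent.Lib.Helper92.OFM.Conj
import Cfsg.Agent.Lib.Helper76.OFM.TwistP
import Cfsg.Agent.Lib.Helper82.OFM.TwistM
import Cfsg.Agent.Lib.Helper88.OFM.Spin
import Cfsg.Agent.Lib.Helper76.OFM.Mod4
import Cfsg.Agent.Lib.Helper76.OFM.DerP
import Cfsg.Agent.Lib.Helper27.OFM.DerC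
import Cfsg.Agent.Lib.Helper89.OFM.NoIdx
import Cfsg.Agent.Lib.Helper89.OFM.MinusTS
import Cfsg.Agent.Lib.Helper74.OFM.Syl4Final

set_option autoImplicit false
open scoped MatrixGroups
open Cfsg

namespace Cfsg.Agent.S5978

/-- Elements of prime order of PΩ⁻_n(q), q odd, and the field-extension subgroups of degree 2 (orthogonal type over F_{q²}). Here `T = PΩ⁻_{2d}(F)` for a field `F` with `q` elements, `q` odd, `d ≥ 4`, realised through `Ω⁻_{2d}(q)`, the commutator subgroup of the isometry group of `Q = Σ_{i<d−1} xᵢyᵢ + z₁² + a z₁z₂ + b z₂²` with `z₁² + a z₁z₂ + b z₂²` anisotropic, with polar form `B`; `K` is a subalgebra of the `2d × 2d` matrices that is a field of degree 2 over `F` whose elements are self-adjoint for `B` (so `F^{2d}` becomes a `d`-dimensional space over `K ≅ F_{q²}` on which `B` is the trace of a `K`-bilinear symmetric form); `H` is the subgroup of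 `Ω⁻_{2d}(q)` normalizing `K` — the elements of `Ω⁻_{2d}(q)` that are `K`-linear or `K`-semilinear, a subgroup of orthogonal type over the quadratic extension (maximality is not assumed). Ω is the set of cosets of `H`, so an element of `T` of prime order `r` (`x ∈ Ω⁻_{2d}(q)` with `x^r` scalar, `x` not scalar) fixes a point of Ω exactly when some `Ω⁻_{2d}(q)`-conjugate of `x` normalizes `K`. Let `r` be a prime dividing the index of `H`. Then every element of `T` of order `r` fixes a point of Ω if and only if `r = 2`. -/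
theorem result {F : Type*} [Field F] [Fintype F] {p : ℕ} [Fact p.Prime] [CharP F p] {q : ℕ} (hq : Fintype.card F = q)
    (hodd : Odd q) (d : ℕ) (hd : 4 ≤ d) (a b : F) (hab : ∀ x y : F, x ^ 2 + a * x * y + b * y ^ 2 = 0 → x = 0 ∧ y = 0)
    (K : Subalgebra F (Matrix ((Fin (d - 1) ⊕ Fin (d - 1)) ⊕ Fin 2) ((Fin (d - 1) ⊕ Fin (d - 1)) ⊕ Fin 2) F)) (hK : Cfsg.Geo.IsFieldSubalgebra 2 K)
    (hKf : Cfsg.Geo.IsSelfAdjointFor (QuadraticMap.polar (Cfsg.quadFormMinus (d - 1) F a b)) K)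
    (r : ℕ) [Fact r.Prime]
    (hΩ : r ∣ (Cfsg.Geo.subalgebraNormalizer K).relIndex (Cfsg.Geo.omegaGL (Cfsg.quadFormMinus (d - 1) F a b))) :
    (∀ x ∈ Cfsg.Geo.omegaGL (Cfsg.quadFormMinus (d - 1) F a b), (∃ z : F, ((x ^ r : GL ((Fin (d - 1) ⊕ Fin (d - 1)) ⊕ Fin 2) F) : Matrix ((Fin (d - 1) ⊕ Fin (d - 1)) ⊕ Fin 2) ((Fin (d - 1) ⊕ Fin (d - 1)) ⊕ Fin 2) F) = z • (1 : Matrix ((Fin (d - 1) ⊕ Fin (d - 1)) ⊕ Fin 2) ((Fin (d - 1) ⊕ Fin (d - 1)) ⊕ Fin 2) F)) →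
      (∀ z : F, (x : Matrix ((Fin (d - 1) ⊕ Fin (d - 1)) ⊕ Fin 2) ((Fin (d - 1) ⊕ Fin (d - 1)) ⊕ Fin 2) F) ≠ z • (1 : Matrix ((Fin (d - 1) ⊕ Fin (d - 1)) ⊕ Fin 2) ((Fin (d - 1) ⊕ Fin (d - 1)) ⊕ Fin 2) F)) →
      ∃ g ∈ Cfsg.Geo.omegaGL (Cfsg.quadFormMinus (d - 1) F a b), g⁻¹ * x * g ∈ Cfsg.Geo.subalgebraNormalizer K) ↔ r = 2 := by
  exact Cfsg.Agent.Lib.Helper74.OFM.s5978_of Cfsg.Agent.Lib.Helper74.OFM.pkgStruct
    Cfsg.Agent.Lib.Helper74.OFM.pkgNorm Cfsg.Agent.Lib.Helper37.OFM.pkgZPM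
    (Cfsg.Agent.Lib.Helper92.OFM.pkgConj Cfsg.Agent.Lib.Helper92.OFM.pkgPeel)
    Cfsg.Agent.Lib.Helper76.OFM.pkgTwistP Cfsg.Agent.Lib.Helper82.OFM.pkgTwistM
    Cfsg.Agent.Lib.Helper88.OFM.pkgSpin Cfsg.Agent.Lib.Helper76.OFM.pkgMod4
    Cfsg.Agent.Lib.Helper76.OFM.pkgDerP Cfsg.Agent.Lib.Helper27.OFM.pkgDerC
    (Cfsg.Agent.Lib.Helper89.OFM.pkgNoIdx Cfsg.Agent.Lib.Helper74.OFM.pkgNorm
      Cfsg.Agent.Lib.Helper74.OFM.pkgSyl4_final)
    Cfsg.Agent.Lib.Helper89.OFM.pkgMinusTS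
    hq hodd d hd a b hab K hK hKf r hΩ

end Cfsg.Agent.S5978
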