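import Cfsg.Statements.S5984
import Cfsg.Agent.Lib.Helper58.UPair.Main
import Cfsg.Agent.Lib.Helper20.UPair.IdxDvd
import Cfsg.Agent.Lib.Helper20.UPair.DetFix
import Cfsg.Agent.Lib.Helper3.UPair.FixRank
import Cfsg.Agent.Lib.Helper82.UPair.BlockEmb
import Cfsg.Agent.Lib.Helper27.UPair.Hyp
import Cfsg.Agent.Lib.Helper74.UPair.D1
import Cfsg.Agent.Lib.Helper24.UPair.NonSc
import Cfsg.Agent.Lib.Helper24.UPair.SwapRank
import Cfsg.Agent.Lib.Helper25.UPair.Perm
import Cfsg.Agent.Lib.Helper27.UPair.DualB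
import Cfsg.Agent.Lib.Helper34.UPair.Odd
import Cfsg.Agent.Lib.Helper47.UPair.D2
import Cfsg.Agent.Lib.Helper59.UPair.Move
import Cfsg.Agent.Lib.Helper59.UPair.TSDim
import Cfsg.Agent.Lib.Helper6.UPair.CardK
import Cfsg.Agent.Lib.Helper6.UPair.ZDich
import Cfsg.Agent.Lib.Helper61.UPair.GUDet
import Cfsg.Agent.Lib.Helper61.UPair.ScalNorm
import Cfsg.Agent.Lib.Helper61.UPair.SemiCore
import Cfsg.Agent.Lib.Helper63.UPair.D1Det
import Cfsg.Agent.Lib.Helper63.UPair.Transv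
import Cfsg.Agent.Lib.Helper65.UPair.IsoB
import Cfsg.Agent.Lib.Helper72.UPair.Emb
import Cfsg.Agent.Lib.Helper86.UPair.IdxArith
import Cfsg.Agent.Lib.Helper86.UPair.SemiArith
import Cfsg.Agent.Lib.Helper92.UPair.InvEx
import Cfsg.Agent.Lib.Helper92.UPair.SemiA

set_option autoImplicit false
open scoped MatrixGroups
open Cfsg

namespace Cfsg.Agent.S5984

/-- Elements of prime order of PSU_n(q) and the stabilizers of pairs of complementary totally singular subspaces. Here `T = PSU_n(q)` is realised through `SU_n(q)`, the matrices of determinant 1 over the field `F` with `q²` elements preserving the hermitian form `Σ uᵢ vᵢ^q`, with `n ≥ 4` even; `D` is a pair of complementary subspaces of dimension `n/2` on each of which the form vanishes identically, and `H` is the subgroup of `SU_n(q)` fixing or interchanging the two members — a subgroup of type GL_{n/2}(q²).2 (maximality is not assumed). Ω is the set of cosets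 of `H`, so an element of `T` of prime order `r` (`x ∈ SU_n(q)` with `x^r` scalar, `x` not scalar) fixes a point of Ω exactly when some `SU_n(q)`-conjugate of `x` lies in `H`. Let `r` be a prime dividing the index of `H`. Then every element of `T` of order `r` fixes a point of Ω if and only if `r = 2`, `q` is odd and `(q + 1)_2 ≤ (n)_2` (2-parts). -/
theorem result {F : Type*} [Field F] [Fintype F] {p : ℕ} [Fact p.Prime] [CharP F p] {q : ℕ} (hq : Fintype.card F = q ^ 2)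
    (n : ℕ) (hn : 4 ≤ n) (he : Even n) (D : Fin 2 → Submodule F (Fin n → F)) (hD : Cfsg.Geo.IsMDecomposition (n / 2) D)
    (hDs : ∀ i, Cfsg.Geo.IsTotallySingularFor (Cfsg.hermForm n F q) (D i))
    (r : ℕ) [Fact r.Prime]
    (hΩ : r ∣ (Cfsg.Geo.decompositionStabilizer D).relIndex (Cfsg.GU n F q ⊓ Cfsg.Geo.specialLinear (Fin n) F)) :
    (∀ x ∈ Cfsg.GU n F q ⊓ Cfsg.Geo.specialLinear (Fin n) F, (∃ z : F, ((x ^ r : GL (Fin n) F) : Matrix (Fin n) (Fin n) F) = z • (1 : Matrix (Fin n) (Fin n) F)) →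
      (∀ z : F, (x : Matrix (Fin n) (Fin n) F) ≠ z • (1 : Matrix (Fin n) (Fin n) F)) →
      ∃ g ∈ Cfsg.GU n F q ⊓ Cfsg.Geo.specialLinear (Fin n) F, g⁻¹ * x * g ∈ Cfsg.Geo.decompositionStabilizer D) ↔
    (r = 2 ∧ Odd q ∧ padicValNat 2 (q + 1) ≤ padicValNat 2 n) := by
  exact Cfsg.Agent.Lib.Helper58.UPair.main5984
    Cfsg.Agent.Lib.Helper25.UPair.pkgPerm
    Cfsg.Agent.Lib.Helper34.UPair.pkgOdd
    Cfsg.Agent.Lib.Helper24.UPair.pkgSwapRank
    Cfsg.Agent.Lib.Helper25.UPair.pkgConj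
    Cfsg.Agent.Lib.Helper25.UPair.pkgConjIn
    Cfsg.Agent.Lib.Helper24.UPair.pkgNonScalar
    Cfsg.Agent.Lib.Helper59.UPair.pkgMove
    Cfsg.Agent.Lib.Helper61.UPair.pkgGUDet
    Cfsg.Agent.Lib.Helper61.UPair.pkgScalNorm
    Cfsg.Agent.Lib.Helper27.UPair.pkgDualBasis
    Cfsg.Agent.Lib.Helper65.UPair.pkgIsoB
    Cfsg.Agent.Lib.Helper20.UPair.pkgDetFix
    Cfsg.Agent.Lib.Helper3.UPair.pkgFixRank
    (Cfsg.Agent.Lib.Helper20.UPair.pkgIdxDvd_of Cfsg.Agent.Lib.Helper27.UPair.pkgDualBasis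
      Cfsg.Agent.Lib.Helper72.UPair.pkgEmb Cfsg.Agent.Lib.Helper6.UPair.pkgCardK)
    Cfsg.Agent.Lib.Helper86.UPair.pkgIdxArith
    Cfsg.Agent.Lib.Helper63.UPair.pkgTransv
    Cfsg.Agent.Lib.Helper92.UPair.pkgSemiA
    Cfsg.Agent.Lib.Helper86.UPair.pkgSemiArith
    Cfsg.Agent.Lib.Helper61.UPair.pkgSemiCore
    Cfsg.Agent.Lib.Helper82.UPair.pkgBlockEmb
    Cfsg.Agent.Lib.Helper92.UPair.pkgInvEx
    Cfsg.Agent.Lib.Helper6.UPair.pkgZDich
    Cfsg.Agent.Lib.Helper63.UPair.pkgD1Det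
    (Cfsg.Agent.Lib.Helper74.UPair.pkgD1_of Cfsg.Agent.Lib.Helper27.UPair.pkgHyp)
    (Cfsg.Agent.Lib.Helper47.UPair.pkgD2_of Cfsg.Agent.Lib.Helper59.UPair.pkgTSDim)
    hq n hn he D hD hDs r hΩ

end Cfsg.Agent.S5984
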